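import Groth.Statements.S0340
import Groth.Agent.Localalg.InjDim

set_option autoImplicit false
universe u v
open CategoryTheory
open Goren

namespace Groth.Agent.S0340

/-- Stacks Tag 0BJI: a Noetherian local ring is Gorenstein exactly when Ext^i(κ, A) vanishes for all large i. -/
theorem result (A : Type u) [CommRing A] [IsLocalRing A] [IsNoetherianRing A] : LocCoh.IsGorensteinLocalRing A ↔ ∃ N : ℕ, ∀ i : ℕ, N ≤ i → Subsingleton (Abelian.Ext (ModuleCat.of A (IsLocalRing.ResidueField A)) (ModuleCat.of A A) i) := by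
  constructor
  · rintro ⟨⟨n, hn⟩⟩
    exact ⟨n, fun i hi ↦ HasInjectiveDimensionLT.subsingleton _ n i hi _⟩
  · rintro ⟨N, hN⟩
    exact ⟨⟨N, Groth.Agent.Localalg.InjDim.hasInjectiveDimensionLT_of_ext_quotient_maximalIdeal
      (ModuleCat.of A A) N hN⟩⟩

end Groth.Agent.S0340
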