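import Groth.Statements.S0343
import Groth.Agent.Localalg.ReesLemma
import Groth.Agent.S0340

set_option autoImplicit false
universe u v
open Goren

namespace Groth.Agent.S0343

/-- Stacks Tag 0BJJ: for a Noetherian local ring A and a non-zero-divisor f in the maximal ideal, A is Gorenstein exactly when A/(f) is. -/
theorem result (A : Type u) [CommRing A] [IsLocalRing A] [IsNoetherianRing A] (f : A) (hf : f ∈ IsLocalRing.maximalIdeal A) (hreg : IsSMulRegular A f) : LocCoh.IsGorensteinLocalRing A ↔ LocCoh.IsGorensteinLocalRing (A ⧸ Ideal.span {f}) := by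
  have hne : Ideal.span {f} ≠ ⊤ := by
    rw [Ne, Ideal.span_singleton_eq_top]
    exact (IsLocalRing.mem_maximalIdeal f).1 hf
  have : Nontrivial (A ⧸ Ideal.span {f}) := Ideal.Quotient.nontrivial_iff.2 hne
  have : IsLocalRing (A ⧸ Ideal.span {f}) :=
    IsLocalRing.of_surjective' (Ideal.Quotient.mk (Ideal.span {f})) Ideal.Quotient.mk_surjective
  rw [Groth.Agent.S0340.result, Groth.Agent.S0340.result]
  constructor
  · rintro ⟨N, hN⟩
    exact ⟨N, fun i hi ↦
      (Groth.Agent.Localalg.ReesLemma.subsingleton_ext_residueField_quotient_iff f hreg i).2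
        (hN (i + 1) (by omega))⟩
  · rintro ⟨N, hN⟩
    refine ⟨N + 1, fun i hi ↦ ?_⟩
    obtain ⟨i, rfl⟩ := Nat.exists_eq_add_of_le' (show 1 ≤ i by omega)
    exact (Groth.Agent.Localalg.ReesLemma.subsingleton_ext_residueField_quotient_iff f hreg i).1
      (hN i (by omega))

end Groth.Agent.S0343
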