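import Groth.Statements.S0341
import Groth.Agent.S0343
import Groth.Agent.Localalg.GorDepth
import Groth.Agent.Ega4A.CMModule
import Mathlib.RingTheory.KrullDimension.LocalRing
import Groth.Agent.CalgA.RegBasic

set_option autoImplicit false
universe u v
open Goren

namespace Groth.Agent.S0341

open scoped Pointwise in
theorem aux (n : ℕ) : ∀ (A : Type u) [CommRing A] [LocCoh.IsGorensteinLocalRing A],
    ringKrullDim A = n → LocCoh.IsCohenMacaulayLocalRing A := by
  induction n with
  | zero =>
    intro A _ _ hd
    refine { supportDim_eq_depth := ?_ }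
    have h1 := Ega4A.CMModule.depth_le_supportDim (R := A) (M := A)
    rw [Module.supportDim_self_eq_ringKrullDim, hd] at h1 ⊢
    exact le_antisymm (by simp) h1
  | succ n ih =>
    intro A _ _ hd
    obtain ⟨x, hx, hreg⟩ := Localalg.GorDepth.exists_isSMulRegular (A := A) (by
      intro h
      have h1 := (Ring.krullDimLE_iff (n := 0) (R := A)).1 h
      rw [hd] at h1
      norm_cast at h1)
    have h1 : LocCoh.IsGorensteinLocalRing (A ⧸ Ideal.span {x}) :=
      (Groth.Agent.S0343.result A x hx hreg).1 inferInstance
    have h2 : ringKrullDim (A ⧸ Ideal.span {x}) = n := by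
      have h3 := ringKrullDim_quotient_span_singleton_succ_eq_ringKrullDim hreg hx
      rw [hd] at h3
      push_cast at h3
      exact ENat.WithBot.add_one_cancel.1 h3
    have h3 := ih _ h2
    have h4 : LocCoh.IsCohenMacaulayModule A (QuotSMulTop x A) := by
      let e : QuotSMulTop x A ≃ₗ[A] (A ⧸ Ideal.span {x}) :=
        Submodule.quotEquivOfEq (x • (⊤ : Submodule A A)) (Ideal.span {x}) (by
          rw [← Submodule.ideal_span_singleton_smul, smul_eq_mul, Ideal.mul_top])
      exact (Ega4A.CMModule.isCohenMacaulayModule_iff_of_surjective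
        (Ideal.Quotient.mk (Ideal.span {x})) e.toAddEquiv
        (fun b m ↦ map_smul e b m) Ideal.Quotient.mk_surjective).1 h3.supportDim_eq_depth
    exact { supportDim_eq_depth :=
      (Ega4A.CMModule.isCohenMacaulayModule_quotSMulTop_iff hx hreg).1 h4 }

/-- Stacks Tag 0DW8: a Gorenstein local ring is Cohen–Macaulay. -/
theorem result (A : Type u) [CommRing A] [LocCoh.IsGorensteinLocalRing A] : LocCoh.IsCohenMacaulayLocalRing A := by
  obtain ⟨d, hd⟩ := Groth.Agent.CalgA.RegBasic.ringKrullDim_eq_natCast A
  exact aux d A hd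

end Groth.Agent.S0341
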