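import Groth.Statements.S0310
import Mathlib.LinearAlgebra.FreeModule.Finite.Basic
import Mathlib.LinearAlgebra.Dimension.Constructions
import Mathlib.LinearAlgebra.FiniteDimensional.Basic

set_option autoImplicit false
universe u v
open Matlis

namespace Groth.Agent.S0310

/-- Stacks Tag 08Z3: over a local ring, a module killed elementwise by powers of the maximal ideal and whose socle has finite dimension n over the residue field embeds into the n-fold sum of an injective hull of the residue field. -/
theorem result (R : Type u) [CommRing R] [IsLocalRing R] (E : Type u) [AddCommGroup E] [Module R E] (f : IsLocalRing.ResidueField R →ₗ[R] E) (hf : InjHull.IsInjectiveHull f) (M : Type u) [AddCommGroup M] [Module R M] (hM : LocCoh.IsPowerTorsion (IsLocalRing.maximalIdeal R) M) (n : ℕ) [Module.Finite (R ⧸ IsLocalRing.maximalIdeal R) ↥(LocCoh.torsionBy (IsLocalRing.maximalIdeal R) M)] (hn : Module.finrank (R ⧸ IsLocalRing.maximalIdeal R) ↥(LocCoh.torsionBy (IsLocalRing.maximalIdeal R) M) = n) : ∃ g : M →ₗ[R] (Fin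 n → E), Function.Injective g := by
  classical
  set m := IsLocalRing.maximalIdeal R with hm
  let _ : Field (R ⧸ m) := Ideal.Quotient.field m
  let b := Module.finBasisOfFinrankEq (R ⧸ m) (LocCoh.torsionBy m M) hn
  let e : LocCoh.torsionBy m M →ₗ[R] (Fin n → (R ⧸ m)) := b.equivFun.toLinearMap.restrictScalars R
  let F : (Fin n → (R ⧸ m)) →ₗ[R] (Fin n → E) := LinearMap.pi fun i => f ∘ₗ LinearMap.proj i
  have hF : Function.Injective F := by
    intro x y hxy
    ext i
    exact hf.injective (congrFun hxy i)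
  have hE := hf.isInjective
  have hEn : Module.Injective R (Fin n → E) := inferInstance
  obtain ⟨g, hg⟩ := hEn.out (LocCoh.torsionBy m M).subtype Subtype.val_injective (F ∘ₗ e)
  refine ⟨g, ?_⟩
  have hinj : ∀ x ∈ LocCoh.torsionBy m M, g x = 0 → x = 0 := by
    intro x hx hgx
    have h1 : F (e ⟨x, hx⟩) = 0 := (hg ⟨x, hx⟩).symm.trans hgx
    have h2 : e ⟨x, hx⟩ = 0 := hF (h1.trans (map_zero F).symm)
    have h3 : (⟨x, hx⟩ : LocCoh.torsionBy m M) = 0 := b.equivFun.injective (h2.trans (map_zero _).symm)
    exact congrArg Subtype.val h3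
  rw [injective_iff_map_eq_zero]
  intro x hx
  by_contra hx0
  have hex := hM x
  let k := Nat.find hex
  have hk : ∀ a ∈ m ^ k, a • x = 0 := Nat.find_spec hex
  have hk0 : k ≠ 0 := by
    intro h
    rw [h] at hk
    exact hx0 (by simpa using hk 1 (by simp))
  obtain ⟨l, hl⟩ := Nat.exists_eq_succ_of_ne_zero hk0
  have h4 : ¬ ∀ a ∈ m ^ l, a • x = 0 := Nat.find_min hex (by rw [Nat.lt_iff_add_one_le]; exact hl.ge)
  push Not at h4
  obtain ⟨a, ha, hax⟩ := h4
  refine hax (hinj _ ?_ (by rw [map_smul, hx, smul_zero]))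
  rw [Submodule.mem_torsionBySet_iff]
  rintro ⟨c, hc⟩
  change c • a • x = 0
  rw [← mul_smul]
  refine hk _ ?_
  rw [hl, pow_succ']
  exact Ideal.mul_mem_mul hc ha

end Groth.Agent.S0310
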