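import Groth.Statements.S0342
import Groth.Agent.S0343
import Groth.Agent.CalgA.RegBasic

set_option autoImplicit false
universe u v
open Goren

namespace Groth.Agent.S0342

open CategoryTheory

/-- A Noetherian local ring with zero maximal ideal is Gorenstein. -/
lemma gorenstein_of_maximalIdeal_eq_bot (A : Type u) [CommRing A] [IsLocalRing A]
    [IsNoetherianRing A] (h : IsLocalRing.maximalIdeal A = ⊥) : LocCoh.IsGorensteinLocalRing A := by
  have hA : IsField A := IsLocalRing.isField_iff_maximalIdeal_eq.2 h
  refine ⟨⟨1, ?_⟩⟩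
  rw [← injective_iff_hasInjectiveDimensionLT_one, ← Module.injective_iff_injective_object A A,
    ← Module.Baer.iff_injective]
  let _ := hA.toField
  intro I g
  rcases Ideal.eq_bot_or_top I with rfl | rfl
  · refine ⟨0, fun x hx ↦ ?_⟩
    have : (⟨x, hx⟩ : (⊥ : Ideal A)) = 0 := Subtype.ext (by simpa using hx)
    rw [this, map_zero, LinearMap.zero_apply]
  · exact ⟨g ∘ₗ (Submodule.topEquiv (R := A) (M := A)).symm.toLinearMap, fun x hx ↦ rfl⟩

theorem aux (n : ℕ) : ∀ (A : Type u) [CommRing A] [IsRegularLocalRing A],
    ringKrullDim A = n → LocCoh.IsGorensteinLocalRing A := by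
  induction n with
  | zero =>
    intro A _ _ hd
    apply gorenstein_of_maximalIdeal_eq_bot
    have h1 := IsRegularLocalRing.spanFinrank_maximalIdeal (R := A)
    rw [hd] at h1
    have h2 : (IsLocalRing.maximalIdeal A).spanFinrank = 0 := by exact_mod_cast h1
    exact (Submodule.spanFinrank_eq_zero_iff_eq_bot
      (IsLocalRing.maximalIdeal A).fg_of_isNoetherianRing).1 h2
  | succ n ih =>
    intro A _ _ hd
    have hne : IsLocalRing.maximalIdeal A ≠ ⊥ := by
      intro h
      have h1 := IsRegularLocalRing.spanFinrank_maximalIdeal (R := A)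
      rw [h, hd] at h1
      simp at h1
      norm_cast at h1
    obtain ⟨x, hx, hx2, -⟩ := CalgA.RegBasic.exists_notMem_sq_notMem_minimalPrimes (R := A)
      ∅ Set.finite_empty (by simp) (by simp) hne
    obtain ⟨h3, h4⟩ := CalgA.RegBasic.quotient_of_notMem_sq x hx hx2
    have := CalgA.RegBasic.isDomain A
    have hreg : IsSMulRegular A x := by
      have hx0 : x ≠ 0 := fun h ↦ hx2 (h ▸ Ideal.zero_mem _)
      intro a b hab
      exact mul_left_cancel₀ hx0 hab
    rw [Groth.Agent.S0343.result A x hx hreg]
    apply ih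
    rw [hd] at h4
    push_cast at h4
    exact ENat.WithBot.add_one_cancel.1 h4

/-- Stacks Tag 0AWX: regular local rings have finite injective dimension over themselves, i.e. are Gorenstein. -/
theorem result (A : Type u) [CommRing A] [IsRegularLocalRing A] : LocCoh.IsGorensteinLocalRing A := by
  obtain ⟨d, hd⟩ := CalgA.RegBasic.ringKrullDim_eq_natCast A
  exact aux d A hd

end Groth.Agent.S0342
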