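import Groth.Statements.S1664
import Groth.Agent.VarietyB.GenLocusTensor

set_option autoImplicit false
universe u
open CategoryTheory CategoryTheory.Limits AlgebraicGeometry
open Variety

namespace Groth.Agent.S1664

/-- Stacks Tag 09NC: let X be quasi-compact. Suppose every point of X lies in the locus where some global section s of some globally generated invertible module L generates L, with that locus affine. Then X has an ample invertible module. -/
theorem result (X : Scheme.{u}) [CompactSpace X]
    (h : ∀ x : X, ∃ (L : X.Modules) (s : Coh.structureModule X ⟶ L), PicF.IsInvertible L ∧ Curv2.IsGloballyGenerated L ∧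
      x ∈ CohB1.genLocus L s ∧ IsAffineOpen (CohB1.genLocus L s)) :
    ∃ M : X.Modules, CohB1.IsAmple M := by
  choose L s hL hg hx ha using h
  obtain ⟨t, ht⟩ := isCompact_univ.elim_finite_subcover (fun x => (CohB1.genLocus (L x) (s x) : Set X))
    (fun x => (CohB1.genLocus (L x) (s x)).isOpen) (fun x _ => Set.mem_iUnion.mpr ⟨x, hx x⟩)
  let e := t.equivFin.symm
  obtain ⟨M, hM, hs⟩ := Groth.Agent.VarietyB.GenLocusTensor.exists_tensor t.card (fun i => L (e i)) (fun i => hL _)
  refine ⟨M, hM, inferInstance, fun x => ?_⟩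
  obtain ⟨y, hy, hxy⟩ : ∃ y ∈ t, x ∈ CohB1.genLocus (L y) (s y) := by
    have := ht (Set.mem_univ x)
    simpa using this
  obtain ⟨i, hi⟩ := e.surjective ⟨y, hy⟩
  have key : ∀ j, ∃ r : Coh.structureModule X ⟶ L (e j), x ∈ CohB1.genLocus (L (e j)) r ∧
      (j = i → IsAffineOpen (CohB1.genLocus (L (e j)) r)) := by
    intro j
    by_cases hj : j = i
    · subst hj
      refine ⟨s (e j), ?_, fun _ => ha _⟩
      rw [hi]; exact hxy
    · obtain ⟨r, hr⟩ := Groth.Agent.VarietyB.GenLocusTensor.exists_mem_genLocus (hL (e j)) (hg (e j)) x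
      exact ⟨r, hr, fun h => absurd h hj⟩
  choose r hr hr' using key
  obtain ⟨q, hq⟩ := hs r
  have hgl : CohB1.genLocus _ (Groth.Agent.VarietyB.GenLocusTensor.tmulHom (𝟙 (Coh.structureModule X)) q) =
      ⨅ i, CohB1.genLocus (L (e i)) (r i) := by
    rw [Groth.Agent.VarietyB.GenLocusTensor.genLocus_tmulHom
      Groth.Agent.Fdesc.LocGen.isInvertible_structureModule hM,
      Groth.Agent.VarietyB.GenLocusTensor.genLocus_id, top_inf_eq, hq]
  refine ⟨0, Groth.Agent.VarietyB.GenLocusTensor.tmulHom (𝟙 (Coh.structureModule X)) q,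
    hgl.ge (Groth.Agent.VarietyB.GenLocusTensor.mem_iInf_fin _ hr), ?_⟩
  have h2 := Groth.Agent.VarietyB.GenLocusTensor.isAffineOpen_inf_iInf (fun i => L (e i)) (fun i => hL _) r
      (hr' i rfl)
  rw [inf_eq_right.mpr (iInf_le _ i), ← hgl] at h2
  exact h2

end Groth.Agent.S1664
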