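import Groth.Statements.S1551
import Groth.Agent.S1664
import Groth.Agent.VarietyA.Dim1Pole
import Groth.Agent.VarietyA.Glue2
import Groth.Agent.VarietyA.Dim1GlobGen

set_option autoImplicit false
universe u
open CategoryTheory CategoryTheory.Limits AlgebraicGeometry
open Variety

namespace Groth.Agent.S1551

open Groth.Agent.Fdesc.LocGen TopologicalSpace

/-- From pole data to an invertible module generated by two global sections. -/
theorem exists_module {X : Scheme.{u}} (U V : X.Opens) (hUV : U ⊔ V = ⊤) (a : Γ(X, U)) (h : Γ(X, V))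
    (hah : ores (show U ⊓ V ≤ U from inf_le_left) a * ores (show U ⊓ V ≤ V from inf_le_right) h = 1)
    (hhU : X.basicOpen h ≤ U) :
    ∃ (L : X.Modules) (s : Coh.structureModule X ⟶ L), PicF.IsInvertible L ∧
      Curv2.IsGloballyGenerated L ∧ CohB1.genLocus L s = U := by
  obtain ⟨L, eU, eV, hL, hU, hV, hg⟩ := VarietyA.Glue2.exists_glued_two U V hUV
    (ores (show U ⊓ V ≤ V from inf_le_right) h) (IsUnit.of_mul_eq_one _ (by rw [mul_comm]; exact hah))
  have hU' : IsGen eU := hU
  have hV' : IsGen eV := hV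
  have hg' : res L (show U ⊓ V ≤ U from inf_le_left) eU =
      ores (show U ⊓ V ≤ V from inf_le_right) h • res L (show U ⊓ V ≤ V from inf_le_right) eV := hg
  -- the two sections
  obtain ⟨m, hmU, hmV⟩ := VarietyA.Glue2.exists_msec_two L U V hUV eU (h • eV) (by
    change res L (show U ⊓ V ≤ U from inf_le_left) eU = res L (show U ⊓ V ≤ V from inf_le_right) (h • eV)
    rw [hg', res_smul])
  obtain ⟨n, hnU, hnV⟩ := VarietyA.Glue2.exists_msec_two L U V hUV (a • eU) eV (by
    change res L (show U ⊓ V ≤ U from inf_le_left) (a • eU) = res L (show U ⊓ V ≤ V from inf_le_right) eV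
    rw [res_smul, hg', smul_smul, hah, one_smul])
  have hmU' : res L le_top m = eU := hmU
  have hmV' : res L le_top m = h • eV := hmV
  have hnV' : res L le_top n = eV := hnV
  have hsU : sec (homOf m) U = eU := by rw [sec_homOf, hmU']
  have hsV : sec (homOf m) V = h • eV := by rw [sec_homOf, hmV']
  have htV : sec (homOf n) V = eV := by rw [sec_homOf, hnV']
  have hUle : U ≤ CohB1.genLocus L (homOf m) := by
    rw [le_genLocus_iff, hsU]
    exact hU'
  have hVle : V ≤ CohB1.genLocus L (homOf n) := by
    rw [le_genLocus_iff, htV]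
    exact hV'
  have hcov : ∀ x : X, x ∈ U ∨ x ∈ V := by
    intro x
    have : x ∈ U ⊔ V := by rw [hUV]; trivial
    exact this
  refine ⟨L, homOf m, hL, ?_, le_antisymm ?_ hUle⟩
  · refine VarietyA.Dim1GlobGen.isGloballyGenerated
      (fun i : ULift.{u} Bool => if i.down then homOf m else homOf n) fun x => ?_
    rcases hcov x with hx | hx
    · exact ⟨⟨true⟩, hUle hx⟩
    · exact ⟨⟨false⟩, hVle hx⟩
  · intro x hx
    rcases hcov x with hxU | hxV
    · exact hxU
    · apply hhU
      rw [← genLocus_inf_eq (homOf m) hV' hsV]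
      exact ⟨hx, hxV⟩

/-- Stacks Tag 09NZ: a Noetherian separated scheme of dimension one has an ample invertible module. -/
theorem result (X : Scheme.{u}) [IsNoetherian X] [X.IsSeparated]
    (hdim : topologicalKrullDim X = 1) : ∃ L : X.Modules, CohB1.IsAmple L := by
  refine Groth.Agent.S1664.result X fun x => ?_
  obtain ⟨U, hUa, hxU, hU⟩ := VarietyA.Dim1Top.exists_dense_affine x
  obtain ⟨V, hUV, a, h, hah, hhU⟩ := VarietyA.Dim1Pole.exists_pole_data hdim.le U hUa hU
  obtain ⟨L, s, hL, hgg, hs⟩ := exists_module U V hUV a h hah hhU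
  exact ⟨L, s, hL, hgg, by rw [hs]; exact hxU, by rw [hs]; exact hUa⟩

end Groth.Agent.S1551
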