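import Groth.Statements.S0998
import Groth.Agent.PerfA.HypQC
import Groth.Agent.PerfA.HypAffine

set_option autoImplicit false
universe u
open CategoryTheory CategoryTheory.Limits AlgebraicGeometry
attribute [local instance] HasDerivedCategory.standard
open Perf

namespace Groth.Agent.S0998

/-- Stacks Tag 08D5, part (1): let f : X ⟶ S be quasi-compact and quasi-separated and assume Rf_* exists on the unbounded derived category. If K ∈ D(O_X) has quasi-coherent cohomology sheaves, so does Rf_*K. -/
theorem result {X S : Scheme.{u}} (f : X ⟶ S) [QuasiCompact f] [QuasiSeparated f] [DCoh.HasRpush f]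
    (K : DCoh.D X) (hK : DCoh.IsQCohD K) : DCoh.IsQCohD ((DCoh.Rpush f).obj K) := by
  exact fun m => Groth.Agent.PerfA.HypQC.isQCoh_HD f
    (fun m U hU => Groth.Agent.PerfA.HypAffine.toHD_bijective K hK U hU m) hK m

end Groth.Agent.S0998
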