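import Groth.Statements.S1040
-- import your own Groth.Agent.* helpers here
import Groth.Agent.PerfB.QCohLocal
import Groth.Agent.PerfB.CoprodDerived
import Groth.Agent.PerfB.ModExactCoprod

set_option autoImplicit false
universe u
open CategoryTheory CategoryTheory.Limits AlgebraicGeometry
attribute [local instance] HasDerivedCategory.standard
open Perf

namespace Groth.Agent.S1040

/-- Stacks Tag 08DT: let X be a scheme and Kᵢ a family of objects of D(O_X) with quasi-coherent cohomology sheaves, indexed by a small type, whose direct sum exists in D(O_X). Then ∐ Kᵢ has quasi-coherent cohomology sheaves. -/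
theorem result (X : Scheme.{u}) {ι : Type u} (K : ι → DCoh.D X) (hK : ∀ i, DCoh.IsQCohD (K i)) [HasCoproduct K] :
    DCoh.IsQCohD (∐ K) := by
  intro n
  refine PerfB.QCohLocal.isQCoh_of_iso (PerfB.CoprodDerived.homologySigmaIso K n).symm ?_
  exact PerfB.QCohLocal.isQCoh_of_isColimit (Discrete.functor fun i => DCoh.HD (K i) n)
    (fun i => hK i.as n) _ (coproductIsCoproduct fun i => DCoh.HD (K i) n)

end Groth.Agent.S1040
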