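import Groth.Statements.S0997
import Groth.Agent.PerfA.TildeMain

set_option autoImplicit false
universe u
open CategoryTheory CategoryTheory.Limits AlgebraicGeometry
attribute [local instance] HasDerivedCategory.standard
open Perf

namespace Groth.Agent.S0997

/-- Stacks Tag 06Z0 (the equivalence D(A) ≃ D_QCoh(O_X) for X = Spec A): assuming the tilde functor M ↦ M~ is recorded as left exact, the induced functor D(A) ⥤ D(O_{Spec A}) is full and faithful, and an object of D(O_{Spec A}) has quasi-coherent cohomology sheaves if and only if it is in the essential image. -/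
theorem result (R : CommRingCat.{u}) [PreservesFiniteLimits (tilde.functor R)] :
    (DCoh.tildeD R).Full ∧ (DCoh.tildeD R).Faithful ∧
    ∀ K : DCoh.D (Spec (CommRingCat.of R)), DCoh.IsQCohD K ↔ ∃ M, Nonempty ((DCoh.tildeD R).obj M ≅ K) := by
  refine ⟨⟨fun {M N} f => ?_⟩, ⟨fun {M N} f g h => ?_⟩, fun K => ⟨fun hK => ?_, ?_⟩⟩
  · exact (Groth.Agent.PerfA.TildeMain.bijective_map R M N).2 f
  · exact (Groth.Agent.PerfA.TildeMain.bijective_map R M N).1 h
  · exact Groth.Agent.PerfA.TildeMain.exists_iso R K hK
  · rintro ⟨M, ⟨e⟩⟩ q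
    exact Groth.Agent.PerfA.QCohSerre.isQCoh_of_iso
      ((DerivedCategory.homologyFunctor _ q).mapIso e)
      (Groth.Agent.PerfA.TildeMain.isQCohD_map R M q)

end Groth.Agent.S0997
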