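import Groth.Statements.S0944
import Groth.Agent.S0933

set_option autoImplicit false
universe u
open CategoryTheory
attribute [local instance] HasDerivedCategory.standard
open DCoh

namespace Groth.Agent.S0944

open AlgebraicGeometry CategoryTheory.Limits in
/-- Stacks Tag 08C9, part (1) (schemes; part (2) is not proved in the source): for a strictly perfect complex E, any complex F and a morphism α : E -> F in the derived category D(O_X), every point has an open neighbourhood V such that the restriction of α to D(O_V) is induced by a morphism of complexes E|_V -> F|_V (compared through the canonical identification of restricting-then-localising with localising-then-restricting). Restriction on derived categories is defs2's restrictD, under its exactness binder. -/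
theorem result {X : Scheme.{u}} {E F : CochainComplex X.Modules ℤ}
    (hE : DCoh.IsStrictlyPerfect E) (α : DCoh.toD X E ⟶ DCoh.toD X F) (x : X) :
    ∃ V : X.Opens, x ∈ V ∧ ∀ [PreservesFiniteLimits (Scheme.Modules.restrictFunctor V.ι)],
      ∃ β : (DCoh.restrictCx V).obj E ⟶ (DCoh.restrictCx V).obj F,
        (DCoh.restrictD V.ι).map α =
          (Scheme.Modules.restrictFunctor V.ι).mapDerivedCategoryFactors.hom.app E ≫ DerivedCategory.Q.map β ≫
            (Scheme.Modules.restrictFunctor V.ι).mapDerivedCategoryFactors.inv.app F := by
  obtain ⟨a, b, hab⟩ := hE.1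
  obtain ⟨F', g, s, hs, rfl⟩ := DerivedCategory.left_fac α
  have hs' : QuasiIso s := (DerivedCategory.isIso_Q_map_iff_quasiIso _ s).1 hs
  obtain ⟨V, β, hx, ⟨h⟩⟩ := Groth.Agent.S0933.result g s hE a (fun j hj => hab j (Or.inl hj))
    (fun j _ => inferInstance) inferInstance x
  refine ⟨V, hx, ?_⟩
  intro _
  refine ⟨β, ?_⟩
  have h1 := DerivedCategory.Q_map_eq_of_homotopy _ h
  rw [Functor.map_comp] at h1
  have h2 := (Scheme.Modules.restrictFunctor V.ι).mapDerivedCategoryFactors.hom.naturality g
  have h3 := (Scheme.Modules.restrictFunctor V.ι).mapDerivedCategoryFactors.inv.naturality s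
  rw [Functor.map_comp, Functor.map_inv, IsIso.comp_inv_eq, Category.assoc, Category.assoc]
  erw [← h3]
  erw [reassoc_of% h1]
  erw [← reassoc_of% h2]
  rw [Iso.hom_inv_id_app]
  exact (Category.comp_id _).symm

end Groth.Agent.S0944
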