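import Groth.Statements.S2067
import Groth.Agent.CalgB.PsCoh

set_option autoImplicit false
universe u
open CategoryTheory
attribute [local instance] HasDerivedCategory.standard
open CAlg

namespace Groth.Agent.S2067

open CategoryTheory.Pretriangulated in
/-- Stacks Tag 064R: in a distinguished triangle `K → L → M` of `D(A)`, pseudo-coherence passes to the third vertex as follows: `K` `(m+1)` and `L` `m`
give `M` `m`; `K` `m` and `M` `m` give `L` `m`; `L` `(m+1)` and `M` `m` give `K` `(m+1)`. -/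
theorem result {A : Type u} [CommRing A] (T : Triangle (Dual.D A))
    (hT : T ∈ distinguishedTriangles) (m : ℤ) :
    (DRing.IsPseudoCoherent A (m + 1) T.obj₁ → DRing.IsPseudoCoherent A m T.obj₂ →
        DRing.IsPseudoCoherent A m T.obj₃) ∧
      (DRing.IsPseudoCoherent A m T.obj₁ → DRing.IsPseudoCoherent A m T.obj₃ →
        DRing.IsPseudoCoherent A m T.obj₂) ∧
      (DRing.IsPseudoCoherent A (m + 1) T.obj₂ → DRing.IsPseudoCoherent A m T.obj₃ →
        DRing.IsPseudoCoherent A (m + 1) T.obj₁) := by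
  exact ⟨fun h₁ h₂ => Groth.Agent.CalgB.PsCohGen.PC.obj₃ (Groth.Agent.CalgB.PsCoh.isProjClass_ffree A) hT rfl h₁ h₂,
    fun h₁ h₃ => Groth.Agent.CalgB.PsCohGen.PC.obj₂ (Groth.Agent.CalgB.PsCoh.isProjClass_ffree A) hT h₁ h₃,
    fun h₂ h₃ => Groth.Agent.CalgB.PsCohGen.PC.obj₁ (Groth.Agent.CalgB.PsCoh.isProjClass_ffree A) hT rfl h₂ h₃⟩

end Groth.Agent.S2067
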