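import Groth.Statements.S2066
import Groth.Agent.CalgB.PsCoh

set_option autoImplicit false
universe u
open CategoryTheory
attribute [local instance] HasDerivedCategory.standard
open CAlg

namespace Groth.Agent.S2066

/-- Stacks Tag 064U: an object `K` of `D(A)` is `m`-pseudo-coherent for every integer `m` if and only if it is isomorphic in `D(A)` to a bounded above complex of finite free
modules ((1) iff (2)), and also if and only if it is isomorphic to a bounded above complex of finite projective modules ((2) iff (3)). -/
theorem result {A : Type u} [CommRing A] (K : Dual.D A) :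
    ((∀ m : ℤ, DRing.IsPseudoCoherent A m K) ↔ DRing.IsPseudoCoherent' A K) ∧
      ((∀ m : ℤ, DRing.IsPseudoCoherent A m K) ↔ ∃ (E : DRing.Cx A) (b : ℤ), DRing.VanishesAbove E b ∧
        DRing.TermwiseFiniteProjective E ∧ Nonempty (DRing.toD E ≅ K)) := by
  constructor
  · exact Groth.Agent.CalgB.PsCohGen.forall_PC_iff (Groth.Agent.CalgB.PsCoh.isProjClass_ffree A) K
  · exact (forall_congr' fun m => Groth.Agent.CalgB.PsCoh.isPseudoCoherent_iff_fproj m K).trans
      (Groth.Agent.CalgB.PsCohGen.forall_PC_iff (Groth.Agent.CalgB.PsCoh.isProjClass_fproj A) K)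

end Groth.Agent.S2066
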