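import Groth.Statements.S2087
import Groth.Agent.PerfB.DescRing
import Mathlib.RingTheory.Flat.Localization

set_option autoImplicit false
universe u
open CategoryTheory
attribute [local instance] HasDerivedCategory.standard
open CAlg

namespace Groth.Agent.S2087

/-- Stacks Tag 066D (the `m`-pseudo-coherent case): `m`-pseudo-coherence of a complex of `R`-modules may be checked after base change to each `R_{f_i}` for
finitely many `f_i` generating the unit ideal (the base change is taken termwise on a chosen complex, which is the derived base change since `R → R_{f_i}`
is flat). -/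
theorem result {R : Type u} [CommRing R] {r : ℕ} (f : Fin r → R)
    (hf : Ideal.span (Set.range f) = ⊤) (K : DRing.Cx R) (m : ℤ)
    (hK : ∀ i, DRing.IsPseudoCoherent (Localization.Away (f i)) m
      (DRing.toD (((ModuleCat.extendScalars (algebraMap R (Localization.Away (f i)))).mapHomologicalComplex
        (ComplexShape.up ℤ)).obj K))) :
    DRing.IsPseudoCoherent R m (DRing.toD K) := by
  have hfl : ∀ i, (algebraMap R (Localization.Away (f i))).Flat := fun i => by
    rw [RingHom.flat_algebraMap_iff]
    exact IsLocalization.flat _ (Submonoid.powers (f i))
  have hex : ∀ i, Limits.PreservesFiniteLimits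
      (ModuleCat.extendScalars.{u, u, u} (algebraMap R (Localization.Away (f i)))) :=
    fun i => ModuleCat.preservesFiniteLimits_extendScalars_of_flat (hfl i)
  refine PerfB.DescRing.pc_descent_family (fun i => Localization.Away (f i))
    (fun i => algebraMap R (Localization.Away (f i))) hfl ?_ m _ fun i => ?_
  · intro p
    have h1 : ∃ i, f i ∉ p.asIdeal := by
      by_contra hcon
      push Not at hcon
      apply p.2.ne_top
      rw [eq_top_iff, ← hf, Ideal.span_le]
      rintro _ ⟨i, rfl⟩
      exact hcon i
    obtain ⟨i, hi⟩ := h1
    have h2 : p ∈ Set.range (PrimeSpectrum.comap (algebraMap R (Localization.Away (f i)))) := by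
      rw [PrimeSpectrum.localization_away_comap_range (Localization.Away (f i)) (f i)]
      exact hi
    obtain ⟨q, hq⟩ := h2
    exact ⟨i, q, hq⟩
  · exact PerfB.DescRing.pc_of_iso
      ((ModuleCat.extendScalars.{u, u, u} (algebraMap R (Localization.Away (f i)))).mapDerivedCategoryFactors.app K).symm
      (hK i)

end Groth.Agent.S2087
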