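import Groth.Statements.S1004
-- import your own Groth.Agent.* helpers here
import Groth.Agent.PerfA.TildeModel
import Groth.Agent.S2087

set_option autoImplicit false
universe u
open CategoryTheory CategoryTheory.Limits AlgebraicGeometry
attribute [local instance] HasDerivedCategory.standard
open Perf

namespace Groth.Agent.S1004

open Groth.Agent.PerfA Groth.Agent.PerfA.TildeModel Groth.Agent.PerfA.Restrict
  Groth.Agent.PerfA.PerfLocal

/-- The image of a bounded complex of finite free modules is strictly perfect. -/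
lemma isStrictlyPerfect_tildeCx (R : CommRingCat.{u}) (E : CochainComplex (ModuleCat.{u} R) ℤ)
    (a b : ℤ) (h1 : ∀ i : ℤ, i < a ∨ b < i → IsZero (E.X i))
    (h2 : ∀ i : ℤ, Module.Finite R (E.X i) ∧ Module.Free R (E.X i)) :
    DCoh.IsStrictlyPerfect ((tildeCx R).obj E) :=
  ⟨⟨a, b, fun i hi => (tilde.functor R).map_isZero (h1 i hi)⟩, fun i => by
    have := (h2 i).1
    have := (h2 i).2
    exact TildeRes.isFinLocFree_tilde_of_free (R := R) (E.X i)⟩

lemma hasModel_tildeD (R : CommRingCat.{u}) [PreservesFiniteLimits (tilde.functor R)]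
    (M : DerivedCategory (ModuleCat.{u} R)) (m : ℤ) (h : DRing.IsPseudoCoherent R m M) :
    HasModel m ((DCoh.tildeD R).obj M) := by
  obtain ⟨E, a, b, α, h1, h2, h3, h4⟩ := h
  have hα : PCMap.PCD m α := ⟨h3, h4⟩
  have h5 := hα.map (tilde.functor R)
  have h6 := h5.of_arrowIso (α' := ((tilde.functor R).mapDerivedCategoryFactors.app E).inv ≫
    (DCoh.tildeD R).map α)
    (Arrow.isoMk ((tilde.functor R).mapDerivedCategoryFactors.app E) (Iso.refl _) (by simp))
  exact ⟨(tildeCx R).obj E, _, isStrictlyPerfect_tildeCx R E a b h1 h2, h6.1, h6.2⟩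

/-- Reflecting along the tilde functor. -/
lemma pcd_of_tildeCx (R : CommRingCat.{u}) {K L : CochainComplex (ModuleCat.{u} R) ℤ}
    (γ : K ⟶ L) (m : ℤ) (h : PCMap.PCD m (DerivedCategory.Q.map ((tildeCx R).map γ))) :
    PCMap.PCD m (DerivedCategory.Q.map γ) := by
  have h4 := h.of_arrowIso (PCMap.mapArrowIso (tilde.functor R) γ).symm
  exact PCMap.PCD.of_map (tilde.functor R) h4

lemma isPseudoCoherentD_of_hasModel {X : Scheme.{u}} {m : ℤ} {K : DCoh.D X} (h : HasModel m K) :
    DCoh.IsPseudoCoherentD m K := by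
  rw [isPseudoCoherentD_iff_hasModel]
  intro x
  exact ⟨⊤, trivial, h.restrict _⟩

/-- The derived tilde functor on a complex. -/
noncomputable def tildeQIso (R : CommRingCat.{u}) [PreservesFiniteLimits (tilde.functor R)]
    (K : CochainComplex (ModuleCat.{u} R) ℤ) (M : DerivedCategory (ModuleCat.{u} R))
    (e : DerivedCategory.Q.obj K ≅ M) :
    (DCoh.tildeD R).obj M ≅ DerivedCategory.Q.obj ((tildeCx R).obj K) :=
  (DCoh.tildeD R).mapIso e.symm ≪≫ (tilde.functor R).mapDerivedCategoryFactors.app K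

/-- Local models over the rings `A_f`. -/
lemma exists_away (A : Type u) [CommRing A] (K : DRing.Cx A) (m : ℤ)
    (h : DCoh.IsPseudoCoherentD m
      (DerivedCategory.Q.obj ((tildeCx (CommRingCat.of A)).obj K)))
    (x : Spec (CommRingCat.of A)) :
    ∃ f : A, f ∉ x.asIdeal ∧
      DRing.IsPseudoCoherent (Localization.Away f) m (DRing.toD ((extCx f).obj K)) := by
  obtain ⟨V, hx, hV⟩ := h x
  obtain ⟨E, α, hE, h1, h2⟩ := hV ((tildeCx (CommRingCat.of A)).obj K) ⟨Iso.refl _⟩
  obtain ⟨f, hf, g, hg, w, P, γ, ⟨a, b, hab⟩, hP, ⟨e⟩⟩ := exists_model K V.ι ⟨x, hx⟩ hE α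
  have hα : PCMap.PCD m α := ⟨h1, h2⟩
  have h3 := (hα.map (Scheme.Modules.restrictFunctor g)).of_arrowIso e
  have h5 := pcd_of_tildeCx (CommRingCat.of (Localization.Away f)) γ m h3
  exact ⟨f, hf, P, a, b, DerivedCategory.Q.map γ, hab, hP, h5.1, h5.2⟩

/-- Stacks Tag 08E7: let A be a ring, M an object of D(A) and E = M~ the associated object of D(O_{Spec A}) (assuming the tilde functor is recorded as left exact). Then m-pseudo-coherence of E in D(O_{Spec A}) is equivalent to m-pseudo-coherence of M in D(A). -/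
theorem result (A : Type u) [CommRing A] [PreservesFiniteLimits (tilde.functor (CommRingCat.of A))]
    (M : Dual.D A) (m : ℤ) :
    DCoh.IsPseudoCoherentD m ((DCoh.tildeD (CommRingCat.of A)).obj M) ↔ DRing.IsPseudoCoherent A m M := by
  constructor
  · intro h
    let K : DRing.Cx A := DerivedCategory.Q.objPreimage M
    let eK : DerivedCategory.Q.obj K ≅ M := DerivedCategory.Q.objObjPreimageIso M
    have h' : DCoh.IsPseudoCoherentD m
        (DerivedCategory.Q.obj ((tildeCx (CommRingCat.of A)).obj K)) :=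
      isPseudoCoherentD_of_iso (tildeQIso (CommRingCat.of A) K M eK) h
    choose f hf hpc using exists_away A K m h'
    have htop : Ideal.span (Set.range f) = ⊤ := by
      by_contra hne
      obtain ⟨p, hp, hle⟩ := Ideal.exists_le_maximal _ hne
      exact hf ⟨p, hp.isPrime⟩ (hle (Ideal.subset_span ⟨⟨p, hp.isPrime⟩, rfl⟩))
    obtain ⟨s, hs, hs'⟩ := (Ideal.span_eq_top_iff_finite _).1 htop
    choose y hy using fun t : s => hs t.2
    let e := s.equivFin
    have hrange : Set.range (fun i => f (y (e.symm i))) = (s : Set A) := by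
      ext a
      constructor
      · rintro ⟨i, rfl⟩
        change f (y (e.symm i)) ∈ _
        rw [hy]
        exact (e.symm i).2
      · intro ha
        exact ⟨e ⟨a, ha⟩, by simp [hy]⟩
    have h2 := Groth.Agent.S2087.result (fun i => f (y (e.symm i))) (by rw [hrange, hs']) K m
      (fun i => hpc _)
    obtain ⟨E, a, b, α, h3, h4, h5, h6⟩ := h2
    have hα : PCMap.PCD m α := ⟨h5, h6⟩
    have h7 := hα.of_arrowIso (α' := α ≫ eK.hom) (Arrow.isoMk (Iso.refl _) eK (by simp))
    exact ⟨E, a, b, α ≫ eK.hom, h3, h4, h7.1, h7.2⟩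
  · intro h
    exact isPseudoCoherentD_of_hasModel (hasModel_tildeD (CommRingCat.of A) M m h)

end Groth.Agent.S1004
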