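import Groth.Statements.S1105
import Groth.Agent.PerfC.RingPerf
import Groth.Agent.PerfC.TildeProj
import Groth.Agent.PerfA.TildeModel
import Groth.Agent.S1004
import Mathlib.RingTheory.Flat.Localization

set_option autoImplicit false
universe u
open CategoryTheory CategoryTheory.Limits AlgebraicGeometry
attribute [local instance] HasDerivedCategory.standard
open Perf

namespace Groth.Agent.S1105

open Groth.Agent.PerfA Groth.Agent.PerfA.TildeModel Groth.Agent.PerfA.Restrict
  Groth.Agent.PerfA.PerfLocal

/-- The functor tilde reflects quasi-isomorphisms. -/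
lemma quasiIso_of_tildeCx (R : CommRingCat.{u}) {K L : CochainComplex (ModuleCat.{u} R) ℤ}
    (γ : K ⟶ L) (h : IsIso (DerivedCategory.Q.map ((tildeCx R).map γ))) : QuasiIso γ := by
  rw [DerivedCategory.isIso_Q_map_iff_quasiIso] at h
  exact (HomologicalComplex.quasiIso_map_iff_of_preservesHomology γ (tilde.functor R)).1 h

/-- Local models over the rings `A_f`. -/
lemma exists_away (A : Type u) [CommRing A] (K : DRing.Cx A)
    (h : DCoh.IsPerfect (DerivedCategory.Q.obj ((tildeCx (CommRingCat.of A)).obj K)))
    (x : Spec (CommRingCat.of A)) :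
    ∃ f : A, f ∉ x.asIdeal ∧
      DRing.IsPerfect (Localization.Away f) (DRing.toD ((extCx f).obj K)) := by
  obtain ⟨V, hx, hV⟩ := h x
  obtain ⟨E, hE, ⟨α⟩⟩ := hV ((tildeCx (CommRingCat.of A)).obj K) ⟨Iso.refl _⟩
  obtain ⟨f, hf, g, hg, w, P, γ, ⟨a, b, hab⟩, hP, ⟨e⟩⟩ := exists_model K V.ι ⟨x, hx⟩ hE α.inv
  have h3 : IsIso (DerivedCategory.Q.map
      ((tildeCx (CommRingCat.of (Localization.Away f))).map γ)) :=
    ((MorphismProperty.isomorphisms _).arrow_mk_iso_iff e).1
      (inferInstanceAs (IsIso ((restrictD g).map α.inv)))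
  have h4 := quasiIso_of_tildeCx (CommRingCat.of (Localization.Away f)) γ h3
  refine ⟨f, hf, P, a, b, hab, fun i => ?_, ⟨asIso (DerivedCategory.Q.map γ)⟩⟩
  obtain ⟨h5, h6⟩ := hP i
  exact ⟨h5, inferInstance⟩

/-- Stacks Tag 08EB: let A be a ring, M an object of D(A) and E = M~ the associated object of D(O_{Spec A}) (tilde being recorded as exact). Then E is perfect in D(O_{Spec A}) if and only if M is perfect in D(A) (isomorphic to a bounded complex of finite projective modules). -/
theorem result (A : Type u) [CommRing A] [PreservesFiniteLimits (tilde.functor (CommRingCat.of A))] (M : Dual.D A) :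
    DCoh.IsPerfect ((DCoh.tildeD (CommRingCat.of A)).obj M) ↔ DRing.IsPerfect A M := by
  constructor
  · intro h
    let K : DRing.Cx A := DerivedCategory.Q.objPreimage M
    let eK : DerivedCategory.Q.obj K ≅ M := DerivedCategory.Q.objObjPreimageIso M
    have h' : DCoh.IsPerfect (DerivedCategory.Q.obj ((tildeCx (CommRingCat.of A)).obj K)) :=
      isPerfect_of_iso (S1004.tildeQIso (CommRingCat.of A) K M eK) h
    have hex : ∀ f : A, Limits.PreservesFiniteLimits
        (ModuleCat.extendScalars.{u, u, u} (algebraMap A (Localization.Away f))) := fun f =>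
      ModuleCat.preservesFiniteLimits_extendScalars_of_flat (by
        rw [RingHom.flat_algebraMap_iff]
        exact IsLocalization.flat _ (Submonoid.powers f))
    refine PerfC.RingPerf.isPerfect_of_iso eK (PerfC.RingPerf.perfect_of_local _ fun p => ?_)
    obtain ⟨f, hf, hp⟩ := exists_away A K h' p
    exact ⟨f, hf, PerfC.RingPerf.isPerfect_of_iso
      ((ModuleCat.extendScalars.{u, u, u}
        (algebraMap A (Localization.Away f))).mapDerivedCategoryFactors.app K).symm hp⟩
  · intro h
    exact PerfC.TildeProj.isPerfect_tildeD (CommRingCat.of A) M h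

end Groth.Agent.S1105
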