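import Groth.Statements.S0890
import Groth.Agent.Dcoh.TopCoh

set_option autoImplicit false
universe u
open CategoryTheory
attribute [local instance] HasDerivedCategory.standard
open DCoh

namespace Groth.Agent.S0890

open AlgebraicGeometry CategoryTheory.Limits in
/-- Stacks Tag 08DN (schemes): for an m-pseudo-coherent object K of D(O_X): (1) vanishing of the cohomology sheaves above degree m makes H^m(K) an O_X-module of finite type; (2) vanishing above degree m + 1 makes H^{m+1}(K) an O_X-module of finite presentation. -/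
theorem result {X : Scheme.{u}} (m : ℤ) (K : DCoh.D X)
    (hK : DCoh.IsPseudoCoherentD m K) :
    ((∀ i : ℤ, m < i → IsZero (DCoh.HD K i)) → CohB1.IsFT (DCoh.HD K m)) ∧
    ((∀ i : ℤ, m + 1 < i → IsZero (DCoh.HD K i)) → CohB1.IsFP (DCoh.HD K (m + 1))) := by
  rw [Dcoh.LocalD.isPseudoCoherentD_iff_locally] at hK
  constructor
  · intro h
    refine Dcoh.FTFP.isFT_of_cover fun x => ?_
    obtain ⟨V, hx, hV⟩ := hK x
    refine ⟨V, V.ι, inferInstance, by simpa using hx, ?_⟩
    exact Dcoh.FTFP.isFT_of_iso (Dcoh.LocalD.HDRestrict V.ι K m)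
      (Dcoh.TopCoh.isFT_of_strPC hV fun i hi =>
        ((Scheme.Modules.restrictFunctor V.ι).map_isZero (h i hi)).of_iso
          (Dcoh.LocalD.HDRestrict V.ι K i))
  · intro h
    refine Dcoh.FTFP.isFP_of_cover fun x => ?_
    obtain ⟨V, hx, hV⟩ := hK x
    refine ⟨V, V.ι, inferInstance, by simpa using hx, ?_⟩
    exact Dcoh.FTFP.isFP_of_iso (Dcoh.LocalD.HDRestrict V.ι K (m + 1))
      (Dcoh.TopCoh.isFP_of_strPC hV fun i hi =>
        ((Scheme.Modules.restrictFunctor V.ι).map_isZero (h i hi)).of_iso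
          (Dcoh.LocalD.HDRestrict V.ι K i))

end Groth.Agent.S0890
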