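import Groth.Statements.S0888
import Groth.Agent.S0889
import Groth.Agent.Dcoh.StrPerf

set_option autoImplicit false
universe u
open CategoryTheory
attribute [local instance] HasDerivedCategory.standard
open DCoh

namespace Groth.Agent.S0888

open AlgebraicGeometry CategoryTheory.Limits CategoryTheory.Pretriangulated ZeroObject
open Groth.Agent.Dcoh.LocalD Groth.Agent.Dcoh.StrPerf

/-- An object with vanishing cohomology sheaves in degrees `≥ n` is `n`-pseudo-coherent. -/
theorem isPseudoCoherentD_of_isZero {X : Scheme.{u}} (n : ℤ) (K : DCoh.D X)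
    (h : ∀ i, n ≤ i → IsZero (DCoh.HD K i)) : DCoh.IsPseudoCoherentD n K := by
  refine isPseudoCoherentD_of_strPC ⟨_, 0, isStrictlyPerfect_zero, fun i hi => ?_, ?_⟩
  · have h0 : IsZero ((DerivedCategory.homologyFunctor X.Modules i).obj
        (DerivedCategory.Q.obj (0 : CochainComplex X.Modules ℤ))) :=
      Functor.map_isZero _ (Functor.map_isZero _ (isZero_zero _))
    exact ⟨0, h0.eq_of_src _ _, (h i hi.le).eq_of_src _ _⟩
  · exact ⟨fun _ _ _ => (h n le_rfl).eq_of_src _ _⟩

theorem isZero_of_biprod_left {X : Scheme.{u}} {K L : DCoh.D X} [HasBinaryBiproduct K L] (i : ℤ)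
    (h : IsZero (DCoh.HD (K ⊞ L) i)) : IsZero (DCoh.HD K i) := by
  have h1 : (DerivedCategory.homologyFunctor X.Modules i).map (biprod.inl : K ⟶ K ⊞ L) ≫
      (DerivedCategory.homologyFunctor X.Modules i).map (biprod.fst : K ⊞ L ⟶ K) = 𝟙 _ := by
    rw [← Functor.map_comp, biprod.inl_fst, CategoryTheory.Functor.map_id]
  rw [IsZero.iff_id_eq_zero, ← h1, h.eq_of_tgt ((DerivedCategory.homologyFunctor X.Modules i).map
    (biprod.inl : K ⟶ K ⊞ L)) 0, zero_comp]

theorem isZero_of_biprod_right {X : Scheme.{u}} {K L : DCoh.D X} [HasBinaryBiproduct K L] (i : ℤ)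
    (h : IsZero (DCoh.HD (K ⊞ L) i)) : IsZero (DCoh.HD L i) := by
  have h1 : (DerivedCategory.homologyFunctor X.Modules i).map (biprod.inr : L ⟶ K ⊞ L) ≫
      (DerivedCategory.homologyFunctor X.Modules i).map (biprod.snd : K ⊞ L ⟶ L) = 𝟙 _ := by
    rw [← Functor.map_comp, biprod.inr_snd, CategoryTheory.Functor.map_id]
  rw [IsZero.iff_id_eq_zero, ← h1, h.eq_of_tgt ((DerivedCategory.homologyFunctor X.Modules i).map
    (biprod.inr : L ⟶ K ⊞ L)) 0, zero_comp]

/-- The global bounded above case. -/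
theorem aux {X : Scheme.{u}} (m b : ℤ) (K L : DCoh.D X) [HasBinaryBiproduct K L]
    (h : DCoh.IsPseudoCoherentD m (K ⊞ L)) (hb : ∀ i, b ≤ i → IsZero (DCoh.HD (K ⊞ L) i)) :
    DCoh.IsPseudoCoherentD m K ∧ DCoh.IsPseudoCoherentD m L := by
  have hKL := binaryBiproductTriangle_distinguished K L
  have : HasBinaryBiproduct L K := HasBinaryBiproducts.has_binary_biproduct L K
  have hLK := binaryBiproductTriangle_distinguished L K
  have key : ∀ (k : ℕ) (n : ℤ), m ≤ n → b - k ≤ n →
      DCoh.IsPseudoCoherentD n K ∧ DCoh.IsPseudoCoherentD n L := by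
    intro k
    induction k with
    | zero =>
      intro n _ hn
      simp only [CharP.cast_eq_zero, sub_zero] at hn
      exact ⟨isPseudoCoherentD_of_isZero n K fun i hi => isZero_of_biprod_left i (hb i (hn.trans hi)),
        isPseudoCoherentD_of_isZero n L fun i hi => isZero_of_biprod_right i (hb i (hn.trans hi))⟩
    | succ k ih =>
      intro n hmn hn
      obtain ⟨h1, h2⟩ := ih (n + 1) (by lia) (by push_cast at hn; lia)
      have h3 : DCoh.IsPseudoCoherentD n (K ⊞ L) := isPseudoCoherentD_mono hmn h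
      have h4 : DCoh.IsPseudoCoherentD n (L ⊞ K) := isPseudoCoherentD_of_iso (biprod.braiding K L) h3
      exact ⟨(Groth.Agent.S0889.result n _ hLK).1 h2 h4, (Groth.Agent.S0889.result n _ hKL).1 h1 h3⟩
  exact key (b - m).toNat m le_rfl (by lia)

/-- If `K ⊞ L` is globally approximated by a strictly perfect complex. -/
theorem aux2 {X : Scheme.{u}} (m : ℤ) (K L : DCoh.D X) [HasBinaryBiproduct K L]
    (h : StrPC m X (K ⊞ L)) :
    DCoh.IsPseudoCoherentD m K ∧ DCoh.IsPseudoCoherentD m L := by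
  have h' := isPseudoCoherentD_of_strPC h
  obtain ⟨E, α, ⟨⟨a, b, hab⟩, _⟩, h1, _⟩ := h
  refine aux m (max (m + 1) (b + 1)) K L h' fun i hi => ?_
  have := h1 i (by lia)
  refine IsZero.of_iso ?_ (asIso ((DerivedCategory.homologyFunctor X.Modules i).map α)).symm
  refine IsZero.of_iso ?_ ((DerivedCategory.homologyFunctorFactors X.Modules i).app E)
  exact ShortComplex.isZero_homology_of_isZero_X₂ _ (hab i (by lia))

open AlgebraicGeometry CategoryTheory.Limits in
/-- Stacks Tag 08CE (schemes): let K, L be objects of D(O_X) and m an integer. If the direct sum K ⊕ L is m-pseudo-coherent, then K and L are m-pseudo-coherent. -/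
theorem result {X : Scheme.{u}} (m : ℤ) (K L : DCoh.D X) [HasBinaryBiproduct K L]
    (h : DCoh.IsPseudoCoherentD m (K ⊞ L)) :
    DCoh.IsPseudoCoherentD m K ∧ DCoh.IsPseudoCoherentD m L := by
  have key : ∀ x : X, ∃ (U : Scheme.{u}) (f : U ⟶ X) (_ : IsOpenImmersion f),
      x ∈ Set.range f ∧ DCoh.IsPseudoCoherentD m ((DCoh.restrictD f).obj K) ∧
        DCoh.IsPseudoCoherentD m ((DCoh.restrictD f).obj L) := by
    intro x
    obtain ⟨V, hx, hV⟩ := (isPseudoCoherentD_iff_locally m _).1 h x
    have : PreservesBinaryBiproducts (DCoh.restrictD V.ι) :=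
      preservesBinaryBiproducts_of_preservesBiproducts _
    refine ⟨V, V.ι, inferInstance, by simpa using hx, ?_⟩
    exact aux2 m _ _ ((isStable_strPC m).iso ((DCoh.restrictD V.ι).mapBiprod K L) hV)
  exact ⟨isPseudoCoherentD_of_cover fun x => by
      obtain ⟨U, f, hf, hx, h1, _⟩ := key x
      exact ⟨U, f, hf, hx, h1⟩,
    isPseudoCoherentD_of_cover fun x => by
      obtain ⟨U, f, hf, hx, _, h2⟩ := key x
      exact ⟨U, f, hf, hx, h2⟩⟩

end Groth.Agent.S0888
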