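import Groth.Statements.S0924
import Groth.Agent.S0888
import Groth.Agent.S0944
import Groth.Agent.Dcoh.StrPerf
import Groth.Agent.Dcoh.BddCx2
import Groth.Agent.Dcoh.Spread

set_option autoImplicit false
universe u
open CategoryTheory
attribute [local instance] HasDerivedCategory.standard
open DCoh

namespace Groth.Agent.S0924

open AlgebraicGeometry CategoryTheory.Limits CategoryTheory.Pretriangulated
open Groth.Agent.Dcoh.LocalD Groth.Agent.Dcoh.StrPerf Groth.Agent.Dcoh.BddCx Groth.Agent.Dcoh.BddCx2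

/-- Morphisms from a strictly perfect complex to a complex which are isomorphisms on `H^i`, `i ≥ a`, with
source `K ⊞ L`-shaped approximations: the case where the comparison map is a chain map. -/
theorem strPerf_of_chainMap {X : Scheme.{u}} (K L : DCoh.D X) [HasBinaryBiproduct K L]
    (E P P' : CochainComplex X.Modules ℤ) (hE : DCoh.IsStrictlyPerfect E) (hP : DCoh.IsStrictlyPerfect P)
    (hP' : DCoh.IsStrictlyPerfect P') (a : ℤ) (hEa : ∀ i, i < a → IsZero (E.X i))
    (e : K ⊞ L ≅ DerivedCategory.Q.obj E) (α : DerivedCategory.Q.obj P ⟶ K)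
    (β : DerivedCategory.Q.obj P' ⟶ L)
    (hα : ∀ i, a ≤ i → IsIso ((DerivedCategory.homologyFunctor _ i).map α))
    (hβ : ∀ i, a ≤ i → IsIso ((DerivedCategory.homologyFunctor _ i).map β))
    (γ : P ⊞ P' ⟶ E) (hγ : DerivedCategory.Q.map γ =
      DerivedCategory.Q.map biprod.fst ≫ α ≫ biprod.inl ≫ e.hom +
        DerivedCategory.Q.map biprod.snd ≫ β ≫ biprod.inr ≫ e.hom) : StrPerf X K := by
  have hbi : ∀ A B : X.Modules, FLF X A → FLF X B → FLF X (A ⊞ B) := fun A B hA hB =>
    Groth.Agent.Dcoh.FinLocFree.isFinLocFree_biprod hA hB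
  have hker : ClosedKer (FLF X) := fun A B p _ hA hB =>
    Groth.Agent.Dcoh.Spread.isFinLocFree_kernel p hA hB
  obtain ⟨⟨a1, b1, hR⟩, hR'⟩ := isStrictlyPerfect_biprod hP hP'
  obtain ⟨⟨a2, b2, hE2⟩, hE'⟩ := id hE
  have hγ' : ∀ i, a ≤ i → IsIso ((DerivedCategory.homologyFunctor X.Modules i).map
      (DerivedCategory.Q.map γ)) := by
    intro i hi
    have := hα i hi
    have := hβ i hi
    let f : DerivedCategory.Q.obj (P ⊞ P') ⟶ DerivedCategory.Q.obj P ⊞ DerivedCategory.Q.obj P' :=
      biprod.lift (DerivedCategory.Q.map biprod.fst) (DerivedCategory.Q.map biprod.snd)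
    have hf : IsIso f := by
      refine ⟨biprod.desc (DerivedCategory.Q.map biprod.inl) (DerivedCategory.Q.map biprod.inr), ?_, ?_⟩
      · rw [biprod.lift_desc, ← Functor.map_comp, ← Functor.map_comp, ← Functor.map_add, biprod.total,
          CategoryTheory.Functor.map_id]
      · apply biprod.hom_ext'
        · simp only [biprod.inl_desc_assoc, f]
          apply biprod.hom_ext
          · simp [← Functor.map_comp]
          · simp [← Functor.map_comp]
        · simp only [biprod.inr_desc_assoc, f]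
          apply biprod.hom_ext
          · simp [← Functor.map_comp]
          · simp [← Functor.map_comp]
    have h1 : DerivedCategory.Q.map γ = f ≫ biprod.map α β ≫ e.hom := by
      rw [hγ, biprod.map_eq]
      simp only [f, Preadditive.add_comp, Preadditive.comp_add, Category.assoc, biprod.lift_fst_assoc,
        biprod.lift_snd_assoc]
    rw [h1, Functor.map_comp, Functor.map_comp]
    have := isIso_map_biprod (DerivedCategory.homologyFunctor X.Modules i) α β
    infer_instance
  have hop : FLF X ((P ⊞ P').opcycles a) :=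
    prop_opcycles_of_map hker (fun _ h => Groth.Agent.Dcoh.FinLocFree.isFinLocFree_of_isZero h) hbi γ a
      (max b1 b2) hEa (fun i hi => hR i (by lia)) (fun i hi => hE2 i (by lia)) hR' hE' hγ'
  have hopP : FlatMod.IsFinLocFree (P.opcycles a) :=
    Groth.Agent.Dcoh.Spread.isFinLocFree_of_retract
      (HomologicalComplex.opcyclesMap (biprod.inl : P ⟶ P ⊞ P') a)
      (HomologicalComplex.opcyclesMap (biprod.fst : P ⊞ P' ⟶ P) a)
      (by rw [← HomologicalComplex.opcyclesMap_comp, biprod.inl_fst, HomologicalComplex.opcyclesMap_id]) hop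
  have hK : ∀ i, i < a → IsZero ((DerivedCategory.homologyFunctor X.Modules i).obj K) := by
    intro i hi
    refine Groth.Agent.S0888.isZero_of_biprod_left (L := L) i ?_
    refine IsZero.of_iso ?_ ((DerivedCategory.homologyFunctor X.Modules i).mapIso e)
    refine IsZero.of_iso ?_ ((DerivedCategory.homologyFunctorFactors X.Modules i).app E)
    exact ShortComplex.isZero_homology_of_isZero_X₂ _ (hEa i hi)
  exact ⟨P.truncGE a, isStrictlyPerfect_truncGE hP a hopP, nonempty_iso_truncGE P K a hK α hα⟩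

/-- The case of global approximations. -/
theorem aux1 {X : Scheme.{u}} (K L : DCoh.D X) [HasBinaryBiproduct K L]
    (E : CochainComplex X.Modules ℤ) (hE : DCoh.IsStrictlyPerfect E) (a : ℤ)
    (hEa : ∀ i, i < a → IsZero (E.X i)) (e : K ⊞ L ≅ DerivedCategory.Q.obj E)
    (hK : StrPC (a - 1) X K) (hL : StrPC (a - 1) X L) : DCoh.IsPerfect K := by
  obtain ⟨P, α, hP, hα, _⟩ := hK
  obtain ⟨P', β, hP', hβ, _⟩ := hL
  rw [isPerfect_iff_locally]
  intro x
  obtain ⟨V, hx, hV⟩ := Groth.Agent.S0944.result (isStrictlyPerfect_biprod hP hP')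
    (DerivedCategory.Q.map biprod.fst ≫ α ≫ biprod.inl ≫ e.hom +
        DerivedCategory.Q.map biprod.snd ≫ β ≫ biprod.inr ≫ e.hom) x
  obtain ⟨γ, hγ⟩ := hV
  refine ⟨V, hx, ?_⟩
  have : PreservesBinaryBiproducts (DCoh.restrictD V.ι) :=
    preservesBinaryBiproducts_of_preservesBiproducts _
  let e' : (DCoh.restrictD V.ι).obj K ⊞ (DCoh.restrictD V.ι).obj L ≅
      DerivedCategory.Q.obj ((DCoh.restrictCx V).obj E) :=
    ((DCoh.restrictD V.ι).mapBiprod K L).symm ≪≫ (DCoh.restrictD V.ι).mapIso e ≪≫ QRestrict V.ι E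
  have he1 : biprod.inl ≫ e'.hom = (DCoh.restrictD V.ι).map (biprod.inl ≫ e.hom) ≫
      (QRestrict V.ι E).hom := by
    simp only [e', Iso.trans_hom, Iso.symm_hom, Functor.mapBiprod_inv, Functor.mapIso_hom, Functor.map_comp,
      Category.assoc]
    exact biprod.inl_desc_assoc _ _ _
  have he2 : biprod.inr ≫ e'.hom = (DCoh.restrictD V.ι).map (biprod.inr ≫ e.hom) ≫
      (QRestrict V.ι E).hom := by
    simp only [e', Iso.trans_hom, Iso.symm_hom, Functor.mapBiprod_inv, Functor.mapIso_hom, Functor.map_comp,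
      Category.assoc]
    exact biprod.inr_desc_assoc _ _ _
  let u : (DCoh.restrictCx V).obj P ⊞ (DCoh.restrictCx V).obj P' ⟶ (DCoh.restrictCx V).obj (P ⊞ P') :=
    biprod.desc ((DCoh.restrictCx V).map biprod.inl) ((DCoh.restrictCx V).map biprod.inr)
  have hu1 : u ≫ (DCoh.restrictCx V).map biprod.fst = biprod.fst := by
    apply biprod.hom_ext'
    · rw [biprod.inl_desc_assoc, ← Functor.map_comp, biprod.inl_fst, biprod.inl_fst,
        CategoryTheory.Functor.map_id]
    · rw [biprod.inr_desc_assoc, ← Functor.map_comp, biprod.inr_fst, biprod.inr_fst, Functor.map_zero]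
  have hu2 : u ≫ (DCoh.restrictCx V).map biprod.snd = biprod.snd := by
    apply biprod.hom_ext'
    · rw [biprod.inl_desc_assoc, ← Functor.map_comp, biprod.inl_snd, biprod.inl_snd, Functor.map_zero]
    · rw [biprod.inr_desc_assoc, ← Functor.map_comp, biprod.inr_snd, biprod.inr_snd,
        CategoryTheory.Functor.map_id]
  have nat : ∀ {A B : CochainComplex X.Modules ℤ} (f : A ⟶ B),
      (QRestrict V.ι A).inv ≫ (DCoh.restrictD V.ι).map (DerivedCategory.Q.map f) =
        DerivedCategory.Q.map ((DCoh.restrictCx V).map f) ≫ (QRestrict V.ι B).inv := fun f =>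
    ((Scheme.Modules.restrictFunctor V.ι).mapDerivedCategoryFactors.inv.naturality f).symm
  have hγ2 : DerivedCategory.Q.map γ = (QRestrict V.ι (P ⊞ P')).inv ≫
      (DCoh.restrictD V.ι).map (DerivedCategory.Q.map biprod.fst ≫ α ≫ biprod.inl ≫ e.hom +
        DerivedCategory.Q.map biprod.snd ≫ β ≫ biprod.inr ≫ e.hom) ≫ (QRestrict V.ι E).hom := by
    rw [hγ]
    simp [QRestrict]
  refine strPerf_of_chainMap _ _ ((DCoh.restrictCx V).obj E) ((DCoh.restrictCx V).obj P)
    ((DCoh.restrictCx V).obj P') (isStrictlyPerfect_restrict V.ι hE) (isStrictlyPerfect_restrict V.ι hP)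
    (isStrictlyPerfect_restrict V.ι hP') a
    (fun i hi => (Scheme.Modules.restrictFunctor V.ι).map_isZero (hEa i hi)) e'
    ((QRestrict V.ι P).inv ≫ (DCoh.restrictD V.ι).map α)
    ((QRestrict V.ι P').inv ≫ (DCoh.restrictD V.ι).map β) (fun i hi => ?_) (fun i hi => ?_)
    (u ≫ γ) ?_
  · have := Groth.Agent.Dcoh.MapDer.isIso_homology_map (Scheme.Modules.restrictFunctor V.ι) α i
      (hα i (by lia))
    rw [Functor.map_comp]
    infer_instance
  · have := Groth.Agent.Dcoh.MapDer.isIso_homology_map (Scheme.Modules.restrictFunctor V.ι) β i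
      (hβ i (by lia))
    rw [Functor.map_comp]
    infer_instance
  · have hu1' : DerivedCategory.Q.map u ≫ DerivedCategory.Q.map ((DCoh.restrictCx V).map biprod.fst) =
        DerivedCategory.Q.map biprod.fst := by rw [← Functor.map_comp, hu1]
    have hu2' : DerivedCategory.Q.map u ≫ DerivedCategory.Q.map ((DCoh.restrictCx V).map biprod.snd) =
        DerivedCategory.Q.map biprod.snd := by rw [← Functor.map_comp, hu2]
    rw [Functor.map_comp, hγ2, Functor.map_add, Preadditive.add_comp, Preadditive.comp_add,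
      Preadditive.comp_add, he1, he2]
    simp only [Functor.map_comp, Category.assoc]
    rw [reassoc_of% (nat (biprod.fst : P ⊞ P' ⟶ P)), reassoc_of% (nat (biprod.snd : P ⊞ P' ⟶ P')),
      reassoc_of% hu1', reassoc_of% hu2']

/-- The case where `K ⊞ L` is globally strictly perfect. -/
theorem aux2 {X : Scheme.{u}} (K L : DCoh.D X) [HasBinaryBiproduct K L] (h : StrPerf X (K ⊞ L)) :
    DCoh.IsPerfect K := by
  obtain ⟨E, hE, ⟨e⟩⟩ := id h
  obtain ⟨⟨a, b, hab⟩, _⟩ := id hE
  obtain ⟨hK, hL⟩ := Groth.Agent.S0888.result (a - 1) K L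
    (isPseudoCoherentD_of_isPerfect (a - 1) (isPerfect_of_strPerf h))
  refine isPerfect_of_cover fun x => ?_
  obtain ⟨V, hx, hV1, hV2⟩ := locally_and (isStable_strPC (a - 1)) (isStable_strPC (a - 1))
    ((isPseudoCoherentD_iff_locally _ _).1 hK) ((isPseudoCoherentD_iff_locally _ _).1 hL) x
  have : PreservesBinaryBiproducts (DCoh.restrictD V.ι) :=
    preservesBinaryBiproducts_of_preservesBiproducts _
  exact ⟨V, V.ι, inferInstance, by simpa using hx, aux1 _ _ ((DCoh.restrictCx V).obj E)
    (isStrictlyPerfect_restrict V.ι hE) a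
    (fun i hi => (Scheme.Modules.restrictFunctor V.ι).map_isZero (hab i (Or.inl hi)))
    (((DCoh.restrictD V.ι).mapBiprod K L).symm ≪≫ (DCoh.restrictD V.ι).mapIso e ≪≫ QRestrict V.ι E)
    hV1 hV2⟩

theorem aux3 {X : Scheme.{u}} (K L : DCoh.D X) [HasBinaryBiproduct K L]
    (h : DCoh.IsPerfect (K ⊞ L)) : DCoh.IsPerfect K := by
  refine isPerfect_of_cover fun x => ?_
  obtain ⟨V, hx, hV⟩ := (isPerfect_iff_locally _).1 h x
  have : PreservesBinaryBiproducts (DCoh.restrictD V.ι) :=
    preservesBinaryBiproducts_of_preservesBiproducts _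
  exact ⟨V, V.ι, inferInstance, by simpa using hx, aux2 _ ((DCoh.restrictD V.ι).obj L)
    (isStable_strPerf.iso ((DCoh.restrictD V.ι).mapBiprod K L) hV)⟩

open AlgebraicGeometry CategoryTheory.Limits in
/-- Stacks Tag 08CS (schemes): perfectness of objects of D(O_X) passes to direct summands: K and L are perfect as soon as K ⊕ L is. -/
theorem result {X : Scheme.{u}} (K L : DCoh.D X) [HasBinaryBiproduct K L]
    (h : DCoh.IsPerfect (K ⊞ L)) : DCoh.IsPerfect K ∧ DCoh.IsPerfect L := by
  have : HasBinaryBiproduct L K := HasBinaryBiproducts.has_binary_biproduct L K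
  exact ⟨aux3 K L h, aux3 L K (isPerfect_of_iso (biprod.braiding K L) h)⟩

end Groth.Agent.S0924
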