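import Groth.Statements.S0955
import Groth.Agent.Dcoh.KFlatMod

set_option autoImplicit false
universe u
open CategoryTheory
attribute [local instance] HasDerivedCategory.standard
open DCoh

namespace Groth.Agent.S0955

open AlgebraicGeometry in
/-- Stacks Tag 06YF (schemes): every complex G of O_X-modules is the target of a degreewise epimorphic quasi-isomorphism K -> G from a K-flat complex K all of whose terms are flat. -/
theorem result {X : Scheme.{u}} (G : CochainComplex X.Modules ℤ) :
    ∃ (K : CochainComplex X.Modules ℤ) (q : K ⟶ G), DCoh.IsKFlat K ∧ (∀ n : ℤ, FlatMod.IsFlat (K.X n)) ∧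
      QuasiIso q ∧ ∀ n : ℤ, Epi (q.f n) := by
  exact Groth.Agent.Dcoh.KFlatMod.exists_resolution G


end Groth.Agent.S0955
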