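import Groth.Statements.S0960
-- import your own Groth.Agent.* helpers here
import Groth.Agent.Dcoh.MonLpull182
import Groth.Agent.Dcoh.MonPull292
import Groth.Agent.Dcoh.ModTens

set_option autoImplicit false
universe u
open CategoryTheory
attribute [local instance] HasDerivedCategory.standard
open DCoh

namespace Groth.Agent.S0960

open scoped Groth.Agent.Dcoh.MonCat Groth.Agent.Dcoh.ModD

open MonoidalCategory AlgebraicGeometry in
/-- The abstract form. -/
theorem aux {X Y : Scheme.{u}} (f : X ⟶ Y) [DCoh.HasLpull f] (L : CochainComplex Y.Modules ℤ)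
    (hL : DCoh.IsKFlat L) [DCoh.HasLTensorCx L]
    [DCoh.HasLTensorCx (((Scheme.Modules.pullback f).mapHomologicalComplex (ComplexShape.up ℤ)).obj L)]
    (K : DCoh.D Y) :
    Nonempty ((DCoh.Lpull f).obj ((DCoh.LTensorCx L).obj K) ≅
      (DCoh.LTensorCx (((Scheme.Modules.pullback f).mapHomologicalComplex (ComplexShape.up ℤ)).obj L)).obj
        ((DCoh.Lpull f).obj K)) := by
  let _ : (Scheme.Modules.pullback f).Monoidal := Dcoh.MonPull.monPull f
  let _ : (DCoh.Lpull f).Monoidal := Dcoh.MonLpull182.lpullMonoidal f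
  exact ⟨(DCoh.Lpull f).mapIso ((Dcoh.ModTens.LTensorCxIso L).app K) ≪≫
    (Functor.Monoidal.μIso (DCoh.Lpull f) K (DerivedCategory.Q.obj L)).symm ≪≫
    whiskerLeftIso ((DCoh.Lpull f).obj K) ((Dcoh.MonLpull182.lpullLiftIso f).app ⟨L, hL⟩) ≪≫
    ((Dcoh.ModTens.LTensorCxIso
      (((Scheme.Modules.pullback f).mapHomologicalComplex (ComplexShape.up ℤ)).obj L)).app
        ((DCoh.Lpull f).obj K)).symm⟩

open AlgebraicGeometry in
/-- Stacks Tag 079U (schemes; second factor given by a K-flat complex L, so that Lf^* L is the plain pullback f^* L): for f : X -> Y, K in D(O_Y) and a K-flat complex L of O_Y-modules there is an isomorphism Lf^*(K ⊗^L L) ≅ (Lf^* K) ⊗^L (f^* L). The derived functors are taken under their existence binders; the assertion is the existence of an isomorphism for each K. -/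
theorem result {X Y : Scheme.{u}} (f : X ⟶ Y) [DCoh.HasLpull f] (L : CochainComplex Y.Modules ℤ)
    (hL : DCoh.IsKFlat L) [DCoh.HasLTensorCx L] [DCoh.HasLTensorCx (((Scheme.Modules.pullback f).mapHomologicalComplex (ComplexShape.up ℤ)).obj L)] (K : DCoh.D Y) :
    Nonempty ((DCoh.Lpull f).obj ((DCoh.LTensorCx L).obj K) ≅
      (DCoh.LTensorCx (((Scheme.Modules.pullback f).mapHomologicalComplex (ComplexShape.up ℤ)).obj L)).obj ((DCoh.Lpull f).obj K)) :=
  aux f L hL K

end Groth.Agent.S0960
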