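import Groth.Statements.S0951
import Groth.Agent.Dcoh.KFlat

set_option autoImplicit false
universe u
open CategoryTheory
attribute [local instance] HasDerivedCategory.standard
open DCoh

namespace Groth.Agent.S0951

open AlgebraicGeometry in
/-- Stacks Tag 079S (schemes; distinguished triangles of K(Mod(O_X)) represented by mapping cones): for a morphism φ : K₁ -> K₂ of complexes of O_X-modules with mapping cone C, if two out of K₁, K₂, C are K-flat then so is the third. -/
theorem result {X : Scheme.{u}} {K₁ K₂ : CochainComplex X.Modules ℤ} (φ : K₁ ⟶ K₂) :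
    (DCoh.IsKFlat K₁ → DCoh.IsKFlat K₂ → DCoh.IsKFlat (CochainComplex.mappingCone φ)) ∧
    (DCoh.IsKFlat K₁ → DCoh.IsKFlat (CochainComplex.mappingCone φ) → DCoh.IsKFlat K₂) ∧
    (DCoh.IsKFlat K₂ → DCoh.IsKFlat (CochainComplex.mappingCone φ) → DCoh.IsKFlat K₁) := by
  exact ⟨Groth.Agent.Dcoh.KFlat.isKFlat_mappingCone φ, Groth.Agent.Dcoh.KFlat.isKFlat_of_mappingCone₂ φ,
    Groth.Agent.Dcoh.KFlat.isKFlat_of_mappingCone₁ φ⟩

end Groth.Agent.S0951
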