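import Groth.Statements.S1054
import Groth.Agent.PerfB.LpullOpens
import Groth.Agent.PerfB.TildeExact
import Groth.Agent.S0997
import Groth.Agent.S1055
import Groth.Agent.LoccohB.LBC

set_option autoImplicit false
universe u
open CategoryTheory CategoryTheory.Limits AlgebraicGeometry Opposite
attribute [local instance] HasDerivedCategory.standard
open Perf

namespace Groth.Agent.S1054

/-- Stacks Tag 08DW, part (1): let f : Y ⟶ X be a morphism of schemes and assume the derived pullback Lf^* exists. If K ∈ D(O_X) has quasi-coherent cohomology sheaves, so does Lf^*K. -/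
theorem result {Y X : Scheme.{u}} (f : Y ⟶ X) [DCoh.HasLpull f] (K : DCoh.D X) (hK : DCoh.IsQCohD K) :
    DCoh.IsQCohD ((DCoh.Lpull f).obj K) := by
  open Groth.Agent.PerfB.LpullOpens Groth.Agent.PerfA.QCohD Groth.Agent.PerfA.Restrict in
  apply isQCohD_of_restrictD
  intro y
  obtain ⟨A, B, φ, v, j, hv, hj, w, hw, h⟩ := exists_affine_chart f y
  refine ⟨_, v, hv, w, hw, ?_⟩
  have h0 : DCoh.HasLpull (Spec.map φ) := S0959.result _
  have h1 : DRing.HasLBaseChange φ.hom := Groth.Agent.LoccohB.LBC.hasLBaseChange _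
  obtain ⟨e⟩ := nonempty_lpullRestrict v f (Spec.map φ) j h
  obtain ⟨M, ⟨eM⟩⟩ := ((S0997.result A).2.2 _).1 (isQCohD_restrictD j hK)
  obtain ⟨e'⟩ : Nonempty (DRing.LBaseChange φ.hom ⋙ DCoh.tildeD B ≅
    DCoh.tildeD A ⋙ DCoh.Lpull (Spec.map φ)) := S1055.result φ.hom
  have h3 : DCoh.IsQCohD ((DCoh.tildeD B).obj ((DRing.LBaseChange φ.hom).obj M)) :=
    ((S0997.result B).2.2 _).2 ⟨_, ⟨Iso.refl _⟩⟩
  exact isQCohD_of_iso (e'.app M ≪≫ (DCoh.Lpull (Spec.map φ)).mapIso eM ≪≫ (e.app K).symm) h3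

end Groth.Agent.S1054
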