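import Groth.Statements.S1071
import Groth.Agent.PerfB.KoszulMod
import Groth.Agent.PerfB.TwistMul
import Groth.Agent.PerfB.ProjSpaceCover

set_option autoImplicit false
universe u
open CategoryTheory CategoryTheory.Limits AlgebraicGeometry
open Perf

namespace Groth.Agent.S1071

open Groth.Agent.PerfB.KoszulMod Groth.Agent.PerfB.TwistMul in
/-- multiplication by the variable `X_j`. -/
noncomputable def opT (n : ℕ) (A : Type u) [CommRing A] (a : ℤ) (j : Fin (n + 1)) (i : ℤ) :
    Twist.twistProjSpace n A (a + i) ⟶ Twist.twistProjSpace n A (a + (i + 1)) :=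
  mulT (𝒜 := CohB1.polyGrading n A) (k := 1) ⟨MvPolynomial.X j, MvPolynomial.isHomogeneous_X _ _⟩
    (a + i) (a + (i + 1)) (by push_cast; ring)

open Groth.Agent.PerfB.KoszulMod Groth.Agent.PerfB.TwistMul in
theorem opT_comm (n : ℕ) (A : Type u) [CommRing A] (a : ℤ) (k l : Fin (n + 1)) (i : ℤ) :
    opT n A a k i ≫ opT n A a l (i + 1) = opT n A a l i ≫ opT n A a k (i + 1) :=
  mulT_comm _ _ _ _ _ _ _ _ _ _

open Groth.Agent.PerfB.KoszulMod in
theorem card_Idx (N i : ℕ) : Fintype.card (Idx N (i : ℤ)) = Nat.choose N i := by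
  have h1 : Fintype.card {S : Finset (Fin N) // S.card = i} = Nat.choose N i := by
    rw [Fintype.card_finset_len, Fintype.card_fin]
  rw [← h1]
  exact Fintype.card_congr (Equiv.subtypeEquivRight fun S => Nat.cast_inj)

open Groth.Agent.PerfB.KoszulMod in
theorem nonempty_iso {X : Scheme.{u}} (M : ℤ → X.Modules) (N i : ℕ) :
    Nonempty (kTerm (N := N) M (i : ℤ) ≅ ∐ fun _ : Fin (Nat.choose N i) => M (i : ℤ)) := by
  have e : Idx N (i : ℤ) ≃ Fin (Nat.choose N i) := Fintype.equivFinOfCardEq (card_Idx N i)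
  exact ⟨biproduct.isoCoproduct _ ≪≫ Sigma.whiskerEquiv (f := fun _ => M (i : ℤ))
    (g := fun _ => M (i : ℤ)) e (fun _ => Iso.refl _)⟩

open Groth.Agent.PerfB.KoszulMod in
theorem isZero_kTerm {X : Scheme.{u}} (M : ℤ → X.Modules) (N : ℕ) (i : ℤ) (h : i < 0 ∨ (N : ℤ) < i) :
    IsZero (kTerm (N := N) M i) := by
  have : IsEmpty (Idx N i) := ⟨fun S => by
    have h1 := S.2
    have h2 : S.1.card ≤ N := by simpa using Finset.card_le_univ S.1
    omega⟩
  rw [IsZero.iff_id_eq_zero]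
  exact biproduct.hom_ext _ _ fun j => (this.false j).elim

/-- Stacks Tag 0BQS: let A be a ring, X = P^n_A and a ∈ ℤ. There is a cochain complex of O_X-modules, exact in every degree, whose term in degree i is isomorphic to the direct sum of (n+1 choose i) copies of O_X(a + i) for 0 ≤ i ≤ n + 1 and is zero in all other degrees. -/
theorem result (n : ℕ) (A : Type u) [CommRing A] (a : ℤ) :
    ∃ C : CochainComplex (CohB1.ProjSpace n A).Modules ℤ, (∀ i : ℤ, C.ExactAt i) ∧
      (∀ i : ℕ, i ≤ n + 1 → Nonempty (C.X (i : ℤ) ≅ ∐ fun _ : Fin (Nat.choose (n + 1) i) => Twist.twistProjSpace n A (a + i))) ∧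
      (∀ i : ℤ, i < 0 ∨ (n : ℤ) + 1 < i → IsZero (C.X i)) := by
  refine ⟨Groth.Agent.PerfB.KoszulMod.koszulCx (fun i => Twist.twistProjSpace n A (a + i)) (opT n A a)
    (opT_comm n A a), fun i => ?_, fun i _ => nonempty_iso (fun i => Twist.twistProjSpace n A (a + i)) (n + 1) i,
    fun i hi => isZero_kTerm (fun i => Twist.twistProjSpace n A (a + i)) (n + 1) i (by push_cast; exact hi)⟩
  refine Groth.Agent.PerfB.KoszulMod.koszulCx_exactAt _ _ _ (fun x => ?_) i
  obtain ⟨j, hj⟩ := Groth.Agent.PerfB.ProjSpaceCover.exists_mem_basicOpen_X n A x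
  exact ⟨_, hj, j, fun U hU i => Groth.Agent.PerfB.TwistMul.mulT_app_bijective _ _ _ _ U hU⟩

end Groth.Agent.S1071
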