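import Groth.Statements.S1067
import Groth.Agent.PerfB.SecProj
import Groth.Agent.PerfB.TwistClosure
import Groth.Agent.PerfB.SecEnd
import Groth.Agent.PerfA.UnitOU
import Groth.Agent.Cohder.SerreVerdier

set_option autoImplicit false
universe u
open CategoryTheory CategoryTheory.Limits AlgebraicGeometry
attribute [local instance] HasDerivedCategory.standard
open Perf

namespace Groth.Agent.S1067

open Groth.Agent.PerfB Groth.Agent.PerfB.TwistDer Groth.Agent.PerfB.TwistClosure Groth.Agent.PerfB.SecProj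
open Groth.Agent.PerfB.SecTwist Groth.Agent.PerfA Groth.Agent.PerfA.ExtZero Groth.Agent.PerfA.Hyp1
open Groth.Agent.Ega2

section General

set_option linter.unusedSectionVars false

variable {T : Type*} [Category* T] [Preadditive T] [HasZeroObject T] [HasShift T ℤ]
  [∀ n : ℤ, (shiftFunctor T n).Additive]

/-- maps `X⟦m⟧ ⟶ K` and maps `X ⟶ K⟦i⟧`. -/
lemma hom_shift_eq_zero {X K : T} (h : ∀ (m : ℤ) (φ : X⟦m⟧ ⟶ K), φ = 0) (i : ℤ) (φ : X ⟶ K⟦i⟧) : φ = 0 := by
  let adj : shiftFunctor T (-i) ⊣ shiftFunctor T i := (shiftEquiv T i).symm.toAdjunction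
  obtain ⟨g, rfl⟩ := (adj.homEquiv _ _).surjective φ
  rw [h (-i) g, homEquiv_zero adj]

/-- Applying a fully faithful functor commuting with shifts. -/
lemma hom_map_eq_zero {X K : T} (h : ∀ (i : ℤ) (φ : X ⟶ K⟦i⟧), φ = 0) (G : T ⥤ T) [G.Full]
    [G.PreservesZeroMorphisms] [G.CommShift ℤ]
    (i : ℤ) (φ : G.obj X ⟶ (G.obj K)⟦i⟧) : φ = 0 := by
  obtain ⟨ψ, hψ⟩ := G.map_surjective (φ ≫ (G.commShiftIso i).inv.app K)
  rw [h i ψ, G.map_zero] at hψ
  rw [← cancel_mono ((G.commShiftIso i).inv.app K), ← hψ, zero_comp]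

lemma hom_map_eq_zero' {X K : T} (h : ∀ (i : ℤ) (φ : X ⟶ K⟦i⟧), φ = 0) (G : T ⥤ T) [G.Full]
    [G.PreservesZeroMorphisms] [G.CommShift ℤ] {X' K' : T} (eX : X' ≅ G.obj X) (eK : G.obj K ≅ K')
    (i : ℤ) (φ : X' ⟶ K'⟦i⟧) : φ = 0 := by
  have h3 := hom_map_eq_zero h G i (eX.inv ≫ φ ≫ (eK.inv)⟦i⟧')
  rw [← cancel_epi eX.inv, ← cancel_mono (eK.inv⟦i⟧'), Category.assoc, h3, comp_zero, zero_comp]

end General

section

variable {n : ℕ} {R : Type u} [CommRing R] {E : CochainComplex (CohB1.ProjSpace n R).Modules ℤ}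

theorem compactSpace_proj (R : Type u) [CommRing R] (n : ℕ) : CompactSpace (Proj (CohB1.polyGrading n R)) := by
  refine ⟨?_⟩
  have h1 : (Set.univ : Set (Proj (CohB1.polyGrading n R))) =
      ⋃ i : Fin (n + 1), ((Proj.basicOpen (CohB1.polyGrading n R) (MvPolynomial.X i) :
        (Proj (CohB1.polyGrading n R)).Opens) : Set (Proj (CohB1.polyGrading n R))) := by
    rw [← TopologicalSpace.Opens.coe_iSup, ProjSpaceCover.iSup_basicOpen_X n R, TopologicalSpace.Opens.coe_top]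
  rw [h1]
  exact isCompact_iUnion fun i =>
    (Proj.isAffineOpen_basicOpen (CohB1.polyGrading n R) (MvPolynomial.X i) (MvPolynomial.isHomogeneous_X _ i)
      one_pos).isCompact

/-- The terms of the sequence. -/
noncomputable def seqIso (a : CohB1.polyGrading n R 1) (k : ℕ) :
    (twD n R (k : ℤ)).obj (DerivedCategory.Q.obj E) ≅ (seq E (Lseq a)).obj k :=
  (twM n R (k : ℤ)).mapDerivedCategoryFactors.app E

/-- `O = O(-k)(k)`. -/
noncomputable def unitIso (k : ℤ) :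
    P 0 (⊤ : (CohB1.ProjSpace n R).Opens) ≅ (twD n R k).obj (DCoh.inD _ (tw n R (-k))) :=
  (DerivedCategory.singleFunctor _ 0).mapIso ((UnitOU.unitIsoOU _).symm ≪≫ twZero n R) ≪≫
    (twDSingle n R (-k) k 0 (by ring)).symm

lemma hom_seq_eq_zero (h2 : ∀ (d i : ℤ)
      (φ : DCoh.inD (CohB1.ProjSpace n R) (Twist.twistProjSpace n R d) ⟶
        (DerivedCategory.Q.obj E)⟦i⟧), φ = 0) (a : CohB1.polyGrading n R 1) (k : ℕ) (i : ℤ)
    (φ : P 0 (⊤ : (CohB1.ProjSpace n R).Opens) ⟶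
      (DerivedCategory.Q.obj ((tcx E).obj (tw n R (k : ℤ))))⟦i⟧) : φ = 0 := by
  have : (twD n R (k : ℤ)).Full := (twDEquiv n R (k : ℤ)).full_functor
  exact hom_map_eq_zero' (h2 (-(k : ℤ))) (twD n R (k : ℤ)) (unitIso (k : ℤ)) (seqIso (E := E) a k) i φ

end

/-- Stacks Tag 0A9V: let R be a ring and X = P^n_R. The object O_X ⊕ O_X(-1) ⊕ … ⊕ O_X(-n) generates D_QCoh(O_X): if K ∈ D(O_X) has quasi-coherent cohomology sheaves and every morphism O_X(-d)[m] ⟶ K with 0 ≤ d ≤ n and m ∈ ℤ is zero, then K = 0. -/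
theorem result (n : ℕ) (R : Type u) [CommRing R]
    (K : DCoh.D (CohB1.ProjSpace n R)) (hK : DCoh.IsQCohD K)
    (h : ∀ (d : ℕ), d ≤ n → ∀ (m : ℤ) (φ : (DCoh.inD (CohB1.ProjSpace n R) (Twist.twistProjSpace n R (-(d : ℤ))))⟦m⟧ ⟶ K), φ = 0) :
    IsZero K := by
  have hc := compactSpace_proj R n
  -- all twists
  have h1 : ∀ (d m : ℤ)
      (φ : (DCoh.inD (CohB1.ProjSpace n R) (Twist.twistProjSpace n R d))⟦m⟧ ⟶ K), φ = 0 := by
    refine hom_from_twist_eq_zero K (-(n : ℤ)) ?_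
    intro i hi m
    have e : (-(n : ℤ) + (i : ℤ)) = -(((n - i : ℕ) : ℤ)) := by omega
    rw [e]
    exact h (n - i) (Nat.sub_le n i) m
  let E := DerivedCategory.Q.objPreimage K
  let eK : DerivedCategory.Q.obj E ≅ K := DerivedCategory.Q.objObjPreimageIso K
  have hE : DCoh.IsQCohD (DerivedCategory.Q.obj E) := QCohD.isQCohD_of_iso eK.symm hK
  have h2 : ∀ (d i : ℤ)
      (φ : DCoh.inD (CohB1.ProjSpace n R) (Twist.twistProjSpace n R d) ⟶
        (DerivedCategory.Q.obj E)⟦i⟧), φ = 0 := by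
    intro d i φ
    have := hom_shift_eq_zero (h1 d) i (φ ≫ (eK.hom)⟦i⟧')
    rwa [← cancel_mono ((eK.hom)⟦i⟧'), zero_comp]
  -- the cohomology sheaves have no sections over `D_+(X_j)`
  have key : ∀ (q : ℤ) (j : Fin (n + 1)) (s : Γ((tL (E.homology q)).obj (Twist.twist (CohB1.polyGrading n R) ((0 : ℕ) : ℤ)),
      Proj.basicOpen (CohB1.polyGrading n R) (MvPolynomial.X j))), s = 0 := by
    intro q j
    let a : CohB1.polyGrading n R 1 := ⟨MvPolynomial.X j, MvPolynomial.isHomogeneous_X _ _⟩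
    refine sections_eq_zero (L := Lseq a) (fun k => isInvertible_tw n R (k : ℤ))
      (Proj.isAffineOpen_basicOpen _ a.1 a.2 one_pos) ?_ hE ?_ q
    · intro x
      obtain ⟨i, hi⟩ := ProjSpaceCover.exists_mem_basicOpen_X n R x
      exact ⟨_, hi, dat_Lseq a ⟨MvPolynomial.X i, MvPolynomial.isHomogeneous_X _ _⟩⟩
    · intro k i φ
      exact hom_seq_eq_zero h2 a k i φ
  have h4 : IsZero ((twD n R 0).obj (DerivedCategory.Q.obj E)) := by
    refine IsZero.of_iso ?_ ((twM n R 0).mapDerivedCategoryFactors.app E)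
    rw [Cohder.SerreVerdier.isZero_iff_homology]
    intro q
    have hL : PreservesFiniteLimits (DCoh.tensorRightMod (tw n R 0)) := inferInstance
    refine IsZero.of_iso ?_ (homI E q (tw n R 0))
    refine SecEnd.isZero_of_affine_sections _ ?_ ?_
    · exact TensInv.isQCoh_tensorRightMod (isInvertible_tw n R 0) _ ((QCohD.isQCohD_Q_iff E).1 hE q)
    · intro x
      obtain ⟨i, hi⟩ := ProjSpaceCover.exists_mem_basicOpen_X n R x
      exact ⟨_, Proj.isAffineOpen_basicOpen _ _ (MvPolynomial.isHomogeneous_X R i) one_pos, hi, key q i⟩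
  exact (h4.of_iso ((twDZero n R).app _).symm).of_iso eK.symm

end Groth.Agent.S1067
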