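import Groth.Statements.S1070
import Groth.Agent.PerfB.ProjTop
import Groth.Agent.PerfB.ProjBeil

set_option autoImplicit false
universe u
open CategoryTheory CategoryTheory.Limits AlgebraicGeometry Opposite
attribute [local instance] HasDerivedCategory.standard
open Perf

namespace Groth.Agent.S1070

section Forward

open Groth.Agent.Dcoh.DerSch Groth.Agent.PerfA
open Groth.Agent.PerfB Groth.Agent.PerfB.TwistDer Groth.Agent.PerfB.PcDev Groth.Agent.PerfB.PcTop
  Groth.Agent.PerfB.TensD Groth.Agent.PerfB.ProjPush Groth.Agent.PerfB.ProjBeil Groth.Agent.PerfB.ProjTop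

attribute [local instance] rpushCommShift rpush_isTriangulated

variable (n : ℕ) (A : Type u) [CommRing A] [DCoh.HasRpush (pr n A)]

/-- `Rπ_* K(d)` is pseudo-coherent if `K` is. -/
theorem pc_F (d : ℤ) {K : DCoh.D (CohB1.ProjSpace n A)} (hK : PC K) : PC ((F n A d).obj K) := by
  obtain ⟨c, -, hc⟩ := exists_amp (pr n A)
  refine pc_map (F n A d) c (fun K b hK hb => ?_) ((pcP _).inverseImage (F n A d))
    (topEpi_proj _ fun e => ?_) (fun P hP => hP) hK
  · exact hc _ b (isQCohD_tw n A d hK) (ExactD.isLE_map _ _ b)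
  · exact PC.of_iso ((DCoh.Rpush (pr n A)).mapIso (twDSingle n A e d (e + d) rfl).symm)
      (pc_Rpush_tw n A (e + d))

end Forward

open Groth.Agent.PerfB Groth.Agent.PerfB.TwistDer Groth.Agent.PerfB.PcDev Groth.Agent.PerfB.ProjBeil in
/-- Stacks Tag 0CSG, equivalence of (1) and (5): let A be a ring, X = P^n_A with structure morphism π : X ⟶ Spec A, and K ∈ D(O_X) with quasi-coherent cohomology sheaves. Assuming Rπ_* and the derived functors - ⊗^L O_X(d) exist, K is pseudo-coherent (m-pseudo-coherent for all m) if and only if Rπ_*(K ⊗^L O_X(d)) is pseudo-coherent on Spec A for each d = 0, 1, …, n. (The source states (5) with RΓ(X, -) in D(A); on the affine scheme Spec A the two formulations correspond under D(A) ≃ D_QCoh(Spec A).) -/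
theorem result (n : ℕ) (A : Type u) [CommRing A]
    [DCoh.HasRpush (CohB1.ProjSpace.toSpec n A)] [∀ d : ℤ, DCoh.HasLTensorMod (Twist.twistProjSpace n A d)]
    (K : DCoh.D (CohB1.ProjSpace n A)) (hK : DCoh.IsQCohD K) :
    (∀ m : ℤ, DCoh.IsPseudoCoherentD m K) ↔
      ∀ d : ℕ, d ≤ n → ∀ m : ℤ, DCoh.IsPseudoCoherentD m
        ((DCoh.Rpush (CohB1.ProjSpace.toSpec n A)).obj ((DCoh.LTensorMod (Twist.twistProjSpace n A (d : ℤ))).obj K)) := by
  have e : ∀ d : ℕ, (DCoh.Rpush (CohB1.ProjSpace.toSpec n A)).obj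
      ((DCoh.LTensorMod (Twist.twistProjSpace n A (d : ℤ))).obj K) ≅ (F n A (d : ℤ)).obj K := fun d =>
    (DCoh.Rpush (CohB1.ProjSpace.toSpec n A)).mapIso ((LTensorTw n A (d : ℤ)).app K)
  constructor
  · intro h d _
    exact PC.of_iso (e d).symm (pc_F n A d h)
  · intro h
    exact pc_of_twists n A hK fun d hd => PC.of_iso (e d) (h d hd)

end Groth.Agent.S1070
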