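import Groth.Statements.S0956
import Groth.Agent.Dcoh.TensAssoc

set_option autoImplicit false
universe u
open CategoryTheory
attribute [local instance] HasDerivedCategory.standard
open DCoh

namespace Groth.Agent.S0956

open AlgebraicGeometry in
/-- Stacks Tag 079R (schemes): if K and L are K-flat complexes of O_X-modules then the total tensor complex K ⊗ L is K-flat. -/
theorem result {X : Scheme.{u}} (K L : CochainComplex X.Modules ℤ) (hK : DCoh.IsKFlat K) (hL : DCoh.IsKFlat L) :
    DCoh.IsKFlat ((DCoh.tensorCx.obj K).obj L) := by
  exact Groth.Agent.Dcoh.TensAssoc.isKFlat_tensor K L hK hL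

end Groth.Agent.S0956
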