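import Groth.Statements.S1118
-- import your own Groth.Agent.* helpers here
import Groth.Agent.PerfC.LpullTens
import Groth.Agent.PerfC.ThetaShift
import Groth.Agent.PerfC.LTXRestr
import Groth.Agent.PerfC.ProjAbs291

set_option autoImplicit false
universe u
open CategoryTheory CategoryTheory.Limits AlgebraicGeometry Opposite
attribute [local instance] HasDerivedCategory.standard
open Perf

namespace Groth.Agent.S1118

/-- The projection map is an isomorphism for objects with quasi-coherent cohomology. -/
theorem isIso_theta_app {X Y : Scheme.{u}} (f : X ⟶ Y) [QuasiCompact f] [QuasiSeparated f] [DCoh.HasRpush f]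
    [DCoh.HasLpull f] (E : DCoh.D X) (hE : DCoh.IsQCohD E) (K : DCoh.D Y) (hK : DCoh.IsQCohD K) :
    IsIso ((PerfC.LpullTens.theta f E).app K) := by
  refine PerfC.ProjAbs291.isIso_app (fun j _ A B => ⟨PerfC.LTXRestr.restrTensObj j A B⟩) f hE
    (PerfC.LpullTens.theta f E) (fun n => ?_) hK
  have h := PerfC.LpullTens.isIso_theta_shift f E n
  exact (NatTrans.isIso_app_iff_of_iso (PerfC.LpullTens.theta f E) ((shiftFunctor (DCoh.D Y) n).mapIso
    ((DerivedCategory.singleFunctorIsoCompQ Y.Modules 0).symm.app (Coh.structureModule Y)))).1 h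

/-- Stacks Tag 08EU, weak form: let f : X ⟶ Y be quasi-compact and quasi-separated, E ∈ D(O_X) with quasi-coherent cohomology sheaves, K a cochain complex of O_Y-modules whose image in D(O_Y) has quasi-coherent cohomology sheaves, and M a cochain complex of O_X-modules representing Lf^*K. Assuming the derived functors involved exist, Rf_*(E) ⊗^L K and Rf_*(E ⊗^L M) are isomorphic in D(O_Y). (The source proves that the canonical projection-formula map is an isomorphism; only the existence of an isomorphism is asserted here.) -/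
theorem result {X Y : Scheme.{u}} (f : X ⟶ Y) [QuasiCompact f] [QuasiSeparated f] [DCoh.HasRpush f] [DCoh.HasLpull f]
    (E : DCoh.D X) (hE : DCoh.IsQCohD E) (K : CochainComplex Y.Modules ℤ) (hK : DCoh.IsQCohD (DCoh.toD Y K)) [DCoh.HasLTensorCx K]
    (M : CochainComplex X.Modules ℤ) (hM : Nonempty (DCoh.toD X M ≅ (DCoh.Lpull f).obj (DCoh.toD Y K))) [DCoh.HasLTensorCx M] :
    Nonempty ((DCoh.LTensorCx K).obj ((DCoh.Rpush f).obj E) ≅ (DCoh.Rpush f).obj ((DCoh.LTensorCx M).obj E)) := by
  obtain ⟨eM⟩ := hM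
  have h := isIso_theta_app f E hE (DCoh.toD Y K) hK
  exact ⟨(PerfC.DTens.LTXcxObj ((DCoh.Rpush f).obj E) K).symm ≪≫
    @asIso _ _ _ _ ((PerfC.LpullTens.theta f E).app (DCoh.toD Y K)) h ≪≫
    (DCoh.Rpush f).mapIso (((PerfC.DTens.LTX X).obj E).mapIso eM.symm ≪≫ PerfC.DTens.LTXcxObj E M)⟩

end Groth.Agent.S1118
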