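import Groth.Statements.S0009
import Groth.Agent.CohqA.IdealMod

set_option autoImplicit false
universe u
open Coherent

namespace Groth.Agent.S0009

open AlgebraicGeometry CategoryTheory in
/-- Stacks Tag 01XF (Serre's criterion for affineness). If X is quasi-compact and H^1 vanishes for every quasi-coherent submodule of the structure sheaf, then X is affine. A quasi-coherent sheaf of ideals is modelled as a quasi-coherent module with a monomorphism into the structure sheaf. -/
theorem result (X : Scheme.{u}) [CompactSpace X]
    (h : ∀ (I : X.Modules) (i : I ⟶ Coh.structureModule X), Mono i →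
      Coh.IsQCoh I → Subsingleton (Coh.HH X I 1)) : IsAffine X := by
  refine CohqA.AffCrit.isAffine_of_liftProp fun K ↦ CohqA.IdealMod.liftProp_of_H1 K ?_
  exact h (ClSub.idealMod K) (ClSub.idealModι K) (CohqA.IdealMod.mono_idealModι K)
    (CohqA.IdealMod.isQCoh_idealMod K)

end Groth.Agent.S0009
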