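import Groth.Statements.S0045
import Groth.Agent.CohqB.FiniteType2
import Groth.Agent.CohqB.AffIso

set_option autoImplicit false
universe u
open Coherent

namespace Groth.Agent.S0045

open AlgebraicGeometry CategoryTheory TopologicalSpace in
theorem exists_finite_affine_cover (X : Scheme.{u}) [CompactSpace X] :
    ∃ (s : Set X.Opens), s.Finite ∧ (∀ V ∈ s, IsAffineOpen V) ∧ ∀ x : X, ∃ V ∈ s, x ∈ V := by
  have h : ∀ x : X, ∃ V : X.Opens, IsAffineOpen V ∧ x ∈ V := fun x => by
    obtain ⟨V, hV, hx, -⟩ := exists_isAffineOpen_mem_and_subset (x := x) (U := ⊤) trivial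
    exact ⟨V, hV, hx⟩
  choose V hV hx using h
  obtain ⟨t, ht⟩ := isCompact_univ.elim_finite_subcover (fun x => (V x : Set X))
    (fun x => (V x).2) (fun x _ => Set.mem_iUnion.mpr ⟨x, hx x⟩)
  refine ⟨V '' (t : Set X), t.finite_toSet.image _, ?_, ?_⟩
  · rintro _ ⟨x, -, rfl⟩
    exact hV x
  · intro x
    obtain ⟨y, hy⟩ := Set.mem_iUnion.mp (ht (Set.mem_univ x))
    obtain ⟨hyt, hxy⟩ := Set.mem_iUnion.mp hy
    exact ⟨V y, ⟨y, hyt, rfl⟩, hxy⟩

open TopologicalSpace CohqB.FiniteType2 CohqB.AffIso in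

open AlgebraicGeometry CategoryTheory in
/-- Stacks Tag 01Y8. On a Noetherian scheme, any increasing sequence of quasi-coherent submodules of a coherent module is eventually constant. -/
theorem result (X : Scheme.{u}) [IsNoetherian X] (M : X.Modules)
    (hM : Coh.IsCoh M) (F : ℕ →o Subobject M) (hF : ∀ n, Coh.IsQCoh ((F n : Subobject M) : X.Modules)) :
    ∃ n : ℕ, ∀ m : ℕ, n ≤ m → F m = F n := by
  have : Coh.IsQCoh M := hM.1
  obtain ⟨s, hs, hsaff, hscov⟩ := exists_finite_affine_cover X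
  have key : ∀ V : s, ∃ n : ℕ, ∀ m : ℕ, n ≤ m →
      LinearMap.range (appLinear (F n).arrow V.1) = LinearMap.range (appLinear (F m).arrow V.1) := by
    intro V
    have hV := hsaff V.1 V.2
    have := finite_sections_of_isFT M hM.2 hV
    have : IsNoetherianRing Γ(X, V.1) := IsLocallyNoetherian.component_noetherian ⟨V.1, hV⟩
    have hN : IsNoetherian Γ(X, V.1) Γ(M, V.1) := inferInstance
    refine monotone_stabilizes_iff_noetherian.mpr hN
      ⟨fun n => LinearMap.range (appLinear (F n).arrow V.1), ?_⟩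
    intro n m hnm
    rintro _ ⟨x, rfl⟩
    refine ⟨(Subobject.ofLE _ _ (F.monotone hnm)).app V.1 x, ?_⟩
    rw [appLinear_apply, appLinear_apply]
    have h1 := Subobject.ofLE_arrow (F.monotone hnm)
    conv_rhs => rw [← h1]
    rfl
  choose n hn using key
  have : Finite s := hs
  obtain ⟨N, hN⟩ := Set.Finite.bddAbove (Set.finite_range n)
  refine ⟨N, fun m hm => ?_⟩
  let j := Subobject.ofLE _ _ (F.monotone hm)
  have := hF m
  have := hF N
  have hj : IsIso j := by
    refine isIso_of_affine_cover j fun x => ?_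
    obtain ⟨V, hV, hxV⟩ := hscov x
    refine ⟨V, hxV, hsaff V hV, appLinear_injective j V, fun y => ?_⟩
    have h1 : (appLinear (F m).arrow V y) ∈ LinearMap.range (appLinear (F N).arrow V) := by
      have hVN : n ⟨V, hV⟩ ≤ N := hN ⟨⟨V, hV⟩, rfl⟩
      rw [← hn ⟨V, hV⟩ N hVN, hn ⟨V, hV⟩ m (hVN.trans hm)]
      exact ⟨y, rfl⟩
    obtain ⟨x, hx⟩ := h1
    refine ⟨x, appLinear_injective (F m).arrow V ?_⟩
    rw [← hx, appLinear_apply, appLinear_apply]
    have h1 := Subobject.ofLE_arrow (F.monotone hm)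
    conv_rhs => rw [← h1]
    rfl
  refine le_antisymm ?_ (F.monotone hm)
  exact Subobject.le_of_comm (inv j) (by rw [IsIso.inv_comp_eq]; exact (Subobject.ofLE_arrow _).symm)

end Groth.Agent.S0045
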