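import Groth.Statements.S0027
import Groth.Agent.CohqA.DevInd

set_option autoImplicit false
universe u
open Coherent

namespace Groth.Agent.S0027

open AlgebraicGeometry CategoryTheory CategoryTheory.Limits in
/-- Stacks Tag 01YG. Let X be a nonempty Noetherian scheme and P an isomorphism-invariant property of O_X-modules such that (1) in a short exact sequence of coherent modules, P for the outer terms implies P for the middle one, and (2) P holds for the direct image of every quasi-coherent ideal sheaf of every integral closed subscheme. Then P holds for every coherent module. (Nonemptiness of X is needed for the zero module; Stacks leaves it implicit.) -/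
theorem result (X : Scheme.{u}) [IsNoetherian X] [Nonempty X]
    (P : X.Modules → Prop) (hP : ∀ M N : X.Modules, Nonempty (M ≅ N) → P M → P N)
    (h₁ : ∀ S : ShortComplex X.Modules, S.ShortExact → Coh.IsCoh S.X₁ → Coh.IsCoh S.X₂ →
      Coh.IsCoh S.X₃ → P S.X₁ → P S.X₃ → P S.X₂)
    (h₂ : ∀ (Z : Scheme.{u}) (i : Z ⟶ X), IsClosedImmersion i → IsIntegral Z →
      ∀ (I : Z.Modules) (ι : I ⟶ Coh.structureModule Z), Mono ι → Coh.IsQCoh I →
        P ((Coh.push i).obj I))
    (M : X.Modules) (hM : Coh.IsCoh M) : P M := by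
  have hzero : ∀ N : X.Modules, IsZero N → P N := by
    intro N hN
    obtain ⟨Z, i, hi, hZ, -⟩ := Groth.Agent.CohqA.IntClosed.exists_integral (Classical.arbitrary X)
    obtain ⟨O, h0⟩ : ∃ O : Z.Modules, IsZero O := ⟨_, isZero_zero _⟩
    have hq : Coh.IsQCoh O := (Groth.Agent.PerfA.CohSerre.isCoh_of_isZero h0).1
    refine hP _ _ ⟨?_⟩ (h₂ Z i hi hZ O 0 (h0.mono _) hq)
    exact ((Coh.push i).map_isZero h0).iso hN
  refine Groth.Agent.CohqA.DevInd.coh_induction P hP hzero ?_ M hM
  intro A B f hf hA hB hq hPA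
  obtain ⟨Z, i, hi, hZ, I, ι, hι, hI, hI0, ⟨e⟩⟩ := hq
  have hse : (ShortComplex.mk f (cokernel.π f) (cokernel.condition f)).ShortExact :=
    { exact := ShortComplex.exact_of_g_is_cokernel _ (cokernelIsCokernel f) }
  exact h₁ _ hse hA hB (Groth.Agent.PerfA.CohSerre.isCoh_cokernel f hA.1 hB) hPA
    (hP _ _ ⟨e.symm⟩ (h₂ Z i hi hZ I ι hι hI))

end Groth.Agent.S0027
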