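import Groth.Statements.S0846
import Groth.Agent.FormalB.TwistExt
import Groth.Agent.FormalB.ProjCover
import Groth.Agent.CohqB.FiniteType2

set_option autoImplicit false
universe u
open Coherent

namespace Groth.Agent.S0846

open CategoryTheory CategoryTheory.Limits AlgebraicGeometry in
/-- Stacks Tag 0B5Q, part (1). Let A be a Noetherian graded ring (graded by ℕ as an R-algebra) and X = Proj A. Then every coherent O_X-module is a quotient of a finite coproduct of twisting modules O_X(d_1), …, O_X(d_r). -/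
theorem result {R A : Type u} [CommRing R] [CommRing A] [Algebra R A]
    (𝒜 : ℕ → Submodule R A) [GradedAlgebra 𝒜] [IsNoetherianRing A] (F : (Proj 𝒜).Modules) (hF : Coh.IsCoh F) :
    ∃ (r : ℕ) (d : Fin r → ℤ) (φ : (∐ fun j : Fin r => Twist.twist 𝒜 (d j)) ⟶ F), Epi φ := by
  classical
  obtain ⟨n, f, c, hc, hf, hcov⟩ := Groth.Agent.FormalB.ProjCover.exists_cover 𝒜
  have hFq := hF.1
  have hfin : ∀ i, ∃ s : Finset Γ(F, Proj.basicOpen 𝒜 (f i)), Submodule.span Γ(Proj 𝒜, Proj.basicOpen 𝒜 (f i)) (s : Set Γ(F, Proj.basicOpen 𝒜 (f i))) = ⊤ := by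
    intro i
    have h1 : Module.Finite Γ(Proj 𝒜, Proj.basicOpen 𝒜 (f i)) Γ(F, Proj.basicOpen 𝒜 (f i)) :=
      @Groth.Agent.CohqB.FiniteType2.finite_sections_of_isFT _ F hF.1 hF.2 _
        (Proj.isAffineOpen_basicOpen 𝒜 (f i) (hf i) hc)
    exact h1.1
  choose s hs using hfin
  choose N ψ t ht using fun p : (Σ i : Fin n, s i) =>
    Groth.Agent.FormalB.TwistExt.exists_hom_of_section hf hcov hc hF.1 p.1 p.2.1
  let K := Σ i : Fin n, s i
  let eK : Fin (Fintype.card K) ≃ K := (Fintype.equivFin K).symm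
  refine ⟨Fintype.card K, fun j => -((N (eK j) * c : ℕ) : ℤ), Sigma.desc (fun j => ψ (eK j)), ?_⟩
  set Φ : (∐ fun j : Fin (Fintype.card K) => Twist.twist 𝒜 (-((N (eK j) * c : ℕ) : ℤ))) ⟶ F :=
    Sigma.desc (fun j => ψ (eK j)) with hΦ
  -- every section over `D_+(f_i)` is in the image
  have hsec : ∀ (i : Fin n) (w : Γ(F, Proj.basicOpen 𝒜 (f i))), ∃ z, Φ.app _ z = w := by
    intro i w
    have hw : w ∈ Submodule.span Γ(Proj 𝒜, Proj.basicOpen 𝒜 (f i)) (s i : Set Γ(F, Proj.basicOpen 𝒜 (f i))) := by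
      rw [hs i]; trivial
    induction hw using Submodule.span_induction with
    | mem w hw =>
      let p : K := ⟨i, ⟨w, hw⟩⟩
      obtain ⟨j, hj⟩ := eK.surjective p
      have hp : ∀ q : K, eK j = q → ∃ z, Φ.app (Proj.basicOpen 𝒜 (f q.1)) z = q.2.1 := by
        rintro q rfl
        refine ⟨(Sigma.ι (fun j : Fin (Fintype.card K) => Twist.twist 𝒜 (-((N (eK j) * c : ℕ) : ℤ))) j).app _
          (t (eK j)), ?_⟩
        have h1 : Sigma.ι (fun j : Fin (Fintype.card K) => Twist.twist 𝒜 (-((N (eK j) * c : ℕ) : ℤ))) j ≫ Φ =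
            ψ (eK j) := Sigma.ι_desc _ _
        rw [← ht (eK j), ← h1]
        rfl
      exact hp p hj
    | zero => exact ⟨0, map_zero _⟩
    | add w w' _ _ h h' =>
      obtain ⟨z, rfl⟩ := h
      obtain ⟨z', rfl⟩ := h'
      exact ⟨z + z', map_add _ _ _⟩
    | smul a w _ h =>
      obtain ⟨z, rfl⟩ := h
      exact ⟨a • z, Scheme.Modules.Hom.app_smul _ _ _⟩
  constructor
  intro G g h hgh
  apply Scheme.Modules.hom_ext
  intro U
  ext y
  refine Groth.Agent.FormalB.GlueHom.eq_of_local G fun x hx => ?_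
  obtain ⟨i, hi⟩ := hcov x
  have haff := Proj.isAffineOpen_basicOpen 𝒜 (f i) (hf i) hc
  obtain ⟨b, hb, hxb⟩ := haff.exists_basicOpen_le (V := U) ⟨x, hx⟩ hi
  refine ⟨(Proj 𝒜).basicOpen b, hb, hxb, ?_⟩
  rw [← Groth.Agent.FormalB.GlueHom.app_res, ← Groth.Agent.FormalB.GlueHom.app_res]
  obtain ⟨m, w, hw⟩ := (Groth.Agent.CohqB.QC2.loc_of_isQuasicoherent F haff).exists_lift b
    (Groth.Agent.FormalB.GlueHom.res F hb y)
  have hw' : Groth.Agent.FormalB.GlueHom.res F ((Proj 𝒜).basicOpen_le b) w =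
      ((Proj 𝒜).presheaf.map (homOfLE ((Proj 𝒜).basicOpen_le b)).op b) ^ m •
        Groth.Agent.FormalB.GlueHom.res F hb y := hw
  have hu : IsUnit (((Proj 𝒜).presheaf.map (homOfLE ((Proj 𝒜).basicOpen_le b)).op b) ^ m) :=
    (RingedSpace.isUnit_res_basicOpen (Proj 𝒜).toRingedSpace b).pow m
  obtain ⟨z, rfl⟩ := hsec i w
  rw [← Groth.Agent.FormalB.GlueHom.app_res] at hw'
  have h1 : ∀ e : F ⟶ G, e.app _ (Φ.app _ (Groth.Agent.FormalB.GlueHom.res _ ((Proj 𝒜).basicOpen_le b) z)) =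
      ((Proj 𝒜).presheaf.map (homOfLE ((Proj 𝒜).basicOpen_le b)).op b) ^ m •
        e.app _ (Groth.Agent.FormalB.GlueHom.res F hb y) := by
    intro e
    rw [hw', Scheme.Modules.Hom.app_smul]
  have h2 : ∀ q, g.app ((Proj 𝒜).basicOpen b) (Φ.app _ q) = h.app _ (Φ.app _ q) := fun q =>
    congrArg (fun e => Scheme.Modules.Hom.app e ((Proj 𝒜).basicOpen b) q) hgh
  have h3 := h2 (Groth.Agent.FormalB.GlueHom.res _ ((Proj 𝒜).basicOpen_le b) z)
  rw [h1, h1] at h3
  exact hu.smul_left_cancel.mp h3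

end Groth.Agent.S0846
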