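import Groth.Statements.S0223
import Groth.Agent.S0034
import Groth.Agent.CurvesA.HHMap
import Groth.Agent.CurvesC.UnitCoh
import Mathlib.LinearAlgebra.Dimension.Constructions

set_option autoImplicit false
universe u
open CategoryTheory CategoryTheory.Limits AlgebraicGeometry
open Curves

namespace Groth.Agent.S0223

theorem finrank_eq (k : Type u) [Field k] (X : Scheme.{u}) [X.Over (Spec (CommRingCat.of k))]
    [IsProper (X ↘ Spec (CommRingCat.of k))]
    (k' : Type u) [Field k'] [Algebra k k'] (X' : Scheme.{u}) [X'.Over (Spec (CommRingCat.of k'))]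
    (g : X' ⟶ X)
    (hpb : IsPullback g (X' ↘ Spec (CommRingCat.of k')) (X ↘ Spec (CommRingCat.of k))
      (Spec.map (CommRingCat.ofHom (algebraMap k k')))) (i : ℕ) :
    Module.finrank k' (Coh.HH X' (Coh.structureModule X') i) =
        Module.finrank k (Coh.HH X (Coh.structureModule X) i) := by
  have : CompactSpace X :=
    (quasiCompact_iff_compactSpace (f := X ↘ Spec (CommRingCat.of k))).mp inferInstance
  have : QuasiSeparatedSpace X :=
    (quasiSeparated_iff_quasiSeparatedSpace (f := X ↘ Spec (CommRingCat.of k))).mp inferInstance
  have := CurvesC.UnitCoh.isQCoh_unit X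
  obtain ⟨e⟩ := Groth.Agent.S0034.result k k' X X' g hpb (Coh.structureModule X) i
  rw [← Module.finrank_baseChange (R := k') (M' := Coh.HH X (Coh.structureModule X) i)]
  exact ((e.trans (CurvesA.HHMap.equivOver k' (CurvesA.HHMap.pullbackUnit g) i)).finrank_eq).symm

/-- Stacks Tag 0BY9 (curves): for a proper one-dimensional scheme X over a field k with only constant global functions, base change to a field extension k' keeps the global functions equal to the constants and keeps the genus dim H^1(X, O_X). The base change is given as any pullback square. -/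
theorem result (k : Type u) [Field k] (X : Scheme.{u}) [X.Over (Spec (CommRingCat.of k))]
    [IsProper (X ↘ Spec (CommRingCat.of k))] (hdim : topologicalKrullDim X = 1)
    (h0 : Module.finrank k (Coh.HH X (Coh.structureModule X) 0) = 1)
    (k' : Type u) [Field k'] [Algebra k k'] (X' : Scheme.{u}) [X'.Over (Spec (CommRingCat.of k'))]
    (g : X' ⟶ X)
    (hpb : IsPullback g (X' ↘ Spec (CommRingCat.of k')) (X ↘ Spec (CommRingCat.of k))
      (Spec.map (CommRingCat.ofHom (algebraMap k k')))) :
    Module.finrank k' (Coh.HH X' (Coh.structureModule X') 0) = 1 ∧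
      Module.finrank k' (Coh.HH X' (Coh.structureModule X') 1) =
        Module.finrank k (Coh.HH X (Coh.structureModule X) 1) :=
  ⟨(finrank_eq k X k' X' g hpb 0).trans h0, finrank_eq k X k' X' g hpb 1⟩

end Groth.Agent.S0223
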