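import Groth.Statements.S0189
import Groth.Agent.S0187
import Groth.Agent.S0188

set_option autoImplicit false
universe u v w
open scoped TensorProduct
open Curves

namespace Groth.Agent.S0189

/-- Stacks Tag 074T (brauer): double centralizer: a simple subalgebra of a finite central simple algebra is the centralizer of its centralizer. -/
theorem result (k : Type u) [Field k] (A : Type v) [Ring A] [Algebra k A]
    [Algebra.IsCentral k A] [IsSimpleRing A] [FiniteDimensional k A]
    (B : Subalgebra k A) [IsSimpleRing B] :
    Subalgebra.centralizer k (Subalgebra.centralizer k (B : Set A) : Set A) = B := by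
  have h0 := Groth.Agent.S0187.result k A B
  have h1 := Groth.Agent.S0188.result k A B
  have h2 := Groth.Agent.S0188.result k A (Subalgebra.centralizer k (B : Set A))
  have hle : B ≤ Subalgebra.centralizer k (Subalgebra.centralizer k (B : Set A) : Set A) :=
    (Subalgebra.le_centralizer_iff B _).2 le_rfl
  have hpos : 0 < Module.finrank k (Subalgebra.centralizer k (B : Set A)) := Module.finrank_pos
  have h3 : Module.finrank k B = Module.finrank k
      (Subalgebra.centralizer k (Subalgebra.centralizer k (B : Set A) : Set A)) := by
    have : Module.finrank k B * Module.finrank k (Subalgebra.centralizer k (B : Set A)) =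
      Module.finrank k (Subalgebra.centralizer k (Subalgebra.centralizer k (B : Set A) : Set A)) *
        Module.finrank k (Subalgebra.centralizer k (B : Set A)) := by
      rw [← h1, h2, mul_comm]
    exact Nat.eq_of_mul_eq_mul_right hpos this
  have h4 := Submodule.eq_of_le_of_finrank_eq (S₁ := Subalgebra.toSubmodule B)
    (S₂ := Subalgebra.toSubmodule
      (Subalgebra.centralizer k (Subalgebra.centralizer k (B : Set A) : Set A))) hle h3
  exact (Subalgebra.toSubmodule_injective h4).symm

end Groth.Agent.S0189
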