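import Groth.Statements.S1593
import Groth.Agent.CurvesB.NodalCover
import Groth.Agent.S0114
import Groth.Agent.S0115

set_option autoImplicit false
universe u
open CategoryTheory CategoryTheory.Limits AlgebraicGeometry
open Curves

namespace Groth.Agent.S1593

/-- Stacks Tag 0C5D, (2) implies (1): let f : X → S and let g_i : U_i → X be a jointly surjective family of étale morphisms. If every g_i ≫ f is at-worst-nodal of relative dimension one then so is f. -/
theorem result {X S : Scheme.{u}} (f : X ⟶ S) (ι : Type u) (U : ι → Scheme.{u})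
    (g : ∀ i, U i ⟶ X) [∀ i, Etale (g i)] (hsurj : ∀ x : X, ∃ i, x ∈ Set.range (g i).base)
    (h : ∀ i, Curv2.IsNodalFamily (g i ≫ f)) : Curv2.IsNodalFamily f := by
  classical
  let h' : (∐ U : Scheme.{u}) ⟶ X := Limits.Sigma.desc g
  have het : Etale h' := by
    rw [IsZariskiLocalAtSource.iff_of_openCover (P := @Etale) (sigmaOpenCover _)]
    intro i
    have : (sigmaOpenCover U).f i ≫ h' = g i := Limits.Sigma.ι_desc _ _
    rw [this]
    exact (inferInstance : ∀ i : ι, Etale (g i)) i
  have hs : Surjective h' := ⟨fun x => by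
    obtain ⟨i, u, hu⟩ := hsurj x
    refine ⟨Limits.Sigma.ι U i u, ?_⟩
    rw [← Scheme.Hom.comp_apply, Limits.Sigma.ι_desc]
    exact hu⟩
  have hlfp' : LocallyOfFinitePresentation (h' ≫ f) := by
    rw [IsZariskiLocalAtSource.iff_of_openCover (P := @LocallyOfFinitePresentation)
      (sigmaOpenCover _)]
    intro i
    have : (sigmaOpenCover U).f i ≫ h' ≫ f = g i ≫ f := by
      rw [← Category.assoc]
      exact congrArg (· ≫ f) (Limits.Sigma.ι_desc _ _)
    rw [this]
    exact (h i).2.1
  have hflat' : Flat (h' ≫ f) := by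
    rw [IsZariskiLocalAtSource.iff_of_openCover (P := @Flat) (sigmaOpenCover _)]
    intro i
    have : (sigmaOpenCover U).f i ≫ h' ≫ f = g i ≫ f := by
      rw [← Category.assoc]
      exact congrArg (· ≫ f) (Limits.Sigma.ι_desc _ _)
    rw [this]
    exact (h i).1
  have hlfp : LocallyOfFinitePresentation f := Groth.Agent.S0114.result h' f
  have hflat : Flat f := Groth.Agent.S0115.flat_of_comp h' f
  refine ⟨hflat, hlfp, fun s => ⟨Groth.Agent.CurvesB.NodalCover.forall_dim_eq_one f g hsurj h s, ?_⟩⟩
  have hft : LocallyOfFiniteType (f.fiberToSpecResidueField s) :=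
    MorphismProperty.pullback_snd _ _ inferInstance
  let i1 : (f.fiber s).Over (Spec (CommRingCat.of (S.residueField s))) :=
    ⟨f.fiberToSpecResidueField s⟩
  let i2 : ∀ i, ((g i ≫ f).fiber s).Over (Spec (CommRingCat.of (S.residueField s))) :=
    fun i => ⟨(g i ≫ f).fiberToSpecResidueField s⟩
  have : LocallyOfFiniteType (f.fiber s ↘ Spec (CommRingCat.of (S.residueField s))) := hft
  exact Groth.Agent.CurvesB.NodalCover.atWorstNodal_of_etale_cover (S.residueField s)
    (fun i => Groth.Agent.CurvesB.NodalEtale.fiberMap f (g i) s)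
    (fun i => Groth.Agent.CurvesB.NodalEtale.fiberMap_snd f (g i) s)
    (Groth.Agent.CurvesB.NodalCover.exists_fiberMap_eq f g hsurj s)
    (fun p q _ _ _ _ => Groth.Agent.S0115.result p q) (fun i => ((h i).2.2 s).2)

end Groth.Agent.S1593
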