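import Groth.Statements.S1589
import Groth.Agent.CurvesB.NodeSch2

set_option autoImplicit false
universe u
open CategoryTheory CategoryTheory.Limits AlgebraicGeometry
open Curves

namespace Groth.Agent.S1589

/-- Stacks Tag 0E37: let X be locally of finite type over k with all irreducible components of dimension one and at-worst-nodal singularities. Then every local ring of X is Gorenstein and X is geometrically reduced over k. -/
theorem result (k : Type u) [Field k] (X : Scheme.{u}) [X.Over (Spec (CommRingCat.of k))] [LocallyOfFiniteType (X ↘ (Spec (CommRingCat.of k)))]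
    (hequi : ∀ Z ∈ irreducibleComponents (X : Type u), topologicalKrullDim Z = 1) (hX : Curv2.AtWorstNodal k X) :
    (∀ x : X, LocCoh.IsGorensteinLocalRing (X.presheaf.stalk x)) ∧ GeometricallyReduced (X ↘ (Spec (CommRingCat.of k))) :=
  ⟨fun x => Groth.Agent.CurvesB.NodeSch2.isGorensteinLocalRing_of_atWorstNodal k hequi hX x,
    Groth.Agent.CurvesB.NodeSch2.geometricallyReduced_of_atWorstNodal k hX⟩

end Groth.Agent.S1589
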