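import Groth.Statements.S1534
import Groth.Agent.CurvesB.HZero
import Groth.Agent.CurvesB.DimPts
import Groth.Agent.CurvesB.CMDimOne
import Groth.Agent.CurvesB.PointSection

set_option autoImplicit false
universe u
open CategoryTheory CategoryTheory.Limits AlgebraicGeometry
open Curves

namespace Groth.Agent.S1534

open Groth.Agent.CurvesB

/-- Stacks Tag 0BY5: a proper scheme of dimension one over a field k whose global functions are k is connected, all of its local rings are Cohen–Macaulay, and every irreducible component has dimension one. -/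
theorem result (k : Type u) [Field k] (X : Scheme.{u}) [X.Over (Spec (CommRingCat.of k))]
    [IsProper (X ↘ (Spec (CommRingCat.of k)))] (hdim : topologicalKrullDim X = 1) (h0 : Module.finrank k (Coh.HH X (Coh.structureModule X) 0) = 1) :
    ConnectedSpace X ∧ (∀ x : X, LocCoh.IsCohenMacaulayLocalRing (X.presheaf.stalk x)) ∧
      ∀ Z ∈ irreducibleComponents (X : Type u), topologicalKrullDim Z = 1 := by
  have hLN : IsLocallyNoetherian X :=
    LocallyOfFiniteType.isLocallyNoetherian (X ↘ (Spec (CommRingCat.of k)))
  have hconst := HZero.exists_const k h0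
  have hne : Nonempty X := by
    by_contra hcon
    rw [not_nonempty_iff] at hcon
    have : IsEmpty (TopologicalSpace.IrreducibleCloseds X) :=
      ⟨fun Z => Z.isIrreducible.nonempty.elim fun x _ => hcon.elim x⟩
    have h : topologicalKrullDim X = ⊥ := Order.krullDim_eq_bot
    rw [h] at hdim
    simp at hdim
  have hnsub : ¬ Subsingleton X := by
    intro hs
    have h : topologicalKrullDim X ≤ 0 := topologicalKrullDim_zero_of_discreteTopology X
    rw [hdim] at h
    exact absurd h (by decide)
  -- at closed points, no element of the local ring is killed by the maximal ideal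
  have hclosed : ∀ x : X, IsClosed ({x} : Set X) → ∀ a : X.presheaf.stalk x,
      (∀ m ∈ IsLocalRing.maximalIdeal (X.presheaf.stalk x), m * a = 0) → a = 0 := by
    intro x hx a ha
    by_contra ha0
    obtain ⟨s, hs1, hs2⟩ := PointSection.exists_section_of_assoc x hx a ha
    obtain ⟨t, ht⟩ := hconst s
    have ht0 : t ≠ 0 := by
      rintro rfl
      apply ha0
      rw [← hs1, ← ht, map_zero, map_zero]
    apply hnsub
    refine ⟨fun y z => ?_⟩
    have hall : ∀ y : X, y = x := by
      intro y
      by_contra hy
      exact HZero.germ_gl_ne_zero k t ht0 y (ht ▸ hs2 y hy)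
    rw [hall y, hall z]
  refine ⟨?_, ?_, ?_⟩
  · have hpre : PreconnectedSpace X := by
      rw [preconnectedSpace_iff_clopen]
      intro s hs
      by_contra hcon
      push Not at hcon
      obtain ⟨hs1, hs2⟩ := hcon
      obtain ⟨x, hx⟩ := hs1
      obtain ⟨y, hy⟩ := (Set.ne_univ_iff_exists_notMem s).mp hs2
      obtain ⟨r, hr1, hr2⟩ := PointSection.exists_glue (X := X) ⟨s, hs.isOpen⟩ ⟨sᶜ, hs.compl.isOpen⟩ (by
        ext z
        simp) 1 0 (by
        intro z hz1 hz2
        exact absurd hz1 hz2)
      obtain ⟨t, ht⟩ := hconst r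
      have h1 := hr1 x hx
      have h2 := hr2 y hy
      rw [map_one] at h1
      rw [map_zero] at h2
      have ht0 : t ≠ 0 := by
        rintro rfl
        rw [← ht, map_zero, map_zero] at h1
        exact zero_ne_one h1
      exact HZero.germ_gl_ne_zero k t ht0 y (ht ▸ h2)
    exact ⟨hne⟩
  · intro x
    by_cases hx : IsClosed ({x} : Set X)
    · exact CMDimOne.of_dim_one _ (hdim ▸ DimPts.ringKrullDim_stalk_le x) (hclosed x hx)
    · exact CMDimOne.of_dim_zero _ (DimPts.ringKrullDim_stalk_eq_zero_of_not_isClosed hdim.le x hx)
  · intro Z hZ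
    have h1 : topologicalKrullDim Z ≤ 1 := hdim ▸ topologicalKrullDim_subspace_le X Z
    by_contra hcon
    have h2 : topologicalKrullDim Z ≤ 0 := by
      have hlt := lt_of_le_of_ne h1 hcon
      cases h : topologicalKrullDim Z with
      | bot => exact bot_le
      | coe n =>
        rw [h] at hlt
        have h3 : n < 1 := by exact_mod_cast hlt
        have h4 : n = 0 := Order.lt_one_iff.mp h3
        rw [h4]; rfl
    obtain ⟨x, -, hx, hx0⟩ := DimPts.exists_of_component Z hZ h2
    have := CMDimOne.one_le_dim _ (hclosed x hx)
    rw [hx0] at this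
    exact absurd this (by decide)

end Groth.Agent.S1534
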