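import Groth.Statements.S2351
import Groth.Agent.Ega2.Normal
import Mathlib.RingTheory.Localization.Integral
import Mathlib.RingTheory.IntegralClosure.IntegrallyClosed

set_option autoImplicit false
universe u
open CategoryTheory CategoryTheory.Limits AlgebraicGeometry
open EGA2

namespace Groth.Agent.S2351

/-- The integral closure of a domain in its fraction ring is an integrally closed domain. -/
theorem integralClosure_aux {A K : Type*} [CommRing A] [IsDomain A] [CommRing K] [Algebra A K] [IsFractionRing A K] :
    IsDomain (integralClosure A K) ∧ IsIntegrallyClosed (integralClosure A K) := by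
  let _ : Field K := IsFractionRing.toField A
  have h0 : Algebra.IsAlgebraic A K := IsLocalization.isAlgebraic K (nonZeroDivisors A)
  have h1 : IsFractionRing (integralClosure A K) K :=
    integralClosure.isFractionRing_of_algebraic (A := A) (L := K)
      (fun x hx => (IsFractionRing.injective A K) (by rw [hx, map_zero]))
  refine ⟨inferInstance, ?_⟩
  rw [isIntegrallyClosed_iff_isIntegrallyClosedIn K]
  infer_instance

/-- Sections of the normalization over the preimage of a nonempty affine open are integrally closed. -/
theorem isIntegrallyClosed_sections (X : Scheme.{u}) [IsIntegral X]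
    [QuasiCompact (X.fromSpecStalk (genericPoint X))] [QuasiSeparated (X.fromSpecStalk (genericPoint X))]
    (U : X.Opens) (hU : IsAffineOpen U) (hη : genericPoint X ∈ U) :
    IsIntegrallyClosed Γ(Curv2.normalization X, Curv2.normalizationι X ⁻¹ᵁ U) := by
  let f := X.fromSpecStalk (genericPoint X)
  letI := (f.app U).hom.toAlgebra
  have : Nonempty U := ⟨⟨_, hη⟩⟩
  have htop : f ⁻¹ᵁ U = ⊤ := by
    have := Groth.Agent.Ega2.Normal.subsingleton_spec_functionField X
    rw [eq_top_iff]
    intro z _
    have hz : z = IsLocalRing.closedPoint X.functionField := Subsingleton.elim _ _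
    subst hz
    change X.fromSpecStalk _ _ ∈ U
    rw [Scheme.fromSpecStalk_closedPoint]
    exact hη
  have : IsFractionRing Γ(X, U) Γ(Spec (X.presheaf.stalk (genericPoint X)), f ⁻¹ᵁ U) := by
    have h1 : IsFractionRing Γ(X, U) X.functionField := functionField_isFractionRing_of_isAffineOpen X U hU
    let ψ : X.presheaf.stalk (genericPoint X) ⟶ Γ(Spec (X.presheaf.stalk (genericPoint X)), f ⁻¹ᵁ U) :=
      (Scheme.ΓSpecIso _).inv ≫ (Spec (X.presheaf.stalk (genericPoint X))).presheaf.map (homOfLE le_top).op
    have hiso : IsIso ((Spec (X.presheaf.stalk (genericPoint X))).presheaf.map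
        (homOfLE (le_top : f ⁻¹ᵁ U ≤ ⊤)).op) := by
      have : (homOfLE (le_top : f ⁻¹ᵁ U ≤ ⊤)) = eqToHom htop := rfl
      rw [this]; infer_instance
    have hψ : Function.Bijective ψ.hom := ConcreteCategory.bijective_of_isIso ψ
    have hc : (X.presheaf.germ U _ hη) ≫ ψ = f.app U := (Scheme.fromSpecStalk_app hη).symm
    let e : X.functionField ≃ₐ[Γ(X, U)] Γ(Spec (X.presheaf.stalk (genericPoint X)), f ⁻¹ᵁ U) :=
      AlgEquiv.ofBijective
        { toRingHom := ψ.hom
          commutes' := fun r => congrArg (fun g => g.hom r) hc } hψ
    exact IsLocalization.isLocalization_of_algEquiv _ e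
  have h2 := (integralClosure_aux (A := Γ(X, U)) (K := Γ(Spec (X.presheaf.stalk (genericPoint X)), f ⁻¹ᵁ U))).2
  exact IsIntegrallyClosed.of_equiv (f.normalizationObjIso hU).commRingCatIsoToRingEquiv.symm

/-- EGA II, 6.3.8 (integral case): let X be an integral scheme and X' → X its normalization (integral closure of X in its function field). Then X' is integral with integrally closed local rings, the morphism X' → X is surjective, maps the generic point to the generic point and induces a bijection between the residue fields of the generic points. (The quasi-compactness/quasi-separatedness binders on Spec K(X) → X always hold; they are only needed to form Mathlib's relative normalization.) -/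
theorem result (X : Scheme.{u}) [IsIntegral X]
    [QuasiCompact (X.fromSpecStalk (genericPoint X))] [QuasiSeparated (X.fromSpecStalk (genericPoint X))] :
    ∃ (_ : IsIntegral (Curv2.normalization X)), Pi1.IsNormalScheme (Curv2.normalization X) ∧ Surjective (Curv2.normalizationι X) ∧
      ∃ hgen : (Curv2.normalizationι X).base (genericPoint (Curv2.normalization X)) = genericPoint X,
        Function.Bijective ((Curv2.normalizationι X).residueFieldMap (genericPoint (Curv2.normalization X))).hom := by
  let f := X.fromSpecStalk (genericPoint X)
  have hN : IsIntegral (Curv2.normalization X) := inferInstanceAs (IsIntegral f.normalization)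
  have hsub := Groth.Agent.Ega2.Normal.subsingleton_spec_functionField X
  refine ⟨hN, ?_, ?_, ?_⟩
  · -- normality
    intro x
    refine ⟨inferInstance, ?_⟩
    obtain ⟨_, ⟨U, hU', rfl⟩, hxU, -⟩ :=
      X.isBasis_affineOpens.exists_subset_of_mem_open (Set.mem_univ (Curv2.normalizationι X x)) isOpen_univ
    have hU : IsAffineOpen U := hU'
    have hxV : x ∈ Curv2.normalizationι X ⁻¹ᵁ U := hxU
    have hη : genericPoint X ∈ U :=
      ((genericPoint_spec X).mem_open_set_iff U.isOpen).mpr (by simpa using ⟨_, hxU⟩)
    have hIC := isIntegrallyClosed_sections X U hU hη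
    have hI : IsIntegralHom (Curv2.normalizationι X) := inferInstanceAs (IsIntegralHom f.fromNormalization)
    have hV : IsAffineOpen (Curv2.normalizationι X ⁻¹ᵁ U) := hU.preimage _
    have hloc := hV.isLocalization_stalk ⟨x, hxV⟩
    have : Nonempty (Curv2.normalizationι X ⁻¹ᵁ U) := ⟨⟨x, hxV⟩⟩
    let _ := (Curv2.normalization X).presheaf.algebra_section_stalk (U := Curv2.normalizationι X ⁻¹ᵁ U) ⟨x, hxV⟩
    exact isIntegrallyClosed_of_isLocalization
      (R := Γ(Curv2.normalization X, Curv2.normalizationι X ⁻¹ᵁ U))
      (S := (Curv2.normalization X).presheaf.stalk x)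
      (hV.primeIdealOf ⟨x, hxV⟩).asIdeal.primeCompl (Ideal.primeCompl_le_nonZeroDivisors _)
  · have hI : IsIntegralHom (Curv2.normalizationι X) := inferInstanceAs (IsIntegralHom f.fromNormalization)
    have hd : IsDominant (Curv2.normalizationι X) := by
      refine ⟨?_⟩
      have h3 : genericPoint X ∈ Set.range (Curv2.normalizationι X) := by
        refine ⟨f.toNormalization (IsLocalRing.closedPoint X.functionField), ?_⟩
        change (f.toNormalization ≫ f.fromNormalization) _ = _
        rw [Scheme.Hom.toNormalization_fromNormalization]
        exact Scheme.fromSpecStalk_closedPoint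
      rw [DenseRange, dense_iff_closure_eq, ← Set.univ_subset_iff, ← (genericPoint_spec X).def]
      exact closure_mono (Set.singleton_subset_iff.mpr h3)
    infer_instance
  · let t : Spec (X.presheaf.stalk (genericPoint X)) ⟶ Curv2.normalization X := f.toNormalization
    let pt : Spec X.functionField := IsLocalRing.closedPoint X.functionField
    have hpt : t pt = genericPoint (Curv2.normalization X) := by
      have hd : IsDominant t := inferInstanceAs (IsDominant f.toNormalization)
      have h1 : IsGenericPoint (t pt) (Set.univ : Set (Curv2.normalization X)) := by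
        have h2 : Set.range t = {t pt} := by
          ext z
          constructor
          · rintro ⟨w, rfl⟩
            rw [Subsingleton.elim w pt]; rfl
          · rintro rfl; exact ⟨pt, rfl⟩
        have h3 := t.denseRange
        rw [DenseRange, dense_iff_closure_eq] at h3
        change closure {t pt} = Set.univ
        rw [← h2]
        exact h3
      exact h1.eq (genericPoint_spec _)
    have hνt : t ≫ Curv2.normalizationι X = f := f.toNormalization_fromNormalization
    have hb : Function.Bijective ((Curv2.normalizationι X).residueFieldMap (t pt)).hom := by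
      have h1 : Function.Surjective (f.residueFieldMap pt).hom := by
        have h2 : Function.Surjective (f.stalkMap pt ≫ (Spec X.functionField).residue pt).hom := by
          rw [CommRingCat.hom_comp]
          exact (Scheme.residue_surjective _ _).comp (f.stalkMap_surjective pt)
        rw [← Scheme.residue_residueFieldMap, CommRingCat.hom_comp] at h2
        exact Function.Surjective.of_comp (g := (X.residue (f pt)).hom) h2
      have h2 : Function.Surjective ((t ≫ Curv2.normalizationι X).residueFieldMap pt).hom := by
        rw [hνt]; exact h1
      rw [Scheme.residueFieldMap_comp] at h2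
      refine ⟨RingHom.injective _, ?_⟩
      intro z
      obtain ⟨w, hw⟩ := h2 ((t.residueFieldMap pt).hom z)
      exact ⟨w, (t.residueFieldMap pt).hom.injective hw⟩
    have hpt' : Curv2.normalizationι X (t pt) = genericPoint X := by
      change (t ≫ Curv2.normalizationι X) pt = _
      rw [hνt]
      exact Scheme.fromSpecStalk_closedPoint
    rw [hpt] at hb hpt'
    exact ⟨hpt', hb⟩

end Groth.Agent.S2351
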