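import Groth.Statements.S1074
import Groth.Agent.PerfC.SuppGenMain

set_option autoImplicit false
universe u
open CategoryTheory CategoryTheory.Limits AlgebraicGeometry
attribute [local instance] HasDerivedCategory.standard
open Perf

namespace Groth.Agent.S1074

/-- Stacks Tag 0A9A: let the scheme X be quasi-compact and quasi-separated and T ⊆ X closed with nonempty quasi-compact complement (the case T = X is Tag 09IS, stated separately). There is a perfect object P of D(O_X), with quasi-coherent cohomology sheaves supported on T, such that an object E of D(O_X) with quasi-coherent cohomology sheaves supported on T is zero if and only if every morphism P[n] ⟶ E, n ∈ ℤ, is zero. -/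
theorem result (X : Scheme.{u}) [CompactSpace ↥X] [QuasiSeparatedSpace ↥X]
    (T : Set X) (hT : IsClosed T) (hTc : IsCompact Tᶜ) (hTne : Tᶜ.Nonempty) :
    ∃ P : DCoh.D X, DCoh.IsPerfect P ∧ DCoh.IsQCohD P ∧ (∀ i : ℤ, CohB1.support (DCoh.HD P i) ⊆ T) ∧
      ∀ E : DCoh.D X, DCoh.IsQCohD E → (∀ i : ℤ, CohB1.support (DCoh.HD E i) ⊆ T) →
        (IsZero E ↔ ∀ (n : ℤ) (φ : P⟦n⟧ ⟶ E), φ = 0) := by
  obtain ⟨P, hP, hPs, hgen⟩ := Groth.Agent.PerfC.SuppGen.sgen X T hT hTc
  exact ⟨P, hP, Groth.Agent.PerfA.QCohD.isQCohD_of_isPerfect P hP, hPs, fun E hE hEs =>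
    ⟨fun h n φ => h.eq_of_tgt _ _, hgen E hE hEs⟩⟩

end Groth.Agent.S1074
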