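import Groth.Statements.S1833
import Groth.Agent.CycA.LenSum

set_option autoImplicit false
universe u v
open Pointwise
open CycAlg

namespace Groth.Agent.S1833

open IsLocalRing in
/-- Primes of the support other than the maximal ideal are minimal in the support. -/
theorem minimal_of_ne {R : Type u} [CommRing R] [IsLocalRing R] {M : Type v} [AddCommGroup M]
    [Module R M] [Module.Finite R M] (h1 : Module.supportDim R M ≤ 1) {p q : PrimeSpectrum R}
    (hp : p ∈ Module.support R M) (hq : q ∈ Module.support R M)
    (hpm : p.asIdeal ≠ maximalIdeal R) (hqp : q ≤ p) : q = p := by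
  rw [Module.supportDim, Order.krullDim_le_one_iff] at h1
  have hlt : p < closedPoint R := by
    refine lt_of_le_of_ne (le_maximalIdeal p.2.ne_top) ?_
    intro h
    exact hpm (congrArg PrimeSpectrum.asIdeal h)
  have hm : closedPoint R ∈ Module.support R M := Module.mem_support_mono hlt.le hp
  rcases h1 ⟨p, hp⟩ with h | h
  · exact le_antisymm hqp (h (b := ⟨q, hq⟩) hqp)
  · exact absurd (h (b := ⟨closedPoint R, hm⟩) hlt.le) (not_le_of_gt hlt)

open IsLocalRing in
theorem support_diff_finite {R : Type u} [CommRing R] [IsNoetherianRing R] [IsLocalRing R]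
    {M : Type v} [AddCommGroup M]
    [Module R M] [Module.Finite R M] (h1 : Module.supportDim R M ≤ 1) :
    {p : PrimeSpectrum R | p ∈ Module.support R M ∧ p.asIdeal ≠ maximalIdeal R}.Finite := by
  have hfin := (Module.annihilator R M).finite_minimalPrimes_of_isNoetherianRing R
  refine Set.Finite.of_finite_image (f := PrimeSpectrum.asIdeal) (hfin.subset ?_) ?_
  · rintro _ ⟨p, ⟨hp, hpm⟩, rfl⟩
    refine ⟨⟨p.2, Module.annihilator_le_of_mem_support hp⟩, ?_⟩
    rintro J ⟨hJ, hJ'⟩ hle
    have hq : (⟨J, hJ⟩ : PrimeSpectrum R) ∈ Module.support R M := by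
      rw [Module.support_eq_zeroLocus]
      exact hJ'
    have := minimal_of_ne h1 hp hq hpm hle
    exact (congrArg PrimeSpectrum.asIdeal this).ge
  · intro p _ q _ h
    exact PrimeSpectrum.ext h

/-- Stacks Tag 02QF: let R be Noetherian local, M a finite R-module whose support has dimension at most 1, and x an element with M/xM supported in dimension ≤ 0. Then length(M/xM) = length(ker(x : M → M)) + Σ_q ord_{R/q}(x) · length_{R_q}(M_q), the sum running over the primes q of the support other than the maximal ideal (stated in ℕ∞; all terms are finite under the hypotheses). -/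
theorem result (R : Type u) [CommRing R] [IsNoetherianRing R] [IsLocalRing R] (M : Type u) [AddCommGroup M] [Module R M] [Module.Finite R M] (x : R) (h1 : Module.supportDim R M ≤ 1) (h0 : Module.supportDim R (M ⧸ x • (⊤ : Submodule R M)) ≤ 0) : Module.length R (M ⧸ x • (⊤ : Submodule R M)) = Module.length R (LinearMap.ker (LinearMap.lsmul R M x)) + ∑ᶠ (p : PrimeSpectrum R) (_ : p ∈ Module.support R M ∧ p.asIdeal ≠ IsLocalRing.maximalIdeal R), Ring.ord (R ⧸ p.asIdeal) (Ideal.Quotient.mk p.asIdeal x) * Module.length (Localization.AtPrime p.asIdeal) (LocalizedModule p.asIdeal.primeCompl M) := by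
  have hfin := support_diff_finite (R := R) (M := M) h1
  rw [finsum_cond_eq_sum_of_cond_iff (t := hfin.toFinset) _ (by
    intro p _
    simp)]
  refine Groth.Agent.CycA.LenSum.length_coker_eq_aux x (Module.support R M) hfin.toFinset
    ?_ ?_ ?_ ?_ inferInstance le_rfl
  · intro p hp
    by_cases h : p.asIdeal = IsLocalRing.maximalIdeal R
    · exact Or.inl h
    · right
      rw [Set.Finite.mem_toFinset]
      exact ⟨hp, h⟩
  · intro p hp
    rw [Set.Finite.mem_toFinset] at hp
    exact hp.2
  · intro p hp q hq hpq
    rw [Set.Finite.mem_toFinset] at hp hq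
    exact minimal_of_ne h1 hq.1 hp.1 hq.2 hpq
  · intro p hp hxp
    rw [Set.Finite.mem_toFinset] at hp
    have hlt : p < IsLocalRing.closedPoint R := by
      refine lt_of_le_of_ne (IsLocalRing.le_maximalIdeal p.2.ne_top) ?_
      intro h
      exact hp.2 (congrArg PrimeSpectrum.asIdeal h)
    have hp' : p ∈ Module.support R (M ⧸ x • (⊤ : Submodule R M)) := by
      have := Module.support_quotSMulTop (R := R) (M := M) x
      have h2 : p ∈ Module.support R M ∩ PrimeSpectrum.zeroLocus {x} :=
        ⟨hp.1, by simpa using hxp⟩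
      rw [← this] at h2
      exact h2
    have hm : IsLocalRing.closedPoint R ∈ Module.support R (M ⧸ x • (⊤ : Submodule R M)) :=
      Module.mem_support_mono hlt.le hp'
    rw [Module.supportDim, Order.krullDim_nonpos_iff_forall_isMax] at h0
    exact absurd (h0 ⟨p, hp'⟩ (b := ⟨IsLocalRing.closedPoint R, hm⟩) hlt.le) (not_le_of_gt hlt)

end Groth.Agent.S1833
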