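import Groth.Statements.S1949
import Groth.Agent.CycA.FibreComp
import Groth.Agent.CycA.FibGlob

set_option autoImplicit false
universe u
open CategoryTheory CategoryTheory.Limits AlgebraicGeometry
attribute [local instance] HasDerivedCategory.standard
open IntMult

namespace Groth.Agent.S1949

open Groth.Agent.CycA Groth.Agent.CycB Groth.Agent.CycB.LocQuot
open Groth.Agent.CycA.SectPt Groth.Agent.CycA.FibreLocal Groth.Agent.CycA.FibreDev
open Groth.Agent.CycA.FibreComp Groth.Agent.CycA.SectGeom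

/-- The value of the intersection product with a fibre. -/
theorem interProd_fibre (K : Type u) [Field K] [IsAlgClosed K] (X : Scheme.{u})
    (f : X ⟶ Spec (CommRingCat.of K)) [Smooth f] [IsSeparated f] [IsIntegral X] (δ : X → ℤ)
    (hδ : Cyc.DeltaCompat f δ (fun _ => 0)) (n : ℤ)
    (hn : δ (genericPoint X) = n) (δP : ↥(CohB1.ProjSpaceOver 1 X) → ℤ)
    (hP : Cyc.DeltaCompat (CohB1.ProjSpaceOver.toBase 1 X) δP δ)
    (hNP : IsLocallyNoetherian (CohB1.ProjSpaceOver 1 X)) (hδP : Cyc.IsDimFun _ δP) (r s : ℤ)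
    (W : Scheme.{u}) [IsIntegral W] (ιW : W ⟶ CohB1.ProjSpaceOver 1 X) [IsClosedImmersion ιW]
    (hW : δP (ιW (genericPoint W)) = s + 1) (v : X) (hv : δ v = r) (i : Fin (1 + 1))
    (hwσ : ιW (genericPoint W) ∉ Set.range (P1.sect X i))
    (h0 : IntMult.IntersectProperly δ n (Set.indicator {v} 1)
      (Cyc.subschemeFun δ s (pullback.snd ιW (P1.sect X i))))
    (𝒯 : Finset ↥(CohB1.ProjSpaceOver 1 X))
    (h𝒯 : ∀ T ∈ 𝒯, ιW (genericPoint W) ⤳ T ∧ v ⤳ CohB1.ProjSpaceOver.toBase 1 X T ∧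
      T ∉ Set.range (P1.sect X i))
    (h𝒯' : ∀ (x : X) (T : ↥(CohB1.ProjSpaceOver 1 X)), δ x = r + s - n → T ⤳ P1.sect X i x →
      ιW (genericPoint W) ⤳ T → v ⤳ CohB1.ProjSpaceOver.toBase 1 X T → T ≠ P1.sect X i x →
      T ∈ 𝒯) (x : X) :
    IntMult.interProd δ n (Set.indicator {v} 1)
      (Cyc.subschemeFun δ s (pullback.snd ιW (P1.sect X i))) x =
    if δ x = r + s - n then ∑ T ∈ 𝒯, fmult (P1.sect X i) T x *
      pmult (CohB1.ProjSpaceOver.toBase 1 X) (ιW (genericPoint W)) v T else 0 := by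
  have hset := SetupField.isSetup_of_field f hδ
  have hNX : IsLocallyNoetherian X := hset.1
  have hδX := hset.2.2
  have hδσ : ∀ x, δP (P1.sect X i x) = δ x := delta_sect hP i
  have hπσ : ∀ z, CohB1.ProjSpaceOver.toBase 1 X (P1.sect X i z) = z := toBase_sect_apply i
  -- nonzero terms of the intersection product
  have hterm : ∀ p : {p : X × X // p.1 ⤳ x ∧ p.2 ⤳ x ∧ δ p.1 + δ p.2 - n = δ x},
      (Set.indicator {v} 1 : X → ℤ) p.1.1 *
        Cyc.subschemeFun δ s (pullback.snd ιW (P1.sect X i)) p.1.2 *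
        IntMult.mult (IntMult.ptIdeal p.1.1) (IntMult.ptIdeal p.1.2) x ≠ 0 →
      v ⤳ x ∧ ιW (genericPoint W) ⤳ P1.sect X i x ∧ δ x = r + s - n := by
    intro p hp
    have h1 : (Set.indicator {v} 1 : X → ℤ) p.1.1 ≠ 0 := left_ne_zero_of_mul (left_ne_zero_of_mul hp)
    have h2 : Cyc.subschemeFun δ s (pullback.snd ιW (P1.sect X i)) p.1.2 ≠ 0 :=
      right_ne_zero_of_mul (left_ne_zero_of_mul hp)
    have h3 : p.1.1 = v := by
      by_contra hne
      have hne' : p.1.1 ∉ ({v} : Set X) := hne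
      exact h1 (Set.indicator_of_notMem hne' _)
    have h4 : p.1.2 ∈ Set.range (pullback.snd ιW (P1.sect X i)) := by
      by_contra hne
      exact h2 (C1Fin.subschemeFun_apply_notMem _ δ s _ hne)
    have h5 : δ p.1.2 = s := by
      by_contra hne
      apply h2
      unfold Cyc.subschemeFun
      rw [if_neg hne]
    refine ⟨h3 ▸ p.2.1, ?_, ?_⟩
    · exact ((mem_range_snd_iff ιW _ _).1 h4).trans (p.2.2.1.map (P1.sect X i).continuous)
    · have := p.2.2.2
      rw [h3, h5, hv] at this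
      omega
  split_ifs with hx
  · by_cases hvw : v ⤳ x ∧ ιW (genericPoint W) ⤳ P1.sect X i x
    · obtain ⟨hvx, hwx⟩ := hvw
      have hprop : ∀ z : X, ιW (genericPoint W) ⤳ P1.sect X i z → v ⤳ z → δ z ≤ r + s - n := by
        intro z hwz hvz
        obtain ⟨η, h1, h2, h3⟩ := exists_component hδP hδX (P1.sect X i) hδσ
          (exists_ker_sect i) ιW hW hwσ z hwz
        have h4 := h0 v η z (by simp) h2 hvz h1
        rw [hv, h3] at h4
        exact h4
      have hmeet : ∀ z : X, z ⤳ x → ιW (genericPoint W) ⤳ P1.sect X i z → v ⤳ z → z = x := by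
        intro z hz hwz hvz
        have h1 := hprop z hwz hvz
        have h2 := le_of_specializes hδX hz
        exact eq_of_specializes_of_eq hδX hz (by omega)
      have hbound : ∀ z ∈ Set.range (pullback.snd ιW (P1.sect X i)), δ z ≤ s := by
        intro z hz
        have h1 := (mem_range_snd_iff ιW _ _).1 hz
        have h2 : ιW (genericPoint W) ≠ P1.sect X i z := fun h => hwσ ⟨z, h.symm⟩
        have h3 := lt_of_specializes hδP h1 h2
        rw [hδσ] at h3
        omega
      rw [interProd_subscheme f hδ hn (pullback.snd ιW (P1.sect X i)) hbound hv hx hvx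
        (fun z h1 h2 h3 => hmeet z h1 ((mem_range_snd_iff ιW _ _).1 h2) h3)]
      have hreg : IsRegularLocalRing
          ((CohB1.ProjSpaceOver 1 X).presheaf.stalk (P1.sect X i x)) :=
        SerreGeom.isRegularLocalRing_stalk (CohB1.ProjSpaceOver.toBase 1 X ≫ f) _
      rw [← chi_fibre (CohB1.ProjSpaceOver.toBase 1 X) hδP (P1.sect X i) (sect_toBase X i) x hreg
        (exists_ker_sect i x) hwx hvx hwσ hmeet 𝒯 h𝒯 (fun T h1 h2 h3 h4 => h𝒯' x T hx h1 h2 h3 h4)]
      rw [stalkIdeal_snd, stalkIdeal_ker_integral ιW hwx, StalkIdeal.stalkIdeal_ptIdeal hwx]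
    · have hz : IntMult.interProd δ n (Set.indicator {v} 1)
          (Cyc.subschemeFun δ s (pullback.snd ιW (P1.sect X i))) x = 0 := by
        unfold IntMult.interProd
        refine finsum_eq_zero_of_forall_eq_zero fun p => ?_
        by_contra hp
        obtain ⟨h1, h2, -⟩ := hterm p hp
        exact hvw ⟨h1, h2⟩
      rw [hz]
      symm
      refine Finset.sum_eq_zero fun T hT => ?_
      by_cases hTx : T ⤳ P1.sect X i x
      · exfalso
        obtain ⟨h1, h2, -⟩ := h𝒯 T hT
        refine hvw ⟨?_, h1.trans hTx⟩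
        have h3 := hTx.map (CohB1.ProjSpaceOver.toBase 1 X).continuous
        rw [hπσ] at h3
        exact h2.trans h3
      · rw [fmult_eq_zero _ hTx, zero_mul]
  · unfold IntMult.interProd
    refine finsum_eq_zero_of_forall_eq_zero fun p => ?_
    by_contra hp
    exact hx (hterm p hp).2.2

/-- Stacks Tag 0B60: let W → P^1_X be a closed immersion with W integral of dimension s + 1 (for the dimension function δP on P^1_X induced from δ) dominating P^1_K (dense image under P^1_X → P^1_K), W_0, W_∞ → X its pullbacks along the sections at 0 and ∞, and V ⊆ X the closure of a point v with δ(v) = r, such that [V] intersects [W_0]_s and [W_∞]_s properly. Then [V]·[W_0]_s ∼_rat [V]·[W_∞]_s as (r + s − n)-cycles on X. (The source allows any two closed points a, b of P^1; they are taken to be 0 and ∞, to which any two distinct closed points are carried by an automorphism of P^1 over the algebraically closed K.) Here X is a nonsingular variety over the algebraically closed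 field K (smooth, separated, quasi-compact, integral) with dimension function δ (transcendence degree) and n = dim X; cycles are Mathlib AlgebraicCycles with Cyc.Zk membership, proper intersection is IntMult.IntersectProperly and α · β is the Tor-formula intersection product on coefficient functions (IntMult.interProd), bundled where needed as 'any cycle with these coefficients'. -/
theorem result (K : Type u) [Field K] [IsAlgClosed K] (X : Scheme.{u}) (f : X ⟶ Spec (CommRingCat.of K)) [Smooth f] [IsSeparated f] [QuasiCompact f] [IsIntegral X] (δ : X → ℤ) (hX : Cyc.IsSetup X δ) (hδ : Cyc.DeltaCompat f δ (fun _ => 0)) (n : ℤ) (hn : δ (genericPoint X) = n) (δP : ↥(CohB1.ProjSpaceOver 1 X) → ℤ) (hP : Cyc.DeltaCompat (CohB1.ProjSpaceOver.toBase 1 X) δP δ) (r s : ℤ) (W : Scheme.{u}) [IsIntegral W] (ιW : W ⟶ CohB1.ProjSpaceOver 1 X) [IsClosedImmersion ιW] (hW : δP (ιW (genericPoint W)) = s + 1) (hdom : ∀ U : (CohB1.ProjSpaceOver 1 (Spec (CommRingCat.of K))).Opens, (U :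 Set ↥(CohB1.ProjSpaceOver 1 (Spec (CommRingCat.of K)))).Nonempty → ∃ w : W, (ιW ≫ P1.toP1 f) w ∈ U) (v : X) (hv : δ v = r) (h0 : IntMult.IntersectProperly δ n (Set.indicator {v} 1) (Cyc.subschemeFun δ s (pullback.snd ιW (P1.sect X 0)))) (h1 : IntMult.IntersectProperly δ n (Set.indicator {v} 1) (Cyc.subschemeFun δ s (pullback.snd ιW (P1.sect X 1)))) (γ₀ γ₁ : AlgebraicCycle X ℤ) (hγ₀ : ⇑γ₀ = IntMult.interProd δ n (Set.indicator {v} 1) (Cyc.subschemeFun δ s (pullback.snd ιW (P1.sect X 0)))) (hγ₁ : ⇑γ₁ = IntMult.interProd δ n (Set.indicator {v} 1) (Cyc.subschemeFun δ s (pullback.snd ιW (P1.sect X 1)))) : Cyc.RatEquiv δ (r + s - n) γ₀ γ₁ := by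
  classical
  have hNX : IsLocallyNoetherian X := hX.1
  have hδX := hX.2.2
  have hsetP : Cyc.IsSetup (CohB1.ProjSpaceOver 1 X) δP :=
    SetupLft.isSetup_of_deltaCompat (CohB1.ProjSpaceOver.toBase 1 X) hX hP
  have hNP : IsLocallyNoetherian (CohB1.ProjSpaceOver 1 X) := hsetP.1
  have hδP := hsetP.2.2
  have hcX : CompactSpace X := by
    have := (quasiCompact_iff_compactSpace (f := f)).1 inferInstance
    exact this
  have hcP : CompactSpace ↥(CohB1.ProjSpaceOver 1 X) := by
    have h1 : QuasiCompact (CohB1.ProjSpaceOver.toBase 1 X ≫ f) := by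
      have : IsProper (CohB1.ProjSpaceOver.toBase 1 X) :=
        Groth.Agent.Dix.ProjProper.isProper_toBase 1 X
      infer_instance
    exact (quasiCompact_iff_compactSpace (f := CohB1.ProjSpaceOver.toBase 1 X ≫ f)).1 h1
  have hNS : TopologicalSpace.NoetherianSpace ↥(CohB1.ProjSpaceOver 1 X) :=
    FibGlob.noetherianSpace hsetP
  set w := ιW (genericPoint W) with hw
  have hwσ : ∀ i, w ∉ Set.range (P1.sect X i) := notMem_range_of_dominates K f ιW hdom
  have hδσ : ∀ i x, δP (P1.sect X i x) = δ x := fun i => delta_sect hP i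
  have hπσ : ∀ i z, CohB1.ProjSpaceOver.toBase 1 X (P1.sect X i z) = z := fun i =>
    toBase_sect_apply i
  have h01 : ∀ i, IntMult.IntersectProperly δ n (Set.indicator {v} 1)
      (Cyc.subschemeFun δ s (pullback.snd ιW (P1.sect X i))) := by
    intro i
    fin_cases i
    · exact h0
    · exact h1
  have hprop : ∀ (i : Fin (1 + 1)) (z : X), w ⤳ P1.sect X i z → v ⤳ z → δ z ≤ r + s - n := by
    intro i z hwz hvz
    obtain ⟨η, h1, h2, h3⟩ := exists_component hδP hδX (P1.sect X i) (hδσ i)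
      (exists_ker_sect i) ιW hW (hwσ i) z hwz
    have h4 := h01 i v η z (by simp) h2 hvz h1
    rw [hv, h3] at h4
    exact h4
  have hmeet : ∀ (i : Fin (1 + 1)) (x : X), δ x = r + s - n → ∀ z : X, z ⤳ x →
      w ⤳ P1.sect X i z → v ⤳ z → z = x := by
    intro i x hx z hz hwz hvz
    have h1 := hprop i z hwz hvz
    have h2 := le_of_specializes hδX hz
    exact eq_of_specializes_of_eq hδX hz (by omega)
  -- the finite set of components
  let C : Set ↥(CohB1.ProjSpaceOver 1 X) :=
    closure {w} ∩ (CohB1.ProjSpaceOver.toBase 1 X) ⁻¹' closure {v}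
  have hC : IsClosed C := isClosed_closure.inter
    (isClosed_closure.preimage (CohB1.ProjSpaceOver.toBase 1 X).continuous)
  have hCmem : ∀ T, T ∈ C ↔ w ⤳ T ∧ v ⤳ CohB1.ProjSpaceOver.toBase 1 X T := by
    intro T
    simp only [C, Set.mem_inter_iff, Set.mem_preimage, specializes_iff_mem_closure]
  have hfin := MovFin.finite_maximal hC
  let 𝒯 : Finset ↥(CohB1.ProjSpaceOver 1 X) := hfin.toFinset.filter fun T =>
    δP T = r + s - n + 1 ∧ ∀ i, T ∉ Set.range (P1.sect X i)
  have h𝒯mem : ∀ T, T ∈ 𝒯 ↔ (T ∈ C ∧ ∀ y ∈ C, y ⤳ T → y = T) ∧ δP T = r + s - n + 1 ∧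
      ∀ i, T ∉ Set.range (P1.sect X i) := by
    intro T
    simp only [𝒯, Finset.mem_filter, Set.Finite.mem_toFinset, Set.mem_ofPred_eq]
  have h𝒯' : ∀ (i : Fin (1 + 1)) (x : X) (T : ↥(CohB1.ProjSpaceOver 1 X)), δ x = r + s - n →
      T ⤳ P1.sect X i x → w ⤳ T → v ⤳ CohB1.ProjSpaceOver.toBase 1 X T → T ≠ P1.sect X i x →
      T ∈ 𝒯 := by
    intro i x T hx hT hwT hvT hne
    have hdelta : ∀ T', T' ⤳ P1.sect X i x → w ⤳ T' → v ⤳ CohB1.ProjSpaceOver.toBase 1 X T' →
        T' ≠ P1.sect X i x → δP T' = r + s - n + 1 := by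
      intro T' h2 h3 h4 h5
      rw [delta_component (CohB1.ProjSpaceOver.toBase 1 X) hδP (P1.sect X i) (sect_toBase X i) x
        (exists_ker_sect i x) (hmeet i x hx) h2 h3 h4 h5, hδσ, hx]
    rw [h𝒯mem]
    refine ⟨⟨(hCmem T).2 ⟨hwT, hvT⟩, ?_⟩, hdelta T hT hwT hvT hne, ?_⟩
    · intro y hy hyT
      obtain ⟨h2, h3⟩ := (hCmem y).1 hy
      have h4 : y ≠ P1.sect X i x := by
        rintro rfl
        exact hne (hT.antisymm hyT).eq
      have h5 := hdelta y (hyT.trans hT) h2 h3 h4
      have h6 := hdelta T hT hwT hvT hne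
      exact eq_of_specializes_of_eq hδP hyT (by omega)
    · rintro k ⟨z, rfl⟩
      rw [hπσ] at hvT
      have h2 := hprop k z hwT hvT
      have h3 := hdelta _ hT hwT (by rw [hπσ]; exact hvT) hne
      rw [hδσ] at h3
      omega
  refine FibGlob.ratEquiv_of_sum hX δP hP (r + s - n) 𝒯
    (pmult (CohB1.ProjSpaceOver.toBase 1 X) w v) (fun T hT => ((h𝒯mem T).1 hT).2) γ₀ γ₁ ?_ ?_
  · intro x
    rw [hγ₀]
    exact interProd_fibre K X f δ hδ n hn δP hP hNP hδP r s W ιW hW v hv 0 (hwσ 0) h0 𝒯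
      (fun T hT => ⟨((hCmem T).1 ((h𝒯mem T).1 hT).1.1).1, ((hCmem T).1 ((h𝒯mem T).1 hT).1.1).2,
        ((h𝒯mem T).1 hT).2.2 0⟩) (h𝒯' 0) x
  · intro x
    rw [hγ₁]
    exact interProd_fibre K X f δ hδ n hn δP hP hNP hδP r s W ιW hW v hv 1 (hwσ 1) h1 𝒯
      (fun T hT => ⟨((hCmem T).1 ((h𝒯mem T).1 hT).1.1).1, ((hCmem T).1 ((h𝒯mem T).1 hT).1.1).2,
        ((h𝒯mem T).1 hT).2.2 1⟩) (h𝒯' 1) x

end Groth.Agent.S1949
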