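import Groth.Statements.S2063
import Groth.Agent.S2141
import Groth.Agent.Ega4B.DimFT2
import Groth.Agent.CalgB.JacDim
import Mathlib.RingTheory.RegularLocalRing.Polynomial
import Mathlib.FieldTheory.FinTrdeg

set_option autoImplicit false
universe u
open CAlg

namespace Groth.Agent.S2063

open TensorProduct in
/-- Stacks Tag 00TT, (1) iff (2): a finite type algebra `S` over a field `k` is smooth at a prime `𝔮` if and only if the
dimension of `Ω_{S/k} ⊗ κ(𝔮)` over `κ(𝔮)` is at most the local dimension of `Spec(S)` at `𝔮`. -/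
theorem result {k S : Type u} [Field k] [CommRing S] [Algebra k S]
    [Algebra.FiniteType k S] (q : Ideal S) [q.IsPrime] :
    Algebra.IsSmoothAt k q ↔
      ((Module.finrank q.ResidueField (q.ResidueField ⊗[S] Ω[S⁄k]) : ℕ∞) : WithBot ℕ∞) ≤
        FlatMor.localDim (PrimeSpectrum S) ⟨q, inferInstance⟩ := by
  obtain ⟨n, f₀, hf₀⟩ := Algebra.FiniteType.iff_quotient_mvPolynomial''.mp
    (inferInstance : Algebra.FiniteType k S)
  let Q : Ideal (MvPolynomial (Fin n) k) := q.comap f₀
  let M' := Q.primeCompl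
  let P' := Localization.AtPrime Q
  let A := Localization.AtPrime q
  let fP : P' →ₐ[k] A := IsLocalization.liftAlgHom (M := M')
      (f := (IsScalarTower.toAlgHom k S A).comp f₀) fun x ↦ by
    have := IsLocalization.map_units (M := q.primeCompl) A ⟨f₀ x.1, x.2⟩
    exact this
  have hf₁ : Function.Surjective fP := by
    intro x
    obtain ⟨x, ⟨s, hs⟩, rfl⟩ := IsLocalization.exists_mk'_eq q.primeCompl x
    obtain ⟨x, rfl⟩ := hf₀ x
    obtain ⟨s, rfl⟩ := hf₀ s
    refine ⟨IsLocalization.mk' (M := M') _ x ⟨s, hs⟩, ?_⟩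
    refine (IsLocalization.lift_mk'_spec (M := M') (S := P') _ _ _ _).2 ?_
    change algebraMap S A (f₀ x) = algebraMap S A (f₀ s) * IsLocalization.mk' A (f₀ x) ⟨f₀ s, hs⟩
    exact (IsLocalization.mk'_spec' A (f₀ x) ⟨f₀ s, hs⟩).symm
  algebraize [fP.toRingHom]
  have : Algebra.FormallyEtale (MvPolynomial (Fin n) k) P' := .of_isLocalization M'
  have : Algebra.FormallyEtale S A := .of_isLocalization q.primeCompl
  have : Algebra.FormallySmooth k P' := .comp _ (MvPolynomial (Fin n) k) _
  let eΩ := KaehlerDifferential.tensorKaehlerEquivOfFormallyEtale k (MvPolynomial (Fin n) k) P'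
  have : Module.Free P' Ω[P'⁄k] := .of_equiv eΩ
  have : Module.Finite P' Ω[P'⁄k] := .equiv eΩ
  have : IsRegularLocalRing P' := inferInstance
  have hrank : Module.finrank P' Ω[P'⁄k] = n := by
    rw [← eΩ.finrank_eq, Module.finrank_baseChange,
      (KaehlerDifferential.mvPolynomialEquiv k (Fin n)).finrank_eq]
    simp
  have hd : Module.finrank q.ResidueField (q.ResidueField ⊗[S] Ω[S⁄k]) =
      Module.finrank (IsLocalRing.ResidueField A) (IsLocalRing.ResidueField A ⊗[A] Ω[A⁄k]) := by
    let eA := KaehlerDifferential.tensorKaehlerEquivOfFormallyEtale k S A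
    let e1 : IsLocalRing.ResidueField A ⊗[A] (A ⊗[S] Ω[S⁄k]) ≃ₗ[IsLocalRing.ResidueField A]
        IsLocalRing.ResidueField A ⊗[S] Ω[S⁄k] :=
      TensorProduct.AlgebraTensorModule.cancelBaseChange S A _ _ _
    let e2 : IsLocalRing.ResidueField A ⊗[A] (A ⊗[S] Ω[S⁄k]) ≃ₗ[IsLocalRing.ResidueField A]
        IsLocalRing.ResidueField A ⊗[A] Ω[A⁄k] := eA.baseChange A (IsLocalRing.ResidueField A) _ _
    exact (e1.symm.trans e2).finrank_eq
  obtain ⟨r, hr, hQ⟩ := Groth.Agent.Ega4B.DimFT2.exists_height_add_trdeg_mvPolynomial_field k n Q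
  have hr' : Algebra.trdeg k q.ResidueField = r := by
    let g : MvPolynomial (Fin n) k →ₐ[k] S ⧸ q := (Ideal.Quotient.mkₐ k q).comp f₀
    have hg : Function.Surjective g := (Ideal.Quotient.mkₐ_surjective k q).comp hf₀
    have hgk : Q = RingHom.ker g := by
      ext x
      change f₀ x ∈ q ↔ Ideal.Quotient.mk q (f₀ x) = 0
      rw [Ideal.Quotient.eq_zero_iff_mem]
    have e : (MvPolynomial (Fin n) k ⧸ Q) ≃ₐ[k] S ⧸ q :=
      (Ideal.quotientEquivAlgOfEq k hgk).trans (Ideal.quotientKerAlgEquivOfSurjective hg)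
    have h1 := e.trdeg_eq
    have : Algebra.IsAlgebraic (S ⧸ q) q.ResidueField :=
      IsLocalization.isAlgebraic _ (nonZeroDivisors (S ⧸ q))
    have : FaithfulSMul (S ⧸ q) q.ResidueField :=
      (faithfulSMul_iff_algebraMap_injective _ _).mpr (IsFractionRing.injective (S ⧸ q) q.ResidueField)
    have : FaithfulSMul k (S ⧸ q) :=
      (faithfulSMul_iff_algebraMap_injective _ _).mpr (algebraMap k (S ⧸ q)).injective
    have h2 := trdeg_add_eq k (S ⧸ q) (A := q.ResidueField)
    rw [trdeg_eq_zero (R := S ⧸ q) (A := q.ResidueField), add_zero] at h2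
    rw [← h2, ← h1, hr]
  rw [Groth.Agent.S2141.result q r hr']
  have hPdim : ringKrullDim P' = (Q.height : WithBot ℕ∞) :=
    IsLocalization.AtPrime.ringKrullDim_eq_height Q P'
  obtain ⟨p, hp⟩ := Groth.Agent.CalgA.RegBasic.ringKrullDim_eq_natCast P'
  have : IsNoetherianRing A := isNoetherianRing_of_surjective P' A _ hf₁
  obtain ⟨a, ha⟩ := Groth.Agent.CalgA.RegBasic.ringKrullDim_eq_natCast A
  have hpn : p + r = n := by
    rw [hPdim] at hp
    have hp' : Q.height = (p : ℕ∞) := by exact_mod_cast hp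
    rw [hp'] at hQ
    exact_mod_cast hQ
  have key : Algebra.IsSmoothAt k q ↔ ringKrullDim P' + (Module.finrank (IsLocalRing.ResidueField A)
      (IsLocalRing.ResidueField A ⊗[A] Ω[A⁄k]) : ℕ) ≤
      ringKrullDim A + (Module.finrank P' Ω[P'⁄k] : ℕ) := by
    constructor
    · intro h
      have : Algebra.FormallySmooth k A := h
      exact Groth.Agent.CalgB.JacDim.dim_le_of_formallySmooth (k := k) (P := P') (A := A) hf₁
    · intro h
      exact Groth.Agent.CalgB.JacDim.formallySmooth_of_dim_le (k := k) (P := P') (A := A) hf₁ h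
  rw [key, hd, hrank, hp, ha]
  norm_cast
  omega

end Groth.Agent.S2063
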