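import Groth.Statements.S1836
import Groth.Agent.CycA.FinExt

set_option autoImplicit false
universe u
open CycAlg

namespace Groth.Agent.S1836

section Aux

open IsLocalRing Groth.Agent.CycA.FinExt

/-- The main construction, for an arbitrary finite family of regular elements. -/
theorem aux (A : Type u) [CommRing A] [IsNoetherianRing A] [IsLocalRing A]
    (hA : ringKrullDim A = 1) (r : ℕ) (a : Fin r → A) (ha : ∀ i, a i ∈ nonZeroDivisors A)
    (x : A) (hx : x ∈ nonZeroDivisors A) (hxm : x ∈ maximalIdeal A) :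
    ∃ (B : Type u) (_ : CommRing B) (_ : Algebra A B),
      CycAlg.IsFinExt A B (IsLocalRing.maximalIdeal A) ∧ ∀ q : MaximalSpectrum B,
        ∃ π : Localization.AtPrime q.asIdeal,
          π ∈ nonZeroDivisors (Localization.AtPrime q.asIdeal) ∧
          ∀ i, ∃ (v : (Localization.AtPrime q.asIdeal)ˣ) (e : ℕ),
            algebraMap A (Localization.AtPrime q.asIdeal) (a i) =
              (v : Localization.AtPrime q.asIdeal) * π ^ e := by
  classical
  obtain ⟨J, hJ, π, hπi, hπu, hπc, hπa⟩ := total_base hA hx hxm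
  have hex := fun i => hπa (algebraMap A (FractionRing A) (a i)) isIntegral_algebraMap
    (IsLocalization.map_units (FractionRing A) (⟨a i, ha i⟩ : nonZeroDivisors A))
  choose e w w' hw hw' hww' hae using hex
  have hex2 : ∀ p : J × J, ∃ s t : FractionRing A, IsIntegral A s ∧ IsIntegral A t ∧
      (p.1 ≠ p.2 → s * π p.1 + t * π p.2 = 1) := by
    intro p
    by_cases hp : p.1 = p.2
    · exact ⟨0, 0, isIntegral_zero, isIntegral_zero, fun h => absurd hp h⟩
    · obtain ⟨s, t, hs, ht, hst⟩ := hπc p.1 p.2 hp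
      exact ⟨s, t, hs, ht, fun _ => hst⟩
  choose c d hc hd hcd using hex2
  let S : Set (FractionRing A) := Set.range π ∪ Set.range w ∪ Set.range w' ∪ Set.range c ∪ Set.range d
  have hS : S.Finite := ((((Set.finite_range π).union (Set.finite_range w)).union
    (Set.finite_range w')).union (Set.finite_range c)).union (Set.finite_range d)
  have hSi : ∀ s ∈ S, IsIntegral A s := by
    rintro s ((((⟨j, rfl⟩ | ⟨j, rfl⟩) | ⟨j, rfl⟩) | ⟨j, rfl⟩) | ⟨j, rfl⟩)
    · exact hπi j
    · exact hw j
    · exact hw' j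
    · exact hc j
    · exact hd j
  let B : Subalgebra A (FractionRing A) := Algebra.adjoin A S
  have hfin : Module.Finite A B := Algebra.finite_adjoin_of_finite_of_isIntegral hS hSi
  have hmem : ∀ s ∈ S, s ∈ B := fun s hs => Algebra.subset_adjoin hs
  have hnzd : ∀ (z : B), IsUnit (z : FractionRing A) → z ∈ nonZeroDivisors B := by
    intro z hz
    rw [mem_nonZeroDivisors_iff_right]
    intro w hw
    have : (w : FractionRing A) * z = 0 := congrArg Subtype.val hw
    exact Subtype.ext (by simpa using (hz.mul_left_eq_zero).mp this)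
  let πB : J → B := fun j => ⟨π j, hmem _ (by simp [S])⟩
  let wB : Fin r → B := fun j => ⟨w j, hmem _ (by simp [S])⟩
  let wB' : Fin r → B := fun j => ⟨w' j, hmem _ (by simp [S])⟩
  let cB : J × J → B := fun j => ⟨c j, hmem _ (by simp [S])⟩
  let dB : J × J → B := fun j => ⟨d j, hmem _ (by simp [S])⟩
  have hwB : ∀ i, wB i * wB' i = 1 := fun i => Subtype.ext (hww' i)
  have hcB : ∀ p : J × J, p.1 ≠ p.2 → cB p * πB p.1 + dB p * πB p.2 = 1 :=
    fun p hp => Subtype.ext (hcd p hp)
  have haB : ∀ i, algebraMap A B (a i) = wB i * ∏ j, πB j ^ e i j := by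
    intro i
    apply Subtype.ext
    have h1 : ((algebraMap A B (a i) : B) : FractionRing A) =
      algebraMap A (FractionRing A) (a i) := rfl
    rw [h1, hae i]
    simp [wB, πB]
  refine ⟨B, inferInstance, inferInstance, isFinExt_of_finite hA B, fun q => ?_⟩
  have hunit : ∀ z : B, z ∉ q.asIdeal →
      IsUnit (algebraMap B (Localization.AtPrime q.asIdeal) z) := fun z hz =>
    IsLocalization.map_units (Localization.AtPrime q.asIdeal) (⟨z, hz⟩ : q.asIdeal.primeCompl)
  have halg : ∀ y : A, algebraMap A (Localization.AtPrime q.asIdeal) y =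
      algebraMap B (Localization.AtPrime q.asIdeal) (algebraMap A B y) := fun y =>
    IsScalarTower.algebraMap_apply A B (Localization.AtPrime q.asIdeal) y
  have hwu : ∀ i, IsUnit (algebraMap B (Localization.AtPrime q.asIdeal) (wB i)) := fun i =>
    (IsUnit.of_mul_eq_one _ (hwB i)).map _
  have hloc : ∀ z : B, IsUnit (z : FractionRing A) →
      algebraMap B (Localization.AtPrime q.asIdeal) z ∈
        nonZeroDivisors (Localization.AtPrime q.asIdeal) := by
    intro z hz
    exact IsLocalization.map_nonZeroDivisors_le q.asIdeal.primeCompl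
      (Localization.AtPrime q.asIdeal) (Submonoid.mem_map_of_mem _ (hnzd z hz))
  by_cases hj : ∃ j, πB j ∈ q.asIdeal
  · obtain ⟨j0, hj0⟩ := hj
    have hother : ∀ j, j ≠ j0 → πB j ∉ q.asIdeal := by
      intro j hjj hmem
      have h1 := hcB (j, j0) hjj
      apply q.isMaximal.ne_top
      rw [Ideal.eq_top_iff_one, ← h1]
      exact add_mem (Ideal.mul_mem_left _ _ hmem) (Ideal.mul_mem_left _ _ hj0)
    refine ⟨algebraMap B _ (πB j0), hloc _ (hπu j0), fun i => ?_⟩
    have hu : IsUnit (algebraMap B (Localization.AtPrime q.asIdeal)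
        (wB i * ∏ j ∈ Finset.univ.erase j0, πB j ^ e i j)) := by
      rw [map_mul]
      refine (hwu i).mul ?_
      apply hunit
      intro hmem
      obtain ⟨j, hj1, hj2⟩ := (Ideal.IsPrime.prod_mem_iff (hp := q.isMaximal.isPrime)).mp hmem
      exact hother j (Finset.ne_of_mem_erase hj1)
        (q.isMaximal.isPrime.mem_of_pow_mem _ hj2)
    refine ⟨hu.unit, e i j0, ?_⟩
    rw [IsUnit.unit_spec, halg, haB, ← map_pow, ← map_mul, mul_assoc,
      Finset.prod_erase_mul _ _ (Finset.mem_univ j0)]
  · push Not at hj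
    refine ⟨1, one_mem _, fun i => ?_⟩
    have hu : IsUnit (algebraMap B (Localization.AtPrime q.asIdeal)
        (wB i * ∏ j, πB j ^ e i j)) := by
      rw [map_mul]
      refine (hwu i).mul ?_
      apply hunit
      intro hmem
      obtain ⟨j, hj1, hj2⟩ := (Ideal.IsPrime.prod_mem_iff (hp := q.isMaximal.isPrime)).mp hmem
      exact hj j (q.isMaximal.isPrime.mem_of_pow_mem _ hj2)
    refine ⟨hu.unit, 0, ?_⟩
    rw [IsUnit.unit_spec, halg, haB, pow_zero, mul_one]

end Aux

/-- Stacks Tag 0EAG: let A be a Noetherian local ring of dimension 1 and a₁, …, a_r (r ≥ 2) nonzerodivisors, not all units. There is a finite extension ring A ⊆ B with B/A killed by a power of the maximal ideal such that at every maximal ideal of B there is a nonzerodivisor π of the local ring B_𝔪 with each a_i equal to a unit of B_𝔪 times a power of π. -/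
theorem result (A : Type u) [CommRing A] [IsNoetherianRing A] [IsLocalRing A] (hA : ringKrullDim A = 1) (r : ℕ) (hr : 2 ≤ r) (a : Fin r → A) (ha : ∀ i, a i ∈ nonZeroDivisors A) (hna : ∃ i, ¬ IsUnit (a i)) : ∃ (B : Type u) (_ : CommRing B) (_ : Algebra A B), CycAlg.IsFinExt A B (IsLocalRing.maximalIdeal A) ∧ ∀ q : MaximalSpectrum B, ∃ π : Localization.AtPrime q.asIdeal, π ∈ nonZeroDivisors (Localization.AtPrime q.asIdeal) ∧ ∀ i, ∃ (v : (Localization.AtPrime q.asIdeal)ˣ) (e : ℕ), algebraMap A (Localization.AtPrime q.asIdeal) (a i) = (v : Localization.AtPrime q.asIdeal) * π ^ e := by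
  obtain ⟨i, hi⟩ := hna
  exact aux A hA r a ha (a i) (ha i) (by rwa [IsLocalRing.mem_maximalIdeal, mem_nonunits_iff])

end Groth.Agent.S1836
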