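import Groth.Statements.S1847
-- import your own Groth.Agent.* helpers here
import Groth.Agent.CycA.TameCompositum

set_option autoImplicit false
universe u
open CycAlg

namespace Groth.Agent.S1847

open Groth.Agent.CycA.TameSym Groth.Agent.CycA.TameNorm Groth.Agent.CycA.TameCompositum in
/-- The value of tame data when both elements are units is `1`. -/
theorem value_units {A : Type u} [CommRing A] [IsLocalRing A] {a₁ a₂ : A} (h₁ : IsUnit a₁)
    (h₂ : IsUnit a₂) (D : CycAlg.TameData A a₁ a₂) : D.value = 1 := by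
  rw [value_eq]
  refine (finprod_congr fun q => ?_).trans finprod_one
  rw [locSym_units (h₁.map _) (h₂.map _), map_one]

/-- Stacks Tag 0EAR: let A be a Noetherian local ring of dimension 1 and a₁, a₂ nonzerodivisors. Any two choices of tame data (finite extension B, local parameters π_j, factorizations a_i = u_{i,j} π_j^{e_{i,j}}) give the same product of norms, so the tame symbol ∂_A(a₁, a₂) is well defined. -/
theorem result (A : Type u) [CommRing A] [IsNoetherianRing A] [IsLocalRing A] (hA : ringKrullDim A = 1) (a₁ a₂ : A) (h₁ : a₁ ∈ nonZeroDivisors A) (h₂ : a₂ ∈ nonZeroDivisors A) (D D' : CycAlg.TameData A a₁ a₂) : D.value = D'.value := by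
  have hdim : Ring.KrullDimLE 1 A := by
    rw [Ring.KrullDimLE, Order.krullDimLE_iff]
    exact hA.le
  by_cases hu : IsUnit a₁ ∧ IsUnit a₂
  · rw [value_units hu.1 hu.2 D, value_units hu.1 hu.2 D']
  · have hc : ∃ c : A, (c = a₁ ∨ c = a₂) ∧ c ∈ IsLocalRing.maximalIdeal A ∧
        c ∈ nonZeroDivisors A := by
      by_cases h : IsUnit a₁
      · exact ⟨a₂, Or.inr rfl, fun h' => hu ⟨h, h'⟩, h₂⟩
      · exact ⟨a₁, Or.inl rfl, h, h₁⟩
    obtain ⟨c, hc, hcm, hcA⟩ := hc
    have hD := D.isLocalHom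
    have hD' := D'.isLocalHom
    have hf := D.isFinExt.2.1
    have hf' := D'.isFinExt.2.1
    have : Finite (MaximalSpectrum D.B) := Groth.Agent.CycA.TameNorm.finite_maximalSpectrum A D.B
    have : Finite (MaximalSpectrum D'.B) := Groth.Agent.CycA.TameNorm.finite_maximalSpectrum A D'.B
    have : Fintype (MaximalSpectrum D.B) := Fintype.ofFinite _
    have : Fintype (MaximalSpectrum D'.B) := Fintype.ofFinite _
    rw [Groth.Agent.CycA.TameNorm.value_eq, Groth.Agent.CycA.TameNorm.value_eq,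
      finprod_eq_prod_of_fintype, finprod_eq_prod_of_fintype]
    exact Groth.Agent.CycA.TameCompositum.prod_locSym_eq D.isFinExt D'.isFinExt hc hcm hcA
      (fun q => ⟨⟨D.π q, D.π_mem q, D.u₁ q, D.u₂ q, D.e₁ q, D.e₂ q, D.fac₁ q, D.fac₂ q⟩⟩)
      (fun q => ⟨⟨D'.π q, D'.π_mem q, D'.u₁ q, D'.u₂ q, D'.e₁ q, D'.e₂ q, D'.fac₁ q, D'.fac₂ q⟩⟩)

end Groth.Agent.S1847
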