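import Groth.Statements.S1850
import Groth.Agent.CycA.TameFlat
import Groth.Agent.S1836
import Groth.Agent.S1847

set_option autoImplicit false
universe u
open CycAlg

namespace Groth.Agent.S1850

/-- Existence of tame data. -/
theorem nonempty_tameData (A : Type u) [CommRing A] [IsNoetherianRing A] [IsLocalRing A]
    (hA : ringKrullDim A = 1) (a₁ a₂ : A) (h₁ : a₁ ∈ nonZeroDivisors A)
    (h₂ : a₂ ∈ nonZeroDivisors A) : Nonempty (TameData A a₁ a₂) := by
  by_cases hu : IsUnit a₁ ∧ IsUnit a₂
  · exact ⟨{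
      B := A
      isFinExt := ⟨Function.injective_id, inferInstance, 0, fun r _ b => ⟨r • b, rfl⟩⟩
      isLocalHom := fun q => Groth.Agent.CycA.FinLocal.isLocalHom q
      π := fun q => 1
      π_mem := fun q => Submonoid.one_mem _
      u₁ := fun q => (hu.1.map (algebraMap A (Localization.AtPrime q.asIdeal))).unit
      u₂ := fun q => (hu.2.map (algebraMap A (Localization.AtPrime q.asIdeal))).unit
      e₁ := fun q => 0
      e₂ := fun q => 0
      fac₁ := fun q => by rw [pow_zero, mul_one]; rfl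
      fac₂ := fun q => by rw [pow_zero, mul_one]; rfl }⟩
  · have hna : ∃ i, ¬ IsUnit ((![a₁, a₂] : Fin 2 → A) i) := by
      by_cases h : IsUnit a₁
      · exact ⟨1, fun h' => hu ⟨h, h'⟩⟩
      · exact ⟨0, h⟩
    obtain ⟨B, _, _, hB, hfac⟩ := Groth.Agent.S1836.result A hA 2 le_rfl ![a₁, a₂]
      (by
        intro i
        fin_cases i
        · exact h₁
        · exact h₂) hna
    choose π hπ hfac using hfac
    choose v e hv using hfac
    have := hB.2.1
    exact ⟨{
      B := B
      isFinExt := hB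
      isLocalHom := fun q => Groth.Agent.CycA.FinLocal.isLocalHom q
      π := π
      π_mem := hπ
      u₁ := fun q => v q 0
      u₂ := fun q => v q 1
      e₁ := fun q => e q 0
      e₂ := fun q => e q 1
      fac₁ := fun q => hv q 0
      fac₂ := fun q => hv q 1 }⟩

/-- The tame symbol is computed by any tame data. -/
theorem tameSymbol_eq (A : Type u) [CommRing A] [IsNoetherianRing A] [IsLocalRing A]
    (hA : ringKrullDim A = 1) (a₁ a₂ : A) (h₁ : a₁ ∈ nonZeroDivisors A)
    (h₂ : a₂ ∈ nonZeroDivisors A) (D : TameData A a₁ a₂) : tameSymbol A a₁ a₂ = D.value := by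
  unfold tameSymbol
  rw [dif_pos ⟨D⟩]
  exact Groth.Agent.S1847.result A hA a₁ a₂ h₁ h₂ _ _

/-- Flat ring maps preserve nonzerodivisors. -/
theorem map_mem {A A' : Type u} [CommRing A] [CommRing A'] [Algebra A A'] [Module.Flat A A']
    {a : A} (h : a ∈ nonZeroDivisors A) : algebraMap A A' a ∈ nonZeroDivisors A' := by
  have h1 : IsSMulRegular A a := fun y z hyz => (mul_cancel_left_mem_nonZeroDivisors h).mp hyz
  have h2 : IsSMulRegular A' (algebraMap A A' a) := h1.of_flat
  rw [mem_nonZeroDivisors_iff]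
  have h3 : ∀ y, algebraMap A A' a * y = 0 → y = 0 := fun y hy => h2 (by
    change algebraMap A A' a * y = algebraMap A A' a * 0
    rw [hy, mul_zero])
  exact ⟨h3, fun y hy => h3 y (by rw [mul_comm]; exact hy)⟩

/-- Stacks Tag 0EPG: let A → A' be a flat local homomorphism of Noetherian local rings of dimension 1 and m = length_{A'}(A'/𝔪_A A'). For nonzerodivisors a₁, a₂ of A the image of ∂_A(a₁, a₂)^m in the residue field of A' equals ∂_{A'}(a₁, a₂). -/
theorem result (A A' : Type u) [CommRing A] [CommRing A'] [IsNoetherianRing A] [IsNoetherianRing A'] [IsLocalRing A] [IsLocalRing A'] [Algebra A A'] [IsLocalHom (algebraMap A A')] [Module.Flat A A'] (hA : ringKrullDim A = 1) (hA' : ringKrullDim A' = 1) (a₁ a₂ : A) (h₁ : a₁ ∈ nonZeroDivisors A) (h₂ : a₂ ∈ nonZeroDivisors A) : IsLocalRing.ResidueField.map (algebraMap A A') (CycAlg.tameSymbol A a₁ a₂) ^ (Module.length A' (A' ⧸ Ideal.map (algebraMap A A') (IsLocalRing.maximalIdeal A))).toNat = CycAlg.tameSymbol A' (algebraMap A A' a₁) (algebraMap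 A A' a₂) := by
  obtain ⟨D⟩ := nonempty_tameData A hA a₁ a₂ h₁ h₂
  rw [tameSymbol_eq A hA a₁ a₂ h₁ h₂ D,
    tameSymbol_eq A' hA' _ _ (map_mem h₁) (map_mem h₂)
      (Groth.Agent.CycA.TameFlat.baseData (A' := A') hA hA' D),
    Groth.Agent.CycA.TameFlat.value_baseData hA hA' D]
  congr 1

end Groth.Agent.S1850
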