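import Groth.Statements.S1851
import Groth.Agent.S1850
import Groth.Agent.CycB.KeyFin

set_option autoImplicit false
universe u
open CycAlg

namespace Groth.Agent.S1851

section Aux

open IsLocalRing Groth.Agent.CycB.KeyFin Groth.Agent.CycB.KeyDet

variable {A : Type u} [CommRing A] [IsNoetherianRing A] [IsLocalRing A] (a b : A)

/-- The term of the sum at a prime. -/
noncomputable abbrev term (q : PrimeSpectrum A) : ℤ :=
  CycAlg.ordFrac (A ⧸ q.asIdeal) q.asIdeal.ResidueField (CycAlg.tameSymbol
      (Localization.AtPrime q.asIdeal) (algebraMap A (Localization.AtPrime q.asIdeal) a)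
      (algebraMap A (Localization.AtPrime q.asIdeal) b))

omit [IsNoetherianRing A] [IsLocalRing A] in
theorem term_eq_zero (q : PrimeSpectrum A) (hab : a * b ∉ q.asIdeal) : term a b q = 0 := by
  have h : IsUnit (algebraMap A (Localization.AtPrime q.asIdeal) (a * b)) :=
    IsLocalization.map_units (M := q.asIdeal.primeCompl) _ ⟨a * b, hab⟩
  rw [map_mul] at h
  have h1 := tameSymbol_of_isUnit _ _ _ (isUnit_of_mul_isUnit_left h)
    (isUnit_of_mul_isUnit_right h)
  unfold term
  rw [h1]
  exact ordFrac_one _ _

/-- The index set: height one primes containing `ab`. -/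
abbrev P (a b : A) : Type u := {q : PrimeSpectrum A // q.asIdeal.height = 1 ∧ a * b ∈ q.asIdeal}

omit [IsLocalRing A] in
theorem finite_P (hab : a * b ∈ nonZeroDivisors A) :
    Finite (P a b) := by
  have hfin : (Ideal.span {a * b}).minimalPrimes.Finite :=
    Ideal.finite_minimalPrimes_of_isNoetherianRing A _
  have := hfin.to_subtype
  refine Finite.of_injective (β := (Ideal.span {a * b}).minimalPrimes)
    (fun q => ⟨q.1.asIdeal, ?_⟩) ?_
  · refine ⟨⟨q.1.isPrime, (Ideal.span_singleton_le_iff_mem _).mpr q.2.2⟩, ?_⟩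
    rintro p ⟨hp1, hp2⟩ hpq
    have h1 : 1 ≤ p.height := (Ideal.one_le_height_span_singleton_of_mem_nonZeroDivisors hab).trans
      (Ideal.height_mono hp2)
    have h2 := q.2.1
    have := hp1
    exact (Ideal.eq_of_le_of_height_le p hpq (h2.le.trans h1)).ge
  · intro q q' h
    exact Subtype.ext (PrimeSpectrum.ext (congrArg Subtype.val h))

theorem exists_data (ha : a ∈ nonZeroDivisors A) (hb : b ∈ nonZeroDivisors A)
    (q : Ideal A) [q.IsPrime] (hq : q.height = 1) :
    ∃ D : TameData (Localization.AtPrime q) (algebraMap A (Localization.AtPrime q) a)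
      (algebraMap A (Localization.AtPrime q) b), tameSymbol (Localization.AtPrime q)
        (algebraMap A (Localization.AtPrime q) a)
      (algebraMap A (Localization.AtPrime q) b) = D.value := by
  have hdim : ringKrullDim (Localization.AtPrime q) = 1 := by
    rw [IsLocalization.AtPrime.ringKrullDim_eq_height q, hq]
    rfl
  have hnzd : ∀ {x : A}, x ∈ nonZeroDivisors A →
      algebraMap A (Localization.AtPrime q) x ∈ nonZeroDivisors (Localization.AtPrime q) := by
    intro x hx
    exact IsLocalization.map_nonZeroDivisors_le q.primeCompl _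
      (Submonoid.mem_map_of_mem _ hx)
  have hnoeth : IsNoetherianRing (Localization.AtPrime q) :=
    IsLocalization.isNoetherianRing q.primeCompl _ inferInstance
  have hne := Groth.Agent.S1850.nonempty_tameData _ hdim _ _ (hnzd ha) (hnzd hb)
  refine ⟨Classical.choice hne, ?_⟩
  unfold tameSymbol
  rw [dif_pos hne]

theorem sum_eq_zero (hA : ringKrullDim A = 2) (ha : a ∈ nonZeroDivisors A)
    (hb : b ∈ nonZeroDivisors A) [Fintype (P a b)] :
    ∑ q : P a b, term a b q.1 = 0 := by
  have hab : a * b ∈ nonZeroDivisors A := mul_mem ha hb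
  have hne : ∀ i : P a b, i.1.asIdeal ≠ maximalIdeal A := fun i h => by
    have h1 := i.2.1
    have h2 := height_maximalIdeal hA
    rw [h, h2] at h1
    exact absurd h1 (by decide)
  have hdata : ∀ i : P a b, ∃ D : TameData (Localization.AtPrime i.1.asIdeal)
      (algebraMap A (Localization.AtPrime i.1.asIdeal) a)
      (algebraMap A (Localization.AtPrime i.1.asIdeal) b),
      tameSymbol (Localization.AtPrime i.1.asIdeal)
        (algebraMap A (Localization.AtPrime i.1.asIdeal) a)
        (algebraMap A (Localization.AtPrime i.1.asIdeal) b) = D.value :=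
    fun i => exists_data a b ha hb i.1.asIdeal i.2.1
  choose D hD using hdata
  have key := sum_formula a b ha hb (fun i : P a b => i.1.asIdeal)
    (fun i j hij => Subtype.ext (PrimeSpectrum.ext
        (eq_of_le_of_height i.1.asIdeal j.1.asIdeal hij i.2.1.ge j.2.1.le)))
    hne (fun i => i.2.2)
    (fun p hp hpab => by
      by_cases h : p = maximalIdeal A
      · exact Or.inl h
      · exact Or.inr ⟨⟨⟨p, hp⟩, le_antisymm (height_le_one hA p h) (one_le_height hab p hpab),
          hpab⟩, rfl⟩)
    (fun i => dimOne_of_height hA i.1.asIdeal i.2.1)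
    (fun i p hp hpq hpab => eq_of_le_of_height p i.1.asIdeal hpq (one_le_height hab p hpab)
      i.2.1.le)
    D
  refine Eq.trans (Finset.sum_congr rfl fun i _ => ?_) key
  unfold term
  rw [hD i]

end Aux

/-- Stacks Tag 0EAW (the key lemma for nonzerodivisors; a low-degree case of the Gersten complex for Milnor K-theory): let A be a Noetherian local ring of dimension 2 and a, b nonzerodivisors. Then the sum over the height-one primes 𝔮 of A of ord_{A/𝔮}(∂_{A_𝔮}(a, b)) is zero, where ∂_{A_𝔮} is the tame symbol of the one-dimensional local ring A_𝔮 with values in κ(𝔮) = Frac(A/𝔮) (only finitely many terms are nonzero). -/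
theorem result (A : Type u) [CommRing A] [IsNoetherianRing A] [IsLocalRing A] (hA : ringKrullDim A = 2) (a b : A) (ha : a ∈ nonZeroDivisors A) (hb : b ∈ nonZeroDivisors A) : ∑ᶠ (q : PrimeSpectrum A) (_ : q.asIdeal.height = 1), CycAlg.ordFrac (A ⧸ q.asIdeal) q.asIdeal.ResidueField (CycAlg.tameSymbol (Localization.AtPrime q.asIdeal) (algebraMap A (Localization.AtPrime q.asIdeal) a) (algebraMap A (Localization.AtPrime q.asIdeal) b)) = 0 := by
  classical
  have hfin := finite_P a b (mul_mem ha hb)
  have := Fintype.ofFinite (P a b)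
  have key := sum_eq_zero a b hA ha hb
  rw [← finsum_eq_sum_of_fintype] at key
  change ∑ᶠ (q : PrimeSpectrum A) (_ : q.asIdeal.height = 1), term a b q = 0
  rw [← key]
  have h1 : ∀ q : PrimeSpectrum A, (∑ᶠ (_ : q.asIdeal.height = 1), term a b q)
      = ∑ᶠ (_ : q.asIdeal.height = 1 ∧ a * b ∈ q.asIdeal), term a b q := by
    intro q
    by_cases h : q.asIdeal.height = 1
    · by_cases h' : a * b ∈ q.asIdeal
      · rw [finsum_eq_if, finsum_eq_if, if_pos h, if_pos ⟨h, h'⟩]
      · rw [finsum_eq_if, finsum_eq_if, if_pos h, if_neg (fun h'' => h' h''.2),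
          term_eq_zero a b q h']
    · rw [finsum_eq_if, finsum_eq_if, if_neg h, if_neg (fun h'' => h h''.1)]
  rw [finsum_congr h1]
  exact (finsum_subtype_eq_finsum_cond (f := term a b)
    (fun q : PrimeSpectrum A => q.asIdeal.height = 1 ∧ a * b ∈ q.asIdeal)).symm

end Groth.Agent.S1851
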