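import Groth.Statements.S1848
-- import your own Groth.Agent.* helpers here
import Groth.Agent.CycA.TameLaws
import Groth.Agent.CycA.TameNormProd
import Groth.Agent.S1836

set_option autoImplicit false
universe u
open CycAlg

namespace Groth.Agent.S1848

section Aux

open IsLocalRing Groth.Agent.CycA.TameSym Groth.Agent.CycA.TameLen
  Groth.Agent.CycA.TameNorm Groth.Agent.CycA.TameTower Groth.Agent.CycA.TameCompare
  Groth.Agent.CycA.TameCompositum Groth.Agent.CycA.TameValue Groth.Agent.CycA.TameNormProd
  Groth.Agent.CycA.TameLaws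

/-- Existence of a finite extension on which finitely many elements factor locally through one
parameter; the elements are given by a list of three. -/
theorem exists_common (A : Type u) [CommRing A] [IsNoetherianRing A] [IsLocalRing A]
    (hA : ringKrullDim A = 1) (a : Fin 3 → A) (ha : ∀ i, a i ∈ nonZeroDivisors A)
    (hna : ∃ i, ¬ IsUnit (a i)) :
    ∃ (B : Type u) (_ : CommRing B) (_ : Algebra A B) (_ : Fintype (MaximalSpectrum B))
      (_ : ∀ q : MaximalSpectrum B, IsLocalHom (algebraMap A (Localization.AtPrime q.asIdeal))),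
      IsFinExt A B (maximalIdeal A) ∧
      ∀ q : MaximalSpectrum B, ∃ π : Localization.AtPrime q.asIdeal,
        π ∈ nonZeroDivisors (Localization.AtPrime q.asIdeal) ∧
        ∀ i, ∃ (v : (Localization.AtPrime q.asIdeal)ˣ) (e : ℕ),
          algebraMap A (Localization.AtPrime q.asIdeal) (a i) = v * π ^ e := by
  obtain ⟨B, iB, iAB, hB, hq⟩ := Groth.Agent.S1836.result A hA 3 (by norm_num) a ha hna
  have hfin := hB.2.1
  have i1 : Finite (MaximalSpectrum B) := finite_maximalSpectrum A B
  exact ⟨B, iB, iAB, Fintype.ofFinite _, fun q => isLocalHom_algebraMap A q, hB, hq⟩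

theorem ne_zero (A : Type u) [CommRing A] [IsLocalRing A] (a b : A) :
    tameSymbol A a b ≠ 0 := by
  unfold tameSymbol
  split_ifs with h
  · generalize Classical.choice h = D
    have hD := D.isLocalHom
    have hf := D.isFinExt.2.1
    have : Finite (MaximalSpectrum D.B) := finite_maximalSpectrum A D.B
    have : Fintype (MaximalSpectrum D.B) := Fintype.ofFinite _
    rw [value_eq, finprod_eq_prod_of_fintype, Finset.prod_ne_zero_iff]
    intro q _
    have := finite_residueField A q
    exact Algebra.norm_ne_zero_iff.2 (locSym_ne_zero _ _ _)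
  · exact one_ne_zero

/-- The factorization of a pair out of common factorizations. -/
theorem fac_pair {L : Type u} [CommRing L] {π x y : L} (hπ : π ∈ nonZeroDivisors L)
    (hx : ∃ (v : Lˣ) (e : ℕ), x = v * π ^ e) (hy : ∃ (v : Lˣ) (e : ℕ), y = v * π ^ e) :
    Nonempty (Fac L x y) := by
  obtain ⟨u, e, hx⟩ := hx
  obtain ⟨v, f, hy⟩ := hy
  exact ⟨⟨π, hπ, u, v, e, f, hx, hy⟩⟩

theorem mul_pair {L : Type u} [CommRing L] {π x y : L}
    (hx : ∃ (v : Lˣ) (e : ℕ), x = v * π ^ e) (hy : ∃ (v : Lˣ) (e : ℕ), y = v * π ^ e) :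
    ∃ (v : Lˣ) (e : ℕ), x * y = v * π ^ e := by
  obtain ⟨u, e, rfl⟩ := hx
  obtain ⟨v, f, rfl⟩ := hy
  exact ⟨u * v, e + f, by push_cast; ring⟩

theorem mul_laws (A : Type u) [CommRing A] [IsNoetherianRing A] [IsLocalRing A]
    (hA : ringKrullDim A = 1) (a a' b : A) (ha : a ∈ nonZeroDivisors A)
    (ha' : a' ∈ nonZeroDivisors A) (hb : b ∈ nonZeroDivisors A) :
    tameSymbol A (a * a') b = tameSymbol A a b * tameSymbol A a' b ∧
    tameSymbol A b (a * a') = tameSymbol A b a * tameSymbol A b a' := by
  have hdim : Ring.KrullDimLE 1 A := by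
    rw [Ring.KrullDimLE, Order.krullDimLE_iff]
    exact hA.le
  by_cases hu : IsUnit a ∧ IsUnit a' ∧ IsUnit b
  · obtain ⟨h1, h2, h3⟩ := hu
    rw [tameSymbol_units (h1.mul h2) h3, tameSymbol_units h1 h3, tameSymbol_units h2 h3,
      tameSymbol_units h3 (h1.mul h2), tameSymbol_units h3 h1, tameSymbol_units h3 h2]
    simp
  · obtain ⟨B, iB, iAB, iF, iL, hB, hq⟩ := exists_common A hA ![a, a', b] (by
      intro i
      fin_cases i
      · exact ha
      · exact ha'
      · exact hb) (by
      by_contra h
      push Not at h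
      exact hu ⟨h 0, h 1, h 2⟩)
    choose π hπ hi using hq
    have e0 := fun q => hi q 0
    have e1 := fun q => hi q 1
    have e2 := fun q => hi q 2
    simp only [Matrix.cons_val_zero, Matrix.cons_val_one, Matrix.cons_val] at e0 e1 e2
    have e01 : ∀ q : MaximalSpectrum B, ∃ (v : (Localization.AtPrime q.asIdeal)ˣ) (e : ℕ),
        algebraMap A (Localization.AtPrime q.asIdeal) (a * a') = v * π q ^ e := by
      intro q
      rw [map_mul]
      exact mul_pair (e0 q) (e1 q)
    constructor
    · rw [tameSymbol_eq_prod hB (mul_mem ha ha') hb fun q => fac_pair (hπ q) (e01 q) (e2 q),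
        tameSymbol_eq_prod hB ha hb fun q => fac_pair (hπ q) (e0 q) (e2 q),
        tameSymbol_eq_prod hB ha' hb fun q => fac_pair (hπ q) (e1 q) (e2 q),
        ← Finset.prod_mul_distrib]
      refine Finset.prod_congr rfl fun q _ => ?_
      rw [map_mul, locSym_mul_left (hπ q) (e0 q) (e1 q) (e2 q), map_mul]
    · rw [tameSymbol_eq_prod hB hb (mul_mem ha ha') fun q => fac_pair (hπ q) (e2 q) (e01 q),
        tameSymbol_eq_prod hB hb ha fun q => fac_pair (hπ q) (e2 q) (e0 q),
        tameSymbol_eq_prod hB hb ha' fun q => fac_pair (hπ q) (e2 q) (e1 q),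
        ← Finset.prod_mul_distrib]
      refine Finset.prod_congr rfl fun q _ => ?_
      rw [map_mul, locSym_mul_right (hπ q) (e0 q) (e1 q) (e2 q), map_mul]

theorem steinberg (A : Type u) [CommRing A] [IsNoetherianRing A] [IsLocalRing A]
    (hA : ringKrullDim A = 1) (a b : A) (ha : a ∈ nonZeroDivisors A)
    (hb : b ∈ nonZeroDivisors A) (hab : b - a ∈ nonZeroDivisors A) :
    tameSymbol A a (b - a) * tameSymbol A b b = tameSymbol A b (b - a) * tameSymbol A a b := by
  have hdim : Ring.KrullDimLE 1 A := by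
    rw [Ring.KrullDimLE, Order.krullDimLE_iff]
    exact hA.le
  by_cases hu : IsUnit a ∧ IsUnit b ∧ IsUnit (b - a)
  · obtain ⟨h1, h2, h3⟩ := hu
    rw [tameSymbol_units h1 h3, tameSymbol_units h2 h2, tameSymbol_units h2 h3,
      tameSymbol_units h1 h2]
  · obtain ⟨B, iB, iAB, iF, iL, hB, hq⟩ := exists_common A hA ![a, b, b - a] (by
      intro i
      fin_cases i
      · exact ha
      · exact hb
      · exact hab) (by
      by_contra h
      push Not at h
      exact hu ⟨h 0, h 1, h 2⟩)
    choose π hπ hi using hq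
    have e0 := fun q => hi q 0
    have e1 := fun q => hi q 1
    have e2 := fun q => hi q 2
    simp only [Matrix.cons_val_zero, Matrix.cons_val_one, Matrix.cons_val] at e0 e1 e2
    rw [tameSymbol_eq_prod hB ha hab fun q => fac_pair (hπ q) (e0 q) (e2 q),
      tameSymbol_eq_prod hB hb hb fun q => fac_pair (hπ q) (e1 q) (e1 q),
      tameSymbol_eq_prod hB hb hab fun q => fac_pair (hπ q) (e1 q) (e2 q),
      tameSymbol_eq_prod hB ha hb fun q => fac_pair (hπ q) (e0 q) (e1 q),
      ← Finset.prod_mul_distrib, ← Finset.prod_mul_distrib]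
    refine Finset.prod_congr rfl fun q _ => ?_
    have e2' := e2 q
    rw [map_sub] at e2'
    rw [← map_mul, ← map_mul, map_sub, locSym_steinberg (hπ q) (e0 q) (e1 q) e2']

/-- The order on `A` in terms of the orders on a finite extension. -/
theorem ord_eq (A : Type u) [CommRing A] [IsNoetherianRing A] [IsLocalRing A]
    [Ring.KrullDimLE 1 A] (B : Type u) [CommRing B] [Algebra A B] [Fintype (MaximalSpectrum B)]
    [∀ q : MaximalSpectrum B, IsLocalHom (algebraMap A (Localization.AtPrime q.asIdeal))]
    (hB : IsFinExt A B (maximalIdeal A)) {b : A} (hb : b ∈ nonZeroDivisors A)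
    (hbm : b ∈ maximalIdeal A) (hbB : algebraMap A B b ∈ nonZeroDivisors B) :
    (Ring.ord A b).toNat = ∑ q : MaximalSpectrum B,
      (Ring.ord (Localization.AtPrime q.asIdeal)
        (algebraMap A (Localization.AtPrime q.asIdeal) b)).toNat *
      Module.finrank (ResidueField A) (ResidueField (Localization.AtPrime q.asIdeal)) := by
  obtain ⟨hinj, hfin, n, hn⟩ := hB
  refine toNat_ord_eq_sum hinj ?_ b hbB (Ring.ord_ne_top hb)
  refine length_ne_top_of_smul_eq_zero (pow_mem hb n) fun x => ?_
  obtain ⟨x, rfl⟩ := Submodule.Quotient.mk_surjective _ x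
  rw [← Submodule.Quotient.mk_smul, Submodule.Quotient.mk_eq_zero]
  exact hn _ (Ideal.pow_mem_pow hbm n) x

theorem self_law (A : Type u) [CommRing A] [IsNoetherianRing A] [IsLocalRing A]
    (hA : ringKrullDim A = 1) (b : A) (hb : b ∈ nonZeroDivisors A) :
    tameSymbol A b b = (-1) ^ (Ring.ord A b).toNat := by
  have hdim : Ring.KrullDimLE 1 A := by
    rw [Ring.KrullDimLE, Order.krullDimLE_iff]
    exact hA.le
  by_cases hu : IsUnit b
  · rw [tameSymbol_units hu hu, Ring.ord_of_isUnit hu]
    simp
  · obtain ⟨B, iB, iAB, iF, iL, hB, hq⟩ := exists_common A hA ![b, b, b] (by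
      intro i
      fin_cases i <;> exact hb) ⟨0, hu⟩
    choose π hπ hi using hq
    have e0 := fun q => hi q 0
    simp only [Matrix.cons_val_zero] at e0
    have hfac := fun q => fac_pair (hπ q) (e0 q) (e0 q)
    have hreg := regular_of_fac (Or.inl (rfl : b = b)) hfac
    rw [tameSymbol_eq_prod hB hb hb hfac, ord_eq A B hB hb hu hreg,
      ← Finset.prod_pow_eq_pow_sum]
    refine Finset.prod_congr rfl fun q _ => ?_
    have h1 : locSym (Localization.AtPrime q.asIdeal)
        (algebraMap A (Localization.AtPrime q.asIdeal) b)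
        (algebraMap A (Localization.AtPrime q.asIdeal) b) =
        algebraMap (ResidueField A) (ResidueField (Localization.AtPrime q.asIdeal))
          ((-1) ^ (Ring.ord (Localization.AtPrime q.asIdeal)
            (algebraMap A (Localization.AtPrime q.asIdeal) b)).toNat) := by
      rw [locSym_self (hfac q)]
      simp
    rw [h1, Algebra.norm_algebraMap, ← pow_mul]

theorem unit_law (A : Type u) [CommRing A] [IsNoetherianRing A] [IsLocalRing A]
    (hA : ringKrullDim A = 1) (c : Aˣ) (b : A) (hb : b ∈ nonZeroDivisors A) :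
    tameSymbol A (c : A) b = residue A (c : A) ^ (Ring.ord A b).toNat := by
  have hdim : Ring.KrullDimLE 1 A := by
    rw [Ring.KrullDimLE, Order.krullDimLE_iff]
    exact hA.le
  by_cases hu : IsUnit b
  · rw [tameSymbol_units c.isUnit hu, Ring.ord_of_isUnit hu]
    simp
  · have hc : (c : A) ∈ nonZeroDivisors A := c.isUnit.mem_nonZeroDivisors
    obtain ⟨B, iB, iAB, iF, iL, hB, hq⟩ := exists_common A hA ![(c : A), b, b] (by
      intro i
      fin_cases i
      · exact hc
      · exact hb
      · exact hb) ⟨1, hu⟩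
    choose π hπ hi using hq
    have e0 := fun q => hi q 0
    have e1 := fun q => hi q 1
    simp only [Matrix.cons_val_zero, Matrix.cons_val_one] at e0 e1
    have hfac := fun q => fac_pair (hπ q) (e0 q) (e1 q)
    have hreg := regular_of_fac (Or.inr (rfl : b = b)) hfac
    rw [tameSymbol_eq_prod hB hc hb hfac, ord_eq A B hB hb hu hreg,
      ← Finset.prod_pow_eq_pow_sum]
    refine Finset.prod_congr rfl fun q _ => ?_
    have h1 : locSym (Localization.AtPrime q.asIdeal)
        (algebraMap A (Localization.AtPrime q.asIdeal) c)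
        (algebraMap A (Localization.AtPrime q.asIdeal) b) =
        algebraMap (ResidueField A) (ResidueField (Localization.AtPrime q.asIdeal))
          (residue A (c : A) ^ (Ring.ord (Localization.AtPrime q.asIdeal)
            (algebraMap A (Localization.AtPrime q.asIdeal) b)).toNat) := by
      have h2 := locSym_unit (Units.map (algebraMap A
        (Localization.AtPrime q.asIdeal)).toMonoidHom c) (hπ q) (e1 q)
      refine h2.trans ?_
      rw [map_pow]
      rfl
    rw [h1, Algebra.norm_algebraMap, ← pow_mul]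

end Aux

/-- Stacks Tag 0EAS (properties (4)–(7) of Section 0EAH): for a Noetherian local ring A of dimension 1 the tame symbol on pairs of nonzerodivisors takes nonzero values, is multiplicative in each variable, satisfies ∂(b, b) = (−1)^m and ∂(u, b) = ū^m for a unit u where m = length(A/bA), and ∂(a, b − a) ∂(b, b) = ∂(b, b − a) ∂(a, b) whenever a, b, b − a are nonzerodivisors. -/
theorem result (A : Type u) [CommRing A] [IsNoetherianRing A] [IsLocalRing A] (hA : ringKrullDim A = 1) : (∀ a b : A, a ∈ nonZeroDivisors A → b ∈ nonZeroDivisors A → CycAlg.tameSymbol A a b ≠ 0) ∧ (∀ a a' b : A, a ∈ nonZeroDivisors A → a' ∈ nonZeroDivisors A → b ∈ nonZeroDivisors A → CycAlg.tameSymbol A (a * a') b = CycAlg.tameSymbol A a b * CycAlg.tameSymbol A a' b ∧ CycAlg.tameSymbol A b (a * a') = CycAlg.tameSymbol A b a * CycAlg.tameSymbol A b a') ∧ (∀ b : A, b ∈ nonZeroDivisors A → CycAlg.tameSymbol A b b = (-1) ^ (Module.length A (A ⧸ Ideal.span {b})).toNat) ∧ (∀ (c : Aˣ) (b : A), b ∈ nonZeroDivisors A → CycAlg.tameSymbol A (c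 : A) b = IsLocalRing.residue A (c : A) ^ (Module.length A (A ⧸ Ideal.span {b})).toNat) ∧ (∀ a b : A, a ∈ nonZeroDivisors A → b ∈ nonZeroDivisors A → b - a ∈ nonZeroDivisors A → CycAlg.tameSymbol A a (b - a) * CycAlg.tameSymbol A b b = CycAlg.tameSymbol A b (b - a) * CycAlg.tameSymbol A a b) := by
  exact ⟨fun a b _ _ => ne_zero A a b,
    fun a a' b ha ha' hb => mul_laws A hA a a' b ha ha' hb,
    fun b hb => self_law A hA b hb,
    fun c b hb => unit_law A hA c b hb,
    fun a b ha hb hab => steinberg A hA a b ha hb hab⟩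

end Groth.Agent.S1848
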