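import Groth.Statements.S0923
import Groth.Agent.Dcoh.LocalFree

set_option autoImplicit false
universe u
open CategoryTheory
attribute [local instance] HasDerivedCategory.standard
open DCoh

namespace Groth.Agent.S0923

open AlgebraicGeometry CategoryTheory.Limits in
/-- Stacks Tag 0BCJ (schemes, whose stalks are local rings as the source requires; equivalence of (1) and (3)): E in D(O_X) is perfect if and only if every point has an open neighbourhood V such that the restriction to V of any complex representing E is isomorphic in D(O_V) to a bounded complex each of whose terms is isomorphic to a finite free O_V-module. -/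
theorem result {X : Scheme.{u}} (E : DCoh.D X) :
    DCoh.IsPerfect E ↔ ∀ x : X, ∃ V : X.Opens, x ∈ V ∧
      ∀ F : CochainComplex X.Modules ℤ, Nonempty (DCoh.toD X F ≅ E) →
        ∃ (P : CochainComplex (V : Scheme.{u}).Modules ℤ) (a b : ℤ), DCoh.VanishesOutside P a b ∧
          (∀ i : ℤ, ∃ n : ℕ, Nonempty (P.X i ≅ FlatMod.freeMod (V : Scheme.{u}) n)) ∧
          Nonempty (DerivedCategory.Q.obj ((DCoh.restrictCx V).obj F) ≅ DerivedCategory.Q.obj P) := by
  rw [Groth.Agent.Dcoh.LocalFree.isPerfect_iff_locally_freePerf]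
  constructor
  · intro h x
    obtain ⟨V, hx, hV⟩ := h x
    refine ⟨V, hx, fun F ⟨b⟩ => ?_⟩
    obtain ⟨P, p, q, h1, h2, h3⟩ := Groth.Agent.Dcoh.LocalFree.isStable_freePerf.iso
      ((DCoh.restrictD V.ι).mapIso b.symm ≪≫ Groth.Agent.Dcoh.LocalD.QRestrict V.ι F) hV
    exact ⟨P, p, q, h1, h2, h3⟩
  · intro h x
    obtain ⟨V, hx, hV⟩ := h x
    obtain ⟨P, p, q, h1, h2, h3⟩ := hV (DerivedCategory.Q.objPreimage E)
      ⟨DerivedCategory.Q.objObjPreimageIso E⟩
    exact ⟨V, hx, Groth.Agent.Dcoh.LocalFree.isStable_freePerf.iso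
      ((Groth.Agent.Dcoh.LocalD.QRestrict V.ι _).symm ≪≫ (DCoh.restrictD V.ι).mapIso
        (DerivedCategory.Q.objObjPreimageIso E)) ⟨P, p, q, h1, h2, h3⟩⟩

end Groth.Agent.S0923
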