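import Groth.Statements.S1039
import Groth.Agent.PerfB.PCNoeth
-- import your own Groth.Agent.* helpers here

set_option autoImplicit false
universe u
open CategoryTheory CategoryTheory.Limits AlgebraicGeometry
attribute [local instance] HasDerivedCategory.standard
open Perf

namespace Groth.Agent.S1039

/-- Stacks Tag 08E8: let X be a Noetherian scheme, E ∈ D(O_X) with quasi-coherent cohomology sheaves and m ∈ ℤ. Then m-pseudo-coherence of E is equivalent to: Hⁱ(E) is coherent for every i ≥ m and vanishes for i large. -/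
theorem result (X : Scheme.{u}) [IsNoetherian X] (E : DCoh.D X) (hE : DCoh.IsQCohD E) (m : ℤ) :
    DCoh.IsPseudoCoherentD m E ↔ (∀ i : ℤ, m ≤ i → Coh.IsCoh (DCoh.HD E i)) ∧ ∃ b : ℤ, E.IsLE b := by
  constructor
  · intro h
    refine ⟨fun i hi => ?_, Groth.Agent.PerfB.PCDesc.exists_isLE_of_pc E h⟩
    obtain rfl | hi' := hi.eq_or_lt
    · exact ⟨hE m, Groth.Agent.PerfB.PCNoeth.isFT_of_pc E m h⟩
    · exact Groth.Agent.PerfB.PCNoeth.isCoh_of_pc E m h i hi'
  · rintro ⟨h, b, hb⟩
    exact Groth.Agent.PerfB.PCNoeth.pc_of_isCoh (b - m + 1).toNat E b m hb (by omega) h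

end Groth.Agent.S1039
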