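import Groth.Statements.S1103
import Groth.Agent.PerfC.ApproxMain
import Mathlib.AlgebraicGeometry.Morphisms.QuasiCompact

set_option autoImplicit false
universe u
open CategoryTheory CategoryTheory.Limits AlgebraicGeometry
attribute [local instance] HasDerivedCategory.standard
open Perf

namespace Groth.Agent.S1103

/-- Stacks Tag 08ES (approximation by perfect complexes, with Definitions 08EM and 08EN unfolded): let the scheme X be quasi-compact and quasi-separated. For every closed subset T ⊆ X with quasi-compact complement there is an integer r such that: for every m ∈ ℤ and every E ∈ D(O_X) with quasi-coherent cohomology sheaves which is (m - r)-pseudo-coherent and whose cohomology sheaves Hⁱ(E), i ≥ m - r, are supported on T, there exist a perfect object P of D(O_X) with all cohomology sheaves supported on T and a morphism α : P ⟶ E inducing isomorphisms Hⁱ(P) ⟶ Hⁱ(E) for i > m and an epimorphism Hᵐ(P) ⟶ Hᵐ(E). -/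
theorem result (X : Scheme.{u}) [CompactSpace ↥X] [QuasiSeparatedSpace ↥X]
    (T : Set X) (hT : IsClosed T) (hTc : IsCompact Tᶜ) :
    ∃ r : ℤ, ∀ (m : ℤ) (E : DCoh.D X), DCoh.IsQCohD E → DCoh.IsPseudoCoherentD (m - r) E →
      (∀ i : ℤ, m - r ≤ i → CohB1.support (DCoh.HD E i) ⊆ T) →
      ∃ (P : DCoh.D X) (α : P ⟶ E), DCoh.IsPerfect P ∧ (∀ i : ℤ, CohB1.support (DCoh.HD P i) ⊆ T) ∧
        (∀ i : ℤ, m < i → IsIso ((DerivedCategory.homologyFunctor X.Modules i).map α)) ∧
        Epi ((DerivedCategory.homologyFunctor X.Modules m).map α) := by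
  obtain ⟨s, hs, hs'⟩ := (isCompact_and_isOpen_iff_finite_and_eq_biUnion_affineOpens
    (X := X) (U := Set.univ)).1 ⟨isCompact_univ, isOpen_univ⟩
  have := hs.to_subtype
  obtain ⟨n, ⟨e⟩⟩ := Finite.exists_equiv_fin s
  obtain ⟨r, hr⟩ := Groth.Agent.PerfC.ApproxMain.exists_appR_of_cover n X
    (fun i => (e.symm i).1.1) (fun i => (e.symm i).1.2) (by
      refine top_unique fun x _ => ?_
      have hx : x ∈ (Set.univ : Set X) := Set.mem_univ x
      rw [hs'] at hx
      simp only [Set.mem_iUnion] at hx
      obtain ⟨i, hi, hx⟩ := hx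
      refine TopologicalSpace.Opens.mem_iSup.2 ⟨e ⟨i, hi⟩, ?_⟩
      simpa using hx) T hT hTc
  exact ⟨r, fun m E hQ hpc hE => (hr m E hQ hpc hE).out⟩

end Groth.Agent.S1103
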