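import Groth.Statements.S1772
-- import your own Groth.Agent.* helpers here
import Groth.Agent.LoccohB.CoextDual2

set_option autoImplicit false
universe u
open CategoryTheory
attribute [local instance] HasDerivedCategory.standard
open Dual

namespace Groth.Agent.S1772

/-- Stacks Tag 0AX0 (RHom(B, −) being the right adjoint of restriction, Tag 0A70).  Let A → B be a finite homomorphism of Noetherian rings and ω a dualizing complex for A.  If R : D(A) → D(B) is right adjoint to restriction of scalars D(B) → D(A), then R(ω) is a dualizing complex for B. -/
theorem result (A B : Type u) [CommRing A] [CommRing B] [Algebra A B] [IsNoetherianRing A] [IsNoetherianRing B] [Module.Finite A B] (R : Dual.D A ⥤ Dual.D B) (adj : DRing.restrictD (algebraMap A B) ⊣ R) (ω : Dual.D A) (hω : Dual.IsDualizing A ω) : Dual.IsDualizing B (R.obj ω) := by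
  exact Groth.Agent.LoccohB.CoextDual.isDualizing_radj adj ω hω

end Groth.Agent.S1772
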