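import Groth.Statements.S0922
import Groth.Agent.Dcoh.DerPull

set_option autoImplicit false
universe u
open CategoryTheory
attribute [local instance] HasDerivedCategory.standard
open DCoh

namespace Groth.Agent.S0922

open AlgebraicGeometry in
/-- Stacks Tag 0D5T (schemes; the source treats ringed spaces): for f : X -> Y and g : Y -> Z the composite Rg_* ∘ Rf_* of total right derived direct images is isomorphic to R(g ∘ f)_* as functors D(O_X) -> D(O_Z); existence of the three derived functors is assumed and the assertion is the existence of an isomorphism of functors. -/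
theorem result {X Y Z : Scheme.{u}} (f : X ⟶ Y) (g : Y ⟶ Z)
    [DCoh.HasRpush f] [DCoh.HasRpush g] [DCoh.HasRpush (f ≫ g)] :
    Nonempty (DCoh.Rpush f ⋙ DCoh.Rpush g ≅ DCoh.Rpush (f ≫ g)) := by
  exact Groth.Agent.Dcoh.DerPull.exists_rpushCompIso f g

end Groth.Agent.S0922
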