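import Groth.Statements.S0403
import Groth.Agent.S0402

set_option autoImplicit false
universe u
open FlatMor

namespace Groth.Agent.S0403

open AlgebraicGeometry CategoryTheory Limits in
/-- Stacks Tag 0D4I: for a proper morphism the dimension of the fibre is an upper semicontinuous function on the target: for every bound the set of points whose fibre has dimension at most that bound is open. -/
theorem result {X S : Scheme.{u}} (f : X ⟶ S) [IsProper f] (c : WithBot ℕ∞) :
    IsOpen {s : S | topologicalKrullDim (f.fiber s) ≤ c} := by
  have hcl : IsClosedMap f := f.isClosedMap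
  induction c using WithBot.recBotCoe with
  | bot =>
    have h1 : {s : S | topologicalKrullDim (f.fiber s) ≤ ⊥} = (f '' Set.univ)ᶜ := by
      ext s
      rw [Set.mem_ofPred_eq, Groth.Agent.FlatA.FibreDim.topologicalKrullDim_fiber_eq, le_bot_iff,
        topologicalKrullDim, Order.krullDim_eq_bot_iff]
      constructor
      · rintro h ⟨x, -, rfl⟩
        exact h.elim ⟨closure {⟨x, rfl⟩}, isIrreducible_singleton.closure, isClosed_closure⟩
      · intro h
        refine ⟨fun Z ↦ h ?_⟩
        obtain ⟨⟨x, hx⟩, -⟩ := Z.isIrreducible.nonempty
        exact ⟨x, trivial, hx⟩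
    rw [h1]
    exact (hcl _ isClosed_univ).isOpen_compl
  | coe c =>
    induction c using WithTop.recTopCoe with
    | top =>
      have h1 : {s : S | topologicalKrullDim (f.fiber s) ≤ ((⊤ : ℕ∞) : WithBot ℕ∞)} = Set.univ := by
        ext s
        simp
      exact h1 ▸ isOpen_univ
    | coe n =>
      have hopen := Groth.Agent.S0402.result f n
      have h1 : {s : S | topologicalKrullDim (f.fiber s) ≤ ((n : ℕ∞) : WithBot ℕ∞)} =
          (f '' {x : X | FlatMor.fibreDimAt f x ≤ n}ᶜ)ᶜ := by
        ext s
        rw [Set.mem_ofPred_eq, Groth.Agent.VarietyB.DimTop.topologicalKrullDim_eq_iSup_localDim,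
          iSup_le_iff]
        constructor
        · rintro h ⟨x, hx, rfl⟩
          exact hx (h _)
        · intro h y
          by_contra hy
          apply h
          obtain ⟨z, rfl⟩ := (f.fiberHomeo s).symm.surjective y
          obtain ⟨x, rfl⟩ := z
          exact ⟨x, hy, rfl⟩
      exact h1 ▸ (hcl _ hopen.isClosed_compl).isOpen_compl

end Groth.Agent.S0403
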