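import Groth.Statements.S2583
import Groth.Agent.Ega43.LimRed
import Groth.Agent.Ega43.QuasiFiniteBC

set_option autoImplicit false
universe u
open CategoryTheory AlgebraicGeometry
open EGA43

namespace Groth.Agent.S2583

set_option backward.isDefEq.respectTransparency false in
open Groth.Agent.Ega43.LimBC Groth.Agent.Ega43.LimRed Groth.Agent.Ega43.QuasiFiniteBC Limits in
theorem descendsOne_locallyQuasiFinite :
    DescendsOne (@LocallyOfFiniteType) @LocallyQuasiFinite.{u} := by
  intro I _ _ D c hc _ _ _ i₀ X₀ f₀ hft _ _ h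
  let E := bcDiagram D i₀ f₀
  let e := bcCone D c i₀ f₀
  have he : IsLimit e := isLimitBcCone D c i₀ f₀ hc
  let j₀ : Over i₀ := Over.mk (𝟙 i₀)
  have hE1 : ∀ (i j : Over i₀) (f : i ⟶ j), IsAffineHom (E.map f) := fun i j f ↦
    isAffineHom_bcDiagram_map D i₀ f₀ f
  have hE2 (j : Over i₀) : CompactSpace (E.obj j) := by
    have : QuasiCompact (pullback.snd f₀ (D.map j.hom)) := MorphismProperty.pullback_snd _ _ inferInstance
    exact QuasiCompact.compactSpace_of_compactSpace (pullback.snd f₀ (D.map j.hom))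
  let s₀ : E.obj j₀ ⟶ D.obj i₀ := pullback.snd f₀ (D.map (𝟙 i₀))
  have hs₀ : LocallyOfFiniteType s₀ := MorphismProperty.pullback_snd _ _ hft
  obtain ⟨j, φ, hj⟩ := exists_map_eq_top E e he (i := j₀) s₀.quasiFiniteLocus (by
    refine top_le_iff.mp fun x _ ↦ ?_
    exact quasiFiniteAt_of_isPullback (isPullback_π D c i₀ f₀ j₀) x (Scheme.Hom.quasiFiniteAt _ x))
  refine ⟨j.left, j.hom, ?_⟩
  let s : E.obj j ⟶ D.obj j.left := pullback.snd f₀ (D.map j.hom)
  have hs : LocallyOfFiniteType s := MorphismProperty.pullback_snd _ _ hft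
  change LocallyQuasiFinite s
  rw [← Scheme.Hom.quasiFiniteLocus_eq_top_iff]
  refine top_le_iff.mp fun x _ ↦ ?_
  exact quasiFiniteAt_baseChange (isPullback_map D i₀ f₀ φ) x
    (hj.ge (show x ∈ (⊤ : (E.obj j).Opens) from trivial))

/-- EGA IV 8.10.5 (xi): let S = lim S_i be a cofiltered limit of schemes with affine transition morphisms, S_{i₀} a quasi-compact quasi-separated stage (the source needs S_{i₀} only quasi-compact; quasi-separatedness is assumed here), f₀ : X₀ ⟶ Y₀ an S_{i₀}-morphism between schemes of finite presentation over S_{i₀}, and f : X ⟶ Y its base change to S (base changes expressed by pullback squares). If f is quasi-finite, then the base change f_i : X_i ⟶ Y_i of f₀ to some stage S_i is quasi-finite. -/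
theorem result {I : Type u} [SmallCategory I] [IsCofiltered I]
    (D : I ⥤ Scheme.{u}) (c : Limits.Cone D) (hc : Limits.IsLimit c)
    [∀ (i j : I) (f : i ⟶ j), IsAffineHom (D.map f)] (i₀ : I) [CompactSpace (D.obj i₀)]
    [QuasiSeparatedSpace (D.obj i₀)] {X₀ Y₀ : Scheme.{u}} (f₀ : X₀ ⟶ Y₀) (g₀ : Y₀ ⟶ D.obj i₀)
    [LocallyOfFinitePresentation g₀] [QuasiCompact g₀] [QuasiSeparated g₀]
    [LocallyOfFinitePresentation (f₀ ≫ g₀)] [QuasiCompact (f₀ ≫ g₀)] [QuasiSeparated (f₀ ≫ g₀)]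
    {X Y : Scheme.{u}} (f : X ⟶ Y) (g : Y ⟶ c.pt) (qY : Y ⟶ Y₀) (qX : X ⟶ X₀)
    (hY : IsPullback qY g g₀ (c.π.app i₀)) (hX : IsPullback qX f f₀ qY) [LocallyQuasiFinite f] :
    ∃ (i : I) (φ : i ⟶ i₀) (Xi Yi : Scheme.{u}) (fi : Xi ⟶ Yi) (gi : Yi ⟶ D.obj i) (pY : Yi ⟶ Y₀)
      (pX : Xi ⟶ X₀), IsPullback pY gi g₀ (D.map φ) ∧ IsPullback pX fi f₀ pY ∧ LocallyQuasiFinite fi := by
  have h1 : LocallyOfFiniteType f₀ := locallyOfFiniteType_of_comp f₀ g₀
  have : MorphismProperty.RespectsIso (C := Scheme.{u}) @LocallyOfFiniteType :=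
    MorphismProperty.IsStableUnderBaseChange.respectsIso
  have : MorphismProperty.RespectsIso (C := Scheme.{u}) @LocallyQuasiFinite :=
    MorphismProperty.IsStableUnderBaseChange.respectsIso
  exact Groth.Agent.Ega43.LimRed.exists_of_descendsOne (Q := @LocallyOfFiniteType)
    (P := @LocallyQuasiFinite)
    descendsOne_locallyQuasiFinite D c hc i₀ f₀ g₀ h1 f g qY qX hY hX inferInstance

end Groth.Agent.S2583
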