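import Groth.Statements.S2588
import Groth.Agent.Ega43.ChowSep

set_option autoImplicit false
open CategoryTheory AlgebraicGeometry
universe u
open EGA43

namespace Groth.Agent.S2588

/-- EGA IV 8.10.5.1 (Chow's lemma for morphisms of finite presentation), case of an affine target: let A be a commutative ring and f : X ⟶ Spec A separated and of finite presentation. Then for some n there are a scheme X', a proper surjective morphism π : X' ⟶ X and an immersion j of X' into projective n-space over Spec A, compatible with the structure morphisms. (This is weaker than the source, which gives π projective and j an open immersion into a projective scheme over the target; here π is only asserted proper and j an immersion into projective n-space.) -/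
theorem result {A : Type u} [CommRing A] {X : Scheme.{u}}
    (f : X ⟶ Spec (CommRingCat.of A)) [IsSeparated f] [LocallyOfFinitePresentation f] [QuasiCompact f] :
    ∃ (n : ℕ) (X' : Scheme.{u}) (π : X' ⟶ X) (j : X' ⟶ CohB1.ProjSpaceOver n (Spec (CommRingCat.of A))),
      IsImmersion j ∧ j ≫ CohB1.ProjSpaceOver.toBase n (Spec (CommRingCat.of A)) = π ≫ f ∧
      IsProper π ∧ Surjective π := by
  have : CompactSpace X := QuasiCompact.compactSpace_of_compactSpace f
  exact Ega43.ChowSep.exists_chow f

end Groth.Agent.S2588
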