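import Groth.Statements.S1776
import Groth.Agent.Cohder.PolyDual

set_option autoImplicit false
universe u
open CategoryTheory
attribute [local instance] HasDerivedCategory.standard
open scoped Polynomial
open Dual

namespace Groth.Agent.S1776

/-- Stacks Tag 0A7J.  Let A be a Noetherian ring with a dualizing complex ω.  Assuming the derived base change functor D(A) → D(A[x]) exists, the derived base change of ω to the polynomial ring A[x] is a dualizing complex for A[x]. -/
theorem result (A : Type u) [CommRing A] [IsNoetherianRing A] [DRing.HasLBaseChange (algebraMap A A[X])] (ω : Dual.D A) (hω : Dual.IsDualizing A ω) : Dual.IsDualizing A[X] ((DRing.LBaseChange (algebraMap A A[X])).obj ω) := by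
  obtain ⟨a, b, hab⟩ := hω.finite_injective_dimension
  refine Groth.Agent.LoccohB.HomBC.isDualizing_of_iso
    ((Groth.Agent.LoccohB.FlatLBC.LBaseChangeIso (algebraMap A A[X])
      (Groth.Agent.Cohder.PolyInj.flat_polynomial A)).symm.app ω) ?_
  refine Groth.Agent.Cohder.PolyDual.isDualizing_flatBC A[X] _ hω ⟨a, b + 1, ?_⟩
  intro M _ _ i hi
  exact Groth.Agent.Cohder.PolyInj.subsingleton_of_restrict _ a b (fun M _ _ i hi =>
    Groth.Agent.Cohder.PolyInj.subsingleton_restrict_flatBC ω a b hab M i hi) M i hi

end Groth.Agent.S1776
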