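import Groth.Statements.S1983
import Groth.Agent.Etalg.RamAbh

set_option autoImplicit false
universe u
open EtAlg

namespace Groth.Agent.S1983

/-- Stacks Tag 09EQ: let A -> B be an extension of discrete valuation rings with fraction fields K ⊂ L which is weakly unramified with separable, i.e. geometrically reduced and possibly transcendental, residue field extension (formally smooth for the adic topology). Then every finite extension K₁/K is a solution for A -> B. -/
theorem result (A B K L : Type u) [CommRing A] [IsDomain A] [IsDiscreteValuationRing A]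
    [CommRing B] [IsDomain B] [IsDiscreteValuationRing B] [Algebra A B] [IsLocalHom (algebraMap A B)]
    (hinj : Function.Injective (algebraMap A B))
    [Field K] [Field L] [Algebra A K] [IsFractionRing A K] [Algebra B L] [IsFractionRing B L]
    [Algebra K L] [Algebra A L] [IsScalarTower A K L] [IsScalarTower A B L]
    (hw : EtRam.IsWeaklyUnramified A B) [Algebra.IsGeometricallyReduced (IsLocalRing.ResidueField A) (IsLocalRing.ResidueField B)]
    (K₁ : Type u) [Field K₁] [Algebra K K₁] [FiniteDimensional K K₁] : EtRam.IsSolution B K L K₁ := by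
  have he : Ideal.ramificationIdx' (IsLocalRing.maximalIdeal A) (IsLocalRing.maximalIdeal B) = 1 := by
    refine Ideal.ramificationIdx'_spec (by rw [pow_one]; exact hw.le) ?_
    rw [show (IsLocalRing.maximalIdeal A).map (algebraMap A B) = IsLocalRing.maximalIdeal B from hw]
    obtain ⟨ρ, hρ⟩ := IsDiscreteValuationRing.exists_irreducible B
    rw [hρ.maximalIdeal_eq, Ideal.span_singleton_pow, Ideal.span_singleton_le_span_singleton]
    intro hdvd
    have h1 : ρ ^ (1 + 1) ∣ ρ ^ 1 := by rwa [pow_one]
    rw [pow_dvd_pow_iff hρ.ne_zero hρ.not_isUnit] at h1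
    omega
  intro M _ _ _ _ _ _ hadj W hW
  have hVdom := Groth.Agent.Etalg.RamAbh.dominates_comap (A := A) (B := B) (K := K) (L := L) (K₁ := K₁) (M := M) hW
  have key := @Groth.Agent.Etalg.RamAbh.core A B K L _ _ _ _ _ _ _ _ _ _ _ _ _ _ _ _ _ _ hinj inferInstance
    (by rw [he, Nat.cast_one]; exact isUnit_one) K₁ _ _ _ M _ _ _ _ _ _
    hadj W hW (W.comap (algebraMap K₁ M)) hVdom
    (RingHom.codRestrict ((algebraMap K K₁).comp (algebraMap A K)) (W.comap (algebraMap K₁ M)) hVdom.1).toAlgebra
    (fun a => rfl) (EtRam.inclOfComap W (algebraMap K₁ M)).toAlgebra (fun x => rfl)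
    (EtRam.isLocalHom_inclOfComap W (algebraMap K₁ M)) (by rw [he]; exact one_dvd _)
  exact ⟨key.1, @Groth.Agent.Etalg.RamAbh.geomReduced_map (W.comap (algebraMap K₁ M)) W _ _ _ _
    (EtRam.inclOfComap W (algebraMap K₁ M)).toAlgebra (EtRam.isLocalHom_inclOfComap W (algebraMap K₁ M)) key.2⟩

end Groth.Agent.S1983
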