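import Groth.Statements.S0250
-- import your own Groth.Agent.* helpers here
import Groth.Agent.Pi1A.ExtNhd

set_option autoImplicit false
universe u
open Pi1

namespace Groth.Agent.S0250

open AlgebraicGeometry CategoryTheory CategoryTheory.Limits TopologicalSpace

/-- generic points of the complement of an open in a Noetherian (sober) space -/
lemma exists_generic {X : Type*} [TopologicalSpace X] [QuasiSober X] [T0Space X]
    (Z : Set X) (hZ : IsClosed Z) (hne : Z.Nonempty) :
    ∃ x ∈ Z, ∀ y ∈ Z, y ⤳ x → y = x := by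
  obtain ⟨z, hz⟩ := hne
  have hq : QuasiSober Z := hZ.isClosedEmbedding_subtypeVal.quasiSober
  obtain ⟨x, hx⟩ := QuasiSober.sober (isIrreducible_irreducibleComponent (x := (⟨z, hz⟩ : Z)))
    isClosed_irreducibleComponent
  refine ⟨x.1, x.2, fun y hy hyx => ?_⟩
  have h1 : (⟨y, hy⟩ : Z) ⤳ x := (subtype_specializes_iff _ _).2 hyx
  have h2 : closure {x} ⊆ closure {(⟨y, hy⟩ : Z)} := h1.closure_subset
  rw [hx.def] at h2
  have h3 := eq_irreducibleComponent
    (isPreirreducible_singleton (x := (⟨y, hy⟩ : Z))).closure h2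
  have h4 : x ⤳ (⟨y, hy⟩ : Z) := by
    rw [specializes_iff_closure_subset, h3, ← hx.def]
  exact (hyx.antisymm ((subtype_specializes_iff _ _).1 h4)).eq

lemma isPullback_id' {A B : Scheme.{u}} (w : A ⟶ B) : IsPullback w (𝟙 A) (𝟙 B) w :=
  IsPullback.of_vert_isIso ⟨by simp⟩

/-- transport of an isomorphism between restrictions along an isomorphism of the source -/
lemma nonempty_iso_of_isPullback {X T : Scheme.{u}} {U : X.Opens} (s : T ⟶ X) (Y : FEt.Cat T)
    (V : FEt.Cat (U : Scheme.{u}))
    (e : (FEt.restrict (s ⁻¹ᵁ U).ι).obj Y ≅ (FEt.restrict (s ∣_ U)).obj V) :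
    Nonempty ((FEt.restrict (pullback.snd U.ι s)).obj Y ≅
      (FEt.restrict (pullback.fst U.ι s)).obj V) := by
  let i := (isPullback_morphismRestrict s U).isoPullback
  have h1 : pullback.snd U.ι s = i.inv ≫ (s ⁻¹ᵁ U).ι :=
    (isPullback_morphismRestrict s U).isoPullback_inv_snd.symm
  have h2 : pullback.fst U.ι s = i.inv ≫ (s ∣_ U) :=
    (isPullback_morphismRestrict s U).isoPullback_inv_fst.symm
  exact ⟨(MorphismProperty.Over.pullbackCongr h1).app Y ≪≫
    (MorphismProperty.Over.pullbackComp _ _).app Y ≪≫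
    (FEt.restrict i.inv).mapIso e ≪≫
    ((MorphismProperty.Over.pullbackComp _ _).app V).symm ≪≫
    ((MorphismProperty.Over.pullbackCongr h2).app V).symm⟩

open AlgebraicGeometry CategoryTheory CategoryTheory.Limits in
/-- Stacks Tag 0EY7. Let X be a Noetherian scheme and U an open subscheme such that purity holds for the local ring of X at every point outside U. Then restriction of finite etale covers from X to U is essentially surjective. -/
theorem result {X : Scheme.{u}} [IsNoetherian X] (U : X.Opens)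
    (h : ∀ x : X, x ∉ U → FEt.PurityHolds (X.presheaf.stalk x)) : (FEt.restrict U.ι).EssSurj := by
  constructor
  intro V
  let P : X.Opens → Prop := fun O => ∃ (hO : U ≤ O) (V' : FEt.Cat (O : Scheme.{u})),
    Nonempty ((FEt.restrict (X.homOfLE hO)).obj V' ≅ V)
  have hP : P U := by
    refine ⟨le_rfl, V, ?_⟩
    refine Pi1A.FEtFormalGlue.nonempty_iso_of_isPullback _ V V (𝟙 _) ?_
    rw [Scheme.homOfLE_rfl]
    exact isPullback_id' V.hom
  obtain ⟨O, ⟨hUO, V', ⟨e⟩⟩, hmax⟩ := WellFounded.has_min
    (wellFounded_gt (α := X.Opens)) {O | P O} ⟨U, hP⟩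
  have hO : O = ⊤ := by
    by_contra hne
    have hne' : ((O : Set X)ᶜ).Nonempty := by
      rw [Set.nonempty_compl]
      intro h
      exact hne (Opens.ext h)
    obtain ⟨x, hx, hgen⟩ := exists_generic (O : Set X)ᶜ O.isOpen.isClosed_compl hne'
    have hxU : x ∉ U := fun hxU => hx (hUO hxU)
    have hpun : (X.fromSpecStalk x) ⁻¹ᵁ O = FEt.puncturedSpec (X.presheaf.stalk x) := by
      ext p
      change X.fromSpecStalk x p ∈ O ↔ p ≠ IsLocalRing.closedPoint _
      constructor
      · rintro hp rfl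
        rw [Scheme.fromSpecStalk_closedPoint] at hp
        exact hx hp
      · intro hp
        by_contra hpO
        apply hp
        have hsp : X.fromSpecStalk x p ⤳ x := by
          have h1 := Set.mem_range_self (f := X.fromSpecStalk x) p
          rw [Scheme.range_fromSpecStalk] at h1
          exact h1
        have h2 := hgen _ hpO hsp
        apply (X.fromSpecStalk x).isEmbedding.injective
        rw [h2, Scheme.fromSpecStalk_closedPoint]
    have hess : (FEt.restrict ((X.fromSpecStalk x) ⁻¹ᵁ O).ι).EssSurj := by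
      rw [hpun]
      exact h x hxU
    obtain ⟨e'⟩ := nonempty_iso_of_isPullback (X.fromSpecStalk x) _ V'
      ((FEt.restrict ((X.fromSpecStalk x) ⁻¹ᵁ O).ι).objObjPreimageIso
        ((FEt.restrict (X.fromSpecStalk x ∣_ O)).obj V'))
    obtain ⟨O', hOO', V'', hxO', ⟨e''⟩⟩ := Pi1A.ExtNhd.exists_extension_nhd O V' x _ e'
    refine hmax O' ⟨hUO.trans hOO', V'', ⟨?_⟩⟩ (lt_of_le_of_ne hOO' ?_)
    · exact (MorphismProperty.Over.pullbackCongr (X.homOfLE_homOfLE hUO hOO').symm).app V'' ≪≫
        (MorphismProperty.Over.pullbackComp _ _).app V'' ≪≫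
        (FEt.restrict (X.homOfLE hUO)).mapIso e'' ≪≫ e
    · rintro rfl
      exact hx hxO'
  subst hO
  refine ⟨(FEt.restrict X.topIso.inv).obj V', ⟨?_⟩⟩
  have h1 : U.ι ≫ X.topIso.inv = X.homOfLE hUO := by
    rw [← cancel_mono (⊤ : X.Opens).ι]
    simp
  exact ((MorphismProperty.Over.pullbackComp _ _).app V').symm ≪≫
    (MorphismProperty.Over.pullbackCongr h1).app V' ≪≫ e

end Groth.Agent.S0250
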