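import Groth.Statements.S0247
import Groth.Agent.Pi1A.PurityReg
import Groth.Agent.Pi1A.ExtAlg

set_option autoImplicit false
universe u
open Pi1

namespace Groth.Agent.S0247

section

open Groth.Agent.Pi1A.Purity

/-- A map which is bijective over `D(x) ∪ D(u)` between modules on which `(x, u)` is regular is
bijective. -/
theorem bijective_of_regPair {A B C : Type*} [CommRing A] [AddCommGroup B] [Module A B]
    [AddCommGroup C] [Module A C] {x u : A} (φ : B →ₗ[A] C) (hB : RegPair x u B)
    (hC : RegPair x u C) (hinj : ∀ b, φ b = 0 → ∃ n : ℕ, x ^ n • b = 0)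
    (hx : ∀ c, ∃ (n : ℕ) (b : B), φ b = x ^ n • c)
    (hu : ∀ c, ∃ (n : ℕ) (b : B), φ b = u ^ n • c) : Function.Bijective φ := by
  have hinj' : ∀ b, φ b = 0 → b = 0 := by
    intro b hb
    obtain ⟨n, hn⟩ := hinj b hb
    exact hB.pow_reg n b hn
  refine ⟨(injective_iff_map_eq_zero φ).mpr hinj', fun c => ?_⟩
  obtain ⟨n, b, hb⟩ := hx c
  obtain ⟨k, b', hb'⟩ := hu c
  have h1 : u ^ k • b = x ^ n • b' := by
    rw [← sub_eq_zero]
    apply hinj'
    rw [map_sub, map_smul, map_smul, hb, hb', smul_comm, sub_self]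
  obtain ⟨e, he, -⟩ := hB.glue n k h1
  refine ⟨e, hC.pow_inj n ?_⟩
  rw [← map_smul, ← he, hb]

end

open AlgebraicGeometry CategoryTheory CategoryTheory.Limits Pi1A.Purity Pi1A.DepthTwo
  Pi1A.ExtAlg Pi1C.SectionsOverAffine in
/-- Algebraic purity implies purity. -/
theorem purityHolds_of_algPurity (A : Type u) [CommRing A] [IsLocalRing A] [IsNoetherianRing A]
    {x y : A} (hx : x ∈ IsLocalRing.maximalIdeal A) (hy : y ∈ IsLocalRing.maximalIdeal A)
    (h : RegPair x y A) (hP : AlgPurity A) : FEt.PurityHolds A := by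
  have hD : ∀ a ∈ IsLocalRing.maximalIdeal A,
      PrimeSpectrum.basicOpen a ≤ FEt.puncturedSpec A := by
    intro a ha p hp
    change p ∈ ({IsLocalRing.closedPoint A}ᶜ : Set (PrimeSpectrum A))
    rintro rfl
    exact hp ha
  have hxy : IsRegPair (x : A) y := ⟨fun b hb => h.reg b hb, fun b c hbc => h.reg' b c hbc⟩
  refine ⟨fun V => ?_⟩
  let R : CommRingCat.{u} := CommRingCat.of A
  have : IsNoetherianRing R := inferInstanceAs (IsNoetherianRing A)
  have : CompactSpace (FEt.puncturedSpec A) := by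
    have hN : TopologicalSpace.NoetherianSpace (PrimeSpectrum A) := inferInstance
    exact isCompact_iff_compactSpace.mp
      (hN.isCompact ({IsLocalRing.closedPoint A}ᶜ : Set (PrimeSpectrum A)))
  have : IsFinite V.hom := V.prop.1
  have : Etale V.hom := V.prop.2
  let ρ := toΓ (V.hom ≫ (FEt.puncturedSpec A).ι)
  let C := Γ(V.left, ⊤)
  let _ : Algebra A C := ρ.toAlgebra
  have hfin : Module.Finite A C := finite_toΓ (R := R) (FEt.puncturedSpec A) V.hom hxy (hD x hx) (hD y hy)
  have het : ∀ a ∈ IsLocalRing.maximalIdeal A, Algebra.Etale A (Loc a C) := fun a ha =>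
    etale_away (R := R) (FEt.puncturedSpec A) V.hom a (hD a ha)
  obtain ⟨C', _, _, φ, hfin', het', hinj, hsurj⟩ := hP C het
  have hRC : RegPair x y C := by
    have := isRegPair_toΓ (V.hom ≫ (FEt.puncturedSpec A).ι) (R := R) hxy
    refine ⟨fun c hc => this.fst c ?_, fun c c' hcc => ?_⟩
    · rw [Algebra.smul_def] at hc
      exact hc
    · rw [Algebra.smul_def, Algebra.smul_def] at hcc
      obtain ⟨d, hd⟩ := this.snd c c' hcc
      exact ⟨d, by rw [Algebra.smul_def]; exact hd⟩
  have hbij := bijective_of_regPair φ.toLinearMap hRC (h.of_flat C') (hinj x hx) (hsurj x hx)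
    (hsurj y hy)
  have hCet : Algebra.Etale A C := Algebra.Etale.of_equiv (AlgEquiv.ofBijective φ hbij).symm
  obtain ⟨Y, ⟨e⟩⟩ := exists_extension (R := R) (FEt.puncturedSpec A) V hxy (hD x hx) (hD y hy)
    hCet
  exact ⟨Y, ⟨e⟩⟩

open AlgebraicGeometry CategoryTheory CategoryTheory.Limits in
/-- Stacks Tag 0BMA (1). For a regular local ring A of Krull dimension at least 2, every finite etale cover of the punctured spectrum of A extends to a finite etale cover of Spec A. -/
theorem result (A : Type u) [CommRing A] [IsRegularLocalRing A] (h : (2 : WithBot ℕ∞) ≤ ringKrullDim A) :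
    FEt.PurityHolds A := by
  have hP := Pi1A.Purity.algPurity_regular A h
  have hdA : IsDomain A := CalgA.RegBasic.isDomain A
  obtain ⟨d, hd⟩ := CalgA.RegBasic.ringKrullDim_eq_natCast A
  have h2 : 2 ≤ d := by rw [hd] at h; exact_mod_cast h
  obtain ⟨n, rfl⟩ := Nat.exists_eq_add_of_le' h2
  obtain ⟨x, hx, hx0, hR, hRdim⟩ := Pi1A.Purity.exists_param A (n := n + 1) hd
  have hdR : IsDomain (A ⧸ Ideal.span {x}) := CalgA.RegBasic.isDomain _
  obtain ⟨u', hu', hu0, -, -⟩ := Pi1A.Purity.exists_param (A ⧸ Ideal.span {x}) (n := n) hRdim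
  obtain ⟨u, rfl⟩ := Ideal.Quotient.mk_surjective u'
  refine purityHolds_of_algPurity A hx (Pi1A.Purity.mem_maximalIdeal_of_mk hu')
    ⟨fun a ha => (mul_eq_zero.mp ha).resolve_left hx0, fun a b hab => ?_⟩ hP
  apply Pi1A.Purity.eq_mul_of_mk
  have h1 := congrArg (Ideal.Quotient.mk (Ideal.span {x})) hab
  simp only [smul_eq_mul, map_mul, Pi1A.Purity.mk_self, zero_mul] at h1
  exact (mul_eq_zero.mp h1).resolve_left hu0

end Groth.Agent.S0247
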