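import Groth.Statements.S1979
import Groth.Agent.Etalg.EppEnd
import Groth.Agent.Etalg.EppCohen
import Groth.Agent.Etalg.EppDeg0
import Groth.Agent.Etalg.EppStep
import Groth.Agent.Etalg.EppDescent

set_option autoImplicit false
universe u
open EtAlg

namespace Groth.Agent.S1979

open Groth.Agent.Etalg Groth.Agent.Etalg.EppFrame

theorem stPair : EppEnd.StPair.{u} :=
  fun {_ _ _ _ _} hp {_ _} h1 h2 h3 h4 h5 t h6 h7 h8 h9 => EppCohen.exists_pair hp h1 h2 h3 h4 h5 t h6 h7 h8 h9

theorem stTower : EppEnd.StTower.{u} :=
  fun {_ _ _ _ _} hp {_ _ _} h hM => EppDeg0.tower hp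
    (fun h h0 z hz => EppStep.artinSchreier hp h h0 z hz)
    (fun h _ hζE hζ z hz hz1 => EppStep.kummer hp h hζE hζ z hz hz1) h hM

theorem stKrasner : EppEnd.StKrasner.{u} :=
  fun {_ _ _ _ _} hp {_ _ _} h1 h2 h3 h4 h5 h6 h7 t h8 h9 {_} h10 =>
    EppDescent.krasner_descent hp h1 h2 h3 h4 h5 h6 h7 t h8 h9 h10

/-- Stacks Tag 09F9 (Epp): let A -> B be an extension of discrete valuation rings (both DVRs, the map injective and local) with fraction fields K ⊂ L. Assume that if the residue field of A has characteristic p > 0 then every element of the residue field of B admitting p^n-th roots for all n is separable algebraic over the residue field of A. Then there is a finite extension K₁ of K which is a weak solution for A -> B: for every compositum M of L and K₁ and every valuation subring W of M dominating B, the extension W ∩ K₁ -> W is weakly unramified. -/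
theorem result (A B K L : Type u) [CommRing A] [IsDomain A] [IsDiscreteValuationRing A]
    [CommRing B] [IsDomain B] [IsDiscreteValuationRing B] [Algebra A B] [IsLocalHom (algebraMap A B)]
    (hinj : Function.Injective (algebraMap A B))
    [Field K] [Field L] [Algebra A K] [IsFractionRing A K] [Algebra B L] [IsFractionRing B L]
    [Algebra K L] [Algebra A L] [IsScalarTower A K L] [IsScalarTower A B L]
    (hres : ∀ p : ℕ, p.Prime → CharP (IsLocalRing.ResidueField A) p →
      ∀ x : IsLocalRing.ResidueField B, (∀ n : ℕ, ∃ y : IsLocalRing.ResidueField B, y ^ (p ^ n) = x) →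
        IsSeparable (IsLocalRing.ResidueField A) x) :
    ∃ (K₁ : Type u) (_ : Field K₁) (_ : Algebra K K₁) (_ : FiniteDimensional K K₁), EtRam.IsWeakSolution B K L K₁ := by
  exact EppEnd.epp_of_stInner (EppEnd.stInner stPair stTower stKrasner) A B K L hinj hres

end Groth.Agent.S1979
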