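import Groth.Statements.S1667
import Groth.Agent.CalgB.ProjImm
import Groth.Agent.S1551
import Groth.Agent.CohqB.ProjBC
import Groth.Agent.Ega2.AmpleUnit
import Mathlib.AlgebraicGeometry.Artinian

set_option autoImplicit false
universe u
open CategoryTheory CategoryTheory.Limits AlgebraicGeometry
open Variety

namespace Groth.Agent.S1667

/-- Stacks Tag 0A25: a separated scheme of finite type over k of dimension at most one is H-quasi-projective: it admits an immersion into some P^n_k over k. -/
theorem result (k : Type u) [Field k] (X : Scheme.{u}) [X.Over (Spec (CommRingCat.of k))] [IsSeparated (X ↘ (Spec (CommRingCat.of k)))] [LocallyOfFiniteType (X ↘ (Spec (CommRingCat.of k)))] [QuasiCompact (X ↘ (Spec (CommRingCat.of k)))] (hdim : topologicalKrullDim X ≤ 1) :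
    ∃ (n : ℕ) (i : X ⟶ CohB1.ProjSpace n k), IsImmersion i ∧ i ≫ CohB1.ProjSpace.toSpec n k = X ↘ (Spec (CommRingCat.of k)) := by
  have hN : IsNoetherian X := by
    have h1 : IsLocallyNoetherian X := LocallyOfFiniteType.isLocallyNoetherian (X ↘ (Spec (CommRingCat.of k)))
    have h2 : CompactSpace X := QuasiCompact.compactSpace_of_compactSpace (X ↘ (Spec (CommRingCat.of k)))
    exact { }
  have hsep : X.IsSeparated := by
    have h1 : IsSeparated ((X ↘ (Spec (CommRingCat.of k))) ≫ terminal.from (Spec (CommRingCat.of k))) := inferInstance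
    rw [← terminalIsTerminal.hom_ext (terminal.from X) ((X ↘ (Spec (CommRingCat.of k))) ≫ terminal.from _)] at h1
    exact ⟨h1⟩
  have hL : ∃ L : X.Modules, CohB1.IsAmple L := by
    rcases hdim.lt_or_eq with h | h
    · have h0 : topologicalKrullDim X ≤ 0 := by
        generalize topologicalKrullDim X = d at h
        induction d with
        | bot => exact bot_le
        | coe n =>
          have h1 : n < 1 := by exact_mod_cast h
          have h2 : n = 0 := Order.lt_one_iff.1 h1
          rw [h2]; rfl
      have h1 : IsLocallyArtinian X := .of_topologicalKrullDim_le_zero h0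
      have h2 : IsArtinianScheme X := { }
      have h3 : IsAffine X := inferInstance
      exact ⟨_, Groth.Agent.Ega2.Weight.isAmple_structureModule X⟩
    · exact Groth.Agent.S1551.result X h
  obtain ⟨L, hL⟩ := hL
  obtain ⟨n, i, hi, -, hif⟩ := Groth.Agent.CalgB.ProjImm.exists_immersion (X ↘ (Spec (CommRingCat.of k))) hL
  refine ⟨n, i ≫ (Groth.Agent.CohqB.ProjBC.projSpaceOverIso n k).hom, inferInstance, ?_⟩
  rw [Category.assoc, Groth.Agent.CohqB.ProjBC.projSpaceOverIso_hom_toSpec, hif]

end Groth.Agent.S1667
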