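import Groth.Statements.S1625
import Groth.Agent.S1667
import Groth.Agent.VarietyB.CurveClosure
import Groth.Agent.VarietyB.ProjSpaceProper
-- import your own Groth.Agent.* helpers here

set_option autoImplicit false
universe u
open CategoryTheory CategoryTheory.Limits AlgebraicGeometry
open Variety

namespace Groth.Agent.S1625

/-- Stacks Tag 0BXV: let X be separated of finite type over k with dim X ≤ 1. Then there are a closed subscheme Y of some projective space P^d_k and an open immersion j : X → Y over k whose image is dense and scheme-theoretically dense and whose complement is a finite set of closed points. -/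
theorem result (k : Type u) [Field k] (X : Scheme.{u}) [X.Over (Spec (CommRingCat.of k))] [IsSeparated (X ↘ (Spec (CommRingCat.of k)))] [LocallyOfFiniteType (X ↘ (Spec (CommRingCat.of k)))] [QuasiCompact (X ↘ (Spec (CommRingCat.of k)))] (hdim : topologicalKrullDim X ≤ 1) :
    ∃ (d : ℕ) (Y : Scheme.{u}) (c : Y ⟶ CohB1.ProjSpace d k) (j : X ⟶ Y), IsClosedImmersion c ∧ IsOpenImmersion j ∧
      j ≫ c ≫ CohB1.ProjSpace.toSpec d k = X ↘ (Spec (CommRingCat.of k)) ∧ Dense (Set.range j.base) ∧ IsSchemeTheoreticallyDominant j ∧
      (Set.range j.base)ᶜ.Finite ∧ ∀ y ∈ (Set.range j.base)ᶜ, IsClosed ({y} : Set Y) := by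
  obtain ⟨d, i, hi, hik⟩ := Groth.Agent.S1667.result k X hdim
  have hprop : IsProper (CohB1.ProjSpace.toSpec d k) :=
    Groth.Agent.VarietyB.ProjSpaceProper.isProper_toSpec d k
  have hqc' : QuasiCompact (i ≫ CohB1.ProjSpace.toSpec d k) := by rw [hik]; infer_instance
  have hqc : QuasiCompact i := QuasiCompact.of_comp i (CohB1.ProjSpace.toSpec d k)
  refine ⟨d, i.image, i.imageι, i.toImage, inferInstance, inferInstance, ?_, ?_, ?_, ?_⟩
  · rw [← hik, ← Category.assoc, Scheme.Hom.toImage_imageι]
  · exact i.toImage.denseRange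
  · exact Groth.Agent.VarietyB.CurveClosure.isSchemeTheoreticallyDominant_toImage i
  · exact Groth.Agent.VarietyB.CurveClosure.finite_compl_of_dim_le_one k
      (i.imageι ≫ CohB1.ProjSpace.toSpec d k) i.toImage hdim

end Groth.Agent.S1625
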