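import Groth.Statements.S0122
import Groth.Agent.EtpbcA.HenselGlue
import Groth.Agent.EtpbcA.OpenEquivSch

set_option autoImplicit false
universe u
open CategoryTheory CategoryTheory.Limits AlgebraicGeometry Opposite
open EtPBC

namespace Groth.Agent.S0122

theorem closed_meets (A : Type u) [CommRing A] (I : Ideal A) [HenselianRing A I]
    (C : Set (Spec (CommRingCat.of A))) (hC : IsClosed C) (hne : C.Nonempty) :
    (C ∩ Set.range (Spec.map (CommRingCat.ofHom (Ideal.Quotient.mk I)))).Nonempty := by
  obtain ⟨x, hx⟩ := hne
  obtain ⟨m, hm, hxm⟩ := Ideal.exists_le_maximal x.asIdeal x.isPrime.ne_top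
  have hr : Set.range (Spec.map (CommRingCat.ofHom (Ideal.Quotient.mk I))) =
      PrimeSpectrum.zeroLocus (I : Set A) := by
    have := range_comap_of_surjective (A ⧸ I) (Ideal.Quotient.mk I)
      Ideal.Quotient.mk_surjective
    rw [Ideal.mk_ker] at this
    exact this
  refine ⟨⟨m, hm.isPrime⟩, ?_, ?_⟩
  · have : x ⤳ (⟨m, hm.isPrime⟩ : PrimeSpectrum A) := (PrimeSpectrum.le_iff_specializes _ _).1 hxm
    exact this.mem_closed hC hx
  · rw [hr]
    intro a ha
    exact (show Ideal.jacobson ⊥ ≤ m from sInf_le ⟨bot_le, hm⟩) (HenselianRing.jac (I := I) ha)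

/-- Stacks Tag 09ZH: for a henselian pair (A, I) and any abelian sheaf F on the small etale site of Spec A, restriction of global sections Gamma(Spec A, F) -> Gamma(Spec (A/I), i^* F) is bijective; here written as the global-sections component of the unit F -> i_* i^* F (the target is the group of sections of i^* F over Spec A x_{Spec A} Spec (A/I) = Spec (A/I)). The source allows sheaves of sets; we state the abelian case. -/
theorem result (A : Type u) [CommRing A] (I : Ideal A) [HenselianRing A I]
    [EtCoh.BCCont (Spec.map (CommRingCat.ofHom (Ideal.Quotient.mk I)))]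
    (F : EtCoh.Ab (Spec (CommRingCat.of A))) :
    Function.Bijective
      (((EtCoh.pullPushAdj (Spec.map (CommRingCat.ofHom (Ideal.Quotient.mk I)))).unit.app F).hom.app (op (EtCoh.top (Spec (CommRingCat.of A))))) := by
  have : IsClosedImmersion (Spec.map (CommRingCat.ofHom (Ideal.Quotient.mk I))) :=
    IsClosedImmersion.spec_of_surjective _ Ideal.Quotient.mk_surjective
  exact EtpbcA.HenselGlue.bijective_of_geomGlue _ (closed_meets A I)
    (EtpbcA.OpenEquivSch.geomGlue A I) F

end Groth.Agent.S0122
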