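import Groth.Statements.S0779
-- import your own Groth.Agent.* helpers here

set_option autoImplicit false
open CategoryTheory CategoryTheory.Limits AlgebraicGeometry Opposite
universe u
open EtFppf

namespace Groth.Agent.S0779

set_option backward.isDefEq.respectTransparency.types false in
theorem etaleTopology_le_fppfTopology : Scheme.etaleTopology.{u} ≤ Scheme.fppfTopology.{u} := by
  refine Precoverage.toGrothendieck_mono ?_
  refine Scheme.precoverage_mono ?_
  intro X Y f hf
  have : Etale f := hf
  exact ⟨inferInstance, inferInstance⟩

set_option backward.isDefEq.respectTransparency.types false in
theorem coverPreserving_a (X : Scheme.{u}) :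
    CoverPreserving X.smallEtaleTopology (J X) (a X) := by
  constructor
  intro U S hS
  have h1 : S.functorPushforward (a X) ∈ (Scheme.etaleTopology.over X) ((a X).obj U) := by
    have := (Functor.mem_restrictedTopology_iff (G := MorphismProperty.Over.forget EtCoh.etaleMP ⊤ X) 
      (K := X.overGrothendieckTopology EtCoh.etaleMP) (S := S)).1 hS
    exact this
  rw [GrothendieckTopology.mem_over_iff] at h1 ⊢
  exact etaleTopology_le_fppfTopology _ h1

/-- Stacks Tag 021N (etale coverings are fppf coverings), in the form used for the comparison morphism of sites a_X between the big fppf site and the small etale site (Tag 0DDK): the functor from the small etale site of X to schemes over X with the fppf topology is continuous. -/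
theorem result (X : Scheme.{u}) : EtFppf.ACont X := by
  have h : PreservesFiniteLimits (a X) := inferInstanceAs (PreservesFiniteLimits (Scheme.Etale.forget X))
  have : RepresentablyFlat (a X) := flat_of_preservesFiniteLimits _
  exact Functor.isContinuous_of_coverPreserving (compatiblePreservingOfFlat _ _) (coverPreserving_a X)

end Groth.Agent.S0779
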