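import Groth.Statements.S1379
import Groth.Agent.Flat2E.QFSliceScheme
import Mathlib.AlgebraicGeometry.ZariskisMainTheorem

set_option autoImplicit false
universe u
open FlatMor

namespace Groth.Agent.S1379

open AlgebraicGeometry CategoryTheory Limits in
/-- Stacks Tag 0DET: let S₁ → S be flat, locally of finite presentation and surjective (an fppf cover by one morphism). Then for every point s of S there are an étale morphism S' → S whose image contains s and a surjective, finite, flat morphism of finite presentation V → S' such that V → S factors through S₁ Zariski locally on V. -/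
theorem result {S₁ S : Scheme.{u}} (g : S₁ ⟶ S) [Flat g] [LocallyOfFinitePresentation g] [Surjective g] (s : S) :
    ∃ (S' V : Scheme.{u}) (e : S' ⟶ S) (π : V ⟶ S'), Etale e ∧ s ∈ Set.range ⇑e ∧ Surjective π ∧ IsFinite π ∧ Flat π ∧ LocallyOfFinitePresentation π ∧
      ∀ v : ↑V, ∃ (W : V.Opens) (r : ↑W ⟶ S₁), v ∈ W ∧ r ≫ g = W.ι ≫ π ≫ e := by
  obtain ⟨x, hx⟩ := g.surjective s
  obtain ⟨T, h, r, t, _, _, _, _, _, ht, hr⟩ :=
    Groth.Agent.Flat2E.QFSliceScheme.exists_local_slice g x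
  obtain ⟨U, e, he, -, V, W, v, -, hfin, hv⟩ :=
    exists_etale_isCompl_of_quasiFiniteAt h (ht.trans hx) (h.quasiFiniteAt t)
  let π₀ : (V : Scheme.{u}) ⟶ U := V.ι ≫ pullback.snd h e
  have hfl : Flat π₀ := inferInstance
  have hfp : LocallyOfFinitePresentation π₀ := inferInstance
  let S' : U.Opens := ⟨Set.range π₀, π₀.isOpenMap.isOpen_range⟩
  refine ⟨S', π₀ ⁻¹ᵁ S', S'.ι ≫ e, π₀ ∣_ S', inferInstance, ?_, ?_, inferInstance, inferInstance,
    inferInstance, fun y ↦ ⟨⊤, Scheme.Opens.ι _ ≫ (π₀ ⁻¹ᵁ S').ι ≫ V.ι ≫ pullback.fst h e ≫ r, trivial, ?_⟩⟩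
  · refine ⟨⟨π₀ v, ⟨v, rfl⟩⟩, ?_⟩
    rw [Scheme.Hom.comp_apply]
    change e (π₀ v) = s
    have h1 : e (pullback.snd h e v.1) = h (pullback.fst h e v.1) := by
      rw [← Scheme.Hom.comp_apply, ← Scheme.Hom.comp_apply, pullback.condition]
    have h2 : π₀ v = pullback.snd h e v.1 := by
      simp [π₀]
    rw [h2, h1, hv, ht, hx]
  · refine ⟨fun y ↦ ?_⟩
    obtain ⟨z, hz⟩ := y.2
    refine ⟨⟨z, ⟨z, rfl⟩⟩, Subtype.ext ?_⟩
    refine Eq.trans ?_ hz
    have h3 : S'.ι ((π₀ ∣_ S') ⟨z, ⟨z, rfl⟩⟩) = π₀ ((π₀ ⁻¹ᵁ S').ι ⟨z, ⟨z, rfl⟩⟩) := by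
      rw [← Scheme.Hom.comp_apply, ← Scheme.Hom.comp_apply, morphismRestrict_ι]
    exact h3
  · simp only [Category.assoc]
    rw [hr, pullback.condition, morphismRestrict_ι_assoc]
    simp [π₀]

end Groth.Agent.S1379
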