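import Groth.Statements.S1333
import Groth.Agent.Flat2D.AffData
import Groth.Agent.Flat2D.FibDimConstr

set_option autoImplicit false
universe u
open FlatMor

namespace Groth.Agent.S1333

open AlgebraicGeometry CategoryTheory Limits Topology in
theorem isLocallyConstructible_le {X Y : Scheme.{u}} (f : X ⟶ Y) [LocallyOfFinitePresentation f]
    [QuasiCompact f] (d : ℕ) :
    IsLocallyConstructible {y : ↑Y | (d : WithBot ℕ∞) ≤ topologicalKrullDim ↑(f.fiber y)} := by
  refine Flat2D.AffData.isLocallyConstructible_of_affine fun R j _ => ?_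
  obtain ⟨ι, hι, S, g, φ, hg, h1, h2, h3⟩ :=
    Flat2D.AffData.exists_affine_data_finitePresentation f R j
  have : j ⁻¹' {y : ↑Y | (d : WithBot ℕ∞) ≤ topologicalKrullDim ↑(f.fiber y)} =
      ⋃ i, {p : PrimeSpectrum R | (d : WithBot ℕ∞) ≤
        topologicalKrullDim (PrimeSpectrum.comap (φ i).hom ⁻¹' {p})} := by
    ext p
    refine Iff.trans ?_ Set.mem_iUnion.symm
    exact Flat2D.AffData.le_topologicalKrullDim_fiber_iff f j g φ hg h1 h2 p d
  rw [this]
  refine .iUnion fun i => ?_
  have := h3 i
  algebraize [(φ i).hom]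
  convert! Flat2D.FibDimConstr.isConstructible_setOf_le_ringKrullDim_fiber R (S i) d using 1
  ext p
  have h5 := IsHomeomorph.topologicalKrullDim_eq _
    (PrimeSpectrum.preimageHomeomorphFiber R (S i) p).isHomeomorph
  rw [PrimeSpectrum.topologicalKrullDim_eq_ringKrullDim] at h5
  rw [Set.mem_ofPred_eq, Set.mem_ofPred_eq, ← h5]
  rfl

open AlgebraicGeometry CategoryTheory Limits Topology in
theorem dim_ne_top {X Y : Scheme.{u}} (f : X ⟶ Y) [LocallyOfFiniteType f]
    [QuasiCompact f] (y : Y) : topologicalKrullDim ↑(f.fiber y) ≠ ⊤ := by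
  intro htop
  obtain ⟨i, p, hp⟩ := Y.affineCover.exists_eq y
  have h0 : IsOpenImmersion (Y.affineCover.f i) := inferInstance
  obtain ⟨R, j, hj, p, rfl⟩ : ∃ (R : CommRingCat.{u}) (j : Spec R ⟶ Y) (_ : IsOpenImmersion j)
    (p : Spec R), j p = y := ⟨_, Y.affineCover.f i, h0, p, hp⟩
  obtain ⟨ι, hι, S, g, φ, hg, h1, h2, h3⟩ :=
    Flat2D.AffData.exists_affine_data_finiteType f R j
  have key : ∀ i, ∃ r : ℕ, ∀ d : ℕ, (d : WithBot ℕ∞) ≤
        topologicalKrullDim (PrimeSpectrum.comap (φ i).hom ⁻¹' {(p : PrimeSpectrum R)}) → d ≤ r := by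
    intro i
    have := h3 i
    algebraize [(φ i).hom]
    obtain ⟨r, hr⟩ := Flat2D.FibDimConstr.exists_bound_ringKrullDim_fiber R (S i)
    refine ⟨r, fun d hd => hr p d ?_⟩
    have h5 := IsHomeomorph.topologicalKrullDim_eq _
      (PrimeSpectrum.preimageHomeomorphFiber R (S i) p).isHomeomorph
    rw [PrimeSpectrum.topologicalKrullDim_eq_ringKrullDim] at h5
    rw [← h5]
    exact hd
  choose r hr using key
  have := Fintype.ofFinite ι
  have h6 : (((Finset.univ.sup r + 1 : ℕ) : ℕ) : WithBot ℕ∞) ≤
      topologicalKrullDim ↑(f.fiber (j p)) := by rw [htop]; exact le_top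
  obtain ⟨i, hi⟩ := (Flat2D.AffData.le_topologicalKrullDim_fiber_iff f j g φ hg h1 h2 p _).mp h6
  have h7 := hr i _ hi
  have h8 : r i ≤ Finset.univ.sup r := Finset.le_sup (Finset.mem_univ i)
  omega

open Topology in
theorem isLocallyConstructible_compl {X : Type*} [TopologicalSpace X] {s : Set X}
    (hs : IsLocallyConstructible s) : IsLocallyConstructible sᶜ := by
  intro x
  obtain ⟨U, hU, hU', h⟩ := hs x
  refine ⟨U, hU, hU', ?_⟩
  rw [Set.preimage_compl, isConstructible_compl]
  exact h

open AlgebraicGeometry CategoryTheory Limits in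
/-- Stacks Tag 05F9: for a morphism of finite presentation (locally of finite presentation, quasi-compact, quasi-separated), each level set of the function sending a point of the target to the dimension of its fibre is locally constructible. -/
theorem result {X Y : Scheme.{u}} (f : X ⟶ Y) [LocallyOfFinitePresentation f] [QuasiCompact f] [QuasiSeparated f]
    (n : WithBot ℕ∞) :
    Topology.IsLocallyConstructible {y : ↑Y | topologicalKrullDim ↑(f.fiber y) = n} := by
  have key : ∀ d : ℕ, ∀ x : WithBot ℕ∞, x = (d : WithBot ℕ∞) ↔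
      (d : WithBot ℕ∞) ≤ x ∧ ¬ ((d + 1 : ℕ) : WithBot ℕ∞) ≤ x := by
    intro d x
    induction x with
    | bot => simp
    | coe x =>
      induction x with
      | top =>
        have : ((⊤ : ℕ∞) : WithBot ℕ∞) ≠ (d : WithBot ℕ∞) := by
          intro h
          have h' : (⊤ : ℕ∞) = (d : ℕ∞) := WithBot.coe_injective h
          exact ENat.top_ne_natCast d h'
        simpa using this
      | coe x =>
        norm_cast
        omega
  induction n with
  | bot =>
    have : {y : ↑Y | topologicalKrullDim ↑(f.fiber y) = ⊥} =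
      {y : ↑Y | ((0 : ℕ) : WithBot ℕ∞) ≤ topologicalKrullDim ↑(f.fiber y)}ᶜ := by
      ext y
      rw [Set.mem_compl_iff, Set.mem_ofPred_eq, Set.mem_ofPred_eq]
      generalize topologicalKrullDim ↑(f.fiber y) = z
      induction z with
      | bot => simp
      | coe z => simp
    rw [this]
    exact isLocallyConstructible_compl (isLocallyConstructible_le f 0)
  | coe n =>
    induction n with
    | top =>
      convert! Topology.IsLocallyConstructible.empty
      exact Set.eq_empty_of_forall_notMem fun y hy => dim_ne_top f y hy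
    | coe d =>
      have : {y : ↑Y | topologicalKrullDim ↑(f.fiber y) = ((d : ℕ∞) : WithBot ℕ∞)} =
        {y : ↑Y | (d : WithBot ℕ∞) ≤ topologicalKrullDim ↑(f.fiber y)} ∩
        {y : ↑Y | ((d + 1 : ℕ) : WithBot ℕ∞) ≤ topologicalKrullDim ↑(f.fiber y)}ᶜ := by
        ext y
        exact key d _
      rw [this]
      exact (isLocallyConstructible_le f d).inter
        (isLocallyConstructible_compl (isLocallyConstructible_le f (d + 1)))

end Groth.Agent.S1333
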