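import Groth.Statements.S1050
import Groth.Agent.Cohder.DerivedFF
import Groth.Agent.Cohder.SubcomplexRes
import Mathlib.Algebra.Homology.FullSubcategory

set_option autoImplicit false
universe w w' v u
open CategoryTheory CategoryTheory.Limits
open CohDer

namespace Groth.Agent.S1050

open Groth.Agent.Cohder

variable {A : Type u} [Category.{v} A] [Abelian A]

section

variable (P : ObjectProperty A)

/-- A complex with terms in `P` comes from a complex in `P.FullSubcategory`. -/
def liftIso [P.IsClosedUnderKernels] [P.IsClosedUnderCokernels]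
    [P.IsClosedUnderFiniteProducts] (L : CochainComplex A ℤ) (hL : ∀ i, P (L.X i)) :
    (P.ι.mapHomologicalComplex (ComplexShape.up ℤ)).obj (L.liftObjectProperty P hL) ≅ L :=
  HomologicalComplex.Hom.isoOfComponents (fun _ ↦ Iso.refl _) (fun i j _ ↦
    (Category.id_comp (L.d i j)).trans (Category.comp_id (L.d i j)).symm)

end

/-- the homology of a complex with terms in a Serre class is in the Serre class -/
lemma prop_homology (P : ObjectProperty A) [P.IsSerreClass] (K : CochainComplex A ℤ) (i : ℤ)
    (hK : P (K.X i)) : P (K.homology i) :=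
  P.prop_of_epi (K.homologyπ i) (P.prop_of_mono (K.iCycles i) hK)

lemma exists_quasiIso (P : ObjectProperty A) [P.IsSerreClass] [P.IsClosedUnderKernels]
    [P.IsClosedUnderCokernels] [P.IsClosedUnderFiniteProducts]
    (hlift : ∀ (X Y : A) (π : X ⟶ Y), Epi π → P Y → ∃ (X' : A) (i : X' ⟶ X),
      Mono i ∧ P X' ∧ Epi (i ≫ π)) (K : CochainComplex A ℤ) (b : ℤ) [K.IsStrictlyLE b]
      (hK : ∀ i, P (K.homology i)) :
    ∃ (M : CochainComplex P.FullSubcategory ℤ)
      (f : (P.ι.mapHomologicalComplex (ComplexShape.up ℤ)).obj M ⟶ K),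
      M.IsStrictlyLE b ∧ QuasiIso f := by
  obtain ⟨L, f, hL, _, hL', hf⟩ := SubcomplexRes.exists_quasiIso_of_isSerreClass P hlift K b hK
  refine ⟨L.liftObjectProperty P hL', (liftIso P L hL').hom ≫ f, ?_, inferInstance⟩
  rw [CochainComplex.isStrictlyLE_iff]
  intro i hi
  rw [IsZero.iff_id_eq_zero]
  ext
  exact (L.isZero_of_isStrictlyLE b i hi).eq_of_src _ _

/-- Stacks Tag 0FCL: let P be a Serre class in an abelian category A (so that the full subcategory on P is abelian; its closure under kernels, cokernels, finite products and the exactness of the inclusion are carried as instance hypotheses) such that for every epimorphism X ⟶ Y with P Y there is a subobject X' of X with P X' mapping onto Y. Then the induced functor D(P) ⥤ D(A) is fully faithful on bounded above objects, and every bounded above object of D(A) all of whose cohomology objects satisfy P is in its essential image from a bounded above object; that is, D⁻(P) ≃ D⁻_P(A). -/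
theorem result {A : Type u} [Category.{v} A] [Abelian A] [HasDerivedCategory.{w} A]
    (P : ObjectProperty A) [P.IsSerreClass] [P.IsClosedUnderKernels] [P.IsClosedUnderCokernels]
    [P.IsClosedUnderFiniteProducts] [HasDerivedCategory.{w'} P.FullSubcategory]
    [PreservesFiniteLimits P.ι] [PreservesFiniteColimits P.ι]
    (hlift : ∀ (X Y : A) (π : X ⟶ Y), Epi π → P Y → ∃ (X' : A) (i : X' ⟶ X), Mono i ∧ P X' ∧ Epi (i ≫ π)) :
    (∀ (M N : DerivedCategory P.FullSubcategory) (b : ℤ), M.IsLE b → N.IsLE b →
      Function.Bijective (fun φ : M ⟶ N => P.ι.mapDerivedCategory.map φ)) ∧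
    ∀ (K : DerivedCategory A) (b : ℤ), K.IsLE b → (∀ n : ℤ, P ((DerivedCategory.homologyFunctor A n).obj K)) →
      ∃ M : DerivedCategory P.FullSubcategory, M.IsLE b ∧ Nonempty (P.ι.mapDerivedCategory.obj M ≅ K) := by
  refine ⟨fun M N b hM _ ↦ ?_, fun K b hb hK ↦ ?_⟩
  · obtain ⟨M₀, _, ⟨e⟩⟩ := M.exists_iso_Q_obj_of_isLE b
    refine DerivedFF.bijective_of_left_resolutions P.ι (fun M ↦ M.IsStrictlyLE b) ?_ M N M₀
      inferInstance e
    intro M _ K s hs
    have : CochainComplex.IsStrictlyLE ((P.ι.mapHomologicalComplex (ComplexShape.up ℤ)).obj M) b := by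
      rw [CochainComplex.isStrictlyLE_iff]
      intro i hi
      exact P.ι.map_isZero (M.isZero_of_isStrictlyLE b i hi)
    have hK : K.IsLE b := by
      rw [CochainComplex.isLE_iff]
      intro i hi
      rw [← quasiIsoAt_iff_exactAt' s i]
      · infer_instance
      · exact CochainComplex.exactAt_of_isLE
          ((P.ι.mapHomologicalComplex (ComplexShape.up ℤ)).obj M) b i hi
    obtain ⟨M', t, hM', ht⟩ := exists_quasiIso P hlift (K.truncLE b) b (fun i ↦
      (P.prop_iff_of_iso (asIso (HomologicalComplex.homologyMap (K.ιTruncLE b ≫ s) i))).2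
        (prop_homology P _ _ (M.X i).property))
    exact ⟨M', t ≫ K.ιTruncLE b, hM', inferInstance⟩
  · obtain ⟨K₀, _, ⟨e⟩⟩ := K.exists_iso_Q_obj_of_isLE b
    obtain ⟨M, f, _, hf⟩ := exists_quasiIso P hlift K₀ b (fun i ↦
      P.prop_of_iso ((DerivedCategory.homologyFunctor A i).mapIso e ≪≫
        (DerivedCategory.homologyFunctorFactors A i).app K₀) (hK i))
    exact ⟨DerivedCategory.Q.obj M, inferInstance,
      ⟨P.ι.mapDerivedCategoryFactors.app M ≪≫ asIso (DerivedCategory.Q.map f) ≪≫ e.symm⟩⟩

end Groth.Agent.S1050
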