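import Groth.Statements.S0583
import Groth.Agent.CalgA.Devissage

set_option autoImplicit false
universe u
open CAlg
open scoped Classical

namespace Groth.Agent.S0583

open Groth.Agent.CalgA.Devissage

section

variable {R : Type u} [CommRing R] {M : Type u} [AddCommGroup M] [Module R M]

/-- Countable spanning of a submodule. -/
def CG (N : Submodule R M) : Prop := ∃ s : Set M, s.Countable ∧ Submodule.span R s = N

theorem CG_iff (N : Submodule R M) : IsCountablyGenerated R N ↔ CG N := by
  constructor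
  · rintro ⟨s, hs, h⟩
    refine ⟨N.subtype '' s, hs.image _, ?_⟩
    rw [Submodule.span_image, h, Submodule.map_top, Submodule.range_subtype]
  · rintro ⟨s, hs, h⟩
    refine ⟨N.subtype ⁻¹' s, hs.preimage N.subtype_injective, ?_⟩
    apply Submodule.map_injective_of_injective N.subtype_injective
    rw [Submodule.map_span, Submodule.map_top, Submodule.range_subtype,
      Set.image_preimage_eq_of_subset, h]
    intro x hx
    have : x ∈ N := h ▸ Submodule.subset_span hx
    exact ⟨⟨x, this⟩, rfl⟩

theorem CG.map {N : Submodule R M} (h : CG N) {M' : Type u} [AddCommGroup M'] [Module R M']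
    (f : M →ₗ[R] M') : CG (N.map f) := by
  obtain ⟨s, hs, rfl⟩ := h
  exact ⟨f '' s, hs.image _, Submodule.span_image _⟩

theorem CG.iSup {κ : Type*} {s : Set κ} (hs : s.Countable) (N : κ → Submodule R M)
    (h : ∀ i, CG (N i)) : CG (⨆ i ∈ s, N i) := by
  choose t ht h2 using h
  refine ⟨⋃ i ∈ s, t i, hs.biUnion (fun i _ => ht i), ?_⟩
  simp only [Submodule.span_iUnion, h2]

end

/-- The step of Kaplansky's devissage. -/
theorem step (R : Type u) [CommRing R] (M : Type u)
    [AddCommGroup M] [Module R M] (ι : Type u) (N : ι → Submodule R M) (hN : DirectSum.IsInternal N)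
    (hc : ∀ i, CG (N i)) (P Q : Submodule R M) (hPQ : IsCompl P Q) :
    ∃ S : Set (Submodule R P), sSupIndep S ∧ sSup S = ⊤ ∧ ∀ C ∈ S, CG C := by
  have hind := hN.submodule_iSupIndep
  have htop := hN.submodule_iSup_eq_top
  let π : M →ₗ[R] P := P.projectionOnto Q hPQ
  let π' : M →ₗ[R] M := P.subtype ∘ₗ π
  let F : Set ι → Submodule R P := fun J => (⨆ i ∈ J, N i).map π
  have hFmono : ∀ J J' : Set ι, J ⊆ J' → (⨆ i ∈ J, N i) ≤ ⨆ i ∈ J', N i := fun J J' h =>
    biSup_mono h
  -- supremum of a family of sets of indices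
  have hsSup : ∀ c : Set (Set ι), (⨆ i ∈ sSup c, N i) = ⨆ J ∈ c, ⨆ i ∈ J, N i := by
    intro c
    apply le_antisymm
    · apply iSup₂_le
      rintro i ⟨J, hJ, hi⟩
      exact le_iSup₂_of_le J hJ (le_iSup₂_of_le i hi le_rfl)
    · apply iSup₂_le
      intro J hJ
      apply iSup₂_le
      intro i hi
      exact le_iSup₂_of_le i ⟨J, hJ, hi⟩ le_rfl
  -- countable support
  have hsupp : ∀ x : M, ∃ J : Set ι, J.Countable ∧ x ∈ ⨆ i ∈ J, N i := by
    intro x
    have hx : x ∈ ⨆ i, N i := by rw [htop]; trivial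
    obtain ⟨J, hJ⟩ := (Submodule.mem_iSup_iff_exists_finset.1 hx)
    exact ⟨J, J.countable_toSet, hJ⟩
  have hsupp2 : ∀ i : ι, ∃ J : Set ι, J.Countable ∧ (N i).map π' ≤ ⨆ j ∈ J, N j := by
    intro i
    obtain ⟨s, hs, hs2⟩ := hc i
    choose J hJ hJ2 using hsupp
    refine ⟨⋃ x ∈ s, J (π' x), hs.biUnion (fun x _ => hJ _), ?_⟩
    rw [← hs2, Submodule.map_span, Submodule.span_le]
    rintro _ ⟨x, hx, rfl⟩
    exact hFmono _ _ (Set.subset_biUnion_of_mem (u := fun x => J (π' x)) hx) (hJ2 (π' x))
  choose T hT hT2 using hsupp2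
  obtain ⟨S, hS, hS2, hS3⟩ := exists_indep (α := Set ι) (L := Submodule R P)
    (fun J => (⨆ i ∈ J, N i).map π' ≤ ⨆ i ∈ J, N i) F CG (by simp) (by simp [F])
    (by
      intro c _ _ hcg
      show (⨆ i ∈ sSup c, N i).map π' ≤ ⨆ i ∈ sSup c, N i
      rw [hsSup, Submodule.map_iSup]
      simp only [Submodule.map_iSup]
      apply iSup₂_le
      intro J hJ
      refine le_trans ?_ (le_iSup₂_of_le J hJ le_rfl)
      have := hcg J hJ
      simpa only [Submodule.map_iSup] using this) (by
      intro c _ _ _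
      show (⨆ i ∈ sSup c, N i).map π = ⨆ J ∈ c, (⨆ i ∈ J, N i).map π
      rw [hsSup]
      simp only [Submodule.map_iSup]) (by
      intro J hJ hJtop
      obtain ⟨i0, hi0⟩ : ∃ i0, i0 ∉ J := by
        by_contra hcon
        push Not at hcon
        exact hJtop (Set.eq_univ_of_forall hcon)
      -- countable closure
      let G : ℕ → Set ι := fun n => Nat.rec {i0} (fun _ A => ⋃ i ∈ A, T i) n
      have hG : ∀ n, (G n).Countable := by
        intro n
        induction n with
        | zero => exact Set.countable_singleton i0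
        | succ n ih => exact ih.biUnion (fun i _ => hT i)
      let J0 : Set ι := ⋃ n, G n
      have hJ0 : J0.Countable := Set.countable_iUnion hG
      have hi0J : i0 ∈ J0 := Set.mem_iUnion.2 ⟨0, rfl⟩
      have hJ0s : (⨆ i ∈ J0, N i).map π' ≤ ⨆ i ∈ J0, N i := by
        simp only [Submodule.map_iSup]
        apply iSup₂_le
        intro i hi
        obtain ⟨n, hn⟩ := Set.mem_iUnion.1 hi
        refine (hT2 i).trans (hFmono _ _ ?_)
        refine Set.Subset.trans ?_ (Set.subset_iUnion _ (n+1))
        exact Set.subset_biUnion_of_mem (u := T) hn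
      have hunion : (⨆ i ∈ J ∪ J0, N i) = (⨆ i ∈ J, N i) ⊔ ⨆ i ∈ J0, N i := iSup_union
      -- projection to `N_J`
      have hcompl : IsCompl (⨆ i ∈ J, N i) (⨆ i ∈ Jᶜ, N i) := by
        constructor
        · exact hind.disjoint_biSup_biSup disjoint_compl_right
        · rw [codisjoint_iff, ← iSup_union, Set.union_compl_self, ← htop]
          simp
      let ε : M →ₗ[R] M := (⨆ i ∈ J, N i).projection (⨆ i ∈ Jᶜ, N i) hcompl
      let e : P →ₗ[R] P := π ∘ₗ ε ∘ₗ P.subtype
      have he1 : ∀ x ∈ F J, e x = x := by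
        rintro x ⟨y, hy, rfl⟩
        have h1 : ((π y : P) : M) ∈ ⨆ i ∈ J, N i := hJ ⟨y, hy, rfl⟩
        show π (ε (π y)) = π y
        rw [show ε (π y) = π y from Submodule.projection_apply_of_mem_left hcompl h1]
        exact Submodule.projectionOnto_apply_left hPQ (π y)
      have he2 : ∀ x, e x ∈ F J := fun x => ⟨ε x, Submodule.projection_apply_mem _ _, rfl⟩
      refine ⟨J ∪ J0, ?_, ?_, ((⨆ i ∈ J0, N i).map π).map (LinearMap.id - e), ?_, ?_, ?_⟩
      · refine lt_of_le_of_ne Set.subset_union_left ?_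
        intro heq
        exact hi0 (heq ▸ Or.inr hi0J)
      · show (⨆ i ∈ J ∪ J0, N i).map π' ≤ ⨆ i ∈ J ∪ J0, N i
        rw [hunion, Submodule.map_sup]
        exact sup_le_sup hJ hJ0s
      · exact ((CG.iSup hJ0 N hc).map π).map _
      · rw [Submodule.disjoint_def]
        rintro x hx ⟨y, -, rfl⟩
        have h1 := he1 _ hx
        have h2 : e ((LinearMap.id - e : P →ₗ[R] P) y) = 0 := by
          simp only [LinearMap.sub_apply, LinearMap.id_apply, map_sub]
          rw [he1 _ (he2 y), sub_self]
        rw [← h1, h2]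
      · show F J ⊔ _ = (⨆ i ∈ J ∪ J0, N i).map π
        rw [hunion, Submodule.map_sup]
        apply le_antisymm
        · apply sup_le le_sup_left
          rintro _ ⟨y, hy, rfl⟩
          rw [LinearMap.sub_apply, LinearMap.id_apply]
          exact Submodule.sub_mem _ (Submodule.mem_sup_right hy) (Submodule.mem_sup_left (he2 y))
        · apply sup_le le_sup_left
          intro y hy
          have h1 : y = e y + (LinearMap.id - e : P →ₗ[R] P) y := by
            rw [LinearMap.sub_apply, LinearMap.id_apply]; abel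
          rw [h1]
          exact Submodule.add_mem _ (Submodule.mem_sup_left (he2 y))
            (Submodule.mem_sup_right ⟨y, hy, rfl⟩))
  refine ⟨S, hS, ?_, hS3⟩
  rw [hS2]
  show (⨆ i ∈ (Set.univ : Set ι), N i).map π = ⊤
  simp only [Set.mem_univ, iSup_pos]
  rw [htop, Submodule.map_top]
  exact Submodule.range_projectionOnto hPQ

/-- Stacks Tag 058X: if a module is an internal direct sum of countably generated submodules, then any
direct summand of it is again an internal direct sum of countably generated submodules. -/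
theorem result (R : Type u) [CommRing R] (M : Type u)
    [AddCommGroup M] [Module R M] (ι : Type u) (N : ι → Submodule R M) (hN : DirectSum.IsInternal N)
    (hc : ∀ i, CAlg.IsCountablyGenerated R (N i)) (P Q : Submodule R M) (hPQ : IsCompl P Q) :
    ∃ (κ : Type u) (L : κ → Submodule R P), DirectSum.IsInternal L ∧
      ∀ k, CAlg.IsCountablyGenerated R (L k) := by
  obtain ⟨S, hS, hS2, hS3⟩ := step R M ι N hN (fun i => (CG_iff _).1 (hc i)) P Q hPQ
  have key : ∀ (κ : Type u) (L : κ → Submodule R P), iSupIndep L → iSup L = ⊤ →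
      DirectSum.IsInternal L := fun κ L h1 h2 =>
    DirectSum.isInternal_submodule_of_iSupIndep_of_iSup_eq_top h1 h2
  exact ⟨S, fun C => C.1, key _ _ ((sSupIndep_iff S).1 hS) (by rw [← hS2, sSup_eq_iSup']),
    fun C => (CG_iff _).2 (hS3 C.1 C.2)⟩

end Groth.Agent.S0583
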