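import Groth.Statements.S0584
import Groth.Agent.S0583
import Groth.Agent.Flat2A.MLProj

set_option autoImplicit false
universe u
open scoped Classical
open CAlg

namespace Groth.Agent.S0584

/-- A free module is an internal direct sum of countably generated (cyclic) submodules. -/
theorem exists_internal_free (R : Type u) [CommRing R] (α : Type u) :
    ∃ N : α → Submodule R (α →₀ R), DirectSum.IsInternal N ∧
        ∀ i, CAlg.IsCountablyGenerated R (N i) := by
  refine ⟨fun a => LinearMap.range (Finsupp.lsingle a : R →ₗ[R] (α →₀ R)), ?_, ?_⟩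
  · rw [DirectSum.isInternal_submodule_iff_iSupIndep_and_iSup_eq_top]
    constructor
    · rw [iSupIndep_def]
      intro a
      rw [Submodule.disjoint_def]
      rintro _ ⟨r, rfl⟩ hx
      have h2 : (⨆ (j : α) (_ : j ≠ a), LinearMap.range (Finsupp.lsingle j : R →ₗ[R] (α →₀ R))) ≤
          LinearMap.ker (Finsupp.lapply a : (α →₀ R) →ₗ[R] R) := by
        refine iSup₂_le fun j hj => ?_
        rintro _ ⟨r, rfl⟩
        simp [hj]
      have h3 := h2 hx
      simp only [LinearMap.mem_ker, Finsupp.lsingle_apply, Finsupp.lapply_apply,
        Finsupp.single_eq_same] at h3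
      simp [h3]
    · exact Finsupp.iSup_lsingle_range
  · intro a
    refine ⟨{⟨Finsupp.single a 1, ⟨1, rfl⟩⟩}, Set.countable_singleton _, ?_⟩
    rw [eq_top_iff]
    rintro ⟨_, ⟨r, rfl⟩⟩ _
    rw [Submodule.mem_span_singleton]
    refine ⟨r, ?_⟩
    ext b
    simp

/-- Transport of internal direct sums along a linear equivalence. -/
theorem isInternal_map {R : Type*} [Semiring R] {M M' : Type*} [AddCommMonoid M] [Module R M]
    [AddCommMonoid M'] [Module R M'] {κ : Type*} [DecidableEq κ] (e : M ≃ₗ[R] M')
    (L : κ → Submodule R M) (h : DirectSum.IsInternal L) :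
    DirectSum.IsInternal (fun k => (L k).map e.toLinearMap) := by
  let E : (DirectSum κ fun k => L k) ≃ₗ[R] (DirectSum κ fun k => (L k).map e.toLinearMap) :=
    DFinsupp.mapRange.linearEquiv (fun k => e.submoduleMap (L k))
  have h1 : (DirectSum.coeLinearMap (fun k => (L k).map e.toLinearMap)) ∘ₗ E.toLinearMap =
      e.toLinearMap ∘ₗ DirectSum.coeLinearMap L := by
    apply DirectSum.linearMap_ext
    intro k
    ext x
    have h2 : E (DirectSum.lof R κ (fun k => L k) k x) =
        DirectSum.lof R κ (fun k => (L k).map e.toLinearMap) k (e.submoduleMap (L k) x) :=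
      DFinsupp.mapRange_single (hf := fun i => map_zero (e.submoduleMap (L i)))
    simp only [LinearMap.comp_apply, LinearEquiv.coe_coe, h2, DirectSum.coeLinearMap_lof]
    rfl
  have h3 : Function.Bijective (DirectSum.coeLinearMap (fun k => (L k).map e.toLinearMap)) := by
    have h4 : Function.Bijective ((e.toLinearMap ∘ₗ DirectSum.coeLinearMap L) ∘ₗ
        E.symm.toLinearMap) :=
      (e.bijective.comp h).comp E.symm.bijective
    rw [← h1, LinearMap.comp_assoc] at h4
    simpa using h4
  exact h3

/-- Stacks Tag 059Z: projectivity of a module is equivalent to the conjunction of three conditions — flatness,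
the Mittag-Leffler property, and being an internal direct sum of countably generated submodules. -/
theorem result (R : Type u) [CommRing R] (M : Type u)
    [AddCommGroup M] [Module R M] :
    Module.Projective R M ↔ (Module.Flat R M ∧ CAlg.IsMittagLeffler R M ∧
      ∃ (ι : Type u) (N : ι → Submodule R M), DirectSum.IsInternal N ∧
        ∀ i, CAlg.IsCountablyGenerated R (N i)) := by
  constructor
  · intro h
    refine ⟨inferInstance, Flat2A.MLProj.isMittagLeffler_of_projective M, ?_⟩
    obtain ⟨s, hs⟩ := Module.projective_def'.mp h
    obtain ⟨N, hN, hc⟩ := exists_internal_free R M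
    have hinj : Function.Injective s := by
      intro x y hxy
      have := congrArg (Finsupp.linearCombination R id) hxy
      have h1 := LinearMap.congr_fun hs x
      have h2 := LinearMap.congr_fun hs y
      simp only [LinearMap.comp_apply, LinearMap.id_apply] at h1 h2
      rw [← h1, ← h2, this]
    have hcompl : IsCompl (LinearMap.range s)
        (LinearMap.ker (Finsupp.linearCombination R (id : M → M))) := by
      have h1 : ∀ m, (Finsupp.linearCombination R (id : M → M)) (s m) = m :=
        fun m => LinearMap.congr_fun hs m
      constructor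
      · rw [Submodule.disjoint_def]
        rintro _ ⟨m, rfl⟩ hm
        rw [LinearMap.mem_ker, h1] at hm
        rw [hm, map_zero]
      · rw [codisjoint_iff, eq_top_iff]
        intro x _
        rw [Submodule.mem_sup]
        refine ⟨s ((Finsupp.linearCombination R (id : M → M)) x), ⟨_, rfl⟩,
          x - s ((Finsupp.linearCombination R (id : M → M)) x), ?_, by abel⟩
        rw [LinearMap.mem_ker, map_sub, h1, sub_self]
    obtain ⟨κ, L, hL, hLc⟩ := S0583.result R (M →₀ R) M N hN hc _ _ hcompl
    let e : M ≃ₗ[R] LinearMap.range s := LinearEquiv.ofInjective s hinj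
    refine ⟨κ, fun k => (L k).map e.symm.toLinearMap, ?_, ?_⟩
    · exact isInternal_map e.symm L hL
    · intro k
      obtain ⟨t, ht, hspan⟩ := hLc k
      let ek : L k ≃ₗ[R] (L k).map e.symm.toLinearMap := e.symm.submoduleMap (L k)
      refine ⟨ek '' t, ht.image _, ?_⟩
      have : Submodule.span R (ek '' t) = (Submodule.span R t).map ek.toLinearMap := by
        rw [Submodule.map_span]
        rfl
      rw [this, hspan, Submodule.map_top]
      exact LinearEquiv.range ek
  · rintro ⟨hf, hML, ι, N, hN, hc⟩
    exact Flat2A.MLProj.projective_of_isInternal hML N hN hc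

end Groth.Agent.S0584
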