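import Groth.Statements.S0585
import Groth.Agent.CalgB.DescProj
import Groth.Agent.S0584
import Groth.Agent.S0586

set_option autoImplicit false
universe u
open CAlg

namespace Groth.Agent.S0585

open TensorProduct

lemma internal_punit {R T : Type u} [CommRing R] [AddCommGroup T] [Module R T] {dec : DecidableEq PUnit.{u + 1}} :
    DirectSum.IsInternal (fun _ : PUnit.{u + 1} => (⊤ : Submodule R T)) := by
  apply DirectSum.isInternal_submodule_of_iSupIndep_of_iSup_eq_top
  · intro i
    rw [disjoint_comm]
    simp
  · simp

lemma iSup_indep {R T ι : Type u} [CommRing R] [AddCommGroup T] [Module R T] {dec : DecidableEq ι}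
    {N : ι → Submodule R T} (h : DirectSum.IsInternal N) : iSup N = ⊤ ∧ iSupIndep N :=
  ⟨h.submodule_iSup_eq_top, h.submodule_iSupIndep⟩

/-- Stacks Tag 05A9: let `R → S` be faithfully flat and `M` an `R`-module. If `S ⊗ M` is a projective
`S`-module then `M` is a projective `R`-module. -/
theorem result (R : Type u) [CommRing R] (S : Type u) [CommRing S]
    [Algebra R S] [Module.FaithfullyFlat R S] (M : Type u) [AddCommGroup M] [Module R M]
    [Module.Projective S (TensorProduct R S M)] : Module.Projective R M := by
  obtain ⟨_, _, ι, Q, hQ, hc⟩ := (Groth.Agent.S0584.result S (S ⊗[R] M)).1 inferInstance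
  refine CalgB.DescProj.projective_of_devissage Q (iSup_indep hQ).1 (iSup_indep hQ).2 ?_ ?_
  · intro i
    obtain ⟨s, hs, hs'⟩ := hc i
    refine ⟨(Q i).subtype '' s, hs.image _, ?_⟩
    rw [← Submodule.map_span, hs', Submodule.map_top, Submodule.range_subtype]
  · intro T _ _ hT hTS
    have h1 := (Groth.Agent.S0584.result S (S ⊗[R] T)).1 hTS
    rw [Groth.Agent.S0584.result R T]
    refine ⟨?_, Groth.Agent.S0586.result R S T h1.2.1, PUnit, fun _ => ⊤, internal_punit, fun _ => ?_⟩
    · have := h1.1
      exact Module.Flat.of_flat_tensorProduct R T S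
    · obtain ⟨s, hs, hs'⟩ := hT
      refine ⟨(fun t => (⟨t, trivial⟩ : (⊤ : Submodule R T))) '' s, hs.image _, ?_⟩
      rw [eq_top_iff]
      rintro ⟨t, _⟩ -
      have : t ∈ Submodule.span R s := by rw [hs']; trivial
      have h2 : (Submodule.topEquiv (R := R) (M := T)).symm t ∈
          Submodule.map (Submodule.topEquiv (R := R) (M := T)).symm.toLinearMap (Submodule.span R s) :=
        ⟨t, this, rfl⟩
      rw [Submodule.map_span] at h2
      exact h2

end Groth.Agent.S0585
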