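import Groth.Statements.S1199
import Mathlib.RingTheory.Filtration
import Mathlib.RingTheory.AdicCompletion.Functoriality
import Mathlib.LinearAlgebra.TensorProduct.Finiteness
import Mathlib.RingTheory.TensorProduct.DirectLimitFG
import Mathlib.RingTheory.TensorProduct.Finite

set_option autoImplicit false
universe u
open FlatMor

namespace Groth.Agent.S1199

open TensorProduct

/-- Krull's intersection theorem, in the form needed here. -/
theorem eq_zero_of_mem_iInf {S : Type u} [CommRing S] [IsNoetherianRing S] (J : Ideal S)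
    (N : Type u) [AddCommGroup N] [Module S N] [Module.Finite S N]
    (h : ∀ q ∈ associatedPrimes S N, J ⊔ q ≠ ⊤) (x : N)
    (hx : x ∈ (⨅ i : ℕ, J ^ i • ⊤ : Submodule S N)) : x = 0 := by
  by_contra hx0
  -- take an associated prime of the intersection
  set K : Submodule S N := ⨅ i : ℕ, J ^ i • ⊤ with hK
  have hnt : Nontrivial K := ⟨⟨⟨x, hx⟩, 0, fun h => hx0 (congrArg Subtype.val h)⟩⟩
  obtain ⟨q, hq⟩ := associatedPrimes.nonempty S K
  have hqN : q ∈ associatedPrimes S N := associatedPrimes.subset_of_injective K.injective_subtype hq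
  have hq' := (isAssociatedPrime_iff.1 hq).2
  obtain ⟨y, hy⟩ := hq'
  obtain ⟨r, hr⟩ := (J.mem_iInf_smul_pow_eq_bot_iff (y : N)).1 y.2
  apply h q hqN
  rw [Ideal.eq_top_iff_one]
  have h1 : (1 : S) - r ∈ q := by
    rw [hy, Submodule.mem_colon_singleton, Submodule.mem_bot]
    apply Subtype.ext
    simp [sub_smul, hr]
  have : (1 : S) = r + (1 - r) := by ring
  rw [this]
  exact Ideal.add_mem _ (Ideal.mem_sup_left r.2) (Ideal.mem_sup_right h1)

variable {R S : Type u} [CommRing R] [CommRing S] [Algebra R S] (I : Ideal R)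
    (N : Type u) [AddCommGroup N] [Module S N] [Module R N] [IsScalarTower R S N]

theorem mem_smul_of_mem (n : ℕ) (Q : Type u) [AddCommGroup Q] [Module R Q]
    (w : Q ⊗[R] (I ^ n • ⊤ : Submodule R N)) :
    TensorProduct.comm R Q N ((Submodule.subtype _).lTensor Q w) ∈
      ((I.map (algebraMap R S)) ^ n • ⊤ : Submodule S (N ⊗[R] Q)) := by
  induction w using TensorProduct.induction_on with
  | zero => simp
  | tmul q y =>
    obtain ⟨y, hy⟩ := y
    simp only [LinearMap.lTensor_tmul, Submodule.subtype_apply, TensorProduct.comm_tmul]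
    refine Submodule.smul_induction_on (p := fun y => y ⊗ₜ[R] q ∈ ((I.map (algebraMap R S)) ^ n • ⊤ : Submodule S (N ⊗[R] Q))) hy ?_ ?_
    · intro r hr m _
      have : (r • m) ⊗ₜ[R] q = algebraMap R S r • (m ⊗ₜ[R] q) := by
        rw [TensorProduct.smul_tmul', algebraMap_smul]
      rw [this]
      refine Submodule.smul_mem_smul ?_ Submodule.mem_top
      rw [← Ideal.map_pow]
      exact Ideal.mem_map_of_mem _ hr
    · intro x y hx hy
      rw [TensorProduct.add_tmul]
      exact Submodule.add_mem _ hx hy
  | add x y hx hy =>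
    rw [map_add, map_add]
    exact Submodule.add_mem _ hx hy

theorem finite_tensor [Module.Finite S N] (Q : Type u) [AddCommGroup Q] [Module R Q] [Module.Finite R Q] :
    Module.Finite S (N ⊗[R] Q) := by
  obtain ⟨n, π, hπ⟩ := Module.Finite.exists_fin' R Q
  refine Module.Finite.of_surjective
    ((TensorProduct.AlgebraTensorModule.lTensor S N π) ∘ₗ (TensorProduct.piScalarRight R S N (Fin n)).symm.toLinearMap) ?_
  intro x
  obtain ⟨y, rfl⟩ := LinearMap.lTensor_surjective N hπ x
  refine ⟨TensorProduct.piScalarRight R S N (Fin n) y, ?_⟩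
  rw [LinearMap.comp_apply]
  erw [LinearEquiv.symm_apply_apply]
  rfl

theorem injective_of_finite [IsNoetherianRing S] [Module.Finite S N] (Q : Type u) [AddCommGroup Q] [Module R Q] [Module.Finite R Q]
    (h : ∀ q ∈ associatedPrimes S (N ⊗[R] Q), I.map (algebraMap R S) ⊔ q ≠ ⊤) :
    Function.Injective ((AdicCompletion.of I N).lTensor Q) := by
  have := finite_tensor (R := R) (S := S) N Q
  rw [injective_iff_map_eq_zero]
  intro z hz
  apply (TensorProduct.comm R Q N).injective
  rw [map_zero]
  apply eq_zero_of_mem_iInf (I.map (algebraMap R S)) (N ⊗[R] Q) h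
  rw [Submodule.mem_iInf]
  intro n
  have h1 : (Submodule.mkQ (I ^ n • ⊤ : Submodule R N)).lTensor Q z = 0 := by
    have : Submodule.mkQ (I ^ n • ⊤ : Submodule R N) = AdicCompletion.eval I N n ∘ₗ AdicCompletion.of I N := rfl
    rw [this, LinearMap.lTensor_comp, LinearMap.comp_apply, hz, map_zero]
  have hex := lTensor_exact Q (f := (I ^ n • ⊤ : Submodule R N).subtype) (g := Submodule.mkQ (I ^ n • ⊤ : Submodule R N))
    (LinearMap.exact_subtype_mkQ _) (Submodule.mkQ_surjective _)
  obtain ⟨w, rfl⟩ := (hex z).1 h1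
  exact mem_smul_of_mem I N n Q w

open TensorProduct in
/-- Stacks Tag 05DL: let R → S be a map of Noetherian rings, I an ideal of R and N a finite S-module. Assume that for every finite R-module Q and every associated prime q of the S-module N ⊗_R Q the ideal IS + q is proper. Then the canonical map from N to its I-adic completion is universally injective as a map of R-modules. -/
theorem result {R S : Type u} [CommRing R] [CommRing S] [Algebra R S] [IsNoetherianRing R] [IsNoetherianRing S] (I : Ideal R)
    (N : Type u) [AddCommGroup N] [Module S N] [Module R N] [IsScalarTower R S N] [Module.Finite S N]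
    (h : ∀ (Q : Type u) [AddCommGroup Q] [Module R Q], Module.Finite R Q →
      ∀ q ∈ associatedPrimes S (N ⊗[R] Q), I.map (algebraMap R S) ⊔ q ≠ ⊤) :
    FlatCA.UnivInj R (AdicCompletion.of I N) := by
  intro Q _ _
  rw [injective_iff_map_eq_zero]
  intro z hz
  obtain ⟨Q', hQ', z', rfl⟩ := TensorProduct.exists_of_fg z
  have h1 : LinearMap.rTensor (AdicCompletion I N) Q'.subtype ((AdicCompletion.of I N).lTensor Q' z') = 0 := by
    rw [← hz, ← LinearMap.comp_apply, ← LinearMap.comp_apply, LinearMap.rTensor_comp_lTensor,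
      LinearMap.lTensor_comp_rTensor]
  obtain ⟨Q'', hle, hQ'', h2⟩ := TensorProduct.eq_zero_of_fg_of_subtype_eq_zero hQ' h1
  have : Module.Finite R Q'' := Module.Finite.iff_fg.2 hQ''
  have h3 : (AdicCompletion.of I N).lTensor Q'' (LinearMap.rTensor N (Submodule.inclusion hle) z') = 0 := by
    rw [← h2, ← LinearMap.comp_apply, ← LinearMap.comp_apply, LinearMap.rTensor_comp_lTensor, LinearMap.lTensor_comp_rTensor]
  have h4 := (injective_iff_map_eq_zero _).1 (injective_of_finite (S := S) I N Q'' (h Q'' this)) _ h3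
  rw [← Submodule.subtype_comp_inclusion _ _ hle, LinearMap.rTensor_comp, LinearMap.comp_apply, h4, map_zero]

end Groth.Agent.S1199
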