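import Groth.Statements.S1200
import Groth.Agent.S1199
import Groth.Agent.Flat2A.AssTensorNoeth

set_option autoImplicit false
universe u
open FlatMor

namespace Groth.Agent.S1200

/-- Stacks Tag 05DM: let R → S be a map of Noetherian rings, I an ideal of R and N a finite S-module which is flat over R. Assume that for every prime q of S, over p in R, whose extension to the fibre ring over p is an associated prime of the fibre module of N, the ideal IS + q is proper. Then the canonical map from N to its I-adic completion is universally injective as a map of R-modules. -/
theorem result {R S : Type u} [CommRing R] [CommRing S] [Algebra R S] [IsNoetherianRing R] [IsNoetherianRing S] (I : Ideal R)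
    (N : Type u) [AddCommGroup N] [Module S N] [Module R N] [IsScalarTower R S N] [Module.Finite S N] [Module.Flat R N]
    (h : ∀ (p : Ideal R) (q : Ideal S) [p.IsPrime] [q.IsPrime] [q.LiesOver p],
      FlatCA.fiberIdeal p q ∈ associatedPrimes (p.Fiber S) (FlatCA.fiberMod p S N) → I.map (algebraMap R S) ⊔ q ≠ ⊤) :
    FlatCA.UnivInj R (AdicCompletion.of I N) := by
  refine Groth.Agent.S1199.result (S := S) I N ?_
  intro Q _ _ hQ q hq
  obtain ⟨p, hp, hq1, hq2, hq3⟩ := Flat2A.AssTensorNoeth.mem_ass_tensor_of_finite N Q hQ q hq
  exact h p q hq3

end Groth.Agent.S1200
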