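import Groth.Statements.S1277
import Groth.Agent.Flat2C.FlatAt
import Groth.Agent.Flat2C.PushoutPrimes

set_option autoImplicit false
universe u
open FlatMor

namespace Groth.Agent.S1277

open IsLocalRing in
/-- Stacks Tag 05P5: let A be a local ring, A → B a local homomorphism of local rings, B → C a flat local homomorphism of local rings, M a B-module and N = M ⊗_B C. For every local homomorphism of local rings A → A', with base changes B' = B ⊗_A A', M', C' = C ⊗_A A', N' (any models): M' is flat over A' at every prime of B' containing 𝔪_{A'}B' + 𝔪_B B' if and only if N' is flat over A' at every prime of C' containing 𝔪_{A'}C' + 𝔪_C C'. -/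
theorem result {A B C : Type u} [CommRing A] [IsLocalRing A] [CommRing B] [IsLocalRing B] [CommRing C] [IsLocalRing C]
    [Algebra A B] [IsLocalHom (algebraMap A B)] [Algebra B C] [IsLocalHom (algebraMap B C)] [Algebra A C] [IsScalarTower A B C] [Module.Flat B C]
    (M : Type u) [AddCommGroup M] [Module B M] (N : Type u) [AddCommGroup N] [Module C N] [Module B N] [IsScalarTower B C N]
    (g : M →ₗ[B] N) (hg : IsBaseChange C g)
    (A' : Type u) [CommRing A'] [IsLocalRing A'] [Algebra A A'] [IsLocalHom (algebraMap A A')]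
    (B' M' : Type u) [CommRing B'] [Algebra B B'] [Algebra A' B'] [Algebra A B'] [IsScalarTower A B B'] [IsScalarTower A A' B']
        [Algebra.IsPushout A B A' B']
        [AddCommGroup M'] [Module B' M'] [Module B M'] [IsScalarTower B B' M'] [Module A' M'] [IsScalarTower A' B' M']
        (fB : M →ₗ[B] M') (hfB : IsBaseChange B' fB)
    (C' N' : Type u) [CommRing C'] [Algebra C C'] [Algebra A' C'] [Algebra A C'] [IsScalarTower A C C'] [IsScalarTower A A' C']
        [Algebra.IsPushout A C A' C']
        [AddCommGroup N'] [Module C' N'] [Module C N'] [IsScalarTower C C' N'] [Module A' N'] [IsScalarTower A' C' N']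
        (fC : N →ₗ[C] N') (hfC : IsBaseChange C' fC) :
    FlatCA.FlatAboveClosedPoints B A' B' M' ↔ FlatCA.FlatAboveClosedPoints C A' C' N' := by
  -- the algebra `B' → C'`
  let cBC' : Algebra B C' := ((algebraMap C C').comp (algebraMap B C)).toAlgebra
  have tBCC' : IsScalarTower B C C' := IsScalarTower.of_algebraMap_eq fun x => rfl
  have tABC' : IsScalarTower A B C' := IsScalarTower.of_algebraMap_eq fun x => by
    rw [IsScalarTower.algebraMap_apply A C C', IsScalarTower.algebraMap_apply A B C]
    rfl
  let φ : B' →ₐ[A] C' := Algebra.pushoutDesc B' (IsScalarTower.toAlgHom A B C')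
    (IsScalarTower.toAlgHom A A' C') (fun x y => mul_comm _ _)
  let cB'C' : Algebra B' C' := φ.toRingHom.toAlgebra
  have tBB'C' : IsScalarTower B B' C' := IsScalarTower.of_algebraMap_eq fun x =>
    (Algebra.pushoutDesc_left B' (IsScalarTower.toAlgHom A B C')
    (IsScalarTower.toAlgHom A A' C') (fun x y => mul_comm _ _) x).symm
  have tA'B'C' : IsScalarTower A' B' C' := IsScalarTower.of_algebraMap_eq fun x =>
    (Algebra.pushoutDesc_right B' (IsScalarTower.toAlgHom A B C')
    (IsScalarTower.toAlgHom A A' C') (fun x y => mul_comm _ _) x).symm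
  have tAB'C' : IsScalarTower A B' C' := IsScalarTower.of_algebraMap_eq fun x =>
    (φ.commutes x).symm
  have hpo : Algebra.IsPushout B C B' C' :=
    (Algebra.IsPushout.comp_iff A B A' B' (T := C) (T' := C')).1 inferInstance
  have hflat : Module.Flat B' C' := Module.Flat.isBaseChange B B' C C' hpo.symm.out
  have hloc : (maximalIdeal C).comap (algebraMap B C) = maximalIdeal B :=
    ((IsLocalRing.local_hom_TFAE (algebraMap B C)).out 0 4 rfl rfl).1 inferInstance
  let mB'N' : Module B' N' := Module.compHom N' (algebraMap B' C')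
  have tB'C'N' : IsScalarTower B' C' N' := IsScalarTower.of_algebraMap_smul fun r x => rfl
  let mBN' : Module B N' := Module.compHom N' (algebraMap B C)
  have tBCN' : IsScalarTower B C N' := IsScalarTower.of_algebraMap_smul fun r x => rfl
  have tBC'N' : IsScalarTower B C' N' := IsScalarTower.of_algebraMap_smul fun r x => by
    rw [IsScalarTower.algebraMap_apply B C C', algebraMap_smul]
    rfl
  have tBB'N' : IsScalarTower B B' N' := IsScalarTower.of_algebraMap_smul fun r x => by
    change (algebraMap B' C' (algebraMap B B' r)) • x = r • x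
    rw [← IsScalarTower.algebraMap_apply B B' C', algebraMap_smul]
  have h3 : IsBaseChange C' ((fC.restrictScalars B).comp g) := IsBaseChange.comp hg hfC
  let l : M' →ₗ[B'] N' := hfB.lift ((fC.restrictScalars B).comp g)
  have h4 : IsBaseChange C' l := by
    refine IsBaseChange.of_comp hfB ?_
    rw [IsBaseChange.lift_comp]
    exact h3
  have key : ∀ (q : Ideal B') (Q : Ideal C') [q.IsPrime] [Q.IsPrime] [Q.LiesOver q],
      FlatCA.FlatAt A' q M' ↔ FlatCA.FlatAt A' Q N' := fun q Q _ _ _ =>
    Groth.Agent.Flat2C.FlatAt.flatAt_iff_of_isBaseChange l q Q h4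
  constructor
  · intro H Q _ hQ
    have hQ' : Q.LiesOver (Q.comap (algebraMap B' C')) := ⟨rfl⟩
    rw [← key (Q.comap (algebraMap B' C')) Q]
    apply H
    rw [sup_le_iff] at hQ ⊢
    constructor
    · rw [← Ideal.map_le_iff_le_comap, Ideal.map_map, ← IsScalarTower.algebraMap_eq]
      exact hQ.1
    · rw [← Ideal.map_le_iff_le_comap, Ideal.map_map, ← IsScalarTower.algebraMap_eq,
        IsScalarTower.algebraMap_eq B C C', ← Ideal.map_map]
      refine le_trans (Ideal.map_mono ?_) hQ.2
      rw [Ideal.map_le_iff_le_comap]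
      exact hloc.ge
  · intro H q _ hq
    rw [sup_le_iff] at hq
    have hqB : q.comap (algebraMap B B') = maximalIdeal B :=
      ((IsLocalRing.maximalIdeal.isMaximal B).eq_of_le (Ideal.comap_ne_top _ (Ideal.IsPrime.ne_top ‹_›))
        (Ideal.map_le_iff_le_comap.1 hq.2)).symm
    obtain ⟨Q, hQ1, hQ2, hQ3⟩ := Groth.Agent.Flat2C.PushoutPrimes.exists_prime_of_isPushout
      (R := B) (S := C) (T := B') (U := C') (maximalIdeal C) q (by rw [hloc, hqB])
    have hQ' : Q.LiesOver q := ⟨hQ3.symm⟩
    rw [key q Q]
    apply H
    rw [sup_le_iff]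
    constructor
    · rw [IsScalarTower.algebraMap_eq A' B' C', ← Ideal.map_map, Ideal.map_le_iff_le_comap, hQ3]
      exact hq.1
    · rw [Ideal.map_le_iff_le_comap, hQ2]

end Groth.Agent.S1277
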