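import Groth.Statements.S1278
import Groth.Agent.Flat2C.FlatAtCriterion

set_option autoImplicit false
universe u
open FlatMor

namespace Groth.Agent.S1278

open IsLocalRing in
/-- Stacks Tag 05P4: let A be a local ring and B → C a finite local homomorphism of local A-algebras (A → B local), and N a C-module, viewed also as a B-module. For every local homomorphism of local rings A → A', with base changes B', C' of B, C and base changes M' (of N over B') and N' (of N over C'): M' is flat over A' at every prime of B' containing 𝔪_{A'}B' + 𝔪_B B' if and only if N' is flat over A' at every prime of C' containing 𝔪_{A'}C' + 𝔪_C C'. -/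
theorem result {A B C : Type u} [CommRing A] [IsLocalRing A] [CommRing B] [IsLocalRing B] [CommRing C] [IsLocalRing C]
    [Algebra A B] [IsLocalHom (algebraMap A B)] [Algebra B C] [IsLocalHom (algebraMap B C)] [Algebra A C] [IsScalarTower A B C] [Module.Finite B C]
    (N : Type u) [AddCommGroup N] [Module C N] [Module B N] [IsScalarTower B C N]
    (A' : Type u) [CommRing A'] [IsLocalRing A'] [Algebra A A'] [IsLocalHom (algebraMap A A')]
    (B' M' : Type u) [CommRing B'] [Algebra B B'] [Algebra A' B'] [Algebra A B'] [IsScalarTower A B B'] [IsScalarTower A A' B']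
        [Algebra.IsPushout A B A' B']
        [AddCommGroup M'] [Module B' M'] [Module B M'] [IsScalarTower B B' M'] [Module A' M'] [IsScalarTower A' B' M']
        (fB : N →ₗ[B] M') (hfB : IsBaseChange B' fB)
    (C' N' : Type u) [CommRing C'] [Algebra C C'] [Algebra A' C'] [Algebra A C'] [IsScalarTower A C C'] [IsScalarTower A A' C']
        [Algebra.IsPushout A C A' C']
        [AddCommGroup N'] [Module C' N'] [Module C N'] [IsScalarTower C C' N'] [Module A' N'] [IsScalarTower A' C' N']
        (fC : N →ₗ[C] N') (hfC : IsBaseChange C' fC) :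
    FlatCA.FlatAboveClosedPoints B A' B' M' ↔ FlatCA.FlatAboveClosedPoints C A' C' N' := by
  -- the canonical map `B' → C'`
  let f₁ : B →ₐ[A] C' := (IsScalarTower.toAlgHom A C C').comp (IsScalarTower.toAlgHom A B C)
  let f₂ : A' →ₐ[A] C' := IsScalarTower.toAlgHom A A' C'
  let φ : B' →ₐ[A] C' := Algebra.pushoutDesc B' f₁ f₂ (fun _ _ => mul_comm _ _)
  let _ : Algebra B' C' := φ.toRingHom.toAlgebra
  let _ : Algebra B C' := f₁.toRingHom.toAlgebra
  have t1 : IsScalarTower B B' C' := IsScalarTower.of_algebraMap_eq fun b =>
    (Algebra.pushoutDesc_left B' f₁ f₂ _ b).symm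
  have t2 : IsScalarTower A' B' C' := IsScalarTower.of_algebraMap_eq fun b =>
    (Algebra.pushoutDesc_right B' f₁ f₂ _ b).symm
  have t3 : IsScalarTower B C C' := IsScalarTower.of_algebraMap_eq fun b => rfl
  have hpo : Algebra.IsPushout A B A' B' := inferInstance
  have hpo' : Algebra.IsPushout B C B' C' :=
    (Algebra.IsPushout.comp_iff (R := A) (S := B) (R' := A') (S' := B') (T := C) (T' := C')).mp
      inferInstance
  have hpo'' : Algebra.IsPushout B B' C C' := hpo'.symm
  have hfin : Algebra.IsIntegral B C := inferInstance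
  have hint : Algebra.IsIntegral B' C' := Algebra.IsPushout.isIntegral B B' C C'
  let _ : Module B' N' := Module.compHom N' (algebraMap B' C')
  have t4 : IsScalarTower B' C' N' := IsScalarTower.of_algebraMap_smul fun _ _ => rfl
  have t5 : IsScalarTower A' B' N' := IsScalarTower.of_algebraMap_smul fun a n => by
    rw [← algebraMap_smul C' (algebraMap A' B' a) n, ← IsScalarTower.algebraMap_apply,
      algebraMap_smul]
  -- the identification of `M'` and `N'`
  let e : M' ≃ₗ[B'] N' := hfB.equiv.symm ≪≫ₗ
    (Algebra.IsPushout.cancelBaseChange B B' C C' N).symm ≪≫ₗ hfC.equiv.restrictScalars B'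
  have key : FlatCA.FlatAboveClosedPoints B A' B' N' ↔ FlatCA.FlatAboveClosedPoints C A' C' N' := by
    constructor
    · intro h r _ hr
      let q := r.comap (algebraMap B' C')
      have : r.LiesOver q := ⟨rfl⟩
      refine Groth.Agent.Flat2C.FlatAtCriterion.flatAt_of_liesOver q r (h q ?_)
      rw [sup_le_iff, Ideal.map_le_iff_le_comap, Ideal.map_le_iff_le_comap] at hr ⊢
      rw [Ideal.comap_comap, ← IsScalarTower.algebraMap_eq, Ideal.comap_comap,
        ← IsScalarTower.algebraMap_eq B B' C']
      refine ⟨hr.1, ?_⟩
      rw [IsScalarTower.algebraMap_eq B C C', ← Ideal.comap_comap]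
      refine le_trans ?_ (Ideal.comap_mono hr.2)
      exact ((IsLocalRing.local_hom_TFAE (algebraMap B C)).out 0 3 rfl rfl).mp inferInstance
    · intro h q _ hq
      rw [Groth.Agent.Flat2C.FlatAtCriterion.flatAt_iff_of_isIntegral (C' := C') q]
      intro r _ hrq
      refine h r ?_
      rw [sup_le_iff, Ideal.map_le_iff_le_comap, Ideal.map_le_iff_le_comap] at hq ⊢
      rw [hrq.over, Ideal.under, Ideal.comap_comap, ← IsScalarTower.algebraMap_eq,
        Ideal.comap_comap, ← IsScalarTower.algebraMap_eq B B' C'] at hq
      refine ⟨hq.1, ?_⟩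
      rw [IsScalarTower.algebraMap_eq B C C', ← Ideal.comap_comap] at hq
      have h1 : ((r.comap (algebraMap C C')).comap (algebraMap B C)) = maximalIdeal B :=
        ((maximalIdeal.isMaximal B).eq_of_le (Ideal.IsPrime.ne_top inferInstance) hq.2).symm
      have h2 : (r.comap (algebraMap C C')).IsMaximal :=
        Ideal.isMaximal_of_isIntegral_of_isMaximal_comap _ (by rw [h1]; infer_instance)
      exact (IsLocalRing.eq_maximalIdeal h2).ge
  rw [← key]
  refine forall_congr' fun q => forall_congr' fun _ => forall_congr' fun _ => ?_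
  exact Groth.Agent.Flat2C.FlatAtCriterion.flatAt_congr q e

end Groth.Agent.S1278
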