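import Groth.Statements.S1215
import Groth.Agent.Flat2A.ModInj
import Groth.Agent.Flat2A.LocML
import Groth.Agent.Flat2A.LocStep
import Groth.Agent.Flat2A.EtMLB3
import Groth.Agent.Flat2A.EtMLB4
import Groth.Agent.Flat2A.EtPoint
import Groth.Agent.Flat2B.FlatBC
-- import your own Groth.Agent.* helpers here

set_option autoImplicit false
universe u
open FlatMor

namespace Groth.Agent.S1215

open Groth.Agent.Flat2A TensorProduct IsLocalRing

/-- The local rings of an étale algebra over a polynomial ring over a henselian local ring, at primes over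
the maximal ideal, are Mittag-Leffler. -/
theorem isMittagLeffler_atPrime (A : Type u) [CommRing A] [HenselianLocalRing A] (N : ℕ) (D₁ : Type u)
    [CommRing D₁] [Algebra A D₁] [Algebra (MvPolynomial (Fin N) A) D₁]
    [IsScalarTower A (MvPolynomial (Fin N) A) D₁] [Algebra.Etale (MvPolynomial (Fin N) A) D₁]
    (z : Ideal D₁) [z.IsPrime] [z.LiesOver (maximalIdeal A)] :
    CAlg.IsMittagLeffler A (Localization.AtPrime z) := by
  have hsm : Algebra.Smooth A D₁ := by
    have : Algebra.Smooth A (MvPolynomial (Fin N) A) := { }
    exact Algebra.Smooth.comp A (MvPolynomial (Fin N) A) D₁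
  have hz : z.comap (algebraMap A D₁) = maximalIdeal A := (z.over_def (maximalIdeal A)).symm
  obtain ⟨p, hp, hpz⟩ := Ideal.exists_minimalPrimes_le
    (I := (maximalIdeal A).map (algebraMap A D₁)) (J := z) (Ideal.map_le_iff_le_comap.2 hz.ge)
  have hpp : p.IsPrime := hp.1.1
  obtain ⟨q, hq, hpq, hqA, hqu⟩ := EtPoint.exists_prime_formallyUnramified (A := A) p hp
  have : q.LiesOver (maximalIdeal A) := ⟨hqA.symm⟩
  have hpA : p.comap (algebraMap A D₁) = maximalIdeal A := by
    refine le_antisymm ?_ (Ideal.map_le_iff_le_comap.1 hp.1.2)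
    exact (Ideal.comap_mono hpz).trans hz.le
  exact EtMLB4.isMittagLeffler_of_common_generization p z q hpz hpq hpA hz hqA
    (EtMLB3.isMittagLeffler_atPrime_of_unramified N q)

/-- The statement proved by devissage. -/
def Phi (A : Type u) [CommRing A] (B M : Type u) [CommRing B] [IsLocalRing B] [Algebra A B]
    [IsLocalHom (algebraMap A B)] [AddCommGroup M] [Module B M] [Module A M]
    [IsScalarTower A B M] : Prop :=
  Module.Flat A M → CAlg.IsMittagLeffler A M

theorem step (A : Type u) [CommRing A] [HenselianLocalRing A] (N : ℕ) (D₁ : Type u) [CommRing D₁]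
    [Algebra A D₁] [Algebra (MvPolynomial (Fin N) A) D₁]
    [IsScalarTower A (MvPolynomial (Fin N) A) D₁]
    [Algebra.Etale (MvPolynomial (Fin N) A) D₁]
    (z : Ideal D₁) [z.IsPrime] [z.LiesOver (maximalIdeal A)]
    [IsLocalHom (algebraMap A (Localization.AtPrime z))]
    (M : Type u) [AddCommGroup M] [Module (Localization.AtPrime z) M] [Module A M]
    [IsScalarTower A (Localization.AtPrime z) M] [Module.Finite (Localization.AtPrime z) M]
    (r : ℕ) (α : (Fin r → Localization.AtPrime z) →ₗ[Localization.AtPrime z] M)
    (hα : Function.Injective ((α.restrictScalars A).lTensor (ResidueField A)))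
    (h : Module.Flat A (M ⧸ LinearMap.range α) → CAlg.IsMittagLeffler A (M ⧸ LinearMap.range α))
    (hM : Module.Flat A M) : CAlg.IsMittagLeffler A M := by
  have hess : Algebra.EssFiniteType A (Localization.AtPrime z) := LocDev.essFiniteType_et A (N := N) z
  obtain ⟨-, huniv, -⟩ := ModInj.main α hα
  let g : M →ₗ[A] (M ⧸ LinearMap.range α) := (LinearMap.range α).mkQ.restrictScalars A
  have hex : Function.Exact (α.restrictScalars A) g := by
    intro x
    change (LinearMap.range α).mkQ x = 0 ↔ _
    rw [Submodule.mkQ_apply, Submodule.Quotient.mk_eq_zero]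
    rfl
  have hg : Function.Surjective g := (LinearMap.range α).mkQ_surjective
  have hD : CAlg.IsMittagLeffler A (Localization.AtPrime z) := isMittagLeffler_atPrime A N D₁ z
  have hC : Module.Flat A (M ⧸ LinearMap.range α) :=
    LocML.flat_of_exact (α.restrictScalars A) g huniv hex hg
  exact LocML.isMittagLeffler_of_extension (α.restrictScalars A) g huniv hex hg
    (LocML.isMittagLeffler_pi hD r) (h hC)

/-- Stacks Tag 05U7: let A → B be a local homomorphism of local rings which is essentially of finite type, with A henselian, and N a finite B-module flat over A. Then N is a Mittag-Leffler A-module. (The source moreover writes N as a filtered colimit of free A-modules with transition maps injective modulo 𝔪_A; only the Mittag-Leffler conclusion is stated here.) -/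
theorem result {A B : Type u} [CommRing A] [HenselianLocalRing A] [CommRing B] [IsLocalRing B] [Algebra A B]
    [IsLocalHom (algebraMap A B)] [Algebra.EssFiniteType A B]
    (N : Type u) [AddCommGroup N] [Module B N] [Module A N] [IsScalarTower A B N] [Module.Finite B N] [Module.Flat A N] :
    CAlg.IsMittagLeffler A N := by
  refine LocStep.induction (A := A) (Φ := fun B M _ _ _ _ _ _ _ _ => Phi A B M) ?_ ?_ ?_ ?_ B N
    inferInstance
  · intro B M _ _ _ _ _ _ _ _ _ _ ι Q _ _
    exact Function.injective_of_subsingleton _
  · intro B C N _ _ _ _ _ _ _ _ _ _ _ _ _ _ _ _ _ _ _ _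
    exact Iff.rfl
  · intro B C M _ _ _ _ _ _ _ _ _ _ _ _ _ _ _ _ _ h hM
    have : Module.FaithfullyFlat B C := Module.FaithfullyFlat.of_flat_of_isLocalHom
    have := h (Flat2B.FlatBC.flat_tensorProduct A B C M)
    exact LocML.isMittagLeffler_of_faithfullyFlat this
  · intro N D₁ _ _ _ _ _ z _ _ _ M _ _ _ _ _ r α hα h hM
    exact step A N D₁ z M r α hα h hM

end Groth.Agent.S1215
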