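import Groth.Statements.S0582
import Groth.Agent.S0583
import Groth.Agent.CalgA.ProjLocal
import Mathlib.LinearAlgebra.Basis.VectorSpace

set_option autoImplicit false
universe u
open CAlg

namespace Groth.Agent.S0582

open scoped Classical in
theorem isInternal_of {R : Type u} [CommRing R] {P : Type u}
    [AddCommGroup P] [Module R P] {κ : Type u} {L : κ → Submodule R P} (h1 : iSupIndep L)
    (h2 : iSup L = ⊤) : DirectSum.IsInternal L :=
  DirectSum.isInternal_submodule_of_iSupIndep_of_iSup_eq_top h1 h2

open scoped Classical in
/-- A projective module is an internal direct sum of countably generated submodules. -/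
theorem exists_internal_of_projective (R : Type u) [CommRing R] (P : Type u)
    [AddCommGroup P] [Module R P] [Module.Projective R P] :
    ∃ (κ : Type u) (L : κ → Submodule R P), DirectSum.IsInternal L ∧
      ∀ k, CAlg.IsCountablyGenerated R (L k) := by
  obtain ⟨s, hs⟩ := (Module.projective_def' (R := R) (P := P)).1 inferInstance
  let p : (P →₀ R) →ₗ[R] P := Finsupp.linearCombination R id
  have hps : ∀ x, p (s x) = x := fun x => LinearMap.congr_fun hs x
  let P' : Submodule R (P →₀ R) := LinearMap.range s
  let q : (P →₀ R) →ₗ[R] P' := s.rangeRestrict ∘ₗ p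
  have hq : ∀ x : P', q x = x := by
    rintro ⟨_, ⟨y, rfl⟩⟩
    apply Subtype.ext
    show s (p (s y)) = s y
    rw [hps]
  have hcompl := LinearMap.isCompl_of_proj hq
  let N : P → Submodule R (P →₀ R) := fun a => LinearMap.range (Finsupp.lsingle a)
  have hN : DirectSum.IsInternal N := by
    apply DirectSum.isInternal_submodule_of_iSupIndep_of_iSup_eq_top
    · intro a
      rw [Submodule.disjoint_def]
      rintro _ ⟨r, rfl⟩ h2
      have h3 : (⨆ (j) (_ : j ≠ a), N j) ≤ LinearMap.ker (Finsupp.lapply a : (P →₀ R) →ₗ[R] R) := by
        apply iSup₂_le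
        rintro j hj _ ⟨z, rfl⟩
        rw [LinearMap.mem_ker]
        simp [hj]
      have h4 := h3 h2
      rw [LinearMap.mem_ker] at h4
      simp at h4
      simp [h4]
    · rw [eq_top_iff]
      rintro f -
      induction f using Finsupp.induction_linear with
      | zero => exact Submodule.zero_mem _
      | add f g hf hg => exact Submodule.add_mem _ hf hg
      | single a b => exact Submodule.mem_iSup_of_mem a ⟨b, rfl⟩
  have hNc : ∀ a, CAlg.IsCountablyGenerated R (N a) := by
    intro a
    rw [Groth.Agent.S0583.CG_iff]
    refine ⟨{Finsupp.single a 1}, Set.countable_singleton _, ?_⟩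
    apply le_antisymm
    · rw [Submodule.span_le]
      rintro _ rfl
      exact ⟨1, rfl⟩
    · rintro _ ⟨r, rfl⟩
      rw [Submodule.mem_span_singleton]
      exact ⟨r, by simp⟩
  obtain ⟨S, hS1, hS2, hS3⟩ := Groth.Agent.S0583.step R (P →₀ R) P N hN
    (fun a => (Groth.Agent.S0583.CG_iff _).1 (hNc a)) P' _ hcompl
  let e : P' ≃ₗ[R] P := LinearEquiv.ofLinearMap (p ∘ₗ P'.subtype) s.rangeRestrict
    (by ext x; exact hps x) (by ext x : 1; exact hq x)
  refine ⟨S, fun k => (k.1).map e.toLinearMap, ?_, ?_⟩
  · apply isInternal_of
    · exact (iSupIndep_map_orderIso_iff (Submodule.orderIsoMapComap e)).2 ((sSupIndep_iff S).1 hS1)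
    · rw [← Submodule.map_iSup, ← sSup_eq_iSup', hS2, Submodule.map_top]
      exact LinearEquiv.range e
  · intro k
    rw [Groth.Agent.S0583.CG_iff]
    exact (hS3 k.1 k.2).map _

open scoped Classical in
theorem free_of_internal (R : Type u) [CommRing R] [IsLocalRing R] (P : Type u)
    [AddCommGroup P] [Module R P] [Module.Projective R P] (κ : Type u) (L : κ → Submodule R P)
    (hL : DirectSum.IsInternal L) (hLc : ∀ k, CAlg.IsCountablyGenerated R (L k)) :
    Module.Free R P := by
  have e : (DirectSum κ (fun k => L k)) ≃ₗ[R] P :=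
    LinearEquiv.ofBijective (DirectSum.coeLinearMap L) hL
  have h1 : Module.Projective R (DirectSum κ (fun k => L k)) := Module.Projective.of_equiv e.symm
  have h2 : ∀ k, Module.Projective R (L k) := Module.Projective.directSum_iff.1 h1
  have h3 : ∀ k, Module.Free R (L k) := fun k =>
    Groth.Agent.CalgA.ProjLocal.free_of_countable (hLc k)
  exact Module.Free.of_equiv e

/-- Stacks Tag 0593 (proof assembled from Tags 0590, 0591, 0592): a projective module, not necessarily
finitely generated, over a local ring is free. -/
theorem result (R : Type u) [CommRing R] [IsLocalRing R] (P : Type u)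
    [AddCommGroup P] [Module R P] [Module.Projective R P] : Module.Free R P := by
  obtain ⟨κ, L, hL, hLc⟩ := exists_internal_of_projective R P
  exact free_of_internal R P κ L hL hLc

end Groth.Agent.S0582
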