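import Groth.Statements.S1204
import Groth.Agent.Flat2A.FreeMap
import Groth.Agent.Flat2B.ProjGeomInt

set_option autoImplicit false
universe u
open FlatMor

namespace Groth.Agent.S1204

open TensorProduct IsLocalRing in
/-- Stacks Tag 05I3: let R be a local ring and S a finitely presented flat R-algebra with geometrically integral fibres, so that 𝔭 = 𝔪_R S is a prime of S; let q be a prime of S over 𝔪_R and N a finite S-module. Then there is an S-linear map α from a finite free module S^r to N inducing a bijection after base change to κ(𝔭); and for any such α the following are equivalent: N_q is flat over R; α is universally injective over R and the cokernel of α is flat over R at q; α is injective and the cokernel is flat at q; α localized at 𝔭 is bijective and the cokernel is flat at q; α localized at q is injective and the cokernel is flat at q. -/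
theorem result {R S : Type u} [CommRing R] [IsLocalRing R] [CommRing S] [Algebra R S] [Algebra.FinitePresentation R S] [Module.Flat R S]
    (hgi : FlatCA.GeomIntegralFibres R S) [((maximalIdeal R).map (algebraMap R S)).IsPrime]
    (q : Ideal S) [q.IsPrime] [q.LiesOver (maximalIdeal R)]
    (N : Type u) [AddCommGroup N] [Module S N] [Module R N] [IsScalarTower R S N] [Module.Finite S N] :
    (∃ (r : ℕ) (α : (Fin r → S) →ₗ[S] N), Function.Bijective (α.baseChange ((maximalIdeal R).map (algebraMap R S)).ResidueField)) ∧
    ∀ (r : ℕ) (α : (Fin r → S) →ₗ[S] N), Function.Bijective (α.baseChange ((maximalIdeal R).map (algebraMap R S)).ResidueField) →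
      [FlatCA.FlatAt R q N,
       FlatCA.UnivInj R (α.restrictScalars R) ∧ FlatCA.FlatAt R q (N ⧸ LinearMap.range α),
       Function.Injective α ∧ FlatCA.FlatAt R q (N ⧸ LinearMap.range α),
       Function.Bijective (LocalizedModule.map ((maximalIdeal R).map (algebraMap R S)).primeCompl α) ∧ FlatCA.FlatAt R q (N ⧸ LinearMap.range α),
       Function.Injective (LocalizedModule.map q.primeCompl α) ∧ FlatCA.FlatAt R q (N ⧸ LinearMap.range α)].TFAE := by
  have hproj : Module.Projective R S := Flat2B.ProjGeomInt.projective_of_geomIntegralFibres R S hgi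
  refine ⟨Flat2A.FreeMap.exists_free_map _, fun r α hα => ?_⟩
  tfae_have 1 → 2 := by
    intro h
    obtain ⟨h1, h2⟩ := Flat2A.FreeMap.step_flat_univInj (maximalIdeal R) α q hα h
    refine ⟨fun Q _ _ => ?_, h2⟩
    rw [LinearMap.lTensor_inj_iff_rTensor_inj, injective_iff_map_eq_zero]
    intro x hx
    obtain ⟨t, ht, h3⟩ := h1 Q x hx
    have hu : IsUnit t := by
      by_contra hu
      exact ht ((mem_maximalIdeal t).mpr hu)
    exact (hu.smul_eq_zero).mp h3
  tfae_have 2 → 3 := by
    rintro ⟨h1, h2⟩
    refine ⟨?_, h2⟩
    have h3 := h1 R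
    rw [injective_iff_map_eq_zero] at h3 ⊢
    intro x hx
    have h4 := h3 (1 ⊗ₜ x) (by
      rw [LinearMap.lTensor_tmul]
      have : (α.restrictScalars R) x = 0 := hx
      rw [this, tmul_zero])
    have := congrArg (TensorProduct.lid R (Fin r → S)) h4
    simpa using this
  tfae_have 3 → 4 := by
    rintro ⟨h1, h2⟩
    refine ⟨Flat2A.FreeMap.step_inj_bij (maximalIdeal R) α hα ?_, h2⟩
    intro x hx
    refine ⟨1, ?_, ?_⟩
    · rw [map_one]
      exact fun h => Ideal.IsPrime.ne_top' ((Ideal.eq_top_iff_one _).mpr h)
    · rw [one_smul]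
      exact (injective_iff_map_eq_zero α).mp h1 x hx
  tfae_have 4 → 5 := by
    rintro ⟨h1, h2⟩
    exact ⟨Flat2A.FreeMap.step_bij_inj (maximalIdeal R) α q h1, h2⟩
  tfae_have 5 → 1 := by
    rintro ⟨h1, h2⟩
    exact Flat2A.FreeMap.step_inj_flat α q h1 h2
  tfae_finish

end Groth.Agent.S1204
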