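import Groth.Statements.S1253
import Groth.Agent.S1204
import Groth.Agent.Flat2B.ProjGeomInt
import Groth.Agent.Flat2B.DevissageAux
import Groth.Agent.Flat2B.DevissageTower
import Groth.Agent.Flat2B.LocTransfer

set_option autoImplicit false
universe u
open FlatMor

namespace Groth.Agent.S1253

open Groth.Agent.Flat2B Groth.Agent.Flat2B.DevissageTower

theorem flatAt_zero {R S : Type u} [CommRing R] [CommRing S] [Algebra R S]
    {N : Type u} [AddCommGroup N] [Module S N] [Module R N] [IsScalarTower R S N]
    {rr : Ideal R} [rr.IsPrime] {q : Ideal S} [q.IsPrime]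
    (D : FlatCA.CompleteDevissage R S N rr) (E : FlatCA.CompleteDevissageAt R S N rr q D) :
    letI := E.hqB 0
    FlatCA.FlatAt R q N ↔ FlatCA.FlatAt R (E.qB 0) (D.M 0) := by
  have := tower_RSM D
  have := tower_RAM D 0
  have := E.hqA 0
  have := E.hqB 0
  have hfin := D.finiteBA 0 D.pos
  rw [LocTransfer.flatAt_congr q D.isoN, LocTransfer.flatAt_iff_of_surjective D.surjSA q (E.qA 0) E.q0]
  rw [← LocTransfer.flatAt_iff_of_unique (R := R) (E.qB 0) (E.qA 0) (E.overA 0).over.symm (E.uniq 0 D.pos)]

theorem flatAt_succ {R S : Type u} [CommRing R] [CommRing S] [Algebra R S]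
    {N : Type u} [AddCommGroup N] [Module S N]
    {rr : Ideal R} [rr.IsPrime] {q : Ideal S} [q.IsPrime]
    (D : FlatCA.CompleteDevissage R S N rr) (E : FlatCA.CompleteDevissageAt R S N rr q D) (i : ℕ) (hi : i + 1 < D.n) :
    letI := E.hqB i
    letI := E.hqB (i + 1)
    FlatCA.FlatAt R (E.qB i) (D.M i ⧸ LinearMap.range (D.α i)) ↔ FlatCA.FlatAt R (E.qB (i + 1)) (D.M (i + 1)) := by
  have := tower_RB'M D i
  have := tower_RAM D (i + 1)
  have := E.hqA (i + 1)
  have := E.hqB i
  have := E.hqB (i + 1)
  have hfin := D.finiteBA (i + 1) hi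
  rw [LocTransfer.flatAt_congr (E.qB i) (D.isoCoker i hi),
    LocTransfer.flatAt_iff_of_surjective (D.surjBA' i hi) (E.qB i) (E.qA (i + 1)) (E.qStep i hi)]
  rw [← LocTransfer.flatAt_iff_of_unique (R := R) (E.qB (i + 1)) (E.qA (i + 1)) (E.overA (i + 1)).over.symm
    (E.uniq (i + 1) hi)]

open IsLocalRing in
/-- Stacks Tag 05I4: let R be a local ring, S a finitely presented R-algebra, N a finite S-module and q a prime of S over 𝔪_R with N_q flat over R. If N/S/R admits a complete dévissage at q, then N is of finite presentation over S and free over R; more precisely N is R-isomorphic to the product over the steps of the dévissage of the free modules B_i^{r_i}, with B_i and r_i the dévissage's own smooth algebras and ranks. -/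
theorem result {R S : Type u} [CommRing R] [IsLocalRing R] [CommRing S] [Algebra R S] [Algebra.FinitePresentation R S]
    (N : Type u) [AddCommGroup N] [Module S N] [Module R N] [IsScalarTower R S N] [Module.Finite S N]
    (q : Ideal S) [q.IsPrime] [q.LiesOver (maximalIdeal R)] (hflat : FlatCA.FlatAt R q N)
    (D : FlatCA.CompleteDevissage R S N (maximalIdeal R)) (hD : Nonempty (FlatCA.CompleteDevissageAt R S N (maximalIdeal R) q D)) :
    Module.FinitePresentation S N ∧ Module.Free R N ∧
      Nonempty (N ≃ₗ[R] (∀ i : Fin D.n, Fin (D.r i) → D.B i)) := by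
  obtain ⟨E⟩ := hD
  have hqB := E.hqB
  -- the key step
  have hstep : ∀ i, i < D.n → FlatCA.FlatAt R (E.qB i) (D.M i) →
      Function.Injective (D.α i) ∧ FlatCA.FlatAt R (E.qB i) (D.M i ⧸ LinearMap.range (D.α i)) := by
    intro i hi h
    have := D.smooth i hi
    have := finite_BM D hi
    have := E.overB i
    have hgi := ProjGeomInt.geomIntegralFibres_of_smooth R (D.B i) (D.geomIrred i hi)
    exact (((Groth.Agent.S1204.result hgi (E.qB i) (D.M i)).2 (D.r i) (D.α i) (D.fibreIso i hi)).out 0 2).1 h
  have hflatB : ∀ i, i < D.n → FlatCA.FlatAt R (E.qB i) (D.M i) := by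
    intro i
    induction i with
    | zero => intro _; exact (flatAt_zero D E).1 hflat
    | succ i ih =>
      intro hi
      exact (flatAt_succ D E i hi).1 (hstep i (by omega) (ih (by omega))).2
  have hinj : ∀ i, i < D.n → Function.Injective (D.α i) := fun i hi ↦ (hstep i hi (hflatB i hi)).1
  have hprojB : ∀ i, i < D.n → Module.Projective R (D.B i) := by
    intro i hi
    have := D.smooth i hi
    exact ProjGeomInt.projective_of_smooth R (D.B i) (D.geomIrred i hi)
  -- last step
  have hlast : Function.Bijective (D.α (D.n - 1)) := ⟨hinj _ (by have := D.pos; omega), D.cokerLast⟩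
  -- downward induction
  have key : ∀ k i, i + k + 1 = D.n → Module.FinitePresentation (D.B i) (D.M i) ∧ Module.Projective R (D.M i) := by
    intro k
    induction k with
    | zero =>
      intro i hi
      obtain rfl : i = D.n - 1 := by omega
      have := hprojB (D.n - 1) (by omega)
      have := DevissageAux.projective_pi R (D.r (D.n - 1)) (D.B (D.n - 1))
      let e := LinearEquiv.ofBijective (D.α (D.n - 1)) hlast
      exact ⟨Module.FinitePresentation.of_equiv e, Module.Projective.of_equiv' (e.restrictScalars R)⟩
    | succ k ih =>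
      intro i hi
      have hi' : i + 1 < D.n := by omega
      obtain ⟨h1, h2⟩ := ih (i + 1) (by omega)
      have := hprojB i (by omega)
      have := DevissageAux.projective_pi R (D.r i) (D.B i)
      have hfp : Module.FinitePresentation (D.B i) (D.M (i + 1)) :=
        (fp_B'M_iff D hi').2 ((fp_BM_iff D hi').1 h1)
      refine ⟨fp_step' D hi' (hinj i (by omega)) hfp, ?_⟩
      have := tower_RB'M D i
      obtain ⟨e⟩ := DevissageAux.nonempty_equiv_prod ((D.α i).restrictScalars R) (hinj i (by omega))
        ((g D hi').restrictScalars R) (g_surjective D hi') (exact_g D hi')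
      exact Module.Projective.of_equiv' e.symm
  have hfpN : Module.FinitePresentation S N := by
    rw [fp_S_iff D, ← fp_BM_iff D D.pos]
    exact (key (D.n - 1) 0 (by have := D.pos; omega)).1
  have hprojN : Module.Projective R N := by
    have := (key (D.n - 1) 0 (by have := D.pos; omega)).2
    have := tower_RSM D
    exact Module.Projective.of_equiv' (D.isoN.restrictScalars R).symm
  refine ⟨hfpN, Groth.Agent.S0582.result R N, ?_⟩
  have hpos := D.pos
  obtain ⟨m, hm⟩ : ∃ m, D.n = m + 1 := ⟨D.n - 1, by omega⟩
  have := tower_RSM D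
  have heq : Nonempty (D.M 0 ≃ₗ[R] (∀ i : Fin (m + 1), Fin (D.r i) → D.B i)) := by
    refine DevissageAux.nonempty_equiv_pi m D.M (fun i ↦ Fin (D.r i) → D.B i) ?_ ?_
    · obtain rfl : m = D.n - 1 := by omega
      exact ⟨((LinearEquiv.ofBijective (D.α (D.n - 1)) hlast).restrictScalars R).symm⟩
    · intro i hi
      have hi' : i + 1 < D.n := by omega
      have := (key (D.n - (i + 1) - 1) (i + 1) (by omega)).2
      have := tower_RB'M D i
      exact DevissageAux.nonempty_equiv_prod ((D.α i).restrictScalars R) (hinj i (by omega))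
        ((g D hi').restrictScalars R) (g_surjective D hi') (exact_g D hi')
  obtain ⟨e⟩ := heq
  rw [hm]
  exact ⟨D.isoN.restrictScalars R ≪≫ₗ e⟩

end Groth.Agent.S1253
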