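import Groth.Statements.S1257
import Groth.Agent.S1242
import Groth.Agent.Flat2B.FreeLift

set_option autoImplicit false
universe u
open FlatMor

namespace Groth.Agent.S1257

open TensorProduct in
theorem aux {R S₁ S : Type u} [CommRing R] [CommRing S₁] [CommRing S] [Algebra R S₁] [Algebra R S] [Algebra S₁ S]
    [IsScalarTower R S₁ S] [Algebra.FinitePresentation R S₁] (hs : Function.Surjective (algebraMap S₁ S))
    (N : Type u) [AddCommGroup N] [Module S N] [Module R N] [IsScalarTower R S N] [Module.Finite S N]
    (p : Ideal R) [p.IsPrime] (q : Ideal S) [q.IsPrime] [q.LiesOver p] (hflat : FlatCA.FlatAt R q N) :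
    ∃ (R' : Type u) (_ : CommRing R') (_ : Algebra R R') (p' : Ideal R') (_ : p'.IsPrime), FlatCA.IsEtaleNhd R R' p p' ∧
      ∀ (SA NA : Type u) [CommRing SA] [Algebra R SA] [Algebra S SA] [Algebra (Localization.AtPrime p') SA]
        [IsScalarTower R S SA] [IsScalarTower R (Localization.AtPrime p') SA]
        [Algebra.IsPushout R S (Localization.AtPrime p') SA]
        [AddCommGroup NA] [Module SA NA] [Module S NA] [IsScalarTower S SA NA]
        (f : N →ₗ[S] NA), IsBaseChange SA f →
        ∃ (C : Type u) (_ : CommRing C) (_ : Algebra SA C) (_ : Algebra (Localization.AtPrime p') C)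
          (_ : IsScalarTower (Localization.AtPrime p') SA C) (_ : Algebra S C) (_ : IsScalarTower S SA C)
          (x' : Ideal C) (_ : x'.IsPrime) (hx : x'.LiesOver q),
          Algebra.Etale SA C ∧ Function.Bijective (Ideal.ResidueField.mapₐ q x' (Algebra.ofId S C) hx.over) ∧
          Module.Free (Localization.AtPrime p') (RestrictScalars (Localization.AtPrime p') C (C ⊗[SA] NA)) := by
  let _ : Module S₁ N := Module.compHom _ (algebraMap S₁ S)
  have _ : IsScalarTower S₁ S N := IsScalarTower.of_algebraMap_smul fun _ _ ↦ rfl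
  have _ : IsScalarTower R S₁ N := by
    refine IsScalarTower.of_algebraMap_smul fun r x ↦ ?_
    rw [← algebraMap_smul S, ← IsScalarTower.algebraMap_apply, algebraMap_smul]
  have _ : Module.Finite S₁ S := Module.Finite.of_surjective (Algebra.linearMap S₁ S) hs
  have _ : Module.Finite S₁ N := Module.Finite.trans S N
  have hp : q.LiesOver p := inferInstance
  have _ : (q.comap (algebraMap S₁ S)).LiesOver p := ⟨by
    rw [hp.over, Ideal.under_def, Ideal.under_def, Ideal.comap_comap, ← IsScalarTower.algebraMap_eq]⟩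
  have hq₁ : q.LiesOver (q.comap (algebraMap S₁ S)) := ⟨rfl⟩
  have hflat₁ : FlatCA.FlatAt R (q.comap (algebraMap S₁ S)) N :=
    (Flat2B.LocTransfer.flatAt_iff_of_surjective hs _ q rfl N).2 hflat
  obtain ⟨R', i1, i2, p', i3, he, h⟩ := S1242.result N p (q.comap (algebraMap S₁ S)) hflat₁
  refine ⟨R', i1, i2, p', i3, he, ?_⟩
  intro SA NA _ _ _ _ _ _ hpo₀ _ _ _ _ f hf
  obtain ⟨S₁A, NA', _, _, _, _, _, _, hpo₁, _, _, _, _, _, _, f₁, hf₁⟩ :=
    Flat2B.FibreOfPoint.exists_model R S₁ (Localization.AtPrime p') N
  -- the map `S₁A → SA`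
  let φ₀ : S₁A →ₐ[R] SA := Algebra.pushoutDesc S₁A ((IsScalarTower.toAlgHom R S SA).comp (IsScalarTower.toAlgHom R S₁ S))
    (IsScalarTower.toAlgHom R (Localization.AtPrime p') SA) fun _ _ ↦ mul_comm _ _
  have hφS : ∀ s, φ₀ (algebraMap S₁ S₁A s) = algebraMap S SA (algebraMap S₁ S s) := fun s ↦
    Algebra.pushoutDesc_left _ _ _ _ s
  have hφA : ∀ a, φ₀ (algebraMap (Localization.AtPrime p') S₁A a) = algebraMap (Localization.AtPrime p') SA a :=
    fun a ↦ Algebra.pushoutDesc_right _ _ _ _ a
  let _ : Algebra S₁A SA := φ₀.toRingHom.toAlgebra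
  let _ : Algebra S₁ SA := ((algebraMap S SA).comp (algebraMap S₁ S)).toAlgebra
  have _ : IsScalarTower S₁ S SA := IsScalarTower.of_algebraMap_eq' rfl
  have _ : IsScalarTower S₁ S₁A SA := IsScalarTower.of_algebraMap_eq fun s ↦ (hφS s).symm
  have _ : IsScalarTower (Localization.AtPrime p') S₁A SA := IsScalarTower.of_algebraMap_eq fun s ↦ (hφA s).symm
  have hpo : Algebra.IsPushout S₁ S S₁A SA := (Algebra.IsPushout.comp_iff R S₁ (Localization.AtPrime p')
    (S' := S₁A)).1 hpo₀
  let _ : Module S₁A NA := Module.compHom _ (algebraMap S₁A SA)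
  have _ : IsScalarTower S₁A SA NA := IsScalarTower.of_algebraMap_smul fun _ _ ↦ rfl
  let _ : Module S₁ NA := Module.compHom _ (algebraMap S₁ S)
  have _ : IsScalarTower S₁ S NA := IsScalarTower.of_algebraMap_smul fun _ _ ↦ rfl
  have _ : IsScalarTower S₁ SA NA := by
    refine IsScalarTower.of_algebraMap_smul fun r x ↦ ?_
    rw [IsScalarTower.algebraMap_apply S₁ S SA, algebraMap_smul, algebraMap_smul]
  have _ : IsScalarTower S₁ S₁A NA := by
    refine IsScalarTower.of_algebraMap_smul fun r x ↦ ?_
    rw [← algebraMap_smul SA, ← IsScalarTower.algebraMap_apply, algebraMap_smul]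
  have hf' := Flat2B.BCTools.isBaseChange_of_isPushout (S := S₁) (S₁ := S₁A) f hf
  obtain ⟨C₁, _, _, _, _, _, _, x₁, _, hx₁, het, -, hres, -, hfree⟩ := h S₁A NA (f.restrictScalars S₁) hf'
  have _ : Algebra.Etale S₁A C₁ := het
  exact Flat2B.FreeLift.lift_data hpo q (q.comap (algebraMap S₁ S)) C₁ x₁
    ((Flat2B.EtaleNhd.resTriv_iff_bijective _ _).2 hres) hfree

open TensorProduct in
/-- Stacks Tag 05KZ (ring form, X = Spec S and S = Spec R affine): let S be a finite type R-algebra, N a finite S-module and q a prime of S over p with N_q flat over R. Then there is an étale R-algebra R' with a prime p' over p having the same residue field such that, writing A for the local ring of R' at p' and S_A, N_A for the base changes (any models): there is an étale S_A-algebra C with a prime over q whose residue field equals that of q, such that C ⊗ N_A is a free A-module. -/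
theorem result {R S : Type u} [CommRing R] [CommRing S] [Algebra R S] [Algebra.FiniteType R S]
    (N : Type u) [AddCommGroup N] [Module S N] [Module R N] [IsScalarTower R S N] [Module.Finite S N]
    (p : Ideal R) [p.IsPrime] (q : Ideal S) [q.IsPrime] [q.LiesOver p] (hflat : FlatCA.FlatAt R q N) :
    ∃ (R' : Type u) (_ : CommRing R') (_ : Algebra R R') (p' : Ideal R') (_ : p'.IsPrime), FlatCA.IsEtaleNhd R R' p p' ∧
      ∀ (SA NA : Type u) [CommRing SA] [Algebra R SA] [Algebra S SA] [Algebra (Localization.AtPrime p') SA]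
        [IsScalarTower R S SA] [IsScalarTower R (Localization.AtPrime p') SA]
        [Algebra.IsPushout R S (Localization.AtPrime p') SA]
        [AddCommGroup NA] [Module SA NA] [Module S NA] [IsScalarTower S SA NA]
        (f : N →ₗ[S] NA), IsBaseChange SA f →
        ∃ (C : Type u) (_ : CommRing C) (_ : Algebra SA C) (_ : Algebra (Localization.AtPrime p') C)
          (_ : IsScalarTower (Localization.AtPrime p') SA C) (_ : Algebra S C) (_ : IsScalarTower S SA C)
          (x' : Ideal C) (_ : x'.IsPrime) (hx : x'.LiesOver q),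
          Algebra.Etale SA C ∧ Function.Bijective (Ideal.ResidueField.mapₐ q x' (Algebra.ofId S C) hx.over) ∧
          Module.Free (Localization.AtPrime p') (RestrictScalars (Localization.AtPrime p') C (C ⊗[SA] NA)) := by
  obtain ⟨n, φ, hφ⟩ := Algebra.FiniteType.iff_quotient_mvPolynomial''.1 (inferInstance : Algebra.FiniteType R S)
  let _ : Algebra (MvPolynomial (Fin n) R) S := φ.toRingHom.toAlgebra
  have _ : IsScalarTower R (MvPolynomial (Fin n) R) S := IsScalarTower.of_algebraMap_eq fun r ↦ (φ.commutes r).symm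
  exact aux (S₁ := MvPolynomial (Fin n) R) hφ N p q hflat

end Groth.Agent.S1257
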