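import Groth.Statements.S1236
import Groth.Agent.Flat2B.TensorAss4
import Groth.Agent.S1257
import Mathlib.RingTheory.Etale.Basic
import Mathlib.RingTheory.Smooth.Flat
-- import your own Groth.Agent.* helpers here

set_option autoImplicit false
universe u
open FlatMor

namespace Groth.Agent.S1236

open TensorProduct Flat2B Flat2A.Fiber Flat2A.FiberAss FibKer WeakAssElem TensorAss TensorAss2 InjTransfer AvoidAss TensorAss3 TensorAss4

theorem free_of_restrictScalars {A C F : Type u} [CommRing A] [CommRing C] [Algebra A C] [AddCommGroup F] [Module C F]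
    [Module A F] [IsScalarTower A C F] (h : Module.Free A (RestrictScalars A C F)) : Module.Free A F := by
  let e : RestrictScalars A C F ≃ₗ[A] F :=
    { toFun := RestrictScalars.addEquiv A C F
      invFun := (RestrictScalars.addEquiv A C F).symm
      left_inv := fun x => by simp
      right_inv := fun x => by simp
      map_add' := fun x y => by simp
      map_smul' := fun a x => by
        simp only [RestrictScalars.addEquiv_map_smul, RingHom.id_apply, algebraMap_smul] }
  exact Module.Free.of_equiv e

theorem map_eq_maximalIdeal_of_etale {R R' : Type u} [CommRing R] [CommRing R'] [Algebra R R'] [Algebra.Etale R R']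
    (p : Ideal R) [p.IsPrime] (p' : Ideal R') [p'.IsPrime] [p'.LiesOver p] :
    p.map (algebraMap R (Localization.AtPrime p')) = IsLocalRing.maximalIdeal (Localization.AtPrime p') := by
  let _ := Localization.localRingHom p p' (algebraMap R R') (Ideal.over_def p' p) |>.toAlgebra
  exact ((Algebra.isUnramifiedAt_iff_map_eq R p p').mp inferInstance).2

attribute [local instance] Algebra.TensorProduct.rightAlgebra in
/-- The common core of both implications in the hard direction. -/
theorem core {R S : Type u} [CommRing R] [CommRing S] [Algebra R S] [Algebra.FiniteType R S]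
    (N : Type u) [AddCommGroup N] [Module S N] [Module R N] [IsScalarTower R S N] [Module.Finite S N]
    (M : Type u) [AddCommGroup M] [Module R M]
    (p : Ideal R) [p.IsPrime] (q : Ideal S) [q.IsPrime] [q.LiesOver p] (hflat : FlatCA.FlatAt R q N)
    (z : N ⊗[R] M) (hz : ∀ s : S, s • z = 0 → s ∈ q) :
    (∀ c : S, c • z = 0 → ∃ P ∈ associatedPrimes S (FlatCA.fiberMod p S N), P ≤ q ∧ c ∈ P) ∧
    ((∀ a ∈ p, ∃ s ∉ q, ∃ n : ℕ, (s * (algebraMap R S a) ^ n) • z = 0) → p ∈ FlatCA.weakAss R M) := by
  classical
  have : IsNoetherianRing (p.Fiber S) := fiber_isNoetherianRing p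
  obtain ⟨h, hhq, hh⟩ := exists_notMem_avoid N p q
  let S₀ := Localization.Away h
  let N₀ := S₀ ⊗[S] N
  let q₀ : Ideal S₀ := q.map (algebraMap S S₀)
  have hdis : Disjoint (Submonoid.powers h : Set S) (q : Set S) :=
    (Ideal.disjoint_powers_iff_notMem_of_isPrime (I := q) h).mpr hhq
  have hq₀ : q₀.IsPrime := IsLocalization.isPrime_of_isPrime_disjoint (.powers h) S₀ q ‹_› hdis
  have hq₀c : q₀.comap (algebraMap S S₀) = q :=
    IsLocalization.under_map_of_isPrime_disjoint (.powers h) S₀ ‹_› hdis
  have hq₀p : q₀.LiesOver p := by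
    constructor
    rw [Ideal.under_def, IsScalarTower.algebraMap_eq R S S₀, ← Ideal.comap_comap, hq₀c]
    exact Ideal.over_def q p
  have hft : Algebra.FiniteType R S₀ :=
    Algebra.FiniteType.trans (inferInstanceAs (Algebra.FiniteType R S)) (IsLocalization.finiteType_of_monoid_fg (.powers h) S₀)
  have hflat₀ : FlatCA.FlatAt R q₀ N₀ := flatAt_away q h hhq q₀ hq₀c hflat
  obtain ⟨R', _, _, p', _, hnhd, H⟩ := S1257.result N₀ p q₀ hflat₀
  let A := Localization.AtPrime p'
  let SA := S₀ ⊗[R] A
  have i1 : Algebra.IsPushout R S₀ A SA := inferInstance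
  have i2 : IsScalarTower R S₀ SA := inferInstance
  have i3 : IsScalarTower R A SA := inferInstance
  let NA := SA ⊗[S₀] N₀
  have i4 : IsScalarTower S₀ SA NA := inferInstance
  have H2 := @H SA NA _ _ _ _ i2 i3 i1 _ _ _ i4 (TensorProduct.mk S₀ SA N₀ 1) (TensorProduct.isBaseChange S₀ N₀ SA)
  clear H
  obtain ⟨C, c1, c2, c3, c4, c5, c6, x', hx'p, hx, H2⟩ := H2
  have hEt := H2.1
  have hfree := H2.2.2
  clear H2
  have hEtR : Algebra.Etale R R' := hnhd.1
  have hp'p : p'.LiesOver p := hnhd.2.1
  -- flatness
  have hflatC : Module.Flat SA C := inferInstance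
  have hflatR' : Module.Flat R R' := inferInstance
  have hflatA : Module.Flat R A := Module.Flat.trans R R' A
  have hflatSA : Module.Flat S₀ SA := inferInstance
  have hflatS₀C : Module.Flat S₀ C := Module.Flat.trans S₀ SA C
  let _ : Algebra S C := ((algebraMap S₀ C).comp (algebraMap S S₀)).toAlgebra
  have : IsScalarTower S S₀ C := IsScalarTower.of_algebraMap_eq' rfl
  have hflatS₀ : Module.Flat S S₀ := IsLocalization.flat S₀ (Submonoid.powers h)
  have hflatSC : Module.Flat S C := Module.Flat.trans S S₀ C
  let _ : Algebra R C := ((algebraMap S C).comp (algebraMap R S)).toAlgebra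
  have : IsScalarTower R S C := IsScalarTower.of_algebraMap_eq' rfl
  have : IsScalarTower R S₀ C := IsScalarTower.of_algebraMap_eq' (by
    rw [IsScalarTower.algebraMap_eq R S S₀, ← RingHom.comp_assoc, ← IsScalarTower.algebraMap_eq S S₀ C]
    rfl)
  have : IsScalarTower R SA C := IsScalarTower.of_algebraMap_eq (fun r =>
    (IsScalarTower.algebraMap_apply R S₀ C r).trans ((IsScalarTower.algebraMap_apply S₀ SA C _).trans
      (congrArg _ (IsScalarTower.algebraMap_apply R S₀ SA r).symm)))
  have : IsScalarTower R A C := IsScalarTower.of_algebraMap_eq (fun r =>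
    (IsScalarTower.algebraMap_apply R SA C r).trans ((congrArg _ (IsScalarTower.algebraMap_apply R A SA r)).trans
      (IsScalarTower.algebraMap_apply A SA C _).symm))
  -- the free module
  have hfreeF : Module.Free A (C ⊗[SA] (SA ⊗[S₀] N₀)) := free_of_restrictScalars hfree
  -- maximal ideal of A over p
  have hmA : (IsLocalRing.maximalIdeal A).LiesOver p := by
    have : (IsLocalRing.maximalIdeal A).LiesOver p' := inferInstance
    exact Ideal.LiesOver.trans (IsLocalRing.maximalIdeal A) p' p
  have hpA : p.map (algebraMap R A) = IsLocalRing.maximalIdeal A := map_eq_maximalIdeal_of_etale p p'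
  have hq1 : q ≤ x'.comap (algebraMap S C) := by
    intro s hs
    rw [Ideal.mem_comap, IsScalarTower.algebraMap_apply S S₀ C, ← Ideal.mem_comap]
    have h2 : algebraMap S S₀ s ∈ q₀ := Ideal.mem_map_of_mem _ hs
    rw [hx.over] at h2
    exact h2
  have main := core_aux (R := R) (S := S) (S₀ := S₀) (A := A) (SA := SA) (C := C) N M p hpA q x' hx'p.ne_top hq1 z hz
    (fun g => ∀ P ∈ associatedPrimes S (FlatCA.fiberMod p S N), P ≤ q → g ∉ P)
    (fun g hg => lTensor_injective_away (N := N) p h g (hh g hg))
  constructor
  · intro c hc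
    by_contra hcon
    push Not at hcon
    exact main.1 c hcon hc
  · intro hnil
    have h1 : IsLocalRing.maximalIdeal A ∈ FlatCA.weakAss A (A ⊗[R] M) := by
      refine main.2 ?_
      intro a ha
      obtain ⟨s, hs, n, hsn⟩ := hnil a ha
      exact ⟨s, (fun P hP hPq hsP => hs (hPq hsP)), n, hsn⟩
    rw [WeakAssEtale.mem_weakAss_tensor_localization_iff p'.primeCompl] at h1
    have h2 : (IsLocalRing.maximalIdeal A).comap (algebraMap R' A) = p' := Localization.AtPrime.under_maximalIdeal
    rw [h2, WeakAssEtale.mem_weakAss_baseChange_iff_of_etale M p p'] at h1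
    exact h1

open TensorProduct in
/-- Stacks Tag 05IH (ring form): let S be a finite type R-algebra, N a finite S-module, M an R-module and q a prime of S over p such that N_q is flat over R. Then q is a weakly associated prime of the S-module N ⊗_R M if and only if p is a weakly associated prime of M and the extension of q to the fibre ring over p is an associated prime of the fibre module of N. -/
theorem result {R S : Type u} [CommRing R] [CommRing S] [Algebra R S] [Algebra.FiniteType R S]
    (N : Type u) [AddCommGroup N] [Module S N] [Module R N] [IsScalarTower R S N] [Module.Finite S N]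
    (M : Type u) [AddCommGroup M] [Module R M]
    (p : Ideal R) [p.IsPrime] (q : Ideal S) [q.IsPrime] [q.LiesOver p] (hflat : FlatCA.FlatAt R q N) :
    q ∈ FlatCA.weakAss S (N ⊗[R] M) ↔
      (p ∈ FlatCA.weakAss R M ∧ FlatCA.fiberIdeal p q ∈ associatedPrimes (p.Fiber S) (FlatCA.fiberMod p S N)) := by
  have hnoeth : IsNoetherianRing (p.Fiber S) := fiber_isNoetherianRing p
  constructor
  · intro hq
    obtain ⟨-, z, hz1, hz2⟩ := (WeakAssElem.mem_weakAss_iff q).mp hq
    obtain ⟨h1, h2⟩ := core N M p q hflat z hz1
    refine ⟨h2 (fun a ha => ?_), ?_⟩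
    · refine hz2 (algebraMap R S a) ?_
      rw [Ideal.over_def q p] at ha
      exact ha
    · by_contra hcon
      have hcon' : q ∉ associatedPrimes S (FlatCA.fiberMod p S N) := fun h =>
        hcon ((mem_associatedPrimes_fiberMod_iff p N q).mp h).2.2
      have : Module.Finite (p.Fiber S) (FlatCA.fiberMod p S N) := fiberMod_finite N p
      have hfin : (associatedPrimes S (FlatCA.fiberMod p S N)).Finite := associatedPrimes_fiberMod_finite p N
      have hfin2 : {P ∈ associatedPrimes S (FlatCA.fiberMod p S N) | P ≤ q}.Finite := hfin.subset (Set.sep_subset _ _)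
      have hav : ¬ ((q : Set S) ⊆ ⋃ P ∈ {P ∈ associatedPrimes S (FlatCA.fiberMod p S N) | P ≤ q}, (P : Set S)) := by
        rw [Ideal.subset_union_prime_finite hfin2 q q (fun P hP _ _ => hP.1.1)]
        rintro ⟨P, hP, hqP⟩
        exact hcon' (by rw [le_antisymm hqP hP.2]; exact hP.1)
      rw [Set.not_subset] at hav
      obtain ⟨g, hgq, hg⟩ := hav
      simp only [Set.mem_iUnion, not_exists] at hg
      obtain ⟨s, hs, n, hsn⟩ := hz2 g hgq
      obtain ⟨P, hP, hPq, hsP⟩ := h1 _ hsn
      have hPprime : P.IsPrime := hP.1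
      rcases hPprime.mem_or_mem hsP with h | h
      · exact hs (hPq h)
      · exact hg P ⟨hP, hPq⟩ (hPprime.mem_of_pow_mem _ h)
  · rintro ⟨hp, hq⟩
    exact mem_weakAss_tensor p q hflat hp hq

end Groth.Agent.S1236
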