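import Groth.Statements.S1246
import Groth.Agent.Flat2B.ImpurityLift
import Mathlib.RingTheory.Etale.QuasiFinite
import Mathlib.RingTheory.Ideal.GoingDown
import Mathlib.RingTheory.Unramified.LocalStructure
-- import your own Groth.Agent.* helpers here

set_option autoImplicit false
universe u
open FlatMor

namespace Groth.Agent.S1246

open TensorProduct in
attribute [local instance] Algebra.TensorProduct.rightAlgebra in
theorem result' {A B : Type u} [CommRing A] [CommRing B] [Algebra A B] [Algebra.FiniteType A B]
    (N : Type u) [AddCommGroup N] [Module B N] (p : Ideal A) [p.IsPrime]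
    (h : FlatCA.HasImpurity A B N p (fun A' _ _ t => ∃ _ : t.IsPrime, Algebra.FiniteType A A' ∧ Algebra.QuasiFiniteAt A t)) :
    FlatCA.HasImpurity A B N p (fun A' _ _ t => ∃ _ : t.IsPrime, FlatCA.IsEtaleNhd A A' p t) := by
  obtain ⟨A', B', N', _, _, _, _, _, _, _, _, _, _, _, _, _, _, f, t', t, _, _, P, _, ⟨_, hf, hle, hover, _, hP, hcl⟩,
    ht, hft, hqf⟩ := h
  obtain ⟨U, _, _, hetU, u, _, hu, e, he, w, _, hwu, hwt, hew, hbij, hfin, huniq⟩ :=
    Algebra.exists_etale_isIdempotentElem_forall_liesOver_eq (R := A) (S := A') p t
  let E := U ⊗[A] A'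
  let V := Localization.Away e
  -- V is étale over A'
  have hetE : Algebra.Etale A' E := Algebra.Etale.of_equiv (Algebra.TensorProduct.commRight A A' U)
  have hetV : Algebra.Etale A' V := inferInstance
  have hflatV : Module.Flat A' V := inferInstance
  -- the point v of V
  have hdisj : Disjoint (Submonoid.powers e : Set E) (w : Set E) := by
    rwa [Ideal.disjoint_powers_iff_notMem_of_isPrime]
  let v : Ideal V := w.map (algebraMap E V)
  have hv : v.IsPrime := IsLocalization.isPrime_of_isPrime_disjoint (Submonoid.powers e) V w inferInstance hdisj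
  have hvw : v.comap (algebraMap E V) = w := IsLocalization.under_map_of_isPrime_disjoint (Submonoid.powers e) V inferInstance hdisj
  have hvt : v.comap (algebraMap A' V) = t := by
    rw [IsScalarTower.algebraMap_eq A' E V, ← Ideal.comap_comap, hvw]
    exact hwt
  have hvu : v.comap (algebraMap U V) = u := by
    rw [IsScalarTower.algebraMap_eq U E V, ← Ideal.comap_comap, hvw]
    exact hwu.over.symm
  have : v.LiesOver t := ⟨hvt.symm⟩
  obtain ⟨v', hv'le, hv'p, hv't⟩ := Ideal.exists_ideal_le_liesOver_of_le v hle
  have _ : IsScalarTower A A' V := IsScalarTower.of_algebraMap_eq fun x => by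
    rw [IsScalarTower.algebraMap_apply A E V, IsScalarTower.algebraMap_apply A' E V, ← IsScalarTower.algebraMap_apply A A' E]
  have _ : IsScalarTower A U V := IsScalarTower.of_algebraMap_eq fun x => by
    rw [IsScalarTower.algebraMap_apply A E V, IsScalarTower.algebraMap_apply U E V, ← IsScalarTower.algebraMap_apply A U E]
  refine Flat2B.ImpurityLift.hasImpurity_of_lift_push f hf hP hcl U V u v' ?_ ?_ ⟨inferInstance, hetU, hu, hbij⟩
  · rw [← hvu]
    exact Ideal.comap_mono hv'le
  · intro v'' hv'' hv''u
    have h1 : v''.comap (algebraMap E V) = w := by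
      apply huniq _ inferInstance
      · refine ⟨?_⟩
        rw [Ideal.under_def, Ideal.comap_comap, ← IsScalarTower.algebraMap_eq, hv''u]
      · intro hmem
        exact hv''.ne_top (Ideal.eq_top_of_isUnit_mem _ hmem (IsLocalization.Away.algebraMap_isUnit e))
    rw [IsScalarTower.algebraMap_eq A' E V, ← Ideal.comap_comap, h1]
    exact hwt

/-- Stacks Tag 05J0 (ring form, X = Spec B affine): let B be a finite type A-algebra, N a finite B-module and p a prime of A. If there is an impurity of N above p whose base change A → A' is of finite type and quasi-finite at the point t, then there is an impurity of N above p for which (A', t) is an elementary étale ring map at p. -/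
theorem result {A B : Type u} [CommRing A] [CommRing B] [Algebra A B] [Algebra.FiniteType A B]
    (N : Type u) [AddCommGroup N] [Module B N] [Module.Finite B N] (p : Ideal A) [p.IsPrime]
    (h : FlatCA.HasImpurity A B N p (fun A' _ _ t => ∃ _ : t.IsPrime, Algebra.FiniteType A A' ∧ Algebra.QuasiFiniteAt A t)) :
    FlatCA.HasImpurity A B N p (fun A' _ _ t => ∃ _ : t.IsPrime, FlatCA.IsEtaleNhd A A' p t) :=
  result' N p h

end Groth.Agent.S1246
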