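import Groth.Statements.S1226
import Groth.Agent.S1246
import Groth.Agent.Flat2A.ImpurityBC
import Groth.Agent.Flat2B.EtaleNhd
import Mathlib.RingTheory.Unramified.LocalStructure

set_option autoImplicit false
universe u
open FlatMor

namespace Groth.Agent.S1226

open TensorProduct Flat2A.ImpurityBC Flat2B.EtaleNhd

theorem quasiFiniteAt_comp {A A' A₂ : Type u} [CommRing A] [CommRing A'] [CommRing A₂] [Algebra A A'] [Algebra A' A₂]
    [Algebra A A₂] [IsScalarTower A A' A₂] (p' : Ideal A') [p'.IsPrime] (t : Ideal A₂) [t.IsPrime] [t.LiesOver p']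
    [Algebra.QuasiFiniteAt A p'] [Algebra.QuasiFinite A' A₂] : Algebra.QuasiFiniteAt A t := by
  let L' := Localization.AtPrime p'
  let L₂ := Localization.AtPrime t
  let _ : Algebra L' L₂ := Localization.AtPrime.algebraOfLiesOver p' t
  have h1 : Algebra.QuasiFinite A L' := ‹Algebra.QuasiFiniteAt A p'›
  have h2 : Algebra.QuasiFinite A' L₂ := inferInstance
  have h3 : Algebra.QuasiFinite L' L₂ := Algebra.QuasiFinite.of_restrictScalars (R := A') (S := L') (T := L₂)
  exact Algebra.QuasiFinite.trans (R := A) (S := L') (T := L₂)

/-- Stacks Tag 05J7 (ring form, X = Spec B affine): let B be a finite type A-algebra, N a finite B-module and p a prime of A; let A' be an A-algebra with a prime p' over p such that A' is of finite type over A and quasi-finite at p', and let B', N' be the base changes of B, N. If N is pure along the fibre over p then N' is pure along the fibre over p'. -/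
theorem result {A B : Type u} [CommRing A] [CommRing B] [Algebra A B] [Algebra.FiniteType A B]
    (N : Type u) [AddCommGroup N] [Module B N] [Module.Finite B N] (p : Ideal A) [p.IsPrime]
    (A' B' N' : Type u) [CommRing A'] [CommRing B'] [Algebra A A'] [Algebra B B'] [Algebra A' B'] [Algebra A B']
    [IsScalarTower A B B'] [IsScalarTower A A' B'] [Algebra.IsPushout A B A' B']
    [AddCommGroup N'] [Module B' N'] [Module B N'] [IsScalarTower B B' N'] (f : N →ₗ[B] N') (hf : IsBaseChange B' f)
    (p' : Ideal A') [p'.IsPrime] [p'.LiesOver p] [Algebra.FiniteType A A'] [Algebra.QuasiFiniteAt A p']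
    (h : FlatCA.IsPureAlong A B N p) : FlatCA.IsPureAlong A' B' N' p' := by
  have hft : Algebra.FiniteType A' B' := by
    have := Algebra.FiniteType.baseChange (R := A) (A := B) A'
    exact Algebra.FiniteType.equiv this (Algebra.IsPushout.equiv A A' B B' (h := Algebra.IsPushout.symm inferInstance))
  rw [isPureAlong_iff]
  intro A₂ _ _ t' t _ _ het himp
  let _ : Algebra A A₂ := ((algebraMap A' A₂).comp (algebraMap A A')).toAlgebra
  have : IsScalarTower A A' A₂ := IsScalarTower.of_algebraMap_eq' rfl
  have himp' : Imp A B N A₂ t' t := by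
    rw [← imp_baseChange_iff (A := A) (B := B) (A' := A') (B' := B') inferInstance f hf]
    exact himp
  have h1 := etale het
  have h2 := liesOver het
  have h3 : t.LiesOver p := .trans t p' p
  have h4 : Algebra.QuasiFinite A' A₂ := inferInstance
  have h5 : Algebra.QuasiFiniteAt A t := quasiFiniteAt_comp p' t
  have h6 : Algebra.FiniteType A A₂ := Algebra.FiniteType.trans (S := A') inferInstance inferInstance
  have h7 : FlatCA.HasImpurity A B N p (fun A' _ _ t => ∃ _ : t.IsPrime, Algebra.FiniteType A A' ∧ Algebra.QuasiFiniteAt A t) := by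
    rw [hasImpurity_iff]
    exact ⟨A₂, inferInstance, inferInstance, t', t, inferInstance, inferInstance, h3, ⟨inferInstance, h6, h5⟩, himp'⟩
  have h8 := S1246.result N p h7
  rw [hasImpurity_iff] at h8
  obtain ⟨A₃, _, _, s', s, _, _, h9, ⟨_, h10⟩, h11⟩ := h8
  exact (isPureAlong_iff p).mp h A₃ s' s h10 h11

end Groth.Agent.S1226
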