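import Groth.Statements.S1252
import Groth.Agent.Flat2A.CDevMain
import Groth.Agent.Flat2A.CDevConv

set_option autoImplicit false
universe u
open FlatMor

namespace Groth.Agent.S1252

/-- Stacks Tag 05HR (in the algebraic form of Tag 05I1; X = Spec S, S = Spec R affine): let S be a finite type R-algebra, N a finite S-module and q a prime of S over p such that the point of the fibre over p given by q lies in the support of the fibre module of N (a condition the source leaves implicit). Then there are an étale R-algebra R' with a prime p' over p and an étale S-algebra S' with a prime q' over q, both with trivial residue field extensions, and a compatible R'-algebra structure on S' with q' over p', such that for the base change N' of N to S' (any model), N'/S'/R' admits a complete dévissage at q' (FlatCA.HasCompleteDevissageAt). -/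
theorem result {R S : Type u} [CommRing R] [CommRing S] [Algebra R S] [Algebra.FiniteType R S]
    (N : Type u) [AddCommGroup N] [Module S N] [Module R N] [IsScalarTower R S N] [Module.Finite S N]
    (p : Ideal R) [p.IsPrime] (q : Ideal S) [q.IsPrime] [q.LiesOver p]
    (hsupp : ∃ x ∈ Module.support (p.Fiber S) (FlatCA.fiberMod p S N), x.asIdeal = FlatCA.fiberIdeal p q) :
    ∃ (R' S' : Type u) (_ : CommRing R') (_ : CommRing S') (_ : Algebra R R') (_ : Algebra S S') (_ : Algebra R' S')
      (_ : Algebra R S') (_ : IsScalarTower R R' S') (_ : IsScalarTower R S S')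
      (p' : Ideal R') (q' : Ideal S') (_ : p'.IsPrime) (_ : q'.IsPrime),
      FlatCA.IsEtaleNhd R R' p p' ∧ FlatCA.IsEtaleNhd S S' q q' ∧ q'.LiesOver p' ∧
      ∀ (N' : Type u) [AddCommGroup N'] [Module S' N'] [Module S N'] [IsScalarTower S S' N']
        (f : N →ₗ[S] N'), IsBaseChange S' f → FlatCA.HasCompleteDevissageAt R' S' N' p' q' := by
  obtain ⟨x, hx, hxq⟩ := hsupp
  -- the local dimension is a natural number
  obtain ⟨n, hn⟩ := Groth.Agent.Ega43.FibreDimFinite.exists_ringKrullDim_le p.ResidueField (p.Fiber S)
  have h1 : FlatMor.localDim (Module.support (p.Fiber S) (FlatCA.fiberMod p S N)) ⟨x, hx⟩ ≤ n := by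
    refine (iInf_le _ ⟨⊤, trivial⟩).trans ?_
    refine le_trans ?_ hn
    rw [← PrimeSpectrum.topologicalKrullDim_eq_ringKrullDim]
    exact (Topology.IsInducing.subtypeVal.comp Topology.IsInducing.subtypeVal).topologicalKrullDim_le
  obtain ⟨d, hd⟩ := Groth.Agent.Ega43.FibreDimFinite.exists_nat_of_le
    (Groth.Agent.Ega43.FibreDimFinite.localDim_nonneg _) h1
  obtain ⟨R', S', _, _, _, _, _, _, t1, t2, p', q', _, _, h1, h2, h3, n, H⟩ :=
    Groth.Agent.Flat2A.CDevMain.main d N p q x hxq hx hd
  refine ⟨R', S', inferInstance, inferInstance, inferInstance, inferInstance, inferInstance, inferInstance,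
    t1, t2, p', q', inferInstance, inferInstance, h1, h2, h3, ?_⟩
  intro N' _ _ _ _ f hf
  exact Groth.Agent.Flat2A.CDevConv.hasCompleteDevissageAt p' n (H N' f hf)

end Groth.Agent.S1252
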