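import Groth.Statements.S1256
import Groth.Agent.S1252
import Groth.Agent.Flat2B.DevissageCover

set_option autoImplicit false
universe u
open FlatMor

namespace Groth.Agent.S1256

open Flat2B Flat2B.DevissageCover FlatCA in
theorem local_data {A B : Type u} [CommRing A] [CommRing B] [Algebra A B] [Algebra.FiniteType A B]
    (N : Type u) [AddCommGroup N] [Module B N] [Module.Finite B N] (p : Ideal A) [p.IsPrime]
    (q : Ideal B) [q.IsPrime] [q.LiesOver p] :
    ∃ (A₁ : Type u) (_ : CommRing A₁) (_ : Algebra A A₁) (p₁ : Ideal A₁) (_ : p₁.IsPrime), FlatCA.IsEtaleNhd A A₁ p p₁ ∧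
      ∃ s : B, s ∉ q ∧ ∀ (A' : Type u) [CommRing A'] [Algebra A A'] [Algebra A₁ A'] [IsScalarTower A A₁ A']
        (p' : Ideal A') [p'.IsPrime], FlatCA.IsEtaleNhd A₁ A' p₁ p' → Concl A N A' p' s := by
  let _ : Module A N := Module.compHom _ (algebraMap A B)
  have _ : IsScalarTower A B N := IsScalarTower.of_algebraMap_smul fun _ _ ↦ rfl
  by_cases hann : Module.annihilator B N ≤ q
  · -- the point is in the support
    have hsupp : ∃ x ∈ Module.support (p.Fiber B) (FlatCA.fiberMod p B N), x.asIdeal = FlatCA.fiberIdeal p q := by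
      have h1 : (FlatCA.fiberIdeal p q).IsPrime := Flat2B.FibreBC.fiberIdeal_isPrime p q
      refine ⟨⟨FlatCA.fiberIdeal p q, h1⟩, ?_, rfl⟩
      rw [Flat2A.FiberSupp.mem_support_fiberMod_iff]
      refine hann.trans (le_of_eq ?_)
      exact (Flat2B.FibreBC.comap_fiberIdeal p q).symm
    obtain ⟨A₁, B₁, _, _, _, _, _, _, _, _, p₁, q₁, _, _, heA, heB, hq₁, h⟩ := S1252.result N p q hsupp
    refine ⟨A₁, inferInstance, inferInstance, p₁, inferInstance, heA, ?_⟩
    obtain ⟨BA₁, _, _, _, _, _, _, _, hpo, _⟩ := FibreOfPoint.exists_model A B A₁ N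
    have e1 : Algebra.Etale B B₁ := heB.1
    have e2 : Algebra.Etale A A₁ := heA.1
    have l1 := EtaleNhd.liesOver heA
    have l2 := EtaleNhd.liesOver heB
    -- the map `BA₁ → B₁`
    let φ₀ : BA₁ →ₐ[A] B₁ := Algebra.pushoutDesc BA₁ (IsScalarTower.toAlgHom A B B₁)
      (IsScalarTower.toAlgHom A A₁ B₁) fun _ _ ↦ mul_comm _ _
    have hφS : ∀ s, φ₀ (algebraMap B BA₁ s) = algebraMap B B₁ s := fun s ↦ Algebra.pushoutDesc_left _ _ _ _ s
    have hφA : ∀ a, φ₀ (algebraMap A₁ BA₁ a) = algebraMap A₁ B₁ a := fun a ↦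
      Algebra.pushoutDesc_right _ _ _ _ a
    let _ : Algebra BA₁ B₁ := φ₀.toRingHom.toAlgebra
    have _ : IsScalarTower B BA₁ B₁ := IsScalarTower.of_algebraMap_eq fun a ↦ (hφS a).symm
    have _ : IsScalarTower A₁ BA₁ B₁ := IsScalarTower.of_algebraMap_eq fun a ↦ (hφA a).symm
    have e3 : Algebra.Etale B BA₁ := by
      have : Algebra.IsPushout A A₁ B BA₁ := hpo.symm
      exact BCTools.etale_of_isPushout A A₁ B BA₁
    have e4 : Algebra.Etale BA₁ B₁ := Algebra.Etale.of_restrictScalars B BA₁ B₁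
    -- a basic open neighbourhood in the image
    have hopen : IsOpenMap (PrimeSpectrum.comap (algebraMap BA₁ B₁)) :=
      PrimeSpectrum.isOpenMap_comap_of_hasGoingDown_of_finitePresentation
    have hU := hopen.isOpen_range
    obtain ⟨_, ⟨g, rfl⟩, hqg, hgU⟩ :=
      PrimeSpectrum.isTopologicalBasis_basic_opens.exists_subset_of_mem_open
        (show PrimeSpectrum.comap (algebraMap BA₁ B₁) ⟨q₁, inferInstance⟩ ∈ Set.range _ from ⟨_, rfl⟩) hU
    have hg : ∀ (Q : Ideal BA₁) [Q.IsPrime], g ∉ Q → ∃ Q' : Ideal B₁, Q'.IsPrime ∧ Q'.comap (algebraMap BA₁ B₁) = Q := by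
      intro Q _ hgQ
      obtain ⟨Q', hQ'⟩ := hgU (show (⟨Q, inferInstance⟩ : PrimeSpectrum BA₁) ∈ _ from hgQ)
      exact ⟨Q'.asIdeal, Q'.isPrime, congr(PrimeSpectrum.asIdeal $hQ')⟩
    obtain ⟨s, hs⟩ := FibreQC.exists_approx (R := A) (A := A₁) (S := B) l1 (EtaleNhd.resTriv heA) g
    refine ⟨s, ?_, ?_⟩
    · have l3 : (q₁.comap (algebraMap BA₁ B₁)).LiesOver p₁ := ⟨by
        rw [hq₁.over, Ideal.under_def, Ideal.under_def, Ideal.comap_comap, ← IsScalarTower.algebraMap_eq]⟩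
      have h1 : algebraMap B BA₁ s ∉ q₁.comap (algebraMap BA₁ B₁) := (hs _ l3).2 hqg
      intro hsq
      apply h1
      rw [Ideal.mem_comap, ← IsScalarTower.algebraMap_apply]
      rw [l2.over] at hsq
      exact hsq
    · intro A' _ _ _ _ p' _ he'
      obtain ⟨D, -⟩ := h (TensorProduct B B₁ N) (TensorProduct.mk B B₁ N 1) (TensorProduct.isBaseChange B N B₁)
      exact concl_of_completeDevissage p₁ _ _ (TensorProduct.isBaseChange B N B₁) D g hg s hs A' p' ⟨he'.2.1, he'.2.2⟩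
  · -- the point is not in the support
    obtain ⟨s, hs, hsq⟩ := SetLike.not_le_iff_exists.1 hann
    refine ⟨A, inferInstance, inferInstance, p, inferInstance, EtaleNhd.isEtaleNhd_refl A p, s, hsq, ?_⟩
    intro A' _ j1 j2 j3 p' _ j4
    clear j4 j3 j2
    exact concl_of_smul_eq_zero s (fun n ↦ Module.mem_annihilator.1 hs n) A' p'

/-- Stacks Tag 05HU (ring form, X = Spec B and S = Spec A affine): let B be a finite type A-algebra, N a finite B-module and p a prime of A. Then there is an étale A-algebra A' with a prime p' over p having the same residue field such that, for the base changes B_{A'}, N_{A'} (any models), there are finitely many étale B_{A'}-algebras C_i with base changes N_i of N_{A'}, each N_i/C_i/A' admitting a complete dévissage over p', such that every prime of B_{A'} over p' is the contraction of a prime of some C_i. -/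
theorem result {A B : Type u} [CommRing A] [CommRing B] [Algebra A B] [Algebra.FiniteType A B]
    (N : Type u) [AddCommGroup N] [Module B N] [Module.Finite B N] (p : Ideal A) [p.IsPrime] :
    ∃ (A' : Type u) (_ : CommRing A') (_ : Algebra A A') (p' : Ideal A') (_ : p'.IsPrime), FlatCA.IsEtaleNhd A A' p p' ∧
      ∀ (BA NA : Type u) [CommRing BA] [Algebra B BA] [Algebra A' BA] [Algebra A BA] [IsScalarTower A B BA] [IsScalarTower A A' BA]
        [Algebra.IsPushout A B A' BA]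
        [AddCommGroup NA] [Module BA NA] [Module B NA] [IsScalarTower B BA NA]
        (fA : N →ₗ[B] NA), IsBaseChange BA fA →
        ∃ (k : ℕ) (C : Fin k → Type u) (_ : ∀ i, CommRing (C i)) (_ : ∀ i, Algebra BA (C i)) (_ : ∀ i, Algebra A' (C i))
          (_ : ∀ i, IsScalarTower A' BA (C i))
          (Nc : Fin k → Type u) (_ : ∀ i, AddCommGroup (Nc i)) (_ : ∀ i, Module (C i) (Nc i)) (_ : ∀ i, Module BA (Nc i))
          (_ : ∀ i, IsScalarTower BA (C i) (Nc i)) (g : ∀ i, NA →ₗ[BA] Nc i),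
          (∀ i, Algebra.Etale BA (C i) ∧ IsBaseChange (C i) (g i) ∧ Nonempty (FlatCA.CompleteDevissage A' (C i) (Nc i) p')) ∧
          ∀ (Q : Ideal BA) [Q.IsPrime], Q.LiesOver p' → ∃ (i : Fin k) (Q' : Ideal (C i)), Q'.IsPrime ∧ Q'.comap (algebraMap BA (C i)) = Q := by
  have H : ∀ q : {q : Ideal B // q.IsPrime ∧ q.LiesOver p},
      ∃ (A₁ : Type u) (_ : CommRing A₁) (_ : Algebra A A₁) (p₁ : Ideal A₁) (_ : p₁.IsPrime), FlatCA.IsEtaleNhd A A₁ p p₁ ∧
      ∃ s : B, s ∉ q.1 ∧ ∀ (A' : Type u) [CommRing A'] [Algebra A A'] [Algebra A₁ A'] [IsScalarTower A A₁ A']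
        (p' : Ideal A') [p'.IsPrime], FlatCA.IsEtaleNhd A₁ A' p₁ p' → Flat2B.DevissageCover.Concl A N A' p' s := by
    intro q
    have i1 : q.1.IsPrime := q.2.1
    have i2 : q.1.LiesOver p := q.2.2
    exact local_data N p q.1
  choose A₁ i1 i2 p₁ i3 he s hs h using H
  obtain ⟨k, q, hq⟩ := Flat2B.FibreQC.exists_fin_of_forall_prime p s (fun Q hQ hQp ↦ ⟨⟨Q, hQ, hQp⟩, hs ⟨Q, hQ, hQp⟩⟩)
  obtain ⟨A', _, _, _, _, p', _, h2, h3⟩ := Flat2B.EtaleNhd.exists_common_refinement_fin k (fun j ↦ A₁ (q j))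
    (fun j ↦ p₁ (q j)) (fun j ↦ he (q j))
  refine ⟨A', inferInstance, inferInstance, p', inferInstance, h2, ?_⟩
  intro BA NA _ _ _ _ _ _ _ _ _ _ _ fA hfA
  have K := fun j : Fin k ↦ h (q j) A' p' (h3 j) BA NA fA hfA
  choose C c1 c2 c3 c4 Nc n1 n2 n3 n4 g hC hQ using K
  refine ⟨k, C, c1, c2, c3, c4, Nc, n1, n2, n3, n4, g, hC, ?_⟩
  intro Q _ hQp'
  have l1 := Flat2B.EtaleNhd.liesOver h2
  have hQp : (Q.comap (algebraMap B BA)).LiesOver p := by
    refine ⟨?_⟩
    rw [l1.over, hQp'.over, Ideal.under_def, Ideal.under_def, Ideal.under_def, Ideal.comap_comap, Ideal.comap_comap,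
      ← IsScalarTower.algebraMap_eq, ← IsScalarTower.algebraMap_eq]
  obtain ⟨j, hj⟩ := hq (Q.comap (algebraMap B BA)) hQp
  obtain ⟨Q', h4, h5⟩ := hQ j Q hQp' hj
  exact ⟨j, Q', h4, h5⟩

end Groth.Agent.S1256
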