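import Groth.Statements.S1210
import Groth.Agent.Flat2B.EtFree2

set_option autoImplicit false
universe u
open FlatMor

namespace Groth.Agent.S1210

open TensorProduct in
/-- Stacks Tag 05I5 (ring form, X = Spec S and S = Spec R affine): let S be a finitely presented R-algebra, N a finite S-module and q a prime of S over p with N_q flat over R. Then there is an étale R-algebra R' with a prime p' over p having the same residue field such that, writing A for the local ring of R' at p', S_A for the base change of S to A and N_A for that of N: there is an element g of S_A, outside every prime of S_A lying over both q and the maximal ideal of A (there is exactly one such prime), with the localization of N_A at g finitely presented over (S_A)_g and flat over A. The base change is stated for any model of the tensor product. -/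
theorem result {R S : Type u} [CommRing R] [CommRing S] [Algebra R S] [Algebra.FinitePresentation R S]
    (N : Type u) [AddCommGroup N] [Module S N] [Module R N] [IsScalarTower R S N] [Module.Finite S N]
    (p : Ideal R) [p.IsPrime] (q : Ideal S) [q.IsPrime] [q.LiesOver p] (hflat : FlatCA.FlatAt R q N) :
    ∃ (R' : Type u) (_ : CommRing R') (_ : Algebra R R') (p' : Ideal R') (_ : p'.IsPrime), FlatCA.IsEtaleNhd R R' p p' ∧
      ∀ (SA NA : Type u) [CommRing SA] [Algebra R SA] [Algebra S SA] [Algebra (Localization.AtPrime p') SA]
        [IsScalarTower R S SA] [IsScalarTower R (Localization.AtPrime p') SA]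
        [Algebra.IsPushout R S (Localization.AtPrime p') SA]
        [AddCommGroup NA] [Module SA NA] [Module S NA] [IsScalarTower S SA NA]
        [Module (Localization.AtPrime p') NA] [IsScalarTower (Localization.AtPrime p') SA NA]
        (f : N →ₗ[S] NA), IsBaseChange SA f →
        ∃ g : SA, (∀ (Q : Ideal SA) [Q.IsPrime], Q.LiesOver q → Q.LiesOver (IsLocalRing.maximalIdeal (Localization.AtPrime p')) → g ∉ Q) ∧
          Module.FinitePresentation (Localization.Away g) (LocalizedModule (Submonoid.powers g) NA) ∧
          Module.Flat (Localization.AtPrime p') (LocalizedModule (Submonoid.powers g) NA) := by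
  obtain ⟨R', _, _, p', _, hp, h⟩ := Flat2B.EtFree.core N p q hflat
  refine ⟨R', inferInstance, inferInstance, p', inferInstance, hp, ?_⟩
  intro SA NA _ _ _ _ _ _ _ _ _ _ _ _ _ f hf
  have : Module.Finite SA NA := Module.Finite.equiv hf.equiv
  obtain ⟨Q, _, hQq, hQm, g, hg, h1, h2⟩ :=
    Flat2B.EtFree2.exists_of_concl q (Localization.AtPrime p') SA NA
      (h (Localization.AtPrime p') SA NA f hf)
  obtain ⟨Q₀, _, -, -, -, huniq⟩ :=
    Flat2B.EtaleNhd.exists_unique_prime_localized hp (S := S) (SA := SA) q
  refine ⟨g, ?_, h1, h2⟩
  intro Q₁ _ h3 h4 hgQ
  rw [huniq Q₁ h3 h4, ← huniq Q hQq hQm] at hgQ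
  exact hg hgQ

end Groth.Agent.S1210
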