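import Groth.Statements.S1205
import Groth.Agent.Flat2A.FreeMapFP
import Groth.Agent.Flat2B.ProjGeomInt
import Groth.Agent.S0387


set_option autoImplicit false
universe u
open FlatMor

namespace Groth.Agent.S1205

/-- The flat locus is open: flatness at a prime spreads out to a basic open neighbourhood. -/
theorem exists_flat_away {R S M : Type u} [CommRing R] [CommRing S] [Algebra R S]
    [Algebra.FinitePresentation R S] [AddCommGroup M] [Module S M] [Module R M]
    [IsScalarTower R S M] [Module.FinitePresentation S M] (q : Ideal S) [hq : q.IsPrime]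
    (h : FlatCA.FlatAt R q M) :
    ∃ g : S, g ∉ q ∧ Module.Flat R (LocalizedModule (Submonoid.powers g) M) := by
  have hopen := Groth.Agent.S0387.result (R := R) (S := S) (M := M)
  obtain ⟨_, ⟨_, ⟨g, rfl⟩, rfl⟩, hg1, hg2⟩ := PrimeSpectrum.isBasis_basic_opens.exists_subset_of_mem_open
    (show (⟨q, hq⟩ : PrimeSpectrum S) ∈
      {q : PrimeSpectrum S | Module.Flat R (LocalizedModule q.asIdeal.primeCompl M)} from h) hopen
  refine ⟨g, hg1, Flat2B.FlatLocusAux.flat_away_of_flatAt M g fun q' hq' hg' => ?_⟩
  exact hg2 (show (⟨q', hq'⟩ : PrimeSpectrum S) ∈ PrimeSpectrum.basicOpen g from hg')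

open TensorProduct in
/-- Stacks Tag 05IA: let S be a finitely presented flat R-algebra with geometrically integral fibres, q a prime of S over the prime 𝔯 of R, so that 𝔭 = 𝔯S is a prime of S, and N a finitely presented S-module. Then there is an S-linear map α from a finite free module S^r to N inducing a bijection after base change to κ(𝔭); and for any such α the following are equivalent: N_q is flat over R; for some f ∈ R outside 𝔯 the localization α_f is universally injective over R and for some g ∈ S outside q the localization of the cokernel at g is flat over R; α localized at (the image of) 𝔯 is universally injective over R and the cokernel is flat over R at q; α localized at 𝔯 is injective and the cokernel is flat at q; α localized at 𝔭 is bijective and the cokernel is flat at q; α localized at q is injective and the cokernel is flat at q. (Universal injectivity over R_f or R_𝔯 of a map of modules over these localizations is the same as over R, which is how it is written.) -/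
theorem result {R S : Type u} [CommRing R] [CommRing S] [Algebra R S] [Algebra.FinitePresentation R S] [Module.Flat R S]
    (hgi : FlatCA.GeomIntegralFibres R S) (rr : Ideal R) [rr.IsPrime] [(rr.map (algebraMap R S)).IsPrime]
    (q : Ideal S) [q.IsPrime] [q.LiesOver rr]
    (N : Type u) [AddCommGroup N] [Module S N] [Module R N] [IsScalarTower R S N] [Module.FinitePresentation S N] :
    (∃ (r : ℕ) (α : (Fin r → S) →ₗ[S] N), Function.Bijective (α.baseChange (rr.map (algebraMap R S)).ResidueField)) ∧
    ∀ (r : ℕ) (α : (Fin r → S) →ₗ[S] N), Function.Bijective (α.baseChange (rr.map (algebraMap R S)).ResidueField) →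
      [FlatCA.FlatAt R q N,
       (∃ f : R, f ∉ rr ∧ FlatCA.UnivInj R ((LocalizedModule.map (Submonoid.powers (algebraMap R S f)) α).restrictScalars R)) ∧
         (∃ g : S, g ∉ q ∧ Module.Flat R (LocalizedModule (Submonoid.powers g) (N ⧸ LinearMap.range α))),
       FlatCA.UnivInj R ((LocalizedModule.map (Algebra.algebraMapSubmonoid S rr.primeCompl) α).restrictScalars R) ∧ FlatCA.FlatAt R q (N ⧸ LinearMap.range α),
       Function.Injective (LocalizedModule.map (Algebra.algebraMapSubmonoid S rr.primeCompl) α) ∧ FlatCA.FlatAt R q (N ⧸ LinearMap.range α),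
       Function.Bijective (LocalizedModule.map (rr.map (algebraMap R S)).primeCompl α) ∧ FlatCA.FlatAt R q (N ⧸ LinearMap.range α),
       Function.Injective (LocalizedModule.map q.primeCompl α) ∧ FlatCA.FlatAt R q (N ⧸ LinearMap.range α)].TFAE := by
  have hproj : Module.Projective R S := Flat2B.ProjGeomInt.projective_of_geomIntegralFibres R S hgi
  refine ⟨Flat2A.FreeMap.exists_free_map _, fun r α hα => ?_⟩
  have hfin : Module.Finite S N := inferInstance
  have hfpC : Module.FinitePresentation S (N ⧸ LinearMap.range α) :=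
    Module.finitePresentation_of_surjective _ (Submodule.mkQ_surjective (LinearMap.range α)) (by
      rw [Submodule.ker_mkQ, LinearMap.range_eq_map]
      exact Submodule.FG.map _ (Module.Finite.fg_top))
  tfae_have 1 → 3 := by
    intro h
    obtain ⟨h1, h2⟩ := Flat2A.FreeMap.step_flat_univInj rr α q hα h
    refine ⟨?_, h2⟩
    rw [Flat2A.LocUnivInj.univInj_map_iff]
    intro Q _ _ x hx
    obtain ⟨t, ht, h3⟩ := h1 Q x hx
    exact ⟨algebraMap R S t, ⟨t, ht, rfl⟩, by rw [algebraMap_smul]; exact h3⟩
  tfae_have 3 → 4 := by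
    rintro ⟨h1, h2⟩
    refine ⟨?_, h2⟩
    rw [Flat2A.LocUnivInj.univInj_map_iff] at h1
    rw [Flat2A.LocUnivInj.map_injective_iff]
    intro x hx
    obtain ⟨t, ht, h3⟩ := h1 R (x ⊗ₜ 1) (by
      rw [LinearMap.rTensor_tmul]
      have : (α.restrictScalars R) x = 0 := hx
      rw [this, zero_tmul])
    refine ⟨t, ht, ?_⟩
    have := congrArg (TensorProduct.rid R (Fin r → S)) h3
    rwa [TensorProduct.smul_tmul', TensorProduct.rid_tmul, one_smul, map_zero] at this
  tfae_have 4 → 5 := by
    rintro ⟨h1, h2⟩
    rw [Flat2A.LocUnivInj.map_injective_iff] at h1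
    refine ⟨Flat2A.FreeMap.step_inj_bij rr α hα ?_, h2⟩
    intro x hx
    obtain ⟨_, ⟨t, ht, rfl⟩, h3⟩ := h1 x hx
    refine ⟨t, Flat2A.FreeMap.algebraMap_notMem' rr q ht, ?_⟩
    rwa [← algebraMap_smul S t x]
  tfae_have 5 → 6 := by
    rintro ⟨h1, h2⟩
    exact ⟨Flat2A.FreeMap.step_bij_inj rr α q h1, h2⟩
  tfae_have 6 → 1 := by
    rintro ⟨h1, h2⟩
    exact Flat2A.FreeMap.step_inj_flat α q h1 h2
  tfae_have 5 → 2 := by
    rintro ⟨h1, h2⟩
    refine ⟨?_, exists_flat_away q h2⟩
    obtain ⟨f, hf, h3⟩ := Flat2A.FreeMapFP.exists_univInj_away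
      (fun p _ => Flat2A.GeomInt.isDomain_fiber hgi p) rr q α h1
    refine ⟨f, hf, ?_⟩
    rw [Flat2A.LocUnivInj.univInj_map_iff]
    intro Q _ _ x hx
    obtain ⟨n, hn⟩ := h3 Q x hx
    refine ⟨algebraMap R S f ^ n, ⟨n, rfl⟩, ?_⟩
    rw [← map_pow, algebraMap_smul, hn]
  tfae_have 2 → 3 := by
    rintro ⟨⟨f, hf, h1⟩, g, hg, h2⟩
    refine ⟨?_, Flat2B.FlatLocusAux.flatAt_of_flat_away q _ g hg h2⟩
    rw [Flat2A.LocUnivInj.univInj_map_iff] at h1 ⊢
    intro Q _ _ x hx
    obtain ⟨_, ⟨n, rfl⟩, h3⟩ := h1 Q x hx
    refine ⟨(algebraMap R S f) ^ n, ?_, h3⟩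
    rw [← map_pow]
    exact ⟨f ^ n, rr.primeCompl.pow_mem hf n, rfl⟩
  tfae_finish

end Groth.Agent.S1205
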