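import Groth.Statements.S1254
import Groth.Agent.S1205
import Groth.Agent.Flat2B.ProjGeomInt
import Groth.Agent.Flat2B.DevissageAux
import Groth.Agent.Flat2B.DevissageTower
import Groth.Agent.Flat2B.LocTransfer
import Groth.Agent.Flat2B.FlatCrit

set_option autoImplicit false
universe u
open FlatMor

namespace Groth.Agent.S1254

open Groth.Agent.Flat2B Groth.Agent.Flat2B.DevissageTower TensorProduct

section

variable {R S : Type u} [CommRing R] [CommRing S] [Algebra R S] [Algebra.FinitePresentation R S]
    {N : Type u} [AddCommGroup N] [Module S N] [Module R N] [IsScalarTower R S N] [Module.FinitePresentation S N]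
    [Module.Flat R N] {rr : Ideal R} [rr.IsPrime] (D : FlatCA.CompleteDevissage R S N rr)

/-- there is a prime of `B i` over `rr` -/
theorem exists_over (i : ℕ) (hi : i < D.n) : ∃ (q : Ideal (D.B i)) (_ : q.IsPrime), q.LiesOver rr := by
  have : AlgebraicGeometry.GeometricallyIrreducible
    (AlgebraicGeometry.Spec.map (CommRingCat.ofHom (algebraMap R (D.B i)))) := D.geomIrred i hi
  obtain ⟨x, hx⟩ := (AlgebraicGeometry.Spec.map (CommRingCat.ofHom (algebraMap R (D.B i)))).surjective
    (⟨rr, inferInstance⟩ : PrimeSpectrum R)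
  exact ⟨x.asIdeal, x.isPrime, ⟨congr(PrimeSpectrum.asIdeal $hx).symm⟩⟩

theorem fp_BM (i : ℕ) (hi : i < D.n) : Module.FinitePresentation (D.B i) (D.M i) := by
  induction i with
  | zero =>
    rw [fp_BM_iff D hi, ← fp_S_iff D]
    infer_instance
  | succ i ih =>
    rw [fp_BM_iff D hi, ← fp_B'M_iff D hi]
    exact fp_step D hi (ih (by omega))

theorem step (i : ℕ) (hi : i < D.n) (q : Ideal (D.B i)) [q.IsPrime] (hq : q.LiesOver rr) 
    (h : FlatCA.FlatAt R q (D.M i)) :
    FlatCA.FlatAt R q (D.M i ⧸ LinearMap.range (D.α i)) ∧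
    ∃ f : R, f ∉ rr ∧ ∀ x, D.α i x = 0 → ∃ n : ℕ, f ^ n • x = 0 := by
  have := D.smooth i hi
  have := fp_BM D i hi
  have hgi := ProjGeomInt.geomIntegralFibres_of_smooth R (D.B i) (D.geomIrred i hi)
  have H := (Groth.Agent.S1205.result hgi rr q (D.M i)).2 (D.r i) (D.α i) (D.fibreIso i hi)
  have H05 := H.out 0 5
  have H01 := H.out 0 1
  refine ⟨(H05.1 h).2, ?_⟩
  obtain ⟨⟨f, hf, huniv⟩, -⟩ := H01.1 h
  refine ⟨f, hf, fun x hx ↦ ?_⟩
  have hinj : Function.Injective (LocalizedModule.map (Submonoid.powers (algebraMap R (D.B i) f)) (D.α i)) := by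
    have := huniv R
    intro y z hyz
    have h2 : (1 : R) ⊗ₜ[R] y = (1 : R) ⊗ₜ[R] z := this (by
      simp only [LinearMap.lTensor_tmul, LinearMap.coe_restrictScalars, hyz])
    have h3 := congrArg (TensorProduct.lid R _) h2
    simpa using h3
  have h1 : LocalizedModule.mk x (1 : Submonoid.powers (algebraMap R (D.B i) f)) = 0 := by
    apply hinj
    rw [LocalizedModule.map_mk, hx, map_zero, LocalizedModule.zero_mk]
  rw [← LocalizedModule.zero_mk (1 : Submonoid.powers (algebraMap R (D.B i) f)), LocalizedModule.mk_eq] at h1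
  obtain ⟨⟨_, n, rfl⟩, hn⟩ := h1
  refine ⟨n, ?_⟩
  simp only [Submonoid.smul_def, one_smul, smul_zero] at hn
  rw [← map_pow, algebraMap_smul] at hn
  exact hn

theorem flatAt_all (i : ℕ) (hi : i < D.n) : ∀ (q : Ideal (D.B i)) [q.IsPrime] (_ : q.LiesOver rr),
    FlatCA.FlatAt R q (D.M i) := by
  induction i with
  | zero =>
    intro q _ hq
    have := tower_RSM D
    have : Module.Flat R (D.M 0) := Module.Flat.of_linearEquiv (D.isoN.restrictScalars R).symm
    exact FlatCrit.flatAt_of_flat q (D.M 0)
  | succ i ih =>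
    intro q' _ hq'
    have hfin := D.finiteBA (i + 1) hi
    have := tower_RAM D (i + 1)
    have := tower_RB'M D i
    refine FlatCrit.flatAt_of_forall_flatAt (A := D.A (i + 1)) (D.M (i + 1)) q' fun Q _ hQ ↦ ?_
    rw [← LocTransfer.flatAt_iff_of_surjective (S := D.B i) (D.surjBA' i hi) (Q.comap (algebraMap (D.B i) (D.A (i + 1)))) Q rfl]
    have hover : (Q.comap (algebraMap (D.B i) (D.A (i + 1)))).LiesOver rr := by
      constructor
      rw [Ideal.under_def, Ideal.comap_comap, ← IsScalarTower.algebraMap_eq, IsScalarTower.algebraMap_eq R (D.B (i + 1)),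
        ← Ideal.comap_comap, hQ]
      exact hq'.over
    have := (step D i (by omega) (Q.comap (algebraMap (D.B i) (D.A (i + 1)))) hover (ih (by omega) _ hover)).1
    rwa [LocTransfer.flatAt_congr _ (D.isoCoker i hi)] at this

end

/-- if the kernel of `a` is `f`-power torsion, `a` becomes injective over `R_f`. -/
theorem injective_baseChange {R : Type u} [CommRing R] (f : R) {F M : Type u} [AddCommGroup F] [Module R F]
    [AddCommGroup M] [Module R M] (a : F →ₗ[R] M) (h : ∀ x, a x = 0 → ∃ n : ℕ, f ^ n • x = 0) :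
    Function.Injective (a.baseChange (Localization.Away f)) := by
  rw [injective_iff_map_eq_zero]
  intro y hy
  obtain ⟨⟨x, t⟩, hxt⟩ := IsLocalizedModule.surj (Submonoid.powers f)
    (TensorProduct.mk R (Localization.Away f) F 1) y
  have h1 : TensorProduct.mk R (Localization.Away f) M 1 (a x) = 0 := by
    have : a.baseChange (Localization.Away f) (t • y) = 0 := by
      rw [Submonoid.smul_def, LinearMap.map_smul_of_tower, hy, smul_zero]
    rw [hxt] at this
    simpa using this
  rw [IsLocalizedModule.eq_zero_iff (Submonoid.powers f)] at h1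
  obtain ⟨⟨_, n, rfl⟩, hn⟩ := h1
  rw [Submonoid.smul_def, ← map_smul] at hn
  obtain ⟨m, hm⟩ := h _ hn
  have h3 : TensorProduct.mk R (Localization.Away f) F 1 x = 0 := by
    rw [IsLocalizedModule.eq_zero_iff (Submonoid.powers f)]
    exact ⟨⟨f ^ m * f ^ n, m + n, pow_add f m n⟩, by rw [Submonoid.smul_def, mul_smul]; exact hm⟩
  rw [h3] at hxt
  exact IsLocalizedModule.smul_injective (TensorProduct.mk R (Localization.Away f) F 1) t (by
    change t • y = t • 0
    rw [smul_zero]; exact hxt)

/-- geometric irreducibility of fibres is stable under base change. -/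
theorem geomIrred_baseChange (R A B : Type u) [CommRing R] [CommRing A] [CommRing B] [Algebra R A] [Algebra R B]
    (h : FlatCA.GeomIrredFibres R B) : FlatCA.GeomIrredFibres A (A ⊗[R] B) := by
  have hp := AlgebraicGeometry.isPullback_SpecMap_of_isPushout _ _ _ _ (CommRingCat.isPushout_tensorProduct R A B)
  exact CategoryTheory.MorphismProperty.of_isPullback hp.flip h

/-- Stacks Tag 05IB: let S be a finitely presented R-algebra, N a finitely presented S-module which is flat over R, and 𝔯 a prime of R such that N/S/R admits a complete dévissage over 𝔯. Then for some f ∈ R outside 𝔯 the localization N_f is projective over R_f, and is R_f-isomorphic to a finite product of free modules B_i^{r_i} over smooth R_f-algebras B_i whose fibres are geometrically irreducible. -/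
theorem result {R S : Type u} [CommRing R] [CommRing S] [Algebra R S] [Algebra.FinitePresentation R S]
    (N : Type u) [AddCommGroup N] [Module S N] [Module R N] [IsScalarTower R S N] [Module.FinitePresentation S N] [Module.Flat R N]
    (rr : Ideal R) [rr.IsPrime] (D : FlatCA.CompleteDevissage R S N rr) :
    ∃ f : R, f ∉ rr ∧
      Module.Projective (Localization.Away f) (LocalizedModule (Submonoid.powers f) N) ∧
      ∃ (k : ℕ) (B : Fin k → Type u) (_ : ∀ i, CommRing (B i)) (_ : ∀ i, Algebra (Localization.Away f) (B i)) (r : Fin k → ℕ),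
        (∀ i, Algebra.Smooth (Localization.Away f) (B i) ∧ FlatCA.GeomIrredFibres (Localization.Away f) (B i)) ∧
        Nonempty (LocalizedModule (Submonoid.powers f) N ≃ₗ[Localization.Away f] (∀ i, Fin (r i) → B i)) := by
  classical
  -- choose the `f_i`
  have hex : ∀ i, ∃ f : R, f ∉ rr ∧ (i < D.n → ∀ x, D.α i x = 0 → ∃ n : ℕ, f ^ n • x = 0) := by
    intro i
    by_cases hi : i < D.n
    · obtain ⟨q, hq, hqrr⟩ := exists_over D i hi
      obtain ⟨f, hf, h⟩ := (step D i hi q hqrr (flatAt_all D i hi q hqrr)).2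
      exact ⟨f, hf, fun _ ↦ h⟩
    · exact ⟨1, fun h ↦ (Ideal.IsPrime.ne_top (I := rr) inferInstance) ((Ideal.eq_top_iff_one _).2 h), fun h ↦ absurd h hi⟩
  choose fi hfi hker using hex
  let f : R := ∏ i ∈ Finset.range D.n, fi i
  have hf : f ∉ rr := by
    intro h
    obtain ⟨i, _, hi⟩ := (Ideal.IsPrime.prod_mem_iff (p := rr)).1 h
    exact hfi i hi
  have hkerf : ∀ i, i < D.n → ∀ x, D.α i x = 0 → ∃ n : ℕ, f ^ n • x = 0 := by
    intro i hi x hx
    obtain ⟨n, hn⟩ := hker i hi x hx
    obtain ⟨c, hc⟩ := Finset.dvd_prod_of_mem fi (Finset.mem_range.2 hi)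
    refine ⟨n, ?_⟩
    change (∏ i ∈ Finset.range D.n, fi i) ^ n • x = 0
    rw [hc, mul_pow, mul_comm, mul_smul, hn, smul_zero]
  clear_value f
  let Rf := Localization.Away f
  have hpos := D.pos
  -- the modules
  have hprojB : ∀ i, i < D.n → Module.Projective Rf (Rf ⊗[R] D.B i) := by
    intro i hi
    have := D.smooth i hi
    have := ProjGeomInt.projective_of_smooth R (D.B i) (D.geomIrred i hi)
    infer_instance
  -- injections
  let a : ∀ i, (Fin (D.r i) → Rf ⊗[R] D.B i) →ₗ[Rf] Rf ⊗[R] D.M i := fun i ↦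
    (((D.α i).restrictScalars R).baseChange Rf) ∘ₗ
      (TensorProduct.piRight R Rf Rf (fun _ : Fin (D.r i) ↦ D.B i)).symm.toLinearMap
  have ha : ∀ i, i < D.n → Function.Injective (a i) := by
    intro i hi
    exact (injective_baseChange f ((D.α i).restrictScalars R) (hkerf i hi)).comp (LinearEquiv.injective _)
  have harange : ∀ i, LinearMap.range (a i) = LinearMap.range (((D.α i).restrictScalars R).baseChange Rf) := by
    intro i
    rw [LinearMap.range_comp, LinearEquiv.range, Submodule.map_top]
  have hlast : Function.Bijective (a (D.n - 1)) := by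
    refine ⟨ha _ (by omega), ?_⟩
    rw [← LinearMap.range_eq_top, harange, LinearMap.range_eq_top]
    exact LinearMap.lTensor_surjective Rf (g := (D.α (D.n - 1)).restrictScalars R) D.cokerLast
  have hstep : ∀ i (hi : i + 1 < D.n), Module.Projective Rf (Rf ⊗[R] D.M (i + 1)) →
      Nonempty ((Rf ⊗[R] D.M i) ≃ₗ[Rf] (Fin (D.r i) → Rf ⊗[R] D.B i) × (Rf ⊗[R] D.M (i + 1))) := by
    intro i hi _
    have := tower_RB'M D i
    refine DevissageAux.nonempty_equiv_prod (a i) (ha i (by omega))
      (((g D hi).restrictScalars R).baseChange Rf)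
      (LinearMap.lTensor_surjective Rf (g := (g D hi).restrictScalars R) (g_surjective D hi)) ?_
    rw [LinearMap.exact_iff, harange]
    have : Function.Exact (((D.α i).restrictScalars R).baseChange Rf) (((g D hi).restrictScalars R).baseChange Rf) :=
      lTensor_exact (f := (D.α i).restrictScalars R) (g := (g D hi).restrictScalars R) Rf (exact_g D hi) (g_surjective D hi)
    exact LinearMap.exact_iff.1 this
  have key : ∀ k i, i + k + 1 = D.n → Module.Projective Rf (Rf ⊗[R] D.M i) := by
    intro k
    induction k with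
    | zero =>
      intro i hi
      obtain rfl : i = D.n - 1 := by omega
      have := hprojB (D.n - 1) (by omega)
      have := DevissageAux.projective_pi Rf (D.r (D.n - 1)) (Rf ⊗[R] D.B (D.n - 1))
      exact Module.Projective.of_equiv' (LinearEquiv.ofBijective (a (D.n - 1)) hlast)
    | succ k ih =>
      intro i hi
      have := hprojB i (by omega)
      have := DevissageAux.projective_pi Rf (D.r i) (Rf ⊗[R] D.B i)
      have := ih (i + 1) (by omega)
      obtain ⟨e⟩ := hstep i (by omega) this
      exact Module.Projective.of_equiv' e.symm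
  have := tower_RSM D
  let eN : LocalizedModule (Submonoid.powers f) N ≃ₗ[Rf] Rf ⊗[R] D.M 0 :=
    LocalizedModule.equivTensorProduct (Submonoid.powers f) N ≪≫ₗ
      LinearEquiv.baseChange R Rf _ _ (D.isoN.restrictScalars R)
  refine ⟨f, hf, ?_, ?_⟩
  · have := key (D.n - 1) 0 (by omega)
    exact Module.Projective.of_equiv' eN.symm
  · refine ⟨D.n, fun i ↦ Rf ⊗[R] D.B i, inferInstance, inferInstance, fun i ↦ D.r i, ?_, ?_⟩
    · intro i
      have := D.smooth i i.2
      exact ⟨inferInstance, geomIrred_baseChange R Rf (D.B i) (D.geomIrred i i.2)⟩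
    · obtain ⟨m, hm⟩ : ∃ m, D.n = m + 1 := ⟨D.n - 1, by omega⟩
      have heq : Nonempty ((Rf ⊗[R] D.M 0) ≃ₗ[Rf] (∀ i : Fin (m + 1), Fin (D.r i) → Rf ⊗[R] D.B i)) := by
        refine DevissageAux.nonempty_equiv_pi m (fun i ↦ Rf ⊗[R] D.M i) (fun i ↦ Fin (D.r i) → Rf ⊗[R] D.B i) ?_ ?_
        · obtain rfl : m = D.n - 1 := by omega
          exact ⟨(LinearEquiv.ofBijective (a (D.n - 1)) hlast).symm⟩
        · intro i hi
          have hi' : i + 1 < D.n := by omega
          exact hstep i hi' (key (D.n - (i + 1) - 1) (i + 1) (by omega))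
      obtain ⟨e⟩ := heq
      rw [hm]
      exact ⟨eN ≪≫ₗ e⟩

end Groth.Agent.S1254
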