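import Groth.Statements.S1202
import Groth.Agent.S1252
import Groth.Agent.S1254
import Groth.Agent.S0387
import Groth.Agent.S1231
import Groth.Agent.Flat2B.NhdBasic
import Groth.Agent.Flat2B.FlatBC
import Groth.Agent.Flat2B.FgLoc
import Groth.Agent.Flat2A.Fiber
import Groth.Agent.Flat2C.SupportBaseChange

set_option autoImplicit false
universe u
open FlatMor

namespace Groth.Agent.S1202

open TensorProduct

/-- transport of projectivity to the model `S' ⊗[S] N` -/
theorem projective_restrictScalars_of_isBaseChange {S R' S' N M : Type u} [CommRing S] [CommRing R'] [CommRing S']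
    [Algebra S S'] [Algebra R' S'] [AddCommGroup N] [Module S N] [AddCommGroup M] [Module S' M] [Module S M]
    [IsScalarTower S S' M] [Module R' M] [IsScalarTower R' S' M] (f : N →ₗ[S] M) (hf : IsBaseChange S' f)
    [Module.Projective R' M] : Module.Projective R' (RestrictScalars R' S' (S' ⊗[S] N)) := by
  let e : S' ⊗[S] N ≃ₗ[S'] M := hf.equiv
  let e' : RestrictScalars R' S' (S' ⊗[S] N) ≃ₗ[R'] M :=
    { (RestrictScalars.addEquiv R' S' (S' ⊗[S] N)).trans e.toAddEquiv with
      map_smul' := by
        intro r x
        change e ((RestrictScalars.addEquiv R' S' (S' ⊗[S] N)) (r • x)) = r • e ((RestrictScalars.addEquiv R' S' (S' ⊗[S] N)) x)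
        rw [RestrictScalars.addEquiv_map_smul, map_smul, algebraMap_smul] }
  exact Module.Projective.of_equiv e'.symm

/-- the case where `N` is flat over `R` and `q` lies in the support of `N` -/
theorem core {R S : Type u} [CommRing R] [CommRing S] [Algebra R S] [Algebra.FinitePresentation R S]
    (N : Type u) [AddCommGroup N] [Module S N] [Module R N] [IsScalarTower R S N] [Module.FinitePresentation S N]
    (p : Ideal R) [p.IsPrime] (q : Ideal S) [q.IsPrime] [q.LiesOver p] (hflat : Module.Flat R N)
    (hsupp : (⟨q, inferInstance⟩ : PrimeSpectrum S) ∈ Module.support S N) :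
    ∃ (R' S' M : Type u) (_ : CommRing R') (_ : CommRing S') (_ : Algebra R R') (_ : Algebra S S') (_ : Algebra R' S')
      (_ : Algebra R S') (_ : IsScalarTower R R' S') (_ : IsScalarTower R S S')
      (p' : Ideal R') (q' : Ideal S') (_ : p'.IsPrime) (_ : q'.IsPrime)
      (_ : AddCommGroup M) (_ : Module S M) (_ : Module S' M) (_ : IsScalarTower S S' M)
      (_ : Module R' M) (_ : IsScalarTower R' S' M) (f : N →ₗ[S] M),
      FlatCA.IsEtaleNhd R R' p p' ∧ FlatCA.IsEtaleNhd S S' q q' ∧ q'.LiesOver p' ∧ IsBaseChange S' f ∧
      Module.Projective R' M := by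
  have hx : ∃ x ∈ Module.support (p.Fiber S) (FlatCA.fiberMod p S N), x.asIdeal = FlatCA.fiberIdeal p q := by
    refine ⟨⟨FlatCA.fiberIdeal p q, Flat2A.Fiber.fiberIdeal_isPrime p q⟩, ?_, rfl⟩
    let _ : Algebra S (p.Fiber S) := Algebra.TensorProduct.rightAlgebra
    have := (Flat2C.SupportBaseChange.mem_support_baseChange_iff (B := S) (B' := p.Fiber S) N
      ⟨FlatCA.fiberIdeal p q, Flat2A.Fiber.fiberIdeal_isPrime p q⟩).mpr ?_
    · exact this
    · have h1 : PrimeSpectrum.comap (algebraMap S (p.Fiber S))
          ⟨FlatCA.fiberIdeal p q, Flat2A.Fiber.fiberIdeal_isPrime p q⟩ = ⟨q, inferInstance⟩ :=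
        PrimeSpectrum.ext (Flat2A.Fiber.comap_fiberIdeal p q)
      rw [h1]
      exact hsupp
  obtain ⟨R', S', _, _, _, _, _, _, _, _, p', q', _, _, hp', hq', hqp, H⟩ := Groth.Agent.S1252.result N p q hx
  obtain ⟨D, -⟩ := H (S' ⊗[S] N) (TensorProduct.mk S S' N 1) (TensorProduct.isBaseChange S N S')
  have hR'N : Module.Flat R (S' ⊗[S] N) := by
    have := hq'.1
    exact Flat2B.FlatBC.flat_tensorProduct R S S' N
  have := hp'.1
  have : IsScalarTower R' S' (S' ⊗[S] N) := inferInstance
  have : Module.Flat R' (S' ⊗[S] N) := by
    refine ((Groth.Agent.S1231.result (R := R) (T := R') (C := S') (S' ⊗[S] N) q').2).mp hR'N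
  have := hq'.1
  have : Algebra.FinitePresentation R S' := Algebra.FinitePresentation.trans R S S'
  have : Algebra.FinitePresentation R' S' :=
    Algebra.FinitePresentation.of_restrict_scalars_finitePresentation R R' S'
  obtain ⟨f, hf, hproj, -⟩ := Groth.Agent.S1254.result (R := R') (S := S') (S' ⊗[S] N) p' D
  obtain ⟨hp1, hp2⟩ := Flat2B.NhdBasic.map_away f p' hf (Localization.Away f)
  let f' := algebraMap R' S' f
  have hf' : f' ∉ q' := by
    intro h
    apply hf
    rw [hqp.over]
    exact h
  let S'' := Localization.Away f'
  obtain ⟨hq1, hq2⟩ := Flat2B.NhdBasic.map_away f' q' hf' S''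
  have hu : IsUnit (algebraMap R' S'' f) := by
    rw [IsScalarTower.algebraMap_apply R' S' S'']
    exact IsLocalization.Away.algebraMap_isUnit f'
  let _ : Algebra (Localization.Away f) S'' := (IsLocalization.Away.lift f hu).toAlgebra
  have : IsScalarTower R' (Localization.Away f) S'' := IsScalarTower.of_algebraMap_eq fun x =>
    (IsLocalization.Away.lift_eq f hu x).symm
  let M := LocalizedModule (Submonoid.powers f') (S' ⊗[S] N)
  let _ : Module (Localization.Away f) M := Module.compHom M (algebraMap (Localization.Away f) S'')
  have : IsScalarTower (Localization.Away f) S'' M := IsScalarTower.of_algebraMap_smul fun r x => rfl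
  have hRM : IsScalarTower R' (Localization.Away f) M := by
    refine IsScalarTower.of_algebraMap_smul fun r x => ?_
    rw [← algebraMap_smul S'' (algebraMap R' (Localization.Away f) r) x, ← IsScalarTower.algebraMap_apply,
      algebraMap_smul]
  let g : S' ⊗[S] N →ₗ[S'] M := LocalizedModule.mkLinearMap (Submonoid.powers f') (S' ⊗[S] N)
  have hg : IsLocalizedModule (Submonoid.powers f) (g.restrictScalars R') :=
    IsLocalizedModule.restrictScalars_powers f g
  let e := (IsLocalizedModule.iso (Submonoid.powers f) (g.restrictScalars R')).extendScalarsOfIsLocalization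
    (Submonoid.powers f) (Localization.Away f)
  have hprojM : Module.Projective (Localization.Away f) M := Module.Projective.of_equiv e
  have hbc1 : IsBaseChange S'' g := (isLocalizedModule_iff_isBaseChange (Submonoid.powers f') S'' g).mp inferInstance
  have hbc : IsBaseChange S'' (g.restrictScalars S ∘ₗ (TensorProduct.mk S S' N 1)) :=
    IsBaseChange.comp (TensorProduct.isBaseChange S N S') hbc1
  refine ⟨Localization.Away f, S'', M, inferInstance, inferInstance, inferInstance, inferInstance, inferInstance,
    inferInstance, ?_, inferInstance, _, _, hp1, hq1, inferInstance, inferInstance, inferInstance, ?_, inferInstance,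
    inferInstance, _, Flat2B.NhdBasic.trans hp' hp2, Flat2B.NhdBasic.trans hq' hq2, ?_, hbc, hprojM⟩
  · refine IsScalarTower.of_algebraMap_eq fun x => ?_
    rw [IsScalarTower.algebraMap_apply R R' (Localization.Away f),
      ← IsScalarTower.algebraMap_apply R' (Localization.Away f) S'', ← IsScalarTower.algebraMap_apply R R' S'']
  · infer_instance
  · constructor
    have h1 : q' = (q'.map (algebraMap S' S'')).comap (algebraMap S' S'') := hq2.2.choose.over
    have h2 : ((q'.map (algebraMap S' S'')).comap (algebraMap (Localization.Away f) S'')).comap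
        (algebraMap R' (Localization.Away f)) = p' := by
      rw [Ideal.comap_comap, ← IsScalarTower.algebraMap_eq, IsScalarTower.algebraMap_eq R' S' S'',
        ← Ideal.comap_comap, ← h1]
      exact hqp.over.symm
    have h3 := IsLocalization.map_under (Submonoid.powers f) (Localization.Away f)
      ((q'.map (algebraMap S' S'')).comap (algebraMap (Localization.Away f) S''))
    exact (congrArg (Ideal.map (algebraMap R' (Localization.Away f))) h2).symm.trans h3

/-- Stacks Tag 05ID (ring form, X = Spec S and S = Spec R affine): let S be a finitely presented R-algebra, N a finitely presented S-module and q a prime of S over p such that N_q is flat over R. Then there are an étale R-algebra R' with a prime p' over p having the same residue field, an étale S-algebra S' with a prime q' over q having the same residue field, and a compatible R'-algebra structure on S' with q' over p', such that S' ⊗_S N is a projective R'-module. -/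
theorem result {R S : Type u} [CommRing R] [CommRing S] [Algebra R S] [Algebra.FinitePresentation R S]
    (N : Type u) [AddCommGroup N] [Module S N] [Module R N] [IsScalarTower R S N] [Module.FinitePresentation S N]
    (p : Ideal R) [p.IsPrime] (q : Ideal S) [q.IsPrime] [q.LiesOver p] (hflat : FlatCA.FlatAt R q N) :
    ∃ (R' S' : Type u) (_ : CommRing R') (_ : CommRing S') (_ : Algebra R R') (_ : Algebra S S') (_ : Algebra R' S')
      (_ : Algebra R S') (_ : IsScalarTower R R' S') (_ : IsScalarTower R S S')
      (p' : Ideal R') (q' : Ideal S') (_ : p'.IsPrime) (_ : q'.IsPrime),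
      FlatCA.IsEtaleNhd R R' p p' ∧ FlatCA.IsEtaleNhd S S' q q' ∧ q'.LiesOver p' ∧
      Module.Projective R' (RestrictScalars R' S' (S' ⊗[S] N)) := by
  by_cases hsupp : (⟨q, inferInstance⟩ : PrimeSpectrum S) ∈ Module.support S N
  · -- shrink `S` so that `N` becomes flat over `R`
    have hopen := Groth.Agent.S0387.result (R := R) (S := S) (M := N)
    obtain ⟨_, ⟨_, ⟨g, rfl⟩, rfl⟩, hgq, hgU⟩ := PrimeSpectrum.isBasis_basic_opens.exists_subset_of_mem_open
      (show (⟨q, inferInstance⟩ : PrimeSpectrum S) ∈ _ from hflat) hopen
    let Sg := Localization.Away g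
    let Ng := LocalizedModule (Submonoid.powers g) N
    have hflatg : Module.Flat R Ng := Flat2B.FgLoc.flat_localizedAway_of_forall_prime g fun Q _ hgQ =>
      hgU (show (⟨Q, inferInstance⟩ : PrimeSpectrum S) ∈ (PrimeSpectrum.basicOpen g : Set (PrimeSpectrum S)) from hgQ)
    obtain ⟨hq1, hq2⟩ := Flat2B.NhdBasic.map_away g q hgq Sg
    have hqover : (q.map (algebraMap S Sg)).LiesOver q := hq2.2.choose
    have hqp : (q.map (algebraMap S Sg)).LiesOver p := Ideal.LiesOver.trans _ q p
    have hbc1 : IsBaseChange Sg (LocalizedModule.mkLinearMap (Submonoid.powers g) N) :=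
      (isLocalizedModule_iff_isBaseChange (Submonoid.powers g) Sg _).mp inferInstance
    have hsuppg : (⟨q.map (algebraMap S Sg), inferInstance⟩ : PrimeSpectrum Sg) ∈ Module.support Sg Ng := by
      rw [← hbc1.equiv.support_eq, Flat2C.SupportBaseChange.mem_support_baseChange_iff]
      have h1 : PrimeSpectrum.comap (algebraMap S Sg) ⟨q.map (algebraMap S Sg), inferInstance⟩ =
          ⟨q, inferInstance⟩ := PrimeSpectrum.ext hqover.over.symm
      rw [h1]
      exact hsupp
    have : Algebra.FinitePresentation R Sg := Algebra.FinitePresentation.trans R S Sg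
    obtain ⟨R', S', M, _, _, _, _, _, _, _, _, p', q', _, _, _, _, _, _, _, _, f, h1, h2, h3, h4, h5⟩ :=
      core (R := R) (S := Sg) Ng p (q.map (algebraMap S Sg)) hflatg hsuppg
    let _ : Algebra S S' := ((algebraMap Sg S').comp (algebraMap S Sg)).toAlgebra
    have : IsScalarTower S Sg S' := IsScalarTower.of_algebraMap_eq fun x => rfl
    let _ : Module S M := Module.compHom M (algebraMap S Sg)
    have : IsScalarTower S Sg M := IsScalarTower.of_algebraMap_smul fun r x => rfl
    have : IsScalarTower S S' M := by
      refine IsScalarTower.of_algebraMap_smul fun r x => ?_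
      rw [IsScalarTower.algebraMap_apply S Sg S', algebraMap_smul, algebraMap_smul]
    have hbc : IsBaseChange S' (f.restrictScalars S ∘ₗ (LocalizedModule.mkLinearMap (Submonoid.powers g) N)) :=
      IsBaseChange.comp hbc1 h4
    refine ⟨R', S', inferInstance, inferInstance, inferInstance, inferInstance, inferInstance, inferInstance,
      inferInstance, ?_, p', q', inferInstance, inferInstance, h1, Flat2B.NhdBasic.trans hq2 h2, h3,
      projective_restrictScalars_of_isBaseChange _ hbc⟩
    refine IsScalarTower.of_algebraMap_eq fun x => ?_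
    rw [IsScalarTower.algebraMap_apply R Sg S', IsScalarTower.algebraMap_apply R S Sg]
    rfl
  · rw [Module.mem_support_iff_of_finite] at hsupp
    obtain ⟨h, hann, hhq⟩ := SetLike.not_le_iff_exists.mp hsupp
    obtain ⟨hq1, hq2⟩ := Flat2B.NhdBasic.map_away h q hhq (Localization.Away h)
    have hqover : (q.map (algebraMap S (Localization.Away h))).LiesOver q := hq2.2.choose
    have hsub : Subsingleton ((Localization.Away h) ⊗[S] N) := by
      refine subsingleton_of_forall_eq 0 fun x => ?_
      have hu : IsUnit (algebraMap S (Localization.Away h) h) := IsLocalization.Away.algebraMap_isUnit h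
      have h0 : (algebraMap S (Localization.Away h) h) • x = 0 := by
        induction x with
        | zero => simp
        | add x y hx hy => rw [smul_add, hx, hy, add_zero]
        | tmul a n =>
          rw [algebraMap_smul, TensorProduct.smul_tmul', TensorProduct.smul_tmul,
            Module.mem_annihilator.mp hann n, TensorProduct.tmul_zero]
      exact (hu.smul_eq_zero).mp h0
    have : Subsingleton (RestrictScalars R (Localization.Away h) ((Localization.Away h) ⊗[S] N)) := hsub
    exact ⟨R, Localization.Away h, inferInstance, inferInstance, inferInstance, inferInstance, inferInstance,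
      inferInstance, inferInstance, inferInstance, p, _, inferInstance, hq1, Flat2B.NhdBasic.refl p, hq2,
      Ideal.LiesOver.trans _ q p, inferInstance⟩

end Groth.Agent.S1202
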