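import Groth.Statements.S1268
import Groth.Agent.Flat2B.NhdProj

set_option autoImplicit false
universe u
open FlatMor

namespace Groth.Agent.S1268

open AlgebraicGeometry CategoryTheory TensorProduct in
/-- Stacks Tag 05ME (ring form, X = Spec S and S = Spec R affine): let S be a finitely presented R-algebra, N a finitely presented S-module and q a prime of S over p with N_q flat over R. Then there is an étale R-algebra R' with a prime p' over p having the same residue field such that, for the base changes S', N' of S, N to R' (any models), there is an S'-algebra C with Spec C → Spec S' an open immersion (an affine open U' of X ×_S S'), containing a point lying over both q and p' (there is exactly one such point of X ×_S S'), such that C ⊗_{S'} N' (the sections of the pulled-back module over U') is a projective R'-module. -/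
theorem result {R S : Type u} [CommRing R] [CommRing S] [Algebra R S] [Algebra.FinitePresentation R S]
    (N : Type u) [AddCommGroup N] [Module S N] [Module R N] [IsScalarTower R S N] [Module.FinitePresentation S N]
    (p : Ideal R) [p.IsPrime] (q : Ideal S) [q.IsPrime] [q.LiesOver p] (hflat : FlatCA.FlatAt R q N) :
    ∃ (R' : Type u) (_ : CommRing R') (_ : Algebra R R') (p' : Ideal R') (_ : p'.IsPrime), FlatCA.IsEtaleNhd R R' p p' ∧
      ∀ (S' N' : Type u) [CommRing S'] [Algebra R S'] [Algebra S S'] [Algebra R' S'] [IsScalarTower R S S'] [IsScalarTower R R' S']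
        [Algebra.IsPushout R S R' S']
        [AddCommGroup N'] [Module S' N'] [Module S N'] [IsScalarTower S S' N']
        (f : N →ₗ[S] N'), IsBaseChange S' f →
        ∃ (C : Type u) (_ : CommRing C) (_ : Algebra S' C) (_ : Algebra R' C) (_ : IsScalarTower R' S' C)
          (x' : Ideal C) (_ : x'.IsPrime),
          IsOpenImmersion (Spec.map (CommRingCat.ofHom (algebraMap S' C))) ∧
          (x'.comap (algebraMap S' C)).LiesOver q ∧ (x'.comap (algebraMap S' C)).LiesOver p' ∧
          Module.Projective R' (RestrictScalars R' C (C ⊗[S'] N')) := by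
  obtain ⟨R', _, _, p', _, T, C, _, _, _, _, _, _, _, hT, _, _, _, _, _, x', hx', hn, hopen, hx1, hx2, hpr⟩ :=
    Groth.Agent.Flat2B.NhdProj.general_proj N p q hflat
  refine ⟨R', inferInstance, inferInstance, p', inferInstance, hn, ?_⟩
  intro S' N' _ _ _ _ _ _ _ _ _ _ _ f hf
  obtain ⟨_, _, _⟩ := Groth.Agent.Flat2B.NhdProj.exists_algebra_of_isPushout (R := R) (S := S) (R' := R') (S' := S')
    (A := T)
  have : IsScalarTower R S' T := IsScalarTower.to₁₃₄ R S S' T
  have hpo : Algebra.IsPushout S S S' T := by
    rw [← Algebra.IsPushout.comp_iff R S R' (S' := S') (T := S) (T' := T)]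
    exact hT
  have hbij : Function.Bijective (algebraMap S' T) :=
    Groth.Agent.Flat2A.ImpurityBC.bijective_of_isPushout (R := S) (S := S') (R' := S) (S' := T) hpo.symm
      Function.bijective_id
  have hloc : IsLocalization.Away (1 : S') T := IsLocalization.away_of_isUnit_of_bijective T isUnit_one hbij
  let _ : Algebra S' C := ((algebraMap T C).comp (algebraMap S' T)).toAlgebra
  have : IsScalarTower S' T C := IsScalarTower.of_algebraMap_eq' rfl
  have : IsScalarTower S S' C := IsScalarTower.to₁₂₄ S S' T C
  have : IsScalarTower R' S' C := IsScalarTower.to₁₂₄ R' S' T C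
  have hopen2 : IsOpenImmersion (Spec.map (CommRingCat.ofHom (algebraMap S' C))) := by
    have h1 : IsOpenImmersion (Spec.map (CommRingCat.ofHom (algebraMap S' T))) :=
      IsOpenImmersion.of_isLocalization (1 : S')
    have h2 : Spec.map (CommRingCat.ofHom (algebraMap S' C)) =
        Spec.map (CommRingCat.ofHom (algebraMap T C)) ≫ Spec.map (CommRingCat.ofHom (algebraMap S' T)) := by
      rw [← Spec.map_comp, ← CommRingCat.ofHom_comp, ← IsScalarTower.algebraMap_eq S' T C]
    rw [h2]
    infer_instance
  have hx3 : (x'.comap (algebraMap S' C)) = (x'.comap (algebraMap T C)).comap (algebraMap S' T) := by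
    rw [Ideal.comap_comap, ← IsScalarTower.algebraMap_eq S' T C]
  refine ⟨C, inferInstance, inferInstance, inferInstance, inferInstance, x', hx', hopen2, ?_, ?_, ?_⟩
  · rw [hx3]
    exact Groth.Agent.Flat2B.NhdProj.comap_liesOver q _
  · rw [hx3]
    exact Groth.Agent.Flat2B.NhdProj.comap_liesOver p' _
  · have hbc := hf.comp (TensorProduct.isBaseChange S' N' C)
    have hpr2 : Module.Projective R' (C ⊗[S'] N') := Module.Projective.of_equiv (hbc.equiv.restrictScalars R')
    exact Module.Projective.of_equiv (Groth.Agent.Flat2B.CoverProj.restrictEquiv R' C S' N').symm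

end Groth.Agent.S1268
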