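import Groth.Statements.S1244
import Mathlib.AlgebraicGeometry.ZariskisMainTheorem
import Mathlib.AlgebraicGeometry.QuasiAffine

set_option autoImplicit false
universe u
open FlatMor

namespace Groth.Agent.S1244

open AlgebraicGeometry CategoryTheory

/-- the projections from a limit with surjective transition maps are surjective -/
lemma pi_surjective {A : Type u} [CommRing A] (A' : ℕ → Type u) [∀ n, CommRing (A' n)]
    (φ : ∀ n, A' (n + 1) →+* A' n) (π : ∀ n, A →+* A' n) (hlim : FlatCA.IsRingLimit A A' φ π)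
    (hsurj : ∀ n, Function.Surjective (φ n)) (n : ℕ) : Function.Surjective (π n) := by
  -- first for n = 0-like reduction: build compatible sequences starting at level n
  intro x
  obtain ⟨h1, h2, h3⟩ := hlim
  choose s hs using hsurj
  -- upper part
  let up : ∀ k, A' (n + k) := fun k => Nat.rec (motive := fun k => A' (n + k)) x (fun k y => s (n + k) y) k
  have hup : ∀ k, φ (n + k) (up (k + 1)) = up k := fun k => hs (n + k) (up k)
  -- the set of sequences
  -- for m ≤ n define by descending
  let down : ∀ (m k : ℕ), A' (m + k) → A' m := fun m k =>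
    Nat.rec (motive := fun k => A' (m + k) → A' m) id (fun k f y => f (φ (m + k) y)) k
  have hdown : ∀ m k (y : A' (m + (k + 1))), down m (k + 1) y = down m k (φ (m + k) y) := fun m k y => rfl
  have hdown' : ∀ m k (y : A' (m + (k + 1))) (y' : A' ((m + 1) + k)), HEq y y' →
      down m (k + 1) y = φ m (down (m + 1) k y') := by
    intro m k
    induction k with
    | zero =>
      intro y y' hyy
      have : y = y' := eq_of_heq hyy
      subst this
      rfl
    | succ k ih =>
      intro y y' hyy
      rw [hdown m (k + 1) y, hdown (m + 1) k y']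
      apply ih
      have e : m + (k + 1) = (m + 1) + k := by omega
      have key : ∀ (a b : ℕ) (hab : a = b) (u : A' (a + 1)) (v : A' (b + 1)), HEq u v →
          HEq (φ a u) (φ b v) := by
        intro a b hab u v huv
        subst hab
        have := eq_of_heq huv
        subst this
        rfl
      exact key _ _ e _ _ hyy
  -- candidate sequence: at level m, take down m n (cast of up m : A' (n + m) to A' (m + n))
  have hc : ∀ m, A' (n + m) = A' (m + n) := fun m => by rw [Nat.add_comm]
  let seq : ∀ m, A' m := fun m => down m n (cast (hc m) (up m))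
  have hseq : ∀ m, φ m (seq (m + 1)) = seq m := by
    intro m
    -- seq (m+1) = down (m+1) n (up (m+1)); φ m of it = down m (n+1) (up (m+1)) = down m n (φ (m+n) ..)
    have e1 : m + (n + 1) = (m + 1) + n := by omega
    have e1' : A' ((m + 1) + n) = A' (m + (n + 1)) := by rw [e1]
    have := hdown' m n (cast e1' (cast (hc (m + 1)) (up (m + 1)))) (cast (hc (m + 1)) (up (m + 1)))
      (cast_heq _ _)
    change φ m (down (m + 1) n (cast (hc (m + 1)) (up (m + 1)))) = down m n (cast (hc m) (up m))
    rw [← this, hdown]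
    congr 1
    apply eq_of_heq
    refine HEq.trans ?_ (cast_heq _ _).symm
    rw [← hup m]
    have key : ∀ (a b : ℕ) (hab : a = b) (u : A' (a + 1)) (v : A' (b + 1)), HEq u v →
          HEq (φ a u) (φ b v) := by
        intro a b hab u v huv
        subst hab
        have := eq_of_heq huv
        subst this
        rfl
    refine key _ _ (Nat.add_comm _ _) _ _ ?_
    exact (cast_heq _ _).trans (cast_heq _ _)
  obtain ⟨a, ha⟩ := h3 seq hseq
  -- now π n a = seq n = down n n (up n); need = x
  refine ⟨a, ?_⟩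
  rw [ha n]
  -- down n k (up k) = x
  have : ∀ k, down n k (up k) = x := by
    intro k
    induction k with
    | zero => rfl
    | succ k ih => rw [hdown, hup, ih]
  have h := this n
  change down n n (cast (hc n) (up n)) = x
  rw [cast_eq]
  exact h

lemma isUnit_of_surjective_of_ker_nil {R S : Type u} [CommRing R] [CommRing S] (f : R →+* S)
    (hf : Function.Surjective f) (hnil : ∀ x ∈ RingHom.ker f, IsNilpotent x) (x : R)
    (hx : IsUnit (f x)) : IsUnit x := by
  obtain ⟨z, hz⟩ := hx.exists_right_inv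
  obtain ⟨y, rfl⟩ := hf z
  have h1 : IsNilpotent (x * y - 1) := hnil _ (by
    rw [RingHom.mem_ker, map_sub, map_mul, map_one, hz, sub_self])
  have h2 : IsUnit (x * y) := by
    have := h1.isUnit_add_one
    simpa using this
  exact isUnit_of_mul_isUnit_left h2

/-- units lift along the projection to level zero -/
lemma isUnit_of_isUnit_pi_zero {A : Type u} [CommRing A] (A' : ℕ → Type u) [∀ n, CommRing (A' n)]
    (φ : ∀ n, A' (n + 1) →+* A' n) (π : ∀ n, A →+* A' n) (hlim : FlatCA.IsRingLimit A A' φ π)
    (hsurj : ∀ n, Function.Surjective (φ n)) (hnil : ∀ n, ∀ x ∈ RingHom.ker (φ n), IsNilpotent x)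
    (a : A) (ha : IsUnit (π 0 a)) : IsUnit a := by
  obtain ⟨h1, h2, h3⟩ := hlim
  have hu : ∀ n, IsUnit (π n a) := by
    intro n
    induction n with
    | zero => exact ha
    | succ n ih =>
      rw [← h1 n] at ih
      simp only [RingHom.comp_apply] at ih
      exact isUnit_of_surjective_of_ker_nil (φ n) (hsurj n) (hnil n) (π (n+1) a) ih
  choose u hu using hu
  obtain ⟨b, hb⟩ := h3 (fun n => ((u n)⁻¹ : (A' n)ˣ)) (by
    intro n
    have : Units.map (φ n).toMonoidHom (u (n + 1)) = u n := by
      ext
      simp only [RingHom.toMonoidHom_eq_coe, Units.coe_map, MonoidHom.coe_coe, hu]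
      rw [← h1 n]; rfl
    rw [← this]
    simp)
  refine IsUnit.of_mul_eq_one b (h2 _ _ fun n => ?_)
  rw [map_mul, hb, ← hu n]
  simp


open AlgebraicGeometry CategoryTheory in
/-- Stacks Tag 0CTJ: let A be the limit of an inverse system of rings (A_n) indexed by the natural numbers whose transition maps are surjective with locally nilpotent kernels. Let T → Spec A be a monomorphism of schemes which is locally of finite type. If each Spec A_n → Spec A factors through T, then T → Spec A is an isomorphism. -/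
theorem result {A : Type u} [CommRing A] (A' : ℕ → Type u) [∀ n, CommRing (A' n)]
    (φ : ∀ n, A' (n + 1) →+* A' n) (π : ∀ n, A →+* A' n) (hlim : FlatCA.IsRingLimit A A' φ π)
    (hsurj : ∀ n, Function.Surjective (φ n)) (hnil : ∀ n, ∀ x ∈ RingHom.ker (φ n), IsNilpotent x)
    {T : Scheme.{u}} (h : T ⟶ Spec (CommRingCat.of A)) [Mono h] [LocallyOfFiniteType h]
    (hsec : ∀ n, ∃ g : Spec (CommRingCat.of (A' n)) ⟶ T, g ≫ h = Spec.map (CommRingCat.ofHom (π n))) :
    IsIso h := by
  choose g hg using hsec
  -- a quasi-compact open of T containing the image of `g 0`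
  obtain ⟨U, hU, hgU⟩ : ∃ U : T.Opens, IsCompact (U : Set T) ∧ Set.range (g 0) ⊆ U := by
    have hc : IsCompact (Set.range (g 0)) := isCompact_range (g 0).continuous
    obtain ⟨K, hK1, hK2, hK3⟩ := PrespectralSpace.exists_isCompact_and_isOpen_between hc isOpen_univ (Set.subset_univ _)
    exact ⟨⟨K, hK2⟩, hK1, hK3.1⟩
  have hstep : ∀ n, Spec.map (CommRingCat.ofHom (φ n)) ≫ g (n + 1) = g n := by
    intro n
    rw [← cancel_mono h, Category.assoc, hg, hg, ← Spec.map_comp]
    congr 1
    rw [← CommRingCat.ofHom_comp, hlim.1 n]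
  have hrange : ∀ n, Set.range (g n) ⊆ U := by
    intro n
    induction n with
    | zero => exact hgU
    | succ n ih =>
      rintro _ ⟨x, rfl⟩
      obtain ⟨y, hy⟩ : ∃ y, Spec.map (CommRingCat.ofHom (φ n)) y = x := by
        have h1 : Set.range (PrimeSpectrum.comap (φ n)) = Set.univ := by
          rw [range_comap_of_surjective _ _ (hsurj n), Set.eq_univ_iff_forall]
          intro p
          rw [PrimeSpectrum.mem_zeroLocus]
          intro z hz
          obtain ⟨k, hk⟩ := hnil n z hz
          exact p.2.mem_of_pow_mem k (by rw [hk]; exact p.asIdeal.zero_mem)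
        have h2 : x ∈ Set.range (PrimeSpectrum.comap (φ n)) := by rw [h1]; trivial
        exact h2
      rw [← hy, ← Scheme.Hom.comp_apply, hstep]
      exact ih ⟨y, rfl⟩
  have : CompactSpace U := isCompact_iff_compactSpace.mp hU
  let T' : Scheme.{u} := U
  let h' : T' ⟶ Spec (CommRingCat.of A) := U.ι ≫ h
  have : CompactSpace T' := isCompact_iff_compactSpace.mp hU
  have : QuasiCompact h' := inferInstance
  have : LocallyQuasiFinite h' := inferInstance
  have : IsOpenImmersion h'.toNormalization := inferInstance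
  have : IsAffine h'.normalization := isAffine_of_isAffineHom h'.fromNormalization
  have : T'.IsQuasiAffine := Scheme.IsQuasiAffine.of_isImmersion h'.toNormalization
  let g' : ∀ n, Spec (CommRingCat.of (A' n)) ⟶ T' := fun n =>
    IsOpenImmersion.lift U.ι (g n) (by rw [Scheme.Opens.range_ι]; exact hrange n)
  have hg' : ∀ n, g' n ≫ h' = Spec.map (CommRingCat.ofHom (π n)) := by
    intro n
    simp only [g', h', IsOpenImmersion.lift_fac_assoc, hg]
  have hstep' : ∀ n, Spec.map (CommRingCat.ofHom (φ n)) ≫ g' (n + 1) = g' n := by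
    intro n
    rw [← cancel_mono h', Category.assoc, hg', hg', ← Spec.map_comp]
    congr 1
    rw [← CommRingCat.ofHom_comp, hlim.1 n]
  -- the ring map `Γ(T') → A`
  let ψ : ∀ n, Γ(T', ⊤) ⟶ CommRingCat.of (A' n) := fun n => Spec.preimage (g' n ≫ T'.toSpecΓ)
  have hψ0 : ∀ n, Spec.map (ψ n) = g' n ≫ T'.toSpecΓ := fun n => Spec.map_preimage _
  have hψ : ∀ n, ψ (n + 1) ≫ CommRingCat.ofHom (φ n) = ψ n := by
    intro n
    apply Spec.map_injective
    rw [Spec.map_comp, hψ0, hψ0, ← Category.assoc, hstep']
  obtain ⟨ρ, hρ⟩ : ∃ ρ : Γ(T', ⊤) →+* A, ∀ n, (π n).comp ρ = (ψ n).hom := by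
    obtain ⟨h1, h2, h3⟩ := hlim
    choose ρ hρ using fun x : Γ(T', ⊤) => h3 (fun n => (ψ n).hom x) (fun n => by
      have := congr($(hψ n).hom x)
      simpa using this)
    refine ⟨{ toFun := ρ, map_one' := h2 _ _ fun n => by rw [hρ]; simp, map_zero' := h2 _ _ fun n => by rw [hρ]; simp,
              map_mul' := fun x y => h2 _ _ fun n => by rw [hρ, map_mul, map_mul, hρ, hρ],
              map_add' := fun x y => h2 _ _ fun n => by rw [hρ, map_add, map_add, hρ, hρ] }, fun n => ?_⟩
    ext x
    exact hρ x n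
  let s : Spec (CommRingCat.of A) ⟶ Spec Γ(T', ⊤) := Spec.map (CommRingCat.ofHom ρ)
  have hs0 : ∀ n, Spec.map (CommRingCat.ofHom (π n)) ≫ s = g' n ≫ T'.toSpecΓ := by
    intro n
    rw [← hψ0, ← Spec.map_comp]
    congr 1
    ext x
    exact congr($(hρ n) x)
  have hsrange : Set.range s ⊆ Set.range T'.toSpecΓ := by
    let V : (Spec (CommRingCat.of A)).Opens := s ⁻¹ᵁ T'.toSpecΓ.opensRange
    have hV : ∀ x : PrimeSpectrum A, s x ∈ Set.range T'.toSpecΓ := by
      intro x
      obtain ⟨m, hm, hxm⟩ := Ideal.exists_le_maximal x.asIdeal x.2.ne_top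
      have hπ0 : Function.Surjective (π 0) := pi_surjective A' φ π hlim hsurj 0
      have hmk : RingHom.ker (π 0) ≤ m := by
        intro z hz
        by_contra hzm
        obtain ⟨y, i, hi, hyz⟩ := hm.exists_inv hzm
        have h1 : π 0 i = 1 := by
          have := congrArg (π 0) hyz
          rw [map_add, map_mul, (RingHom.mem_ker).mp hz, mul_zero, zero_add, map_one] at this
          exact this
        have h2 : IsUnit i := isUnit_of_isUnit_pi_zero A' φ π hlim hsurj hnil i (by rw [h1]; exact isUnit_one)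
        exact hm.ne_top (Ideal.eq_top_of_isUnit_mem _ hi h2)
      have hmr : (⟨m, hm.isPrime⟩ : PrimeSpectrum A) ∈ Set.range (PrimeSpectrum.comap (π 0)) := by
        rw [range_comap_of_surjective _ _ hπ0, PrimeSpectrum.mem_zeroLocus]
        exact hmk
      obtain ⟨y, hy⟩ := hmr
      have hmV : s (⟨m, hm.isPrime⟩ : PrimeSpectrum A) ∈ T'.toSpecΓ.opensRange := by
        rw [← hy]
        refine ⟨g' 0 y, ?_⟩
        rw [← Scheme.Hom.comp_apply, ← hs0 0, Scheme.Hom.comp_apply]
        rfl
      have hspec : (x : Spec (CommRingCat.of A)) ⤳ (⟨m, hm.isPrime⟩ : PrimeSpectrum A) :=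
        (PrimeSpectrum.le_iff_specializes x ⟨m, hm.isPrime⟩).mp hxm
      exact (hspec.map s.continuous).mem_open T'.toSpecΓ.opensRange.isOpen hmV
    rintro _ ⟨x, rfl⟩
    exact hV x
  let s' : Spec (CommRingCat.of A) ⟶ T' := IsOpenImmersion.lift T'.toSpecΓ s hsrange
  have hs' : s' ≫ h' = 𝟙 _ := by
    let θ : CommRingCat.of A ⟶ Γ(T', ⊤) := (Scheme.ΓSpecIso _).inv ≫ h'.appTop
    have hθ : h' = T'.toSpecΓ ≫ Spec.map θ := by
      rw [Spec.map_comp, ← Scheme.toSpecΓ_naturality_assoc, toSpecΓ_SpecMap_ΓSpecIso_inv, Category.comp_id]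
    have h1 : s' ≫ h' = Spec.map (θ ≫ CommRingCat.ofHom ρ) := by
      rw [hθ, ← Category.assoc, IsOpenImmersion.lift_fac, ← Spec.map_comp]
    rw [h1, ← Spec.map_id]
    congr 1
    ext a
    apply hlim.2.1
    intro n
    have h2 : Spec.map (θ ≫ CommRingCat.ofHom ρ ≫ CommRingCat.ofHom (π n)) = Spec.map (CommRingCat.ofHom (π n)) := by
      calc _ = (Spec.map (CommRingCat.ofHom (π n)) ≫ s) ≫ Spec.map θ := by
            rw [Spec.map_comp, Spec.map_comp]
        _ = (g' n ≫ T'.toSpecΓ) ≫ Spec.map θ := by rw [hs0]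
        _ = g' n ≫ h' := by rw [Category.assoc, ← hθ]
        _ = _ := hg' n
    have h3 := Spec.map_injective h2
    exact congr($(h3).hom a)
  have hs'' : (s' ≫ U.ι) ≫ h = 𝟙 _ := by rw [Category.assoc]; exact hs'
  exact ⟨s' ≫ U.ι, by rw [← cancel_mono h, Category.assoc, hs'', Category.comp_id, Category.id_comp], hs''⟩

end Groth.Agent.S1244
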