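import Groth.Statements.S2100
import Groth.Agent.CalgB.NagataT
import Mathlib.RingTheory.AlgebraicIndependent.TranscendenceBasis
import Mathlib.RingTheory.FiniteType
import Mathlib.Algebra.MvPolynomial.CommRing

set_option autoImplicit false
universe u
open CAlg

namespace Groth.Agent.S2100

open MvPolynomial

/-- one step: replace one of the variables by `f`. -/
theorem step {k : Type u} [Field k] (s t : ℕ) (f : MvPolynomial (Fin (s + 1)) k) (hf : f ≠ 0)
    (hfu : ¬ IsUnit f) :
    ∃ α : MvPolynomial (Fin s ⊕ Fin (t + 1)) k →ₐ[k] MvPolynomial (Fin (s + 1) ⊕ Fin t) k,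
      α.toRingHom.IsIntegral ∧ α (X (Sum.inr 0)) = rename Sum.inl f ∧
        ∀ j : Fin t, α (X (Sum.inr j.succ)) = X (Sum.inr j) := by
  obtain ⟨T, hT⟩ := Groth.Agent.CalgB.NagataT.exists_algEquiv_isUnit_leadingCoeff f hf
  let ι : MvPolynomial (Fin (s + 1)) k →ₐ[k] MvPolynomial (Fin (s + 1) ⊕ Fin t) k := rename Sum.inl
  let α : MvPolynomial (Fin s ⊕ Fin (t + 1)) k →ₐ[k] MvPolynomial (Fin (s + 1) ⊕ Fin t) k :=
    aeval (Sum.elim (fun i => ι (T.symm (X i.succ)))
      (Fin.cases (rename Sum.inl f) (fun j => X (Sum.inr j))))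
  refine ⟨α, ?_, ?_, ?_⟩
  · -- integrality
    have hinl : ∀ i : Fin s, α.toRingHom.IsIntegralElem (ι (T.symm (X i.succ))) := by
      intro i
      have : ι (T.symm (X i.succ)) = α.toRingHom (X (Sum.inl i)) := by
        simp [α]
      rw [this]
      exact α.toRingHom.isIntegralElem_map
    have hinr : ∀ j : Fin t, α.toRingHom.IsIntegralElem (X (Sum.inr j)) := by
      intro j
      have : X (Sum.inr j) = α.toRingHom (X (Sum.inr j.succ)) := by
        simp [α]
      rw [this]
      exact α.toRingHom.isIntegralElem_map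
    -- x_0
    have h0 : α.toRingHom.IsIntegralElem (ι (T.symm (X 0))) := by
      -- G : polynomial over k[x_1..x_s]
      set G := finSuccEquiv k s (T f) with hG
      obtain ⟨u, hu⟩ := hT
      -- map coefficients to  MvPolynomial (Fin s ⊕ Fin (t+1)) k
      let c : MvPolynomial (Fin s) k →+* MvPolynomial (Fin s ⊕ Fin (t + 1)) k :=
        (rename Sum.inl : MvPolynomial (Fin s) k →ₐ[k] MvPolynomial (Fin s ⊕ Fin (t + 1)) k).toRingHom
      have hdeg : 0 < G.natDegree := by
        rw [Nat.pos_iff_ne_zero]
        intro h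
        apply hfu
        have h1 : G = Polynomial.C G.leadingCoeff := by
          rw [Polynomial.leadingCoeff, h]
          exact Polynomial.eq_C_of_natDegree_eq_zero h
        have h2 : IsUnit G := by
          rw [h1, ← hu]
          exact u.isUnit.map Polynomial.C
        have h3 : IsUnit (T f) := by
          have := h2.map (finSuccEquiv k s).symm
          rwa [hG, AlgEquiv.symm_apply_apply] at this
        have h4 := h3.map T.symm
        rwa [AlgEquiv.symm_apply_apply] at h4
      have hcinj : Function.Injective c := rename_injective _ Sum.inl_injective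
      let H : Polynomial (MvPolynomial (Fin s ⊕ Fin (t + 1)) k) :=
        Polynomial.C (c ↑u⁻¹) * (G.map c - Polynomial.C (X (Sum.inr 0)))
      have hmonic : H.Monic := by
        have h1 : (G.map c - Polynomial.C (X (Sum.inr 0))).leadingCoeff = c u := by
          rw [Polynomial.leadingCoeff_sub_of_degree_lt, Polynomial.leadingCoeff_map_of_injective hcinj, hu]
          rw [Polynomial.degree_map_eq_of_injective hcinj]
          refine lt_of_le_of_lt Polynomial.degree_C_le ?_
          rwa [← Polynomial.natDegree_pos_iff_degree_pos]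
        rw [Polynomial.Monic, Polynomial.leadingCoeff_mul, Polynomial.leadingCoeff_C, h1, ← map_mul,
          Units.inv_mul, map_one]
      refine ⟨H, hmonic, ?_⟩
      have key : ∀ g : Polynomial (MvPolynomial (Fin s) k),
          Polynomial.eval₂ α.toRingHom (ι (T.symm (X 0))) (g.map c) =
            ι (T.symm ((finSuccEquiv k s).symm g)) := by
        intro g
        induction g using Polynomial.induction_on' with
        | add p q hp hq => simp only [Polynomial.map_add, Polynomial.eval₂_add, hp, hq, map_add]
        | monomial n a =>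
          have ha : α.toRingHom (c a) = ι (T.symm ((finSuccEquiv k s).symm (Polynomial.C a))) := by
            have h5 : (α.comp (rename Sum.inl : MvPolynomial (Fin s) k →ₐ[k] _)) =
                (ι.comp T.symm.toAlgHom).comp ((finSuccEquiv k s).symm.toAlgHom.comp
                  (Polynomial.CAlgHom)) := by
              apply MvPolynomial.algHom_ext
              intro i
              have : (finSuccEquiv k s).symm (Polynomial.C (X i)) = X i.succ := by
                rw [AlgEquiv.symm_apply_eq, finSuccEquiv_X_succ]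
              simp [α, this]
            exact DFunLike.congr_fun h5 a
          have hX : (finSuccEquiv k s).symm Polynomial.X = X 0 := by
            rw [AlgEquiv.symm_apply_eq, finSuccEquiv_X_zero]
          rw [Polynomial.map_monomial, Polynomial.eval₂_monomial, ha,
            ← Polynomial.C_mul_X_pow_eq_monomial, map_mul, map_mul, map_mul, map_pow, map_pow,
            map_pow, hX]
      have : α.toRingHom (X (Sum.inr 0)) = ι f := by
        simp [α, ι]
      rw [Polynomial.eval₂_mul, Polynomial.eval₂_sub, key, Polynomial.eval₂_C, Polynomial.eval₂_C, hG,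
        AlgEquiv.symm_apply_apply, AlgEquiv.symm_apply_apply, this, sub_self, mul_zero]
    have hT' : ∀ g : MvPolynomial (Fin (s + 1)) k, α.toRingHom.IsIntegralElem (ι (T.symm g)) := by
      intro g
      induction g using MvPolynomial.induction_on with
      | C a =>
        have : ι (T.symm (C a)) = α.toRingHom (C a) := by
          have h1 : (C a : MvPolynomial (Fin (s + 1)) k) = algebraMap k _ a := rfl
          rw [h1, AlgEquiv.commutes, AlgHom.commutes]
          exact (α.commutes a).symm
        rw [this]
        exact α.toRingHom.isIntegralElem_map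
      | add p q hp hq =>
        rw [map_add, map_add]
        exact hp.add _ hq
      | mul_X p i hp =>
        rw [map_mul, map_mul]
        apply hp.mul
        refine Fin.cases ?_ ?_ i
        · exact h0
        · exact hinl
    intro g
    induction g using MvPolynomial.induction_on with
    | C a =>
      have : (C a : MvPolynomial (Fin (s + 1) ⊕ Fin t) k) = α.toRingHom (C a) :=
        (α.commutes a).symm
      rw [this]
      exact α.toRingHom.isIntegralElem_map
    | add p q hp hq => exact hp.add _ hq
    | mul_X p i hp =>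
      apply hp.mul
      rcases i with i | j
      · have : (X (Sum.inl i) : MvPolynomial (Fin (s + 1) ⊕ Fin t) k) = ι (T.symm (T (X i))) := by
          rw [AlgEquiv.symm_apply_apply]
          simp [ι]
        rw [this]
        exact hT' _
      · exact hinr j
  · simp [α]
  · intro j
    simp [α]


theorem exists_aux {k : Type u} [Field k] {A : Type u} [CommRing A] [Algebra k A] (q : Ideal A) [q.IsPrime]
    (s t : ℕ) (φ : MvPolynomial (Fin s ⊕ Fin t) k →ₐ[k] A) (hφ : φ.toRingHom.IsIntegral)
    (hq : ∀ j, φ (X (Sum.inr j)) ∈ q) :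
    ∃ (s' t' : ℕ) (φ' : MvPolynomial (Fin s' ⊕ Fin t') k →ₐ[k] A), s' + t' = s + t ∧
      φ'.toRingHom.IsIntegral ∧ (∀ j, φ' (X (Sum.inr j)) ∈ q) ∧
      ∀ g : MvPolynomial (Fin s') k, φ' (rename Sum.inl g) ∈ q → g = 0 := by
  induction s generalizing t with
  | zero =>
    refine ⟨0, t, φ, rfl, hφ, hq, ?_⟩
    intro g hg
    by_contra hne
    have h1 : IsUnit g := by
      obtain ⟨a, rfl⟩ := MvPolynomial.C_surjective (Fin 0) g
      have : a ≠ 0 := by
        rintro rfl
        simp at hne
      exact this.isUnit.map C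
    have h2 : IsUnit (φ (rename Sum.inl g)) := (h1.map (rename Sum.inl)).map φ
    exact Ideal.IsPrime.ne_top inferInstance (Ideal.eq_top_of_isUnit_mem q hg h2)
  | succ s ih =>
    by_cases h : ∀ g : MvPolynomial (Fin (s + 1)) k, φ (rename Sum.inl g) ∈ q → g = 0
    · exact ⟨s + 1, t, φ, rfl, hφ, hq, h⟩
    · push Not at h
      obtain ⟨f, hf, hf0⟩ := h
      have hfu : ¬ IsUnit f := by
        intro h1
        have h2 : IsUnit (φ (rename Sum.inl f)) := (h1.map (rename Sum.inl)).map φ
        exact Ideal.IsPrime.ne_top inferInstance (Ideal.eq_top_of_isUnit_mem q hf h2)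
      obtain ⟨α, hα, h0, hj⟩ := step s t f hf0 hfu
      obtain ⟨s', t', φ', h1, h2, h3, h4⟩ := ih (t + 1) (φ.comp α) (hα.trans _ _ hφ) (by
        intro j
        refine Fin.cases ?_ ?_ j
        · rw [AlgHom.comp_apply, h0]
          exact hf
        · intro j
          rw [AlgHom.comp_apply, hj]
          exact hq j)
      exact ⟨s', t', φ', by omega, h2, h3, h4⟩

theorem mem_span_aux {k : Type u} [Field k] (s t : ℕ) (P : MvPolynomial (Fin s ⊕ Fin t) k) :
    P - rename Sum.inl (aeval (Sum.elim (X : Fin s → MvPolynomial (Fin s) k) 0) P) ∈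
      Ideal.span (Set.range fun j : Fin t => (X (Sum.inr j) : MvPolynomial (Fin s ⊕ Fin t) k)) := by
  set I := Ideal.span (Set.range fun j : Fin t => (X (Sum.inr j) : MvPolynomial (Fin s ⊕ Fin t) k))
  rw [← Ideal.Quotient.eq]
  have : Ideal.Quotient.mkₐ k I = (Ideal.Quotient.mkₐ k I).comp
    ((rename Sum.inl).comp (aeval (Sum.elim (X : Fin s → MvPolynomial (Fin s) k) 0))) := by
    apply MvPolynomial.algHom_ext
    rintro (i | j)
    · simp
    · simp only [Ideal.Quotient.mkₐ_eq_mk, AlgHom.comp_apply, aeval_X, Sum.elim_inr, Pi.zero_apply,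
        map_zero]
      rw [Ideal.Quotient.eq_zero_iff_mem]
      exact Ideal.subset_span ⟨j, rfl⟩
  exact DFunLike.congr_fun this P

/-- Stacks Tag 051P: let `k` be a field, `𝔮` a prime of `k[x_1, …, x_n]` and `r` the transcendence degree of `κ(𝔮)` over `k`. Then there is a finite
`k`-algebra map `φ : k[y_1, …, y_n] → k[x_1, …, x_n]` with `φ⁻¹(𝔮) = (y_{r+1}, …, y_n)`. -/
theorem result {k : Type u} [Field k] (n r : ℕ) (q : Ideal (MvPolynomial (Fin n) k))
    [q.IsPrime] (hr : Algebra.trdeg k q.ResidueField = r) :
    ∃ φ : MvPolynomial (Fin n) k →ₐ[k] MvPolynomial (Fin n) k, φ.toRingHom.Finite ∧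
      q.comap φ = Ideal.span (Set.range fun i : {i : Fin n // r ≤ (i : ℕ)} => MvPolynomial.X (i : Fin n)) := by
  obtain ⟨s, t, φ, hst, hint, hq, hinj⟩ := exists_aux q n 0
    (rename (Sum.elim id Fin.elim0) : MvPolynomial (Fin n ⊕ Fin 0) k →ₐ[k] MvPolynomial (Fin n) k)
    (RingHom.isIntegral_of_surjective _ (rename_surjective _ (fun i => ⟨Sum.inl i, rfl⟩)))
    (fun j => Fin.elim0 j)
  rw [add_zero] at hst
  -- the map `k[y_0..y_{s-1}] → k[x]/q` is injective and integral
  let π : MvPolynomial (Fin s ⊕ Fin t) k →ₐ[k] MvPolynomial (Fin s) k :=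
    aeval (Sum.elim (X : Fin s → MvPolynomial (Fin s) k) 0)
  let ψ : MvPolynomial (Fin s) k →ₐ[k] MvPolynomial (Fin n) k ⧸ q :=
    (Ideal.Quotient.mkₐ k q).comp (φ.comp (rename Sum.inl))
  have hψinj : Function.Injective ψ := by
    rw [injective_iff_map_eq_zero]
    intro g hg
    apply hinj
    rwa [← Ideal.Quotient.eq_zero_iff_mem]
  have hcomp : (Ideal.Quotient.mkₐ k q).comp φ = ψ.comp π := by
    apply MvPolynomial.algHom_ext
    rintro (i | j)
    · simp [ψ, π]
    · simp only [Ideal.Quotient.mkₐ_eq_mk, AlgHom.comp_apply, π, aeval_X, Sum.elim_inr, Pi.zero_apply,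
        map_zero]
      rw [Ideal.Quotient.eq_zero_iff_mem]
      exact hq j
  have hψint : ψ.toRingHom.IsIntegral := by
    apply RingHom.IsIntegral.tower_top π.toRingHom
    have h1 : ψ.toRingHom.comp π.toRingHom = (Ideal.Quotient.mk q).comp φ.toRingHom := by
      ext x
      · exact (DFunLike.congr_fun hcomp (C x)).symm
      · exact (DFunLike.congr_fun hcomp (X x)).symm
    rw [h1]
    exact hint.trans _ _ (RingHom.isIntegral_of_surjective _ Ideal.Quotient.mk_surjective)
  -- first: `s = r`
  have hsr : s = r := by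
    let _ : Algebra (MvPolynomial (Fin s) k) (MvPolynomial (Fin n) k ⧸ q) := ψ.toRingHom.toAlgebra
    let ψ' : MvPolynomial (Fin s) k →ₐ[k] q.ResidueField :=
      (IsScalarTower.toAlgHom k (MvPolynomial (Fin n) k ⧸ q) q.ResidueField).comp ψ
    have hψ'inj : Function.Injective ψ' :=
      (IsFractionRing.injective (MvPolynomial (Fin n) k ⧸ q) q.ResidueField).comp hψinj
    let _ : Algebra (MvPolynomial (Fin s) k) q.ResidueField := ψ'.toRingHom.toAlgebra
    have : IsScalarTower k (MvPolynomial (Fin s) k) q.ResidueField :=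
      IsScalarTower.of_algebraMap_eq (fun x => (ψ'.commutes x).symm)
    have : IsScalarTower (MvPolynomial (Fin s) k) (MvPolynomial (Fin n) k ⧸ q) q.ResidueField :=
      IsScalarTower.of_algebraMap_eq (fun x => rfl)
    have : FaithfulSMul (MvPolynomial (Fin s) k) q.ResidueField :=
      (faithfulSMul_iff_algebraMap_injective _ _).2 hψ'inj
    have : Algebra.IsIntegral (MvPolynomial (Fin s) k) (MvPolynomial (Fin n) k ⧸ q) := ⟨hψint⟩
    have : Algebra.IsAlgebraic (MvPolynomial (Fin s) k) (MvPolynomial (Fin n) k ⧸ q) := inferInstance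
    have : Algebra.IsAlgebraic (MvPolynomial (Fin n) k ⧸ q) q.ResidueField :=
      IsLocalization.isAlgebraic _ (nonZeroDivisors (MvPolynomial (Fin n) k ⧸ q))
    have : Algebra.IsAlgebraic (MvPolynomial (Fin s) k) q.ResidueField :=
      Algebra.IsAlgebraic.trans _ (MvPolynomial (Fin n) k ⧸ q) _
    have h1 := trdeg_add_eq k (MvPolynomial (Fin s) k) (A := q.ResidueField)
    rw [MvPolynomial.trdeg_of_isDomain, hr, trdeg_eq_zero] at h1
    simpa using h1
  subst hsr
  subst hst
  let e : MvPolynomial (Fin (s + t)) k ≃ₐ[k] MvPolynomial (Fin s ⊕ Fin t) k :=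
    renameEquiv k finSumFinEquiv.symm
  refine ⟨φ.comp e.toAlgHom, ?_, ?_⟩
  · have h1 : (φ.comp e.toAlgHom).toRingHom.IsIntegral :=
      (RingHom.isIntegral_of_surjective _ e.surjective).trans _ _ hint
    apply h1.to_finite
    apply RingHom.FiniteType.of_comp_finiteType (f := algebraMap k (MvPolynomial (Fin (s + t)) k))
    rw [show (φ.comp e.toAlgHom).toRingHom.comp (algebraMap k (MvPolynomial (Fin (s + t)) k)) =
      algebraMap k (MvPolynomial (Fin (s + t)) k) from (φ.comp e.toAlgHom).comp_algebraMap]
    exact RingHom.finiteType_algebraMap.mpr inferInstance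
  · have hspan : q.comap φ = Ideal.span (Set.range fun j : Fin t =>
        (X (Sum.inr j) : MvPolynomial (Fin s ⊕ Fin t) k)) := by
      apply le_antisymm
      · intro P hP
        rw [Ideal.mem_comap] at hP
        have h0 : π P = 0 := by
          apply hψinj
          rw [map_zero, ← AlgHom.comp_apply, ← hcomp, AlgHom.comp_apply, Ideal.Quotient.mkₐ_eq_mk,
            Ideal.Quotient.eq_zero_iff_mem]
          exact hP
        have := mem_span_aux s t P
        change P - rename Sum.inl (π P) ∈ _ at this
        rwa [h0, map_zero, sub_zero] at this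
      · rw [Ideal.span_le]
        rintro _ ⟨j, rfl⟩
        exact hq j
    have : q.comap (φ.comp e.toAlgHom) = (q.comap φ).comap e.toAlgHom := rfl
    rw [this, hspan]
    apply le_antisymm
    · intro P hP
      rw [Ideal.mem_comap] at hP
      have h2 : e.symm (e P) ∈ (Ideal.span (Set.range fun j : Fin t =>
        (X (Sum.inr j) : MvPolynomial (Fin s ⊕ Fin t) k))).map e.symm := Ideal.mem_map_of_mem _ hP
      rw [AlgEquiv.symm_apply_apply, Ideal.map_span] at h2
      refine Ideal.span_mono ?_ h2
      rintro _ ⟨_, ⟨j, rfl⟩, rfl⟩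
      exact ⟨⟨Fin.natAdd s j, by simp⟩, by simp [e]⟩
    · rw [Ideal.span_le]
      rintro _ ⟨⟨i, hi⟩, rfl⟩
      simp only [SetLike.mem_coe, Ideal.mem_comap]
      refine Ideal.subset_span ⟨⟨i - s, by omega⟩, ?_⟩
      have : finSumFinEquiv.symm i = Sum.inr ⟨(i : ℕ) - s, by omega⟩ := by
        rw [Equiv.symm_apply_eq]
        ext
        simp
        omega
      change _ = rename finSumFinEquiv.symm (X i)
      rw [rename_X, this]

end Groth.Agent.S2100
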