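import Groth.Statements.S1221
import Groth.Agent.Flat2A.KeyK

set_option autoImplicit false
universe u
open FlatMor

namespace Groth.Agent.S1221

open TensorProduct Flat2A.FiberTensor Flat2A.Fiber Flat2A.FiberAss Flat2A.KeyK

theorem exists_smul_eq_zero_of_pow {A B : Type u} [CommRing A] [CommRing B] [Algebra A B] [Algebra.FiniteType A B]
    (N : Type u) [AddCommGroup N] [Module B N] [Module A N] [IsScalarTower A B N] [Module.Finite B N]
    (p : Ideal A) [p.IsPrime] (t : Ideal B) [t.IsPrime] [t.LiesOver p] (hflat : FlatCA.FlatAt A t N)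
    (s : B) (hs : s ∈ nonZeroSMulDivisors B (FlatCA.fiberMod p B N))
    (Q : Type u) [AddCommGroup Q] [Module A Q] (n : ℕ) : ∀ (z : N ⊗[A] Q), s ^ n • z = 0 →
    ∃ u ∉ t, u • z = 0 := by
  induction n with
  | zero =>
    intro z hz
    exact ⟨1, fun h => ‹t.IsPrime›.ne_top ((Ideal.eq_top_iff_one t).mpr h), by simpa using hz⟩
  | succ n ih =>
    intro z hz
    obtain ⟨u, hu, hu'⟩ := ih (s • z) (by rw [smul_smul, ← pow_succ]; exact hz)
    obtain ⟨v, hv, hv'⟩ := keyK N p t hflat s hs Q (u • z) (by rw [smul_comm]; exact hu')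
    exact ⟨v * u, fun h => (‹t.IsPrime›.mem_or_mem h).elim hv hu, by rw [mul_smul]; exact hv'⟩

/-- Stacks Tag 05L3 (ring form): let B be a finite type A-algebra, N a finite B-module and p a prime of A such that N is flat over A at every prime of B over p. Let q' be a prime of B lying over a prime p' ⊆ p, such that the extension of q' to the fibre ring over p' is an associated prime of the fibre module of N (a point of the relative assassin). If q' is contained in some prime of B over p, then it is contained in a prime q over p whose extension to the fibre ring over p is an associated prime of the fibre module over p. -/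
theorem result {A B : Type u} [CommRing A] [CommRing B] [Algebra A B] [Algebra.FiniteType A B]
    (N : Type u) [AddCommGroup N] [Module B N] [Module A N] [IsScalarTower A B N] [Module.Finite B N] (p : Ideal A) [p.IsPrime]
    (hflat : ∀ (q : Ideal B) [q.IsPrime], q.LiesOver p → FlatCA.FlatAt A q N)
    (p' : Ideal A) [p'.IsPrime] (hp' : p' ≤ p) (q' : Ideal B) [q'.IsPrime] [q'.LiesOver p']
    (hass : FlatCA.fiberIdeal p' q' ∈ associatedPrimes (p'.Fiber B) (FlatCA.fiberMod p' B N))
    (hspec : ∃ (t : Ideal B), t.IsPrime ∧ q' ≤ t ∧ t.LiesOver p) :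
    ∃ (q : Ideal B) (_ : q.IsPrime), q' ≤ q ∧ q.LiesOver p ∧
      FlatCA.fiberIdeal p q ∈ associatedPrimes (p.Fiber B) (FlatCA.fiberMod p B N) := by
  obtain ⟨t, ht, hqt, htp⟩ := hspec
  by_contra hcon
  have hN : IsNoetherianRing (p.Fiber B) := fiber_isNoetherianRing p
  have hF : Module.Finite (p.Fiber B) (FlatCA.fiberMod p B N) := fiberMod_finite N p
  have hfin := associatedPrimes_fiberMod_finite p N (S := B)
  -- no associated prime of the fibre over `p` contains `q'`
  have hnot : ∀ q ∈ associatedPrimes B (FlatCA.fiberMod p B N), ¬ q' ≤ q := by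
    intro q hq hle
    obtain ⟨h1, h2, h3⟩ := (mem_associatedPrimes_fiberMod_iff p N q).mp hq
    exact hcon ⟨q, h1, hle, h2, h3⟩
  -- prime avoidance
  have havoid : ¬ ((q' : Set B) ⊆ ⋃ q ∈ hfin.toFinset, (q : Set B)) := by
    intro h
    obtain ⟨q, hq, hle⟩ := (Ideal.subset_union_prime (R := B) (s := hfin.toFinset) (f := fun q => q) ⊥ ⊥ (by
      intro q hq _ _
      exact ((mem_associatedPrimes_fiberMod_iff p N q).mp (hfin.mem_toFinset.mp hq)).1)).mp h
    exact hnot q (hfin.mem_toFinset.mp hq) hle
  rw [Set.not_subset] at havoid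
  obtain ⟨s, hsq, hs⟩ := havoid
  have hs' : s ∈ nonZeroSMulDivisors B (FlatCA.fiberMod p B N) := by
    rw [zeroDivisors_fiberMod]
    intro q hq hsq'
    apply hs
    simp only [Set.mem_iUnion]
    exact ⟨q, hfin.mem_toFinset.mpr hq, hsq'⟩
  -- the element with radical annihilator `q'`
  obtain ⟨-, y, hy⟩ := (mem_associatedPrimes_fiberMod_iff p' N q').mpr ⟨‹_›, ‹_›, hass⟩
  rw [hy] at hsq
  obtain ⟨n, hn⟩ := hsq
  have hn' : s ^ n • y = 0 := by simpa [Submodule.mem_colon_singleton] using hn
  have hn'' : s ^ n • (fiberModEquiv (S := B) p' N) y = 0 := by rw [← map_smul, hn', map_zero]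
  obtain ⟨u, hu, hu'⟩ := exists_smul_eq_zero_of_pow N p t (hflat t htp) s hs' _ n _ hn''
  rw [← map_smul, LinearEquiv.map_eq_zero_iff] at hu'
  apply hu
  apply hqt
  rw [hy]
  apply Ideal.le_radical
  rw [Submodule.mem_colon_singleton, hu']
  exact Submodule.zero_mem _

end Groth.Agent.S1221
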