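import Groth.Statements.S1219
import Groth.Agent.Flat2A.ProjPure
import Groth.Agent.Flat2A.Impurity
import Groth.Agent.Flat2A.EtaleProjGlue
import Groth.Agent.Flat2A.PureProj

set_option autoImplicit false
universe u
open FlatMor

namespace Groth.Agent.S1219

/-- Stacks Tag 05MD (ring statement): for a finitely presented A-algebra B and a finitely presented B-module N flat over A, projectivity of N over A is equivalent to purity of N, viewed on Spec B, over Spec A. -/
theorem result {A B : Type u} [CommRing A] [CommRing B] [Algebra A B] [Algebra.FinitePresentation A B]
    (N : Type u) [AddCommGroup N] [Module B N] [Module A N] [IsScalarTower A B N] [Module.FinitePresentation B N] [Module.Flat A N] :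
    Module.Projective A N ↔ FlatCA.IsPure A B N := by
  constructor
  · intro h p _
    exact Flat2A.Impurity.isPureAlong_of_isUnivPureAlong N
      (Flat2A.ProjPure.isUnivPureAlong_of_projective N p)
  · intro h
    refine Flat2A.EtaleProjGlue.projective_of_etale_local A N fun p _ => ?_
    obtain ⟨A₁, _, _, p₁, _, hnhd, hproj⟩ := Flat2A.PureProj.exists_etale_projective N p (h p)
    exact ⟨A₁, inferInstance, inferInstance, p₁, inferInstance, hnhd.1, hnhd.2.1, hproj⟩

end Groth.Agent.S1219
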