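import Groth.Statements.S1217
import Groth.Agent.Flat2A.ImpurityBC
import Groth.Agent.Flat2B.EtaleNhd
import Mathlib.RingTheory.Ideal.GoingDown
import Mathlib.RingTheory.Flat.Stability

set_option autoImplicit false
universe u
open FlatMor

namespace Groth.Agent.S1217

open TensorProduct Flat2A.ImpurityBC Flat2B.EtaleNhd

attribute [local instance] Algebra.TensorProduct.rightAlgebra

/-- A specialization over `A₁` lifts to `A' ⊗ A₁`, with a given prime `p'` of `A'` at which `A'` is flat. -/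
theorem exists_primes {A A' A₁ : Type u} [CommRing A] [CommRing A'] [CommRing A₁] [Algebra A A'] [Algebra A A₁]
    (p : Ideal A) [p.IsPrime] (p' : Ideal A') [p'.IsPrime] [p'.LiesOver p]
    [Module.Flat A (Localization.AtPrime p')] (t' t : Ideal A₁) [t'.IsPrime] [t.IsPrime] [t.LiesOver p] (hle : t' ≤ t) :
    ∃ (Q' Q : Ideal (A' ⊗[A] A₁)) (_ : Q'.IsPrime) (_ : Q.IsPrime), Q' ≤ Q ∧ Q'.LiesOver t' ∧ Q.LiesOver t ∧
      Q.LiesOver p' := by
  let L := Localization.AtPrime p'
  let m := IsLocalRing.maximalIdeal L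
  have hm : m.LiesOver p' := liesOver_maximalIdeal_atPrime p'
  have hm' : m.LiesOver p := .trans m p' p
  obtain ⟨Q₃, hQ₃, h1, h2⟩ := exists_prime_of_isPushout (R := A) (R' := L) (S := A₁) (S' := L ⊗[A] A₁) p t m
  have hpo : Algebra.IsPushout A A₁ L (L ⊗[A] A₁) := inferInstance
  have hfl : Module.Flat A₁ (L ⊗[A] A₁) := Module.Flat.isBaseChange A A₁ L (L ⊗[A] A₁) hpo.out
  obtain ⟨Q₃', hle₃, hQ₃', h3⟩ := Ideal.exists_ideal_le_liesOver_of_le (R := A₁) (p := t') (q := t) Q₃ hle
  let ψ : A' ⊗[A] A₁ →ₐ[A] L ⊗[A] A₁ := Algebra.TensorProduct.map (IsScalarTower.toAlgHom A A' L) (AlgHom.id A A₁)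
  have e1 : ψ.toRingHom.comp (algebraMap A₁ (A' ⊗[A] A₁)) = algebraMap A₁ (L ⊗[A] A₁) := by
    ext x
    change ψ (1 ⊗ₜ x) = 1 ⊗ₜ x
    simp [ψ]
  have e2 : ψ.toRingHom.comp (algebraMap A' (A' ⊗[A] A₁)) = (algebraMap L (L ⊗[A] A₁)).comp (algebraMap A' L) := by
    ext x
    change ψ (x ⊗ₜ 1) = (algebraMap A' L x) ⊗ₜ 1
    simp [ψ]
  refine ⟨Q₃'.comap ψ.toRingHom, Q₃.comap ψ.toRingHom, inferInstance, inferInstance, Ideal.comap_mono hle₃, ⟨?_⟩, ⟨?_⟩, ⟨?_⟩⟩
  · rw [Ideal.under_def, Ideal.comap_comap, e1]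
    exact h3.over
  · rw [Ideal.under_def, Ideal.comap_comap, e1]
    exact h1.over
  · rw [Ideal.under_def, Ideal.comap_comap, e2, ← Ideal.comap_comap]
    have h4 : Q₃.comap (algebraMap L (L ⊗[A] A₁)) = m := h2.over.symm
    rw [h4]
    exact hm.over

/-- Stacks Tag 05J9 (ring form, X = Spec B affine): let B be a finite type A-algebra, N a finite B-module, p a prime of A, and A' an A-algebra with a prime p' over p such that the local ring of A' at p' is flat over A. Let B', N' be the base changes of B, N to A'. If N' is pure along the fibre over p' then N is pure along the fibre over p, and likewise for universal purity. -/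
theorem result {A B : Type u} [CommRing A] [CommRing B] [Algebra A B] [Algebra.FiniteType A B]
    (N : Type u) [AddCommGroup N] [Module B N] [Module.Finite B N] (p : Ideal A) [p.IsPrime]
    (A' B' N' : Type u) [CommRing A'] [CommRing B'] [Algebra A A'] [Algebra B B'] [Algebra A' B'] [Algebra A B']
    [IsScalarTower A B B'] [IsScalarTower A A' B'] [Algebra.IsPushout A B A' B']
    [AddCommGroup N'] [Module B' N'] [Module B N'] [IsScalarTower B B' N'] (f : N →ₗ[B] N') (hf : IsBaseChange B' f)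
    (p' : Ideal A') [p'.IsPrime] [p'.LiesOver p] [Module.Flat A (Localization.AtPrime p')] :
    (FlatCA.IsPureAlong A' B' N' p' → FlatCA.IsPureAlong A B N p) ∧
    (FlatCA.IsUnivPureAlong A' B' N' p' → FlatCA.IsUnivPureAlong A B N p) := by
  have hft : Algebra.FiniteType A' B' := by
    have := Algebra.FiniteType.baseChange (R := A) (A := B) A'
    exact Algebra.FiniteType.equiv this (Algebra.IsPushout.equiv A A' B B' (h := Algebra.IsPushout.symm inferInstance))
  rw [isPureAlong_iff, isPureAlong_iff, isUnivPureAlong_iff, isUnivPureAlong_iff]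
  constructor
  · intro h A₁ _ _ t' t _ _ het himp
    have ht := liesOver het
    obtain ⟨Q', Q, hQ', hQ, hle, h1, h2, h3⟩ := exists_primes p p' t' t himp.1
    have h4 : FlatCA.IsEtaleNhd A' (A' ⊗[A] A₁) p' Q :=
      isEtaleNhd_pushout (R := A) (R' := A₁) (S := A') (S' := A' ⊗[A] A₁) het inferInstance Q h3 h2
    refine h (A' ⊗[A] A₁) Q' Q h4 ?_
    rw [imp_baseChange_iff (A := A) (B := B) (A' := A') (B' := B') inferInstance f hf]
    exact himp.lift hle
  · intro h A₁ _ _ t' t _ _ ht himp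
    obtain ⟨Q', Q, hQ', hQ, hle, h1, h2, h3⟩ := exists_primes p p' t' t himp.1
    refine h (A' ⊗[A] A₁) Q' Q h3 ?_
    rw [imp_baseChange_iff (A := A) (B := B) (A' := A') (B' := B') inferInstance f hf]
    exact himp.lift hle

end Groth.Agent.S1217
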