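import Groth.Statements.S1220
-- import your own Groth.Agent.* helpers here
import Groth.Agent.S1217
import Groth.Agent.Flat2A.PureProj
import Groth.Agent.Flat2A.ProjPure

set_option autoImplicit false
universe u
open FlatMor

namespace Groth.Agent.S1220

open TensorProduct in
attribute [local instance] Algebra.TensorProduct.rightAlgebra in
/-- purity along the image of an étale algebra over which the module becomes projective -/
theorem isPureAlong_of_projective {A B : Type u} [CommRing A] [CommRing B] [Algebra A B] [Algebra.FiniteType A B]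
    (N : Type u) [AddCommGroup N] [Module B N] [Module A N] [IsScalarTower A B N] [Module.Finite B N]
    (A₁ : Type u) [CommRing A₁] [Algebra A A₁] [Module.Flat A A₁] (h : Module.Projective A₁ (A₁ ⊗[A] N))
    (t : Ideal A₁) [t.IsPrime] (p : Ideal A) [p.IsPrime] [t.LiesOver p] : FlatCA.IsPureAlong A B N p := by
  let e : (A₁ ⊗[A] B) ⊗[B] N ≃ₗ[A₁] A₁ ⊗[A] N :=
    Algebra.IsPushout.cancelBaseChange A A₁ B (A₁ ⊗[A] B) N
  have hp : Module.Projective A₁ ((A₁ ⊗[A] B) ⊗[B] N) := Module.Projective.of_equiv e.symm
  have hu := Flat2A.ProjPure.isUnivPureAlong_of_projective (A := A₁) (B := A₁ ⊗[A] B) ((A₁ ⊗[A] B) ⊗[B] N) t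
  have hfl : Module.Flat A (Localization.AtPrime t) := Module.Flat.trans A A₁ _
  have h2 := (Groth.Agent.S1217.result N p A₁ (A₁ ⊗[A] B) ((A₁ ⊗[A] B) ⊗[B] N)
    (TensorProduct.mk B (A₁ ⊗[A] B) N 1) (TensorProduct.isBaseChange _ _ _) t).2 hu
  rw [Flat2A.ImpurityBC.isPureAlong_iff]
  rw [Flat2A.ImpurityBC.isUnivPureAlong_iff] at h2
  intro A₂ _ _ t' t _ _ het
  exact h2 A₂ t' t het.2.1

/-- Stacks Tag 05MC (ring form, X = Spec B affine): let B be a finitely presented A-algebra and N a finitely presented B-module flat over A. Then the set of points p of Spec A such that N is pure along the fibre over p is open. -/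
theorem result {A B : Type u} [CommRing A] [CommRing B] [Algebra A B] [Algebra.FinitePresentation A B]
    (N : Type u) [AddCommGroup N] [Module B N] [Module A N] [IsScalarTower A B N] [Module.FinitePresentation B N] [Module.Flat A N] :
    IsOpen {p : PrimeSpectrum A | FlatCA.IsPureAlong A B N p.asIdeal} := by
  rw [isOpen_iff_forall_mem_open]
  intro p hp
  obtain ⟨A₁, _, _, p₁, _, het, hproj⟩ := Flat2A.PureProj.exists_etale_projective N p.asIdeal hp
  have hetA : Algebra.Etale A A₁ := het.1
  have hfl : Module.Flat A A₁ := inferInstance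
  refine ⟨Set.range (PrimeSpectrum.comap (algebraMap A A₁)), ?_, ?_, ?_⟩
  · rintro _ ⟨t, rfl⟩
    have : t.asIdeal.LiesOver (PrimeSpectrum.comap (algebraMap A A₁) t).asIdeal := ⟨rfl⟩
    exact isPureAlong_of_projective N A₁ hproj t.asIdeal _
  · exact (PrimeSpectrum.isOpenMap_comap_of_hasGoingDown_of_finitePresentation (R := A) (S := A₁)).isOpen_range
  · exact ⟨⟨p₁, inferInstance⟩, PrimeSpectrum.ext het.2.1.over.symm⟩

end Groth.Agent.S1220
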