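import Groth.Statements.S0448
import Mathlib.RingTheory.LocalRing.Module
import Mathlib.RingTheory.Flat.EquationalCriterion
import Mathlib.LinearAlgebra.TensorProduct.Vanishing
import Mathlib.LinearAlgebra.DirectSum.Finsupp

set_option autoImplicit false
universe u
open FlatMor

namespace Groth.Agent.S0448

open TensorProduct

theorem flat_prod {R A B : Type u} [CommRing R] [AddCommGroup A] [AddCommGroup B] [Module R A]
    [Module R B] [Module.Flat R A] [Module.Flat R B] : Module.Flat R (A × B) := by
  rw [Module.Flat.iff_lTensor_preserves_injective_linearMap]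
  intro P P' _ _ _ _ f hf
  rw [injective_iff_map_eq_zero]
  intro z hz
  have h1 : (LinearMap.fst R A B).rTensor P z = 0 := by
    apply (injective_iff_map_eq_zero _).mp
      (Module.Flat.lTensor_preserves_injective_linearMap (M := A) f hf)
    rw [← LinearMap.comp_apply, LinearMap.lTensor_comp_rTensor, ← LinearMap.rTensor_comp_lTensor,
      LinearMap.comp_apply, hz, map_zero]
  have h2 : (LinearMap.snd R A B).rTensor P z = 0 := by
    apply (injective_iff_map_eq_zero _).mp
      (Module.Flat.lTensor_preserves_injective_linearMap (M := B) f hf)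
    rw [← LinearMap.comp_apply, LinearMap.lTensor_comp_rTensor, ← LinearMap.rTensor_comp_lTensor,
      LinearMap.comp_apply, hz, map_zero]
  have h3 : (LinearMap.inl R A B).rTensor P ((LinearMap.fst R A B).rTensor P z) +
      (LinearMap.inr R A B).rTensor P ((LinearMap.snd R A B).rTensor P z) = z := by
    rw [← LinearMap.comp_apply, ← LinearMap.comp_apply, ← LinearMap.rTensor_comp,
      ← LinearMap.rTensor_comp, ← LinearMap.add_apply, ← LinearMap.rTensor_add]
    have : LinearMap.inl R A B ∘ₗ LinearMap.fst R A B + LinearMap.inr R A B ∘ₗ LinearMap.snd R A B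
        = LinearMap.id := by
      ext <;> simp
    rw [this, LinearMap.rTensor_id]
    rfl
  rw [← h3, h1, h2, map_zero, map_zero, add_zero]

/-- The free case. -/
theorem free_case {R N : Type u} [CommRing R] [IsLocalRing R] (I : Type u)
    [AddCommGroup N] [Module R N] [Module.Flat R N] (u : (I →₀ R) →ₗ[R] N)
    (h : Function.Injective (LinearMap.lTensor (IsLocalRing.ResidueField R) u))
    (Q : Type u) [AddCommGroup Q] [Module R Q] : Function.Injective (LinearMap.lTensor Q u) := by
  classical
  rw [injective_iff_map_eq_zero]
  intro z hz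
  obtain ⟨f, rfl⟩ := (TensorProduct.finsuppScalarRight R R Q I).symm.surjective z
  have hf : (TensorProduct.finsuppScalarRight R R Q I).symm f =
      ∑ i : f.support, f i ⊗ₜ[R] Finsupp.single (i : I) (1 : R) := by
    rw [LinearEquiv.symm_apply_eq, map_sum]
    simp only [TensorProduct.finsuppScalarRight_apply_tmul]
    have : ∀ x : f.support, ((Finsupp.single (x : I) (1 : R)).sum fun i n =>
        Finsupp.single i (n • f (x : I))) = Finsupp.single (x : I) (f (x : I)) := by
      intro x
      rw [Finsupp.sum_single_index (by simp), one_smul]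
    simp only [this]
    rw [Finset.sum_coe_sort f.support (fun i => Finsupp.single i (f i))]
    exact (Finsupp.sum_single f).symm
  rw [hf] at hz ⊢
  rw [map_sum] at hz
  simp only [LinearMap.lTensor_tmul] at hz
  have hvan := TensorProduct.vanishesTrivially_of_sum_tmul_eq_zero_of_rTensor_injective R
    (m := fun i : f.support => f i) (n := fun i : f.support => u (Finsupp.single (i : I) (1 : R)))
    (Module.Flat.rTensor_preserves_injective_linearMap _ (Submodule.injective_subtype _)) hz
  obtain ⟨k, a, y, ha1, ha2⟩ := hvan
  let A : (f.support → R) →ₗ[R] (Fin k → R) := Fintype.linearCombination R a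
  let Y : (Fin k → R) →ₗ[R] N := Fintype.linearCombination R y
  let E : (f.support → R) →ₗ[R] (I →₀ R) :=
    Fintype.linearCombination R (fun i : f.support => Finsupp.single (i : I) (1 : R))
  let E' : (I →₀ R) →ₗ[R] (f.support → R) := LinearMap.pi (fun i => Finsupp.lapply (i : I))
  have hE' : E' ∘ₗ E = LinearMap.id := by
    ext i j
    simp [E, E', Fintype.linearCombination_apply, Finsupp.single_apply, Pi.single_apply]
    simp only [eq_comm]
  have hYA : Y ∘ₗ A = u ∘ₗ E := by
    refine LinearMap.pi_ext' fun i => LinearMap.ext_ring ?_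
    simp only [LinearMap.comp_apply, LinearMap.single_apply, A, E,
      Fintype.linearCombination_apply_single, one_smul]
    exact (ha1 i).symm
  have hEinj : Function.Injective (E.lTensor (IsLocalRing.ResidueField R)) := by
    have : E'.lTensor (IsLocalRing.ResidueField R) ∘ₗ E.lTensor (IsLocalRing.ResidueField R)
        = .id := by
      rw [← LinearMap.lTensor_comp, hE', LinearMap.lTensor_id]
    exact Function.HasLeftInverse.injective ⟨_, LinearMap.congr_fun this⟩
  have hAinj : Function.Injective (A.lTensor (IsLocalRing.ResidueField R)) := by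
    have h1 : Function.Injective ((u ∘ₗ E).lTensor (IsLocalRing.ResidueField R)) := by
      rw [LinearMap.lTensor_comp]
      exact h.comp hEinj
    rw [← hYA, LinearMap.lTensor_comp] at h1
    exact Function.Injective.of_comp h1
  obtain ⟨l', hl'⟩ := (IsLocalRing.split_injective_iff_lTensor_residueField_injective A).mpr hAinj
  have hw : A.lTensor Q (∑ i : f.support, f i ⊗ₜ[R] (Pi.single i (1 : R) : f.support → R)) = 0 := by
    rw [map_sum]
    have : ∀ i : f.support, A.lTensor Q (f i ⊗ₜ[R] (Pi.single i (1 : R) : f.support → R)) =
        ∑ j : Fin k, (a i j • f i) ⊗ₜ[R] (Pi.single j (1 : R) : Fin k → R) := by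
      intro i
      rw [LinearMap.lTensor_tmul]
      have : A (Pi.single i (1 : R)) = ∑ j : Fin k, a i j • (Pi.single j (1 : R) : Fin k → R) := by
        simp only [A, Fintype.linearCombination_apply_single, one_smul]
        exact pi_eq_sum_univ' (a i)
      rw [this, TensorProduct.tmul_sum]
      simp [TensorProduct.smul_tmul]
    simp only [this]
    rw [Finset.sum_comm]
    simp only [← TensorProduct.sum_tmul]
    refine Finset.sum_eq_zero fun j _ => ?_
    rw [show ∑ i : f.support, a i j • f (i : I) = 0 from ha2 j, TensorProduct.zero_tmul]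
  have hw2 : (∑ i : f.support, f i ⊗ₜ[R] (Pi.single i (1 : R) : f.support → R)) = 0 := by
    have h2 : l'.lTensor Q ∘ₗ A.lTensor Q = .id := by
      rw [← LinearMap.lTensor_comp, hl', LinearMap.lTensor_id]
    have := LinearMap.congr_fun h2 (∑ i : f.support, f i ⊗ₜ[R] (Pi.single i (1 : R) : f.support → R))
    rw [LinearMap.comp_apply, hw, map_zero] at this
    exact this.symm
  have := congrArg (E.lTensor Q) hw2
  rw [map_sum, map_zero] at this
  rw [← this]
  refine Finset.sum_congr rfl fun i _ => ?_
  simp [E, Fintype.linearCombination_apply, Pi.single_apply]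

open TensorProduct in
/-- Stacks Tag 05FQ: over a local ring, a linear map from a projective module to a flat module which is injective modulo the maximal ideal is universally injective (injective after tensoring with any module). -/
theorem result {R M N : Type u} [CommRing R] [IsLocalRing R] [AddCommGroup M] [Module R M] [Module.Projective R M]
    [AddCommGroup N] [Module R N] [Module.Flat R N] (u : M →ₗ[R] N)
    (h : Function.Injective (LinearMap.lTensor (IsLocalRing.ResidueField R) u)) :
    ∀ (Q : Type u) [AddCommGroup Q] [Module R Q], Function.Injective (LinearMap.rTensor Q u) := by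
  intro Q _ _
  obtain ⟨s, hs⟩ := Module.projective_def'.mp (inferInstance : Module.Projective R M)
  set π : (M →₀ R) →ₗ[R] M := Finsupp.linearCombination R id with hπ
  let u' : (M →₀ R) →ₗ[R] N × (M →₀ R) := LinearMap.prod (u ∘ₗ π) (LinearMap.id - s ∘ₗ π)
  have key : ∀ (P : Type u) [AddCommGroup P] [Module R P], Function.Injective (u.lTensor P) →
      Function.Injective (u'.lTensor P) := by
    intro P _ _ hP
    rw [injective_iff_map_eq_zero]
    intro x hx
    have h1 : (LinearMap.fst R N (M →₀ R) ∘ₗ u').lTensor P x = 0 := by
      rw [LinearMap.lTensor_comp, LinearMap.comp_apply, hx, map_zero]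
    have h2 : (LinearMap.snd R N (M →₀ R) ∘ₗ u').lTensor P x = 0 := by
      rw [LinearMap.lTensor_comp, LinearMap.comp_apply, hx, map_zero]
    have e1 : LinearMap.fst R N (M →₀ R) ∘ₗ u' = u ∘ₗ π := rfl
    have e2 : LinearMap.snd R N (M →₀ R) ∘ₗ u' = LinearMap.id - s ∘ₗ π := rfl
    rw [e1, LinearMap.lTensor_comp, LinearMap.comp_apply] at h1
    rw [e2, LinearMap.lTensor_sub, LinearMap.lTensor_comp, LinearMap.sub_apply,
      LinearMap.comp_apply, (injective_iff_map_eq_zero _).mp hP _ h1] at h2
    simpa using h2
  have hflat : Module.Flat R (N × (M →₀ R)) := flat_prod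
  have hu' := free_case (R := R) M u' (key _ h) Q
  suffices H : Function.Injective (LinearMap.lTensor Q u) by
    have : LinearMap.rTensor Q u = (TensorProduct.comm R Q N).toLinearMap ∘ₗ
        LinearMap.lTensor Q u ∘ₗ (TensorProduct.comm R M Q).toLinearMap := by
      ext; simp
    rw [this]
    exact (TensorProduct.comm R Q N).injective.comp
      (H.comp (TensorProduct.comm R M Q).injective)
  rw [injective_iff_map_eq_zero]
  intro z hz
  have h3 : u'.lTensor Q (s.lTensor Q z) = 0 := by
    rw [← LinearMap.comp_apply, ← LinearMap.lTensor_comp]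
    have : u' ∘ₗ s = LinearMap.inl R N (M →₀ R) ∘ₗ u := by
      have h4 : ∀ m, π (s m) = m := fun m => LinearMap.congr_fun hs m
      ext m <;> simp [u', h4]
    rw [this, LinearMap.lTensor_comp, LinearMap.comp_apply, hz, map_zero]
  have h5 := (injective_iff_map_eq_zero _).mp hu' _ h3
  have h6 : π.lTensor Q (s.lTensor Q z) = z := by
    rw [← LinearMap.comp_apply, ← LinearMap.lTensor_comp, hs, LinearMap.lTensor_id]
    rfl
  rw [← h6, h5, map_zero]

end Groth.Agent.S0448
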