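import Groth.Statements.S0437
import Mathlib.RingTheory.Flat.TorsionFree
import Mathlib.RingTheory.LocalRing.Module
import Mathlib.RingTheory.MvPolynomial.Basic
import Mathlib.RingTheory.Adjoin.FG
import Mathlib.RingTheory.Polynomial.Basic
import Mathlib.RingTheory.Nakayama

set_option autoImplicit false
universe u
open FlatMor

namespace Groth.Agent.S0437

section Rees

open Polynomial

variable (σ k : Type*) [CommRing k]

/-- The Rees algebra of the total degree filtration of a polynomial ring. -/
def rees : Subalgebra k (Polynomial (MvPolynomial σ k)) where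
  carrier := {f | ∀ d, (f.coeff d).totalDegree ≤ d}
  mul_mem' := by
    intro f g hf hg d
    rw [Polynomial.coeff_mul]
    refine MvPolynomial.totalDegree_finsetSum_le ?_
    rintro ⟨a, b⟩ hab
    rw [Finset.mem_antidiagonal] at hab
    exact (MvPolynomial.totalDegree_mul _ _).trans (hab ▸ add_le_add (hf a) (hg b))
  add_mem' := by
    intro f g hf hg d
    rw [Polynomial.coeff_add]
    exact (MvPolynomial.totalDegree_add _ _).trans (max_le (hf d) (hg d))
  algebraMap_mem' := by
    intro r d
    rw [Polynomial.algebraMap_apply, Polynomial.coeff_C]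
    split_ifs with h
    · rw [MvPolynomial.algebraMap_eq, MvPolynomial.totalDegree_C]; exact Nat.zero_le _
    · simp

variable {σ k}

theorem mem_rees {f : Polynomial (MvPolynomial σ k)} :
    f ∈ rees σ k ↔ ∀ d, (f.coeff d).totalDegree ≤ d := Iff.rfl

theorem monomial_mem_rees {d : ℕ} {p : MvPolynomial σ k} (hp : p.totalDegree ≤ d) :
    Polynomial.monomial d p ∈ rees σ k := by
  intro e
  rw [Polynomial.coeff_monomial]
  split_ifs with h
  · exact h ▸ hp
  · simp

theorem rees_eq_adjoin : rees σ k = Algebra.adjoin k
    (insert (Polynomial.X : Polynomial (MvPolynomial σ k))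
      (Set.range fun i : σ => Polynomial.monomial 1 (MvPolynomial.X i))) := by
  apply le_antisymm
  · intro f hf
    rw [f.as_sum_support]
    refine Subalgebra.sum_mem _ fun d _ => ?_
    have hd := hf d
    rw [(f.coeff d).as_sum, map_sum]
    refine Subalgebra.sum_mem _ fun m hm => ?_
    have hmd : (m.sum fun _ e => e) ≤ d := (MvPolynomial.le_totalDegree hm).trans hd
    obtain ⟨e, rfl⟩ := Nat.exists_eq_add_of_le hmd
    generalize MvPolynomial.coeff m (f.coeff ((m.sum fun _ e => e) + e)) = c
    clear hf hd hm hmd
    have key : ∀ m : σ →₀ ℕ, Polynomial.monomial (m.sum fun _ e => e) (MvPolynomial.monomial m (1 : k)) ∈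
        Algebra.adjoin k (insert (Polynomial.X : Polynomial (MvPolynomial σ k))
      (Set.range fun i : σ => Polynomial.monomial 1 (MvPolynomial.X i))) := by
      intro m
      induction m using Finsupp.induction with
      | zero => 
        simp only [Finsupp.sum_zero_index]
        have : (Polynomial.monomial 0 (MvPolynomial.monomial 0 (1 : k))) = (1 : Polynomial (MvPolynomial σ k)) := by
          rfl
        rw [this]
        exact Subalgebra.one_mem _
      | single_add a b f ha hb ih =>
        rw [Finsupp.sum_add_index' (fun _ => rfl) (fun _ _ _ => rfl), Finsupp.sum_single_index rfl]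
        have : Polynomial.monomial (b + f.sum fun _ e => e) (MvPolynomial.monomial (Finsupp.single a b + f) (1 : k)) =
            (Polynomial.monomial 1 (MvPolynomial.X a)) ^ b * Polynomial.monomial (f.sum fun _ e => e) (MvPolynomial.monomial f (1 : k)) := by
          rw [Polynomial.monomial_pow, Polynomial.monomial_mul_monomial, one_mul,
            MvPolynomial.X_pow_eq_monomial, MvPolynomial.monomial_mul, one_mul]
        rw [this]
        refine Subalgebra.mul_mem _ (Subalgebra.pow_mem _ ?_ _) ih
        exact Algebra.subset_adjoin (Set.mem_insert_of_mem _ (Set.mem_range_self a))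
    have : Polynomial.monomial ((m.sum fun _ e => e) + e) (MvPolynomial.monomial m c) =
        c • (Polynomial.monomial (m.sum fun _ e => e) (MvPolynomial.monomial m (1 : k)) * Polynomial.X ^ e) := by
      rw [Polynomial.monomial_mul_X_pow, Polynomial.smul_monomial, MvPolynomial.smul_monomial, smul_eq_mul, mul_one]
    rw [this]
    exact Subalgebra.smul_mem _ (Subalgebra.mul_mem _ (key m) (Subalgebra.pow_mem _
      (Algebra.subset_adjoin (Set.mem_insert _ _)) _)) _
  · rw [Algebra.adjoin_le_iff]
    rintro f (rfl | ⟨i, rfl⟩)
    · exact monomial_mem_rees (d := 1) (p := 1) (by simp)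
    · refine monomial_mem_rees ?_
      rcases subsingleton_or_nontrivial k with h | h
      · have : (MvPolynomial.X i : MvPolynomial σ k) = 0 := Subsingleton.elim _ _
        simp [this]
      · rw [MvPolynomial.totalDegree_X]

theorem isNoetherianRing_rees [Finite σ] [IsNoetherianRing k] : IsNoetherianRing (rees σ k) := by
  apply isNoetherianRing_of_fg
  rw [Subalgebra.fg_def]
  exact ⟨_, (Set.finite_range _).insert _, rees_eq_adjoin.symm⟩

theorem isNoetherian_fun_subalgebra {k A : Type*} [CommRing k] [CommRing A] [Algebra k A]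
    (S : Subalgebra k A) (h : IsNoetherianRing S) (r : ℕ) : IsNoetherian S (Fin r → S) := by
  infer_instance

end Rees

section Filtration

open Polynomial IsLocalRing

theorem totalDegree_map_le {R S σ : Type*} [CommSemiring R] [CommSemiring S] (f : R →+* S)
    (p : MvPolynomial σ R) : (MvPolynomial.map f p).totalDegree ≤ p.totalDegree :=
  Finset.sup_mono (MvPolynomial.support_map_subset _ _)

variable {A σ : Type*} [CommRing A] [IsLocalRing A]

theorem exists_lift_totalDegree (p : MvPolynomial σ (ResidueField A)) :
    ∃ q : MvPolynomial σ A, MvPolynomial.map (residue A) q = p ∧ q.totalDegree ≤ p.totalDegree := by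
  choose g hg using residue_surjective (R := A)
  refine ⟨∑ m ∈ p.support, MvPolynomial.monomial m (g (p.coeff m)), ?_, ?_⟩
  · rw [map_sum]
    conv_rhs => rw [p.as_sum]
    refine Finset.sum_congr rfl fun m _ => ?_
    rw [MvPolynomial.map_monomial, hg]
  · refine MvPolynomial.totalDegree_finsetSum_le fun m hm => ?_
    exact (MvPolynomial.totalDegree_monomial_le _ _).trans (MvPolynomial.le_totalDegree hm)

/-- The reduction of the Rees module of `N`. -/
def redRees {r : ℕ} (N : Submodule (MvPolynomial σ A) (Fin r → MvPolynomial σ A)) :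
    Submodule (rees σ (ResidueField A)) (Fin r → rees σ (ResidueField A)) where
  carrier := {w | ∀ d, ∃ n ∈ N, (∀ j, (n j).totalDegree ≤ d) ∧
    ∀ j, MvPolynomial.map (residue A) (n j) = (w j).1.coeff d}
  add_mem' := by
    intro v w hv hw d
    obtain ⟨n, hn, hn', hn''⟩ := hv d
    obtain ⟨m, hm, hm', hm''⟩ := hw d
    refine ⟨n + m, add_mem hn hm, fun j => ?_, fun j => ?_⟩
    · exact (MvPolynomial.totalDegree_add _ _).trans (max_le (hn' j) (hm' j))
    · simp [hn'', hm'']
  zero_mem' := by
    intro d
    exact ⟨0, zero_mem _, by simp, by simp⟩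
  smul_mem' := by
    intro c w hw d
    choose n hn hn' hn'' using hw
    choose q hq hq' using fun a => exists_lift_totalDegree (A := A) (c.1.coeff a)
    refine ⟨∑ x ∈ Finset.antidiagonal d, q x.1 • n x.2, ?_, ?_, ?_⟩
    · exact Submodule.sum_mem _ fun x _ => Submodule.smul_mem _ _ (hn _)
    · intro j
      rw [Finset.sum_apply]
      refine MvPolynomial.totalDegree_finsetSum_le ?_
      rintro ⟨a, b⟩ hab
      rw [Finset.mem_antidiagonal] at hab
      exact (MvPolynomial.totalDegree_mul _ _).trans
        (hab ▸ add_le_add ((hq' a).trans (c.2 a)) (hn' b j))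
    · intro j
      rw [Finset.sum_apply, map_sum]
      have : ((c • w) j).1 = c.1 * (w j).1 := rfl
      rw [this, Polynomial.coeff_mul]
      refine Finset.sum_congr rfl fun x _ => ?_
      simp only [Pi.smul_apply, smul_eq_mul, map_mul, hq, hn'']

theorem mem_redRees {r : ℕ} {N : Submodule (MvPolynomial σ A) (Fin r → MvPolynomial σ A)}
    {w : Fin r → rees σ (ResidueField A)} : w ∈ redRees N ↔ ∀ d, ∃ n ∈ N,
      (∀ j, (n j).totalDegree ≤ d) ∧
      ∀ j, MvPolynomial.map (residue A) (n j) = (w j).1.coeff d := Iff.rfl

/-- The degree `≤ d` part of a submodule `N`. -/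
noncomputable def degPart {A σ : Type*} [CommRing A] {r : ℕ}
    (N : Submodule (MvPolynomial σ A) (Fin r → MvPolynomial σ A)) (d : ℕ) :
    Submodule A (Fin r → MvPolynomial σ A) :=
  N.restrictScalars A ⊓ Submodule.pi Set.univ (fun _ => MvPolynomial.restrictTotalDegree σ A d)

theorem mem_degPart {A σ : Type*} [CommRing A] {r : ℕ}
    {N : Submodule (MvPolynomial σ A) (Fin r → MvPolynomial σ A)} {d : ℕ}
    {n : Fin r → MvPolynomial σ A} :
    n ∈ degPart N d ↔ n ∈ N ∧ ∀ j, (n j).totalDegree ≤ d := by
  simp [degPart, Submodule.mem_pi, MvPolynomial.mem_restrictTotalDegree]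

theorem fg_of_degPart [Finite σ] {r : ℕ}
    (N : Submodule (MvPolynomial σ A) (Fin r → MvPolynomial σ A))
    (h1 : ∀ d, (degPart N d).FG)
    (h2 : ∀ d, ∀ n ∈ degPart N d, (∀ j, MvPolynomial.map (residue A) (n j) = 0) →
      n ∈ maximalIdeal A • degPart N d) : N.FG := by
  classical
  have : IsNoetherian (rees σ (ResidueField A)) (Fin r → rees σ (ResidueField A)) :=
    isNoetherian_fun_subalgebra _ isNoetherianRing_rees r
  obtain ⟨S, hS⟩ : (redRees N).FG := IsNoetherian.noetherian _
  have hSW : ∀ w ∈ S, w ∈ redRees N := fun w hw => hS ▸ Submodule.subset_span hw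
  -- bound on the `t`-degrees of generators
  let D : ℕ := S.sup fun w => Finset.univ.sup fun j => (w j).1.natDegree
  have hD : ∀ w ∈ S, ∀ d, D < d → ∀ j, (w j).1.coeff d = 0 := by
    intro w hw d hd j
    apply Polynomial.coeff_eq_zero_of_natDegree_lt
    refine lt_of_le_of_lt ?_ hd
    exact (Finset.le_sup (f := fun j => (w j).1.natDegree) (Finset.mem_univ j)).trans
      (Finset.le_sup (f := fun w => Finset.univ.sup fun j => (w j).1.natDegree) hw)
  choose! n hn hn' hn'' using fun w (hw : w ∈ S) => mem_redRees.1 (hSW w hw)
  let N' : Submodule (MvPolynomial σ A) (Fin r → MvPolynomial σ A) :=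
    Submodule.span _ (((S ×ˢ Finset.range (D + 1)).image fun x => n x.1 x.2 : Finset _) : Set _)
  have hN'N : N' ≤ N := by
    rw [Submodule.span_le]
    intro x hx
    simp only [Finset.coe_image, Set.mem_image, Finset.mem_coe, Finset.mem_product] at hx
    obtain ⟨⟨w, d⟩, ⟨hw, hd⟩, rfl⟩ := hx
    exact hn w hw d
  have hle : redRees N ≤ redRees N' := by
    rw [← hS, Submodule.span_le]
    intro w hw
    rw [SetLike.mem_coe, mem_redRees]
    intro d
    rcases Nat.lt_or_ge D d with hd | hd
    · exact ⟨0, zero_mem _, by simp, fun j => by simp [hD w hw d hd j]⟩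
    · refine ⟨n w d, ?_, hn' w hw d, hn'' w hw d⟩
      apply Submodule.subset_span
      simp only [Finset.coe_image, Set.mem_image, Finset.mem_coe, Finset.mem_product]
      exact ⟨(w, d), ⟨hw, by simp; omega⟩, rfl⟩
  have key : ∀ d, degPart N d ≤ N'.restrictScalars A := by
    intro d
    refine Submodule.le_of_le_smul_of_le_jacobson_bot (I := maximalIdeal A) (h1 d)
      (maximalIdeal_le_jacobson _) ?_
    intro x hx
    rw [mem_degPart] at hx
    have hw0 : (fun j => (⟨Polynomial.monomial d (MvPolynomial.map (residue A) (x j)),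
        monomial_mem_rees ((totalDegree_map_le _ _).trans (hx.2 j))⟩ :
          rees σ (ResidueField A))) ∈ redRees N := by
      rw [mem_redRees]
      intro e
      by_cases h : d = e
      · subst h
        exact ⟨x, hx.1, hx.2, fun j => by simp⟩
      · exact ⟨0, zero_mem _, by simp, fun j => by simp [Polynomial.coeff_monomial, h]⟩
    obtain ⟨y, hy, hy', hy''⟩ := mem_redRees.1 (hle hw0) d
    have : x - y ∈ maximalIdeal A • degPart N d := by
      apply h2
      · rw [mem_degPart]
        exact ⟨sub_mem hx.1 (hN'N hy), fun j => (MvPolynomial.totalDegree_sub _ _).trans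
          (max_le (hx.2 j) (hy' j))⟩
      · intro j
        rw [Pi.sub_apply, map_sub, hy'']
        simp
    rw [← add_sub_cancel y x]
    exact Submodule.add_mem_sup hy this
  refine ⟨_, le_antisymm hN'N ?_⟩
  intro x hx
  exact key (Finset.univ.sup fun j => (x j).totalDegree)
    (mem_degPart.2 ⟨hx, fun j => Finset.le_sup (f := fun j => (x j).totalDegree) (Finset.mem_univ j)⟩)

end Filtration

section Valuation

open IsLocalRing

variable {A σ : Type*} [CommRing A] [IsDomain A] [ValuationRing A]

theorem degPart_fg [Finite σ] {r : ℕ}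
    (N : Submodule (MvPolynomial σ A) (Fin r → MvPolynomial σ A))
    (hsat : ∀ a : A, a ≠ 0 → ∀ v, a • v ∈ N → v ∈ N) (d : ℕ) : (degPart N d).FG := by
  let F : Submodule A (Fin r → MvPolynomial σ A) :=
    Submodule.pi Set.univ (fun _ => MvPolynomial.restrictTotalDegree σ A d)
  have hF : F.FG := Submodule.fg_pi fun _ => Module.Finite.iff_fg.1 inferInstance
  have : Module.Finite A F := Module.Finite.iff_fg.2 hF
  let L : F →ₗ[A] (Fin r → MvPolynomial σ A) ⧸ N.restrictScalars A :=
    (N.restrictScalars A).mkQ ∘ₗ F.subtype
  have hflat : Module.Flat A (LinearMap.range L) := by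
    rw [Module.Flat.flat_iff_torsion_eq_bot_of_isBezout, eq_bot_iff]
    rintro ⟨x, y, rfl⟩ hx
    rw [Submodule.mem_torsion_iff] at hx
    obtain ⟨a, ha⟩ := hx
    rw [Submodule.mem_bot]
    ext1
    replace ha := congrArg Subtype.val ha
    change (a : A) • L y = 0 at ha
    change L y = 0
    rw [← map_smul, LinearMap.comp_apply, Submodule.mkQ_apply, Submodule.Quotient.mk_eq_zero] at ha
    rw [LinearMap.comp_apply, Submodule.mkQ_apply, Submodule.Quotient.mk_eq_zero]
    exact hsat a (nonZeroDivisors.coe_ne_zero a) _ ha
  have hfree : Module.Free A (LinearMap.range L) := Module.free_of_flat_of_isLocalRing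
  have hfp : Module.FinitePresentation A (LinearMap.range L) :=
    Module.finitePresentation_of_projective _ _
  have := (Module.FinitePresentation.fg_ker L.rangeRestrict L.surjective_rangeRestrict).map F.subtype
  convert this using 1
  ext x
  simp only [degPart, Submodule.mem_inf, Submodule.mem_map, LinearMap.mem_ker]
  constructor
  · rintro ⟨h1, h2⟩
    refine ⟨⟨x, h2⟩, ?_, rfl⟩
    ext1
    change L _ = 0
    rw [LinearMap.comp_apply, Submodule.mkQ_apply, Submodule.Quotient.mk_eq_zero]
    exact h1
  · rintro ⟨y, hy, rfl⟩
    refine ⟨?_, y.2⟩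
    have := congrArg Subtype.val hy
    change L _ = 0 at this
    rwa [LinearMap.comp_apply, Submodule.mkQ_apply, Submodule.Quotient.mk_eq_zero] at this

theorem fg_of_saturated [Finite σ] {r : ℕ}
    (N : Submodule (MvPolynomial σ A) (Fin r → MvPolynomial σ A))
    (hsat : ∀ a : A, a ≠ 0 → ∀ v, a • v ∈ N → v ∈ N) : N.FG := by
  classical
  refine fg_of_degPart N (degPart_fg N hsat) ?_
  intro d n hn hn'
  -- the finitely many coefficients generate a principal ideal
  let s : Finset A := Finset.univ.biUnion fun j => (n j).support.image fun m => (n j).coeff m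
  have hs : ∀ j m, (n j).coeff m ∈ Ideal.span (s : Set A) := by
    intro j m
    by_cases h : (n j).coeff m = 0
    · rw [h]; exact zero_mem _
    · apply Ideal.subset_span
      simp only [s, Finset.coe_biUnion, Finset.mem_coe, Finset.mem_univ, Set.iUnion_true,
        Set.mem_iUnion, Finset.coe_image, Set.mem_image]
      exact ⟨j, m, by simpa using h, rfl⟩
  have hsm : Ideal.span (s : Set A) ≤ maximalIdeal A := by
    rw [Ideal.span_le]
    intro x hx
    simp only [s, Finset.coe_biUnion, Finset.mem_coe, Finset.mem_univ, Set.iUnion_true,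
        Set.mem_iUnion, Finset.coe_image, Set.mem_image] at hx
    obtain ⟨j, m, _, rfl⟩ := hx
    rw [SetLike.mem_coe, ← residue_eq_zero_iff, ← MvPolynomial.coeff_map, hn', MvPolynomial.coeff_zero]
  obtain ⟨a, ha⟩ : ∃ a, Ideal.span (s : Set A) = Ideal.span {a} := by
    obtain ⟨a, ha⟩ : (Ideal.span (s : Set A)).IsPrincipal :=
      IsBezout.isPrincipal_of_FG _ ⟨s, rfl⟩
    exact ⟨a, by rw [ha, Ideal.submodule_span_eq]⟩
  have ha' : a ∈ maximalIdeal A := hsm (ha ▸ Ideal.mem_span_singleton_self a)
  rcases eq_or_ne a 0 with rfl | ha0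
  · have : n = 0 := by
      ext j m
      have := hs j m
      rw [ha, Ideal.mem_span_singleton, zero_dvd_iff] at this
      simpa using this
    rw [this]; exact zero_mem _
  have hdvd : ∀ j m, a ∣ (n j).coeff m := fun j m => by
    have := hs j m
    rwa [ha, Ideal.mem_span_singleton] at this
  choose c hc using hdvd
  let v : Fin r → MvPolynomial σ A := fun j => ∑ m ∈ (n j).support, MvPolynomial.monomial m (c j m)
  have hv : a • v = n := by
    ext1 j
    simp only [Pi.smul_apply, v, Finset.smul_sum, MvPolynomial.smul_monomial, smul_eq_mul, ← hc]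
    exact (n j).as_sum.symm
  have hvd : ∀ j, (v j).totalDegree ≤ d := fun j => by
    refine MvPolynomial.totalDegree_finsetSum_le fun m hm => ?_
    exact (MvPolynomial.totalDegree_monomial_le _ _).trans
      ((MvPolynomial.le_totalDegree hm).trans ((mem_degPart.1 hn).2 j))
  rw [← hv]
  refine Submodule.smul_mem_smul ha' (mem_degPart.2 ⟨hsat a ha0 v ?_, hvd⟩)
  rw [hv]
  exact (mem_degPart.1 hn).1

end Valuation

/-- Stacks Tag 053E: over a valuation ring A, a finite module over a finite type A-algebra B which is flat over A is finitely presented as a B-module (the non-Noetherian, valuation-ring case of the Raynaud–Gruson finite presentation result). -/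
theorem result {A B M : Type u} [CommRing A] [IsDomain A] [ValuationRing A] [CommRing B] [Algebra A B] [Algebra.FiniteType A B]
    [AddCommGroup M] [Module B M] [Module A M] [IsScalarTower A B M] [Module.Finite B M] [Module.Flat A M] :
    Module.FinitePresentation B M := by
  obtain ⟨n, f, hf⟩ := Algebra.FiniteType.iff_quotient_mvPolynomial''.1 ‹Algebra.FiniteType A B›
  obtain ⟨r, π, hπ⟩ := Module.Finite.exists_fin' B M
  refine Module.finitePresentation_of_surjective π hπ ?_
  let N : Submodule (MvPolynomial (Fin n) A) (Fin r → MvPolynomial (Fin n) A) :=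
    { carrier := {v | π (fun j => f (v j)) = 0}
      add_mem' := by
        intro v w hv hw
        have : (fun j => f ((v + w) j)) = (fun j => f (v j)) + fun j => f (w j) := by
          ext j; simp
        simp only [Set.mem_ofPred_eq] at hv hw ⊢
        rw [this, map_add, hv, hw, add_zero]
      zero_mem' := by
        have : (fun j => f ((0 : Fin r → MvPolynomial (Fin n) A) j)) = 0 := by
          ext j; simp
        simp only [Set.mem_ofPred_eq]
        rw [this, map_zero]
      smul_mem' := by
        intro c v hv
        have : (fun j => f ((c • v) j)) = f c • (fun j => f (v j)) := by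
          ext j; simp
        simp only [Set.mem_ofPred_eq] at hv ⊢
        rw [this, map_smul, hv, smul_zero] }
  have hmem : ∀ v, v ∈ N ↔ π (fun j => f (v j)) = 0 := fun _ => Iff.rfl
  have hN : N.FG := by
    apply fg_of_saturated
    intro a ha v hv
    rw [hmem] at hv ⊢
    have : (fun j => f ((a • v) j)) = algebraMap A B a • (fun j => f (v j)) := by
      ext j; simp [Algebra.smul_def]
    rw [this, map_smul, algebraMap_smul] at hv
    exact (smul_eq_zero_iff_right ha).1 hv
  obtain ⟨S, hS⟩ := hN
  classical
  refine ⟨S.image fun v j => f (v j), le_antisymm ?_ ?_⟩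
  · rw [Submodule.span_le]
    intro w hw
    rw [Finset.coe_image] at hw
    obtain ⟨v, hv, rfl⟩ := hw
    exact (hmem v).1 (hS ▸ Submodule.subset_span hv)
  · intro w hw
    choose v hv using fun j => hf (w j)
    obtain rfl : (fun j => f (v j)) = w := funext hv
    have hvN : v ∈ Submodule.span (MvPolynomial (Fin n) A)
        (S : Set (Fin r → MvPolynomial (Fin n) A)) := by
      rw [hS, hmem]; exact hw
    clear hv hw
    induction hvN using Submodule.span_induction with
    | mem x hx => 
      apply Submodule.subset_span
      rw [Finset.coe_image]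
      exact ⟨x, hx, rfl⟩
    | zero => 
      convert Submodule.zero_mem _ using 1
      ext j; simp
    | add x y _ _ hx hy =>
      convert Submodule.add_mem _ hx hy using 1
      ext j; simp
    | smul c x _ hx =>
      convert Submodule.smul_mem _ (f c) hx using 1
      ext j; simp

end Groth.Agent.S0437
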