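import Groth.Statements.S1380
import Groth.Agent.Flat2E.SplitIntegral2

set_option autoImplicit false
universe u
open FlatMor

namespace Groth.Agent.S1380

open TensorProduct in
theorem case_empty {R S : Type u} [CommRing R] [CommRing S] [Algebra R S] [Algebra.IsIntegral R S]
    (p : Ideal R) [hp : p.IsPrime] (hemp : ∀ q : PrimeSpectrum S, q.asIdeal.comap (algebraMap R S) ≠ p) :
    ∃ (R' : Type u) (_ : CommRing R') (_ : Algebra R R') (p' : PrimeSpectrum R'), Algebra.Etale R R' ∧
      p'.asIdeal.comap (algebraMap R R') = p ∧ Subsingleton (R' ⊗[R] S) := by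
  have hclosed : IsClosed (Set.range (PrimeSpectrum.comap (algebraMap R S))) :=
    (PrimeSpectrum.isClosedMap_comap_of_isIntegral (algebraMap R S)
      (algebraMap_isIntegral_iff.mpr inferInstance)).isClosed_range
  have hmem : (⟨p, hp⟩ : PrimeSpectrum R) ∈ (Set.range (PrimeSpectrum.comap (algebraMap R S)))ᶜ := by
    rintro ⟨q, hq⟩
    exact hemp q congr($(hq).asIdeal)
  obtain ⟨_, ⟨_, ⟨f, rfl⟩, rfl⟩, hf1, hf2⟩ :=
    PrimeSpectrum.isBasis_basic_opens.exists_subset_of_mem_open hmem hclosed.isOpen_compl
  have hfn : IsNilpotent (algebraMap R S f) := by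
    rw [nilpotent_iff_mem_prime]
    intro J hJ
    by_contra hn
    exact hf2 (show PrimeSpectrum.comap (algebraMap R S) ⟨J, hJ⟩ ∈ _ from hn) ⟨_, rfl⟩
  have hr := PrimeSpectrum.localization_away_comap_range (Localization.Away f) f
  obtain ⟨p', hp'⟩ : (⟨p, hp⟩ : PrimeSpectrum R) ∈ Set.range (PrimeSpectrum.comap (algebraMap R (Localization.Away f))) := by
    rw [hr]; exact hf1
  refine ⟨Localization.Away f, inferInstance, inferInstance, p', inferInstance, congr($(hp').asIdeal), ?_⟩
  have hu : IsUnit (algebraMap (Localization.Away f) (Localization.Away f ⊗[R] S) (algebraMap R _ f)) :=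
    (IsLocalization.Away.algebraMap_isUnit f).map _
  have hn : IsNilpotent (algebraMap (Localization.Away f) (Localization.Away f ⊗[R] S) (algebraMap R _ f)) := by
    rw [← IsScalarTower.algebraMap_apply,
      ← (Algebra.TensorProduct.includeRight : S →ₐ[R] Localization.Away f ⊗[R] S).commutes]
    exact hfn.map _
  obtain ⟨n, hn⟩ := hn
  have := hu.pow n
  rw [hn] at this
  exact subsingleton_of_zero_eq_one (isUnit_zero_iff.mp this)

open TensorProduct in
/-- Stacks Tag 0BSR: let R → S be integral and p a prime of R with only finitely many primes of S above it, such that for each of them the separable closure of κ(p) in its residue field is finite over κ(p). Then there are an étale R-algebra R' and a prime p' of R' over p such that R' ⊗ S is a finite product of R'-algebras, each integral over R' with exactly one prime over p', whose residue field is purely inseparable over κ(p'). -/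
theorem result {R S : Type u} [CommRing R] [CommRing S] [Algebra R S] [Algebra.IsIntegral R S]
    (p : Ideal R) [p.IsPrime] (hfin : {q : PrimeSpectrum S | q.asIdeal.comap (algebraMap R S) = p}.Finite)
    (hsep : ∀ (q : PrimeSpectrum S) (hq : q.asIdeal.comap (algebraMap R S) = p),
      letI := (Ideal.ResidueField.map p q.asIdeal (algebraMap R S) hq.symm).toAlgebra
      Module.Finite p.ResidueField (separableClosure p.ResidueField q.asIdeal.ResidueField)) :
    ∃ (R' : Type u) (_ : CommRing R') (_ : Algebra R R') (p' : PrimeSpectrum R'), Algebra.Etale R R' ∧ p'.asIdeal.comap (algebraMap R R') = p ∧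
      ∃ (m : ℕ) (A : Fin m → Type u) (_ : ∀ j, CommRing (A j)) (_ : ∀ j, Algebra R' (A j)) (e : R' ⊗[R] S ≃ₐ[R'] (Π j, A j)),
        ∀ j, Algebra.IsIntegral R' (A j) ∧ ∃ (r : PrimeSpectrum (A j)) (hr : r.asIdeal.comap (algebraMap R' (A j)) = p'.asIdeal),
          (∀ r' : PrimeSpectrum (A j), r'.asIdeal.comap (algebraMap R' (A j)) = p'.asIdeal → r' = r) ∧
          letI := (Ideal.ResidueField.map p'.asIdeal r.asIdeal (algebraMap R' (A j)) hr.symm).toAlgebra
          IsPurelyInseparable p'.asIdeal.ResidueField r.asIdeal.ResidueField := by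
  classical
  by_cases hne : ∃ q₀ : PrimeSpectrum S, q₀.asIdeal.comap (algebraMap R S) = p
  · obtain ⟨q₀, hq₀⟩ := hne
    let ℓ := ringExpChar p.ResidueField
    have hℓ : ExpChar p.ResidueField ℓ := ringExpChar.expChar _
    obtain ⟨R', _, _, hR', P, hP, hPp, n, e, he, hex, huniq, hpi⟩ :=
      Groth.Agent.Flat2E.SplitIntegral2.exists_etale_idempotents p ℓ hfin hsep q₀ hq₀
    have hℓP : ExpChar P.ResidueField ℓ :=
      expChar_of_injective_ringHom (Ideal.ResidueField.mapₐ p P (Algebra.ofId R R') (P.over_def p)).toRingHom.injective ℓ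
    refine ⟨R', inferInstance, inferInstance, ⟨P, hP⟩, hR', (P.over_def p).symm, ?_⟩
    obtain ⟨m, A, i1, i2, f, hf⟩ := Groth.Agent.Flat2E.SplitIntegral.assemble P ℓ n e he hex huniq
      (Set.range (algebraMap R' (R' ⊗[R] S)) ∪ Set.range (fun s : S => (1 : R') ⊗ₜ[R] s)) (by
        rw [eq_top_iff]
        intro x _
        induction x using TensorProduct.induction_on with
        | zero => exact zero_mem _
        | add x y hx hy => exact add_mem (hx trivial) (hy trivial)
        | tmul x y =>
          have : x ⊗ₜ[R] y = algebraMap R' (R' ⊗[R] S) x * ((1 : R') ⊗ₜ[R] y) := by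
            rw [Algebra.TensorProduct.algebraMap_apply, Algebra.algebraMap_self_apply,
              Algebra.TensorProduct.tmul_mul_tmul, mul_one, one_mul]
          rw [this]
          exact mul_mem (Subring.subset_closure (Or.inl ⟨x, rfl⟩)) (Subring.subset_closure (Or.inr ⟨y, rfl⟩)))
      (by
        rintro M _ χ ρ hχρ _ (⟨x, rfl⟩ | ⟨s, rfl⟩)
        · refine ⟨0, ?_⟩
          rw [pow_zero, pow_one]
          exact ⟨algebraMap R' P.ResidueField x, (RingHom.congr_fun hχρ x).symm⟩
        · exact hpi M χ ρ hχρ s)
    exact ⟨m, A, i1, i2, f, hf⟩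
  · push Not at hne
    obtain ⟨R', _, _, p', hR', hp', hsub⟩ := case_empty p hne
    refine ⟨R', inferInstance, inferInstance, p', hR', hp', 0, fun _ => R', fun _ => inferInstance,
      fun _ => inferInstance, AlgEquiv.ofBijective (AlgHom.pi fun j => j.elim0) ⟨?_, ?_⟩, fun j => j.elim0⟩
    · intro x y _
      exact Subsingleton.elim _ _
    · intro y
      exact ⟨0, Subsingleton.elim _ _⟩

end Groth.Agent.S1380
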