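import Groth.Statements.S1435
-- import your own Groth.Agent.* helpers here

set_option autoImplicit false
universe u
open FlatMor

namespace Groth.Agent.S1435

open AlgebraicGeometry CategoryTheory Limits TopologicalSpace

/-- A set which is the image of an affine scheme under an affine immersion. -/
def Good (X : Scheme.{u}) (T : Set X) : Prop :=
  ∃ (Z : Scheme.{u}) (ι : Z ⟶ X), IsImmersion ι ∧ IsAffine Z ∧ IsAffineHom ι ∧ Set.range ι = T

lemma good_of_affine (X : Scheme.{u}) (D W : X.Opens) (hD : IsAffineOpen D)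
    (hU : ∀ x : X, ∃ U : X.Opens, IsAffineOpen U ∧ x ∈ U ∧
      ((D : Set X) \ W ⊆ U ∨ Disjoint ((D : Set X) \ W) (U : Set X))) :
    Good X ((D : Set X) \ W) := by
  have : IsAffine D := hD
  let C : Closeds D := ⟨(D.ι ⁻¹ᵁ W : Set D)ᶜ, (D.ι ⁻¹ᵁ W).isOpen.isClosed_compl⟩
  let I := Scheme.IdealSheafData.vanishingIdeal C
  let ι : I.subscheme ⟶ X := I.subschemeι ≫ D.ι
  have hr : Set.range ι = (D : Set X) \ W := by
    have h1 : Set.range I.subschemeι = (C : Set D) := by
      rw [Scheme.IdealSheafData.range_subschemeι]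
      simp [I, Scheme.IdealSheafData.coe_support_vanishingIdeal]
    have h2 : Set.range ι = D.ι '' Set.range I.subschemeι := by
      rw [← Set.range_comp]; rfl
    rw [h2, h1]
    ext x
    simp only [Set.mem_image, Set.mem_sdiff]
    constructor
    · rintro ⟨y, hy, rfl⟩
      exact ⟨y.2, hy⟩
    · rintro ⟨hx, hx'⟩
      exact ⟨⟨x, hx⟩, hx', rfl⟩
  have hZ : IsAffine I.subscheme := isAffine_of_isAffineHom I.subschemeι
  refine ⟨I.subscheme, ι, inferInstance, hZ, ?_, hr⟩
  refine isAffineHom_of_forall_exists_isAffineOpen _ fun x => ?_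
  obtain ⟨U, hU1, hU2, hU3⟩ := hU x
  refine ⟨U, hU2, hU1, ?_⟩
  rcases hU3 with h | h
  · have : ι ⁻¹ᵁ U = ⊤ := by
      ext z
      simp
      exact h (hr ▸ Set.mem_range_self z)
    rw [this]
    exact isAffineOpen_top _
  · have : ι ⁻¹ᵁ U = ⊥ := by
      ext z
      simp
      exact fun hz => Set.disjoint_left.mp h (hr ▸ Set.mem_range_self z) hz
    rw [this]
    exact isAffineOpen_bot _

/-- Opens reachable from the empty one by adding affine strata. -/
inductive Reach (X : Scheme.{u}) : X.Opens → Prop
  | bot : Reach X ⊥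
  | step (W W' : X.Opens) : Reach X W → W ≤ W' → Good X ((W' : Set X) \ W) → Reach X W'

lemma Reach.chain {X : Scheme.{u}} {W : X.Opens} (h : Reach X W) :
    ∃ (n : ℕ) (c : ℕ → X.Opens), c 0 = ⊥ ∧ c n = W ∧ (∀ i < n, c i ≤ c (i + 1)) ∧
      ∀ i < n, Good X ((c (i + 1) : Set X) \ c i) := by
  induction h with
  | bot => exact ⟨0, fun _ => ⊥, rfl, rfl, by simp, by simp⟩
  | step W W' hW hle hg ih =>
    obtain ⟨n, c, h0, hn, hc, hgc⟩ := ih
    refine ⟨n + 1, fun i => if i ≤ n then c i else W', by simp [h0], by simp, ?_, ?_⟩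
    · intro i hi
      rcases Nat.lt_succ_iff_lt_or_eq.mp hi with hi' | rfl
      · simp only [hi'.le, if_true, Nat.succ_le_of_lt hi']
        exact hc i hi'
      · simp [hn, hle]
    · intro i hi
      rcases Nat.lt_succ_iff_lt_or_eq.mp hi with hi' | rfl
      · simp only [hi'.le, if_true, Nat.succ_le_of_lt hi']
        exact hgc i hi'
      · simpa [hn] using hg

lemma hasAffineStratification_of_reach {X : Scheme.{u}} (h : Reach X ⊤) :
    ∃ n, MoreMor.HasAffineStratification X n := by
  classical
  obtain ⟨n, c, h0, hn, hc, hg⟩ := h.chain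
  have hmono : ∀ j ≤ n, ∀ i ≤ j, c i ≤ c j := by
    intro j hj
    induction j with
    | zero => intro i hi; obtain rfl : i = 0 := by omega
              exact le_rfl
    | succ j ih =>
      intro i hi
      rcases Nat.lt_succ_iff_lt_or_eq.mp (Nat.lt_succ_of_le hi) with hi' | rfl
      · exact (ih (by omega) i (by omega)).trans (hc j (by omega))
      · exact le_rfl
  have hex : ∀ x : X, ∃ j, x ∈ c j := fun x => ⟨n, by rw [hn]; trivial⟩
  let fd : X → ℕ := fun x => Nat.find (hex x)
  have hfd : ∀ x, x ∈ c (fd x) := fun x => Nat.find_spec (hex x)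
  have hfdn : ∀ x, fd x ≤ n := fun x => Nat.find_min' (hex x) (by rw [hn]; trivial)
  have hfd0 : ∀ x, 0 < fd x := by
    intro x
    rcases Nat.eq_zero_or_pos (fd x) with h | h
    · have := hfd x
      rw [h, h0] at this
      exact this.elim
    · exact h
  have hle : ∀ x j, j ≤ n → (x ∈ c j ↔ fd x ≤ j) := by
    intro x j hj
    exact ⟨fun h => Nat.find_min' (hex x) h, fun h => hmono j hj _ h (hfd x)⟩
  refine ⟨n, fun x => ⟨n - fd x, by omega⟩, ?_, ?_⟩
  · intro i
    by_cases hi : (i : ℕ) = n
    · convert isClosed_univ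
      ext x
      simp only [Set.mem_ofPred_eq, Set.mem_univ, iff_true, Fin.le_def, hi]
      omega
    · have hi' : (i : ℕ) < n := by omega
      have : {x : X | (⟨n - fd x, by omega⟩ : Fin (n + 1)) ≤ i} = (c (n - i - 1) : Set X)ᶜ := by
        ext x
        simp only [Set.mem_ofPred_eq, Fin.le_def, Set.mem_compl_iff, SetLike.mem_coe]
        rw [hle x _ (by omega)]
        have := hfdn x
        omega
      rw [this]
      exact (c _).isOpen.isClosed_compl
  · intro i
    by_cases hi : (i : ℕ) = n
    · refine ⟨⊥_ Scheme, initial.to X, inferInstance, inferInstance, inferInstance, ?_⟩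
      ext x
      simp only [Set.mem_range, Set.mem_ofPred_eq, Fin.ext_iff, hi]
      constructor
      · rintro ⟨y, _⟩
        exact (isEmptyElim y)
      · intro h
        have := hfd0 x
        have := hfdn x
        omega
    · have hi' : (i : ℕ) < n := by omega
      obtain ⟨Z, ι, h1, h2, h3, h4⟩ := hg (n - i - 1) (by omega)
      refine ⟨Z, ι, h1, h2, h3, h4.trans ?_⟩
      ext x
      simp only [Set.mem_sdiff, SetLike.mem_coe, Set.mem_ofPred_eq, Fin.ext_iff]
      rw [hle x _ (by omega), hle x _ (by omega)]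
      have := hfdn x
      omega

lemma qcqs_of_stratification {X : Scheme.{u}} {n : ℕ} (h : MoreMor.HasAffineStratification X n) :
    CompactSpace ↑X ∧ QuasiSeparatedSpace ↑X := by
  obtain ⟨s, -, h⟩ := h
  choose Z ι h1 h2 h3 h4 using h
  have hcov : ∀ x : X, ∃ (i : Fin (n + 1)) (z : Z i), ι i z = x := by
    intro x
    have : x ∈ Set.range (ι (s x)) := by rw [h4]; rfl
    obtain ⟨z, hz⟩ := this
    exact ⟨s x, z, hz⟩
  constructor
  · constructor
    have : (Set.univ : Set X) = ⋃ i, Set.range (ι i) := by
      ext x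
      obtain ⟨i, z, hz⟩ := hcov x
      simp only [Set.mem_univ, Set.mem_iUnion, true_iff]
      exact ⟨i, z, hz⟩
    rw [this]
    refine isCompact_iUnion fun i => ?_
    have := h2 i
    exact isCompact_range (ι i).continuous
  · rw [quasiSeparatedSpace_iff_forall_affineOpens]
    intro U V
    have : (U ∩ V : Set X) = ⋃ i, ι i '' ((ι i ⁻¹ᵁ U.1 : Set (Z i)) ∩ (ι i ⁻¹ᵁ V.1 : Set (Z i))) := by
      ext x
      simp only [Set.mem_iUnion, Set.mem_image, Set.mem_inter_iff]
      constructor
      · intro hx
        obtain ⟨i, z, rfl⟩ := hcov x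
        exact ⟨i, z, hx, rfl⟩
      · rintro ⟨i, z, hx, rfl⟩
        exact hx
    rw [this]
    refine isCompact_iUnion fun i => ?_
    have := h2 i
    have := h3 i
    refine IsCompact.image ?_ (ι i).continuous
    exact QuasiSeparatedSpace.inter_isCompact _ _ (ι i ⁻¹ᵁ U.1).isOpen (U.2.preimage (ι i)).isCompact
      (ι i ⁻¹ᵁ V.1).isOpen (V.2.preimage (ι i)).isCompact

/-- Adding a finite union of affine opens. -/
lemma reach_sup {X : Scheme.{u}} (W0 Q : X.Opens)
    (hQ : ∀ x : X, ∃ U : X.Opens, IsAffineOpen U ∧ x ∈ U ∧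
      ((Q : Set X) \ W0 ⊆ U ∨ Disjoint ((Q : Set X) \ W0) (U : Set X)))
    (S : Set X.affineOpens) (hS : S.Finite) (hSQ : ∀ D ∈ S, (D : X.Opens) ≤ Q)
    (W : X.Opens) (hW : Reach X W) (hW0 : W0 ≤ W) :
    Reach X (W ⊔ ⨆ D ∈ S, (D : X.Opens)) := by
  induction S, hS using Set.Finite.induction_on with
  | empty => simpa using hW
  | @insert D S hD hS ih =>
    have ih' := ih (fun D hD => hSQ D (Set.mem_insert_of_mem _ hD))
    have e : (W ⊔ ⨆ D' ∈ insert D S, (D' : X.Opens)) = (W ⊔ ⨆ D ∈ S, (D : X.Opens)) ⊔ D.1 := by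
      rw [iSup_insert, sup_comm D.1, sup_assoc]
    rw [e]
    have hsub : (((W ⊔ ⨆ D ∈ S, (D : X.Opens)) ⊔ D.1 : X.Opens) : Set X) \ (W ⊔ ⨆ D ∈ S, (D : X.Opens) : X.Opens) =
        (D.1 : Set X) \ (W ⊔ ⨆ D ∈ S, (D : X.Opens) : X.Opens) := by
      rw [Opens.coe_sup (W ⊔ ⨆ D ∈ S, (D : X.Opens)), Set.union_sdiff_left]
    refine Reach.step _ _ ih' le_sup_left ?_
    rw [hsub]
    refine good_of_affine X _ _ D.2 fun x => ?_
    obtain ⟨U, h1, h2, h3⟩ := hQ x
    refine ⟨U, h1, h2, ?_⟩
    have hle : (D.1 : Set X) \ (W ⊔ ⨆ D ∈ S, (D : X.Opens) : X.Opens) ⊆ (Q : Set X) \ W0 := by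
      intro y hy
      exact ⟨hSQ D (Set.mem_insert _ _) hy.1, fun h => hy.2 (Or.inl (hW0 h))⟩
    rcases h3 with h | h
    · exact Or.inl (hle.trans h)
    · exact Or.inr (h.mono_left hle)

lemma reach_top {X : Scheme.{u}} [CompactSpace X] [QuasiSeparatedSpace X] : Reach X ⊤ := by
  classical
  obtain ⟨A, hA, hAe⟩ := isCompact_iff_finite_and_eq_biUnion_affineOpens.mp
    (show IsCompact ((⊤ : X.Opens) : Set X) from isCompact_univ)
  have : Fintype A := hA.fintype
  obtain ⟨n, hn⟩ : ∃ n, n = Fintype.card A := ⟨_, rfl⟩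
  -- for a finset of indices the intersection
  let Q : Finset A → X.Opens := fun I => I.inf (fun i => (i.1 : X.Opens))
  let V : ℕ → X.Opens := fun c => ⨆ (I : Finset A) (_ : c ≤ I.card), Q I
  have hmemQ : ∀ (I : Finset A) (x : X), x ∈ Q I ↔ ∀ i ∈ I, x ∈ (i.1 : X.Opens) := by
    intro I x
    induction I using Finset.induction_on with
    | empty => simp [Q]
    | @insert i I hi ih =>
      have : Q (insert i I) = (i.1 : X.Opens) ⊓ Q I := by simp [Q, Finset.inf_insert]
      rw [this, Finset.forall_mem_insert, ← ih]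
      rfl
  have hQc : ∀ I : Finset A, I.Nonempty → IsCompact (Q I : Set X) := by
    intro I hI
    induction hI using Finset.Nonempty.cons_induction with
    | singleton i => simpa [Q] using i.1.2.isCompact
    | cons i I hi hI ih =>
      have : Q (Finset.cons i I hi) = (i.1 : X.Opens) ⊓ Q I := by simp [Q]
      rw [this]
      exact QuasiSeparatedSpace.inter_isCompact _ _ i.1.1.isOpen i.1.2.isCompact (Q I).isOpen ih
  have hmemV : ∀ (c : ℕ) (x : X), x ∈ V c ↔ ∃ I : Finset A, c ≤ I.card ∧ x ∈ Q I := by
    intro c x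
    simp [V]
  have hcov : ∀ x : X, ∃ i : A, x ∈ (i.1 : X.Opens) := by
    intro x
    have : x ∈ (⊤ : X.Opens) := trivial
    rw [hAe] at this
    simp only [Opens.mem_iSup] at this
    obtain ⟨i, hi, hx⟩ := this
    exact ⟨⟨i, hi⟩, hx⟩
  have hV1 : V 1 = ⊤ := by
    ext x
    simp only [SetLike.mem_coe, hmemV, Opens.coe_top, Set.mem_univ, iff_true]
    obtain ⟨i, hi⟩ := hcov x
    exact ⟨{i}, by simp, by rw [hmemQ]; simpa using hi⟩
  have hmain : ∀ k, Reach X (V (n + 1 - k)) := by
    intro k
    induction k with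
    | zero =>
      have : V (n + 1 - 0) = ⊥ := by
        ext x
        simp only [SetLike.mem_coe, hmemV, Opens.coe_bot, Set.mem_empty_iff_false, iff_false]
        rintro ⟨I, hI, -⟩
        have := Finset.card_le_univ I
        omega
      rw [this]
      exact Reach.bot
    | succ k ih =>
      by_cases hk : k < n
      · obtain ⟨c, hc⟩ : ∃ c, c = n - k := ⟨_, rfl⟩
        have e1 : n + 1 - k = c + 1 := by omega
        have e2 : n + 1 - (k + 1) = c := by omega
        rw [e1] at ih
        rw [e2]
        have hstep : ∀ S : Finset (Finset A), (∀ I ∈ S, I.card = c) →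
            Reach X (V (c + 1) ⊔ ⨆ I ∈ S, Q I) := by
          intro S
          induction S using Finset.induction_on with
          | empty => intro _; simpa using ih
          | @insert I S hI hS =>
            intro hcard
            have ih' := hS (fun J hJ => hcard J (Finset.mem_insert_of_mem hJ))
            have hIc : I.card = c := hcard I (Finset.mem_insert_self _ _)
            have e : (V (c + 1) ⊔ ⨆ J ∈ insert I S, Q J) = (V (c + 1) ⊔ ⨆ J ∈ S, Q J) ⊔ Q I := by
              rw [Finset.iSup_insert, sup_comm (Q I), sup_assoc]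
            rw [e]
            obtain ⟨T, hT, hTe⟩ := isCompact_iff_finite_and_eq_biUnion_affineOpens.mp
              (hQc I (by rw [← Finset.card_pos]; omega))
            rw [hTe]
            refine reach_sup (V (c + 1)) (Q I) ?_ T hT ?_ _ ih' le_sup_left
            · intro x
              obtain ⟨i, hi⟩ := hcov x
              refine ⟨i.1, i.1.2, hi, ?_⟩
              by_cases hiI : i ∈ I
              · left
                intro y hy
                exact (hmemQ I y).mp hy.1 i hiI
              · right
                rw [Set.disjoint_left]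
                intro y hy hy'
                refine hy.2 ((hmemV _ _).mpr ⟨insert i I, ?_, ?_⟩)
                · rw [Finset.card_insert_of_notMem hiI, hIc]
                · rw [hmemQ, Finset.forall_mem_insert]
                  exact ⟨hy', (hmemQ I y).mp hy.1⟩
            · intro D hD
              rw [hTe]
              exact le_iSup₂_of_le D hD le_rfl
        have := hstep (Finset.univ.filter (fun I => I.card = c)) (by simp)
        convert this
        ext x
        simp only [SetLike.mem_coe, hmemV, Opens.coe_sup, Set.mem_union, Opens.mem_iSup,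
          Finset.mem_filter, Finset.mem_univ, true_and]
        constructor
        · rintro ⟨I, hI, hx⟩
          rcases Nat.lt_or_ge c I.card with h | h
          · exact Or.inl ⟨I, h, hx⟩
          · exact Or.inr ⟨I, le_antisymm h hI, hx⟩
        · rintro (⟨I, hI, hx⟩ | ⟨I, hI, hx⟩)
          · exact ⟨I, by omega, hx⟩
          · exact ⟨I, by omega, hx⟩
      · have : n + 1 - (k + 1) = 0 := by omega
        rw [this]
        by_cases hk' : k = n
        · subst hk'
          rw [show k + 1 - k = 1 by omega, hV1] at ih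
          have : V 0 = ⊤ := by
            rw [eq_top_iff, ← hV1]
            intro x hx
            rw [hmemV] at hx ⊢
            obtain ⟨I, hI, hx⟩ := hx
            exact ⟨I, by omega, hx⟩
          rw [this]
          exact ih
        · rwa [show n + 1 - k = 0 by omega] at ih
  have := hmain n
  rw [show n + 1 - n = 1 by omega, hV1] at this
  exact this

open AlgebraicGeometry CategoryTheory Limits in
/-- Stacks Tag 0F2U: a scheme has a finite affine stratification if and only if it is quasi-compact and quasi-separated. -/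
theorem result (X : Scheme.{u}) :
    (∃ n : ℕ, MoreMor.HasAffineStratification X n) ↔ CompactSpace ↑X ∧ QuasiSeparatedSpace ↑X := by
  constructor
  · rintro ⟨n, h⟩
    exact qcqs_of_stratification h
  · rintro ⟨h1, h2⟩
    exact hasAffineStratification_of_reach reach_top

end Groth.Agent.S1435
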