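import Groth.Statements.S0408
import Mathlib.AlgebraicGeometry.ZariskisMainTheorem

set_option autoImplicit false
universe u
open FlatMor

namespace Groth.Agent.S0408

section helpers

open AlgebraicGeometry CategoryTheory Limits

lemma residueFieldMap_surjective_of_surjectiveOnStalks {X Y : Scheme.{u}} (f : X ⟶ Y)
    [SurjectiveOnStalks f] (x : X) : Function.Surjective (f.residueFieldMap x) := by
  have h := Scheme.residue_residueFieldMap f x
  have h2 : Function.Surjective (f.stalkMap x ≫ X.residue x) :=
    (X.residue_surjective x).comp (Scheme.Hom.stalkMap_surjective f x)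
  rw [← h] at h2
  exact Function.Surjective.of_comp (g := Y.residue (f x)) h2

lemma isIso_residueFieldMap_of_surjective {X Y : Scheme.{u}} (f : X ⟶ Y) (x : X)
    (h : Function.Surjective (f.residueFieldMap x)) : IsIso (f.residueFieldMap x) :=
  (ConcreteCategory.isIso_iff_bijective _).mpr
    ⟨(f.residueFieldMap x).hom.injective, h⟩

lemma exists_section {X S U : Scheme.{u}} (f : X ⟶ S) (g : U ⟶ S) (x : X) (u : U)
    (h : g u = f x) (hg : Function.Surjective (g.residueFieldMap u)) :
    ∃ σ : Spec (X.residueField x) ⟶ pullback f g,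
      σ ≫ pullback.fst f g = X.fromSpecResidueField x ∧
      ∀ w : ↑(pullback f g), pullback.fst f g w = x → pullback.snd f g w = u →
        ∀ p : Spec (X.residueField x), w = σ p := by
  have := isIso_residueFieldMap_of_surjective g u hg
  let ρ : Spec (X.residueField x) ⟶ Spec (U.residueField u) :=
    Spec.map (f.residueFieldMap x) ≫ Spec.map (S.residueFieldCongr h).hom ≫
      inv (Spec.map (g.residueFieldMap u))
  have hρ : ρ ≫ U.fromSpecResidueField u ≫ g = X.fromSpecResidueField x ≫ f := by
    simp only [ρ, Category.assoc, ← Scheme.Hom.SpecMap_residueFieldMap_fromSpecResidueField,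
      IsIso.inv_hom_id_assoc, Scheme.residueFieldCongr_fromSpecResidueField]
  have hmono : Mono (U.fromSpecResidueField u ≫ g) := by
    rw [← Scheme.Hom.SpecMap_residueFieldMap_fromSpecResidueField]
    infer_instance
  refine ⟨pullback.lift (X.fromSpecResidueField x) (ρ ≫ U.fromSpecResidueField u)
    (by simp [hρ]), pullback.lift_fst _ _ _, ?_⟩
  rintro w rfl rfl p
  have key : (pullback f g).fromSpecResidueField w =
      Spec.map ((pullback.fst f g).residueFieldMap w) ≫
      pullback.lift (X.fromSpecResidueField _) (ρ ≫ U.fromSpecResidueField _)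
        (by simp [hρ]) := by
    apply pullback.hom_ext
    · rw [Category.assoc, pullback.lift_fst,
        Scheme.Hom.SpecMap_residueFieldMap_fromSpecResidueField]
    · rw [Category.assoc, pullback.lift_snd,
        ← Scheme.Hom.SpecMap_residueFieldMap_fromSpecResidueField, ← Category.assoc]
      congr 1
      rw [← cancel_mono (U.fromSpecResidueField _ ≫ g), Category.assoc, hρ]
      simp [pullback.condition]
  have h1 : w = (pullback f g).fromSpecResidueField w (IsLocalRing.closedPoint _) := by simp
  conv_lhs => rw [h1, key]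
  rw [Scheme.Hom.comp_apply]
  congr 1
  exact Subsingleton.elim _ _

lemma eq_of_fst_eq_of_snd_eq {X S U : Scheme.{u}} (f : X ⟶ S) (g : U ⟶ S) (u : U)
    (hg : Function.Surjective (g.residueFieldMap u)) (v w : ↑(pullback f g))
    (hfst : pullback.fst f g w = pullback.fst f g v) (hv : pullback.snd f g v = u)
    (hw : pullback.snd f g w = u) : w = v := by
  have h : g u = f (pullback.fst f g v) := by
    rw [← hv, ← Scheme.Hom.comp_apply, ← Scheme.Hom.comp_apply, pullback.condition]
  obtain ⟨σ, -, h⟩ := exists_section f g (pullback.fst f g v) u h hg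
  exact (h w hfst hw (IsLocalRing.closedPoint _)).trans
    (h v rfl hv (IsLocalRing.closedPoint _)).symm

lemma residueFieldMap_fst_surjective {X S U : Scheme.{u}} (f : X ⟶ S) (g : U ⟶ S)
    (v : ↑(pullback f g))
    (hg : Function.Surjective (g.residueFieldMap (pullback.snd f g v))) :
    Function.Surjective ((pullback.fst f g).residueFieldMap v) := by
  have h : g (pullback.snd f g v) = f (pullback.fst f g v) := by
    rw [← Scheme.Hom.comp_apply, ← Scheme.Hom.comp_apply, pullback.condition]
  obtain ⟨σ, hσ, h⟩ := exists_section f g (pullback.fst f g v) _ h hg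
  let pt : Spec (X.residueField (pullback.fst f g v)) := IsLocalRing.closedPoint _
  obtain hv : v = σ pt := h v rfl rfl pt
  have h1 : Function.Surjective ((σ ≫ pullback.fst f g).residueFieldMap pt) := by
    rw [hσ]
    exact residueFieldMap_surjective_of_surjectiveOnStalks _ _
  rw [Scheme.residueFieldMap_comp] at h1
  have h2 : Function.Surjective (σ.residueFieldMap pt) :=
    Function.Surjective.of_comp (g := (pullback.fst f g).residueFieldMap (σ pt)) h1
  have := isIso_residueFieldMap_of_surjective σ pt h2
  have h3 : Function.Surjective ((pullback.fst f g).residueFieldMap (σ pt)) := by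
    intro y
    obtain ⟨z, hz⟩ := h1 (σ.residueFieldMap pt y)
    exact ⟨z, (σ.residueFieldMap pt).hom.injective hz⟩
  have hgen : ∀ (a b : ↑(pullback f g)) (hab : a = b),
      Function.Surjective ((pullback.fst f g).residueFieldMap b) →
      Function.Surjective ((pullback.fst f g).residueFieldMap a) := by
    rintro a b rfl h; exact h
  exact hgen _ _ hv h3

lemma residueFieldMap_SpecMap_surjective {R S : Type u} [CommRing R] [CommRing S] [Algebra R S]
    (p : Ideal R) [p.IsPrime] (P : Ideal S) [P.IsPrime] [P.LiesOver p]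
    (h : Function.Surjective
      (Ideal.ResidueField.mapₐ p P (Algebra.ofId _ _) (P.over_def p))) :
    Function.Surjective ((Spec.map (CommRingCat.ofHom (algebraMap R S))).residueFieldMap
      (⟨P, inferInstance⟩ : PrimeSpectrum S)) := by
  obtain rfl := P.over_def p
  let x : Spec (.of S) := (⟨P, inferInstance⟩ : PrimeSpectrum S)
  let φ : CommRingCat.of R ⟶ .of S := CommRingCat.ofHom (algebraMap R S)
  let y : Spec (.of R) := Spec.map φ x
  let ψ : CommRingCat.of y.asIdeal.ResidueField ⟶ CommRingCat.of x.asIdeal.ResidueField :=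
    CommRingCat.ofHom (Ideal.ResidueField.mapₐ (P.under R) P (Algebra.ofId _ _)
      (P.over_def _)).toRingHom
  have hψ : Function.Surjective ψ := h
  have key : (Scheme.Spec.residueFieldIso (.of R) y).inv ≫ (Spec.map φ).residueFieldMap x =
      ψ ≫ (Scheme.Spec.residueFieldIso (.of S) x).inv := by
    have h1 := Scheme.Hom.SpecMap_residueFieldMap_fromSpecResidueField (Spec.map φ) x
    have hmono : Mono (Spec.map (CommRingCat.ofHom
        (algebraMap R y.asIdeal.ResidueField))) := by
      have h2 := Scheme.Spec.map_residueFieldIso_inv_eq_fromSpecResidueField (.of R) y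
      rw [← (IsIso.inv_comp_eq _).mpr h2.symm]
      infer_instance
    rw [← Spec.map_inj, ← cancel_mono (Spec.map (CommRingCat.ofHom
        (algebraMap R y.asIdeal.ResidueField)))]
    rw [Spec.map_comp, Category.assoc]
    erw [Scheme.Spec.map_residueFieldIso_inv_eq_fromSpecResidueField (.of R) y]
    rw [h1, Spec.map_comp, Category.assoc, ← Spec.map_comp,
      ← Scheme.Spec.map_residueFieldIso_inv_eq_fromSpecResidueField, Category.assoc, ← Spec.map_comp]
    congr 2
    ext a
    have h3 := (Ideal.ResidueField.mapₐ (P.under R) P (Algebra.ofId R S)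
      (P.over_def _)).commutes a
    rw [IsScalarTower.algebraMap_apply R S P.ResidueField] at h3
    exact h3.symm
  have h2 : Function.Surjective (ψ ≫ (Scheme.Spec.residueFieldIso (.of S) x).inv) :=
    (ConcreteCategory.bijective_of_isIso
      (Scheme.Spec.residueFieldIso (.of S) x).inv).2.comp hψ
  rw [← key] at h2
  exact Function.Surjective.of_comp (g := (Scheme.Spec.residueFieldIso (.of R) y).inv) h2

end helpers

open AlgebraicGeometry CategoryTheory Limits in
set_option backward.defeqAttrib.useBackward true in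
set_option backward.isDefEq.respectTransparency false in
theorem result_aux {X S : Scheme.{u}} (f : X ⟶ S) [LocallyOfFiniteType f] [IsSeparated f] (x : X) (hx : f.QuasiFiniteAt x) :
    ∃ (U : Scheme.{u}) (g : U ⟶ S) (u : U), Etale g ∧ g u = f x ∧ Function.Surjective (g.residueFieldMap u) ∧
      ∃ (V : (pullback f g).Opens) (v : ↑(pullback f g)), IsClopen (V : Set ↑(pullback f g)) ∧
        IsFinite (V.ι ≫ pullback.snd f g) ∧ v ∈ V ∧ pullback.fst f g v = x ∧ pullback.snd f g v = u ∧
        Function.Surjective ((pullback.fst f g).residueFieldMap v) ∧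
        (∀ w : ↑(pullback f g), pullback.snd f g w = u → (w ∈ V ∨ pullback.fst f g w = x) → w = v) := by
  obtain ⟨_, ⟨U, hU, rfl⟩, hxU, -⟩ := S.isBasis_affineOpens.exists_subset_of_mem_open
    (Set.mem_univ (f x)) isOpen_univ
  obtain ⟨_, ⟨V, hV, rfl⟩, hxV, hUV : V ≤ f ⁻¹ᵁ U⟩ :=
    X.isBasis_affineOpens.exists_subset_of_mem_open hxU (f ⁻¹ᵁ U).2
  have : (f.appLE U V hUV).hom.FiniteType := f.finiteType_appLE hU hV hUV
  algebraize [(f.appLE U V hUV).hom]
  have : (hV.primeIdealOf ⟨x, hxV⟩).asIdeal.LiesOver (hU.primeIdealOf ⟨f x, hxU⟩).asIdeal := by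
    suffices hU.primeIdealOf ⟨f x, hxU⟩ = Spec.map (f.appLE U V hUV) (hV.primeIdealOf ⟨x, hxV⟩) from
      ⟨congr(($this).1)⟩
    apply hU.isoSpec.inv.homeomorph.injective
    apply Subtype.ext
    simp only [IsAffineOpen.primeIdealOf, Scheme.Hom.homeomorph_apply,
      ← Scheme.Hom.comp_apply, ← Scheme.Opens.ι_apply, IsAffineOpen.isoSpec_hom]
    simp
  have : Algebra.QuasiFiniteAt Γ(S, U) (hV.primeIdealOf ⟨x, hxV⟩).asIdeal :=
    hx.quasiFiniteAt hV hU hUV hxV
  obtain ⟨R, _, _, _, P, _, _, e, _, P', _, _, hP', heP', hbij, _, huniq⟩ :=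
    Algebra.exists_etale_isIdempotentElem_forall_liesOver_eq
    (hU.primeIdealOf ⟨f x, hxU⟩).asIdeal (hV.primeIdealOf ⟨x, hxV⟩).asIdeal
  have : (algebraMap R (Localization.Away e)).Finite := RingHom.finite_algebraMap.mpr ‹_›
  let φ : Γ(S, U) ⟶ .of R := CommRingCat.ofHom <| algebraMap Γ(S, U) R
  have hφ : φ.hom.Etale := RingHom.etale_algebraMap.mpr ‹_›
  have : Etale (Spec.map φ) := HasRingHomProperty.Spec_iff.mpr hφ
  let e₁ : Spec (.of (TensorProduct Γ(S, U) R Γ(X, V))) ≅ pullback (Spec.map (f.appLE U V hUV)) (Spec.map φ) :=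
    (pullbackSpecIso _ _ _).symm ≪≫ pullbackSymmetry _ _
  have he₁ : e₁.hom ≫ pullback.fst _ _ =
      Spec.map (CommRingCat.ofHom Algebra.TensorProduct.includeRight.toRingHom) := by
    dsimp [e₁, RingHom.algebraMap_toAlgebra]
    rw [Category.assoc, pullbackSymmetry_hom_comp_fst]
    exact pullbackSpecIso_inv_snd ..
  have he₂ : e₁.hom ≫ pullback.snd _ _ =
      Spec.map (CommRingCat.ofHom (algebraMap R (TensorProduct Γ(S, U) R Γ(X, V)))) := by
    dsimp [e₁, RingHom.algebraMap_toAlgebra]
    rw [Category.assoc, pullbackSymmetry_hom_comp_snd]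
    exact pullbackSpecIso_inv_fst ..
  let g : Spec (.of (TensorProduct Γ(S, U) R Γ(X, V))) ⟶ pullback f (Spec.map φ ≫ hU.fromSpec) :=
    e₁.hom ≫ pullback.map _ _ _ _ hV.fromSpec (𝟙 _) hU.fromSpec
      (IsAffineOpen.SpecMap_appLE_fromSpec ..) (by simp)
  have hgsnd : g ≫ pullback.snd f (Spec.map φ ≫ hU.fromSpec) =
      Spec.map (CommRingCat.ofHom (algebraMap R (TensorProduct Γ(S, U) R Γ(X, V)))) := by
    simp [g, he₂]
  let W₁ := g ''ᵁ PrimeSpectrum.basicOpen e
  have : IsFinite (W₁.ι ≫ pullback.snd f _) := by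
    let ι : Spec (.of (Localization.Away e)) ⟶ pullback f (Spec.map φ ≫ hU.fromSpec) :=
      Spec.map (CommRingCat.ofHom <| algebraMap _ _) ≫ g
    have : ι.opensRange = W₁ := by
      simp only [Scheme.Hom.opensRange_comp, ι, W₁]
      congr 1
      exact TopologicalSpace.Opens.ext <| PrimeSpectrum.localization_away_comap_range _ _
    rw [← this, ← MorphismProperty.cancel_left_of_respectsIso @IsFinite
      (Scheme.Hom.isoOpensRange _).hom]
    have H : (pullbackSpecIso _ R _).inv ≫ pullback.fst _ (Spec.map (f.appLE U V hUV)) = _ :=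
      pullbackSpecIso_inv_fst ..
    simpa [Scheme.Hom.isoOpensRange, ι, g, e₁, RingHom.algebraMap_toAlgebra, φ, H,
      ← Spec.map_comp, IsFinite.SpecMap_iff]
  have : IsFinite W₁.ι := .of_comp _ (pullback.snd f _)
  let u : Spec (.of R) := (⟨P, ‹_›⟩ : PrimeSpectrum R)
  have hu : (Spec.map φ ≫ hU.fromSpec) u = f x := by
    dsimp [Spec.map_apply, u]
    convert! hU.fromSpec_primeIdealOf ⟨f x, hxU⟩
    · exact PrimeSpectrum.ext (Ideal.over_def _ _).symm
  have hgu : Function.Surjective ((Spec.map φ ≫ hU.fromSpec).residueFieldMap u) := by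
    rw [Scheme.residueFieldMap_comp]
    exact (residueFieldMap_SpecMap_surjective _ P hbij.2).comp
      (residueFieldMap_surjective_of_surjectiveOnStalks hU.fromSpec (Spec.map φ u))
  let v : ↑(pullback f (Spec.map φ ≫ hU.fromSpec)) := g (⟨P', ‹_›⟩ : PrimeSpectrum _)
  have hvx : pullback.fst f (Spec.map φ ≫ hU.fromSpec) v = x := by
    trans hV.fromSpec ⟨P'.comap Algebra.TensorProduct.includeRight.toRingHom, inferInstance⟩
    · simp [← Scheme.Hom.comp_apply, -Scheme.Hom.comp_base, g, v, reassoc_of% he₁]; rfl
    convert! hV.fromSpec_primeIdealOf ⟨x, hxV⟩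
  have hvu : pullback.snd f (Spec.map φ ≫ hU.fromSpec) v = u := by
    rw [← Scheme.Hom.comp_apply, hgsnd]
    exact PrimeSpectrum.ext (Ideal.over_def _ _).symm
  refine ⟨Spec (.of R), Spec.map φ ≫ hU.fromSpec, u, inferInstance, hu, hgu,
    W₁, v, ⟨by simpa using W₁.ι.isClosedMap.isClosed_range, W₁.2⟩, ‹_›,
    ⟨_, heP', rfl⟩, hvx, hvu, ?_, ?_⟩
  · apply residueFieldMap_fst_surjective
    rw [hvu]
    exact hgu
  · rintro w hw (hw' | hw')
    · obtain ⟨Q, hQ, hQw⟩ := hw'
      replace hQw : g Q = w := hQw
      rw [← hQw, ← Scheme.Hom.comp_apply, hgsnd] at hw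
      have h1 : Q.asIdeal.LiesOver P := ⟨congr(($hw).1).symm⟩
      have h2 := huniq Q.asIdeal Q.isPrime h1 hQ
      rw [← hQw]
      exact congrArg g (PrimeSpectrum.ext h2)
    · exact eq_of_fst_eq_of_snd_eq _ _ u hgu v w (hw'.trans hvx.symm) hvu hw

open AlgebraicGeometry CategoryTheory Limits in
/-- Stacks Tag 02LN: étale localization of a quasi-finite point (one-point case): for f separated and locally of finite type and x isolated in its fibre, after base change along an étale morphism g with a point u over f(x) having the same residue field, the base change splits off an open and closed piece V, finite over the base, whose fibre over u is a single point v lying over x with the same residue field as x, and no other point over u lies over x. -/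
theorem result {X S : Scheme.{u}} (f : X ⟶ S) [LocallyOfFiniteType f] [IsSeparated f] (x : X) (hx : f.QuasiFiniteAt x) :
    ∃ (U : Scheme.{u}) (g : U ⟶ S) (u : U), Etale g ∧ g u = f x ∧ Function.Surjective (g.residueFieldMap u) ∧
      ∃ (V : (pullback f g).Opens) (v : ↑(pullback f g)), IsClopen (V : Set ↑(pullback f g)) ∧
        IsFinite (V.ι ≫ pullback.snd f g) ∧ v ∈ V ∧ pullback.fst f g v = x ∧ pullback.snd f g v = u ∧
        Function.Surjective ((pullback.fst f g).residueFieldMap v) ∧
        (∀ w : ↑(pullback f g), pullback.snd f g w = u → (w ∈ V ∨ pullback.fst f g w = x) → w = v) :=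
  result_aux f x hx

end Groth.Agent.S0408
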