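import Groth.Statements.S1293
import Groth.Agent.Flat2C.UnivInjMod
-- import your own Groth.Agent.* helpers here

set_option autoImplicit false
universe u
open FlatMor

namespace Groth.Agent.S1293

open TensorProduct in
/-- Stacks Tag 0AT7: let B be a finitely presented A-algebra, T ⊆ B a multiplicative subset and N a finitely presented T⁻¹B-module which admits a pure spreadout (FlatCA.HasPureSpreadout). Then (1) every x ∈ N has a content ideal, i.e. a smallest ideal I of A with x ∈ IN; and (2) every A-linear map u from N to a flat A-module M such that u ⊗ A/𝔪 is injective for every maximal ideal 𝔪 of A is universally injective over A. -/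
theorem result {A B : Type u} [CommRing A] [CommRing B] [Algebra A B] [Algebra.FinitePresentation A B]
    (T : Submonoid B) (N : Type u) [AddCommGroup N] [Module (Localization T) N] [Module A N] [IsScalarTower A (Localization T) N]
    [Module.FinitePresentation (Localization T) N] (h : FlatCA.HasPureSpreadout A B T N) :
    (∀ x : N, ∃ I : Ideal A, x ∈ I • (⊤ : Submodule A N) ∧ ∀ J : Ideal A, x ∈ J • (⊤ : Submodule A N) → I ≤ J) ∧
    ∀ (M : Type u) [AddCommGroup M] [Module A M] [Module.Flat A M] (u : N →ₗ[A] M),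
      (∀ (m : Ideal A) [m.IsMaximal], Function.Injective (u.lTensor (A ⧸ m))) → FlatCA.UnivInj A u := by
  classical
  obtain ⟨C, _, _, _, _, _, _, _, _, _, _, N', _, _, _, _, g, -, -, hbc, hproj, hui⟩ := h
  -- multiplication by elements of `B`
  let μ : B → (N →ₗ[A] N) := fun b => (LinearMap.lsmul (Localization T) N (algebraMap B (Localization T) b)).restrictScalars A
  let ν : B → (N' →ₗ[A] N') := fun b => (LinearMap.lsmul C N' (algebraMap B C b)).restrictScalars A
  have hμ : ∀ b x, μ b x = (algebraMap B (Localization T) b) • x := fun _ _ => rfl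
  have hν : ∀ b x, ν b x = (algebraMap B C b) • x := fun _ _ => rfl
  have hμν : ∀ b, μ b ∘ₗ g.restrictScalars A = g.restrictScalars A ∘ₗ ν b := by
    intro b
    ext n'
    simp only [LinearMap.comp_apply, LinearMap.coe_restrictScalars, hμ, hν]
    rw [map_smul, IsScalarTower.algebraMap_apply B C (Localization T), algebraMap_smul]
  have hμmul : ∀ b b', μ (b * b') = μ b ∘ₗ μ b' := by
    intro b b'
    ext x
    simp only [LinearMap.comp_apply, hμ, map_mul, mul_smul]
  have hstab : ∀ (b : B) (n' : N'), (algebraMap B (Localization T) b) • g n' = g (algebraMap B C b • n') :=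
    fun b n' => LinearMap.congr_fun (hμν b) n'
  -- every element of `N` becomes, after multiplication by an element of `T`, an element of the image of `N'`
  have hden : ∀ x : N, ∃ (t : T) (n' : N'), μ t x = g n' := by
    intro x
    refine hbc.inductionOn x (fun x => ∃ (t : T) (n' : N'), (algebraMap B (Localization T) t) • x = g n') ?_ ?_ ?_ ?_
    · exact ⟨1, 0, by simp⟩
    · intro n'
      exact ⟨1, n', by simp⟩
    · rintro a y ⟨t₁, n₁, h₁⟩
      obtain ⟨⟨b, t⟩, hbt⟩ := IsLocalization.surj T a
      refine ⟨t * t₁, algebraMap B C b • n₁, ?_⟩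
      rw [← hstab, ← h₁, smul_smul, smul_smul, Submonoid.coe_mul, map_mul, ← hbt]
      congr 1
      ring
    · rintro y z ⟨t₁, n₁, h₁⟩ ⟨t₂, n₂, h₂⟩
      refine ⟨t₁ * t₂, algebraMap B C t₂ • n₁ + algebraMap B C t₁ • n₂, ?_⟩
      rw [map_add, ← hstab, ← hstab, ← h₁, ← h₂, smul_add, smul_smul, smul_smul, Submonoid.coe_mul, map_mul,
        mul_comm (algebraMap B (Localization T) t₂)]
  -- multiplication by an element of `T` is invertible
  have hinv : ∀ t : T, ∃ κ : N →ₗ[A] N, κ ∘ₗ μ t = LinearMap.id ∧ μ t ∘ₗ κ = LinearMap.id := by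
    intro t
    let w := (IsLocalization.map_units (Localization T) t).unit
    refine ⟨(LinearMap.lsmul (Localization T) N ((w⁻¹ : (Localization T)ˣ) : Localization T)).restrictScalars A, ?_, ?_⟩
    · ext x
      simp only [LinearMap.comp_apply, hμ, LinearMap.coe_restrictScalars, LinearMap.lsmul_apply, LinearMap.id_apply]
      rw [smul_smul, IsUnit.val_inv_mul, one_smul]
    · ext x
      simp only [LinearMap.comp_apply, hμ, LinearMap.coe_restrictScalars, LinearMap.lsmul_apply, LinearMap.id_apply]
      rw [smul_smul, IsUnit.mul_val_inv, one_smul]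
  constructor
  · intro x
    obtain ⟨t, n', htn⟩ := hden x
    obtain ⟨κ, hκ, -⟩ := hinv t
    obtain ⟨I, hI, hImin⟩ := Flat2C.UnivInjMod.exists_content_of_projective (A := A) n'
    refine ⟨I, ?_, ?_⟩
    · have h1 := Flat2C.UnivInjMod.map_mem_smul_top I (g.restrictScalars A) hI
      have h2 := Flat2C.UnivInjMod.map_mem_smul_top I κ h1
      rw [LinearMap.coe_restrictScalars, ← htn, ← LinearMap.comp_apply, hκ] at h2
      exact h2
    · intro J hJ
      apply hImin
      apply Flat2C.UnivInjMod.mem_smul_top_of_univInj hui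
      rw [LinearMap.coe_restrictScalars, ← htn]
      exact Flat2C.UnivInjMod.map_mem_smul_top J _ hJ
  · intro M _ _ _ u hu Q _ _
    rw [injective_iff_map_eq_zero]
    intro z hz
    have hdenQ : ∃ (t : T) (z' : Q ⊗[A] N'), (μ t).lTensor Q z = (g.restrictScalars A).lTensor Q z' := by
      clear hz
      have hQ : ∀ b (z' : Q ⊗[A] N'), (μ b).lTensor Q ((g.restrictScalars A).lTensor Q z') =
          (g.restrictScalars A).lTensor Q ((ν b).lTensor Q z') := by
        intro b z'
        rw [← LinearMap.comp_apply, ← LinearMap.lTensor_comp, hμν, LinearMap.lTensor_comp, LinearMap.comp_apply]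
      induction z using TensorProduct.induction_on with
      | zero => exact ⟨1, 0, by rw [map_zero, map_zero]⟩
      | tmul q x =>
        obtain ⟨t, n', h⟩ := hden x
        exact ⟨t, q ⊗ₜ n', by rw [LinearMap.lTensor_tmul, LinearMap.lTensor_tmul, h]; rfl⟩
      | add x y hx hy =>
        obtain ⟨t₁, z₁, h₁⟩ := hx
        obtain ⟨t₂, z₂, h₂⟩ := hy
        refine ⟨t₁ * t₂, (ν t₂).lTensor Q z₁ + (ν t₁).lTensor Q z₂, ?_⟩
        rw [map_add, map_add, ← hQ, ← hQ, ← h₁, ← h₂]
        congr 1
        · rw [Submonoid.coe_mul, mul_comm, hμmul, LinearMap.lTensor_comp, LinearMap.comp_apply]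
        · rw [Submonoid.coe_mul, hμmul, LinearMap.lTensor_comp, LinearMap.comp_apply]
    obtain ⟨t, z', hzz⟩ := hdenQ
    obtain ⟨κ, hκ, hκ'⟩ := hinv t
    let v : N' →ₗ[A] M := u ∘ₗ κ ∘ₗ (g.restrictScalars A)
    have hκinj : ∀ (Q : Type u) [AddCommGroup Q] [Module A Q], Function.Injective (κ.lTensor Q) := by
      intro Q _ _
      have h2 : (μ t).lTensor Q ∘ₗ κ.lTensor Q = LinearMap.id := by
        rw [← LinearMap.lTensor_comp, hκ', LinearMap.lTensor_id]
      exact Function.HasLeftInverse.injective ⟨_, LinearMap.congr_fun h2⟩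
    have hv : FlatCA.UnivInj A v := by
      apply Flat2C.UnivInjMod.univInj_of_projective
      intro m _
      simp only [v, LinearMap.lTensor_comp]
      exact (hu m).comp ((hκinj (A ⧸ m)).comp (hui (A ⧸ m)))
    have h3 : κ.lTensor Q ((μ t).lTensor Q z) = z := by
      rw [← LinearMap.comp_apply, ← LinearMap.lTensor_comp, hκ, LinearMap.lTensor_id, LinearMap.id_apply]
    have hz0 : z' = 0 := by
      apply hv Q
      rw [map_zero]
      simp only [v, LinearMap.lTensor_comp, LinearMap.comp_apply]
      rw [← hzz, h3, hz]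
    rw [← h3, hzz, hz0, map_zero, map_zero]

end Groth.Agent.S1293
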