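import Groth.Statements.S1294
import Groth.Agent.Flat2C.PureSpread2
import Groth.Agent.Flat2C.LocModel
import Groth.Agent.Flat2C.FreeQuot

set_option autoImplicit false
universe u
open FlatMor

namespace Groth.Agent.S1294

open IsLocalRing in
/-- Stacks Tag 0AT8: let B be a finitely presented A-algebra, T ⊆ B a multiplicative subset and N a finitely presented T⁻¹B-module. Then for every prime p of A there is a finitely generated ideal I of A_p contained in its maximal ideal such that, writing A₁ = A_p/I, B₁ = B ⊗_A A₁, T₁ for the image of T in B₁ and N₁ for the base change of N (a T₁⁻¹B₁-module; any models), the base-changed data admits a pure spreadout over A₁. -/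
theorem result {A B : Type u} [CommRing A] [CommRing B] [Algebra A B] [Algebra.FinitePresentation A B]
    (T : Submonoid B) (N : Type u) [AddCommGroup N] [Module (Localization T) N] [Module B N] [Module A N]
    [IsScalarTower B (Localization T) N] [IsScalarTower A (Localization T) N] [IsScalarTower A B N]
    [Module.FinitePresentation (Localization T) N] (p : Ideal A) [p.IsPrime] :
    ∃ I : Ideal (Localization.AtPrime p), I.FG ∧ I ≤ maximalIdeal (Localization.AtPrime p) ∧
      ∀ (B₁ N₁ : Type u) [CommRing B₁] [Algebra B B₁] [Algebra (Localization.AtPrime p ⧸ I) B₁] [Algebra A B₁]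
        [IsScalarTower A B B₁] [IsScalarTower A (Localization.AtPrime p ⧸ I) B₁]
        [Algebra.IsPushout A B (Localization.AtPrime p ⧸ I) B₁]
        [AddCommGroup N₁] [Module (Localization (T.map (algebraMap B B₁))) N₁] [Module (Localization.AtPrime p ⧸ I) N₁]
        [IsScalarTower (Localization.AtPrime p ⧸ I) (Localization (T.map (algebraMap B B₁))) N₁]
        [Module B N₁] [IsScalarTower B (Localization (T.map (algebraMap B B₁))) N₁]
        [Module A N₁] [IsScalarTower A (Localization.AtPrime p ⧸ I) N₁] [IsScalarTower A B N₁]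
        (h : N →ₗ[B] N₁), IsBaseChange (Localization.AtPrime p ⧸ I) (h.restrictScalars A) →
        FlatCA.HasPureSpreadout (Localization.AtPrime p ⧸ I) B₁ (T.map (algebraMap B B₁)) N₁ := by
  classical
  obtain ⟨N₀, _, _, φ₀, hfp₀, hφ₀⟩ := Flat2C.LocModel.exists_fp_model T (Localization T) N
  let mAN₀ : Module A N₀ := Module.compHom N₀ (algebraMap A B)
  have tABN₀ : IsScalarTower A B N₀ := IsScalarTower.of_algebraMap_smul fun _ _ => rfl
  obtain ⟨t₀, ht₀, hkill⟩ := Flat2C.TorsKill.exists_kill_fiber (A := A) (B := B) (N₀ := N₀) (κ := p.ResidueField) T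
  have hfpC' : Algebra.FinitePresentation B (Localization.Away t₀) :=
    IsLocalization.Away.finitePresentation t₀
  have hfpC : Algebra.FinitePresentation A (Localization.Away t₀) :=
    Algebra.FinitePresentation.trans A B (Localization.Away t₀)
  obtain ⟨I, hIfg, hIle, hfree⟩ := Flat2C.FreeQuot.exists_free_quotient (A := A) (B := Localization.Away t₀)
    (TensorProduct B (Localization.Away t₀) N₀) p
  refine ⟨I, hIfg, hIle, ?_⟩
  intro B₁ N₁ _ _ _ _ _ _ hpo _ _ _ _ _ _ _ _ _ h hh
  have hInt : I ≠ ⊤ := fun h => (maximalIdeal.isMaximal (Localization.AtPrime p)).ne_top (top_le_iff.mp (h ▸ hIle))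
  have : Nontrivial (Localization.AtPrime p ⧸ I) := Ideal.Quotient.nontrivial_iff.mpr hInt
  have hloc : IsLocalRing (Localization.AtPrime p ⧸ I) :=
    IsLocalRing.of_surjective' (Ideal.Quotient.mk I) Ideal.Quotient.mk_surjective
  let ρ : (Localization.AtPrime p ⧸ I) →+* p.ResidueField :=
    Ideal.Quotient.lift I (IsLocalRing.residue (Localization.AtPrime p))
      (fun a ha => (IsLocalRing.residue_eq_zero_iff a).mpr (hIle ha))
  let aκ : Algebra (Localization.AtPrime p ⧸ I) p.ResidueField := ρ.toAlgebra
  have tκ : @IsScalarTower A (Localization.AtPrime p ⧸ I) p.ResidueField Algebra.toSMul Algebra.toSMul Algebra.toSMul :=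
    IsScalarTower.of_algebraMap_eq fun a => rfl
  have hlh : IsLocalHom (algebraMap (Localization.AtPrime p ⧸ I) p.ResidueField) := by
    constructor
    intro a ha
    obtain ⟨a, rfl⟩ := Ideal.Quotient.mk_surjective a
    have h1 : IsUnit (IsLocalRing.residue (Localization.AtPrime p) a) := ha
    exact (isUnit_of_map_unit (IsLocalRing.residue (Localization.AtPrime p)) a h1).map _
  exact Flat2C.PureSpread2.core (A := A) (B := B) (C := Localization.Away t₀) (κ := p.ResidueField) T t₀ ht₀ N₀ N
    φ₀ hφ₀ hkill hfree N₁ h hh


end Groth.Agent.S1294
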