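import Groth.Statements.S1266
import Groth.Agent.Flat2B.LTensorLocal
import Groth.Agent.S1293
import Groth.Agent.S1294
import Mathlib.RingTheory.Localization.BaseChange
import Mathlib.RingTheory.IsTensorProduct
import Mathlib.Algebra.Module.FinitePresentation
import Mathlib.LinearAlgebra.TensorProduct.Tower

set_option autoImplicit false
universe u
open FlatMor

namespace Groth.Agent.S1266

section Aux

open TensorProduct Function IsLocalRing

/-- Injectivity of `u ⊗ Q` can be tested after base change to an algebra acting on `Q`. -/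
theorem lTensor_baseChange_injective_iff {A A₁ : Type u} [CommRing A] [CommRing A₁] [Algebra A A₁]
    {N M : Type u} [AddCommGroup N] [Module A N] [AddCommGroup M] [Module A M] (u : N →ₗ[A] M)
    (Q : Type u) [AddCommGroup Q] [Module A Q] [Module A₁ Q] [IsScalarTower A A₁ Q] :
    Injective ((u.baseChange A₁).lTensor Q) ↔ Injective (u.lTensor Q) := by
  have h : ∀ z, (AlgebraTensorModule.cancelBaseChange A A₁ A₁ Q M)
      (((u.baseChange A₁).lTensor Q) z) =
      (u.lTensor Q) ((AlgebraTensorModule.cancelBaseChange A A₁ A₁ Q N) z) := by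
    intro z
    induction z using TensorProduct.induction_on with
    | zero => simp
    | tmul q w =>
      induction w using TensorProduct.induction_on with
      | zero => simp
      | tmul a n => simp
      | add x y hx hy => rw [tmul_add, map_add, map_add, hx, hy, map_add, map_add]
    | add x y hx hy => rw [map_add, map_add, hx, hy, map_add, map_add]
  have h' : (AlgebraTensorModule.cancelBaseChange A A₁ A₁ Q M) ∘
      ((u.baseChange A₁).lTensor Q) =
      (u.lTensor Q) ∘ (AlgebraTensorModule.cancelBaseChange A A₁ A₁ Q N) := funext h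
  constructor
  · intro hi
    have h1 : Injective ((AlgebraTensorModule.cancelBaseChange A A₁ A₁ Q M) ∘
      ((u.baseChange A₁).lTensor Q)) := (LinearEquiv.injective _).comp hi
    rw [h'] at h1
    intro x y hxy
    have h2 := @h1 ((AlgebraTensorModule.cancelBaseChange A A₁ A₁ Q N).symm x)
      ((AlgebraTensorModule.cancelBaseChange A A₁ A₁ Q N).symm y) (by simpa using hxy)
    simpa using h2
  · intro hi
    have h1 : Injective ((u.lTensor Q) ∘ (AlgebraTensorModule.cancelBaseChange A A₁ A₁ Q N)) :=
      hi.comp (LinearEquiv.injective _)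
    rw [← h'] at h1
    exact h1.of_comp

/-- Precomposition with an isomorphism. -/
theorem lTensor_comp_equiv_injective_iff {A : Type u} [CommRing A]
    {N N' M : Type u} [AddCommGroup N] [Module A N] [AddCommGroup N'] [Module A N']
    [AddCommGroup M] [Module A M] (u : N →ₗ[A] M) (e : N' ≃ₗ[A] N)
    (Q : Type u) [AddCommGroup Q] [Module A Q] :
    Injective ((u ∘ₗ e.toLinearMap).lTensor Q) ↔ Injective (u.lTensor Q) := by
  rw [LinearMap.lTensor_comp]
  have he : Bijective (e.toLinearMap.lTensor Q) := (e.lTensor Q).bijective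
  constructor
  · intro h x y hxy
    obtain ⟨x, rfl⟩ := he.2 x
    obtain ⟨y, rfl⟩ := he.2 y
    rw [@h x y hxy]
  · intro h
    exact h.comp he.1

end Aux


section Core

open TensorProduct Function IsLocalRing

attribute [local instance] Algebra.TensorProduct.rightAlgebra

/-- Universal injectivity over a base change `A₁` for which the base-changed data
has a pure spreadout. -/
theorem core {A B : Type u} [CommRing A] [CommRing B] [Algebra A B] [Algebra.FinitePresentation A B]
    (T : Submonoid B) (N : Type u) [AddCommGroup N] [Module (Localization T) N] [Module B N] [Module A N]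
    [IsScalarTower B (Localization T) N] [IsScalarTower A (Localization T) N] [IsScalarTower A B N]
    [Module.FinitePresentation (Localization T) N]
    (A₁ : Type u) [CommRing A₁] [Algebra A A₁]
    (hI : ∀ (B₁ N₁ : Type u) [CommRing B₁] [Algebra B B₁] [Algebra A₁ B₁] [Algebra A B₁]
        [IsScalarTower A B B₁] [IsScalarTower A A₁ B₁]
        [Algebra.IsPushout A B A₁ B₁]
        [AddCommGroup N₁] [Module (Localization (T.map (algebraMap B B₁))) N₁] [Module A₁ N₁]
        [IsScalarTower A₁ (Localization (T.map (algebraMap B B₁))) N₁]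
        [Module B N₁] [IsScalarTower B (Localization (T.map (algebraMap B B₁))) N₁]
        [Module A N₁] [IsScalarTower A A₁ N₁] [IsScalarTower A B N₁]
        (h : N →ₗ[B] N₁), IsBaseChange A₁ (h.restrictScalars A) →
        FlatCA.HasPureSpreadout A₁ B₁ (T.map (algebraMap B B₁)) N₁)
    (M : Type u) [AddCommGroup M] [Module A M] [Module.Flat A M] (u : N →ₗ[A] M)
    (hm : ∀ (m : Ideal A₁) [m.IsMaximal], Injective (u.lTensor (A₁ ⧸ m)))
    (Q : Type u) [AddCommGroup Q] [Module A Q] [Module A₁ Q] [IsScalarTower A A₁ Q] :
    Injective (u.lTensor Q) := by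
  let B₁ := A₁ ⊗[A] B
  let L := Localization T
  let L₁ := Localization (T.map (algebraMap B B₁))
  haveI hloc : IsLocalization (Algebra.algebraMapSubmonoid B₁ T) L₁ :=
    inferInstanceAs (IsLocalization (T.map (algebraMap B B₁)) L₁)
  letI : Algebra L L₁ := localizationAlgebra T B₁
  haveI tBLL : IsScalarTower B L L₁ := isScalarTower_localizationAlgebra T B₁
  haveI tAAL : IsScalarTower A A₁ L₁ := inferInstance
  haveI tABL : IsScalarTower A B L₁ := inferInstance
  haveI tBBL : IsScalarTower B B₁ L₁ := inferInstance
  haveI tALL : IsScalarTower A L L₁ := IsScalarTower.of_algebraMap_eq' (by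
    rw [IsScalarTower.algebraMap_eq A B L₁, IsScalarTower.algebraMap_eq B L L₁,
      IsScalarTower.algebraMap_eq A B L, RingHom.comp_assoc])
  haveI hp1 : Algebra.IsPushout A B A₁ B₁ := inferInstance
  haveI hp2 : Algebra.IsPushout B B₁ L L₁ := (Algebra.isLocalization_iff_isPushout T L).mp hloc
  haveI hp3 : Algebra.IsPushout B L B₁ L₁ := hp2.symm
  haveI hp4 : Algebra.IsPushout A L A₁ L₁ :=
    (Algebra.IsPushout.comp_iff A B A₁ B₁ (T := L) (T' := L₁)).mpr hp3
  haveI hp5 : Algebra.IsPushout A A₁ L L₁ := hp4.symm
  let N₁ := L₁ ⊗[L] N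
  let e : N₁ ≃ₗ[A₁] A₁ ⊗[A] N := Algebra.IsPushout.cancelBaseChange A A₁ L L₁ N
  let h : N →ₗ[B] N₁ := (TensorProduct.mk L L₁ N 1).restrictScalars B
  have hbc : IsBaseChange A₁ (h.restrictScalars A) := by
    refine IsBaseChange.of_equiv e.symm (fun x => ?_)
    exact (Algebra.IsPushout.cancelBaseChange_symm_tmul A A₁ L L₁ N 1 x).trans (by
      rw [map_one]; rfl)
  have hps := hI B₁ N₁ h hbc
  have key := (S1293.result (T.map (algebraMap B B₁)) N₁ hps).2 (A₁ ⊗[A] M)
    (u.baseChange A₁ ∘ₗ e.toLinearMap)
  rw [← lTensor_baseChange_injective_iff (A₁ := A₁), ← lTensor_comp_equiv_injective_iff _ e]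
  refine key (fun m hmax => ?_) Q
  rw [lTensor_comp_equiv_injective_iff, lTensor_baseChange_injective_iff]
  exact hm m

end Core


section Local

open TensorProduct Function IsLocalRing

/-- The residue field of a quotient of the local ring is the residue field of the prime, as an
`A`-module. -/
theorem exists_equiv_residueField {A : Type u} [CommRing A] (p : Ideal A) [p.IsPrime]
    (I : Ideal (Localization.AtPrime p)) (m : Ideal (Localization.AtPrime p ⧸ I)) [m.IsMaximal] :
    Nonempty (p.ResidueField ≃ₗ[A] ((Localization.AtPrime p ⧸ I) ⧸ m)) := by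
  let R := Localization.AtPrime p
  let f : R →ₐ[A] ((R ⧸ I) ⧸ m) :=
    (Ideal.Quotient.mkₐ A m).comp (Ideal.Quotient.mkₐ A I)
  have hf : Surjective f := Ideal.Quotient.mk_surjective.comp Ideal.Quotient.mk_surjective
  haveI hmax : (RingHom.ker f).IsMaximal := by
    letI : Field ((R ⧸ I) ⧸ m) := Ideal.Quotient.field m
    exact RingHom.ker_isMaximal_of_surjective f.toRingHom hf
  have hker : RingHom.ker f = maximalIdeal R := IsLocalRing.eq_maximalIdeal hmax
  let e1 : (R ⧸ RingHom.ker f) ≃ₐ[A] ((R ⧸ I) ⧸ m) :=
    Ideal.quotientKerAlgEquivOfSurjective hf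
  let e2 : (R ⧸ maximalIdeal R) ≃ₐ[A] (R ⧸ RingHom.ker f) :=
    Ideal.quotientEquivAlgOfEq A hker.symm
  exact ⟨(e2.trans e1).toLinearEquiv⟩

/-- The local input. -/
theorem local_input {A B : Type u} [CommRing A] [CommRing B] [Algebra A B] [Algebra.FinitePresentation A B]
    (T : Submonoid B) (N : Type u) [AddCommGroup N] [Module (Localization T) N] [Module A N] [IsScalarTower A (Localization T) N]
    [Module.FinitePresentation (Localization T) N]
    (M : Type u) [AddCommGroup M] [Module A M] [Module.Flat A M] (u : N →ₗ[A] M)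
    (p : Ideal A) [p.IsPrime] (h : Function.Injective (u.lTensor p.ResidueField)) :
    ∃ I : Ideal (Localization.AtPrime p), I.FG ∧
      I ≤ maximalIdeal (Localization.AtPrime p) ∧
      ∀ (Q : Type u) [AddCommGroup Q] [Module A Q] [Module (Localization.AtPrime p) Q]
        [IsScalarTower A (Localization.AtPrime p) Q],
        (∀ a ∈ I, ∀ q : Q, a • q = 0) → Injective (u.lTensor Q) := by
  letI : Module B N := Module.compHom N (algebraMap B (Localization T))
  haveI : IsScalarTower B (Localization T) N := ⟨fun b l n => by
    change (b • l) • n = (algebraMap B (Localization T) b) • l • n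
    rw [← mul_smul, ← Algebra.smul_def]⟩
  haveI : IsScalarTower A B N := ⟨fun a b n => by
    change algebraMap B (Localization T) (a • b) • n = a • algebraMap B (Localization T) b • n
    rw [show algebraMap B (Localization T) (a • b) = a • algebraMap B (Localization T) b from
      map_smul (IsScalarTower.toAlgHom A B (Localization T)) a b, smul_assoc]⟩
  obtain ⟨I, hIfg, hIm, hI⟩ := S1294.result T N p
  refine ⟨I, hIfg, hIm, ?_⟩
  intro Q _ _ _ _ hQ
  letI : Module (Localization.AtPrime p ⧸ I) Q := Module.IsTorsionBySet.module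
    (M := Q) (I := I) (fun q a => hQ a.1 a.2 q)
  haveI : IsScalarTower (Localization.AtPrime p) (Localization.AtPrime p ⧸ I) Q :=
    ⟨fun r x q => by
      obtain ⟨x, rfl⟩ := Ideal.Quotient.mk_surjective x
      exact mul_smul r x q⟩
  haveI : IsScalarTower A (Localization.AtPrime p ⧸ I) Q := ⟨fun a x q => by
    obtain ⟨x, rfl⟩ := Ideal.Quotient.mk_surjective x
    exact smul_assoc a x q⟩
  refine core T N (Localization.AtPrime p ⧸ I) (fun B₁ N₁ => ?_) M u (fun m hm => ?_) Q
  · exact hI B₁ N₁
  · obtain ⟨e⟩ := exists_equiv_residueField p I m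
    exact Flat2B.LTensorDev.injective_of_equiv u e h

end Local

open TensorProduct in
/-- Stacks Tag 0AT9: let B be a finitely presented A-algebra, T a multiplicative subset of B, and N a finitely presented module over the localization T⁻¹B which is flat as an A-module. Let M be a flat A-module and u an A-linear map from N to M such that u ⊗ κ(p) is injective for every prime p of A. Then u is universally injective over A. -/
theorem result {A B : Type u} [CommRing A] [CommRing B] [Algebra A B] [Algebra.FinitePresentation A B]
    (T : Submonoid B) (N : Type u) [AddCommGroup N] [Module (Localization T) N] [Module A N] [IsScalarTower A (Localization T) N]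
    [Module.FinitePresentation (Localization T) N] [Module.Flat A N]
    (M : Type u) [AddCommGroup M] [Module A M] [Module.Flat A M] (u : N →ₗ[A] M)
    (h : ∀ (p : Ideal A) [p.IsPrime], Function.Injective (u.lTensor p.ResidueField)) :
    FlatCA.UnivInj A u := by
  intro Q _ _
  exact Flat2B.LTensorLocal.injective_of_local u (fun p _ => local_input T N M u p (h p)) Q

end Groth.Agent.S1266
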