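import Groth.Statements.S1378
import Groth.Agent.S1379
import Groth.Agent.Flat2E.AIC7

set_option autoImplicit false
universe u
open FlatMor

namespace Groth.Agent.S1378

open AlgebraicGeometry CategoryTheory Limits in
/-- Stacks Tag 0CNZ: let S' → S be flat, locally of finite presentation and surjective (an fppf cover by one morphism). Then there is a surjective integral morphism T → S which factors through S' Zariski locally on T. -/
theorem result {S' S : Scheme.{u}} (g : S' ⟶ S) [Flat g] [LocallyOfFinitePresentation g] [Surjective g] :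
    ∃ (T : Scheme.{u}) (π : T ⟶ S), Surjective π ∧ IsIntegralHom π ∧
      ∀ t : ↑T, ∃ (V : T.Opens) (r : ↑V ⟶ S'), t ∈ V ∧ r ≫ g = V.ι ≫ π := by
  refine ⟨Flat2E.AIC6.T S, Flat2E.AIC6.π S, inferInstance, inferInstance, fun t => ?_⟩
  obtain ⟨U, q, hq⟩ := Flat2E.AIC6.exists_chart S t
  have hR : Flat2E.AIC1.IsAIC (Flat2E.AIC6.BR S U.1) := Flat2E.AIC7.isAIC_BR S U.1
  have hD : IsDomain (Localization.AtPrime q.asIdeal) := Flat2E.AIC7.isDomain_BR S U.1 q
  obtain ⟨S₁, V, e, p, he, hs, hps, hpf, hpflat, hpfp, H⟩ := S1379.result g (Flat2E.AIC6.π S t)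
  set j := Flat2E.AIC6.chartι S U
  -- etale step
  have hq1 : q ∈ Set.range (pullback.snd e (j ≫ Flat2E.AIC6.π S)) := by
    rw [Scheme.Pullback.range_snd]
    change (j ≫ Flat2E.AIC6.π S) q ∈ Set.range e
    rwa [Scheme.Hom.comp_apply, hq]
  obtain ⟨c, σ, hc, hσ⟩ := Flat2E.AIC7.exists_section_of_etale hR q (pullback.snd e (j ≫ Flat2E.AIC6.π S)) hq1
  obtain ⟨hR1, q1, hq1q, hD1⟩ := Flat2E.AIC7.good_away hR q c hc
  let σ₁ := σ ≫ pullback.fst e (j ≫ Flat2E.AIC6.π S)
  have hσ₁ : σ₁ ≫ e = Spec.map (CommRingCat.ofHom (algebraMap (Flat2E.AIC6.BR S U.1) (Localization.Away c))) ≫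
      j ≫ Flat2E.AIC6.π S := by
    rw [Category.assoc, pullback.condition, reassoc_of% hσ]
  -- finite flat step
  have hq2 : q1 ∈ Set.range (pullback.snd p σ₁) := (pullback.snd p σ₁).surjective q1
  obtain ⟨c', σ', hc', hσ'⟩ := Flat2E.AIC7.exists_section_of_finite_flat hR1 q1 (pullback.snd p σ₁) hq2
  obtain ⟨hR2, q2, hq2q, hD2⟩ := Flat2E.AIC7.good_away hR1 q1 c' hc'
  let τ := σ' ≫ pullback.fst p σ₁
  let j₂ := Spec.map (CommRingCat.ofHom (algebraMap (Localization.Away c) (Localization.Away c'))) ≫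
    Spec.map (CommRingCat.ofHom (algebraMap (Flat2E.AIC6.BR S U.1) (Localization.Away c))) ≫ j
  have hτ : τ ≫ p ≫ e = j₂ ≫ Flat2E.AIC6.π S := by
    rw [Category.assoc, pullback.condition_assoc, reassoc_of% hσ', hσ₁]
    simp only [j₂, Category.assoc]
  have hj₂ : j₂ q2 = t := by
    simp only [j₂, Scheme.Hom.comp_apply, hq2q, hq1q, hq]
  have hj₂open : IsOpenImmersion j₂ := by
    have h1 : IsOpenImmersion (Spec.map (CommRingCat.ofHom (algebraMap (Localization.Away c) (Localization.Away c')))) :=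
      IsOpenImmersion.of_isLocalization c'
    have h2 : IsOpenImmersion (Spec.map (CommRingCat.ofHom (algebraMap (Flat2E.AIC6.BR S U.1) (Localization.Away c)))) :=
      IsOpenImmersion.of_isLocalization c
    infer_instance
  obtain ⟨W, r, hW, hr⟩ := H (τ q2)
  have hr2 : ((τ ∣_ W) ≫ r) ≫ g = (τ ⁻¹ᵁ W).ι ≫ j₂ ≫ Flat2E.AIC6.π S := by
    rw [Category.assoc, hr, morphismRestrict_ι_assoc, hτ]
  obtain ⟨V', r', hV', hr'⟩ := Flat2E.AIC7.exists_open_of_openImmersion j₂ (Flat2E.AIC6.π S) g q2 (τ ⁻¹ᵁ W) hW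
    ((τ ∣_ W) ≫ r) hr2
  exact ⟨V', r', hj₂ ▸ hV', hr'⟩

end Groth.Agent.S1378
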