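import Groth.Statements.S0813
import Groth.Agent.FormalA.PicFlat
import Groth.Agent.FormalA.PicPunctData
import Mathlib.RingTheory.AdicCompletion.LocalRing
import Mathlib.RingTheory.Flat.FaithfullyFlat.Algebra

set_option autoImplicit false
universe u
open Formal2

namespace Groth.Agent.S0813

section

open CategoryTheory AlgebraicGeometry Groth.Agent.FormalA Groth.Agent.FormalA.PicPunct
  Groth.Agent.FormalA.PicCech Groth.Agent.Fdesc.LocGen

lemma bijective_rU' {A B : Type u} [CommRing A] [CommRing B] [IsLocalRing A]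
    (hA : (2 : ℕ∞) ≤ LocCoh.depth A A) (π : A →+* B) (hπ : π.Flat) :
    Function.Bijective (rU ((Spec.map (CommRingCat.ofHom π)) ⁻¹ᵁ (FEt.puncturedSpec A))) := by
  have h1 : Function.Bijective (Scheme.ΓSpecIso (CommRingCat.of B)).inv.hom :=
    ConcreteCategory.bijective_of_isIso (Scheme.ΓSpecIso (CommRingCat.of B)).inv
  have : Flat (Spec.map (CommRingCat.ofHom π)) := by
    rw [AlgebraicGeometry.Flat.SpecMap_iff]
    exact hπ
  have h2 := Groth.Agent.Pi1A.DepthPunctured.bijective_res_puncturedSpec A hA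
    (Spec.map (CommRingCat.ofHom π)) ⊤
  have h3 : Function.Bijective
      ((((Spec.map (CommRingCat.ofHom π)) ⁻¹ᵁ (FEt.puncturedSpec A)).ι).appTop).hom := by
    rw [Scheme.Opens.ι_appTop]
    have e : (((Spec.map (CommRingCat.ofHom π)) ⁻¹ᵁ (FEt.puncturedSpec A)).ι ''ᵁ ⊤ :
        (Spec (CommRingCat.of B)).Opens) =
        ⊤ ⊓ (Spec.map (CommRingCat.ofHom π)) ⁻¹ᵁ (FEt.puncturedSpec A) := by
      simp
    have key : ∀ (W W' : (Spec (CommRingCat.of B)).Opens) (hW : W = W') (h : W ≤ ⊤) (h' : W' ≤ ⊤),
        Function.Bijective ((Spec (CommRingCat.of B)).presheaf.map (homOfLE h').op).hom →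
        Function.Bijective ((Spec (CommRingCat.of B)).presheaf.map (homOfLE h).op).hom := by
      rintro W _ rfl h h' H
      exact H
    exact key _ _ e _ _ h2
  exact h3.comp h1

end

open CategoryTheory AlgebraicGeometry in
/-- Stacks Tag 0F2G. Let (A, 𝔪) be a Noetherian local ring of depth at least 2, A^ its 𝔪-adic completion, U the punctured spectrum of A and U^ its preimage in Spec A^ (the punctured spectrum of A^). Then an invertible O_U-module whose pullback to U^ is trivial is trivial. -/
theorem result (A : Type u) [CommRing A] [IsNoetherianRing A]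
    [IsLocalRing A] (hdepth : (2 : ℕ∞) ≤ LocCoh.depth A A) :
    Formal2.PicPullbackInjective
      (Spec.map (CommRingCat.ofHom (algebraMap A (AdicCompletion (IsLocalRing.maximalIdeal A) A))) ∣_
        FEt.puncturedSpec A) := by
  intro L hL h₀
  have hflat : Module.Flat A (AdicCompletion (IsLocalRing.maximalIdeal A) A) := inferInstance
  have hff : Module.FaithfullyFlat A (AdicCompletion (IsLocalRing.maximalIdeal A) A) :=
    Module.FaithfullyFlat.of_flat_of_isLocalHom
  have hπ : (algebraMap A (AdicCompletion (IsLocalRing.maximalIdeal A) A)).Flat :=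
    (RingHom.flat_algebraMap_iff).mpr hflat
  let U := FEt.puncturedSpec A
  let ρ := Groth.Agent.FormalA.PicPunct.rho hdepth U rfl
  let ρ₀ := RingEquiv.ofBijective _ (bijective_rU' hdepth _ hπ)
  obtain ⟨C, hC⟩ := Groth.Agent.FormalA.PicPunct.exists_cov U ρ rfl hL
  obtain ⟨ψ⟩ := h₀
  have hgen : Groth.Agent.Fdesc.LocGen.IsGen (Groth.Agent.Fdesc.LocGen.sec ψ.inv ⊤) :=
    (Groth.Agent.Fdesc.LocGen.isIso_iff_isGen ψ.inv).mp inferInstance
  let R : C.Red (Spec.map (CommRingCat.ofHom (algebraMap A
      (AdicCompletion (IsLocalRing.maximalIdeal A) A))) ∣_ U) ρ₀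
      (algebraMap A (AdicCompletion (IsLocalRing.maximalIdeal A) A)) :=
    { compat := fun a => Groth.Agent.FormalA.PicPunct.compat _ U a
      e₀ := Groth.Agent.Fdesc.LocGen.sec ψ.inv ⊤
      gen₀ := hgen }
  have hsurj : Function.Surjective (Spec.map (CommRingCat.ofHom (algebraMap A
      (AdicCompletion (IsLocalRing.maximalIdeal A) A))) ∣_ U) := by
    have h1 : Surjective (Spec.map (CommRingCat.ofHom (algebraMap A
        (AdicCompletion (IsLocalRing.maximalIdeal A) A)))) :=
      ⟨PrimeSpectrum.comap_surjective_of_faithfullyFlat⟩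
    exact (IsZariskiLocalAtTarget.restrict (P := @Surjective) h1 U).surj
  have : CompactSpace ((Spec.map (CommRingCat.ofHom (algebraMap A
      (AdicCompletion (IsLocalRing.maximalIdeal A) A))) ⁻¹ᵁ U : (Spec (CommRingCat.of
      (AdicCompletion (IsLocalRing.maximalIdeal A) A))).Opens) : Scheme.{u}) :=
    QuasiCompact.compactSpace_of_compactSpace (Spec.map (CommRingCat.ofHom (algebraMap A
      (AdicCompletion (IsLocalRing.maximalIdeal A) A))) ∣_ U)
  obtain ⟨s, hs, t, hst⟩ := R.exists_mul_eq_one hπ hsurj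
  exact C.nonempty_iso hs hst

end Groth.Agent.S0813
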