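import Groth.Statements.S0811
import Groth.Agent.FormalA.PicLift

set_option autoImplicit false
universe u
open Formal2

namespace Groth.Agent.S0811

open CategoryTheory AlgebraicGeometry TopologicalSpace
open Groth.Agent.Fdesc.LocGen Groth.Agent.FormalA.TildeOpen Groth.Agent.FormalA.TildeQuot
open Groth.Agent.FormalA.PicLift Groth.Agent.FormalA Groth.Agent

/-- Pullback along a restricted morphism of the restriction of a module. -/
theorem nonempty_resLE {X Y : Scheme.{u}} (g : X ⟶ Y) (U : Y.Opens) (V : X.Opens) (h : V ≤ g ⁻¹ᵁ U)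
    (F : Y.Modules) : Nonempty ((Scheme.Modules.pullback (g.resLE U V h)).obj (F.restrict U.ι) ≅
      (Scheme.Modules.restrictFunctor V.ι).obj ((Scheme.Modules.pullback g).obj F)) :=
  ⟨(Scheme.Modules.pullback (g.resLE U V h)).mapIso
      ((Scheme.Modules.restrictFunctorIsoPullback U.ι).app F) ≪≫
    (Scheme.Modules.pullbackComp (g.resLE U V h) U.ι).app F ≪≫
    (Scheme.Modules.pullbackCongr (g.resLE_comp_ι h)).app F ≪≫
    ((Scheme.Modules.pullbackComp V.ι g).app F).symm ≪≫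
    ((Scheme.Modules.restrictFunctorIsoPullback V.ι).app _).symm⟩

open CategoryTheory AlgebraicGeometry in
/-- Stacks Tag 0F2D. Let (A, 𝔪) be a Noetherian local ring and f ∈ 𝔪 a nonzerodivisor such that A is f-adically complete, H^1_𝔪(A/fA) and H^2_𝔪(A/fA) are finite A-modules and H^3_𝔪(A/fA) = 0. Let U be the punctured spectrum of A and U₀ = U ∩ Spec(A/fA). Then every invertible O_{U₀}-module is isomorphic to the pullback of an invertible module defined on some open U' ⊆ U containing U₀. -/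
theorem result (A : Type u) [CommRing A] [IsNoetherianRing A]
    [IsLocalRing A] (f : A) (hf : f ∈ IsLocalRing.maximalIdeal A) [IsAdicComplete (Ideal.span {f}) A]
    (hnzd : f ∈ nonZeroDivisors A)
    (h₁ : Module.Finite A (LocCoh.H (IsLocalRing.maximalIdeal A) 1 (A ⧸ Ideal.span {f})))
    (h₂ : Module.Finite A (LocCoh.H (IsLocalRing.maximalIdeal A) 2 (A ⧸ Ideal.span {f})))
    (h₃ : Subsingleton (LocCoh.H (IsLocalRing.maximalIdeal A) 3 (A ⧸ Ideal.span {f})))
    (L₀ : (↑(Formal2.specQuotMap A f ⁻¹ᵁ FEt.puncturedSpec A) : Scheme.{u}).Modules)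
    (hL₀ : PicF.IsInvertible L₀) :
    ∃ (U' : (Spec (CommRingCat.of A)).Opens) (_ : U' ≤ FEt.puncturedSpec A)
      (h : Formal2.specQuotMap A f ⁻¹ᵁ FEt.puncturedSpec A ≤ Formal2.specQuotMap A f ⁻¹ᵁ U')
      (L : (↑U' : Scheme.{u}).Modules), PicF.IsInvertible L ∧
        Nonempty ((Scheme.Modules.pullback ((Formal2.specQuotMap A f).resLE U' _ h)).obj L ≅ L₀) := by
  classical
  let m := IsLocalRing.maximalIdeal A
  let I : Ideal A := Ideal.span {f}
  let q : A →+* A ⧸ I := Ideal.Quotient.mk I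
  have hq : Function.Surjective q := Ideal.Quotient.mk_surjective
  let V₀ : (Spec (CommRingCat.of (A ⧸ I))).Opens := Formal2.specQuotMap A f ⁻¹ᵁ FEt.puncturedSpec A
  have hnoeth : IsNoetherianRing (CommRingCat.of (A ⧸ I)) :=
    inferInstanceAs (IsNoetherianRing (A ⧸ I))
  have hfI : ∀ a : A, q a = 0 → ∃ b, a = f * b := by
    intro a ha
    have := Ideal.Quotient.eq_zero_iff_mem.1 ha
    rw [Ideal.mem_span_singleton] at this
    exact this
  -- points of `V₀`
  have hmem : ∀ y : Spec (CommRingCat.of (A ⧸ I)), y ∈ V₀ ↔ y.asIdeal.comap q ≠ m := by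
    intro y
    change ¬ ((Formal2.specQuotMap A f) y = IsLocalRing.closedPoint A) ↔ _
    exact ⟨fun h h' => h (PrimeSpectrum.ext h'), fun h h' => h (congrArg PrimeSpectrum.asIdeal h')⟩
  have hfy : ∀ y : Spec (CommRingCat.of (A ⧸ I)), f ∈ y.asIdeal.comap q := by
    intro y
    rw [Ideal.mem_comap, show q f = 0 from
      Ideal.Quotient.eq_zero_iff_mem.2 (Ideal.mem_span_singleton_self f)]
    exact y.asIdeal.zero_mem
  have hlift : ∀ p : Ideal A, p.IsPrime → f ∈ p → ∃ y : Spec (CommRingCat.of (A ⧸ I)),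
      y.asIdeal.comap q = p := by
    intro p hp hfp
    have h1 : (⟨p, hp⟩ : PrimeSpectrum A) ∈ Set.range (PrimeSpectrum.comap q) := by
      rw [range_comap_of_surjective _ q hq]
      intro a ha
      obtain ⟨b, rfl⟩ := hfI a ha
      exact Ideal.mul_mem_right _ _ hfp
    obtain ⟨y, hy⟩ := h1
    exact ⟨y, congrArg PrimeSpectrum.asIdeal hy⟩
  -- extension of `L₀` to a finite module
  obtain ⟨M₀, hM₀, ⟨e₀⟩⟩ := Ega1.ExtendAff2.exists_extension (R := CommRingCat.of (A ⧸ I)) V₀ L₀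
    (isCoh_of_isInvertible hL₀)
  have hinv : PicF.IsInvertible ((tilde M₀).restrict V₀.ι) := fun y => by
    obtain ⟨U, hy, ⟨e⟩⟩ := hL₀ y
    exact ⟨U, hy, ⟨(Scheme.Modules.restrictFunctor U.ι).mapIso e₀.symm ≪≫ e⟩⟩
  let mA : Module A M₀ := Module.compHom M₀ q
  have hsm : ∀ (a : A) (x : M₀), a • x = q a • x := fun a x => rfl
  have tA : IsScalarTower A (A ⧸ I) M₀ := ⟨fun a r x => by
    obtain ⟨b, rfl⟩ := hq r
    rw [hsm, Algebra.smul_def]
    exact mul_smul (q a) (q b) x⟩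
  have hM₀' : Module.Finite (A ⧸ I) M₀ := hM₀
  have : Module.Finite A M₀ := Module.Finite.trans (A ⧸ I) M₀
  have hfM₀ : ∀ x : M₀, f • x = 0 := by
    intro x
    rw [hsm, show q f = 0 from Ideal.Quotient.eq_zero_iff_mem.2 (Ideal.mem_span_singleton_self f)]
    exact zero_smul _ _
  -- the cover
  let G : Set A := {g | g ∈ m ∧ ∃ n : M₀, (∀ x : M₀, ∃ k : ℕ, ∃ a : A, g ^ k • x = a • n) ∧
    ∀ a : A, a • n = 0 → ∃ k : ℕ, ∃ b, g ^ k * a = f * b}
  have hG : ∀ p : Ideal A, p.IsPrime → G ⊆ p → m ≤ p := by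
    intro p hp hGp
    have hfp : f ∈ p := hGp ⟨hf, 0, fun x => ⟨1, 0, by rw [pow_one, hfM₀, zero_smul]⟩,
      fun a _ => ⟨1, a, by rw [pow_one]⟩⟩
    by_contra hne
    obtain ⟨y, hy⟩ := hlift p hp hfp
    have hyV : y ∈ V₀ := by
      rw [hmem, hy]
      rintro rfl
      exact hne le_rfl
    obtain ⟨a', n, hya, haV, hn1, hn2⟩ := exists_gen M₀ V₀ hinv y hyV
    obtain ⟨a, rfl⟩ := hq a'
    have ham : a ∈ m := by
      by_contra ham
      obtain ⟨z, hz⟩ := hlift m inferInstance hf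
      have hzV : z ∈ V₀ := haV (fun hza => ham (hz ▸ hza))
      exact (hmem z).1 hzV hz
    have haG : a ∈ G := by
      refine ⟨ham, n, fun x => ?_, fun r hr => ?_⟩
      · obtain ⟨k, r', hr⟩ := hn1 x
        obtain ⟨r, rfl⟩ := hq r'
        refine ⟨k, r, ?_⟩
        rw [hsm, hsm, map_pow]
        exact hr
      · obtain ⟨k, hk⟩ := hn2 (q r) hr
        obtain ⟨b, hb⟩ := hfI (a ^ k * r) (by rw [map_mul, map_pow]; exact hk)
        exact ⟨k, b, hb⟩
    have hap : a ∈ y.asIdeal.comap q := hy ▸ hGp haG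
    exact hya hap
  obtain ⟨N, g, hgG, hI⟩ := exists_finite_family m G (fun x hx => hx.1) hG
  choose hgm n hn1 hn2 using hgG
  have hreg : IsSMulRegular A f := by
    rw [isSMulRegular_iff_right_eq_zero_of_smul]
    intro x hx
    exact (mem_nonZeroDivisors_iff_left.1 hnzd) x (by rwa [smul_eq_mul] at hx)
  obtain ⟨M, iM1, iM2, P, iP1, iP2, φ, ε, hMfin, hMreg, hPf, hφ1, hφ2, hε1, hε2⟩ :=
    AlgLift.exists_lift (Localalg.LCAbs.lc m) hreg h₁ h₂ h₃ g hI M₀ hfM₀ n hn1 hn2
  -- `P` as a module over the quotient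
  have ht : Module.IsTorsionBySet A P (I : Set A) := by
    rintro y ⟨a, ha⟩
    obtain ⟨b, rfl⟩ := Ideal.mem_span_singleton.1 ha
    change (f * b) • y = 0
    rw [mul_smul, hPf]
  let mP : Module (A ⧸ I) P := ht.module
  have hsP : ∀ (a : A) (y : P), q a • y = a • y := fun a y => rfl
  let PB : ModuleCat.{u} (A ⧸ I) := ModuleCat.of (A ⧸ I) P
  let ψ : ModuleCat.of A M ⟶ (ModuleCat.restrictScalars q).obj PB :=
    ModuleCat.ofHom (Y := (ModuleCat.restrictScalars q).obj PB)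
      { toFun := φ
        map_add' := φ.map_add
        map_smul' := fun a x => φ.map_smul a x }
  have hcov : V₀ ≤ ⨆ i, (show (Spec (CommRingCat.of (A ⧸ I))).Opens from
      PrimeSpectrum.basicOpen (q (g i))) := by
    intro y hy
    rw [Opens.mem_iSup]
    by_contra hcon
    push Not at hcon
    have h1 : Ideal.span (Set.range g) ≤ y.asIdeal.comap q := by
      rw [Ideal.span_le]
      rintro _ ⟨i, rfl⟩
      by_contra h2
      exact hcon i h2
    have h2 : m ≤ y.asIdeal.comap q := by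
      refine Ideal.le_radical.trans (hI.le.trans ?_)
      exact (Ideal.IsPrime.radical_le_iff inferInstance).2 h1
    exact (hmem y).1 hy ((IsLocalRing.maximalIdeal.isMaximal A).eq_of_le
      (Ideal.IsPrime.ne_top inferInstance) h2).symm
  obtain ⟨e₁⟩ := nonempty_iso q hq (ModuleCat.of A M) PB ψ (fun i => q (g i)) V₀ hcov
    (fun x hx => by
      obtain ⟨y, rfl⟩ := hφ1 x hx
      exact Submodule.smul_mem_smul (by
        rw [RingHom.mem_ker]
        exact Ideal.Quotient.eq_zero_iff_mem.2 (Ideal.mem_span_singleton_self f)) trivial)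
    (fun i y => by
      obtain ⟨l, hl⟩ := hφ2 i
      obtain ⟨x, hx⟩ := hl y
      refine ⟨l, x, ?_⟩
      rw [← map_pow]
      exact hx.symm)
  let ε' : M₀ ⟶ PB := ModuleCat.ofHom (X := M₀) (Y := P)
    { toFun := ε
      map_add' := ε.map_add
      map_smul' := fun r x => by
        obtain ⟨a, rfl⟩ := hq r
        exact ε.map_smul a x }
  have hiso : IsIso ((Scheme.Modules.restrictFunctor V₀.ι).map
      (tilde.map (R := CommRingCat.of (A ⧸ I)) ε')) := by
    refine isIso_restrict_map' (R := CommRingCat.of (A ⧸ I)) ε' (fun i => q (g i)) V₀ hcov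
      (fun i x hx => ?_) fun i y => ?_
    · obtain ⟨l, hl⟩ := hε1 x hx i
      refine ⟨l, ?_⟩
      rw [← map_pow]
      exact hl
    · obtain ⟨l, hl⟩ := hε2 i
      obtain ⟨x, hx⟩ := hl y
      refine ⟨l, x, ?_⟩
      rw [← map_pow]
      exact hx.symm
  -- the open `U'`
  have hU' : freeOpen m M ≤ FEt.puncturedSpec A := by
    intro y hy
    obtain ⟨s, hs, -, hys⟩ := mem_freeOpen.1 hy
    rintro rfl
    exact hys hs
  have hle : V₀ ≤ Formal2.specQuotMap A f ⁻¹ᵁ (freeOpen m M) := by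
    intro y hy
    obtain ⟨i, hi⟩ := Opens.mem_iSup.1 (hcov hy)
    obtain ⟨s, hs, x, hx1, hx2⟩ := AlgFree.exists_free hMreg φ ε (y.asIdeal.comap q) (hfy y)
      (g := g i) hi (n i) (hn1 i) (hn2 i) hφ1 (hφ2 i) (fun x hx => hε1 x hx i) (hε2 i)
    change (Formal2.specQuotMap A f) y ∈ freeOpen m M
    refine mem_freeOpen.2 ⟨s * g i, Ideal.mul_mem_left _ _ (hgm i), ⟨x, fun y => ?_, fun a ha => ?_⟩, ?_⟩
    · obtain ⟨a, ha⟩ := hx1 y
      exact ⟨g i * a, by rw [mul_comm s, mul_smul, ha, mul_smul]⟩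
    · rw [mul_comm s, mul_assoc, hx2 a ha, mul_zero]
    · intro hmem'
      rcases (inferInstance : (y.asIdeal.comap q).IsPrime).mem_or_mem hmem' with h' | h'
      · exact hs h'
      · exact hi h'
  obtain ⟨e₂⟩ := nonempty_resLE (Formal2.specQuotMap A f) (freeOpen m M) V₀ hle
    (tilde (R := CommRingCat.of A) (ModuleCat.of A M))
  exact ⟨freeOpen m M, hU', hle, _, isInvertible_freeOpen m M,
    ⟨e₂ ≪≫ e₁ ≪≫ (@asIso _ _ _ _ _ hiso).symm ≪≫ e₀.symm⟩⟩

end Groth.Agent.S0811
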