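import Groth.Statements.S0812
import Groth.Agent.FormalA.PicExtFin

set_option autoImplicit false
universe u
open Formal2

namespace Groth.Agent.S0812

open CategoryTheory AlgebraicGeometry in
/-- Stacks Tag 0F2F. Let (A, 𝔪) be a Noetherian local ring and f ∈ 𝔪 a nonzerodivisor such that A is f-adically complete, H^1_𝔪(A/fA) and H^2_𝔪(A/fA) are finite A-modules and H^3_𝔪(A/fA) = 0. Assume moreover that for every prime 𝔮 not containing f and maximal with this property, the punctured spectrum of A_𝔮 has trivial Picard group. Then every invertible module on the punctured spectrum of A/fA is the pullback of an invertible module on the punctured spectrum of A. -/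
theorem result (A : Type u) [CommRing A] [IsNoetherianRing A] [IsLocalRing A]
    (f : A) (hf : f ∈ IsLocalRing.maximalIdeal A) [IsAdicComplete (Ideal.span {f}) A]
    (hnzd : f ∈ nonZeroDivisors A)
    (h₁ : Module.Finite A (LocCoh.H (IsLocalRing.maximalIdeal A) 1 (A ⧸ Ideal.span {f})))
    (h₂ : Module.Finite A (LocCoh.H (IsLocalRing.maximalIdeal A) 2 (A ⧸ Ideal.span {f})))
    (h₃ : Subsingleton (LocCoh.H (IsLocalRing.maximalIdeal A) 3 (A ⧸ Ideal.span {f})))
    (h₅ : ∀ (q : Ideal A) [q.IsPrime], f ∉ q → (∀ (q' : Ideal A), q'.IsPrime → q ≤ q' → f ∉ q' → q' = q) →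
      Formal2.PicTrivial (↑(FEt.puncturedSpec (Localization.AtPrime q)) : Scheme.{u})) :
    Formal2.PicPullbackSurjective (Formal2.specQuotMap A f ∣_ FEt.puncturedSpec A) := by
  exact Groth.Agent.FormalA.PicExtFin.picPullbackSurjective A f hf hnzd h₁ h₂ h₃ h₅

end Groth.Agent.S0812
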