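import Groth.Statements.S0323
import Groth.Agent.LoccohA.LES2

set_option autoImplicit false
universe u v
open LocCoh

namespace Groth.Agent.S0323

/-- Stacks Tag 0AW0 (1), Noetherian case, torsion part: if every element of N is killed by a power of I then the local cohomology of N with support in I is N in degree 0 and vanishes in positive degrees.  (The comparison between M and M modulo its I-power torsion is not stated; Noetherian rings only.) -/
theorem result (R : Type u) [CommRing R] [IsNoetherianRing R] (I : Ideal R) (N : Type u) [AddCommGroup N] [Module R N] (hN : LocCoh.IsPowerTorsion I N) : Nonempty (LocCoh.H I 0 N ≃ₗ[R] N) ∧ ∀ p : ℕ, 0 < p → Subsingleton (LocCoh.H I p N) := by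
  refine ⟨⟨(Groth.Agent.LoccohA.LES.equivGam I N).trans
    ((LinearEquiv.ofEq _ _ ?_).trans Submodule.topEquiv)⟩, ?_⟩
  · rw [Submodule.eq_top_iff']
    exact hN
  · intro p hp
    obtain ⟨i, rfl⟩ := Nat.exists_eq_succ_of_ne_zero hp.ne'
    exact Groth.Agent.LoccohA.LES.subsingleton_of_torsion I i N hN

end Groth.Agent.S0323
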