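import Groth.Statements.S1804
import Groth.Agent.LoccohB.HDIBasic
import Groth.Agent.LoccohB.KInjD
import Groth.Agent.LoccohB.LBC2
import Groth.Agent.PerfB.ExactHomology
import Groth.Agent.S1812
import Groth.Agent.S1813

set_option autoImplicit false
universe u
open CategoryTheory
attribute [local instance] HasDerivedCategory.standard
open LocCoh

namespace Groth.Agent.S1804

open Groth.Agent.LoccohB.LocTri Groth.Agent.LoccohB.HDIBasic Pretriangulated

/-- For a complex with `I`-power torsion cohomology over a Noetherian ring, `HDI` is the cohomology. -/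
lemma hdi_of_torsion (A : Type u) [CommRing A] [IsNoetherianRing A] (I : Ideal A) (K : Dual.D A)
    (hK : ∀ i : ℤ, LocCoh.IsPowerTorsion I (Dual.HD A K i)) (i : ℤ) :
    Nonempty (Dual.HD A K i ≃ₗ[A] Dual2.HDI A I K i) := by
  have : DRing.HasRgammaI I := Groth.Agent.LoccohB.KInjD.hasRgammaI I
  obtain ⟨e⟩ := Groth.Agent.S1812.result A I (IsNoetherian.noetherian I) K i
  have h := Groth.Agent.S1813.result A I K hK
  exact ⟨(((DerivedCategory.homologyFunctor (ModuleCat.{u} A) i).mapIso (asIso ((DRing.RgammaIε I).app K))).symm.toLinearEquiv).trans e⟩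

/-- restriction of scalars of the `B`-linear structure -/
lemma isIso_smul_restrictD {A B : Type u} [CommRing A] [CommRing B] [Algebra A B] (a : A) (C : Dual.D B)
    (hC : IsIso (algebraMap A B a • 𝟙 C)) : IsIso (a • 𝟙 ((DRing.restrictD (algebraMap A B)).obj C)) := by
  rw [← Groth.Agent.LoccohB.LBC.restrictD_map_smul_id]
  infer_instance

lemma hdi_restrict_step (A B : Type u) [CommRing A] [CommRing B] [Algebra A B] (I : Ideal A) (i : ℤ) (a : A) (ha : a ∈ I)
    {G K C : Dual.D B} {α : G ⟶ K} {β : K ⟶ C} {γ : C ⟶ G⟦(1 : ℤ)⟧}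
    (hT : Triangle.mk α β γ ∈ distTriang (Dual.D B)) (hC : IsIso (algebraMap A B a • 𝟙 C)) :
    Nonempty (Dual2.HDI A I ((DRing.restrictD (algebraMap A B)).obj G) i ≅ Dual2.HDI A I ((DRing.restrictD (algebraMap A B)).obj K) i) ∧
    Nonempty (Dual2.HDI B (I.map (algebraMap A B)) G i ≅ Dual2.HDI B (I.map (algebraMap A B)) K i) := by
  constructor
  · have hT' := (DRing.restrictD (algebraMap A B)).map_distinguished _ hT
    have := isIso_hdiMap_of_tri I hT' (fun n j => subsingleton_of_isIso I a ha _ (isIso_smul_restrictD a C hC) n j) i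
    exact ⟨@asIso _ _ _ _ _ this⟩
  · have := isIso_hdiMap_of_tri (I.map (algebraMap A B)) hT
      (fun n j => subsingleton_of_isIso _ (algebraMap A B a) (Ideal.mem_map_of_mem _ ha) _ hC n j) i
    exact ⟨@asIso _ _ _ _ _ this⟩

lemma aux (A B : Type u) [CommRing A] [CommRing B] [Algebra A B] [IsNoetherianRing A] [IsNoetherianRing B] (I : Ideal A) (K : Dual.D B) (i : ℤ) :
    Nonempty (Dual2.HDI A I ((DRing.restrictD (algebraMap A B)).obj K) i ≅ (ModuleCat.restrictScalars (algebraMap A B)).obj (Dual2.HDI B (I.map (algebraMap A B)) K i)) := by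
  obtain ⟨s, hs⟩ := IsNoetherian.noetherian I
  obtain ⟨G, h₁, -, h₂⟩ := exists_torsion (s.toList.map (algebraMap A B)) K
  obtain ⟨⟨e₁⟩, ⟨e₂⟩⟩ := h₂ (fun L => Nonempty (Dual2.HDI A I ((DRing.restrictD (algebraMap A B)).obj L) i ≅ Dual2.HDI A I ((DRing.restrictD (algebraMap A B)).obj K) i) ∧
    Nonempty (Dual2.HDI B (I.map (algebraMap A B)) L i ≅ Dual2.HDI B (I.map (algebraMap A B)) K i)) ⟨⟨Iso.refl _⟩, ⟨Iso.refl _⟩⟩ (by
      intro f hf G K' C α β γ hT hC hP
      obtain ⟨a, ha, rfl⟩ := List.mem_map.1 hf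
      have ha' : a ∈ I := by
        rw [← hs]
        exact Submodule.subset_span (by simpa using ha)
      obtain ⟨⟨e⟩, ⟨e'⟩⟩ := hdi_restrict_step A B I i a ha' hT hC
      obtain ⟨⟨t⟩, ⟨t'⟩⟩ := hP
      exact ⟨⟨e ≪≫ t⟩, ⟨e' ≪≫ t'⟩⟩)
  have hG : ∀ j, LocCoh.IsPowerTorsion (I.map (algebraMap A B)) (Dual.HD B G j) := fun j =>
    isPowerTorsion_of_elTor (s.toList.map (algebraMap A B)) _ (by
      rw [← hs]
      change Ideal.map _ (Ideal.span _) = _
      rw [Ideal.map_span]
      congr 1
      ext x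
      simp) _ (fun f hf => h₁ f hf j)
  have eG : ∀ j, (DerivedCategory.homologyFunctor (ModuleCat.{u} A) j).obj ((DRing.restrictD (algebraMap A B)).obj G) ≅
      (ModuleCat.restrictScalars (algebraMap A B)).obj ((DerivedCategory.homologyFunctor (ModuleCat.{u} B) j).obj G) :=
    fun j => Groth.Agent.PerfB.ExactHomology.homologyObjIso _ G j
  have hG' : ∀ j, LocCoh.IsPowerTorsion I (Dual.HD A ((DRing.restrictD (algebraMap A B)).obj G) j) := by
    intro j m
    obtain ⟨n, hn⟩ := hG j ((eG j).hom.hom m)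
    refine ⟨n, fun a ha => ?_⟩
    have hinj : Function.Injective (eG j).hom.hom := ((ConcreteCategory.isIso_iff_bijective (eG j).hom).1 inferInstance).1
    apply hinj
    rw [map_smul, map_zero]
    exact hn (algebraMap A B a) (by
      rw [← Ideal.map_pow]
      exact Ideal.mem_map_of_mem _ ha)
  obtain ⟨u₁⟩ := hdi_of_torsion A I _ hG' i
  obtain ⟨u₂⟩ := hdi_of_torsion B (I.map (algebraMap A B)) G hG i
  let u₂' : (ModuleCat.restrictScalars (algebraMap A B)).obj ((DerivedCategory.homologyFunctor (ModuleCat.{u} B) i).obj G) ≃ₗ[A]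
      (ModuleCat.restrictScalars (algebraMap A B)).obj (Dual2.HDI B (I.map (algebraMap A B)) G i) :=
    { u₂.toAddEquiv with
      map_smul' := fun a x => u₂.map_smul (algebraMap A B a) x }
  let v : Dual2.HDI A I ((DRing.restrictD (algebraMap A B)).obj G) i ≃ₗ[A] (ModuleCat.restrictScalars (algebraMap A B)).obj (Dual2.HDI B (I.map (algebraMap A B)) G i) :=
    (u₁.symm.trans (eG i).toLinearEquiv).trans u₂'
  exact ⟨e₁.symm ≪≫ v.toModuleIso ≪≫ (ModuleCat.restrictScalars (algebraMap A B)).mapIso e₂⟩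


/-- Stacks Tag 0BJB, for Noetherian rings and stated on cohomology.  Let A → B be a homomorphism of Noetherian rings, I an ideal of A with extension J = IB, and K an object of D(B).  For every i, the A-module H^i_I of the restriction of K to D(A) (the direct limit of Hom(A/I^n, K[i])) is isomorphic to the restriction to A of the B-module H^i_J(K). -/
theorem result (A B : Type u) [CommRing A] [CommRing B] [Algebra A B] [IsNoetherianRing A] [IsNoetherianRing B] (I : Ideal A) (K : Dual.D B) (i : ℤ) : Nonempty (Dual2.HDI A I ((DRing.restrictD (algebraMap A B)).obj K) i ≅ (ModuleCat.restrictScalars (algebraMap A B)).obj (Dual2.HDI B (I.map (algebraMap A B)) K i)) := by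
  exact aux A B I K i

end Groth.Agent.S1804
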