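import Groth.Statements.S1805
import Groth.Agent.LoccohB.HDIBasic
import Groth.Agent.LoccohB.LBC2
import Groth.Agent.PerfB.ExactHomology
import Groth.Agent.LoccohB.KProj
import Mathlib.Algebra.Category.ModuleCat.Descent
import Groth.Agent.S1804

set_option autoImplicit false
universe u
open CategoryTheory
attribute [local instance] HasDerivedCategory.standard
open LocCoh

namespace Groth.Agent.S1805

open Groth.Agent.LoccohB.LocTri Groth.Agent.LoccohB.HDIBasic Pretriangulated
open scoped Groth.Agent.LoccohB.LBC ChangeOfRings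

/-- Cohomology of a flat base change. -/
lemma hd_lbc (A B : Type u) [CommRing A] [CommRing B] [Algebra A B] [Module.Flat A B]
    [DRing.HasLBaseChange (algebraMap A B)] (K : Dual.D A) (i : ℤ) :
    Nonempty ((DerivedCategory.homologyFunctor (ModuleCat.{u} B) i).obj ((DRing.LBaseChange (algebraMap A B)).obj K) ≅
      (ModuleCat.extendScalars.{u, u, u} (algebraMap A B)).obj ((DerivedCategory.homologyFunctor (ModuleCat.{u} A) i).obj K)) := by
  obtain ⟨P, p, hP, hp, -, -⟩ := Groth.Agent.LoccohB.KProj.exists_kprojective (DerivedCategory.Q.objPreimage K)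
  have hf : (algebraMap A B).Flat := RingHom.flat_algebraMap_iff.2 inferInstance
  have := ModuleCat.preservesFiniteLimits_extendScalars_of_flat hf
  have : IsIso (DerivedCategory.Q.map p) := inferInstance
  let e : DerivedCategory.Q.obj P ≅ K := asIso (DerivedCategory.Q.map p) ≪≫ DerivedCategory.Q.objObjPreimageIso K
  exact ⟨(DerivedCategory.homologyFunctor (ModuleCat.{u} B) i).mapIso ((DRing.LBaseChange (algebraMap A B)).mapIso e.symm ≪≫
      Groth.Agent.LoccohB.LBC.lbcQIso (algebraMap A B) P) ≪≫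
    (DerivedCategory.homologyFunctorFactors (ModuleCat.{u} B) i).app _ ≪≫
    Groth.Agent.PerfB.ExactHomology.homologyIsoCx (ModuleCat.extendScalars.{u, u, u} (algebraMap A B)) P i ≪≫
    (ModuleCat.extendScalars.{u, u, u} (algebraMap A B)).mapIso
      (((DerivedCategory.homologyFunctorFactors (ModuleCat.{u} A) i).app P).symm ≪≫
        (DerivedCategory.homologyFunctor (ModuleCat.{u} A) i).mapIso e)⟩

lemma ext_induction {A : Type u} {B : Type u} [CommRing A] [CommRing B] (φ : A →+* B) {M : ModuleCat.{u} A}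
    {p : (ModuleCat.extendScalars.{u, u, u} φ).obj M → Prop} (h0 : p 0) (ht : ∀ (s : B) (m : M), p (s ⊗ₜ[A, φ] m))
    (hadd : ∀ x y, p x → p y → p (x + y)) (x : (ModuleCat.extendScalars.{u, u, u} φ).obj M) : p x :=
  TensorProduct.induction_on x h0 ht hadd

/-- extension of scalars of a linear equivalence between modules in different universes -/
lemma ext_equiv {A B : Type u} [CommRing A] [CommRing B] (φ : A →+* B) {M : ModuleCat.{u} A} {N : ModuleCat.{u+1} A}
    (e : M ≃ₗ[A] N) : Nonempty ((ModuleCat.extendScalars.{u, u, u} φ).obj M ≃ₗ[B] (ModuleCat.extendScalars.{u, u, u+1} φ).obj N) := by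
  let t : TensorProduct A ((ModuleCat.restrictScalars φ).obj (ModuleCat.of B B)) M ≃ₗ[A]
    TensorProduct A ((ModuleCat.restrictScalars φ).obj (ModuleCat.of B B)) N := TensorProduct.congr (LinearEquiv.refl _ _) e
  let T : (ModuleCat.extendScalars.{u, u, u} φ).obj M → (ModuleCat.extendScalars.{u, u, u+1} φ).obj N := t
  have hadd : ∀ x y, T (x + y) = T x + T y := map_add t
  have h3 : T 0 = 0 := map_zero t
  have hsmul : ∀ (b : B) x, T (b • x) = b • T x := by
    intro b x
    induction x using ext_induction with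
    | h0 => rw [smul_zero, h3, smul_zero]
    | ht s m => rfl
    | hadd x y hx hy => rw [smul_add, hadd, hadd, hx, hy, smul_add]
  exact ⟨LinearEquiv.ofBijective { toFun := T, map_add' := hadd, map_smul' := hsmul } t.bijective⟩

lemma elTor_ext {A B : Type u} [CommRing A] [CommRing B] (φ : A →+* B) (M : ModuleCat.{u} A) (f : A) (h : ElTor f M) :
    ElTor (φ f) ((ModuleCat.extendScalars.{u, u, u} φ).obj M) := by
  intro x
  induction x using ext_induction with
  | h0 => exact ⟨0, smul_zero _⟩
  | ht s m =>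
    obtain ⟨n, hn⟩ := h m
    refine ⟨n, ?_⟩
    refine (ModuleCat.ExtendScalars.smul_tmul φ ((φ f) ^ n) s m).trans ?_
    let := Module.compHom B φ
    have h2 : (φ f) ^ n * s = f ^ n • s := by
      rw [← map_pow]; rfl
    rw [h2]
    refine (TensorProduct.smul_tmul (R := A) (f ^ n) s m).trans ?_
    rw [hn]
    exact TensorProduct.tmul_zero _ _
  | hadd x y hx hy =>
    obtain ⟨n, hn⟩ := hx
    obtain ⟨m, hm⟩ := hy
    refine ⟨n + m, ?_⟩
    rw [smul_add, pow_add, mul_smul, mul_smul, hm, smul_comm, hn, smul_zero, smul_zero, add_zero]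

lemma hdi_lbc_step (A B : Type u) [CommRing A] [CommRing B] [Algebra A B] [DRing.HasLBaseChange (algebraMap A B)]
    (I : Ideal A) (i : ℤ) (a : A) (ha : a ∈ I)
    {G K C : Dual.D A} {α : G ⟶ K} {β : K ⟶ C} {γ : C ⟶ G⟦(1 : ℤ)⟧}
    (hT : Triangle.mk α β γ ∈ distTriang (Dual.D A)) (hC : IsIso (a • 𝟙 C)) :
    Nonempty (Dual2.HDI B (I.map (algebraMap A B)) ((DRing.LBaseChange (algebraMap A B)).obj G) i ≅
      Dual2.HDI B (I.map (algebraMap A B)) ((DRing.LBaseChange (algebraMap A B)).obj K) i) ∧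
    Nonempty (Dual2.HDI A I G i ≅ Dual2.HDI A I K i) := by
  constructor
  · have hT' := (DRing.LBaseChange (algebraMap A B)).map_distinguished _ hT
    have hC' : IsIso (algebraMap A B a • 𝟙 ((DRing.LBaseChange (algebraMap A B)).obj C)) := by
      rw [← CategoryTheory.Functor.map_id, ← Groth.Agent.LoccohB.LBC.lbc_map_smul]
      infer_instance
    have := isIso_hdiMap_of_tri (I.map (algebraMap A B)) hT'
      (fun n j => subsingleton_of_isIso _ (algebraMap A B a) (Ideal.mem_map_of_mem _ ha) _ hC' n j) i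
    exact ⟨@asIso _ _ _ _ _ this⟩
  · have := isIso_hdiMap_of_tri I hT (fun n j => subsingleton_of_isIso _ a ha _ hC n j) i
    exact ⟨@asIso _ _ _ _ _ this⟩

lemma aux (A B : Type u) [CommRing A] [CommRing B] [Algebra A B] [IsNoetherianRing A] [IsNoetherianRing B] [Module.Flat A B] [DRing.HasLBaseChange (algebraMap A B)] (I : Ideal A) (K : Dual.D A) (i : ℤ) :
    Nonempty (Dual2.HDI B (I.map (algebraMap A B)) ((DRing.LBaseChange (algebraMap A B)).obj K) i ≅ (ModuleCat.extendScalars (algebraMap A B)).obj (Dual2.HDI A I K i)) := by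
  obtain ⟨s, hs⟩ := IsNoetherian.noetherian I
  obtain ⟨G, h₁, -, h₂⟩ := exists_torsion s.toList K
  obtain ⟨⟨e₁⟩, ⟨e₂⟩⟩ := h₂ (fun L => Nonempty (Dual2.HDI B (I.map (algebraMap A B)) ((DRing.LBaseChange (algebraMap A B)).obj L) i ≅
      Dual2.HDI B (I.map (algebraMap A B)) ((DRing.LBaseChange (algebraMap A B)).obj K) i) ∧
    Nonempty (Dual2.HDI A I L i ≅ Dual2.HDI A I K i)) ⟨⟨Iso.refl _⟩, ⟨Iso.refl _⟩⟩ (by
      intro a ha G K' C α β γ hT hC hP
      have ha' : a ∈ I := by
        rw [← hs]
        exact Submodule.subset_span (by simpa using ha)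
      obtain ⟨⟨e⟩, ⟨e'⟩⟩ := hdi_lbc_step A B I i a ha' hT hC
      obtain ⟨⟨t⟩, ⟨t'⟩⟩ := hP
      exact ⟨⟨e ≪≫ t⟩, ⟨e' ≪≫ t'⟩⟩)
  have hG : ∀ j, LocCoh.IsPowerTorsion I (Dual.HD A G j) := fun j =>
    isPowerTorsion_of_elTor s.toList I (by
      rw [← hs]
      congr 1
      ext x
      simp) _ (fun f hf => h₁ f hf j)
  have eG : ∀ j, Nonempty ((DerivedCategory.homologyFunctor (ModuleCat.{u} B) j).obj ((DRing.LBaseChange (algebraMap A B)).obj G) ≅
      (ModuleCat.extendScalars.{u, u, u} (algebraMap A B)).obj ((DerivedCategory.homologyFunctor (ModuleCat.{u} A) j).obj G)) :=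
    fun j => hd_lbc A B G j
  have hG' : ∀ j, LocCoh.IsPowerTorsion (I.map (algebraMap A B)) (Dual.HD B ((DRing.LBaseChange (algebraMap A B)).obj G) j) := by
    intro j
    obtain ⟨e⟩ := eG j
    refine isPowerTorsion_of_elTor (s.toList.map (algebraMap A B)) _ (by
      rw [← hs]
      change Ideal.map _ (Ideal.span _) = _
      rw [Ideal.map_span]
      congr 1
      ext x
      simp) _ (fun f hf => ?_)
    obtain ⟨a, ha, rfl⟩ := List.mem_map.1 hf
    exact elTor_of_iso e.symm (elTor_ext (algebraMap A B) _ a (h₁ a ha j))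
  obtain ⟨u₁⟩ := Groth.Agent.S1804.hdi_of_torsion A I _ hG i
  obtain ⟨u₂⟩ := Groth.Agent.S1804.hdi_of_torsion B (I.map (algebraMap A B)) _ hG' i
  obtain ⟨e⟩ := eG i
  obtain ⟨w⟩ := ext_equiv (algebraMap A B) (M := (DerivedCategory.homologyFunctor (ModuleCat.{u} A) i).obj G) (N := Dual2.HDI A I G i) u₁
  let v := (u₂.symm.trans e.toLinearEquiv).trans w
  exact ⟨e₁.symm ≪≫ v.toModuleIso ≪≫ (ModuleCat.extendScalars (algebraMap A B)).mapIso e₂⟩

/-- Stacks Tag 0ALZ, for a flat homomorphism of Noetherian rings and stated on cohomology.  Let A → B be a flat homomorphism of Noetherian rings, I an ideal of A and K an object of D(A); assume the derived base change functor D(A) → D(B) exists.  Then for every i the B-module H^i_{IB} of the base change of K (direct limit of Hom(B/I^nB, (K ⊗^L_A B)[i])) is isomorphic to B ⊗_A H^i_I(K). -/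
theorem result (A B : Type u) [CommRing A] [CommRing B] [Algebra A B] [IsNoetherianRing A] [IsNoetherianRing B] [Module.Flat A B] [DRing.HasLBaseChange (algebraMap A B)] (I : Ideal A) (K : Dual.D A) (i : ℤ) : Nonempty (Dual2.HDI B (I.map (algebraMap A B)) ((DRing.LBaseChange (algebraMap A B)).obj K) i ≅ (ModuleCat.extendScalars (algebraMap A B)).obj (Dual2.HDI A I K i)) := by
  exact aux A B I K i

end Groth.Agent.S1805
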