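import Groth.Statements.S1791
import Groth.Agent.LoccohB.FaltH
import Groth.Agent.S1805
import Groth.Agent.LoccohB.LocDualFinal

set_option autoImplicit false
universe u
open CategoryTheory
attribute [local instance] HasDerivedCategory.standard
open LocCoh

namespace Groth.Agent.S1791

open Groth.Agent.LoccohB.FaltB Groth.Agent.LoccohB.FaltG Groth.Agent.LoccohB.FaltH

lemma localDuality (A : Type u) [CommRing A] [IsNoetherianRing A] (ω : Dual.D A) (hω : Dual.IsDualizing A ω)
    (δ : PrimeSpectrum A → ℤ)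
    (hδ1 : ∀ (p : PrimeSpectrum A) (i : ℤ), (¬ Groth.Agent.LoccohA.DzExact.VanAt A p.asIdeal
      (Groth.Agent.LoccohA.DzExt.E ω i (Groth.Agent.LoccohA.DzDim.Aq p))) ↔ i = -δ p) :
    LocalDualityAt ω δ :=
  Groth.Agent.LoccohB.LocDualFinal.localDualityAt ω hω δ hδ1

lemma subsingleton_HDI_iff (A : Type u) [CommRing A] [IsNoetherianRing A] (p : PrimeSpectrum A)
    [DRing.HasLBaseChange (algebraMap A (Localization.AtPrime p.asIdeal))] (K : Dual.D A) (i : ℤ) :
    Subsingleton (Dual2.HDI (Localization.AtPrime p.asIdeal)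
      (IsLocalRing.maximalIdeal (Localization.AtPrime p.asIdeal))
      ((DRing.LBaseChange (algebraMap A (Localization.AtPrime p.asIdeal))).obj K) i) ↔
      Kills p.asIdeal ⊤ (K⟦i⟧) := by
  obtain ⟨e⟩ := Groth.Agent.S1805.result A (Localization.AtPrime p.asIdeal) p.asIdeal K i
  rw [Localization.AtPrime.map_eq_maximalIdeal] at e
  rw [← forall_HDI_iff, ← subsingleton_extendScalars_iff.{u + 1}]
  exact e.toLinearEquiv.toEquiv.subsingleton_congr

/-- Stacks Tag 0EHZ.  Let A be a Noetherian ring with a dualizing complex, T ⊆ T' subsets of Spec A stable under specialization, s an integer, and K an object of D(A) which is bounded below with finite cohomology modules.  Assume the derived base change functors D(A) → D(A_p) exist.  Then there is an ideal J with V(J) ⊆ T' annihilating H^i_T(K) for all i ≤ s if and only if for all primes p ∉ T' and q ∈ T with p ⊆ q, writing h for the length of the longest chain of primes from p to q, the local cohomology H^i of K_p at the maximal ideal of A_p vanishes for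 every i ≤ s − h (that is, depth(K_p) + h > s). -/
theorem result (A : Type u) [CommRing A] [IsNoetherianRing A] (hA : ∃ ω : Dual.D A, Dual.IsDualizing A ω) (T T' : Set (PrimeSpectrum A)) (hT : StableUnderSpecialization T) (hT' : StableUnderSpecialization T') (hTT' : T ⊆ T') (s : ℤ) (K : Dual.D A) (a : ℤ) (hKa : ∀ i : ℤ, i < a → Subsingleton (Dual.HD A K i)) (hK : ∀ i : ℤ, Module.Finite A (Dual.HD A K i)) [∀ p : PrimeSpectrum A, DRing.HasLBaseChange (algebraMap A (Localization.AtPrime p.asIdeal))] : (∃ J : Ideal A, PrimeSpectrum.zeroLocus (J : Set A) ⊆ T' ∧ ∀ i : ℤ, i ≤ s → ∀ a ∈ J, ∀ x : Dual2.HDT A T K i, a • x = 0) ↔ (∀ (p q : PrimeSpectrum A) (hpq : p ≤ q), p ∉ T' → q ∈ T → ∀ h : ℕ, Order.height (⟨q, hpq⟩ : Set.Ici p) = h → ∀ i : ℤ, i ≤ s - h → Subsingleton (Dual2.HDI (Localization.AtPrime p.asIdeal) (IsLocalRing.maximalIdeal (Localization.AtPrime p.asIdeal)) ((DRing.LBaseChange (algebraMap A (Localization.AtPrime p.asIdeal))).obj K) i)) := by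
  obtain ⟨ω, hω⟩ := hA
  obtain ⟨δ, hδ1, hδ2⟩ := Groth.Agent.LoccohA.DzDim.exists_delta hω
  rw [main ω hω δ hδ1 hδ2 (localDuality A ω hω δ hδ1) T T' hT hT' s K a hKa hK]
  refine forall₃_congr fun p q hpq => forall₂_congr fun _ _ => forall₂_congr fun h _ =>
    forall₂_congr fun i _ => ?_
  exact (subsingleton_HDI_iff A p K i).symm

end Groth.Agent.S1791

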