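import Groth.Statements.S1711
import Groth.Agent.S1791
import Groth.Agent.LoccohA.FaltMod530

set_option autoImplicit false
universe u
open CategoryTheory
attribute [local instance] HasDerivedCategory.standard
open LocCoh

namespace Groth.Agent.S1711

/-- Stacks Tag 0EFC.  Let A be a Noetherian ring admitting a dualizing complex, T ⊆ T' subsets of Spec A stable under specialization, s ≥ 0 and M a finite A-module.  Then some ideal J with V(J) ⊆ T' kills H^i_T(M) for all i ≤ s if and only if for every prime p outside T' and every q in T containing p, the depth of M_p over A_p plus the Krull dimension of the interval of primes between p and q is greater than s. -/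
theorem result (A : Type u) [CommRing A] [IsNoetherianRing A] (hA : ∃ ω : Dual.D A, Dual.IsDualizing A ω) (T T' : Set (PrimeSpectrum A)) (hT : StableUnderSpecialization T) (hT' : StableUnderSpecialization T') (hTT' : T ⊆ T') (s : ℕ) (M : Type u) [AddCommGroup M] [Module A M] [Module.Finite A M] : (∃ J : Ideal A, PrimeSpectrum.zeroLocus (J : Set A) ⊆ T' ∧ ∀ i : ℕ, i ≤ s → ∀ a ∈ J, ∀ x : Dual2.HT T i M, a • x = 0) ↔ (∀ p q : PrimeSpectrum A, p ∉ T' → q ∈ T → p ≤ q → (s : WithBot ℕ∞) < ((LocCoh.depth (Localization.AtPrime p.asIdeal) (LocalizedModule p.asIdeal.primeCompl M) : ℕ∞) : WithBot ℕ∞) + Order.krullDim (Set.Icc p q)) := by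
  have inst : ∀ p : PrimeSpectrum A,
      DRing.HasLBaseChange (algebraMap A (Localization.AtPrime p.asIdeal)) := fun p =>
    Groth.Agent.LoccohB.LBC.hasLBaseChange _
  have key := Groth.Agent.S1791.result A hA T T' hT hT' hTT' s (Dual.inD A M) 0
    (fun i hi => Groth.Agent.LoccohA.FaltMod530.subsingleton_HD_inD M i hi.ne)
    (fun i => Groth.Agent.LoccohA.FaltMod530.finite_HD_inD M i)
  have e1 : (∃ J : Ideal A, PrimeSpectrum.zeroLocus (J : Set A) ⊆ T' ∧
      ∀ i : ℕ, i ≤ s → ∀ a ∈ J, ∀ x : Dual2.HT T i M, a • x = 0) ↔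
      (∃ J : Ideal A, PrimeSpectrum.zeroLocus (J : Set A) ⊆ T' ∧
      ∀ i : ℤ, i ≤ s → ∀ a ∈ J, ∀ x : Dual2.HDT A T (Dual.inD A M) i, a • x = 0) :=
    exists_congr fun J => and_congr_right fun _ =>
      (Groth.Agent.LoccohA.FaltMod530.annihilates_iff T M s J).symm
  rw [e1, key]
  refine forall₂_congr fun p q => ?_
  have hloc : ∀ t : ℤ, (∀ i : ℤ, i ≤ t → Subsingleton (Dual2.HDI (Localization.AtPrime p.asIdeal)
      (IsLocalRing.maximalIdeal (Localization.AtPrime p.asIdeal))
      ((DRing.LBaseChange (algebraMap A (Localization.AtPrime p.asIdeal))).obj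
        (Dual.inD A M)) i)) ↔ ∀ n : ℕ, (n : ℤ) ≤ t → (n : ℕ∞) <
          LocCoh.depth (Localization.AtPrime p.asIdeal) (LocalizedModule p.asIdeal.primeCompl M) := by
    intro t
    obtain ⟨e⟩ := Groth.Agent.LoccohA.FaltMod530.nonempty_lbc_iso p M
    rw [← Groth.Agent.LoccohA.FaltMod530.forall_subsingleton_iff]
    refine forall₂_congr fun i _ => ?_
    exact (Groth.Agent.LoccohB.HDIBasic.hdiIso _ e i).toLinearEquiv.toEquiv.subsingleton_congr
  constructor
  · intro h hp hq hpq
    rw [Groth.Agent.LoccohA.CutoffLoc.krullDim_Icc hpq]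
    rw [← WithBot.coe_natCast, ← WithBot.coe_add, WithBot.coe_lt_coe]
    by_cases ht : Groth.Agent.Ega4B.CatHeight.rlen p q = ⊤
    · rw [ht, add_top]
      exact_mod_cast ENat.natCast_lt_top s
    obtain ⟨m, hm⟩ := ENat.ne_top_iff_exists.mp ht
    by_contra hlt
    rw [not_lt] at hlt
    obtain ⟨d, hd⟩ := ENat.ne_top_iff_exists.mp
      (ne_top_of_le_ne_top (ENat.natCast_ne_top s) (le_self_add.trans hlt))
    rw [← hd, ← hm] at hlt
    have hlt' : d + m ≤ s := by exact_mod_cast hlt
    have h2 := (hloc (s - m)).1 (h hpq hp hq m (by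
      rw [Groth.Agent.Ega4B.CatHeight.height_Ici hpq, ← hm])) d (by lia)
    rw [← hd] at h2
    exact lt_irrefl _ h2
  · intro h hpq hp hq m hm
    rw [hloc]
    intro n hn
    have h1 := h hp hq hpq
    rw [Groth.Agent.LoccohA.CutoffLoc.krullDim_Icc hpq,
      ← Groth.Agent.Ega4B.CatHeight.height_Ici hpq, hm, ← WithBot.coe_natCast,
      ← WithBot.coe_add, WithBot.coe_lt_coe] at h1
    by_contra hlt
    rw [not_lt] at hlt
    have h2 : (s : ℕ∞) < (n : ℕ∞) + m := h1.trans_le (add_le_add_left hlt _)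
    have h3 : s < n + m := by exact_mod_cast h2
    lia

end Groth.Agent.S1711
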