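import Groth.Statements.S1765
import Groth.Agent.S1711
import Groth.Agent.LoccohA.HTV

set_option autoImplicit false
universe u
open CategoryTheory
attribute [local instance] HasDerivedCategory.standard
open LocCoh

namespace Groth.Agent.S1765

/-- Stacks Tag 0EFE.  Let A be a Noetherian ring with a dualizing complex, I an ideal, M a finite A-module, p a prime not containing I and s ≥ 0.  Suppose that for all primes p' ⊆ p and all primes q ⊇ I with p' ⊆ q, depth(M_{p'}) plus the Krull dimension of the interval of primes [p', q] exceeds s.  Then there is f ∉ p annihilating H^i_I(M) for all i ≤ s. -/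
theorem result (A : Type u) [CommRing A] [IsNoetherianRing A] (hA : ∃ ω : Dual.D A, Dual.IsDualizing A ω) (I : Ideal A) (M : Type u) [AddCommGroup M] [Module A M] [Module.Finite A M] (p : PrimeSpectrum A) (hp : ¬ I ≤ p.asIdeal) (s : ℕ) (h : ∀ p' q : PrimeSpectrum A, p' ≤ p → I ≤ q.asIdeal → p' ≤ q → (s : WithBot ℕ∞) < ((LocCoh.depth (Localization.AtPrime p'.asIdeal) (LocalizedModule p'.asIdeal.primeCompl M) : ℕ∞) : WithBot ℕ∞) + Order.krullDim (Set.Icc p' q)) : ∃ f : A, f ∉ p.asIdeal ∧ ∀ i : ℕ, i ≤ s → ∀ x : LocCoh.H I i M, f • x = 0 := by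
  have hT : StableUnderSpecialization (PrimeSpectrum.zeroLocus (I : Set A)) :=
    (PrimeSpectrum.isClosed_zeroLocus _).stableUnderSpecialization
  have hT' : StableUnderSpecialization {p' : PrimeSpectrum A | ¬ p' ≤ p} := by
    intro x y hxy hx hy
    exact hx (((PrimeSpectrum.le_iff_specializes x y).mpr hxy).trans hy)
  have hTT' : PrimeSpectrum.zeroLocus (I : Set A) ⊆ {p' : PrimeSpectrum A | ¬ p' ≤ p} := by
    intro q hq hqp
    exact hp (le_trans ((PrimeSpectrum.mem_zeroLocus q (I : Set A)).mp hq) hqp)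
  obtain ⟨J, hJ, hann⟩ := (Groth.Agent.S1711.result A hA _ _ hT hT' hTT' s M).mpr (by
    intro p' q hp' hq hle
    exact h p' q (not_not.mp hp') ((PrimeSpectrum.mem_zeroLocus q (I : Set A)).mp hq) hle)
  have hpJ : ¬ J ≤ p.asIdeal := by
    intro hle
    exact hJ ((PrimeSpectrum.mem_zeroLocus p (J : Set A)).mpr hle) le_rfl
  obtain ⟨f, hfJ, hfp⟩ := SetLike.not_le_iff_exists.mp hpJ
  refine ⟨f, hfp, fun i hi x => ?_⟩
  have h1 := hann i hi f hfJ ((Groth.Agent.LoccohA.HTV.equivH I i M).symm x)
  have h2 := congrArg (Groth.Agent.LoccohA.HTV.equivH I i M) h1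
  rwa [LinearEquiv.map_smul, LinearEquiv.map_zero, LinearEquiv.apply_symm_apply] at h2

end Groth.Agent.S1765
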