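import Groth.Statements.S1722
import Groth.Agent.LoccohA.DzDim

set_option autoImplicit false
universe u
open CategoryTheory
attribute [local instance] HasDerivedCategory.standard
open Dual

namespace Groth.Agent.S1722

/-- Stacks Tag 0A7Z together with the definition of δ just before it.  Let ω be a dualizing complex over a Noetherian ring A.  There is a function δ from Spec A to the integers such that, for every prime p, the localization at p of the A-module of maps A/p → ω[i] in D(A) is nonzero exactly when i = −δ(p) (so δ(p) is minus that degree); and δ is a dimension function: δ(p) = δ(q) + 1 whenever q covers p in Spec A. -/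
theorem result (A : Type u) [CommRing A] [IsNoetherianRing A] (ω : Dual.D A) (hω : Dual.IsDualizing A ω) : ∃ δ : PrimeSpectrum A → ℤ, (∀ (p : PrimeSpectrum A) (i : ℤ), Nontrivial (LocalizedModule p.asIdeal.primeCompl (Dual.inD A (A ⧸ p.asIdeal) ⟶ ω⟦i⟧)) ↔ i = -δ p) ∧ ∀ p q : PrimeSpectrum A, p ⋖ q → δ p = δ q + 1 := by
  obtain ⟨δ, h1, h2⟩ := Groth.Agent.LoccohA.DzDim.exists_delta hω
  refine ⟨δ, fun p i => ?_, h2⟩
  rw [← h1 p i, Groth.Agent.LoccohA.DzDim.not_vanAt_iff_nontrivial]

end Groth.Agent.S1722
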