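import Groth.Statements.S1716
import Groth.Agent.S1722
import Groth.Agent.LoccohA.DExtCM
import Groth.Agent.LoccohA.DExtFin

set_option autoImplicit false
universe u
open CategoryTheory
attribute [local instance] HasDerivedCategory.standard
open Dual

namespace Groth.Agent.S1716

/-- Stacks Tag 0EHS.  Let A be a Noetherian ring with a dualizing complex and M a finite A-module.  The set U of primes p at which M_p is zero or a Cohen–Macaulay module is open in Spec A, and U meets the support of M in a dense subset of the support.  (The zero module is counted as Cohen–Macaulay here, as the source does.) -/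
theorem result (A : Type u) [CommRing A] [IsNoetherianRing A] (hA : ∃ ω : Dual.D A, Dual.IsDualizing A ω) (M : Type u) [AddCommGroup M] [Module A M] [Module.Finite A M] : IsOpen {p : PrimeSpectrum A | Subsingleton (LocalizedModule p.asIdeal.primeCompl M) ∨ LocCoh.IsCohenMacaulayModule (Localization.AtPrime p.asIdeal) (LocalizedModule p.asIdeal.primeCompl M)} ∧ Module.support A M ⊆ closure ({p : PrimeSpectrum A | LocCoh.IsCohenMacaulayModule (Localization.AtPrime p.asIdeal) (LocalizedModule p.asIdeal.primeCompl M)} ∩ Module.support A M) := by
  obtain ⟨ω, hω⟩ := hA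
  obtain ⟨δ, hδ, hcov⟩ := Groth.Agent.S1722.result A ω hω
  obtain ⟨a, b, hab⟩ := hω.finite_injective_dimension
  exact LoccohA.DExtCM.cm_locus ω (fun i M _ _ _ => LoccohA.DExtFin.finite_E hω i M) hδ M hcov a b
    (fun i hi => hab M i hi)

end Groth.Agent.S1716
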