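import Groth.Statements.S0377
import Groth.Agent.S1772
import Groth.Agent.S1775
import Groth.Agent.S1776
import Groth.Agent.LoccohB.LBC
import Groth.Agent.LoccohB.RAdj
import Mathlib.RingTheory.EssentialFiniteness
import Mathlib.Algebra.MvPolynomial.Equiv

set_option autoImplicit false
universe u v
open CategoryTheory
attribute [local instance] HasDerivedCategory.standard
open Dual

namespace Groth.Agent.S0377

/-- Existence of a dualizing complex. -/
def HasDual (A : Type u) [CommRing A] : Prop := ∃ ω : Dual.D A, Dual.IsDualizing A ω

lemma HasDual.isNoetherianRing {A : Type u} [CommRing A] (h : HasDual A) : IsNoetherianRing A := by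
  obtain ⟨ω, hω⟩ := h
  exact hω.isNoetherianRing

lemma HasDual.of_finite {A B : Type u} [CommRing A] [CommRing B] [Algebra A B]
    [Module.Finite A B] (h : HasDual A) : HasDual B := by
  have := h.isNoetherianRing
  have : IsNoetherianRing B := isNoetherian_of_isNoetherianRing_of_finite A B |> fun h =>
    isNoetherian_of_tower A h
  obtain ⟨ω, hω⟩ := h
  exact ⟨_, Groth.Agent.S1772.result A B _
    (Groth.Agent.LoccohB.RAdj.coextAdj (algebraMap A B)) ω hω⟩

lemma HasDual.of_ringEquiv {A B : Type u} [CommRing A] [CommRing B] (e : A ≃+* B)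
    (h : HasDual A) : HasDual B := by
  algebraize [e.toRingHom]
  have : Module.Finite A B := Module.Finite.of_surjective (Algebra.linearMap A B) e.surjective
  exact h.of_finite

open scoped Polynomial in
lemma HasDual.polynomial {A : Type u} [CommRing A] (h : HasDual A) : HasDual A[X] := by
  have := h.isNoetherianRing
  obtain ⟨ω, hω⟩ := h
  have := Groth.Agent.LoccohB.LBC.hasLBaseChange (algebraMap A A[X])
  exact ⟨_, Groth.Agent.S1776.result A ω hω⟩

lemma HasDual.mvPolynomial {A : Type u} [CommRing A] (h : HasDual A) (n : ℕ) :
    HasDual (MvPolynomial (Fin n) A) := by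
  induction n with
  | zero => exact h.of_ringEquiv (MvPolynomial.isEmptyRingEquiv A (Fin 0)).symm
  | succ n ih =>
    exact ih.polynomial.of_ringEquiv (MvPolynomial.finSuccEquiv A n).symm.toRingEquiv

lemma HasDual.of_finiteType {A B : Type u} [CommRing A] [CommRing B] [Algebra A B]
    [Algebra.FiniteType A B] (h : HasDual A) : HasDual B := by
  obtain ⟨n, f, hf⟩ := (Algebra.FiniteType.iff_quotient_mvPolynomial'' (R := A) (S := B)).1
    inferInstance
  algebraize [f.toRingHom]
  have : Module.Finite (MvPolynomial (Fin n) A) B :=
    Module.Finite.of_surjective (Algebra.linearMap _ B) hf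
  exact (h.mvPolynomial n).of_finite

lemma HasDual.localization {A : Type u} [CommRing A] (S : Submonoid A) (h : HasDual A) :
    HasDual (Localization S) := by
  have := h.isNoetherianRing
  obtain ⟨ω, hω⟩ := h
  have := Groth.Agent.LoccohB.LBC.hasLBaseChange (algebraMap A (Localization S))
  exact ⟨_, Groth.Agent.S1775.result A S ω hω⟩

/-- Stacks Tag 0A7K: if a Noetherian ring A has a dualizing complex then so does every A-algebra essentially of finite type. -/
theorem result (A : Type u) [CommRing A] [IsNoetherianRing A] (ω : Dual.D A) (hω : Dual.IsDualizing A ω) (B : Type u) [CommRing B] [Algebra A B] [Algebra.EssFiniteType A B] : ∃ ω' : Dual.D B, Dual.IsDualizing B ω' := by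
  have h : HasDual A := ⟨ω, hω⟩
  have h1 : HasDual (Algebra.EssFiniteType.subalgebra A B) := h.of_finiteType
  have h2 := h1.localization (Algebra.EssFiniteType.submonoid A B)
  exact h2.of_ringEquiv
    (Localization.algEquiv (Algebra.EssFiniteType.submonoid A B) B).toRingEquiv

end Groth.Agent.S0377
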