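import Groth.Statements.S1721
import Groth.Agent.S0377
import Groth.Agent.S1722
import Mathlib.RingTheory.FiniteType
import Mathlib.RingTheory.Ideal.KrullsHeightTheorem

set_option autoImplicit false
universe u
open CategoryTheory
attribute [local instance] HasDerivedCategory.standard
open Dual

namespace Groth.Agent.S1721

theorem covSeries_length (α : Type u) [PartialOrder α] (δ : α → ℤ)
    (hδ : ∀ p q : α, p ⋖ q → δ p = δ q + 1) (s : LTSeries α)
    (hs : ∀ i : Fin s.length, s (Fin.castSucc i) ⋖ s (Fin.succ i)) :
    (s.length : ℤ) = δ s.head - δ s.last := by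
  have key : ∀ n : ℕ, ∀ hn : n < s.length + 1,
      (n : ℤ) = δ s.head - δ (s ⟨n, hn⟩) := by
    intro n
    induction n with
    | zero => intro hn; simp [RelSeries.head]
    | succ n ih =>
      intro hn
      have h1 := ih (by omega)
      have h2 := hδ _ _ (hs ⟨n, by omega⟩)
      have e1 : s (Fin.castSucc ⟨n, by omega⟩) = s ⟨n, by omega⟩ := rfl
      have e2 : s (Fin.succ ⟨n, by omega⟩) = s ⟨n + 1, hn⟩ := rfl
      rw [e1, e2] at h2
      push_cast
      omega
  have := key s.length (by omega)
  exact this

/-- A Noetherian ring whose spectrum has a dimension function is catenary. -/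
theorem isCatenary_of_dimFun (B : Type u) [CommRing B] [IsNoetherianRing B]
    (δ : PrimeSpectrum B → ℤ) (hδ : ∀ p q : PrimeSpectrum B, p ⋖ q → δ p = δ q + 1) :
    CAlg.IsCatenary B := by
  refine ⟨fun p q _ ↦ ?_, fun s t h1 h2 hs ht ↦ ?_⟩
  · have hq : q.asIdeal.height ≠ ⊤ := Ideal.height_ne_top_of_isPrime
    refine ⟨q.asIdeal.height.toNat, fun s _ hs ↦ ?_⟩
    have h1 : (s.length : ℕ∞) ≤ Order.height s.last := Order.length_le_height_last
    rw [hs] at h1
    have h2 : Order.height q = q.asIdeal.height := (PrimeSpectrum.height_eq_orderHeight q).symm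
    rw [h2] at h1
    rw [← ENat.natCast_toNat hq] at h1
    exact_mod_cast h1
  · have e1 := covSeries_length _ δ hδ s hs
    have e2 := covSeries_length _ δ hδ t ht
    rw [h1, h2] at e1
    omega


/-- Stacks Tag 0A80, first assertion: a Noetherian ring admitting a dualizing complex is universally catenary.  (Finiteness of the dimension is a separate, earlier result.) -/
theorem result (A : Type u) [CommRing A] [IsNoetherianRing A] (ω : Dual.D A) (hω : Dual.IsDualizing A ω) : CAlg.IsUniversallyCatenary A := by
  refine ⟨inferInstance, fun B _ _ hB ↦ ?_⟩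
  have hN : IsNoetherianRing B := Algebra.FiniteType.isNoetherianRing A B
  obtain ⟨ω', hω'⟩ := Groth.Agent.S0377.result A ω hω B
  obtain ⟨δ, -, hδ⟩ := Groth.Agent.S1722.result B ω' hω'
  exact isCatenary_of_dimFun B δ hδ

end Groth.Agent.S1721
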