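import Groth.Statements.S1751
import Groth.Agent.LoccohA.LCTFin
import Groth.Agent.LoccohA.LCTComp
import Groth.Agent.Localalg.DGor

set_option autoImplicit false
universe u
open LocCoh

namespace Groth.Agent.S1751

/-- Stacks Tag 0AW8, (1)⇔(2) for a general subset T ⊆ Spec A stable under specialization.  Let A be a Noetherian ring, M a finite A-module and n ≥ 0.  Then H^i_T(M) is a finite A-module for all i ≤ n if and only if there is an ideal J with V(J) ⊆ T annihilating H^i_T(M) for all i ≤ n. -/
theorem result (A : Type u) [CommRing A] [IsNoetherianRing A] (T : Set (PrimeSpectrum A)) (hT : StableUnderSpecialization T) (M : Type u) [AddCommGroup M] [Module A M] [Module.Finite A M] (n : ℕ) : (∀ i : ℕ, i ≤ n → Module.Finite A (Dual2.HT T i M)) ↔ ∃ J : Ideal A, PrimeSpectrum.zeroLocus (J : Set A) ⊆ T ∧ ∀ i : ℕ, i ≤ n → ∀ a ∈ J, ∀ x : Dual2.HT T i M, a • x = 0 := by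
  let _ := HasDerivedCategory.standard.{u} (ModuleCat.{u} A)
  have hGE : (Dual.inD A M).IsGE 0 := by dsimp [Dual.inD]; infer_instance
  have hfin : ∀ j : ℤ, Module.Finite A (Dual.HD A (Dual.inD A M) j) := fun j =>
    Groth.Agent.Localalg.DGor.homology_finite A M j
  constructor
  · intro h
    obtain ⟨J, hJ, hk⟩ := Groth.Agent.LoccohA.LCTFin.killed_of_finite T (Dual.inD A M) 0 hGE n
      (fun i hi => by
        rcases lt_or_ge i 0 with h0 | h0
        · have := Groth.Agent.LoccohA.LCTDev.HDT_of_lt T (K := Dual.inD A M) (a := 0) h0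
          infer_instance
        · obtain ⟨m, rfl⟩ := Int.eq_ofNat_of_zero_le h0
          have := h m (by omega)
          exact Module.Finite.equiv (Groth.Agent.LoccohA.LCTComp.HTequiv T m M))
    refine ⟨J, hJ, fun i hi a ha x => ?_⟩
    apply (Groth.Agent.LoccohA.LCTComp.HTequiv T i M).injective
    rw [map_smul, map_zero]
    exact hk i (by omega) a ha _
  · rintro ⟨J, hJ, hk⟩ i hi
    have key : ∀ j : ℤ, j ≤ (n : ℤ) → ∀ x ∈ J, ∀ y : Dual2.HDT A T (Dual.inD A M) j, x • y = 0 := by
      intro j hj x hx y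
      rcases lt_or_ge j 0 with h0 | h0
      · have := Groth.Agent.LoccohA.LCTDev.HDT_of_lt T (K := Dual.inD A M) (a := 0) h0
        exact Subsingleton.elim _ _
      · obtain ⟨m, rfl⟩ := Int.eq_ofNat_of_zero_le h0
        obtain ⟨z, rfl⟩ := (Groth.Agent.LoccohA.LCTComp.HTequiv T m M).surjective y
        rw [← map_smul, hk m (by omega) x hx z, map_zero]
    have := Groth.Agent.LoccohA.LCTFin.finite_of_killed T (Dual.inD A M) 0 hGE hfin n J hJ key i
      (by omega)
    exact Module.Finite.equiv (Groth.Agent.LoccohA.LCTComp.HTequiv T i M).symm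

end Groth.Agent.S1751
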