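import Groth.Statements.S1727
import Groth.Agent.S1711
import Groth.Agent.S1751

set_option autoImplicit false
universe u
open CategoryTheory
attribute [local instance] HasDerivedCategory.standard
open LocCoh

namespace Groth.Agent.S1727

/-- Stacks Tag 0EFD.  Let A be a Noetherian ring with a dualizing complex, T ⊆ Spec A stable under specialization, s ≥ 0 and M a finite A-module.  Then H^i_T(M) is a finite A-module for all i ≤ s if and only if for every prime p outside T and every q in T containing p, depth(M_p) plus the Krull dimension of the interval of primes [p, q] exceeds s. -/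
theorem result (A : Type u) [CommRing A] [IsNoetherianRing A] (hA : ∃ ω : Dual.D A, Dual.IsDualizing A ω) (T : Set (PrimeSpectrum A)) (hT : StableUnderSpecialization T) (s : ℕ) (M : Type u) [AddCommGroup M] [Module A M] [Module.Finite A M] : (∀ i : ℕ, i ≤ s → Module.Finite A (Dual2.HT T i M)) ↔ (∀ p q : PrimeSpectrum A, p ∉ T → q ∈ T → p ≤ q → (s : WithBot ℕ∞) < ((LocCoh.depth (Localization.AtPrime p.asIdeal) (LocalizedModule p.asIdeal.primeCompl M) : ℕ∞) : WithBot ℕ∞) + Order.krullDim (Set.Icc p q)) := by
  rw [← Groth.Agent.S1711.result A hA T T hT hT (le_refl T) s M]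
  exact Groth.Agent.S1751.result A T hT M s

end Groth.Agent.S1727
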