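import Groth.Statements.S0355
import Groth.Agent.Localalg.GrpSchComp2

set_option autoImplicit false
universe u v
open CategoryTheory MonoidalCategory CartesianMonoidalCategory MonObj GrpObj AlgebraicGeometry
open GrpSch

namespace Groth.Agent.S0355

/-- Stacks Tag 0B7R (2),(3),(4), topological part: in a group scheme over a field the connected component of the identity point is an irreducible, quasi-compact subset.  (The source also makes it a flat closed subgroup scheme and proves geometric irreducibility; not stated here.) -/
theorem result (K : Type u) [Field K] (G : Over (Spec (CommRingCat.of K))) [GrpObj G] : IsIrreducible (connectedComponent (η[G].left (IsLocalRing.closedPoint K))) ∧ IsCompact (connectedComponent (η[G].left (IsLocalRing.closedPoint K))) := by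
  have h := Groth.Agent.Localalg.GrpSchComp2.connectedComponent_one (G := G)
  rw [Groth.Agent.Localalg.GrpSchComp2.one] at h
  rw [h]
  exact ⟨Groth.Agent.Localalg.GrpSchComp2.isIrreducible_N G,
    Groth.Agent.Localalg.GrpSchComp2.isCompact_N G⟩

end Groth.Agent.S0355
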