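import Groth.Statements.S1574
import Groth.Agent.Cohder.PunctDim

set_option autoImplicit false
universe u
open CategoryTheory CategoryTheory.Limits AlgebraicGeometry
open Divisors

namespace Groth.Agent.S1574

open IsLocalRing

section ToScheme

variable (A : Type u) [CommRing A] [IsLocalRing A]

lemma mem_puncturedSpec (x : PrimeSpectrum A) :
    (show Spec (CommRingCat.of A) from x) ∈ FEt.puncturedSpec A ↔ x ≠ closedPoint A := Iff.rfl

lemma exists_mem_maximalIdeal {x : PrimeSpectrum A} (h : x ≠ closedPoint A) :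
    ∃ f ∈ maximalIdeal A, f ∉ x.asIdeal := by
  by_contra hc
  push Not at hc
  apply h
  apply PrimeSpectrum.ext
  exact le_antisymm (le_maximalIdeal x.2.ne_top) hc

/-- The algebra direction: dimension `≤ 1` implies affine. -/
lemma affine_of_dim_le_one [IsNoetherianRing A] (h : ringKrullDim A ≤ 1) :
    IsAffine (FEt.puncturedSpec A : Scheme.{u}) := by
  let S : Set (Ideal A) := minimalPrimes A \ {maximalIdeal A}
  have hS : S.Finite := (minimalPrimes.finite_of_isNoetherianRing A).subset Set.sdiff_subset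
  have havoid : ¬ ((maximalIdeal A : Set A) ⊆ ⋃ P ∈ S, (P : Set A)) := by
    intro hsub
    obtain ⟨P, hP, hle⟩ := (Ideal.subset_union_prime_finite hS (f := fun P => P) ⊥ ⊥
      (fun P hP _ _ => hP.1.1.1)).1 hsub
    exact hP.2 (le_antisymm (le_maximalIdeal hP.1.1.1.ne_top) hle)
  rw [Set.not_subset] at havoid
  obtain ⟨f, hfm, hfP⟩ := havoid
  simp only [Set.mem_iUnion, not_exists] at hfP
  have hU : FEt.puncturedSpec A = PrimeSpectrum.basicOpen f := by
    ext x
    change x ≠ closedPoint A ↔ f ∉ x.asIdeal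
    constructor
    · intro hx hfx
      have hxm : x.asIdeal ≠ maximalIdeal A := fun h' => hx (PrimeSpectrum.ext h')
      have hmin : x.asIdeal ∈ minimalPrimes A := by
        refine ⟨⟨x.2, bot_le⟩, fun q hq hqx => ?_⟩
        by_contra hlt
        have h1 : q < x.asIdeal := lt_of_le_not_ge hqx hlt
        have h2 : x.asIdeal < maximalIdeal A := lt_of_le_of_ne (le_maximalIdeal x.2.ne_top) hxm
        have hqp := hq.1
        have h3 := Ideal.height_add_one_le_of_lt_of_isPrime h1
        have h4 := Ideal.height_add_one_le_of_lt_of_isPrime h2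
        have h5 : ((maximalIdeal A).height : WithBot ℕ∞) ≤ ringKrullDim A :=
          Ideal.height_le_ringKrullDim_of_isPrime
        have h6 : ((maximalIdeal A).height : WithBot ℕ∞) ≤ ((1 : ℕ∞) : WithBot ℕ∞) := h5.trans h
        rw [WithBot.coe_le_coe] at h6
        have h7 : (1 + 1 : ℕ∞) ≤ 1 := by
          calc (1 + 1 : ℕ∞) ≤ (q.height + 1) + 1 := by gcongr; exact le_add_self
            _ ≤ x.asIdeal.height + 1 := by gcongr
            _ ≤ _ := h4
            _ ≤ 1 := h6
        exact absurd h7 (by norm_num)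
      exact hfP _ ⟨hmin, hxm⟩ hfx
    · rintro hx rfl
      exact hx hfm
  have := IsAffineOpen.Spec_basicOpen (R := CommRingCat.of A) f
  rw [← hU] at this
  exact this

end ToScheme

section FromScheme

/-- restriction is compatible with the structure map -/
lemma res_algebraMap {R : CommRingCat.{u}} {U V : (Spec R).Opens} (h : V ≤ U) (r : R) :
    ((Spec R).presheaf.map (homOfLE h).op).hom (algebraMap R Γ(Spec R, U) r) =
      algebraMap R Γ(Spec R, V) r := by
  have e : ((Scheme.ΓSpecIso R).inv ≫ (Spec R).presheaf.map (homOfLE le_top : U ⟶ ⊤).op) ≫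
      (Spec R).presheaf.map (homOfLE h).op =
      (Scheme.ΓSpecIso R).inv ≫ (Spec R).presheaf.map (homOfLE le_top : V ⟶ ⊤).op := by
    rw [Category.assoc, ← Functor.map_comp]
    rfl
  exact congrArg (fun f => f.hom r) e

lemma app_algebraMap {R S : CommRingCat.{u}} (φ : R ⟶ S) (U : (Spec R).Opens) (r : R) :
    ((Spec.map φ).app U).hom (algebraMap R Γ(Spec R, U) r) =
      algebraMap S Γ(Spec S, Spec.map φ ⁻¹ᵁ U) (φ.hom r) := by
  have e : ((Scheme.ΓSpecIso R).inv ≫ (Spec R).presheaf.map (homOfLE le_top : U ⟶ ⊤).op) ≫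
      (Spec.map φ).app U = φ ≫ (Scheme.ΓSpecIso S).inv ≫
        (Spec S).presheaf.map (homOfLE le_top : Spec.map φ ⁻¹ᵁ U ⟶ ⊤).op := by
    rw [Scheme.ΓSpecIso_inv_naturality_assoc, Category.assoc, Scheme.Hom.naturality]
    rfl
  exact congrArg (fun f => f.hom r) e

lemma basicOpen_algebraMap {R : CommRingCat.{u}} (U : (Spec R).Opens) (r : R) :
    (Spec R).basicOpen (algebraMap R Γ(Spec R, U) r) =
      U ⊓ (show (Spec R).Opens from PrimeSpectrum.basicOpen r) := by
  have h := basicOpen_eq_of_affine r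
  refine (Scheme.basicOpen_res (Spec R) ((Scheme.ΓSpecIso R).inv.hom r)
    (homOfLE le_top : U ⟶ ⊤).op).trans ?_
  congr 1

/-- If the punctured spectrum is affine, the maximal ideal generates the unit ideal in its ring
of functions. -/
lemma map_maximalIdeal_eq_top (R : CommRingCat.{u}) [IsLocalRing R] (U : (Spec R).Opens)
    (hU : IsAffineOpen U) (hU' : ∀ x : PrimeSpectrum R, x ∈ U → x ≠ closedPoint R) :
    (maximalIdeal R).map (algebraMap R Γ(Spec R, U)) = ⊤ := by
  rw [Ideal.map, ← hU.self_le_iSup_basicOpen_iff]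
  intro x hx
  obtain ⟨f, hfm, hfx⟩ := exists_mem_maximalIdeal R (x := x) (hU' x hx)
  rw [TopologicalSpace.Opens.mem_iSup]
  refine ⟨⟨_, Set.mem_image_of_mem _ hfm⟩, ?_⟩
  rw [basicOpen_algebraMap]
  exact ⟨hx, hfx⟩

lemma map_maximalIdeal_eq_top_of_surjective (R S : CommRingCat.{u}) [IsLocalRing R] [IsLocalRing S]
    (φ : R ⟶ S) (hφ : Function.Surjective φ.hom) (U : (Spec R).Opens)
    (hU : IsAffineOpen U) (hU' : ∀ x : PrimeSpectrum R, x ∈ U → x ≠ closedPoint R) :
    (maximalIdeal S).map (algebraMap S Γ(Spec S, Spec.map φ ⁻¹ᵁ U)) = ⊤ := by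
  have h := congrArg (Ideal.map ((Spec.map φ).app U).hom) (map_maximalIdeal_eq_top R U hU hU')
  rw [Ideal.map_top, Ideal.map_map] at h
  have hloc : IsLocalHom φ.hom := IsLocalHom.of_surjective _ hφ
  have he : ((Spec.map φ).app U).hom.comp (algebraMap R Γ(Spec R, U)) =
      (algebraMap S Γ(Spec S, Spec.map φ ⁻¹ᵁ U)).comp φ.hom := by
    ext r
    exact app_algebraMap φ U r
  rw [he, ← Ideal.map_map, eq_top_iff] at h
  rw [eq_top_iff]
  refine h.trans (Ideal.map_mono ?_)
  exact ((IsLocalRing.local_hom_TFAE φ.hom).out 0 2).1 hloc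

lemma exists_eq_of_map_eq_top (S : CommRingCat.{u}) [IsLocalRing S] [IsNoetherianRing S]
    [IsDomain S]
    (V : (Spec S).Opens) (hV' : ∀ x : PrimeSpectrum S, x ≠ closedPoint S → x ∈ V)
    (h : (maximalIdeal S).map (algebraMap S Γ(Spec S, V)) = ⊤)
    (x y : S) (hx : x ∈ maximalIdeal S) (hy : y ∈ maximalIdeal S) (hx0 : x ≠ 0) (hy0 : y ≠ 0)
    (hm : maximalIdeal S ≤ (Ideal.span {x, y}).radical) (n : ℕ) :
    ∃ (k : ℕ) (β γ : S), (x * y) ^ k = β * x ^ (k + n) + γ * y ^ (k + n) := by
  -- the ideal `(x^n, y^n)` extends to the unit ideal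
  have h1 : (Ideal.span {x ^ n, y ^ n}).map (algebraMap S Γ(Spec S, V)) = ⊤ := by
    have h2 : maximalIdeal S ≤ (Ideal.span {x ^ n, y ^ n}).radical := by
      refine hm.trans ?_
      rw [Ideal.radical_le_radical_iff, Ideal.span_le]
      rintro r (rfl | rfl)
      · exact ⟨n, Ideal.subset_span (by simp)⟩
      · exact ⟨n, Ideal.subset_span (by simp)⟩
    obtain ⟨e, he⟩ := Ideal.exists_pow_le_of_le_radical_of_fg h2 (IsNoetherian.noetherian _)
    rw [eq_top_iff]
    refine le_trans ?_ (Ideal.map_mono he)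
    rw [Ideal.map_pow, h, Ideal.top_pow]
  rw [Ideal.map_span, Set.image_pair, Ideal.eq_top_iff_one, Ideal.mem_span_pair] at h1
  obtain ⟨b, c, hbc⟩ := h1
  have hxV : (show (Spec S).Opens from PrimeSpectrum.basicOpen x) ≤ V := fun z hz => hV' z (by
    rintro rfl
    exact hz hx)
  have hyV : (show (Spec S).Opens from PrimeSpectrum.basicOpen y) ≤ V := fun z hz => hV' z (by
    rintro rfl
    exact hz hy)
  let b' : Γ(Spec S, PrimeSpectrum.basicOpen y) := ((Spec S).presheaf.map (homOfLE hyV).op).hom b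
  let c' : Γ(Spec S, PrimeSpectrum.basicOpen x) := ((Spec S).presheaf.map (homOfLE hxV).op).hom c
  obtain ⟨k₁, β, hβ⟩ := IsLocalization.Away.surj y b'
  obtain ⟨k₂, γ, hγ⟩ := IsLocalization.Away.surj x c'
  have hxyx : (show (Spec S).Opens from PrimeSpectrum.basicOpen (x * y)) ≤
      (show (Spec S).Opens from PrimeSpectrum.basicOpen x) :=
    PrimeSpectrum.basicOpen_mul_le_left x y
  have hxyy : (show (Spec S).Opens from PrimeSpectrum.basicOpen (x * y)) ≤
      (show (Spec S).Opens from PrimeSpectrum.basicOpen y) :=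
    PrimeSpectrum.basicOpen_mul_le_right x y
  let ρ : Γ(Spec S, V) →+* Γ(Spec S, PrimeSpectrum.basicOpen (x * y)) :=
    ((Spec S).presheaf.map (homOfLE (hxyx.trans hxV)).op).hom
  have hρ : ∀ r : S, ρ (algebraMap S Γ(Spec S, V) r) = algebraMap S _ r :=
    fun r => res_algebraMap _ r
  have hcomp : ∀ {W : (Spec S).Opens} (h₁ : W ≤ V)
      (h₂ : (show (Spec S).Opens from PrimeSpectrum.basicOpen (x * y)) ≤ W) (t : Γ(Spec S, V)),
      ((Spec S).presheaf.map (homOfLE h₂).op).hom (((Spec S).presheaf.map (homOfLE h₁).op).hom t) =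
        ρ t := by
    intro W h₁ h₂ t
    have e : (Spec S).presheaf.map (homOfLE h₁).op ≫ (Spec S).presheaf.map (homOfLE h₂).op =
        (Spec S).presheaf.map (homOfLE (hxyx.trans hxV)).op := by
      rw [← Functor.map_comp]
      rfl
    exact congrArg (fun f => f.hom t) e
  have hρb : ρ b * algebraMap S _ y ^ k₁ = algebraMap S _ β := by
    have h3 := congrArg ((Spec S).presheaf.map (homOfLE hxyy).op).hom hβ
    rw [map_mul, map_pow, res_algebraMap hxyy, res_algebraMap hxyy] at h3
    rw [← hcomp hyV hxyy b]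
    exact h3
  have hρc : ρ c * algebraMap S _ x ^ k₂ = algebraMap S _ γ := by
    have h3 := congrArg ((Spec S).presheaf.map (homOfLE hxyx).op).hom hγ
    rw [map_mul, map_pow, res_algebraMap hxyx, res_algebraMap hxyx] at h3
    rw [← hcomp hxV hxyx c]
    exact h3
  have hinj : Function.Injective (algebraMap S Γ(Spec S, PrimeSpectrum.basicOpen (x * y))) :=
    IsLocalization.injective _ (M := Submonoid.powers (x * y))
      (powers_le_nonZeroDivisors_of_noZeroDivisors (mul_ne_zero hx0 hy0))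
  refine ⟨k₁ + k₂, β * y ^ k₂, γ * x ^ k₁, hinj ?_⟩
  have h3 := congrArg ρ hbc
  rw [map_one, map_add, map_mul, map_mul, hρ, hρ] at h3
  simp only [map_pow, map_mul, map_add]
  rw [← hρb, ← hρc]
  simp only [map_pow] at h3
  linear_combination (-(algebraMap S Γ(Spec S, PrimeSpectrum.basicOpen (x * y)) x *
    algebraMap S Γ(Spec S, PrimeSpectrum.basicOpen (x * y)) y) ^ (k₁ + k₂)) * h3

end FromScheme

/-- Stacks Tag 0BCR: for a Noetherian local ring A, the punctured spectrum (Spec A minus the closed point, as an open subscheme) is affine if and only if dim A ≤ 1. -/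
theorem result (A : Type u) [CommRing A] [IsLocalRing A] [IsNoetherianRing A] :
    IsAffine (FEt.puncturedSpec A : Scheme.{u}) ↔ ringKrullDim A ≤ 1 := by
  refine ⟨fun hU => ?_, affine_of_dim_le_one A⟩
  by_contra hdim
  have hdim2 : 2 ≤ ringKrullDim A := by
    rw [not_le] at hdim
    rw [← IsLocalRing.maximalIdeal_height_eq_ringKrullDim] at hdim ⊢
    have h1 : (1 : ℕ∞) < (maximalIdeal A).height := by
      rwa [← WithBot.coe_lt_coe]
    have h2 : ((2 : ℕ∞) : WithBot ℕ∞) ≤ ((maximalIdeal A).height : WithBot ℕ∞) := by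
      rw [WithBot.coe_le_coe, ← one_add_one_eq_two]
      exact Order.add_one_le_of_lt h1
    exact h2
  obtain ⟨p, hp, hxy⟩ := Cohder.PunctDim.exists_quotient_params hdim2
  have hloc : IsLocalRing (A ⧸ p) :=
    IsLocalRing.of_surjective' (Ideal.Quotient.mk p) Ideal.Quotient.mk_surjective
  obtain ⟨x, y, hx, hy0, hm, hpow⟩ := hxy
  have hx0 : x ≠ 0 := by
    rintro rfl
    exact hpow 1 (by simp)
  obtain ⟨n, hn⟩ := Cohder.PunctAlg.exists_forall_ne hx hy0 hm hpow
  have hy : y ∈ maximalIdeal (A ⧸ p) := by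
    by_contra hy
    rw [IsLocalRing.mem_maximalIdeal, mem_nonunits_iff, not_not] at hy
    exact hpow 0 (by rw [Ideal.span_singleton_eq_top.2 hy]; trivial)
  let φ : CommRingCat.of A ⟶ CommRingCat.of (A ⧸ p) := CommRingCat.ofHom (Ideal.Quotient.mk p)
  have : IsLocalRing (CommRingCat.of A) := ‹IsLocalRing A›
  have : IsLocalRing (CommRingCat.of (A ⧸ p)) := hloc
  have : IsNoetherianRing (CommRingCat.of (A ⧸ p)) :=
    inferInstanceAs (IsNoetherianRing (A ⧸ p))
  have : IsDomain (CommRingCat.of (A ⧸ p)) := inferInstanceAs (IsDomain (A ⧸ p))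
  have htop := map_maximalIdeal_eq_top_of_surjective (CommRingCat.of A) (CommRingCat.of (A ⧸ p)) φ
    Ideal.Quotient.mk_surjective (FEt.puncturedSpec A) hU (fun x hx => hx)
  obtain ⟨k, β, γ, hk⟩ := exists_eq_of_map_eq_top (CommRingCat.of (A ⧸ p))
    (Spec.map φ ⁻¹ᵁ FEt.puncturedSpec A) (fun z hz hz' => hz (by
      have h1 : z.asIdeal.comap (Ideal.Quotient.mk p) = maximalIdeal A :=
        congrArg PrimeSpectrum.asIdeal hz'
      have h2 : (maximalIdeal (A ⧸ p)).comap (Ideal.Quotient.mk p) = maximalIdeal A :=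
        ((IsLocalRing.local_hom_TFAE (Ideal.Quotient.mk p)).out 0 4).1
          (IsLocalHom.of_surjective _ Ideal.Quotient.mk_surjective)
      apply PrimeSpectrum.ext
      apply Ideal.comap_injective_of_surjective (Ideal.Quotient.mk p) Ideal.Quotient.mk_surjective
      exact h1.trans h2.symm)) htop x y hx hy hx0 hy0 hm n
  exact hn k β γ hk

end Groth.Agent.S1574
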