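import Groth.Statements.S1573
-- import your own Groth.Agent.* helpers here
import Groth.Agent.S1574

set_option autoImplicit false
universe u
open CategoryTheory CategoryTheory.Limits AlgebraicGeometry
open Divisors

namespace Groth.Agent.S1573

lemma preimage_eq_puncturedSpec (X : Scheme.{u}) (U : X.Opens) (ξ : X) (hξ : ξ ∉ U)
    (hgen : ∀ y : X, y ∉ U → y ⤳ ξ → y = ξ) :
    X.fromSpecStalk ξ ⁻¹ᵁ U = FEt.puncturedSpec (X.presheaf.stalk ξ) := by
  ext z
  change X.fromSpecStalk ξ z ∈ U ↔ z ≠ IsLocalRing.closedPoint _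
  constructor
  · rintro h rfl
    rw [Scheme.fromSpecStalk_closedPoint] at h
    exact hξ h
  · intro hz
    by_contra hU
    apply hz
    have h1 : X.fromSpecStalk ξ z ⤳ ξ := by
      have : X.fromSpecStalk ξ z ∈ Set.range (X.fromSpecStalk ξ) := ⟨z, rfl⟩
      rwa [Scheme.range_fromSpecStalk] at this
    have h2 := hgen _ hU h1
    apply (X.fromSpecStalk ξ).isEmbedding.injective
    rw [h2, Scheme.fromSpecStalk_closedPoint]

lemma isAffine_puncturedSpec (X : Scheme.{u}) (U : X.Opens) [IsAffineHom U.ι] (ξ : X) (hξ : ξ ∉ U)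
    (hgen : ∀ y : X, y ∉ U → y ⤳ ξ → y = ξ) :
    IsAffine (FEt.puncturedSpec (X.presheaf.stalk ξ) : Scheme.{u}) := by
  rw [← preimage_eq_puncturedSpec X U ξ hξ hgen]
  have h : IsPullback (X.fromSpecStalk ξ ∣_ U) (X.fromSpecStalk ξ ⁻¹ᵁ U).ι U.ι (X.fromSpecStalk ξ) :=
    isPullback_morphismRestrict _ _
  have : IsAffineHom (X.fromSpecStalk ξ ⁻¹ᵁ U).ι :=
    MorphismProperty.of_isPullback (P := @IsAffineHom) h inferInstance
  exact isAffine_of_isAffineHom (X.fromSpecStalk ξ ⁻¹ᵁ U).ι

/-- in a locally Noetherian scheme a dense open contains all maximal points -/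
lemma mem_of_dense (X : Scheme.{u}) [IsLocallyNoetherian X] (U : X.Opens) (hd : Dense (U : Set X)) (ξ : X)
    (h : ∀ y : X, y ⤳ ξ → y = ξ) : ξ ∈ U := by
  obtain ⟨V, hV, hξV, -⟩ := exists_isAffineOpen_mem_and_subset (U := ⊤) (x := ξ) trivial
  have : IsNoetherianRing Γ(X, V) := IsLocallyNoetherian.component_noetherian ⟨V, hV⟩
  have : TopologicalSpace.NoetherianSpace V := noetherianSpace_of_isAffineOpen V hV
  have hirr : closure {(⟨ξ, hξV⟩ : V)} ∈ irreducibleComponents V := by
    refine ⟨isIrreducible_singleton.closure, fun Z hZ hle ↦ ?_⟩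
    have : QuasiSober V := inferInstanceAs (QuasiSober V.toScheme)
    obtain ⟨y, hy⟩ := QuasiSober.sober hZ.closure isClosed_closure
    have h1 : y ⤳ ⟨ξ, hξV⟩ := by
      rw [specializes_iff_mem_closure, hy.def]
      exact subset_closure (hle (subset_closure rfl))
    have h2 : y.1 ⤳ ξ := h1.map continuous_subtype_val
    have h3 : y = ⟨ξ, hξV⟩ := Subtype.ext (h _ h2)
    rw [← h3]
    exact subset_closure.trans (le_of_eq (Eq.symm hy))
  obtain ⟨o, ho, hne, hoZ⟩ :=
    TopologicalSpace.NoetherianSpace.exists_isOpen_nonempty_subset_irreducibleComponent _ hirr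
  have ho' : IsOpen (Subtype.val '' o : Set X) := V.2.isOpenMap_subtype_val o ho
  obtain ⟨_, ⟨y, hyo, rfl⟩, hyU⟩ := hd.inter_open_nonempty _ ho' (hne.image _)
  have h1 : (⟨ξ, hξV⟩ : V) ⤳ y := specializes_iff_mem_closure.mpr (hoZ hyo)
  have h2 : ξ ⤳ y.1 := h1.map continuous_subtype_val
  exact h2.mem_open U.2 hyU

/-- Stacks Tag 0BCU: let X be locally Noetherian and U an open subscheme whose inclusion is an affine morphism. At every point ξ outside U which is maximal under generisation among points outside U, the local ring of X has dimension at most one; if U is dense the dimension equals one. -/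
theorem result (X : Scheme.{u}) [IsLocallyNoetherian X]
    (U : X.Opens) [IsAffineHom U.ι] (ξ : X) (hξ : ξ ∉ U) (hgen : ∀ y : X, y ∉ U → y ⤳ ξ → y = ξ) :
    ringKrullDim (X.presheaf.stalk ξ) ≤ 1 ∧ (Dense (U : Set X) → ringKrullDim (X.presheaf.stalk ξ) = 1) := by
  have h1 : ringKrullDim (X.presheaf.stalk ξ) ≤ 1 :=
    (Groth.Agent.S1574.result (X.presheaf.stalk ξ)).mp (isAffine_puncturedSpec X U ξ hξ hgen)
  refine ⟨h1, fun hd ↦ le_antisymm h1 ?_⟩
  by_contra hlt
  have h0 : ringKrullDim (X.presheaf.stalk ξ) < 1 := lt_of_not_ge hlt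
  have : Ring.KrullDimLE 0 (X.presheaf.stalk ξ) := by
    rw [Ring.krullDimLE_iff]
    exact (ENat.WithBot.lt_add_one_iff (n := ringKrullDim (X.presheaf.stalk ξ)) (m := 0)).mp (by simpa using h0)
  refine hξ (mem_of_dense X U hd ξ fun y hy ↦ ?_)
  have h2 : y ∈ Set.range (X.fromSpecStalk ξ) := by
    rw [Scheme.range_fromSpecStalk]; exact hy
  obtain ⟨z, rfl⟩ := h2
  have h3 : z = IsLocalRing.closedPoint _ := by
    apply PrimeSpectrum.ext
    exact IsLocalRing.eq_maximalIdeal z.2.isMaximal'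
  rw [h3, Scheme.fromSpecStalk_closedPoint]

end Groth.Agent.S1573
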