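import Groth.Statements.S1687
import Groth.Agent.Divis.RadStalk
import Groth.Agent.Divis.CartierStalk
import Groth.Agent.Divis.UfdIdeal
import Groth.Agent.S1573
import Mathlib.AlgebraicGeometry.Morphisms.Affine

set_option autoImplicit false
universe u
open CategoryTheory CategoryTheory.Limits AlgebraicGeometry TopologicalSpace
open SDiv

namespace Groth.Agent.S1687

open Groth.Agent.Divis.CartierBasic Groth.Agent.Divis.CartierStalk Groth.Agent.CycB.LocQuot
  Groth.Agent.Divis.StalkPrime Groth.Agent.Divis.RadStalk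

theorem isAffineHom_of_inter (X : Scheme.{u})
    (hΔ : ∀ V W : X.Opens, IsAffineOpen V → IsAffineOpen W → IsAffineOpen (V ⊓ W)) (U : X.Opens)
    (hU : IsAffineOpen U) : IsAffineHom U.ι := by
  refine ⟨fun V hV => ?_⟩
  have h1 := hΔ U V hU hV
  rw [← U.ι.isAffineOpen_iff_of_isOpenImmersion]
  rw [Scheme.Hom.image_preimage_eq_opensRange_inf, Scheme.Opens.opensRange_ι]
  exact h1


/-- Stacks Tag 0EGJ: let X be a Noetherian scheme with affine diagonal (the intersection of any two affine opens is affine), U a dense affine open subset, and suppose the local ring of X at every point outside U is a unique factorisation domain. Then there is an effective Cartier divisor whose support is exactly X minus U. -/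
theorem result (X : Scheme.{u}) [IsNoetherian X]
    (hΔ : ∀ V W : X.Opens, IsAffineOpen V → IsAffineOpen W → IsAffineOpen (V ⊓ W)) (U : X.Opens) (hU : IsAffineOpen U)
    (hdense : Dense (U : Set ↥X))
    (hufd : ∀ x : ↥X, x ∉ U → IsDomain (X.presheaf.stalk x) ∧ UniqueFactorizationMonoid (X.presheaf.stalk x)) :
    ∃ 𝓘 : X.IdealSheafData, BlowUp.IsEffCartierIdeal 𝓘 ∧ (𝓘.support : Set ↥X) = (U : Set ↥X)ᶜ := by
  have hA : IsAffineHom U.ι := isAffineHom_of_inter X hΔ U hU
  let Z : Closeds X := ⟨(U : Set X)ᶜ, U.2.isClosed_compl⟩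
  have hsupp : (Scheme.IdealSheafData.vanishingIdeal Z).support = Z := by
    apply Closeds.ext
    exact Scheme.IdealSheafData.coe_support_vanishingIdeal Z
  have hrad : (Scheme.IdealSheafData.vanishingIdeal Z).radical = Scheme.IdealSheafData.vanishingIdeal Z := by
    rw [← Scheme.IdealSheafData.vanishingIdeal_support, hsupp]
  refine ⟨Scheme.IdealSheafData.vanishingIdeal Z, ?_, by rw [hsupp]; rfl⟩
  apply isEffCartierIdeal_of_stalkIdeal
  intro x hx
  have hxU : x ∉ U := by rw [hsupp] at hx; exact hx
  obtain ⟨hdom, hUF⟩ := hufd x hxU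
  have hmax : ∀ (q : PrimeSpectrum (X.presheaf.stalk x)),
      q.asIdeal ∈ (stalkIdeal (Scheme.IdealSheafData.vanishingIdeal Z) x).minimalPrimes →
      q.asIdeal.height = 1 := by
    intro q hq
    have h1 : ptOf q ∉ U := by
      have h2 : ptOf q ∈ (Scheme.IdealSheafData.vanishingIdeal Z).support := by
        rw [ptOf, fromSpecStalk_mem_support_iff]; exact hq.1.2
      rw [hsupp] at h2; exact h2
    have h3 := (Groth.Agent.S1573.result X U (ptOf q) h1 (by
      intro y hy hyq
      have h4 : y ⤳ x := hyq.trans (ptOf_specializes _)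
      have h5 : ptOf (primeOf h4) ∈ (Scheme.IdealSheafData.vanishingIdeal Z).support := by
        rw [ptOf_primeOf, hsupp]; exact hy
      rw [ptOf, fromSpecStalk_mem_support_iff] at h5
      have h6 : ptOf (primeOf h4) ⤳ ptOf q := by rw [ptOf_primeOf]; exact hyq
      rw [ptOf_specializes_iff] at h6
      have h7 : primeOf h4 = q := le_antisymm h6 (hq.2 ⟨(primeOf h4).isPrime, h5⟩ h6)
      rw [← ptOf_primeOf h4, h7])).2 hdense
    rw [height_eq] at h3
    exact_mod_cast h3
  have hne : stalkIdeal (Scheme.IdealSheafData.vanishingIdeal Z) x ≠ ⊥ := by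
    intro hbot
    have h1 := hmax ⟨⊥, Ideal.isPrime_bot⟩ (by
      have : (⊥ : Ideal (X.presheaf.stalk x)).IsPrime := Ideal.isPrime_bot
      rw [hbot, Ideal.minimalPrimes_eq_subsingleton_self]; rfl)
    rw [Ideal.height_bot] at h1
    exact zero_ne_one h1
  have hprinc : (stalkIdeal (Scheme.IdealSheafData.vanishingIdeal Z) x).IsPrincipal := by
    refine Groth.Agent.Divis.UfdIdeal.isPrincipal_of_assoc_principal _ hne ?_
    intro p hp a ha
    apply UniqueFactorizationMonoid.isPrincipal_of_height_eq_one
    exact hmax ⟨p, hp⟩ (mem_minimalPrimes_of_colon _ (stalkIdeal_isRadical _ hrad x) p a ha)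
  obtain ⟨g, hg⟩ := hprinc
  refine ⟨g, mem_nonZeroDivisors_of_ne_zero ?_, hg⟩
  rintro rfl
  exact hne (by rw [hg]; simp)

end Groth.Agent.S1687
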