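import Groth.Statements.S1890
-- import your own Groth.Agent.* helpers here

set_option autoImplicit false
universe u
open CategoryTheory CategoryTheory.Limits AlgebraicGeometry
open Grpd

namespace Groth.Agent.S1890

/-- Stacks Tag 0ABH: let j : V → Spec A be a quasi-compact immersion of schemes and f ∈ A such that j⁻¹(D(f)) is affine and j(V) ∩ V(f) is closed in Spec A. Then V is affine. -/
theorem result (A : Type u) [CommRing A] (V : Scheme.{u}) (j : V ⟶ Spec (CommRingCat.of A)) [IsImmersion j] [QuasiCompact j] (f : A) (haff : IsAffineOpen (j ⁻¹ᵁ PrimeSpectrum.basicOpen f)) (hcl : IsClosed (Set.range ⇑j ∩ PrimeSpectrum.zeroLocus {f})) : IsAffine V := by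
  have key : IsAffineHom j := by
    apply isAffineHom_of_forall_exists_isAffineOpen
    intro x
    by_cases hx : x ∈ j.coborderRange
    · -- inside the open where `j` is a closed immersion
      obtain ⟨_, ⟨U, hU, rfl⟩, hxU, hU'⟩ :=
        (Spec (CommRingCat.of A)).isBasis_affineOpens.exists_subset_of_mem_open hx
          j.coborderRange.isOpen
      refine ⟨U, hxU, hU, ?_⟩
      have h1 : j ⁻¹ᵁ U = j.liftCoborder ⁻¹ᵁ (j.coborderRange.ι ⁻¹ᵁ U) := by
        rw [← Scheme.Hom.comp_preimage, Scheme.Hom.liftCoborder_ι]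
      rw [h1]
      apply IsAffineOpen.preimage
      have h2 : IsAffineOpen (j.coborderRange.ι ⁻¹ᵁ U) := by
        apply IsAffineOpen.preimage_of_isOpenImmersion hU
        simpa using hU'
      exact h2
    · -- outside of it
      have hx' : x ∉ Set.range ⇑j ∩ PrimeSpectrum.zeroLocus {f} := by
        rintro ⟨h1, -⟩
        exact hx (subset_coborder h1)
      obtain ⟨_, ⟨g, rfl⟩, hxg, hg⟩ :=
        PrimeSpectrum.isTopologicalBasis_basic_opens.exists_subset_of_mem_open
          (show x ∈ (Set.range ⇑j ∩ PrimeSpectrum.zeroLocus {f})ᶜ from hx') hcl.isOpen_compl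
      refine ⟨PrimeSpectrum.basicOpen g, hxg, ?_, ?_⟩
      · exact IsAffineOpen.Spec_basicOpen g
      · have h3 : j ⁻¹ᵁ PrimeSpectrum.basicOpen g ≤ j ⁻¹ᵁ PrimeSpectrum.basicOpen f := by
          intro v hv
          by_contra hvf
          apply hg (show j v ∈ _ from hv)
          refine ⟨⟨v, rfl⟩, ?_⟩
          refine (PrimeSpectrum.mem_zeroLocus (R := A) _ _).mpr (Set.singleton_subset_iff.mpr ?_)
          by_contra hvf'
          exact hvf hvf'
        have h3' : j ⁻¹ᵁ PrimeSpectrum.basicOpen f ≤ j ⁻¹ᵁ ⊤ := fun _ _ => trivial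
        have h4 := basicOpen_eq_of_affine (R := CommRingCat.of A) g
        have h5 := Scheme.basicOpen_appLE j _ _ h3' ((Scheme.ΓSpecIso (CommRingCat.of A)).inv g)
        rw [h4, inf_eq_right.mpr h3] at h5
        rw [← h5]
        exact haff.basicOpen _
  exact isAffine_of_isAffineHom j

end Groth.Agent.S1890
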