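import Groth.Statements.S2327
import Groth.Agent.Ega2.AmpleWeight
-- import your own Groth.Agent.* helpers here

set_option autoImplicit false
universe u
open CategoryTheory CategoryTheory.Limits AlgebraicGeometry
open EGA2

namespace Groth.Agent.S2327

open Groth.Agent.Ega2.Weight

/-- EGA II, 4.5.6 (i): let X be a quasi-compact separated scheme, L an invertible module and n > 0. Then L is ample if and only if L^{⊗n} is ample. -/
theorem result (X : Scheme.{u}) [CompactSpace X] [X.IsSeparated] (L : X.Modules) (hL : PicF.IsInvertible L) (n : ℕ) (hn : 0 < n) :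
    CohB1.IsAmple L ↔ CohB1.IsAmple (CohB1.tensorPow L n) := by
  have hLn : PicF.IsInvertible (CohB1.tensorPow L n) :=
    Groth.Agent.Fdesc.LocGen.isInvertible_tensorPow hL n
  constructor
  · rintro ⟨-, -, h⟩
    refine isAmple_of_wt hLn fun x => ?_
    obtain ⟨m, s, hx, hs⟩ := h x
    -- `s ^ n` is a section of `(L ^ (m+1)) ^ n`, of the same weight as `(L ^ n) ^ (m+1)`
    have hLm := Groth.Agent.Fdesc.LocGen.isInvertible_tensorPow hL (m + 1)
    have h1 : Wt L L ((m + 1) * n) 0 (CohB1.tensorPow (CohB1.tensorPow L (m + 1)) n) := by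
      simpa using (Wt.tensorPow_fst (L := L) (L' := L) (m + 1)).pow n
    have h2 : Wt L L ((m + 1) * n) 0 (CohB1.tensorPow (CohB1.tensorPow L n) (m + 1)) := by
      have := (Wt.tensorPow_fst (L := L) (L' := L) n).pow (m + 1)
      rw [zero_mul, mul_comm] at this
      exact this
    obtain ⟨t, ht⟩ := exists_section_of_wt hL hL h1 h2 (powHom s n)
    rw [genLocus_powHom hLm s hn] at ht
    exact ⟨m + 1, Nat.succ_pos m, _, Wt.tensorPow_fst _, t, ht ▸ hx, ht ▸ hs⟩
  · rintro ⟨-, -, h⟩
    refine isAmple_of_wt hL fun x => ?_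
    obtain ⟨m, s, hx, hs⟩ := h x
    refine ⟨n * (m + 1), Nat.mul_pos hn (Nat.succ_pos m), _, ?_, s, hx, hs⟩
    simpa using (Wt.tensorPow_fst (L := L) (L' := L) n).pow (m + 1)

end Groth.Agent.S2327
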