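import Groth.Statements.S0248
import Groth.Agent.Pi1A.PurityReg
import Mathlib.RingTheory.Etale.Locus
import Mathlib.RingTheory.IntegralClosure.IntegrallyClosed

set_option autoImplicit false
universe u
open Pi1

namespace Groth.Agent.S0248

open Groth.Agent.Pi1A.Purity in
theorem locMap_bijective {A B C : Type*} [CommRing A] [CommRing B] [CommRing C] [Algebra A B]
    [Algebra A C] (φ : B →ₐ[A] C) (a : A) (h1 : ∀ b, φ b = 0 → ∃ n : ℕ, a ^ n • b = 0)
    (h2 : ∀ c, ∃ (n : ℕ) (b : B), φ b = a ^ n • c) : Function.Bijective (locMap a φ) := by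
  constructor
  · rw [injective_iff_map_eq_zero]
    intro z hz
    obtain ⟨n, b, hb⟩ := exists_smul_eq a z
    have h3 : algebraMap C (Loc a C) (φ b) = algebraMap C (Loc a C) 0 := by
      rw [← locMap_algebraMap, ← hb, map_smul, hz, smul_zero, map_zero]
    obtain ⟨k, hk⟩ := exists_smul_eq_of_eq a h3
    rw [smul_zero, ← map_smul] at hk
    obtain ⟨l, hl⟩ := h1 _ hk
    apply smul_cancel a (l + k + n)
    rw [smul_zero, pow_add, mul_smul, hb, ← algebraMap_loc_smul', pow_add, mul_smul, hl, map_zero]
  · intro z
    obtain ⟨n, s, hs⟩ := exists_smul_eq a z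
    obtain ⟨k, b, hb⟩ := h2 s
    obtain ⟨w, hw⟩ := ((isUnit_loc a B).pow (k + n)).exists_right_inv
    refine ⟨w * algebraMap B _ b, ?_⟩
    apply smul_cancel a (k + n)
    rw [← map_smul, Algebra.smul_def, map_pow, ← mul_assoc, hw, one_mul, locMap_algebraMap, hb,
      algebraMap_loc_smul', ← hs, smul_smul, pow_add]

open Groth.Agent.Pi1A.Purity in
/-- Purity implies that a finite normal domain over `A`, étale over the punctured spectrum, is
étale. -/
theorem etale_of_algPurity (A B : Type u) [CommRing A] [IsDomain A] [IsLocalRing A]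
    [IsNoetherianRing A] (hP : AlgPurity A) (hne : IsLocalRing.maximalIdeal A ≠ ⊥)
    [CommRing B] [IsDomain B] [IsIntegrallyClosed B]
    [Algebra A B] [Module.Finite A B] (hinj : Function.Injective (algebraMap A B))
    (h : ∀ (q : Ideal B) (_ : q.IsPrime), q.comap (algebraMap A B) ≠ IsLocalRing.maximalIdeal A →
      Algebra.IsEtaleAt A q) : Algebra.Etale A B := by
  have hfp : Algebra.FinitePresentation A B :=
    Algebra.FinitePresentation.of_finiteType.mp inferInstance
  have hB : ∀ a ∈ IsLocalRing.maximalIdeal A, Algebra.Etale A (Loc a B) := by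
    intro a ha
    rw [← Algebra.basicOpen_subset_etaleLocus_iff_etale]
    intro q hq
    refine h q.asIdeal q.2 fun hcon => ?_
    rw [← hcon, Ideal.mem_comap] at ha
    exact hq ha
  obtain ⟨C, _, _, φ, hCfin, hCet, hφi, hφs⟩ := hP B hB
  obtain ⟨a, ha, ha0⟩ := Submodule.exists_mem_ne_zero_of_ne_bot hne
  have ha0B : algebraMap A B a ≠ 0 := by
    rwa [Ne, map_eq_zero_iff _ hinj]
  have hφinj : Function.Injective φ := by
    rw [injective_iff_map_eq_zero]
    intro b hb
    obtain ⟨n, hn⟩ := hφi a ha b hb
    rw [Algebra.smul_def, map_pow, mul_eq_zero] at hn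
    exact hn.resolve_left (pow_ne_zero n ha0B)
  have hCreg : ∀ c : C, a • c = 0 → c = 0 := by
    have : Module.Flat A C := inferInstance
    have hxr : IsSMulRegular A a := fun b c hbc => mul_left_cancel₀ ha0 hbc
    have h1 := hxr.lTensor C
    have h2 := ((TensorProduct.rid A C).isSMulRegular_congr a).mp h1
    intro c hc
    exact h2 (by simpa using hc)
  let e : Loc a B ≃ₐ[A] Loc a C :=
    AlgEquiv.ofBijective (locMap a φ) (locMap_bijective φ a (hφi a ha) (hφs a ha))
  let K := FractionRing B
  have haK : IsUnit (algebraMap A K a) := by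
    rw [IsScalarTower.algebraMap_apply A B K, isUnit_iff_ne_zero, Ne,
      FaithfulSMul.algebraMap_eq_zero_iff]
    exact ha0B
  let j : Loc a B →ₐ[A] K := locLift a (IsScalarTower.toAlgHom A B K) haK
  have hj : Function.Injective j := by
    rw [injective_iff_map_eq_zero]
    intro z hz
    obtain ⟨n, b, hb⟩ := exists_smul_eq a z
    have h1 : algebraMap B K b = 0 := by
      have : j (algebraMap B (Loc a B) b) = algebraMap B K b := locLift_algebraMap _ _ _ _
      rw [← this, ← hb, map_smul, hz, smul_zero]
    rw [FaithfulSMul.algebraMap_eq_zero_iff] at h1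
    apply smul_cancel a n
    rw [hb, h1, map_zero, smul_zero]
  have hφsurj : Function.Surjective φ := by
    intro c
    let z : Loc a B := e.symm (algebraMap C (Loc a C) c)
    have hint : IsIntegral A (j z) := by
      have h1 : IsIntegral A c := Algebra.IsIntegral.isIntegral c
      let f : C →ₐ[A] K := (j.comp e.symm.toAlgHom).comp (IsScalarTower.toAlgHom A C (Loc a C))
      exact h1.map f
    have hint' : IsIntegral B (j z) := hint.tower_top
    obtain ⟨b, hb⟩ := IsIntegrallyClosed.algebraMap_eq_of_integral hint'
    have h1 : algebraMap B (Loc a B) b = z := by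
      apply hj
      rw [← hb]
      exact locLift_algebraMap _ _ _ _
    refine ⟨b, ?_⟩
    apply algebraMap_loc_injective hCreg
    rw [← locMap_algebraMap, h1]
    exact e.apply_symm_apply _
  exact Algebra.Etale.of_equiv (AlgEquiv.ofBijective φ ⟨hφinj, hφsurj⟩).symm

open AlgebraicGeometry CategoryTheory CategoryTheory.Limits in
/-- Stacks Tag 0BMA (2), for B a domain and A to B injective (the case produced by Tag 0BM9). Let A be a regular local ring of dimension at least 2 and B a finite A-algebra which is an integrally closed domain containing A. If B is etale over A at every prime of B not lying over the maximal ideal, then B is etale over A. -/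
theorem result (A B : Type u) [CommRing A] [IsRegularLocalRing A]
    (hA : (2 : WithBot ℕ∞) ≤ ringKrullDim A) [CommRing B] [IsDomain B] [IsIntegrallyClosed B]
    [Algebra A B] [Module.Finite A B] (hinj : Function.Injective (algebraMap A B))
    (h : ∀ (q : Ideal B) (_ : q.IsPrime), q.comap (algebraMap A B) ≠ IsLocalRing.maximalIdeal A →
      Algebra.IsEtaleAt A q) : Algebra.Etale A B := by
  have hdA : IsDomain A := CalgA.RegBasic.isDomain A
  have hne : IsLocalRing.maximalIdeal A ≠ ⊥ := by
    intro hbot
    have h1 := IsRegularLocalRing.spanFinrank_maximalIdeal (R := A)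
    rw [hbot, Submodule.spanFinrank_bot] at h1
    rw [← h1] at hA
    have : 2 ≤ 0 := by exact_mod_cast hA
    omega
  exact etale_of_algPurity A B (Pi1A.Purity.algPurity_regular A hA) hne hinj h

end Groth.Agent.S0248
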