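import Groth.Statements.S0544
import Groth.Agent.Ega1.LimitSystem

set_option autoImplicit false
universe u
open CAlg

namespace Groth.Agent.S0544

/-- Stacks Tag 031D: let `R` be complete with respect to an ideal `I` and `M` an `R`-module which
is `I`-adically separated and such that `M/IM` is finitely generated. Then `M` is a finitely
generated `R`-module. -/
theorem result (R : Type u) [CommRing R]
    (I : Ideal R) [IsAdicComplete I R] (M : Type u) [AddCommGroup M] [Module R M] [IsHausdorff I M]
    (h : Module.Finite R (M ⧸ (I • ⊤ : Submodule R M))) : Module.Finite R M :=
  Groth.Agent.Ega1.LimitSystem.finite_of_finite_quotient (I := I) h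

end Groth.Agent.S0544
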