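import Groth.Statements.S1655
import Mathlib.AlgebraicGeometry.ZariskisMainTheorem
import Mathlib.AlgebraicGeometry.SpreadingOut
-- import your own Groth.Agent.* helpers here

set_option autoImplicit false
universe u
open CategoryTheory CategoryTheory.Limits AlgebraicGeometry
open Variety

namespace Groth.Agent.S1655

/-- Algebraic core: if `B` is a finite type `A`-algebra inside `K`, quasi-finite at `q`, and `O` is the
integrally closed local ring of `A` at the contraction of `q` with fraction field `K`, then `B` lies in `O`. -/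
lemma mem_range_of_quasiFiniteAt {A B O K : Type u} [CommRing A] [CommRing B] [Algebra A B]
    [Algebra.FiniteType A B] (q : Ideal B) [q.IsPrime] [Algebra.QuasiFiniteAt A q]
    (p : Ideal A) [p.IsPrime] [q.LiesOver p]
    [CommRing O] [Field K] [Algebra A O] [IsLocalization.AtPrime O p] [Algebra O K] [IsFractionRing O K]
    [IsIntegrallyClosed O] (ψ : B →+* K) (hψ : Function.Injective ψ)
    (hcomm : ψ.comp (algebraMap A B) = (algebraMap O K).comp (algebraMap A O)) (b : B) :
    ψ b ∈ (algebraMap O K).range := by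
  obtain ⟨r, hrq, hr, H⟩ := Algebra.zariskisMainProperty_iff.mp
    (Algebra.ZariskisMainProperty.of_finiteType (R := A) q)
  have key : ∀ c : B, IsIntegral A c → ∃ o : O, algebraMap O K o = ψ c := by
    intro c hc
    have : IsIntegral O (ψ c) := by
      obtain ⟨P, hP, hP'⟩ := hc
      refine ⟨P.map (algebraMap A O), hP.map _, ?_⟩
      rw [Polynomial.eval₂_map, ← hcomm, ← Polynomial.hom_eval₂, hP', map_zero]
    exact IsIntegrallyClosed.algebraMap_eq_of_integral this
  obtain ⟨o, ho⟩ := key r hr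
  have hou : IsUnit o := by
    obtain ⟨⟨a, s⟩, has⟩ := IsLocalization.surj p.primeCompl o
    have h1 : ψ (r * algebraMap A B s) = ψ (algebraMap A B a) := by
      have h2 := congr(algebraMap O K $has)
      have h3 := fun a : A => congr($hcomm a)
      simp only [RingHom.comp_apply] at h3
      rw [map_mul, h3, h3, ← ho, ← map_mul]
      exact h2
    have h2 := hψ h1
    have hs : algebraMap A B s ∉ q := by
      have := s.2
      rw [Ideal.mem_primeCompl_iff] at this
      rwa [← Ideal.mem_comap, ← Ideal.under_def, ← q.over_def p]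
    have ha : a ∉ p := by
      rw [q.over_def p, Ideal.under_def, Ideal.mem_comap, ← h2]
      exact fun h => (‹q.IsPrime›.mem_or_mem h).elim hrq hs
    have h3 : IsUnit (algebraMap A O a) := IsLocalization.map_units O (⟨a, ha⟩ : p.primeCompl)
    rw [← has] at h3
    exact isUnit_of_mul_isUnit_left h3
  obtain ⟨m, hm⟩ := H b
  obtain ⟨o', ho'⟩ := key _ hm
  obtain ⟨v, hv⟩ := hou
  refine ⟨o' * ((v⁻¹ ^ m : Oˣ) : O), ?_⟩
  have hne : ψ r ≠ 0 := by
    rw [← ho, ← hv]
    exact (v.isUnit.map (algebraMap O K)).ne_zero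
  have h4 : algebraMap O K ((v⁻¹ ^ m : Oˣ) : O) * (ψ r) ^ m = 1 := by
    rw [← ho, ← hv, ← map_pow, ← map_mul, ← Units.val_pow_eq_pow_val, ← Units.val_mul]
    simp
  rw [map_mul, ho', map_mul, map_pow, mul_comm (ψ r ^ m), mul_assoc, mul_comm (ψ r ^ m), h4, mul_one]

/-- Stacks Tag 0BFP (4), for integral schemes: let X be Noetherian and integral, Y integral, and f : Y → X proper and an isomorphism over some nonempty open of X. If x is a point of X whose local ring is an integrally closed domain and f is quasi-finite at some point lying over x, then f is an isomorphism over an open neighbourhood of x. -/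
theorem result {X Y : Scheme.{u}} [IsNoetherian X] [IsIntegral X] [IsIntegral Y]
    (f : Y ⟶ X) [IsProper f] (W : X.Opens) (hW : (W : Set X).Nonempty) (hfW : IsIso (f ∣_ W))
    (x : X) (hx : IsIntegrallyClosed (X.presheaf.stalk x)) (y : Y) (hy : f.base y = x) (hq : f.QuasiFiniteAt y) :
    ∃ V : X.Opens, x ∈ V ∧ IsIso (f ∣_ V) := by
  subst hy
  -- generic points
  have : Nonempty W := hW.to_subtype
  have : Nonempty (f ⁻¹ᵁ W : Y.Opens) := ⟨(inv (f ∣_ W)).base (Classical.arbitrary _)⟩
  let h : (f ⁻¹ᵁ W : Y.Opens).toScheme ⟶ X := (f ⁻¹ᵁ W).ι ≫ f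
  have hh : h = f ∣_ W ≫ W.ι := (morphismRestrict_ι f W).symm
  have : IsOpenImmersion h := by rw [hh]; infer_instance
  let w := genericPoint (f ⁻¹ᵁ W : Y.Opens).toScheme
  have hw : (f ⁻¹ᵁ W).ι w = genericPoint Y := genericPoint_eq_of_isOpenImmersion _
  have hfη : f (genericPoint Y) = genericPoint X := by
    rw [← hw, ← Scheme.Hom.comp_apply]
    exact genericPoint_eq_of_isOpenImmersion h
  have hiso : IsIso (f.stalkMap (genericPoint Y)) := by
    rw [← hw]
    have h1 : IsIso (f.stalkMap ((f ⁻¹ᵁ W).ι w) ≫ (f ⁻¹ᵁ W).ι.stalkMap w) := by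
      rw [← Scheme.Hom.stalkMap_comp (f ⁻¹ᵁ W).ι f w]
      exact inferInstanceAs (IsIso (h.stalkMap w))
    exact IsIso.of_isIso_comp_right _ ((f ⁻¹ᵁ W).ι.stalkMap w)
  -- affine neighbourhoods
  obtain ⟨_, ⟨U : X.Opens, hU, rfl⟩, hxU, -⟩ := X.isBasis_affineOpens.exists_subset_of_mem_open
    (Set.mem_univ (f y)) isOpen_univ
  obtain ⟨_, ⟨V : Y.Opens, hV, rfl⟩, hyV, hVU⟩ :=
    Y.isBasis_affineOpens.exists_subset_of_mem_open hxU (f ⁻¹ᵁ U).2
  replace hVU : V ≤ f ⁻¹ᵁ U := hVU
  have : Nonempty U := ⟨⟨_, hxU⟩⟩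
  have : Nonempty V := ⟨⟨_, hyV⟩⟩
  have hηV : genericPoint Y ∈ V :=
    ((genericPoint_spec Y).mem_open_set_iff V.isOpen).mpr (by simpa using ⟨_, hyV⟩)
  let ψ : Γ(Y, V) ⟶ X.functionField := Y.presheaf.germ V (genericPoint Y) hηV ≫
    inv (f.stalkMap (genericPoint Y)) ≫
    X.presheaf.stalkSpecializes (Inseparable.of_eq hfη.symm).specializes
  have hψ : f.appLE U V hVU ≫ ψ = X.germToFunctionField U := by
    have h1 : f.appLE U V hVU ≫ Y.presheaf.germ V (genericPoint Y) hηV =
        X.presheaf.germ U (f (genericPoint Y)) (hVU hηV) ≫ f.stalkMap (genericPoint Y) := by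
      rw [Scheme.Hom.germ_stalkMap, Scheme.Hom.appLE, Category.assoc, Y.presheaf.germ_res]
    dsimp only [ψ]
    rw [reassoc_of% h1, IsIso.hom_inv_id_assoc, X.presheaf.germ_stalkSpecializes]
  have hψinj : Function.Injective ψ.hom := by
    have h1 : Function.Injective (Y.presheaf.germ V (genericPoint Y) hηV) :=
      germ_injective_of_isIntegral _ _ _
    let : Field (Y.presheaf.stalk (genericPoint Y)) := inferInstanceAs (Field Y.functionField)
    exact (RingHom.injective (inv (f.stalkMap (genericPoint Y)) ≫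
      X.presheaf.stalkSpecializes (Inseparable.of_eq hfη.symm).specializes).hom).comp h1
  have hft : (f.appLE U V hVU).hom.FiniteType := f.finiteType_appLE hU hV hVU
  have hqf := hq.quasiFiniteAt hV hU hVU hyV
  algebraize [(f.appLE U V hVU).hom]
  have hlo : (hV.primeIdealOf ⟨y, hyV⟩).asIdeal.LiesOver (hU.primeIdealOf ⟨f y, hxU⟩).asIdeal := by
    suffices hU.primeIdealOf ⟨f y, hxU⟩ = Spec.map (f.appLE U V hVU) (hV.primeIdealOf ⟨y, hyV⟩) from
      ⟨congr(($this).1)⟩
    apply hU.isoSpec.inv.homeomorph.injective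
    apply Subtype.ext
    simp only [IsAffineOpen.primeIdealOf, Scheme.Hom.homeomorph_apply,
      ← Scheme.Hom.comp_apply, ← Scheme.Opens.ι_apply, IsAffineOpen.isoSpec_hom]
    simp
  have hqf' : Algebra.QuasiFiniteAt Γ(X, U) (hV.primeIdealOf ⟨y, hyV⟩).asIdeal := hqf
  let _hA := X.presheaf.algebra_section_stalk ⟨f y, hxU⟩
  have hloc := hU.isLocalization_stalk ⟨f y, hxU⟩
  have hmem := fun b => mem_range_of_quasiFiniteAt (A := Γ(X, U)) (B := Γ(Y, V))
    (O := X.presheaf.stalk (f y)) (K := X.functionField) (hV.primeIdealOf ⟨y, hyV⟩).asIdeal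
    (hU.primeIdealOf ⟨f y, hxU⟩).asIdeal ψ.hom hψinj (by
      ext a
      have h1 := congr($hψ a)
      rw [CommRingCat.comp_apply] at h1
      refine h1.trans ?_
      exact (Scheme.algebraMap_germ_eq_germToFunctionField X hxU a).symm) b
  have hOinj : Function.Injective (algebraMap (X.presheaf.stalk (f y)) X.functionField) :=
    IsFractionRing.injective _ _
  let e := RingEquiv.ofBijective (algebraMap (X.presheaf.stalk (f y)) X.functionField).rangeRestrict
    ⟨fun a b hab => hOinj (congrArg Subtype.val hab), RingHom.rangeRestrict_surjective _⟩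
  let χ : Γ(Y, V) ⟶ X.presheaf.stalk (f y) := CommRingCat.ofHom
    (e.symm.toRingHom.comp (ψ.hom.codRestrict _ hmem))
  have hχ : ∀ b, algebraMap (X.presheaf.stalk (f y)) X.functionField (χ b) = ψ b := by
    intro b
    have : e (χ b) = ⟨ψ.hom b, hmem b⟩ := e.apply_symm_apply _
    exact congr(($this).1)
  have hχ' : f.appLE U V hVU ≫ χ = X.presheaf.germ U (f y) hxU := by
    ext a
    apply hOinj
    rw [CommRingCat.comp_apply, hχ]
    have h1 := congr($hψ a)
    rw [CommRingCat.comp_apply] at h1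
    refine h1.trans ?_
    exact (Scheme.algebraMap_germ_eq_germToFunctionField X hxU a).symm
  let φ : Spec (X.presheaf.stalk (f y)) ⟶ Y := Spec.map χ ≫ hV.fromSpec
  have hφ : φ ≫ f = X.fromSpecStalk (f y) := by
    dsimp only [φ]
    rw [Category.assoc, ← IsAffineOpen.SpecMap_appLE_fromSpec f hU hV hVU, ← Spec.map_comp_assoc, hχ',
      ← IsAffineOpen.fromSpecStalk, IsAffineOpen.fromSpecStalk_eq_fromSpecStalk]
  obtain ⟨T, hxT, s, hs, hsf⟩ := spread_out_of_isGermInjective' (𝟙 X) f φ (by rw [hφ, Category.comp_id])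
  rw [Category.comp_id] at hsf
  refine ⟨T, hxT, ?_⟩
  -- `s` is a section of `f` over `T`
  let s' : T.toScheme ⟶ (f ⁻¹ᵁ T : Y.Opens) := IsOpenImmersion.lift (f ⁻¹ᵁ T).ι s (by
    rintro _ ⟨t, rfl⟩
    have : f (s t) = t.1 := by
      rw [← Scheme.Hom.comp_apply, hsf]; rfl
    simp [this])
  have hs'ι : s' ≫ (f ⁻¹ᵁ T).ι = s := IsOpenImmersion.lift_fac _ _ _
  have hs'f : s' ≫ (f ∣_ T) = 𝟙 _ := by
    rw [← cancel_mono T.ι, Category.assoc, morphismRestrict_ι, reassoc_of% hs'ι, hsf, Category.id_comp]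
  have : IsClosedImmersion (s' ≫ (f ∣_ T)) := by rw [hs'f]; infer_instance
  have : IsClosedImmersion s' := IsClosedImmersion.of_comp s' (f ∣_ T)
  have : Nonempty T := ⟨⟨_, hxT⟩⟩
  have : Nonempty (f ⁻¹ᵁ T : Y.Opens) := ⟨⟨y, hxT⟩⟩
  have : Surjective s' := by
    constructor
    rw [← Set.range_eq_univ, ← Set.univ_subset_iff]
    have hcl : IsClosed (Set.range s') := s'.isClosedEmbedding.isClosed_range
    have hgen : genericPoint (f ⁻¹ᵁ T : Y.Opens).toScheme ∈ Set.range s' := by
      have hξT : genericPoint X ∈ T :=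
        ((genericPoint_spec X).mem_open_set_iff T.isOpen).mpr (by simpa using ⟨_, hxT⟩)
      refine ⟨⟨genericPoint X, hξT⟩, ?_⟩
      apply (f ⁻¹ᵁ T).ι.injective
      rw [← Scheme.Hom.comp_apply, hs'ι, genericPoint_eq_of_isOpenImmersion (f ⁻¹ᵁ T).ι]
      have hfs : f (s ⟨genericPoint X, hξT⟩) = genericPoint X := by
        rw [← Scheme.Hom.comp_apply, hsf]; rfl
      have hξW : genericPoint X ∈ W :=
        ((genericPoint_spec X).mem_open_set_iff W.isOpen).mpr (by simpa using hW)
      have h1 : h ⟨s ⟨genericPoint X, hξT⟩, by simpa [hfs] using hξW⟩ =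
          h ⟨genericPoint Y, by simpa [hfη] using hξW⟩ := hfs.trans hfη.symm
      exact congrArg Subtype.val (h.injective h1)
    rw [← (genericPoint_spec (f ⁻¹ᵁ T : Y.Opens).toScheme).def]
    exact hcl.closure_subset_iff.mpr (by simpa using hgen)
  have : IsIso s' := isIso_of_isClosedImmersion_of_surjective s'
  have : IsIso (s' ≫ (f ∣_ T)) := by rw [hs'f]; infer_instance
  exact IsIso.of_isIso_comp_left s' (f ∣_ T)

end Groth.Agent.S1655
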