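import Groth.Statements.S0317
import Groth.Agent.Localalg.Matlis5

set_option autoImplicit false
universe u v
open Matlis

namespace Groth.Agent.S0317

/-- Stacks Tag 08Z9 (other half of Matlis duality): over a complete Noetherian local ring with E an injective hull of the residue field, the E-dual of an Artinian module is a finite module and the evaluation map into the double E-dual is bijective. -/
theorem result (R : Type u) [CommRing R] [IsLocalRing R] [IsNoetherianRing R] [IsAdicComplete (IsLocalRing.maximalIdeal R) R] (E : Type u) [AddCommGroup E] [Module R E] (f : IsLocalRing.ResidueField R →ₗ[R] E) (hf : InjHull.IsInjectiveHull f) (M : Type u) [AddCommGroup M] [Module R M] [IsArtinian R M] : Module.Finite R (M →ₗ[R] E) ∧ Function.Bijective (LinearMap.applyₗ : M →ₗ[R] (M →ₗ[R] E) →ₗ[R] E) := by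
  exact ⟨Groth.Agent.Localalg.Matlis.finite_dual_of_isArtinian hf M,
    Groth.Agent.Localalg.Matlis.applyₗ_bijective_of_isArtinian hf M⟩

end Groth.Agent.S0317
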