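import Groth.Statements.S0376
import Groth.Agent.S0580
import Groth.Agent.S1772
import Groth.Agent.Localalg.DGor
import Groth.Agent.Localalg.RegPowerSeries
import Groth.Agent.LoccohB.RAdj
import Groth.Agent.S0342

set_option autoImplicit false
universe u v
open CategoryTheory
attribute [local instance] HasDerivedCategory.standard
open Dual

namespace Groth.Agent.S0376

/-- Stacks Tag 0BFR (2): a complete Noetherian local ring has a dualizing complex. -/
theorem result (A : Type u) [CommRing A] [IsLocalRing A] [IsNoetherianRing A] [IsAdicComplete (IsLocalRing.maximalIdeal A) A] : ∃ ω : Dual.D A, Dual.IsDualizing A ω := by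
  obtain ⟨Λ, _, n, f, hΛ, hf⟩ := Groth.Agent.S0580.result A (IsNoetherian.noetherian _)
  have hreg := Groth.Agent.Localalg.RegPowerSeries.isRegularLocalRing_of_isField_or_isCohenRing hΛ
  have hP := Groth.Agent.Localalg.RegPowerSeries.isRegularLocalRing_mvPowerSeries Λ n
  have hG := Groth.Agent.S0342.result (MvPowerSeries (Fin n) Λ)
  have hD := Groth.Agent.Localalg.DGor.isDualizing_of_gorenstein (MvPowerSeries (Fin n) Λ)
  let _ : Algebra (MvPowerSeries (Fin n) Λ) A := f.toAlgebra
  have hfin : Module.Finite (MvPowerSeries (Fin n) Λ) A :=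
    Module.Finite.of_surjective (Algebra.linearMap (MvPowerSeries (Fin n) Λ) A) hf
  exact ⟨_, Groth.Agent.S1772.result (MvPowerSeries (Fin n) Λ) A
    (Groth.Agent.LoccohB.RAdj.RCoext (algebraMap (MvPowerSeries (Fin n) Λ) A))
    (Groth.Agent.LoccohB.RAdj.coextAdj (algebraMap (MvPowerSeries (Fin n) Λ) A)) _ hD⟩

end Groth.Agent.S0376
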