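import Groth.Statements.S1725
import Groth.Agent.LoccohA.CplCutoff
import Groth.Agent.LoccohA.RatliffD
import Groth.Agent.Ega4A.CompleteCat
import Groth.Agent.Ega4A.CplQuot

set_option autoImplicit false
universe u
open LocCoh

namespace Groth.Agent.S1725

open IsLocalRing TensorProduct

theorem cutoff_congr {A : Type u} [CommRing A] (I : Ideal A) {M N : Type u} [AddCommGroup M] [Module A M]
    [AddCommGroup N] [Module A N] (e : M ≃ₗ[A] N) : Dual2.cutoff A I M = Dual2.cutoff A I N := by
  unfold Dual2.cutoff
  refine iInf_congr fun p => iInf_congr fun q => iInf_congr fun h => iInf_congr fun _ =>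
    iInf_congr fun _ => ?_
  congr 1
  let e' : LocalizedModule p.asIdeal.primeCompl M ≃ₗ[Localization.AtPrime p.asIdeal]
      LocalizedModule p.asIdeal.primeCompl N :=
    (LocalizedModule.equivTensorProduct p.asIdeal.primeCompl M) ≪≫ₗ
      (TensorProduct.AlgebraTensorModule.congr (LinearEquiv.refl _ _) e) ≪≫ₗ
      (LocalizedModule.equivTensorProduct p.asIdeal.primeCompl N).symm
  exact Groth.Agent.Ega4A.Depth.idealDepth_eq_of_linearEquiv _ e'

/-- Stacks Tag 0BJT.  Let A be a universally catenary Noetherian local ring, I an ideal, M a finite A-module, and A', M' the completions of A and M at the maximal ideal.  Then s_{A', IA'}(M') ≤ s_{A,I}(M); and if the formal fibres of A satisfy (S_n), then min(n + 1, s_{A,I}(M)) ≤ s_{A', IA'}(M'). -/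
theorem result (A : Type u) [CommRing A] [IsLocalRing A] [IsNoetherianRing A] (hA : CAlg.IsUniversallyCatenary A) (I : Ideal A) (M : Type u) [AddCommGroup M] [Module A M] [Module.Finite A M] (n : ℕ) : Dual2.cutoff (AdicCompletion (IsLocalRing.maximalIdeal A) A) (I.map (algebraMap A (AdicCompletion (IsLocalRing.maximalIdeal A) A))) (AdicCompletion (IsLocalRing.maximalIdeal A) M) ≤ Dual2.cutoff A I M ∧ (EGA4.HasSnFormalFibres n A → min ((n : ℕ∞) + 1) (Dual2.cutoff A I M) ≤ Dual2.cutoff (AdicCompletion (IsLocalRing.maximalIdeal A) A) (I.map (algebraMap A (AdicCompletion (IsLocalRing.maximalIdeal A) A))) (AdicCompletion (IsLocalRing.maximalIdeal A) M)) := by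
  have hff : Module.FaithfullyFlat A (AdicCompletion (maximalIdeal A) A) :=
    Groth.Agent.Ega4A.CplQuot.faithfullyFlat_cpl A
  rw [← cutoff_congr (I.map (algebraMap A (AdicCompletion (IsLocalRing.maximalIdeal A) A)))
    (AdicCompletion.ofTensorProductEquivOfFiniteNoetherian (maximalIdeal A) M)]
  refine ⟨Groth.Agent.LoccohA.CplDepth.cutoff_le A (AdicCompletion (maximalIdeal A) A) I M, fun hS => ?_⟩
  exact Groth.Agent.LoccohA.CplDepth.le_cutoff A (AdicCompletion (maximalIdeal A) A)
    (Groth.Agent.Ega4A.CompleteCat.isCatenary_of_isUniversallyCatenary A hA)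
    (Groth.Agent.Ega4A.CompleteCat.isCatenary_of_isAdicComplete (AdicCompletion (maximalIdeal A) A)) n
    (fun p _ q hq => Groth.Agent.LoccohA.RatliffD.ratliff_cpl A hA p q hq)
    (fun q => Groth.Agent.Ega4A.CplQuot.ringKrullDim_cpl_quotient_map A q)
    (fun r _ => Groth.Agent.LoccohA.CplDepth.min_le_depth_fibLocRing n A
      (AdicCompletion (maximalIdeal A) A) r (hS (r.comap (algebraMap A (AdicCompletion (maximalIdeal A) A)))))
    I M

end Groth.Agent.S1725
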