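import Groth.Statements.S0344
import Groth.Agent.CalgB.GorFlat
import Groth.Agent.S2008

set_option autoImplicit false
universe u v
open Goren

namespace Groth.Agent.S0344

open IsLocalRing TensorProduct
open scoped Pointwise

/-- The statement for a local ring `F` presented as the closed fibre. -/
def P (A B F : Type u) [CommRing A] [CommRing B] [CommRing F] : Prop :=
  LocCoh.IsGorensteinLocalRing B ↔
      LocCoh.IsGorensteinLocalRing A ∧ LocCoh.IsGorensteinLocalRing F

theorem isLocalRing_quotient_span {A : Type u} [CommRing A] [IsLocalRing A] {x : A}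
    (hx : x ∈ maximalIdeal A) : IsLocalRing (A ⧸ Ideal.span {x}) := by
  have : Nontrivial (A ⧸ Ideal.span {x}) := by
    rw [Ideal.Quotient.nontrivial_iff]
    intro h
    have h1 : Ideal.span {x} ≤ maximalIdeal A := (Ideal.span_singleton_le_iff_mem _).2 hx
    exact (maximalIdeal.isMaximal A).ne_top (top_le_iff.1 (h.ge.trans h1))
  exact IsLocalRing.of_surjective' (Ideal.Quotient.mk _) Ideal.Quotient.mk_surjective

theorem aux (n : ℕ) : ∀ (A B F : Type u) [CommRing A] [IsLocalRing A] [IsNoetherianRing A]
    [CommRing B] [IsLocalRing B] [IsNoetherianRing B] [CommRing F] [IsLocalRing F]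
    [IsNoetherianRing F] [Algebra A B] [Algebra B F] [IsLocalHom (algebraMap A B)]
    [Module.Flat A B] (_ : Function.Surjective (algebraMap B F))
    (_ : RingHom.ker (algebraMap B F) = (maximalIdeal A).map (algebraMap A B))
    (_ : ringKrullDim B < n), P A B F := by
  induction n with
  | zero =>
    intro A B F _ _ _ _ _ _ _ _ _ _ _ _ _ hF hk hd
    exact absurd hd (not_lt.2 (by simp [ringKrullDim_nonneg_of_nontrivial]))
  | succ n ih =>
    intro A B F _ _ _ _ _ _ _ _ _ _ _ _ _ hF hk hd
    have hlocF : IsLocalHom (algebraMap B F) := IsLocalHom.of_surjective _ hF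
    by_cases h1 : ∀ x ∈ maximalIdeal A, ¬ IsSMulRegular A x
    swap
    · push Not at h1
      obtain ⟨x, hx, hreg⟩ := h1
      have hxB : algebraMap A B x ∈ maximalIdeal B :=
        ((IsLocalRing.local_hom_TFAE (algebraMap A B)).out 0 2 rfl rfl).mp inferInstance
          (Ideal.mem_map_of_mem _ hx)
      have hregB : IsSMulRegular B (algebraMap A B x) := by
        have := (IsSMulRegular.of_flat (S := B) hreg)
        exact this
      have hJ : (Ideal.span {x}).map (algebraMap A B) = Ideal.span {algebraMap A B x} := by
        rw [Ideal.map_span, Set.image_singleton]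
      have := isLocalRing_quotient_span hx
      have hB'l : IsLocalRing (B ⧸ (Ideal.span {x}).map (algebraMap A B)) := by
        rw [hJ]
        exact isLocalRing_quotient_span hxB
      have hfl := S2008.flat_quot A B (Ideal.span {x})
      have hle : (Ideal.span {x}).map (algebraMap A B) ≤ RingHom.ker (algebraMap B F) := by
        rw [hk]
        exact Ideal.map_mono ((Ideal.span_singleton_le_iff_mem _).2 hx)
      let := (Ideal.Quotient.lift ((Ideal.span {x}).map (algebraMap A B)) (algebraMap B F)
        (fun b hb ↦ hle hb)).toAlgebra
      have hlocAB : IsLocalHom (algebraMap (A ⧸ Ideal.span {x})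
          (B ⧸ (Ideal.span {x}).map (algebraMap A B))) := by
        constructor
        intro a ha
        obtain ⟨a, rfl⟩ := Ideal.Quotient.mk_surjective a
        have h3 : IsUnit (Ideal.Quotient.mk ((Ideal.span {x}).map (algebraMap A B))
          (algebraMap A B a)) := ha
        have h4 : IsLocalHom (Ideal.Quotient.mk ((Ideal.span {x}).map (algebraMap A B))) :=
          IsLocalHom.of_surjective _ Ideal.Quotient.mk_surjective
        exact (isUnit_of_map_unit _ _ (isUnit_of_map_unit _ _ h3)).map _
      have key := ih (A ⧸ Ideal.span {x}) (B ⧸ (Ideal.span {x}).map (algebraMap A B)) F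
        (Ideal.Quotient.lift_surjective_of_surjective _ _ hF) (by
          change RingHom.ker (Ideal.Quotient.lift _ _ _) = _
          rw [Ideal.ker_quotient_lift, hk,
            ← IsLocalRing.map_maximalIdeal_of_surjective _
              (Ideal.Quotient.mk_surjective (I := Ideal.span {x})), Ideal.map_map, Ideal.map_map]
          rfl) (by
          rw [hJ]
          have h5 := ringKrullDim_quotient_span_singleton_succ_eq_ringKrullDim hregB hxB
          rw [← h5] at hd
          push_cast at hd
          exact lt_of_add_lt_add_right hd)
      have e1 : LocCoh.IsGorensteinLocalRing B ↔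
          LocCoh.IsGorensteinLocalRing (B ⧸ (Ideal.span {x}).map (algebraMap A B)) := by
        rw [hJ]
        exact S0343.result B _ hxB hregB
      rw [P, e1, S0343.result A x hx hreg]
      exact key
    by_cases h2 : ∀ x ∈ maximalIdeal F, ¬ IsSMulRegular F x
    swap
    · push Not at h2
      obtain ⟨z, hz, hreg⟩ := h2
      obtain ⟨y, rfl⟩ := hF z
      have hyB : y ∈ maximalIdeal B := by
        rw [mem_maximalIdeal, mem_nonunits_iff] at hz ⊢
        exact fun h ↦ hz (h.map _)
      have hreg1 : IsSMulRegular (B ⊗[A] ResidueField A) y := by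
        have h3 : IsSMulRegular (B ⧸ (maximalIdeal A).map (algebraMap A B)) y := by
          intro u v huv
          obtain ⟨u, rfl⟩ := Ideal.Quotient.mk_surjective u
          obtain ⟨v, rfl⟩ := Ideal.Quotient.mk_surjective v
          have h4 : Ideal.Quotient.mk ((maximalIdeal A).map (algebraMap A B)) (y * u) =
            Ideal.Quotient.mk _ (y * v) := huv
          rw [Ideal.Quotient.eq, ← hk, RingHom.mem_ker, map_sub, map_mul, map_mul,
            sub_eq_zero] at h4
          have h5 := hreg h4
          rw [Ideal.Quotient.eq, ← hk, RingHom.mem_ker, map_sub, h5, sub_self]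
        have e := (Algebra.TensorProduct.quotIdealMapEquivTensorQuot B
          (maximalIdeal A)).toLinearEquiv
        intro u v huv
        apply e.symm.injective
        apply h3
        change y • e.symm u = y • e.symm v
        rw [← map_smul, ← map_smul]
        exact congrArg _ huv
      obtain ⟨hregB, hflat⟩ := Localalg.FibreReg.regular_and_flat (R := A) (S := B) (M := B) y hreg1
      have := isLocalRing_quotient_span hyB
      have := isLocalRing_quotient_span hz
      have hfl : Module.Flat A (B ⧸ Ideal.span {y}) := by
        have h3 : y • (⊤ : Submodule B B) = Ideal.span {y} := by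
          rw [← Submodule.ideal_span_singleton_smul, smul_eq_mul, Ideal.mul_top]
        have e : (B ⧸ Ideal.span {y}) ≃ₗ[B] QuotSMulTop y B :=
          Submodule.quotEquivOfEq _ _ h3.symm
        exact Module.Flat.of_linearEquiv (e.restrictScalars A)
      have hloc : IsLocalHom (algebraMap A (B ⧸ Ideal.span {y})) := by
        constructor
        intro a ha
        have h3 : IsUnit (Ideal.Quotient.mk (Ideal.span {y}) (algebraMap A B a)) := ha
        have h4 : IsLocalHom (Ideal.Quotient.mk (Ideal.span {y})) :=
          IsLocalHom.of_surjective _ Ideal.Quotient.mk_surjective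
        exact isUnit_of_map_unit _ _ (isUnit_of_map_unit _ _ h3)
      let := (Ideal.quotientMap (Ideal.span {algebraMap B F y}) (algebraMap B F)
        (I := Ideal.span {y}) (by
          rw [Ideal.span_singleton_le_iff_mem, Ideal.mem_comap]
          exact Ideal.mem_span_singleton_self _)).toAlgebra
      have key := ih A (B ⧸ Ideal.span {y}) (F ⧸ Ideal.span {algebraMap B F y})
        (Ideal.quotientMap_surjective hF) (by
          have h3 : (maximalIdeal A).map (algebraMap A (B ⧸ Ideal.span {y})) =
              ((maximalIdeal A).map (algebraMap A B)).map (Ideal.Quotient.mk (Ideal.span {y})) := by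
            rw [Ideal.map_map]
            rfl
          rw [h3, ← hk]
          ext b
          obtain ⟨b, rfl⟩ := Ideal.Quotient.mk_surjective b
          rw [RingHom.mem_ker]
          change Ideal.Quotient.mk (Ideal.span {algebraMap B F y}) (algebraMap B F b) = 0 ↔ _
          rw [Ideal.Quotient.eq_zero_iff_mem, Ideal.mem_span_singleton,
            Ideal.mem_map_iff_of_surjective _ Ideal.Quotient.mk_surjective]
          constructor
          · rintro ⟨c, hc⟩
            obtain ⟨c, rfl⟩ := hF c
            refine ⟨b - y * c, ?_, ?_⟩
            · rw [RingHom.mem_ker, map_sub, map_mul, hc, sub_self]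
            · rw [Ideal.Quotient.eq, Ideal.mem_span_singleton]
              exact ⟨-c, by ring⟩
          · rintro ⟨c, hc, hcb⟩
            rw [Ideal.Quotient.eq, Ideal.mem_span_singleton] at hcb
            obtain ⟨d, hd⟩ := hcb
            refine ⟨algebraMap B F (-d), ?_⟩
            rw [RingHom.mem_ker] at hc
            have h4 := congrArg (algebraMap B F) hd
            rw [map_sub, map_mul, hc] at h4
            rw [map_neg]
            linear_combination -h4) (by
          have h5 := ringKrullDim_quotient_span_singleton_succ_eq_ringKrullDim hregB hyB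
          rw [← h5] at hd
          push_cast at hd
          exact lt_of_add_lt_add_right hd)
      rw [P, S0343.result B y hyB hregB, S0343.result F _ hz hreg]
      exact key
    exact CalgB.GorFlat.base A B F hF hk h1 h2

/-- Stacks Tag 0BJL: for a flat local homomorphism A → B of Noetherian local rings, B is Gorenstein exactly when A and the closed fibre B/m_A B are. -/
theorem result (A : Type u) [CommRing A] [IsLocalRing A] [IsNoetherianRing A] (B : Type u) [CommRing B] [IsLocalRing B] [IsNoetherianRing B] [Algebra A B] [IsLocalHom (algebraMap A B)] [Module.Flat A B] : LocCoh.IsGorensteinLocalRing B ↔ (LocCoh.IsGorensteinLocalRing A ∧ LocCoh.IsGorensteinLocalRing (B ⧸ (IsLocalRing.maximalIdeal A).map (algebraMap A B))) := by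
  have hne : (maximalIdeal A).map (algebraMap A B) ≠ ⊤ := by
    intro h
    have := ((IsLocalRing.local_hom_TFAE (algebraMap A B)).out 0 2 rfl rfl).mp inferInstance
    exact (maximalIdeal.isMaximal B).ne_top (top_le_iff.1 (h.ge.trans this))
  have : Nontrivial (B ⧸ (maximalIdeal A).map (algebraMap A B)) :=
    Ideal.Quotient.nontrivial_iff.2 hne
  have : IsLocalRing (B ⧸ (maximalIdeal A).map (algebraMap A B)) :=
    IsLocalRing.of_surjective' (Ideal.Quotient.mk _) Ideal.Quotient.mk_surjective
  obtain ⟨d, hd⟩ := CalgA.RegBasic.ringKrullDim_eq_natCast B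
  exact aux (d + 1) A B _ Ideal.Quotient.mk_surjective (Ideal.mk_ker) (by rw [hd]; exact_mod_cast Nat.lt_succ_self d)

end Groth.Agent.S0344
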