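import Groth.Statements.S0947
-- import your own Groth.Agent.* helpers here
import Groth.Agent.CohtopB.ProOpen2

set_option autoImplicit false
universe u
open CategoryTheory
open CohTop

namespace Groth.Agent.S0947

section Helper
open TopologicalSpace Opposite CategoryTheory.Limits Topology
open Groth.Agent.CohtopA.Sec Groth.Agent.CohtopB.TopPull Groth.Agent.CohtopB.PullSect
open Groth.Agent.CohtopB.EffComp Groth.Agent.CohtopB.PullColim Groth.Agent.CohtopB.SheafShift

variable {X : TopCat.{u}} [SpectralSpace X] (E : Set X)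

/-- the opens of the system -/
abbrev PE : ObjectProperty (Opens X)ᵒᵖ :=
  fun U => E ⊆ (U.unop : Set X) ∧ IsCompact (U.unop : Set X)

instance isFiltered_PE : IsFiltered (PE E).FullSubcategory where
  nonempty := ⟨⟨op ⊤, Set.subset_univ _, isCompact_univ⟩⟩
  cocone_objs A B := ⟨⟨op (A.obj.unop ⊓ B.obj.unop), Set.subset_inter A.property.1 B.property.1,
      QuasiSeparatedSpace.inter_isCompact _ _ A.obj.unop.isOpen A.property.2
        B.obj.unop.isOpen B.property.2⟩,
    ObjectProperty.homMk (homOfLE inf_le_left).op, ObjectProperty.homMk (homOfLE inf_le_right).op,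
    trivial⟩
  cocone_maps A B f g := ⟨B, 𝟙 B, by
    have : f = g := ObjectProperty.hom_ext _ (Subsingleton.elim _ _)
    rw [this]⟩

theorem generalizations_eq (hE : IsCompact E) :
    {x : X | ∃ e ∈ E, e ∈ closure {x}} =
      ⋂ k : {U : Opens X // E ⊆ (U : Set X) ∧ IsCompact (U : Set X)}, ((k.1 : Opens X) : Set X) := by
  ext x
  simp only [Set.mem_ofPred_eq, Set.mem_iInter]
  constructor
  · rintro ⟨e, he, hx⟩ ⟨U, hU, -⟩
    obtain ⟨y, hy, hy'⟩ := mem_closure_iff.1 hx U U.isOpen (hU he)
    rw [Set.mem_singleton_iff.1 hy'] at hy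
    exact hy
  · intro h
    by_contra! hx
    obtain ⟨W, hW, hW', hEW, hWU⟩ := PrespectralSpace.exists_isCompact_and_isOpen_between hE
      (isClosed_closure (s := {x})).isOpen_compl (fun e he => hx e he)
    exact hWU (h ⟨⟨W, hW'⟩, hEW, hW⟩) (subset_closure rfl)

end Helper


open TopologicalSpace Opposite CategoryTheory.Limits in
/-- Stacks Tag 0A3D, part (1): let X be a spectral space, F an abelian sheaf on X, E ⊆ X a quasi-compact subset and W the set of points of X specializing to some point of E. Then for every p the group H^p(W, F|_W) (cohomology of the pullback of F to the subspace W) is isomorphic to the colimit of the groups H^p(U, F) over the quasi-compact open neighbourhoods U of E (existence of an isomorphism). -/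
theorem result {X : TopCat.{u}} [SpectralSpace X] (E : Set X)
    (hE : IsCompact E) (F : CohTop.Ab X) (p : ℕ) :
    Nonempty ((colimit (ObjectProperty.ι (fun U : (Opens X)ᵒᵖ => E ⊆ (U.unop : Set X) ∧ IsCompact (U.unop : Set X)) ⋙
        (Sheaf.cohomologyPresheafFunctor (Opens.grothendieckTopology X) p).obj F) : AddCommGrpCat.{u}) ≃+
      CohTop.H ((CohTop.pull (TopCat.ofHom ⟨Subtype.val, continuous_subtype_val⟩ :
        TopCat.of {x : X | ∃ e ∈ E, e ∈ closure {x}} ⟶ X)).obj F) p) := by
  let κ := {U : Opens X // E ⊆ (U : Set X) ∧ IsCompact (U : Set X)}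
  have hκ : Nonempty κ := ⟨⟨⊤, Set.subset_univ _, isCompact_univ⟩⟩
  let f : TopCat.of {x : X | ∃ e ∈ E, e ∈ closure {x}} ⟶ X :=
    TopCat.ofHom ⟨Subtype.val, continuous_subtype_val⟩
  have hr : Set.range f = ⋂ k : κ, ((k.1 : Opens X) : Set X) :=
    (Subtype.range_coe (s := {x : X | ∃ e ∈ E, e ∈ closure {x}})).trans (generalizations_eq E hE)
  refine Groth.Agent.CohtopB.ProOpen2.nonempty_addEquiv (fun k : κ => k.1) (fun k => k.2.2) ?_ f
    Topology.IsInducing.subtypeVal hr (ObjectProperty.ι (PE E)) ?_ ?_ ?_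
    ((Groth.Agent.CohtopB.SheafShift.isShift_presheaf (Opens.grothendieckTopology X)).comp
      (Groth.Agent.CohtopB.PullColim.colimQ (ObjectProperty.ι (PE E)))) F p
  · intro a b
    exact ⟨⟨a.1 ⊓ b.1, Set.subset_inter a.2.1 b.2.1, QuasiSeparatedSpace.inter_isCompact _ _
      a.1.isOpen a.2.2 b.1.isOpen b.2.2⟩, inf_le_left, inf_le_right⟩
  · intro j x _
    have : f x ∈ Set.range f := ⟨x, rfl⟩
    rw [hr] at this
    exact Set.mem_iInter.1 this ⟨j.obj.unop, j.property⟩
  · intro k
    exact ⟨⟨op k.1, k.2⟩, le_rfl⟩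
  · intro j
    exact ⟨⟨j.obj.unop, j.property⟩, le_rfl⟩

end Groth.Agent.S0947
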