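import Groth.Statements.S1767
import Groth.Agent.S0999
import Groth.Agent.LoccohB.DQCohBasic

set_option autoImplicit false
universe u
open CategoryTheory CategoryTheory.Limits AlgebraicGeometry
attribute [local instance] HasDerivedCategory.standard
open Dual

namespace Groth.Agent.S1767

/-- Stacks Tag 0A9I.  Let f : X → Y be a morphism between schemes which are quasi-compact and quasi-separated, with Rf_* on D_QCoh as in Tag 0A9E (derived direct image assumed to exist and to preserve quasi-coherence of cohomology) and a : D_QCoh(O_Y) → D_QCoh(O_X) a right adjoint of it.  Then there is an integer N ≥ 0 such that for every K in D_QCoh(O_Y) and every c, if H^i(K) = 0 for all i ≤ c then H^i(a(K)) = 0 for all i ≤ c − N; in particular a preserves bounded-below objects. -/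
theorem result (X Y : Scheme.{u}) [CompactSpace X] [QuasiSeparatedSpace X] [CompactSpace Y] [QuasiSeparatedSpace Y] (f : X ⟶ Y) [DCoh.HasRpush f] (h : ∀ K : DCoh.D X, DCoh.IsQCohD K → DCoh.IsQCohD ((DCoh.Rpush f).obj K)) (a : DCoh.DQCoh Y ⥤ DCoh.DQCoh X) (adj : (ObjectProperty.lift DCoh.IsQCohD (ObjectProperty.ι DCoh.IsQCohD ⋙ DCoh.Rpush f) (fun K => h K.obj K.property)) ⊣ a) : ∃ N : ℕ, ∀ (K : DCoh.DQCoh Y) (c : ℤ), (∀ i : ℤ, i ≤ c → IsZero (DCoh.HD K.obj i)) → ∀ i : ℤ, i ≤ c - N → IsZero (DCoh.HD (a.obj K).obj i) := by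
  obtain ⟨N, hN⟩ := Groth.Agent.S0999.result f
  refine ⟨N.toNat, fun K c hK i hi => ?_⟩
  obtain ⟨A, B, φ, g, δ, hT, hA, hB, hAq, hBq, hφ, hg⟩ :=
    LoccohB.DQCohBasic.exists_trunc_qcoh (a.obj K).obj (a.obj K).property i
  -- `Rf_* A` is in degrees `< N + i`
  have h1 : ∀ m : ℤ, N + i ≤ m → IsZero (DCoh.HD ((DCoh.Rpush f).obj A) m) := by
    intro m hm
    have hA' : (A⟦i⟧).IsLE 0 := by
      rw [DerivedCategory.isLE_iff]
      intro j hj
      exact (DerivedCategory.isZero_of_isLE A i (i + j) (by lia)).of_iso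
        (LoccohB.DQCohBasic.homologyShiftIso A i j (i + j) rfl)
    have h2 := hN (A⟦i⟧) (LoccohB.DQCohBasic.isQCohD_shift hAq i) hA' (m - i) (by lia)
    exact h2.of_iso (LoccohB.DQCohBasic.HDRpushShiftIso f A i (m - i) m (by lia)).symm
  -- hence `A ⟶ a(K)` vanishes
  let A' : DCoh.DQCoh X := ⟨A, hAq⟩
  let φ' : A' ⟶ a.obj K := ObjectProperty.homMk φ
  have hz : ∀ ψ : (DCoh.Rpush f).obj A ⟶ K.obj, ψ = 0 := fun ψ =>
    LoccohB.DQCohBasic.hom_eq_zero_of_isLE_of_isGE ψ (N + i - 1) (c + 1) (by lia)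
      (fun m hm => h1 m (by lia)) (fun m hm => hK m (by lia))
  have h3 : φ' = 0 := by
    apply (adj.homEquiv _ _).symm.injective
    ext1
    exact (hz _).trans (hz _).symm
  have h4 : φ = 0 := congr_arg (fun t => t.hom) h3
  have h5 := hφ i le_rfl
  rw [h4, Functor.map_zero] at h5
  exact IsZero.of_epi_eq_zero (0 : DCoh.HD A i ⟶ DCoh.HD (a.obj K).obj i) rfl

end Groth.Agent.S1767
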