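import Groth.Statements.S1783
import Groth.Agent.Ega4dB.DualRadj
import Groth.Agent.LoccohB.DualShift

set_option autoImplicit false
universe u
open CategoryTheory
attribute [local instance] HasDerivedCategory.standard
open Dual2

namespace Groth.Agent.S1783

/-- Stacks Tag 0BZK (1).  Let R → A be a ring map of finite type between Noetherian rings, where φ^!(K) is formed from a presentation ψ : R[x_1, …, x_n] → A as RHom_P(A, K ⊗^L_R P)[n], assuming the derived base change to P exists and taking for RHom_P(A, −) a right adjoint of restriction of scalars along ψ.  If K in D(R) has vanishing cohomology below some degree, then so does φ^!(K); if moreover all cohomology modules of K are finite R-modules, then all cohomology modules of φ^!(K) are finite A-modules. -/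
theorem result (R A : Type u) [CommRing R] [CommRing A] [IsNoetherianRing R] [IsNoetherianRing A] [Algebra R A] (n : ℕ) (ψ : MvPolynomial (Fin n) R →ₐ[R] A) (hψ : Function.Surjective ψ) [DRing.HasLBaseChange (algebraMap R (MvPolynomial (Fin n) R))] (Rψ : Dual.D (MvPolynomial (Fin n) R) ⥤ Dual.D A) (adj : DRing.restrictD ψ.toRingHom ⊣ Rψ) (K : Dual.D R) (a : ℤ) (hKa : ∀ i : ℤ, i < a → Subsingleton (Dual.HD R K i)) : (∃ b : ℤ, ∀ i : ℤ, i < b → Subsingleton (Dual.HD A (Dual2.shriekVia n Rψ K) i)) ∧ ((∀ i : ℤ, Module.Finite R (Dual.HD R K i)) → ∀ i : ℤ, Module.Finite A (Dual.HD A (Dual2.shriekVia n Rψ K) i)) := by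

  have hflat : (algebraMap R (MvPolynomial (Fin n) R)).Flat := by
    rw [RingHom.flat_algebraMap_iff]; infer_instance
  have hGE : K.IsGE a := by
    rw [DerivedCategory.isGE_iff]
    intro i hi
    rw [Groth.Agent.LoccohB.HomBC.isZero_homology_iff]
    exact hKa i hi
  set K' := (DRing.LBaseChange (algebraMap R (MvPolynomial (Fin n) R))).obj K with hK'
  let e : K' ≅ (Groth.Agent.LoccohB.FlatLBC.flatBC (algebraMap R (MvPolynomial (Fin n) R)) hflat).obj K :=
    (Groth.Agent.LoccohB.FlatLBC.LBaseChangeIso (algebraMap R (MvPolynomial (Fin n) R)) hflat).app K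
  have hGE1 := Groth.Agent.LoccohB.HomBC.isGE_flatBC (MvPolynomial (Fin n) R) hflat K a
  have hGE2 : K'.IsGE a :=
    DerivedCategory.TStructure.t.isGE_of_iso e.symm a
  have hGE3 : (Rψ.obj K').IsGE a := Groth.Agent.Ega4dB.DualRadj.isGE_radj ψ.toRingHom adj K' a
  refine ⟨⟨a - n, fun i hi => ?_⟩, fun hfin i => ?_⟩
  · have h4 : ((Rψ.obj K')⟦(n : ℤ)⟧).IsGE (a - n) :=
      DerivedCategory.TStructure.t.isGE_shift _ a n (a - n) (by lia)
    rw [← Groth.Agent.LoccohB.HomBC.isZero_homology_iff]
    exact DerivedCategory.isZero_of_isGE _ (a - n) i hi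
  · have h5 : ∀ j, Module.Finite (MvPolynomial (Fin n) R) (Dual.HD (MvPolynomial (Fin n) R) K' j) := by
      intro j
      have h6 := hfin j
      have h7 : Module.Finite (MvPolynomial (Fin n) R) (Dual.HD (MvPolynomial (Fin n) R)
          ((Groth.Agent.LoccohB.FlatLBC.flatBC (algebraMap R (MvPolynomial (Fin n) R)) hflat).obj K) j) :=
        Module.Finite.equiv (Groth.Agent.LoccohB.HomBC.flatHDEquiv (MvPolynomial (Fin n) R) hflat K j)
      exact Module.Finite.equiv ((DerivedCategory.homologyFunctor _ j).mapIso e.symm).toLinearEquiv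
    have h8 := Groth.Agent.Ega4dB.DualRadj.finite_HD_radj ψ.toRingHom adj
      (RingHom.Finite.of_surjective _ hψ) K' a h5 (n + i)
    exact Module.Finite.equiv (Groth.Agent.LoccohB.DualShift.shiftHD (Rψ.obj K') n i (n + i) rfl).symm.toLinearEquiv

end Groth.Agent.S1783
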