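import Groth.Statements.S1819
import Groth.Agent.LoccohB.BidualD

set_option autoImplicit false
universe u
open CategoryTheory
attribute [local instance] HasDerivedCategory.standard
open Dual

namespace Groth.Agent.S1819

/-- Stacks Tag 0A7C (values in D_Coh and biduality).  Let A be a Noetherian ring with a dualizing complex ω and K a complex of A-modules all of whose cohomology modules are finite; assume RHom(K, −) exists.  Then every cohomology module of RHom_A(K, ω) is finite, and for every complex E representing RHom_A(K, ω) (with RHom(E, −) existing) there is an isomorphism RHom_A(E, ω) ≅ K in D(A). -/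
theorem result (A : Type u) [CommRing A] [IsNoetherianRing A] (ω : Dual.D A) (hω : Dual.IsDualizing A ω) (K : DRing.Cx A) [DRing.HasRHomCx K] (hK : ∀ i : ℤ, Module.Finite A (Dual.HD A (DRing.toD K) i)) : (∀ i : ℤ, Module.Finite A (Dual.HD A ((DRing.RHomCx K).obj ω) i)) ∧ ∀ (E : DRing.Cx A) [DRing.HasRHomCx E], Nonempty (DRing.toD E ≅ (DRing.RHomCx K).obj ω) → Nonempty ((DRing.RHomCx E).obj ω ≅ DRing.toD K) := by
  obtain ⟨I, a, b, hI, ⟨e⟩⟩ := LoccohB.BidualD.exists_model ω hω
  have := hI.isKInjective
  have hK' : ∀ i : ℤ, Module.Finite A (K.homology i) := fun i => by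
    have := hK i
    exact Module.Finite.equiv (LoccohB.HomCxHD.hdEquiv K i)
  constructor
  · intro i
    have := hI.finite_homology_homCx K hK' i
    exact Module.Finite.equiv ((LoccohB.HomCxHD.hdEquiv (DRing.homCx K I) i).symm ≪≫ₗ
      ((DerivedCategory.homologyFunctor (ModuleCat.{u} A) i).mapIso
        (LoccohB.RHomVal.rhomIso K I ≪≫ (DRing.RHomCx K).mapIso e)).toLinearEquiv)
  · rintro E _ ⟨f⟩
    obtain ⟨g⟩ := LoccohB.BidualD.nonempty_homCx_iso I
      (f ≪≫ (DRing.RHomCx K).mapIso e.symm ≪≫ (LoccohB.RHomVal.rhomIso K I).symm)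
    have hev := hI.quasiIso_ev K hK'
    exact ⟨(DRing.RHomCx E).mapIso e.symm ≪≫ (LoccohB.RHomVal.rhomIso E I).symm ≪≫ g ≪≫
      (asIso (DerivedCategory.Q.map (LoccohB.HomCx.ev K I))).symm⟩

end Groth.Agent.S1819
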