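import Groth.Statements.S1719
import Groth.Agent.LoccohA.DzLocal

set_option autoImplicit false
universe u
open CategoryTheory
attribute [local instance] HasDerivedCategory.standard
open Dual

namespace Groth.Agent.S1719

/-- Stacks Tag 0A7V.  Let A be a Noetherian local ring with a normalized dualizing complex ω and p a minimal prime of A with dim(A/p) = e.  Then the cohomology module H^i(ω) localized at p is nonzero if and only if i = −e. -/
theorem result (A : Type u) [CommRing A] [IsLocalRing A] [IsNoetherianRing A] (ω : Dual.D A) (hω : Dual.IsDualizing A ω) (hn : Dual.IsNormalized A ω) (p : Ideal A) (hp : p ∈ minimalPrimes A) (e : ℕ) (he : ringKrullDim (A ⧸ p) = e) (i : ℤ) : Nontrivial (LocalizedModule (Ideal.primeCompl p (hp := hp.1.1)) (Dual.HD A ω i)) ↔ i = -(e : ℤ) := by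
  obtain ⟨δ, h1, -, h3, -⟩ := Groth.Agent.LoccohA.DzLocal.exists_delta_normalized hω hn
  have hp' := Groth.Agent.LoccohA.DzMin.eq_of_le_of_mem_minimalPrimes hp
  have key := Groth.Agent.LoccohA.DzMin.not_vanAt_HD_iff (fun p => (δ p : ℤ)) h1 ⟨p, hp.1.1⟩ hp' i
  have h4 : ((δ ⟨p, hp.1.1⟩ : ℕ) : WithBot ℕ∞) = (e : WithBot ℕ∞) := by
    rw [← h3 ⟨p, hp.1.1⟩]
    exact he
  have h5 : δ ⟨p, hp.1.1⟩ = e := by exact_mod_cast h4
  have := hp.1.1
  rw [h5] at key
  rw [← key]
  exact Groth.Agent.LoccohA.DzDim.not_vanAt_iff_nontrivial.symm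

end Groth.Agent.S1719
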