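import Groth.Statements.S1822
import Groth.Agent.LoccohB.TildeEta2
import Groth.Agent.LoccohB.ThetaT

set_option autoImplicit false
universe u
open CategoryTheory CategoryTheory.Limits AlgebraicGeometry
attribute [local instance] HasDerivedCategory.standard
open Dual

namespace Groth.Agent.S1822

open LoccohB.TildeEta LoccohB.ThetaT LoccohB.TensShriek in
/-- Natural isomorphism `(M ⊗ᴸ K)^~ ≅ M^~ ⊗ᴸ E` for `E ≅ K^~`. -/
theorem theta (A : Type u) [CommRing A] (K : DRing.Cx A) [DRing.HasLTensorCx A K]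
    (E : CochainComplex (Spec (CommRingCat.of A)).Modules ℤ)
    (hE : Nonempty (DCoh.toD (Spec (CommRingCat.of A)) E ≅ (tA A).obj (DRing.toD K)))
    [DCoh.HasLTensorCx E] :
    Nonempty (tA A ⋙ DCoh.LTensorCx E ≅ DRing.LTensorCx A K ⋙ tA A) := by
  obtain ⟨eE⟩ := hE
  obtain ⟨P, p, hP, hp, -, -⟩ := LoccohB.KProj.exists_kprojective K
  have hp' : IsIso (DerivedCategory.Q.map p) :=
    (DerivedCategory.isIso_Q_map_iff_quasiIso _ _).2 hp
  have := LoccohB.LTen.hasLTensorCx P
  obtain ⟨e1⟩ := LoccohB.LTen.ltenCongr (E := P) (E' := K) (asIso (DerivedCategory.Q.map p))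
  obtain ⟨e2⟩ := thetaP P
  obtain ⟨e3⟩ := tAQ A
  have e4 : DerivedCategory.Q.obj E ≅ DerivedCategory.Q.obj (tP P) :=
    eE ≪≫ (tA A).mapIso (asIso (DerivedCategory.Q.map p)).symm ≪≫ e3.app P
  exact ⟨Functor.isoWhiskerLeft _ ((ltRIso E).symm ≪≫ ltRCongr e4) ≪≫ e2 ≪≫
    Functor.isoWhiskerRight e1 _⟩

/-- Stacks Tag 0A88.  Let A be a Noetherian ring, K a complex of A-modules with finite cohomology modules and L an object of D(A) of finite injective dimension.  Work on Spec A with the derived tilde functor (tilde assumed left exact), a complex E of modules on Spec A representing the image of K, and the assumed derived functors − ⊗^L E with its right adjoint RSheafHom(E, −), and RHom_A(K, −).  Then RSheafHom(E, L~) is isomorphic in D(O_{Spec A}) to the derived tilde of RHom_A(K, L). -/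
theorem result (A : Type u) [CommRing A] [IsNoetherianRing A] [PreservesFiniteLimits (tilde.functor (CommRingCat.of A))] (K : DRing.Cx A) (hK : ∀ i : ℤ, Module.Finite A (Dual.HD A (DRing.toD K) i)) [DRing.HasRHomCx K] (L : Dual.D A) (hL : DRing.HasFiniteInjDim A L) (E : CochainComplex (Spec (CommRingCat.of A)).Modules ℤ) (hE : Nonempty (DCoh.toD (Spec (CommRingCat.of A)) E ≅ (DCoh.tildeD (CommRingCat.of A)).obj (DRing.toD K))) [DCoh.HasLTensorCx E] [DCoh.HasRSheafHom E] : Nonempty ((DCoh.RSheafHom E).obj ((DCoh.tildeD (CommRingCat.of A)).obj L) ≅ (DCoh.tildeD (CommRingCat.of A)).obj ((DRing.RHomCx K).obj L)) := by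
  have := LoccohB.LTen.hasLTensorCx K
  obtain ⟨θ⟩ := theta A K E hE
  have h1 := LoccohB.TildeEta.isIso_etaT K E θ hK L hL
  exact ⟨(@asIso _ _ _ _ (LoccohB.TildeEta.etaT K E θ L) h1).symm⟩

end Groth.Agent.S1822
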