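import Groth.Statements.S0372
import Groth.Agent.Books.DualCM2

set_option autoImplicit false
universe u v
open CategoryTheory
attribute [local instance] HasDerivedCategory.standard
open Dual

namespace Groth.Agent.S0372

/-- Stacks Tag 0EHT: if a Noetherian ring has a dualizing complex then the set of primes at which the localization is Cohen–Macaulay is open and dense in the prime spectrum. -/
theorem result (A : Type u) [CommRing A] [IsNoetherianRing A] (ω : Dual.D A) (hω : Dual.IsDualizing A ω) : IsOpen {p : PrimeSpectrum A | LocCoh.IsCohenMacaulayLocalRing (Localization.AtPrime p.asIdeal)} ∧ Dense {p : PrimeSpectrum A | LocCoh.IsCohenMacaulayLocalRing (Localization.AtPrime p.asIdeal)} := by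
  have hset : {p : PrimeSpectrum A | LocCoh.IsCohenMacaulayLocalRing
      (Localization.AtPrime p.asIdeal)} = {p : PrimeSpectrum A |
      Subsingleton (LocalizedModule p.asIdeal.primeCompl A) ∨
      LocCoh.IsCohenMacaulayModule (Localization.AtPrime p.asIdeal)
        (LocalizedModule p.asIdeal.primeCompl A)} := by
    ext p
    have h1 : ¬ Subsingleton (LocalizedModule p.asIdeal.primeCompl A) := by
      rw [not_subsingleton_iff_nontrivial]
      exact Groth.Agent.Books.DualCM2.mem_support_self p
    rw [Set.mem_ofPred_eq, Set.mem_ofPred_eq, or_iff_right h1]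
    exact Groth.Agent.Books.DualCM2.isCohenMacaulayLocalRing_iff p.asIdeal
  constructor
  · rw [hset]
    exact Groth.Agent.Books.DualCM.isOpen_cohenMacaulay hω A
  · intro p
    have h2 := Groth.Agent.Books.DualCM.support_subset_closure hω A
      (Groth.Agent.Books.DualCM2.mem_support_self p)
    refine closure_mono ?_ h2
    rw [hset]
    rintro q ⟨hq, -⟩
    exact Or.inr hq

end Groth.Agent.S0372
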