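import Groth.Statements.S1817
import Groth.Agent.LoccohB.RGammaTors
-- import your own Groth.Agent.* helpers here

set_option autoImplicit false
universe u
open CategoryTheory
attribute [local instance] HasDerivedCategory.standard
open LocCoh

namespace Groth.Agent.S1817

/-- Stacks Tag 0A6R, first statement, for a Noetherian ring (where the functor with supports in V(I) is RΓ_I).  Let A be a Noetherian ring and I an ideal, and assume RΓ_I exists as a total right derived functor.  Then every RΓ_I(K) has I-power torsion cohomology modules, and the resulting functor from D(A) to the full subcategory of such objects is right adjoint to the inclusion. -/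
theorem result (A : Type u) [CommRing A] [IsNoetherianRing A] (I : Ideal A) [DRing.HasRgammaI I] : ∃ h : ∀ K : Dual.D A, (fun L : Dual.D A => ∀ i : ℤ, LocCoh.IsPowerTorsion I (Dual.HD A L i)) ((DRing.RgammaI I).obj K), Nonempty (ObjectProperty.ι (fun L : Dual.D A => ∀ i : ℤ, LocCoh.IsPowerTorsion I (Dual.HD A L i)) ⊣ ObjectProperty.lift (fun L : Dual.D A => ∀ i : ℤ, LocCoh.IsPowerTorsion I (Dual.HD A L i)) (DRing.RgammaI I) h) := by
  exact ⟨fun K => Groth.Agent.LoccohB.RGammaTors.torsion_rgamma I K,
    ⟨Groth.Agent.LoccohB.RGammaTors.adjOfBijective _ _ (DRing.RgammaIε I) _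
      fun _ hT K => Groth.Agent.LoccohB.RGammaTors.comp_ε_bijective I hT K⟩⟩

end Groth.Agent.S1817
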