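import Groth.Statements.S1814
import Groth.Agent.S1817
import Groth.Agent.LoccohB.GMAbs
import Groth.Agent.LoccohB.KDer
import Groth.Agent.LoccohB.DCalc
import Groth.Agent.LoccohB.InjRep
import Groth.Agent.LoccohB.DualShift
import Groth.Agent.Cohder.KInjEss2
import Groth.Agent.PerfA.HomologyLinear
import Mathlib.RingTheory.Localization.Away.Basic

set_option autoImplicit false
universe u
open CategoryTheory
attribute [local instance] HasDerivedCategory.standard
open LocCoh

namespace Groth.Agent.S1814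

open Groth.Agent.LoccohB CategoryTheory.Limits Pretriangulated

variable {A : Type u} [CommRing A]

/-- torsion objects -/
abbrev Tors (I : Ideal A) : Dual.D A → Prop :=
  fun L => ∀ i : ℤ, LocCoh.IsPowerTorsion I (Dual.HD A L i)

theorem isPowerTorsion_of_linearEquiv (I : Ideal A) {M N : Type u} [AddCommGroup M] [Module A M]
    [AddCommGroup N] [Module A N] (e : M ≃ₗ[A] N) (h : IsPowerTorsion I M) :
    IsPowerTorsion I N := by
  intro n
  obtain ⟨k, hk⟩ := h (e.symm n)
  refine ⟨k, fun a ha => ?_⟩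
  apply e.symm.injective
  rw [map_smul, hk a ha, map_zero]

theorem tors_shift (I : Ideal A) (X : Dual.D A) (n : ℤ) (h : Tors I X) : Tors I (X⟦n⟧) :=
  fun i => isPowerTorsion_of_linearEquiv I
    (DualShift.shiftHD X n i (n + i) rfl).symm.toLinearEquiv (h (n + i))

theorem complete_shift (I : Ideal A) (X : Dual.D A) (n : ℤ) (h : DRing.IsDerivedComplete I X) :
    DRing.IsDerivedComplete I (X⟦n⟧) := by
  intro f hf m
  have := h f hf (n + m)
  exact (DualShift.homShift (Dual.inD A (Localization.Away f)) X n m (n + m) rfl).toEquiv.subsingleton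

/-- the annihilator ideal of an object -/
def annId (Y : Dual.D A) : Ideal A where
  carrier := {a | a • 𝟙 Y = 0}
  zero_mem' := zero_smul _ _
  add_mem' := by
    intro a b ha hb
    change (a + b) • 𝟙 Y = 0
    rw [add_smul, ha, hb, add_zero]
  smul_mem' := by
    intro c a ha
    change (c • a) • 𝟙 Y = 0
    rw [smul_assoc, ha, smul_zero]

theorem mem_annId (Y : Dual.D A) (a : A) : a ∈ annId Y ↔ a • 𝟙 Y = 0 := Iff.rfl

theorem le_radical_annId (I : Ideal A) (l : List A) (hl : Ideal.span {f | f ∈ l} = I)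
    (Y : Dual.D A) (h : ∀ f ∈ l, GMAbs.Nil f Y) : I ≤ (annId Y).radical := by
  rw [← hl, Ideal.span_le]
  intro f hf
  obtain ⟨m, hm⟩ := h f hf
  exact ⟨m, hm⟩

theorem tors_of_nil [IsNoetherianRing A] (I : Ideal A) (l : List A)
    (hl : Ideal.span {f | f ∈ l} = I) (Y : Dual.D A) (h : ∀ f ∈ l, GMAbs.Nil f Y) :
    Tors I Y := by
  obtain ⟨n, hn⟩ := Ideal.exists_pow_le_of_le_radical_of_fg (le_radical_annId I l hl Y h)
    (IsNoetherian.noetherian I)
  intro i m
  refine ⟨n, fun a ha => ?_⟩
  have h1 : a • 𝟙 Y = 0 := hn ha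
  have h2 := PerfA.HomologyLinear.homologyFunctor_map_smul_id Y a i
  rw [h1, Functor.map_zero] at h2
  have h3 := congrArg (fun φ : (DerivedCategory.homologyFunctor (ModuleCat.{u} A) i).obj Y ⟶ _ =>
    φ.hom m) h2
  exact h3.symm

theorem complete_of_nil (I : Ideal A) (l : List A)
    (hl : Ideal.span {f | f ∈ l} = I) (Y : Dual.D A) (h : ∀ f ∈ l, GMAbs.Nil f Y) :
    DRing.IsDerivedComplete I Y := by
  intro g hg n
  obtain ⟨m, hm⟩ := le_radical_annId I l hl Y h hg
  rw [mem_annId] at hm
  refine subsingleton_of_forall_eq 0 fun u => ?_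
  -- multiplication by `g ^ m` is invertible on `A_g`
  have hu : IsUnit (algebraMap A (Localization.Away g) (g ^ m)) := by
    rw [map_pow]
    exact (IsLocalization.Away.algebraMap_isUnit g).pow m
  obtain ⟨b, hb⟩ := hu.exists_left_inv
  let w : Localization.Away g →ₗ[A] Localization.Away g :=
    LinearMap.mulLeft A b
  have hw : (g ^ m) • (ModuleCat.ofHom w) = 𝟙 (ModuleCat.of A (Localization.Away g)) := by
    ext x
    change (g ^ m) • (b * x) = x
    rw [Algebra.smul_def, ← mul_assoc, mul_comm _ b, hb, one_mul]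
  have h1 : 𝟙 (Dual.inD A (Localization.Away g)) =
      (g ^ m) • (DerivedCategory.singleFunctor (ModuleCat.{u} A) 0).map (ModuleCat.ofHom w) := by
    rw [← Functor.map_smul, hw, CategoryTheory.Functor.map_id]
  have h2 : (g ^ m) • 𝟙 (Y⟦n⟧) = 0 := by
    rw [← GMAbs.shift_smul_id, hm, Functor.map_zero]
  rw [← Category.id_comp u, h1, Linear.smul_comp, ← Linear.comp_smul, ← Category.comp_id u,
    ← Linear.comp_smul, h2, comp_zero, comp_zero]

theorem orth_of_isZero {Y : Dual.D A} (h : IsZero Y) : GMAbs.Orth Y Y := fun _ => h.eq_of_src _ _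

theorem isZero_of_tors (I : Ideal A) (f : A) (hf : f ∈ I) (Y : Dual.D A) (hY : Tors I Y)
    (v : Y ⟶ Y) (hv : f • v = 𝟙 Y) : IsZero Y := by
  rw [DCalc.isZero_iff]
  intro i
  rw [ModuleCat.isZero_iff_subsingleton]
  refine subsingleton_of_forall_eq 0 fun y => ?_
  obtain ⟨k, hk⟩ := hY i y
  have h1 : f ^ k • y = 0 := hk _ (Ideal.pow_mem_pow hf k)
  let φ := (DerivedCategory.homologyFunctor (ModuleCat.{u} A) i).map v
  have h2 : f • φ = 𝟙 _ := by
    have := congrArg (fun t => (DerivedCategory.homologyFunctor (ModuleCat.{u} A) i).map t) hv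
    rw [PerfA.HomologyLinear.homologyFunctor_map_smul, CategoryTheory.Functor.map_id] at this
    exact this
  have h3 : ∀ x, f • φ.hom x = x := fun x =>
    congrArg (fun t : (DerivedCategory.homologyFunctor (ModuleCat.{u} A) i).obj Y ⟶ _ => t.hom x) h2
  have h4 : ∀ k : ℕ, ∀ x : ↑((DerivedCategory.homologyFunctor (ModuleCat.{u} A) i).obj Y),
      f ^ k • x = 0 → x = 0 := by
    intro k
    induction k with
    | zero => intro x hx; rwa [pow_zero, one_smul] at hx
    | succ k ih =>
      intro x hx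
      apply ih
      rw [← h3 (f ^ k • x), map_smul]
      have : f • f ^ k • φ.hom x = φ.hom (f ^ (k + 1) • x) := by
        rw [map_smul, smul_smul, ← pow_succ']
      rw [this, hx, map_zero]
  exact h4 k y h1

/-- coreflections into torsion objects exist over a Noetherian ring -/
theorem exists_coref [IsNoetherianRing A] (I : Ideal A) [DRing.HasRgammaI I] (K : Dual.D A) :
    ∃ ε : (DRing.RgammaI I).obj K ⟶ K, GMAbs.IsCoref (Tors I) ε := by
  obtain ⟨h, ⟨adj⟩⟩ := S1817.result A I
  refine ⟨adj.counit.app K, h K, ?_, ?_⟩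
  · intro Z hZ u
    let Z' : ObjectProperty.FullSubcategory
      (fun L : Dual.D A => ∀ i : ℤ, LocCoh.IsPowerTorsion I (Dual.HD A L i)) := ⟨Z, hZ⟩
    refine ⟨(adj.homEquiv Z' K u).hom, ?_⟩
    have := (adj.homEquiv Z' K).symm_apply_apply u
    rw [Adjunction.homEquiv_counit] at this
    exact this
  · intro Z hZ v w hvw
    let Z' : ObjectProperty.FullSubcategory
      (fun L : Dual.D A => ∀ i : ℤ, LocCoh.IsPowerTorsion I (Dual.HD A L i)) := ⟨Z, hZ⟩
    let v' : Z' ⟶ (ObjectProperty.lift (fun L : Dual.D A => ∀ i : ℤ,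
      LocCoh.IsPowerTorsion I (Dual.HD A L i)) (DRing.RgammaI I) h).obj K := ObjectProperty.homMk v
    let w' : Z' ⟶ (ObjectProperty.lift (fun L : Dual.D A => ∀ i : ℤ,
      LocCoh.IsPowerTorsion I (Dual.HD A L i)) (DRing.RgammaI I) h).obj K := ObjectProperty.homMk w
    have h1 : v' = w' := by
      apply (adj.homEquiv Z' K).symm.injective
      rw [Adjunction.homEquiv_counit, Adjunction.homEquiv_counit]
      exact hvw
    exact congrArg (fun t => t.hom) h1

theorem exists_refl (I : Ideal A) [DRing.HasDerivedCompletion I] (K : Dual.D A) :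
    GMAbs.IsRefl (DRing.IsDerivedComplete I) (DRing.toDerivedCompletion I K) := by
  let adj := DRing.derivedCompletionAdj I
  refine ⟨((DRing.derivedCompletion I).obj K).property, ?_, ?_⟩
  · intro Z hZ u
    let Z' : DRing.DComp I := ⟨Z, hZ⟩
    refine ⟨((adj.homEquiv K Z').symm u).hom, ?_⟩
    have := (adj.homEquiv K Z').apply_symm_apply u
    rw [Adjunction.homEquiv_unit] at this
    exact this
  · intro Z hZ v w hvw
    let Z' : DRing.DComp I := ⟨Z, hZ⟩
    let v' : (DRing.derivedCompletion I).obj K ⟶ Z' := ObjectProperty.homMk v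
    let w' : (DRing.derivedCompletion I).obj K ⟶ Z' := ObjectProperty.homMk w
    have h1 : v' = w' := by
      apply (adj.homEquiv K Z').injective
      rw [Adjunction.homEquiv_unit, Adjunction.homEquiv_unit]
      exact hvw
    exact congrArg (fun t => t.hom) h1

theorem hasRgammaI (I : Ideal A) : DRing.HasRgammaI I :=
  KDer.hasRightDerived _ (fun K => by
    obtain ⟨J, f, -, h2, h3, -⟩ := Cohder.KInjEss2.exists_kInjective_mono_moduleCat A K
    exact ⟨J, f, h3, h2⟩)

/-- the localization map in the derived category -/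
noncomputable def loc (f : A) : Dual.inD A A ⟶ Dual.inD A (Localization.Away f) :=
  (DerivedCategory.singleFunctor (ModuleCat.{u} A) 0).map
    (ModuleCat.ofHom (Algebra.linearMap A (Localization.Away f)))

theorem subsingleton_single (M : Type u) [AddCommGroup M] [Module A M] (i : ℤ) (hi : i ≠ 0) :
    Subsingleton (Dual.HD A (Dual.inD A M) i) := by
  rw [← ModuleCat.isZero_iff_subsingleton]
  rcases lt_or_gt_of_ne hi with h | h
  · exact DerivedCategory.isZero_of_isGE _ 0 i h
  · exact DerivedCategory.isZero_of_isLE _ 0 i h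

/-- the map on cohomology in degree `i` induced by `loc f` -/
noncomputable def locH (f : A) (i : ℤ) :
    Dual.HD A (Dual.inD A A) i →ₗ[A] Dual.HD A (Dual.inD A (Localization.Away f)) i :=
  ((DerivedCategory.homologyFunctor (ModuleCat.{u} A) i).map (loc f)).hom

theorem locH_zero (f : A) : ∃ (E₁ : Dual.HD A (Dual.inD A A) 0 →ₗ[A] A)
    (E₂ : Dual.HD A (Dual.inD A (Localization.Away f)) 0 →ₗ[A] Localization.Away f),
    Function.Bijective E₁ ∧ Function.Bijective E₂ ∧
    ∀ x, E₂ (locH f 0 x) = algebraMap A (Localization.Away f) (E₁ x) := by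
  let e := DerivedCategory.singleFunctorCompHomologyFunctorIso (ModuleCat.{u} A) 0
  refine ⟨(e.hom.app (ModuleCat.of A A)).hom,
    (e.hom.app (ModuleCat.of A (Localization.Away f))).hom,
    (e.app (ModuleCat.of A A)).toLinearEquiv.bijective,
    (e.app (ModuleCat.of A (Localization.Away f))).toLinearEquiv.bijective, fun x => ?_⟩
  have hnat := e.hom.naturality (ModuleCat.ofHom (Algebra.linearMap A (Localization.Away f)))
  exact congrArg (fun t => ModuleCat.Hom.hom t x) hnat

theorem loc_ker (f : A) (i : ℤ) (x : Dual.HD A (Dual.inD A A) i)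
    (hx : locH f i x = 0) : ∃ k : ℕ, f ^ k • x = 0 := by
  by_cases hi : i = 0
  · subst hi
    obtain ⟨E₁, E₂, hE₁, -, hE⟩ := locH_zero f
    have h2 := hE x
    rw [hx, map_zero] at h2
    obtain ⟨⟨_, k, rfl⟩, hk⟩ := (IsLocalization.map_eq_zero_iff (Submonoid.powers f)
      (Localization.Away f) _).mp h2.symm
    refine ⟨k, ?_⟩
    apply hE₁.1
    rw [map_smul, map_zero]
    exact hk
  · have := subsingleton_single (A := A) A i hi
    exact ⟨0, Subsingleton.elim _ _⟩

theorem loc_coker (f : A) (i : ℤ) (w : Dual.HD A (Dual.inD A (Localization.Away f)) i) :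
    ∃ (k : ℕ) (x : Dual.HD A (Dual.inD A A) i), f ^ k • w = locH f i x := by
  by_cases hi : i = 0
  · subst hi
    obtain ⟨E₁, E₂, hE₁, hE₂, hE⟩ := locH_zero f
    obtain ⟨⟨a, ⟨_, k, rfl⟩⟩, ha⟩ := IsLocalization.surj (Submonoid.powers f) (E₂ w)
    obtain ⟨x, rfl⟩ := hE₁.2 a
    refine ⟨k, x, ?_⟩
    apply hE₂.1
    rw [map_smul, hE]
    refine Eq.trans ?_ ha
    rw [Algebra.smul_def, mul_comm]
  · have := subsingleton_single (A := A) (Localization.Away f) i hi
    exact ⟨0, 0, Subsingleton.elim _ _⟩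

/-- the cone of the localization map is torsion -/
theorem tors_cone_loc (f : A) (Q : Dual.D A) (i : Dual.inD A (Localization.Away f) ⟶ Q)
    (δ : Q ⟶ (Dual.inD A A)⟦(1 : ℤ)⟧)
    (hT : Triangle.mk (loc f) i δ ∈ distTriang (Dual.D A)) : Tors (Ideal.span {f}) Q := by
  intro n z
  have h1 := DerivedCategory.HomologySequence.exact₃ _ hT n (n + 1) rfl
  have h2 := DerivedCategory.HomologySequence.δ_comp _ hT n (n + 1) rfl
  let d : Dual.HD A Q n →ₗ[A] Dual.HD A (Dual.inD A A) (n + 1) :=
    (DerivedCategory.HomologySequence.δ (Triangle.mk (loc f) i δ) n (n + 1) rfl).hom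
  let c : Dual.HD A (Dual.inD A (Localization.Away f)) n →ₗ[A] Dual.HD A Q n :=
    ((DerivedCategory.homologyFunctor (ModuleCat.{u} A) n).map i).hom
  have h3 : locH f (n + 1) (d z) = 0 := congrArg (fun t => ModuleCat.Hom.hom t z) h2
  obtain ⟨k, hk⟩ := loc_ker f (n + 1) (d z) h3
  have h4 : d (f ^ k • z) = 0 := by rw [map_smul, hk]
  rw [ShortComplex.moduleCat_exact_iff] at h1
  obtain ⟨w, hw⟩ : ∃ w, c w = f ^ k • z := h1 (f ^ k • z) h4
  obtain ⟨k', x, hx⟩ := loc_coker f n w
  have h5 : c (locH f n x) = 0 := by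
    have h6 : ((DerivedCategory.homologyFunctor (ModuleCat.{u} A) n).map (loc f)) ≫
        ((DerivedCategory.homologyFunctor (ModuleCat.{u} A) n).map i) = 0 := by
      rw [← Functor.map_comp]
      have : loc f ≫ i = 0 := comp_distTriang_mor_zero₁₂ _ hT
      rw [this, Functor.map_zero]
    exact congrArg (fun t => ModuleCat.Hom.hom t x) h6
  have h6 : f ^ (k' + k) • z = 0 := by
    rw [pow_add, mul_smul, ← hw, ← map_smul, hx, h5]
  refine ⟨k' + k, fun a ha => ?_⟩
  rw [Ideal.span_singleton_pow, Ideal.mem_span_singleton'] at ha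
  obtain ⟨b, rfl⟩ := ha
  rw [mul_smul, h6, smul_zero]

/-- a complete object on which `f ∈ I` is invertible vanishes -/
theorem isZero_of_complete [IsNoetherianRing A] (I : Ideal A) (f : A) (hf : f ∈ I) (Y : Dual.D A)
    (hY : DRing.IsDerivedComplete I Y) (v : Y ⟶ Y) (hv : f • v = 𝟙 Y) : IsZero Y := by
  have hR := hasRgammaI (Ideal.span {f})
  rw [DCalc.isZero_iff]
  intro n
  apply InjRep.isZero_homology_of_subsingleton
  refine subsingleton_of_forall_eq 0 fun u => ?_
  obtain ⟨Q, i, δ, hT⟩ := distinguished_cocone_triangle (loc f)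
  have hQ := tors_cone_loc f Q i δ hT
  have hv' : f • (shiftFunctor (Dual.D A) n).map v = 𝟙 (Y⟦n⟧) := by
    rw [← Functor.map_smul, hv, CategoryTheory.Functor.map_id]
  have horth : ∀ Z, Tors (Ideal.span {f}) Z → GMAbs.Orth Z (Y⟦n⟧) := by
    intro Z hZ
    obtain ⟨ε, hε⟩ := exists_coref (Ideal.span {f}) (Y⟦n⟧)
    obtain ⟨v', h1⟩ := hε.exists_lift _ hε.mem (ε ≫ (shiftFunctor (Dual.D A) n).map v)
    have h2 : f • v' = 𝟙 _ := by
      apply hε.ext _ hε.mem
      rw [Linear.smul_comp, h1, ← Linear.comp_smul, hv', Category.comp_id, Category.id_comp]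
    have h3 := isZero_of_tors (Ideal.span {f}) f (Ideal.mem_span_singleton_self f) _ hε.mem v' h2
    intro w
    obtain ⟨w', hw'⟩ := hε.exists_lift Z hZ w
    rw [← hw', h3.eq_of_tgt w' 0, zero_comp]
  have hT' := inv_rot_of_distTriang _ hT
  obtain ⟨w, hw⟩ := Triangle.yoneda_exact₂ _ hT' u
    (horth _ (tors_shift _ _ (-1) hQ) _)
  have hw0 : w = 0 := (hY f hf n).elim _ _
  exact GMAbs.zero_right hw hw0

/-- Stacks Tag 0A6W, for a Noetherian ring (where RΓ_Z = RΓ_I by Tag 0955).  Let A be a Noetherian ring, I an ideal and K an object of D(A); assume RΓ_I exists as a total right derived functor and that derived I-completion (the left adjoint to the inclusion of derived complete objects) exists.  Then RΓ_I applied to the derived completion of K is isomorphic to RΓ_I(K), and the derived completion of RΓ_I(K) is isomorphic to the derived completion of K. -/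
theorem result (A : Type u) [CommRing A] [IsNoetherianRing A] (I : Ideal A) [DRing.HasRgammaI I] [DRing.HasDerivedCompletion I] (K : Dual.D A) : Nonempty ((DRing.RgammaI I).obj ((DRing.derivedCompletion I).obj K).obj ≅ (DRing.RgammaI I).obj K) ∧ Nonempty ((DRing.derivedCompletion I).obj ((DRing.RgammaI I).obj K) ≅ (DRing.derivedCompletion I).obj K) := by
  obtain ⟨s, hs⟩ := IsNoetherian.noetherian I
  let l : List A := s.toList
  have hl : Ideal.span {f | f ∈ l} = I := by
    rw [← hs]
    congr 1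
    ext f
    simp [l]
  have hlI : ∀ f ∈ l, f ∈ I := fun f hf => hl ▸ Ideal.subset_span hf
  have hPX := GMAbs.orth_PX (Tors I) (DRing.IsDerivedComplete I) (complete_shift I) l
    (complete_of_nil I l hl)
    (fun Y hY f hf v hv => orth_of_isZero (isZero_of_tors I f (hlI f hf) Y hY v hv))
    (fun K => by
      obtain ⟨ε, hε⟩ := exists_coref I K
      exact ⟨_, ε, hε⟩) l (fun f hf => hf)
  have hCN := GMAbs.orth_CN (Tors I) (DRing.IsDerivedComplete I) (tors_shift I)
    (complete_shift I) l (tors_of_nil I l hl)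
    (fun Y hY f hf v hv => orth_of_isZero (isZero_of_complete I f (hlI f hf) Y hY v hv))
    (fun K => ⟨_, _, exists_refl I K⟩) l (fun f hf => hf)
  obtain ⟨ε, hε⟩ := exists_coref I K
  obtain ⟨ε', hε'⟩ := exists_coref I ((DRing.derivedCompletion I).obj K).obj
  refine ⟨?_, ?_⟩
  · exact GMAbs.coref_refl_iso (Tors I) (DRing.IsDerivedComplete I) (tors_shift I)
      (complete_shift I) (fun X hX => hPX X (fun f hf => Or.inl hf) hX) _ (exists_refl I K)
      ε hε ε' hε'
  · obtain ⟨e⟩ := GMAbs.refl_coref_iso (Tors I) (DRing.IsDerivedComplete I) (tors_shift I)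
      (complete_shift I) (fun X hX => hCN X (fun f hf => Or.inl hf) hX) _ (exists_refl I K)
      ε hε _ (exists_refl I ((DRing.RgammaI I).obj K))
    exact ⟨(DRing.IsDerivedComplete I).isoMk e⟩

end Groth.Agent.S1814
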