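import Groth.Statements.S0366
import Groth.Agent.Localalg.DDual

set_option autoImplicit false
universe u v
open CategoryTheory
attribute [local instance] HasDerivedCategory.standard
open Dual

namespace Groth.Agent.S0366

/-- Stacks Tag 0A7U (1),(2): for a Noetherian local ring with normalized dualizing complex ω and a finite module M whose support has dimension d, Hom(M, ω[i]) in D(A) is nonzero only for −d ≤ i ≤ 0, and its support has dimension at most −i. -/
theorem result (A : Type u) [CommRing A] [IsLocalRing A] [IsNoetherianRing A] (ω : Dual.D A) (hω : Dual.IsDualizing A ω) (hn : Dual.IsNormalized A ω) (M : Type u) [AddCommGroup M] [Module A M] [Module.Finite A M] (d : ℕ) (hd : Module.supportDim A M = d) (i : ℤ) : (Nontrivial (Dual.inD A M ⟶ ω⟦i⟧) → (-(d : ℤ) ≤ i ∧ i ≤ 0)) ∧ Module.supportDim A (Dual.inD A M ⟶ ω⟦i⟧) ≤ ((-i).toNat : WithBot ℕ∞) := by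
  constructor
  · intro h
    constructor
    · by_contra h1
      have := Groth.Agent.Localalg.DDual.subsingleton_of_lt hω hn M d hd.le i (by omega)
      exact not_subsingleton _ this
    · by_contra h1
      have := Groth.Agent.Localalg.DDual.subsingleton_of_pos hω hn M i (by omega)
      exact not_subsingleton _ this
  · rcases le_or_gt i 0 with h | h
    · obtain ⟨n, hn'⟩ := Int.eq_ofNat_of_zero_le (neg_nonneg.2 h)
      obtain rfl : i = -(n : ℤ) := by omega
      have := Groth.Agent.Localalg.DDual.supportDim_le hω hn M n
      simpa using this
    · have := Groth.Agent.Localalg.DDual.subsingleton_of_pos hω hn M i h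
      rw [Module.supportDim_eq_bot_of_subsingleton]
      exact bot_le

end Groth.Agent.S0366
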