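import Groth.Statements.S1637
import Groth.Agent.CurvesC.NodeFinal
-- import your own Groth.Agent.* helpers here

set_option autoImplicit false
universe u
open CategoryTheory CategoryTheory.Limits AlgebraicGeometry
open Curves

namespace Groth.Agent.S1637

/-- `Spec` of an étale ring map followed by an open immersion is étale. -/
theorem etale_spec_comp {A B : Type u} [CommRing A] [CommRing B] (φ : A →+* B) (hφ : φ.Etale) {X : Scheme.{u}}
    (j : Spec (CommRingCat.of A) ⟶ X) [IsOpenImmersion j] : Etale (Spec.map (CommRingCat.ofHom φ) ≫ j) := by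
  haveI : Etale (Spec.map (CommRingCat.ofHom φ)) :=
    (HasRingHomProperty.Spec_iff (P := @Etale) (Q := RingHom.Etale)).mpr hφ
  infer_instance

/-- Stacks Tag 0CBY: let f : X → S be at-worst-nodal of relative dimension one and x a point of X which is a node of its fibre. Then there are étale morphisms U → X and V → S, a morphism U → V compatible with f, a morphism V → Spec ℤ[a], and an étale morphism U → W over V where W → V is the base change of Spec ℤ[u, v, a]/(uv - a) → Spec ℤ[a] along V → Spec ℤ[a], such that x is in the image of U. -/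
theorem result {X S : Scheme.{u}} (f : X ⟶ S) (hf : Curv2.IsNodalFamily f)
    (x : X) (hx : @Curv2.IsNode (S.residueField (f.base x)) _ (f.fiber (f.base x)) ⟨f.fiberToSpecResidueField (f.base x)⟩ (f.asFiber x)) :
    ∃ (U V W : Scheme.{u}) (gU : U ⟶ X) (gV : V ⟶ S) (p : U ⟶ V) (e : U ⟶ W) (q : W ⟶ V)
      (h : V ⟶ Spec (CommRingCat.of (MvPolynomial (Fin 1) (ULift.{u} ℤ)))) (r : W ⟶ Spec (CommRingCat.of (MvPolynomial (Fin 3) (ULift.{u} ℤ) ⧸ Ideal.span {(MvPolynomial.X 0 * MvPolynomial.X 1 - MvPolynomial.X 2 : MvPolynomial (Fin 3) (ULift.{u} ℤ))}))),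
      Etale gU ∧ Etale gV ∧ Etale e ∧ gU ≫ f = p ≫ gV ∧ e ≫ q = p ∧
      IsPullback r q (Spec.map (CommRingCat.ofHom ((Ideal.Quotient.mk _).comp (MvPolynomial.aeval (fun _ : Fin 1 => (MvPolynomial.X 2 : MvPolynomial (Fin 3) (ULift.{u} ℤ)))).toRingHom))) h ∧
      x ∈ Set.range gU.base := by
  haveI : Flat f := hf.1
  haveI : LocallyOfFinitePresentation f := hf.2.1
  obtain ⟨R, A, _, _, _, jS, jX, _, _, hcomm, _, _, K, _, _, _, _, _, hxK, φ, hN⟩ :=
    Groth.Agent.CurvesC.NodeScheme.exists_affine_node f x hx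
  obtain ⟨C, A₂, _, _, ρ, ι, c, κ, χ, hρ, hι, hκ, hc, hχ⟩ := Groth.Agent.CurvesC.NodeFinal.exists_model φ hN
  let χ0 : MvPolynomial (Fin 1) (ULift.{u} ℤ) →+* C := MvPolynomial.eval₂Hom
    ((Int.castRingHom C).comp (ULift.ringEquiv : ULift.{u} ℤ ≃+* ℤ).toRingHom) (fun _ => c)
  have hχ0 : χ0 (MvPolynomial.X 0) = ((1 : Cˣ) : C) * c := by
    rw [Units.val_one, one_mul]
    exact MvPolynomial.eval₂Hom_X' _ _ _
  refine ⟨Spec (CommRingCat.of A₂), Spec (CommRingCat.of C),
    Spec (CommRingCat.of (Groth.Agent.Models.NodePushout.Ruv (MvPolynomial.C c))),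
    Spec.map (CommRingCat.ofHom ρ) ≫ jX, Spec.map (CommRingCat.ofHom ι) ≫ jS,
    Spec.map (CommRingCat.ofHom (κ.comp (Groth.Agent.Models.NodePushout.iota (MvPolynomial.C c)))),
    Spec.map (CommRingCat.ofHom κ), Spec.map (CommRingCat.ofHom (Groth.Agent.Models.NodePushout.iota (MvPolynomial.C c))),
    Spec.map (CommRingCat.ofHom χ0), Spec.map (CommRingCat.ofHom (Groth.Agent.Models.NodePushout.theta 1 c)),
    etale_spec_comp ρ hρ jX, etale_spec_comp ι hι jS, ?_, ?_, ?_, ?_, ?_⟩
  · exact (HasRingHomProperty.Spec_iff (P := @Etale) (Q := RingHom.Etale)).mpr hκ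
  · rw [Category.assoc, hcomm, ← Category.assoc, ← Spec.map_comp, ← CommRingCat.ofHom_comp, hc, CommRingCat.ofHom_comp,
      Spec.map_comp, Category.assoc]
  · rw [CommRingCat.ofHom_comp, Spec.map_comp]
  · exact Groth.Agent.Models.NodePushout.isPullback_node χ0 1 c hχ0
  · let z : Spec (CommRingCat.of A₂) := ⟨RingHom.ker χ, RingHom.ker_isPrime _⟩
    refine ⟨z, ?_⟩
    change jX (Spec.map (CommRingCat.ofHom ρ) z) = x
    rw [← hxK]
    congr 1
    refine PrimeSpectrum.ext ?_
    change Ideal.comap ρ (RingHom.ker χ) = RingHom.ker (algebraMap A K)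
    rw [RingHom.comap_ker, hχ]

end Groth.Agent.S1637
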