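-- Proof of statement S2227.
import Groth.Statements.S2227
import Groth.Agent.S1637
import Groth.Agent.Models.NodeCase
import Groth.Agent.Models.SmoothCase

set_option autoImplicit false
universe u
open CategoryTheory AlgebraicGeometry
open Models

namespace Groth.Agent.S2227

theorem isNode_asFiber {X S : Scheme.{u}} (f : X ⟶ S) (s : S) (y : f.fiber s) (x' : X)
    (hx' : f.fiberι s y = x') (h : f x' = s)
    (hy : @Curv2.IsNode (S.residueField s) _ (f.fiber s) ⟨f.fiberToSpecResidueField s⟩ y) :
    @Curv2.IsNode (S.residueField (f.base x')) _ (f.fiber (f.base x'))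
      ⟨f.fiberToSpecResidueField (f.base x')⟩ (f.asFiber x') := by
  subst h
  have : y = f.asFiber x' := by
    apply (f.fiberι (f x')).isEmbedding.injective
    rw [Scheme.Hom.fiberι_asFiber, hx']
  rw [← this]
  exact hy

/-- Stacks Tag 0CDD. Let R be a discrete valuation ring with uniformizer pi and X -> Spec R an at-worst-nodal family of
relative dimension one. For every point x of X lying over the closed point of Spec R there are: a discrete
valuation ring R' with an etale ring map R -> R' sending pi to a uniformizer, a scheme U with an etale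
morphism U -> X whose image contains x, and an etale morphism from U to Spec of R'[u, v]/(u v - h),
compatible with the maps to Spec R, where h is either 0 or a power of pi. (Etaleness of U -> Spec A is part of
the statement here; the source's display leaves it implicit.) -/
theorem result (R : Type u) [CommRing R] [IsDomain R]
    [IsDiscreteValuationRing R] (ϖ : R) (hϖ : Irreducible ϖ) (X : Scheme.{u})
    (p : X ⟶ Spec (CommRingCat.of R)) (hp : Curv2.IsNodalFamily p) (x : X)
    (hx : p.base x = IsLocalRing.closedPoint R) :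
    ∃ (R' : Type u) (_ : CommRing R') (_ : IsDomain R') (_ : IsDiscreteValuationRing R')
      (_ : Algebra R R') (_ : Algebra.Etale R R') (_ : Irreducible (algebraMap R R' ϖ))
      (h : MvPolynomial (Fin 2) R') (_ : h = 0 ∨ ∃ n : ℕ, h = MvPolynomial.C (algebraMap R R' ϖ ^ n))
      (U : Scheme.{u}) (e : U ⟶ X) (_ : Etale e) (x' : U) (_ : e.base x' = x)
      (g : U ⟶ Spec (CommRingCat.of (MvPolynomial (Fin 2) R' ⧸
        Ideal.span {MvPolynomial.X 0 * MvPolynomial.X 1 - h}))) (_ : Etale g),
      g ≫ Spec.map (CommRingCat.ofHom ((Ideal.Quotient.mk _).comp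
          (MvPolynomial.C.comp (algebraMap R R')))) = e ≫ p := by
  have hp' := hp
  obtain ⟨hflat, hlfp, hfib⟩ := hp
  obtain ⟨hdim, hnod⟩ := hfib (p x)
  have hft : LocallyOfFiniteType (p.fiberToSpecResidueField (p x)) :=
    MorphismProperty.pullback_snd _ _ inferInstance
  have hJ := LocallyOfFiniteType.jacobsonSpace (p.fiberToSpecResidueField (p x))
  obtain ⟨y, hycl, hy⟩ : ∃ y : p.fiber (p x), IsClosed ({y} : Set (p.fiber (p x))) ∧
      p.asFiber x ⤳ y := by
    have h1 := JacobsonSpace.closure_inter_closedPoints
      (isClosed_closure (s := ({p.asFiber x} : Set (p.fiber (p x)))))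
    have h2 : (closure ({p.asFiber x} : Set (p.fiber (p x))) ∩
        closedPoints (p.fiber (p x))).Nonempty := by
      rw [← closure_nonempty_iff, h1]
      exact ⟨p.asFiber x, subset_closure rfl⟩
    obtain ⟨y, hy1, hy2⟩ := h2
    exact ⟨y, hy2, specializes_iff_mem_closure.mpr hy1⟩
  have hxy : x ⤳ p.fiberι (p x) y := by
    have h1 := hy.map (p.fiberι (p x)).continuous
    rwa [Scheme.Hom.fiberι_asFiber] at h1
  rcases hnod y hycl with ⟨U, hyU, hU⟩ | hnode
  · exact Models.SmoothCase.smooth_case ϖ hϖ p (p x) y hdim U hyU hU x hxy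
  · have hfy : p (p.fiberι (p x) y) = p x := by
      have h1 : p.fiberι (p x) y ∈ Set.range (p.fiberι (p x)) := ⟨y, rfl⟩
      rw [Scheme.Hom.range_fiberι] at h1
      exact h1
    have hnode' := isNode_asFiber p (p x) y _ rfl hfy hnode
    obtain ⟨U, V, W, gU, gV, pp, e, q, h, r, hgU, hgV, he, h1, h2, h3, h4⟩ :=
      Groth.Agent.S1637.result p hp' (p.fiberι (p x) y) hnode'
    have h5 : x ∈ Set.range gU := by
      have ho : IsOpen (Set.range gU) := gU.isOpenMap.isOpen_range
      exact hxy.mem_open ho h4
    exact Models.NodeCase.node_case ϖ hϖ p x hx U V W gU gV pp e q h r hgU hgV he h1 h2 h3 h5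

end Groth.Agent.S2227
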