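import Groth.Statements.S1592
import Groth.Agent.CurvesB.NodalEtale

set_option autoImplicit false
universe u
open CategoryTheory CategoryTheory.Limits AlgebraicGeometry
open Curves

namespace Groth.Agent.S1592

/-- Stacks Tag 0C5C: if f : X → S is at-worst-nodal of relative dimension one and g : Y → X is étale, then g ≫ f is at-worst-nodal of relative dimension one. -/
theorem result {X Y S : Scheme.{u}} (f : X ⟶ S) (hf : Curv2.IsNodalFamily f) (g : Y ⟶ X) [Etale g] :
    Curv2.IsNodalFamily (g ≫ f) := by
  exact Groth.Agent.CurvesB.NodalEtale.isNodalFamily_precomp_etale f g hf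

end Groth.Agent.S1592
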