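import Groth.Statements.S0887
import Groth.Agent.S0944
import Groth.Agent.Dcoh.StrPerf

set_option autoImplicit false
universe u
open CategoryTheory
attribute [local instance] HasDerivedCategory.standard
open DCoh

namespace Groth.Agent.S0887

open AlgebraicGeometry CategoryTheory.Pretriangulated CategoryTheory.Limits in
open Groth.Agent.Dcoh.LocalD Groth.Agent.Dcoh.StrPerf in
/-- In a distinguished triangle, if the first two vertices are represented by strictly perfect complexes,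
the third is perfect. -/
theorem isPerfect_obj₃_of_strPerf {X : Scheme.{u}} (T : Triangle (DCoh.D X))
    (hT : T ∈ distinguishedTriangles) (h1 : StrPerf X T.obj₁) (h2 : StrPerf X T.obj₂) :
    DCoh.IsPerfect T.obj₃ := by
  obtain ⟨E, hE, ⟨e₁⟩⟩ := h1
  obtain ⟨F, hF, ⟨e₂⟩⟩ := h2
  rw [isPerfect_iff_locally]
  intro x
  obtain ⟨V, hx, hV⟩ := Groth.Agent.S0944.result hE (e₁.inv ≫ T.mor₁ ≫ e₂.hom) x
  obtain ⟨β, hβ⟩ := hV
  refine ⟨V, hx, ?_⟩
  have hT' := (DCoh.restrictD V.ι).map_distinguished T hT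
  refine strPerf_obj₃ _ hT' (isStrictlyPerfect_restrict V.ι hE) (isStrictlyPerfect_restrict V.ι hF) β
    ((DCoh.restrictD V.ι).mapIso e₁ ≪≫ QRestrict V.ι E)
    ((DCoh.restrictD V.ι).mapIso e₂ ≪≫ QRestrict V.ι F) ?_
  have h3 : (DCoh.restrictD V.ι).map (e₁.inv ≫ T.mor₁ ≫ e₂.hom) ≫ (QRestrict V.ι F).hom =
      (QRestrict V.ι E).hom ≫ DerivedCategory.Q.map β := by
    rw [hβ]
    simp [QRestrict]
  change (DCoh.restrictD V.ι).map T.mor₁ ≫ (DCoh.restrictD V.ι).map e₂.hom ≫ (QRestrict V.ι F).hom =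
    ((DCoh.restrictD V.ι).map e₁.hom ≫ (QRestrict V.ι E).hom) ≫ DerivedCategory.Q.map β
  rw [Category.assoc, ← h3, ← Category.assoc, ← Category.assoc, ← Functor.map_comp, ← Functor.map_comp]
  simp

open AlgebraicGeometry CategoryTheory.Pretriangulated CategoryTheory.Limits in
open Groth.Agent.Dcoh.LocalD Groth.Agent.Dcoh.StrPerf in
theorem isPerfect_obj₃ {X : Scheme.{u}} (T : Triangle (DCoh.D X))
    (hT : T ∈ distinguishedTriangles) (h1 : DCoh.IsPerfect T.obj₁) (h2 : DCoh.IsPerfect T.obj₂) :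
    DCoh.IsPerfect T.obj₃ := by
  refine isPerfect_of_cover fun x => ?_
  obtain ⟨V, hx, hV1, hV2⟩ := locally_and isStable_strPerf isStable_strPerf
    ((isPerfect_iff_locally _).1 h1) ((isPerfect_iff_locally _).1 h2) x
  exact ⟨V, V.ι, inferInstance, by simpa using hx,
    isPerfect_obj₃_of_strPerf _ ((DCoh.restrictD V.ι).map_distinguished T hT) hV1 hV2⟩

open AlgebraicGeometry CategoryTheory.Pretriangulated in
/-- Stacks Tag 08CR (stated for schemes; the source treats ringed spaces): in a distinguished triangle K -> L -> M -> K[1] of D(O_X), perfectness of any two of the three objects forces perfectness of the remaining one. -/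
theorem result {X : Scheme.{u}} (T : Triangle (DCoh.D X))
    (hT : T ∈ distinguishedTriangles) :
    (DCoh.IsPerfect T.obj₁ → DCoh.IsPerfect T.obj₂ → DCoh.IsPerfect T.obj₃) ∧
    (DCoh.IsPerfect T.obj₁ → DCoh.IsPerfect T.obj₃ → DCoh.IsPerfect T.obj₂) ∧
    (DCoh.IsPerfect T.obj₂ → DCoh.IsPerfect T.obj₃ → DCoh.IsPerfect T.obj₁) := by
  refine ⟨isPerfect_obj₃ T hT, fun h1 h3 => ?_, fun h2 h3 => ?_⟩
  · exact isPerfect_obj₃ _ (inv_rot_of_distTriang _ hT)
      (Groth.Agent.Dcoh.StrPerf.isPerfect_shift h3 (-1)) h1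
  · exact Groth.Agent.Dcoh.StrPerf.isPerfect_of_shift (1 : ℤ)
      (isPerfect_obj₃ _ (rot_of_distTriang _ hT) h2 h3)

end Groth.Agent.S0887
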