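import Groth.Statements.S1034
import Groth.Agent.Cohder.TelescopeSeq
import Groth.Agent.Cohder.TelescopeMap

set_option autoImplicit false
universe v v' u u'
open CategoryTheory CategoryTheory.Limits
open DerLim

namespace Groth.Agent.S1034

open Groth.Agent.Cohder Groth.Agent.Cohder.Telescope Groth.Agent.Cohder.TelescopeMap
  Groth.Agent.Cohder.TelescopeSeq

lemma mono_map_id_sub_shiftMap {D : Type u} [Category.{v} D] [Preadditive D]
    [HasColimitsOfShape (Discrete ℕ) D]
    {A : Type u'} [Category.{v'} A] [Abelian A] [HasColimitsOfShape ℕ A] [HasExactColimitsOfShape ℕ A]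
    (G : D ⥤ A) [G.Additive] [PreservesColimitsOfShape (Discrete ℕ) G]
    (K : ℕ → D) (f : ∀ n, K n ⟶ K (n + 1)) :
    Mono (G.map (𝟙 (∐ K) - DerLim.shiftMap K f)) := by
  have := hasCoproduct_map G K
  have := mono_id_sub_shiftMap (fun n => G.obj (K n)) (fun n => G.map (f n))
  have h : G.map (𝟙 (∐ K) - DerLim.shiftMap K f) = (coprodIso G K).hom ≫
      (𝟙 (∐ fun n => G.obj (K n)) -
        DerLim.shiftMap (fun n => G.obj (K n)) (fun n => G.map (f n))) ≫ (coprodIso G K).inv := by
    rw [id_sub_shiftMap_coprodIso_inv, Iso.hom_inv_id_assoc]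
  rw [h]
  infer_instance

open CategoryTheory.Pretriangulated in
/-- Stacks Tag 0CRK: let D be a pretriangulated category with countable direct sums, A an abelian category with exact colimits of shape ℕ, and H : D ⥤ A a homological functor that preserves countable direct sums. If L (with maps iₙ : Kₙ ⟶ L) is a homotopy colimit of a system (Kₙ, fₙ), then H(L) is the colimit of the H(Kₙ): there is an isomorphism colimₙ H(Kₙ) ≅ H(L) compatible with the maps H(iₙ). -/
theorem result {D : Type u} [Category.{v} D] [Preadditive D] [Limits.HasZeroObject D] [HasShift D ℤ]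
    [∀ n : ℤ, (shiftFunctor D n).Additive] [Pretriangulated D] [IsTriangulated D] [HasColimitsOfShape (Discrete ℕ) D]
    {A : Type u'} [Category.{v'} A] [Abelian A] [HasColimitsOfShape ℕ A] [HasExactColimitsOfShape ℕ A]
    (H : D ⥤ A) [H.IsHomological] [PreservesColimitsOfShape (Discrete ℕ) H]
    (K : ℕ → D) (f : ∀ n, K n ⟶ K (n + 1)) (L : D) (i : ∀ n, K n ⟶ L) (hL : DerLim.IsHocolim K f L i) :
    ∃ e : colimit (Functor.ofSequence (fun n => H.map (f n))) ≅ H.obj L,
      ∀ n : ℕ, colimit.ι (Functor.ofSequence (fun n => H.map (f n))) n ≫ e.hom = H.map (i n) := by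
  obtain ⟨c, hc⟩ := hL
  have := hasCoproduct_map H K
  have hm : Mono (H.map ((shiftFunctor D (1 : ℤ)).map (𝟙 (∐ K) - DerLim.shiftMap K f))) :=
    mono_map_id_sub_shiftMap (shiftFunctor D (1 : ℤ) ⋙ H) K f
  -- exactness of the long exact sequence at three places
  have ex₂ := H.map_distinguished_exact _ hc
  have ex₃ := H.map_distinguished_exact _ (rot_of_distTriang _ hc)
  have hc0 : H.map c = 0 := by
    have h0 : c ≫ (shiftFunctor D (1 : ℤ)).map (𝟙 (∐ K) - DerLim.shiftMap K f) = 0 :=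
      comp_distTriang_mor_zero₃₁ _ hc
    rw [← cancel_mono (H.map ((shiftFunctor D (1 : ℤ)).map (𝟙 (∐ K) - DerLim.shiftMap K f))),
      ← Functor.map_comp, h0, Functor.map_zero, zero_comp]
  have hepi : Epi (H.map (Sigma.desc i)) := ex₃.epi_f hc0
  have hcomm : (𝟙 (∐ fun n => H.obj (K n)) -
      DerLim.shiftMap (fun n => H.obj (K n)) (fun n => H.map (f n))) ≫ (coprodIso H K).inv =
      (coprodIso H K).inv ≫ H.map (𝟙 (∐ K) - DerLim.shiftMap K f) :=
    id_sub_shiftMap_coprodIso_inv H K f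
  let q : (∐ fun n => H.obj (K n)) ⟶ H.obj L := (coprodIso H K).inv ≫ H.map (Sigma.desc i)
  have hq : ∀ n, Sigma.ι (fun n => H.obj (K n)) n ≫ q = H.map (i n) := fun n => by
    refine (ι_coprodIso_inv_assoc H K n _).trans ?_
    rw [← Functor.map_comp, Sigma.ι_desc]
  have hmap0 : H.map (𝟙 (∐ K) - DerLim.shiftMap K f) ≫ H.map (Sigma.desc i) = 0 := by
    rw [← Functor.map_comp]
    exact (congrArg H.map (comp_distTriang_mor_zero₁₂ _ hc)).trans (Functor.map_zero H _ _)
  have hq0 : (𝟙 (∐ fun n => H.obj (K n)) -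
      DerLim.shiftMap (fun n => H.obj (K n)) (fun n => H.map (f n))) ≫ q = 0 := by
    change _ ≫ (coprodIso H K).inv ≫ H.map (Sigma.desc i) = 0
    rw [reassoc_of% hcomm, hmap0, comp_zero]
  let k : H.obj (∐ K) ⟶ colimSeq (fun n => H.map (f n)) :=
    (coprodIso H K).hom ≫ Sigma.desc (ιSeq (fun n => H.map (f n)))
  have hk : H.map (𝟙 (∐ K) - DerLim.shiftMap K f) ≫ k = 0 := by
    rw [← cancel_epi (coprodIso H K).inv, comp_zero]
    change (coprodIso H K).inv ≫ _ ≫ (coprodIso H K).hom ≫ _ = 0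
    rw [← reassoc_of% hcomm, Iso.inv_hom_id_assoc]
    exact seq_w (fun n => H.map (f n))
  let d : colimSeq (fun n => H.map (f n)) ⟶ H.obj L := descSeq' _ q hq0
  have hd : ∀ n, ιSeq (fun n => H.map (f n)) n ≫ d = H.map (i n) := fun n =>
    (ι_descSeq' _ q hq0 n).trans (hq n)
  have hT : Epi ((ShortComplex.map (shortComplexOfDistTriangle _ hc) H).g) := hepi
  let r : H.obj L ⟶ colimSeq (fun n => H.map (f n)) := ex₂.desc k hk
  have hr : H.map (Sigma.desc i) ≫ r = k := ex₂.g_desc k hk
  refine ⟨⟨d, r, ?_, ?_⟩, hd⟩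
  · apply seq_hom_ext
    intro n
    rw [reassoc_of% (hd n), Category.comp_id, ← Sigma.ι_desc i n, Functor.map_comp, Category.assoc,
      hr]
    change _ ≫ (coprodIso H K).hom ≫ _ = _
    rw [map_ι_coprodIso_hom_assoc, Sigma.ι_desc]
  · rw [← cancel_epi (H.map (Sigma.desc i)), reassoc_of% hr, Category.comp_id]
    change ((coprodIso H K).hom ≫ Sigma.desc (ιSeq (fun n => H.map (f n)))) ≫ d = _
    rw [Category.assoc, ← Iso.eq_inv_comp]
    exact π_descSeq' _ q hq0

end Groth.Agent.S1034
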