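import Groth.Statements.S1035
import Groth.Agent.PerfB.PushAcyc
import Groth.Agent.PerfB.AcycPre
import Groth.Agent.PerfB.DQGeom
import Groth.Agent.PerfA.HypBound
import Groth.Agent.PerfA.HypAffine
import Groth.Agent.PerfA.QCohRes

set_option autoImplicit false
universe u
open CategoryTheory CategoryTheory.Limits AlgebraicGeometry
attribute [local instance] HasDerivedCategory.standard
open Perf

namespace Groth.Agent.S1035

/-- Stacks Tag 0G9N: let f : X ⟶ S be quasi-compact and quasi-separated and F a cochain complex whose terms are quasi-coherent O_X-modules that are right acyclic for f_* (the higher direct images Rⁱf_*Fⁿ vanish for i > 0; computed with injective resolutions, whose existence is assumed as an instance). Assuming Rf_* exists on the unbounded derived category, the canonical map f_*F ⟶ Rf_*F in D(O_S) is an isomorphism. -/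
theorem result {X S : Scheme.{u}} (f : X ⟶ S) [QuasiCompact f] [QuasiSeparated f]
    [HasInjectiveResolutions X.Modules] [DCoh.HasRpush f]
    (F : CochainComplex X.Modules ℤ) (hq : ∀ n : ℤ, Coh.IsQCoh (F.X n))
    (hac : ∀ (n : ℤ) (i : ℕ), 0 < i → IsZero ((Coh.Rpush f i).obj (F.X n))) :
    IsIso (((DCoh.pushKh f).totalRightDerivedUnit DerivedCategory.Qh (HomotopyCategory.quasiIso X.Modules (ComplexShape.up ℤ))).app
      ((HomotopyCategory.quotient X.Modules (ComplexShape.up ℤ)).obj F)) := by
  obtain ⟨I, s, hI, hs⟩ := Groth.Agent.PerfA.QCohRes.exists_resolution X F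
  have hgood : ∀ V : S.Opens, IsAffineOpen V →
      Groth.Agent.PerfB.StupidK.good (Groth.Agent.PerfA.ExtZero.OU (f ⁻¹ᵁ V))
        ((HomotopyCategory.quotient X.Modules _).obj F) := by
    intro V hV
    obtain ⟨N, hN⟩ := Groth.Agent.PerfA.HypBound.exists_bound (f ⁻¹ᵁ V)
      (QuasiCompact.isCompact_preimage (f := f) V.1 V.2 hV.isCompact)
      (f.isQuasiSeparated_preimage hV.isQuasiSeparated)
    refine Groth.Agent.PerfB.StupidK.good_of_bound F (fun i => ?_) N (fun n m hnm φ => ?_)
    · exact fun a b hab φ => Groth.Agent.PerfB.AcycPre.hom_single_preimage_eq_zero f (F.X i) (hq i)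
        (hac i) V hV a b hab φ
    · have hQ : DCoh.IsQCohD (DerivedCategory.Q.obj (Groth.Agent.PerfB.StupidK.quo F n)) := by
        refine Groth.Agent.PerfB.DQGeom.isQCohD_Q_of_terms _ fun i => ?_
        by_cases hi : i < n
        · exact Groth.Agent.PerfA.QCohSerre.isQCoh_of_iso
            (Groth.Agent.PerfB.StupidK.quoXIso F hi).symm (hq i)
        · exact Groth.Agent.PerfA.QCohSerre.isQCoh_of_isZero
            (Groth.Agent.PerfB.StupidK.isZero_quo_X F (not_lt.1 hi))
      have hLE : (DerivedCategory.Q.obj (Groth.Agent.PerfB.StupidK.quo F n)).IsLE n := by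
        have : (Groth.Agent.PerfB.StupidK.quo F n).IsStrictlyLE n := by
          rw [CochainComplex.isStrictlyLE_iff]
          intro i hi
          exact Groth.Agent.PerfB.StupidK.isZero_quo_X F hi.le
        infer_instance
      exact hN _ (fun m U hU => Groth.Agent.PerfA.HypAffine.toHD_bijective _ hQ U hU m) n hLE m
        hnm φ
  have hqis := Groth.Agent.PerfB.PushAcyc.quasiIso_push f s hgood
  let α := (DCoh.pushKh f).totalRightDerivedUnit DerivedCategory.Qh
    (HomotopyCategory.quasiIso X.Modules (ComplexShape.up ℤ))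
  have h1 : IsIso (α.app ((HomotopyCategory.quotient X.Modules (ComplexShape.up ℤ)).obj I)) :=
    Groth.Agent.Dcoh.DerHo.isIso_unit_app' (Groth.Agent.PerfA.QCohRes.exists_resolution X) _ α I hI
  have h2 := α.naturality ((HomotopyCategory.quotient X.Modules (ComplexShape.up ℤ)).map s)
  have h3 : IsIso ((DCoh.pushKh f).map
      ((HomotopyCategory.quotient X.Modules (ComplexShape.up ℤ)).map s)) :=
    inferInstanceAs (IsIso (DerivedCategory.Q.map
      (((Scheme.Modules.pushforward f).mapHomologicalComplex (ComplexShape.up ℤ)).map s)))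
  have h4 : IsIso ((DerivedCategory.Qh ⋙ (DCoh.pushKh f).totalRightDerived DerivedCategory.Qh
      (HomotopyCategory.quasiIso X.Modules (ComplexShape.up ℤ))).map
      ((HomotopyCategory.quotient X.Modules (ComplexShape.up ℤ)).map s)) := by
    have : IsIso (DerivedCategory.Qh.map
        ((HomotopyCategory.quotient X.Modules (ComplexShape.up ℤ)).map s)) :=
      inferInstanceAs (IsIso (DerivedCategory.Q.map s))
    exact inferInstanceAs (IsIso (((DCoh.pushKh f).totalRightDerived DerivedCategory.Qh
      (HomotopyCategory.quasiIso X.Modules (ComplexShape.up ℤ))).map (DerivedCategory.Qh.map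
        ((HomotopyCategory.quotient X.Modules (ComplexShape.up ℤ)).map s))))
  have h5 : IsIso (α.app ((HomotopyCategory.quotient X.Modules (ComplexShape.up ℤ)).obj F) ≫
      (DerivedCategory.Qh ⋙ (DCoh.pushKh f).totalRightDerived DerivedCategory.Qh
      (HomotopyCategory.quasiIso X.Modules (ComplexShape.up ℤ))).map
      ((HomotopyCategory.quotient X.Modules (ComplexShape.up ℤ)).map s)) := by
    rw [← h2]
    exact IsIso.comp_isIso
  exact IsIso.of_isIso_comp_right _ ((DerivedCategory.Qh ⋙ (DCoh.pushKh f).totalRightDerived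
    DerivedCategory.Qh (HomotopyCategory.quasiIso X.Modules (ComplexShape.up ℤ))).map
      ((HomotopyCategory.quotient X.Modules (ComplexShape.up ℤ)).map s))

end Groth.Agent.S1035
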