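import Groth.Statements.S1048
import Groth.Agent.PerfB.DQAffDiag
import Groth.Agent.S0997

set_option autoImplicit false
universe u
open CategoryTheory CategoryTheory.Limits AlgebraicGeometry
attribute [local instance] HasDerivedCategory.standard
open Perf

namespace Groth.Agent.S1048

/-- Stacks Tag 08DB: let the scheme X be quasi-compact with affine diagonal (intersections of affine opens are affine). Granting that quasi-coherent modules contain zero and are closed under kernels, cokernels and finite products in all O_X-modules, with exact inclusion (true facts, carried as instance hypotheses; they make QCoh(O_X) an abelian category), the induced functor D(QCoh(O_X)) ⥤ D(O_X) is full and faithful, and an object of D(O_X) lies in its essential image if and only if its cohomology sheaves are quasi-coherent. -/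
theorem result (X : Scheme.{u}) [CompactSpace ↥X]
    (hdiag : ∀ U V : X.Opens, IsAffineOpen U → IsAffineOpen V → IsAffineOpen (U ⊓ V))
    [ObjectProperty.ContainsZero (fun M : X.Modules => Coh.IsQCoh M)] [ObjectProperty.IsClosedUnderKernels (fun M : X.Modules => Coh.IsQCoh M)]
    [ObjectProperty.IsClosedUnderCokernels (fun M : X.Modules => Coh.IsQCoh M)] [ObjectProperty.IsClosedUnderFiniteProducts (fun M : X.Modules => Coh.IsQCoh M)]
    [PreservesFiniteLimits (ObjectProperty.ι (fun M : X.Modules => Coh.IsQCoh M))] [PreservesFiniteColimits (ObjectProperty.ι (fun M : X.Modules => Coh.IsQCoh M))] :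
    (ObjectProperty.ι (fun M : X.Modules => Coh.IsQCoh M)).mapDerivedCategory.Full ∧ (ObjectProperty.ι (fun M : X.Modules => Coh.IsQCoh M)).mapDerivedCategory.Faithful ∧
    ∀ K : DCoh.D X, DCoh.IsQCohD K ↔ ∃ M, Nonempty ((ObjectProperty.ι (fun M : X.Modules => Coh.IsQCoh M)).mapDerivedCategory.obj M ≅ K) := by
  classical
  obtain ⟨s, hs⟩ : ∃ s : Finset X.affineOpens, ∀ x : X, ∃ U ∈ s, x ∈ (U : X.Opens) := by
    have h : ∀ x : X, ∃ W : X.Opens, IsAffineOpen W ∧ x ∈ W := fun x => by
      obtain ⟨W, hW, hx, -⟩ := exists_isAffineOpen_mem_and_subset (x := x) (U := ⊤) trivial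
      exact ⟨W, hW, hx⟩
    choose W hW hx using h
    obtain ⟨s, hs⟩ := CompactSpace.elim_nhds_subcover (X := X) (fun x => (W x : Set X))
      (fun x => (W x).isOpen.mem_nhds (hx x))
    refine ⟨s.image fun x => ⟨W x, hW x⟩, fun x => ?_⟩
    have h1 : x ∈ ⋃ x ∈ s, (W x : Set X) := by rw [hs]; trivial
    simp only [Set.mem_iUnion] at h1
    obtain ⟨y, hy, hxy⟩ := h1
    exact ⟨⟨W y, hW y⟩, Finset.mem_image_of_mem _ hy, hxy⟩
  let J := {U : X.affineOpens // U ∈ s}
  let R : J → CommRingCat.{u} := fun U => Γ(X, U.1)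
  let j : ∀ U : J, Spec (R U) ⟶ X := fun U => U.1.2.fromSpec
  have hcov : ∀ x : X, ∃ U : J, x ∈ (j U).opensRange := by
    intro x
    obtain ⟨U, hU, hx⟩ := hs x
    refine ⟨⟨U, hU⟩, ?_⟩
    dsimp only [j]
    rw [IsAffineOpen.opensRange_fromSpec]
    exact hx
  refine Groth.Agent.PerfB.DQGeom.main R j hcov (fun i => ?_)
    (fun i N => Groth.Agent.PerfB.DQAffDiag.isQCoh_push (j i) hdiag N) (fun i N => ?_)
  · obtain ⟨h1, h2, h3⟩ := Groth.Agent.S0997.result (R i)
    exact ⟨h1, h2, fun K hK => (h3 K).1 hK⟩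
  · exact ⟨DerivedCategory.Q.objPreimage N, ⟨DerivedCategory.Q.objObjPreimageIso N⟩,
      Groth.Agent.PerfB.DQAffDiag.adapted_sFun (j i) hdiag _ _,
      Groth.Agent.PerfB.DQAffDiag.adapted_tilde (j i) hdiag _⟩

end Groth.Agent.S1048
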