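import Groth.Statements.S2107
import Groth.Agent.FlatA.FibreCrit
import Groth.Agent.FlatA.FibreCrit2
import Groth.Agent.Flat2A.ModInj

set_option autoImplicit false
universe u
open CAlg


namespace Groth.Agent.S2107

open TensorProduct IsLocalRing

theorem essFiniteType {R S : Type u} [CommRing R] [CommRing S] [Algebra R S]
    (h : CAlgX.IsEssFinitePresentation R S) : Algebra.EssFiniteType R S := by
  obtain ⟨S₀, _, _, _, _, M, hfp, hloc⟩ := h
  have h1 : Algebra.EssFiniteType S₀ S := Algebra.EssFiniteType.of_isLocalization S M
  exact Algebra.EssFiniteType.comp R S₀ S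

/-- membership in `I N` as an `R`-module and in `IS N` as an `S`-module. -/
theorem mem_smul_top_iff {R S N : Type u} [CommRing R] [CommRing S] [Algebra R S]
    [AddCommGroup N] [Module S N] [Module R N] [IsScalarTower R S N] (I : Ideal R) (x : N) :
    x ∈ I.map (algebraMap R S) • (⊤ : Submodule S N) ↔ x ∈ I • (⊤ : Submodule R N) := by
  have h := Ideal.smul_top_eq_map (R := R) (S := S) I
  constructor
  · intro hx
    refine Submodule.smul_induction_on hx ?_ (fun a b ha hb => Submodule.add_mem _ ha hb)
    intro s hs n _
    refine Submodule.span_induction (p := fun s _ => s • n ∈ I • (⊤ : Submodule R N)) ?_ ?_ ?_ ?_ hs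
    · rintro _ ⟨r, hr, rfl⟩
      rw [algebraMap_smul]
      exact Submodule.smul_mem_smul hr trivial
    · simp
    · intro a b _ _ ha hb
      rw [add_smul]
      exact Submodule.add_mem _ ha hb
    · intro a b _ hb
      rw [smul_eq_mul, mul_smul]
      refine Submodule.smul_induction_on hb ?_ ?_
      · intro r hr m _
        rw [smul_comm]
        exact Submodule.smul_mem_smul hr trivial
      · intro m m' hm hm'
        rw [smul_add]
        exact Submodule.add_mem _ hm hm'
  · intro hx
    refine Submodule.smul_induction_on hx ?_ (fun a b ha hb => Submodule.add_mem _ ha hb)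
    intro r hr n _
    rw [← algebraMap_smul S r n]
    exact Submodule.smul_mem_smul (Ideal.mem_map_of_mem _ hr) trivial

/-- Stacks Tag 046Y: let `R → S` be a local homomorphism of local rings with `S` essentially of finite presentation over `R`, `M`, `N` finitely presented
`S`-modules with `N` flat over `R`, and `u : M → N` an `S`-linear map which is injective modulo `𝔪_R`. Then `u` is injective and its cokernel is
flat over `R`. -/
theorem result {R S M N : Type u} [CommRing R] [CommRing S] [IsLocalRing R]
    [IsLocalRing S] [Algebra R S] [IsLocalHom (algebraMap R S)] (hS : CAlgX.IsEssFinitePresentation R S)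
    [AddCommGroup M] [Module S M] [Module R M] [IsScalarTower R S M] [Module.FinitePresentation S M]
    [AddCommGroup N] [Module S N] [Module R N] [IsScalarTower R S N] [Module.FinitePresentation S N] [Module.Flat R N]
    (u : M →ₗ[S] N)
    (hu : ∀ x : M, u x ∈ (IsLocalRing.maximalIdeal R).map (algebraMap R S) • (⊤ : Submodule S N) →
      x ∈ (IsLocalRing.maximalIdeal R).map (algebraMap R S) • (⊤ : Submodule S M)) :
    Function.Injective u ∧ Module.Flat R (N ⧸ LinearMap.range u) := by
  have := essFiniteType hS
  have hinj : Function.Injective ((u.restrictScalars R).lTensor (ResidueField R)) := by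
    change Function.Injective ((u.restrictScalars R).lTensor (R ⧸ maximalIdeal R))
    rw [injective_iff_map_eq_zero]
    intro z hz
    obtain ⟨x, rfl⟩ := TensorProduct.mk_surjective R M (R ⧸ maximalIdeal R)
      Ideal.Quotient.mk_surjective z
    rw [TensorProduct.mk_apply, LinearMap.lTensor_tmul,
      Groth.Agent.FlatA.FibreCrit2.one_tmul_eq_zero_iff] at hz
    rw [TensorProduct.mk_apply, Groth.Agent.FlatA.FibreCrit2.one_tmul_eq_zero_iff,
      ← mem_smul_top_iff (S := S)]
    exact hu x ((mem_smul_top_iff _ _).2 hz)
  obtain ⟨_, h2, _⟩ := Groth.Agent.Flat2A.ModInj.main (N := M) (M := N) u hinj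
  have h3 : ∀ I : Ideal R, (I • (⊤ : Submodule R N)).comap (u.restrictScalars R) ≤
      I • (⊤ : Submodule R M) := by
    intro I x hx
    rw [Submodule.mem_comap, ← Groth.Agent.FlatA.FibreCrit2.one_tmul_eq_zero_iff] at hx
    rw [← Groth.Agent.FlatA.FibreCrit2.one_tmul_eq_zero_iff]
    apply h2 (R ⧸ I)
    rw [LinearMap.lTensor_tmul, hx, map_zero]
  constructor
  · intro x y hxy
    have h4 := h2 R
    have h5 : (1 : R) ⊗ₜ[R] x = 1 ⊗ₜ y := by
      apply h4
      rw [LinearMap.lTensor_tmul, LinearMap.lTensor_tmul]
      exact congrArg _ hxy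
    simpa using congrArg (TensorProduct.lid R M) h5
  · exact Groth.Agent.FlatA.FibreCrit.flat_quotient_range_of_comap_smul_le (u.restrictScalars R) h3

end Groth.Agent.S2107
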