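import Groth.Statements.S1041
import Groth.Agent.PerfB.ExtSupp

set_option autoImplicit false
universe u
open CategoryTheory CategoryTheory.Limits AlgebraicGeometry
attribute [local instance] HasDerivedCategory.standard
open Perf

namespace Groth.Agent.S1041

/-- Stacks Tag 08EK: let X be an affine scheme, T ⊆ X a closed subset with quasi-compact complement, U a quasi-compact open and F a perfect object of D(O_U) whose cohomology sheaves are supported on T ∩ U. Then F ⊕ F[1] extends to X as a perfect complex whose cohomology sheaves are supported on T (through a representing complex restricted termwise; the binary direct sum in D(O_U) is assumed to exist, which it does). -/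
theorem result (X : Scheme.{u}) [IsAffine X] (T : Set X) (hT : IsClosed T) (hTc : IsCompact Tᶜ)
    (U : X.Opens) (hU : IsCompact (U : Set X))
    (F : DCoh.D (U : Scheme.{u})) (hF : DCoh.IsPerfect F)
    (hFT : ∀ i : ℤ, CohB1.support (DCoh.HD F i) ⊆ {x : ↥(U : Scheme.{u}) | U.ι.base x ∈ T}) [HasBinaryBiproduct F (F⟦(1 : ℤ)⟧)] :
    ∃ G : CochainComplex X.Modules ℤ, DCoh.IsPerfect (DCoh.toD X G) ∧ (∀ i : ℤ, CohB1.support (DCoh.HD (DCoh.toD X G) i) ⊆ T) ∧
      Nonempty (DerivedCategory.Q.obj ((DCoh.restrictCx U).obj G) ≅ F ⊞ F⟦(1 : ℤ)⟧) := by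
  obtain ⟨C, hC, hCT, ⟨e⟩⟩ :=
    Groth.Agent.PerfB.ExtSupp.exists_sum_shift_supp X T hT hTc U hU F hF hFT
  obtain ⟨G, ⟨eG⟩⟩ := Groth.Agent.PerfA.Restrict.exists_rep X C
  refine ⟨G, Groth.Agent.PerfA.PerfLocal.isPerfect_of_iso eG.symm hC, fun i => ?_,
    ⟨(Groth.Agent.PerfA.Restrict.restrictDQ U.ι G).symm ≪≫
      (Groth.Agent.PerfA.Restrict.restrictD U.ι).mapIso eG ≪≫ e⟩⟩
  exact (Groth.Agent.PerfC.Supp.supp_congr eG i).trans_subset (hCT i)

end Groth.Agent.S1041
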