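import Groth.Statements.S1549
import Groth.Agent.VarietyA.GeomRedSch
import Mathlib.AlgebraicGeometry.Morphisms.SchemeTheoreticallyDominant

set_option autoImplicit false
universe u
open CategoryTheory CategoryTheory.Limits AlgebraicGeometry
open Variety

namespace Groth.Agent.S1549

/-- Smooth dense open in a reduced locally Noetherian scheme implies geometrically reduced. -/
theorem geometricallyReduced_of_dense (k : Type u) [Field k] {X : Scheme.{u}}
    (f : X ⟶ Spec (CommRingCat.of k)) [IsReduced X] [LocallyOfFiniteType f] (U : X.Opens)
    (hU : Dense (U : Set X)) (hs : Smooth (U.ι ≫ f)) : GeometricallyReduced f := by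
  constructor
  intro K _ y Z fst snd h
  have hXN : IsLocallyNoetherian X := LocallyOfFiniteType.isLocallyNoetherian f
  have hdom : IsDominant U.ι := by
    rw [isDominant_iff, DenseRange, Scheme.Opens.range_ι]
    exact hU
  have hstd : IsSchemeTheoreticallyDominant U.ι := .of_isDominant _
  have hflat : Flat fst := by
    have : Flat y := inferInstance
    exact MorphismProperty.of_isPullback (P := @Flat) h.flip this
  let U' := pullback U.ι fst
  have hU' : IsSchemeTheoreticallyDominant (pullback.snd U.ι fst) := inferInstance
  have hsm : Smooth (pullback.snd U.ι fst ≫ snd) := by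
    have hp : IsPullback (pullback.snd U.ι fst ≫ snd) (pullback.fst U.ι fst) y (U.ι ≫ f) :=
      IsPullback.paste_horiz (IsPullback.of_hasPullback U.ι fst).flip h.flip
    exact MorphismProperty.of_isPullback (P := @Smooth) hp.flip hs
  have hred : IsReduced (pullback U.ι fst) :=
    VarietyA.GeomRedSch.isReduced_of_smooth K (pullback.snd U.ι fst ≫ snd)
  exact IsSchemeTheoreticallyDominant.isReduced (pullback.snd U.ι fst)

/-- Stacks Tag 056V: for a reduced scheme locally of finite type over k, being geometrically reduced is equivalent to having a dense open subscheme that is smooth over k. -/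
theorem result (k : Type u) [Field k] (X : Scheme.{u}) [X.Over (Spec (CommRingCat.of k))] [IsReduced X] [LocallyOfFiniteType (X ↘ (Spec (CommRingCat.of k)))] :
    GeometricallyReduced (X ↘ (Spec (CommRingCat.of k))) ↔ ∃ U : X.Opens, Dense (U : Set X) ∧ Smooth (U.ι ≫ (X ↘ (Spec (CommRingCat.of k)))) := by
  constructor
  · intro h
    refine ⟨(X ↘ (Spec (CommRingCat.of k))).smoothLocus, VarietyA.GeomRedSch.dense_smoothLocus k _, ?_⟩
    rw [← Scheme.Hom.smoothLocus_eq_top_iff, ← Scheme.Hom.preimage_smoothLocus_eq]
    simp
  · rintro ⟨U, hU, hs⟩
    exact geometricallyReduced_of_dense k _ U hU hs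

end Groth.Agent.S1549
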