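import Groth.Statements.S0249
import Mathlib.RingTheory.Spectrum.Prime.LTSeries
-- import your own Groth.Agent.* helpers here

set_option autoImplicit false
universe u
open Pi1

namespace Groth.Agent.S0249

open AlgebraicGeometry CategoryTheory CategoryTheory.Limits in
/-- Stacks Tag 0BJG. Let A be a Noetherian local ring of dimension at least 1 and f an element of its maximal ideal. Then some prime ideal of height exactly 1 contains f. -/
theorem result (A : Type u) [CommRing A] [IsNoetherianRing A] [IsLocalRing A]
    (h : (1 : WithBot ℕ∞) ≤ ringKrullDim A) (f : A) (hf : f ∈ IsLocalRing.maximalIdeal A) :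
    ∃ p : Ideal A, p.IsPrime ∧ f ∈ p ∧ p.height = 1 := by
  have key : ∀ n : ℕ, ∀ p : Ideal A, p.IsPrime → f ∈ p → 1 ≤ p.height → p.height = (n : ℕ∞) →
      ∃ p : Ideal A, p.IsPrime ∧ f ∈ p ∧ p.height = 1 := by
    intro n
    induction n using Nat.strong_induction_on with
    | _ n ih =>
      intro p hp hfp h1 hn
      by_cases hn1 : n = 1
      · exact ⟨p, hp, hfp, by rw [hn, hn1]; rfl⟩
      have h1' : 1 ≤ n := by
        rw [hn] at h1
        exact_mod_cast h1
      obtain ⟨l, hl, hlen⟩ := Ideal.exists_ltSeries_length_eq_height p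
      rw [hn] at hlen
      have hlen' : l.length = n := by exact_mod_cast hlen
      obtain ⟨q, hfq, hq1, hq2, hq3⟩ := PrimeSpectrum.exist_ltSeries_mem_one_of_mem_last l (x := f)
        (by rw [hl]; exact hfp)
      have hqlen : q.length = n := by omega
      have hlast : q.last = ⟨p, hp⟩ := by rw [← hq3, hl]
      have hone : (1 : Fin (q.length + 1)) < Fin.last q.length := by
        have : ((1 : Fin (q.length + 1)) : ℕ) = 1 := by
          rw [Fin.val_one', Nat.mod_eq_of_lt]; omega
        rw [Fin.lt_def, Fin.val_last, this]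
        omega
      have hzero : (0 : Fin (q.length + 1)) < 1 := by
        have : ((1 : Fin (q.length + 1)) : ℕ) = 1 := by
          rw [Fin.val_one', Nat.mod_eq_of_lt]; omega
        rw [Fin.lt_def, this]
        simp
      have h01 : q 0 < q 1 := q.strictMono hzero
      have h1l : q 1 < q.last := q.strictMono hone
      have hlt : (q 1).asIdeal < p := by
        rw [hlast] at h1l
        exact h1l
      have hh := Ideal.height_add_one_le_of_lt_of_isPrime (I := (q 0).asIdeal) (J := (q 1).asIdeal) h01
      have hh2 := Ideal.height_add_one_le_of_lt_of_isPrime (I := (q 1).asIdeal) (J := p) hlt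
      have h1q : 1 ≤ (q 1).asIdeal.height := le_trans (by simp) hh
      have hfin : (q 1).asIdeal.height ≠ ⊤ := Ideal.height_ne_top_of_isPrime
      obtain ⟨m, hm⟩ := ENat.ne_top_iff_exists.mp hfin
      rw [← hm, hn] at hh2
      exact ih m (by
        have : m + 1 ≤ n := by exact_mod_cast hh2
        omega) (q 1).asIdeal (q 1).isPrime hfq h1q hm.symm
  have hmax : (IsLocalRing.maximalIdeal A).height ≠ ⊤ := Ideal.height_ne_top_of_isPrime
  obtain ⟨m, hm⟩ := ENat.ne_top_iff_exists.mp hmax
  refine key m (IsLocalRing.maximalIdeal A) inferInstance hf ?_ hm.symm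
  rw [← IsLocalRing.maximalIdeal_height_eq_ringKrullDim] at h
  exact_mod_cast h

end Groth.Agent.S0249
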