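import Groth.Statements.S2195
import Mathlib.RingTheory.Smooth.Fiber
import Mathlib.RingTheory.Unramified.Finite
import Mathlib.LinearAlgebra.Matrix.NonsingularInverse
import Mathlib.RingTheory.Finiteness.ModuleFinitePresentation

set_option autoImplicit false
universe u v
open Disc

namespace Groth.Agent.S2195

open TensorProduct

section

variable {A : Type u} {B : Type v} [CommRing A] [CommRing B]
    [Algebra A B] {ι : Type} [Fintype ι] [DecidableEq ι] (b : Module.Basis ι A B)

/-- If the discriminant is a unit, a separability idempotent exists. -/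
theorem exists_elem (h : IsUnit (Algebra.discr A b)) :
    ∃ t : B ⊗[A] B, (∀ s, ((1 : B) ⊗ₜ[A] s - s ⊗ₜ[A] (1 : B)) * t = 0) ∧
      Algebra.TensorProduct.lmul' A t = 1 := by
  set M : Matrix ι ι A := Algebra.traceMatrix A b with hM
  have hdet : IsUnit M.det := h
  have hMN : M * M⁻¹ = 1 := Matrix.mul_nonsing_inv _ hdet
  have hNM : M⁻¹ * M = 1 := Matrix.nonsing_inv_mul _ hdet
  have hMe : ∀ i j, M i j = Algebra.trace A B (b i * b j) := fun i j => by
    rw [hM, Algebra.traceMatrix_apply, Algebra.traceForm_apply]
  let c : ι → B := fun j => ∑ i, M⁻¹ i j • b i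
  have hbc : ∀ k j, Algebra.trace A B (b k * c j) = if k = j then 1 else 0 := by
    intro k j
    have : (M * M⁻¹) k j = if k = j then 1 else 0 := by rw [hMN, Matrix.one_apply]
    rw [← this, Matrix.mul_apply]
    simp only [c, Finset.mul_sum, map_sum, mul_smul_comm, map_smul, smul_eq_mul]
    exact Finset.sum_congr rfl fun i _ => by rw [hMe, mul_comm]
  have exp1 : ∀ x : B, ∑ j, Algebra.trace A B (x * c j) • b j = x := by
    intro x
    conv_rhs => rw [← b.sum_repr x]
    refine Finset.sum_congr rfl fun j _ => ?_
    congr 1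
    conv_lhs => rw [← b.sum_repr x]
    simp only [Finset.sum_mul, map_sum, smul_mul_assoc, map_smul, hbc, smul_eq_mul, mul_ite,
      mul_one, mul_zero, Finset.sum_ite_eq', Finset.mem_univ, if_true]
  have exp2 : ∀ x : B, ∑ j, Algebra.trace A B (x * b j) • c j = x := by
    have hbk : ∀ k, ∑ j, Algebra.trace A B (b k * b j) • c j = b k := by
      intro k
      simp only [c, Finset.smul_sum, smul_smul]
      rw [Finset.sum_comm]
      have : ∀ i, ∑ j, (Algebra.trace A B (b k * b j) * M⁻¹ i j) • b i =
          (if i = k then (1 : A) else 0) • b i := by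
        intro i
        rw [← Finset.sum_smul]
        congr 1
        have h1 : (M⁻¹ * M) i k = if i = k then 1 else 0 := by rw [hNM, Matrix.one_apply]
        rw [← h1, Matrix.mul_apply]
        exact Finset.sum_congr rfl fun j _ => by rw [hMe, mul_comm, mul_comm (b k)]
      rw [Finset.sum_congr rfl fun i _ => this i]
      simp
    intro x
    conv_rhs => rw [← b.sum_repr x]
    conv_lhs => rw [← b.sum_repr x]
    simp only [Finset.sum_mul, map_sum, smul_mul_assoc, map_smul, Finset.sum_smul, smul_assoc]
    rw [Finset.sum_comm]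
    refine Finset.sum_congr rfl fun k _ => ?_
    rw [← Finset.smul_sum, hbk]
  refine ⟨∑ j, b j ⊗ₜ[A] c j, ?_, ?_⟩
  · intro s
    rw [sub_mul, sub_eq_zero, Finset.mul_sum, Finset.mul_sum]
    simp only [Algebra.TensorProduct.tmul_mul_tmul, one_mul]
    have h1 : ∀ j, (s * b j) ⊗ₜ[A] c j =
        ∑ k, Algebra.trace A B (s * b j * c k) • (b k ⊗ₜ[A] c j) := by
      intro j
      conv_lhs => rw [← exp1 (s * b j)]
      rw [TensorProduct.sum_tmul]
      exact Finset.sum_congr rfl fun k _ => by rw [TensorProduct.smul_tmul']
    have h2 : ∀ k, b k ⊗ₜ[A] (s * c k) =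
        ∑ j, Algebra.trace A B (s * c k * b j) • (b k ⊗ₜ[A] c j) := by
      intro k
      conv_lhs => rw [← exp2 (s * c k)]
      rw [TensorProduct.tmul_sum]
      exact Finset.sum_congr rfl fun j _ => by rw [TensorProduct.tmul_smul]
    rw [Finset.sum_congr rfl fun j _ => h1 j, Finset.sum_congr rfl fun j _ => h2 j,
      Finset.sum_comm]
    refine Finset.sum_congr rfl fun k _ => Finset.sum_congr rfl fun j _ => ?_
    rw [mul_assoc, mul_assoc, mul_comm (b k) (c j)]
  · rw [map_sum]
    simp only [Algebra.TensorProduct.lmul'_apply_tmul]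
    set y : B := ∑ j, b j * c j with hy
    have hrepr : ∀ x : B, ∀ j, b.repr x j = Algebra.trace A B (x * c j) := by
      intro x j
      conv_lhs => rw [← exp1 x]
      rw [map_sum, Finsupp.finsetSum_apply]
      simp [Finsupp.single_apply]
    have htr : ∀ x : B, Algebra.trace A B (x * y) = Algebra.trace A B x := by
      intro x
      rw [Algebra.trace_eq_matrix_trace b x, Matrix.trace, hy, Finset.mul_sum, map_sum]
      refine Finset.sum_congr rfl fun j _ => ?_
      rw [Matrix.diag_apply, Algebra.leftMulMatrix_eq_repr_mul, hrepr, mul_assoc]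
    rw [← exp1 y, ← exp1 1]
    refine Finset.sum_congr rfl fun j _ => ?_
    rw [mul_comm y, htr, one_mul]

include b in
/-- If a separability idempotent exists, the trace form is perfect. -/
theorem exists_trace_repr (t : B ⊗[A] B)
    (ht : ∀ s, ((1 : B) ⊗ₜ[A] s - s ⊗ₜ[A] (1 : B)) * t = 0)
    (ht1 : Algebra.TensorProduct.lmul' A t = 1) (φ : B →ₗ[A] A) :
    ∃ c : B, ∀ x : B, φ x = Algebra.trace A B (c * x) := by
  classical
  have hfin : Module.Finite A B := Module.Finite.of_basis b
  have hfree : Module.Free A B := Module.Free.of_basis b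
  -- `z * t = μ(z) • t`
  have hzt : ∀ z : B ⊗[A] B, z * t = (Algebra.TensorProduct.lmul' A z) • t := by
    intro z
    induction z using TensorProduct.induction_on with
    | zero => simp
    | tmul x y =>
      have h1 := ht y
      rw [sub_mul, sub_eq_zero] at h1
      have : x ⊗ₜ[A] y = (x ⊗ₜ[A] (1 : B)) * ((1 : B) ⊗ₜ[A] y) := by simp
      rw [this, mul_assoc, h1, ← mul_assoc, Algebra.TensorProduct.tmul_mul_tmul, one_mul,
        map_mul, Algebra.TensorProduct.lmul'_apply_tmul, Algebra.TensorProduct.lmul'_apply_tmul,
        mul_one, one_mul, Algebra.smul_def]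
      rfl
    | add x y hx hy => rw [add_mul, hx, hy, map_add, add_smul]
  -- the trace of multiplication by `t * w`
  have htrace : ∀ w : B ⊗[A] B, Algebra.trace B (B ⊗[A] B) (t * w) =
      Algebra.TensorProduct.lmul' A w := by
    intro w
    let μ : B ⊗[A] B →ₗ[B] B := (Algebra.TensorProduct.lmul'' (S := B) A).toLinearMap
    have hμ : ∀ z, μ z = Algebra.TensorProduct.lmul' A z := fun z => rfl
    have : Algebra.lmul B (B ⊗[A] B) (t * w) = μ.smulRight (t * w) := by
      refine LinearMap.ext fun z => ?_
      change (t * w) * z = μ z • (t * w)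
      rw [hμ, mul_right_comm, mul_comm t z, hzt z, smul_mul_assoc]
    rw [Algebra.trace_apply, this, LinearMap.trace_smulRight, hμ, map_mul, ht1, one_mul]
  -- the trace of a pure tensor
  have hpure : ∀ x y : B, Algebra.trace B (B ⊗[A] B) (x ⊗ₜ[A] y) =
      x * algebraMap A B (Algebra.trace A B y) := by
    intro x y
    have h1 : x ⊗ₜ[A] y = x • ((1 : B) ⊗ₜ[A] y) := by
      rw [TensorProduct.smul_tmul', smul_eq_mul, mul_one]
    have h2 : Algebra.lmul B (B ⊗[A] B) ((1 : B) ⊗ₜ[A] y) =
        (Algebra.lmul A B y).baseChange B := by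
      refine TensorProduct.AlgebraTensorModule.ext fun a b => ?_
      simp
    rw [h1, map_smul, smul_eq_mul, Algebra.trace_apply, h2, LinearMap.trace_baseChange,
      Algebra.trace_apply]
  -- the element representing `φ`
  let Φ : B ⊗[A] B →ₗ[A] B := (TensorProduct.lid A B).toLinearMap ∘ₗ (φ.rTensor B)
  refine ⟨Φ t, fun z => ?_⟩
  have h1 : φ (Algebra.trace B (B ⊗[A] B) (t * ((1 : B) ⊗ₜ[A] z))) = φ z := by
    rw [htrace, Algebra.TensorProduct.lmul'_apply_tmul, one_mul]
  rw [← h1]
  clear h1 htrace hzt ht1 ht
  induction t using TensorProduct.induction_on with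
  | zero => simp
  | tmul x y =>
    rw [Algebra.TensorProduct.tmul_mul_tmul, mul_one, hpure, mul_comm x, ← Algebra.smul_def,
      map_smul]
    simp [Φ, mul_comm]
  | add x y hx hy => rw [add_mul, map_add, map_add, hx, hy, map_add, add_mul, map_add]

end

/-- Stacks Tag 0BJF. Ring form of the statement: let B be an A-algebra which is finite free as an
A-module with basis b. Then A -> B is etale if and only if the discriminant of b (the determinant
of the matrix of traces Tr(b_i b_j)) is a unit of A, i.e. the discriminant locus is empty. -/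
theorem result {A : Type u} {B : Type v} [CommRing A] [CommRing B]
    [Algebra A B] {ι : Type} [Fintype ι] [DecidableEq ι] (b : Module.Basis ι A B) :
    Algebra.Etale A B ↔ IsUnit (Algebra.discr A b) := by
  have hfin : Module.Finite A B := Module.Finite.of_basis b
  have hfree : Module.Free A B := Module.Free.of_basis b
  constructor
  · intro h
    obtain ⟨t, ht, ht1⟩ := Algebra.FormallyUnramified.iff_exists_tensorProduct.1
      (inferInstance : Algebra.FormallyUnramified A B)
    choose c hc using fun i => exists_trace_repr b t ht ht1 (b.coord i)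
    let C : Matrix ι ι A := fun i k => b.repr (c i) k
    have hCM : C * Algebra.traceMatrix A b = 1 := by
      ext i j
      rw [Matrix.mul_apply, Matrix.one_apply]
      have h1 := hc i (b j)
      rw [← b.sum_repr (c i), Finset.sum_mul, map_sum] at h1
      simp only [smul_mul_assoc, map_smul, smul_eq_mul, Module.Basis.coord_apply,
        Module.Basis.repr_self, Finsupp.single_apply] at h1
      simp only [C, Algebra.traceMatrix_apply, Algebra.traceForm_apply]
      rw [← h1]
      exact if_congr (eq_comm) rfl rfl
    have hdet : C.det * (Algebra.traceMatrix A b).det = 1 := by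
      rw [← Matrix.det_mul, hCM, Matrix.det_one]
    exact IsUnit.of_mul_eq_one C.det (by rw [mul_comm]; exact hdet)
  · intro h
    have hfpm : Module.FinitePresentation A B := Module.finitePresentation_of_projective _ _
    have hfp : Algebra.FinitePresentation A B := inferInstance
    have : Algebra.FormallyUnramified A B :=
      Algebra.FormallyUnramified.iff_exists_tensorProduct.2 (exists_elem b h)
    exact Algebra.Etale.of_formallyUnramified_of_flat

end Groth.Agent.S2195
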