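import Groth.Statements.S0283
import Groth.Agent.Pi1B.UHClopen

set_option autoImplicit false
universe u
open Pi1

namespace Groth.Agent.S0283

open AlgebraicGeometry CategoryTheory CategoryTheory.Limits in
/-- Stacks Tag 0BQN, fully faithful part (written out in full in the source; a second textbook proof is recorded in the ledger). A morphism of schemes which is integral, universally injective and surjective (a universal homeomorphism, Tag 04DF) induces a fully faithful base-change functor on finite etale covers. -/
theorem result {X Y : Scheme.{u}} (f : X ⟶ Y) [IsIntegralHom f] [UniversallyInjective f] [Surjective f] :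
    (FEt.restrict f).Full ∧ (FEt.restrict f).Faithful := by
  refine Groth.Agent.Pi1A.ClopenCrit.restrict_fullyFaithful_of_isClopen f ?_ ?_
  · intro T U _ h
    exact Groth.Agent.Pi1B.UHClopen.clopen_eq_empty _ U h
  · intro T V hV
    have : UniversallyInjective (pullback.fst T.hom f) :=
      MorphismProperty.pullback_fst _ _ inferInstance
    exact Groth.Agent.Pi1B.UHClopen.exists_clopen _ V hV

end Groth.Agent.S0283
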