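import Groth.Statements.S0289
import Groth.Agent.S0283
import Groth.Agent.Pi1B.UnivHomeoFEt
-- import your own Groth.Agent.* helpers here

set_option autoImplicit false
universe u
open Pi1

namespace Groth.Agent.S0289

open AlgebraicGeometry CategoryTheory CategoryTheory.Limits in
/-- Stacks Tag 0BQN. A morphism of schemes which is integral, universally injective and surjective (equivalently, by Tag 04DF, a universal homeomorphism) induces by base change an equivalence between the categories of finite etale covers. -/
theorem result {X Y : Scheme.{u}} (f : X ⟶ Y) [IsIntegralHom f] [UniversallyInjective f] [Surjective f] :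
    (FEt.restrict f).IsEquivalence := by
  have h1 : (FEt.restrict f).Full := (Groth.Agent.S0283.result f).1
  have h2 : (FEt.restrict f).Faithful := (Groth.Agent.S0283.result f).2
  have h3 : (FEt.restrict f).EssSurj := Groth.Agent.Pi1B.UnivHomeoFEt.essSurj f
  exact {}

end Groth.Agent.S0289
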