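import Groth.Statements.S0259
import Groth.Agent.Pi1A.DepthSpread
import Groth.Agent.Pi1A.DepthPunctured

set_option autoImplicit false
universe u
open Pi1

namespace Groth.Agent.S0259

open AlgebraicGeometry CategoryTheory CategoryTheory.Limits in
/-- Stacks Tag 0BQF, with its hypothesis (connected punctured spectra of the strict henselizations at points outside U) replaced by the sufficient condition depth at least 2, which implies it by Tag 0BLR. Let X be a Noetherian scheme and U a dense open such that every local ring of X at a point outside U has depth at least 2. Then restricting finite etale covers from X to U is fully faithful. -/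
theorem result {X : Scheme.{u}} [IsNoetherian X] (U : X.Opens) (hU : Dense (U : Set X))
    (h : ∀ x : X, x ∉ U → (2 : ℕ∞) ≤ LocCoh.depth (X.presheaf.stalk x) (X.presheaf.stalk x)) :
    (FEt.restrict U.ι).Full ∧ (FEt.restrict U.ι).Faithful := by
  refine Pi1A.FEtHom.full_faithful_of_bijective_app _ fun T V => ?_
  rw [Pi1A.DepthTwo.bijective_app_iff, Pi1A.DepthPunctured.proj_opensRange]
  have : Etale T.hom := T.prop.2
  exact Pi1A.DepthSpread.bijective_res_of_depth U h T.hom V

end Groth.Agent.S0259
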