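import Groth.Statements.S1712
import Groth.Agent.S1722
import Groth.Agent.LoccohA.DExtDepth
import Groth.Agent.LoccohA.DExtFin

set_option autoImplicit false
universe u
open CategoryTheory
attribute [local instance] HasDerivedCategory.standard
open Dual

namespace Groth.Agent.S1712

/-- Stacks Tag 0DWZ (4).  Let A be a Noetherian local ring with a normalized dualizing complex ω, M a finite A-module and E^j the A-module of maps M → ω[-j] in D(A).  A prime p is in the support of one of E^0, …, E^i if and only if the depth of M_p over A_p plus the dimension of A/p is at most i. -/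
theorem result (A : Type u) [CommRing A] [IsLocalRing A] [IsNoetherianRing A] (ω : Dual.D A) (hω : Dual.IsDualizing A ω) (hn : Dual.IsNormalized A ω) (M : Type u) [AddCommGroup M] [Module A M] [Module.Finite A M] (i : ℕ) (p : PrimeSpectrum A) : (∃ j : ℕ, j ≤ i ∧ p ∈ Module.support A (Dual.inD A M ⟶ ω⟦(-(j : ℤ))⟧)) ↔ ((LocCoh.depth (Localization.AtPrime p.asIdeal) (LocalizedModule p.asIdeal.primeCompl M) : ℕ∞) : WithBot ℕ∞) + ringKrullDim (A ⧸ p.asIdeal) ≤ (i : WithBot ℕ∞) := by
  obtain ⟨δ, hδ, hcov⟩ := Groth.Agent.S1722.result A ω hω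
  have hfin : ∀ (i : ℤ) (M : Type u) [AddCommGroup M] [Module A M] [Module.Finite A M],
      Module.Finite A (LoccohA.DExt.E ω i M) := fun i M _ _ _ =>
    LoccohA.DExtFin.finite_E hω i M
  have hδ' : ∀ (p : PrimeSpectrum A) (i : ℤ),
      p ∈ Module.support A (LoccohA.DExt.E ω i (A ⧸ p.asIdeal)) ↔ i = -δ p := hδ
  -- the closed point
  have hm : δ (IsLocalRing.closedPoint A) = 0 := by
    by_contra hne
    have h1 : IsLocalRing.closedPoint A ∈ Module.support A (LoccohA.DExt.E ω
      (-δ (IsLocalRing.closedPoint A)) (A ⧸ (IsLocalRing.closedPoint A).asIdeal)) :=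
      (hδ' _ _).mpr rfl
    have h2 : Subsingleton (LoccohA.DExt.E ω
      (-δ (IsLocalRing.closedPoint A)) (A ⧸ (IsLocalRing.closedPoint A).asIdeal)) :=
      hn _ (by omega)
    rw [Module.support_eq_empty] at h1
    exact h1
  obtain ⟨e, he⟩ : ∃ e : ℕ, δ p = e := by
    have := LoccohA.DimFun.le_of_le hcov
      (show p ≤ IsLocalRing.closedPoint A from IsLocalRing.le_maximalIdeal p.2.ne_top)
    exact ⟨(δ p).toNat, by omega⟩
  have hdim : ringKrullDim (A ⧸ p.asIdeal) = e := by
    rw [LoccohA.DimFun.dim_quotient hcov, hm, he, zero_add]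
  have key := LoccohA.DExtDepth.natCast_le_depth_iff ω hfin hδ' p M
  rw [hdim]
  constructor
  · rintro ⟨j, hj, hpj⟩
    have hej : e ≤ j := by
      by_contra hlt
      exact LoccohA.DExtDim.notMem_of_gt ω hfin hδ' p M (-(j : ℤ)) (by omega) hpj
    have h1 : ¬ (((j - e + 1 : ℕ) : ℕ∞) ≤ LocCoh.depth (Localization.AtPrime p.asIdeal)
        (LocalizedModule p.asIdeal.primeCompl M)) := by
      rw [key]
      intro h
      refine h (j - e) (by omega) ?_
      have : -δ p - ((j - e : ℕ) : ℤ) = -(j : ℤ) := by omega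
      rw [this]
      exact hpj
    have h2 : LocCoh.depth (Localization.AtPrime p.asIdeal)
        (LocalizedModule p.asIdeal.primeCompl M) ≤ ((j - e : ℕ) : ℕ∞) := by
      rw [not_le] at h1
      exact ENat.lt_natCast_add_one_iff.mp (by exact_mod_cast h1)
    calc ((LocCoh.depth (Localization.AtPrime p.asIdeal)
          (LocalizedModule p.asIdeal.primeCompl M) : ℕ∞) : WithBot ℕ∞) + (e : WithBot ℕ∞)
        ≤ (((j - e : ℕ) : ℕ∞) : WithBot ℕ∞) + (e : WithBot ℕ∞) := by
          gcongr
          exact WithBot.coe_le_coe.mpr h2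
      _ = ((j : ℕ) : WithBot ℕ∞) := by
          norm_cast
          omega
      _ ≤ (i : WithBot ℕ∞) := by exact_mod_cast hj
  · intro h
    by_contra hcon
    push Not at hcon
    have h1 : ((i + 1 - e : ℕ) : ℕ∞) ≤ LocCoh.depth (Localization.AtPrime p.asIdeal)
        (LocalizedModule p.asIdeal.primeCompl M) := by
      rw [key]
      intro d hd
      have : -δ p - (d : ℤ) = -((d + e : ℕ) : ℤ) := by omega
      rw [this]
      exact hcon (d + e) (by omega)
    have h2 : (((i + 1 - e : ℕ) : ℕ∞) : WithBot ℕ∞) + (e : WithBot ℕ∞) ≤ (i : WithBot ℕ∞) :=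
      le_trans (by gcongr; exact WithBot.coe_le_coe.mpr h1) h
    have h3 : i + 1 - e + e ≤ i := by exact_mod_cast h2
    omega

end Groth.Agent.S1712
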