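import Groth.Statements.S1713
import Groth.Agent.LoccohB.LocDualHull
import Groth.Agent.LoccohA.LCTComp

set_option autoImplicit false
universe u
open CategoryTheory
attribute [local instance] HasDerivedCategory.standard
open Dual

namespace Groth.Agent.S1713

open Groth.Agent.LoccohB.LocDualHull Groth.Agent.LoccohB.LocDualElt Groth.Agent.LoccohB.LocDualLoc
  Groth.Agent.LoccohB.LocDualDev Groth.Agent.LoccohB.LocDualBaer Groth.Agent.LoccohB.LocDualMod
  Groth.Agent.LoccohB.LocDualFinal

/-- Stacks Tag 0DWZ (5).  Let A be a Noetherian local ring with maximal ideal m and a normalized dualizing complex ω, and M a finite A-module.  For every i ≥ 0 the annihilator of the A-module of maps M → ω[-i] in D(A) equals the annihilator of the local cohomology module H^i_m(M). -/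
theorem result (A : Type u) [CommRing A] [IsLocalRing A] [IsNoetherianRing A] (ω : Dual.D A) (hω : Dual.IsDualizing A ω) (hn : Dual.IsNormalized A ω) (M : Type u) [AddCommGroup M] [Module A M] [Module.Finite A M] (i : ℕ) : Module.annihilator A (Dual.inD A M ⟶ ω⟦(-(i : ℤ))⟧) = Module.annihilator A (LocCoh.H (IsLocalRing.maximalIdeal A) i M) := by
  obtain ⟨h3, ⟨e, he1, he2⟩, hfin⟩ := normData ω hω hn
  have hB := B_module (IsLocalRing.maximalIdeal A) ω h3 e he1 he2 hfin M (i : ℤ)
  have hW : Module.Baer A (HL (IsLocalRing.maximalIdeal A) ω) :=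
    baer_HL (IsLocalRing.maximalIdeal A) _ (h3 (-1) (by norm_num)) (h3 1 (by norm_num))
  have hz := exists_socle (IsLocalRing.maximalIdeal A) ω (h3 (-1) (by norm_num)) e he1
  ext a
  rw [Module.mem_annihilator, Module.mem_annihilator]
  have key := kills_iff (IsLocalRing.maximalIdeal A) _ _ hW hB hz a
  let ε := shiftEquiv (Dual.inD A M) ω (i : ℤ) (-(i : ℤ)) (by omega)
  let η : LocCoh.H (IsLocalRing.maximalIdeal A) i M ≃ₗ[A]
      HL (IsLocalRing.maximalIdeal A) ((Dual.inD A M)⟦(i : ℤ)⟧) :=
    (Groth.Agent.LoccohA.LCTComp.Hequiv (IsLocalRing.maximalIdeal A) i M).trans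
      (locEquiv ((Dual.inD A M)⟦(i : ℤ)⟧))
  constructor
  · intro h x
    have h1 := key.2 (fun y => ⟨1, fun h => (IsLocalRing.maximalIdeal.isMaximal A).ne_top
      ((Ideal.eq_top_iff_one _).2 h), by
        have := h (ε.symm y)
        rw [← map_smul, LinearEquiv.map_eq_zero_iff] at this
        rw [this, smul_zero]⟩) (η x)
    rw [← map_smul, LinearEquiv.map_eq_zero_iff] at h1
    exact h1
  · intro h y
    obtain ⟨t, ht, h1⟩ := key.1 (fun x => by
      have := h (η.symm x)
      rw [← map_smul, LinearEquiv.map_eq_zero_iff] at this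
      exact this) (ε y)
    have h2 := (isUnit_of_notMem ht).smul_eq_zero.1 h1
    rw [← map_smul, LinearEquiv.map_eq_zero_iff] at h2
    exact h2

end Groth.Agent.S1713
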