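import Groth.Statements.S1802
import Groth.Agent.LoccohB.PunctAffine

set_option autoImplicit false
universe u
open AlgebraicGeometry
open LocCoh

namespace Groth.Agent.S1802

open Groth.Agent.LoccohB.PunctAffine in
lemma nonempty_aux (A : Type u) [CommRing A] [IsNoetherianRing A] (I : Ideal A) (h0 : ¬ LocCoh.CdLE A I 0) :
    Nonempty (↑(LocCoh.puncturedOpen A I) : Scheme.{u}) := by
  by_contra hne
  apply h0
  intro M _ _ i hi
  have h1 : I ≤ nilradical A := by
    intro a ha
    rw [nilradical_eq_sInf, Ideal.mem_sInf]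
    intro P hP
    by_contra hx
    apply hne
    refine ⟨⟨⟨P, hP⟩, ?_⟩⟩
    intro h2
    exact hx ((PrimeSpectrum.mem_zeroLocus _ _).1 h2 ha)
  have h2 : I ≤ (⊥ : Ideal A).radical := h1
  obtain ⟨N, hN⟩ := Ideal.exists_pow_le_of_le_radical_of_fg h2 (IsNoetherian.noetherian I)
  exact subsingleton_of_nilpotent I N (eq_bot_iff.2 hN) i hi (ModuleCat.of A M)

open Groth.Agent.LoccohB.PunctAffine in
lemma affine_aux (A : Type u) [CommRing A] [IsNoetherianRing A] (I : Ideal A) (h1 : LocCoh.CdLE A I 1) :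
    IsAffineOpen (LocCoh.puncturedOpen A I) := by
  obtain ⟨r, f, n, φ, hn, hf, hφ⟩ := exists_section A I (fun M _ _ => h1 M 2 (by norm_num))
  have hle : ∀ g ∈ I ^ n, (PrimeSpectrum.basicOpen g : (Spec (CommRingCat.of A)).Opens) ≤ LocCoh.puncturedOpen A I := by
    intro g hg x hx hx'
    exact hx ((PrimeSpectrum.mem_zeroLocus _ _).1 hx' ((Ideal.pow_le_self (by omega)) hg))
  have hV : LocCoh.puncturedOpen A I ≤ ⨆ g : (I ^ n : Ideal A), (PrimeSpectrum.basicOpen g.1 : (Spec (CommRingCat.of A)).Opens) := by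
    intro x hx
    have hx' : ¬ I ^ n ≤ x.asIdeal := by
      intro h2
      have h3 : I ≤ x.asIdeal := x.2.le_of_pow_le h2
      exact hx ((PrimeSpectrum.mem_zeroLocus _ _).2 h3)
    obtain ⟨g, hg, hg'⟩ := SetLike.not_le_iff_exists.1 hx'
    exact TopologicalSpace.Opens.mem_iSup.2 ⟨⟨g, hg⟩, hg'⟩
  have H : ∀ j : Fin r, _ := fun j => exists_glue (LocCoh.puncturedOpen A I) (I ^ n) hle hV ((LinearMap.proj j).comp φ)
  choose t ht using H
  have hsum : ∑ j, t j * rho A (LocCoh.puncturedOpen A I) (f j) = 1 := by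
    apply TopCat.Sheaf.eq_of_locally_eq' (Spec (CommRingCat.of A)).sheaf
      (fun g : (I ^ n : Ideal A) => (PrimeSpectrum.basicOpen g.1 : (Spec (CommRingCat.of A)).Opens)) _
      (fun g => CategoryTheory.homOfLE (hle g.1 g.2)) hV
    intro g
    exact (res_sum_eq_one (CategoryTheory.homOfLE (hle g.1 g.2)) t f (φ g) g.1 le_rfl (fun j => ht j g) (hφ g)).trans
      (map_one _).symm
  apply isAffineOpen_of_isAffineOpen_basicOpen (LocCoh.puncturedOpen A I) (Set.range fun j => rho A (LocCoh.puncturedOpen A I) (f j))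
  · rw [Ideal.eq_top_iff_one, ← hsum]
    exact Ideal.sum_mem _ fun j _ => Ideal.mul_mem_left _ _ (Ideal.subset_span ⟨j, rfl⟩)
  · rintro _ ⟨j, rfl⟩
    dsimp only
    rw [basicOpen_rho, inf_eq_right.2]
    · exact IsAffineOpen.Spec_basicOpen (R := CommRingCat.of A) (f j)
    · intro x hx hx'
      exact hx ((PrimeSpectrum.mem_zeroLocus _ _).1 hx' (hf j))

/-- Stacks Tag 0DXD, for a Noetherian ring.  Let I be an ideal of a Noetherian ring A with cd(A, I) = 1, i.e. H^i_I(M) = 0 for all modules M and all i ≥ 2 but H^1_I(M) ≠ 0 for some M.  Then the open subscheme Spec A minus V(I) is nonempty and affine. -/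
theorem result (A : Type u) [CommRing A] [IsNoetherianRing A] (I : Ideal A) (h1 : LocCoh.CdLE A I 1) (h0 : ¬ LocCoh.CdLE A I 0) : Nonempty (↑(LocCoh.puncturedOpen A I) : Scheme.{u}) ∧ IsAffine (↑(LocCoh.puncturedOpen A I) : Scheme.{u}) := by
  exact ⟨nonempty_aux A I h0, affine_aux A I h1⟩

end Groth.Agent.S1802
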