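import Groth.Statements.S0532
import Mathlib.RingTheory.Localization.Away.Lemmas
import Groth.Agent.Hensel.FinitePart
import Groth.Agent.Hensel.EtaleLiftQuot
-- import your own Groth.Agent.* helpers here

set_option autoImplicit false
universe u
open Hensel

namespace Groth.Agent.S0532

/-- Stacks Tag 09ZL, essential surjectivity: if `A` is Henselian at `I`, every finite étale
`A/I`-algebra is the base change of a finite étale `A`-algebra. -/
theorem result (A : Type u) [CommRing A] (I : Ideal A) [HenselianRing A I]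
    (C : Type u) [CommRing C] [Algebra (A ⧸ I) C] [Module.Finite (A ⧸ I) C] [Algebra.Etale (A ⧸ I) C] :
    ∃ (B : Type u) (_ : CommRing B) (_ : Algebra A B), Module.Finite A B ∧ Algebra.Etale A B ∧
      Nonempty (TensorProduct A (A ⧸ I) B ≃ₐ[A ⧸ I] C) := by
  obtain ⟨B, _, _, hB, ⟨φ⟩⟩ := Groth.Agent.Hensel.EtaleLiftQuot.exists_etale_lift
    (A := A) (A' := A ⧸ I) Ideal.Quotient.mk_surjective C
  let IB : Ideal B := I.map (algebraMap A B)
  -- `B/IB` is integral over `A`
  have h1 : Module.Finite (A ⧸ I) (TensorProduct A (A ⧸ I) B) :=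
    Module.Finite.equiv φ.symm.toLinearEquiv
  have h2 : Module.Finite A (TensorProduct A (A ⧸ I) B) :=
    Module.Finite.trans (A ⧸ I) (TensorProduct A (A ⧸ I) B)
  let ε : (B ⧸ IB) ≃ₐ[A ⧸ I] TensorProduct A (A ⧸ I) B :=
    Algebra.TensorProduct.quotIdealMapEquivQuotTensor B I
  have h3 : Module.Finite (A ⧸ I) (B ⧸ IB) := Module.Finite.equiv ε.symm.toLinearEquiv
  have h4 : Module.Finite A (B ⧸ IB) := Module.Finite.trans (A ⧸ I) (B ⧸ IB)
  obtain ⟨e, he, heI, hfin⟩ := Groth.Agent.Hensel.FinitePart.exists_finite_part I B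
    (inferInstance : Algebra.IsIntegral A (B ⧸ IB))
  let B' := B ⧸ Ideal.span {1 - e}
  have hloc : IsLocalization.Away e B' := IsLocalization.Away.quotient_of_isIdempotentElem he
  have het : Algebra.Etale A B' := by
    have : Algebra.Etale B B' := Algebra.Etale.of_isLocalizationAway e
    exact Algebra.Etale.comp A B B'
  have hker : ∀ y ∈ IB, ((1 : A ⧸ I) ⊗ₜ[A] y : TensorProduct A (A ⧸ I) B) = 0 := by
    intro y hy
    have h5 : ε (Ideal.Quotient.mk IB y) = (1 : A ⧸ I) ⊗ₜ[A] y := rfl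
    rw [← h5, Ideal.Quotient.eq_zero_iff_mem.mpr hy, map_zero]
  let f : TensorProduct A (A ⧸ I) B →ₐ[A ⧸ I] TensorProduct A (A ⧸ I) B' :=
    Algebra.TensorProduct.map (AlgHom.id _ _) (Ideal.Quotient.mkₐ A _)
  let g₀ : B' →ₐ[A] TensorProduct A (A ⧸ I) B :=
    Ideal.Quotient.liftₐ _ Algebra.TensorProduct.includeRight (by
      intro y hy
      have h6 : Ideal.span {1 - e} ≤ RingHom.ker (Algebra.TensorProduct.includeRight :
          B →ₐ[A] TensorProduct A (A ⧸ I) B) := by
        rw [Ideal.span_singleton_le_iff_mem, RingHom.mem_ker]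
        exact hker _ heI
      exact h6 hy)
  have hg₀ : ∀ b, g₀ (Ideal.Quotient.mk _ b) = (1 : A ⧸ I) ⊗ₜ[A] b := fun b => rfl
  have hg₀' : ∀ b, g₀ (Ideal.Quotient.mkₐ A _ b) = (1 : A ⧸ I) ⊗ₜ[A] b := fun b => rfl
  have hone : (1 : A ⧸ I) ⊗ₜ[A] (1 : B) = 1 := rfl
  let g : TensorProduct A (A ⧸ I) B' →ₐ[A ⧸ I] TensorProduct A (A ⧸ I) B :=
    Algebra.TensorProduct.lift (Algebra.ofId _ _) g₀ (fun _ _ => mul_comm _ _)
  refine ⟨B', inferInstance, inferInstance, hfin, het,
    ⟨(AlgEquiv.ofAlgHom g f ?_ ?_).trans φ⟩⟩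
  · apply Algebra.TensorProduct.ext
    · ext
    · ext b
      simp [f, g, hg₀', hone]
  · apply Algebra.TensorProduct.ext
    · ext
    · apply Ideal.Quotient.algHom_ext
      ext b
      simp [f, g, hg₀]
      rfl

end Groth.Agent.S0532
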