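import Groth.Statements.S0239
import Groth.Agent.Pi1A.FEtAffine
import Groth.Agent.S0532
import Groth.Agent.S0533
-- import your own Groth.Agent.* helpers here

set_option autoImplicit false
universe u
open Pi1

namespace Groth.Agent.S0239

open AlgebraicGeometry CategoryTheory CategoryTheory.Limits in
/-- Stacks Tag 09ZS. For a henselian pair (A, I) in Mathlib's sense, restricting finite etale covers from Spec A to the closed subscheme Spec (A/I) is an equivalence of categories. -/
theorem result (A : Type u) [CommRing A] (I : Ideal A) [HenselianRing A I] :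
    (FEt.restrict (Spec.map (CommRingCat.ofHom (Ideal.Quotient.mk I)))).IsEquivalence := by
  have h1 : (FEt.restrict (Groth.Agent.Pi1A.FEtAffine.specMap A (A ⧸ I))).Faithful := by
    rw [Groth.Agent.Pi1A.FEtAffine.restrict_faithful_iff]
    intro B C _ _ _ _ _ _ _ _ φ ψ h
    exact (Groth.Agent.S0533.result A I C B).1 h
  have h2 : (FEt.restrict (Groth.Agent.Pi1A.FEtAffine.specMap A (A ⧸ I))).Full := by
    rw [Groth.Agent.Pi1A.FEtAffine.restrict_full_iff]
    intro B C _ _ _ _ _ _ _ _ ψ
    exact (Groth.Agent.S0533.result A I C B).2 ψ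
  have h3 : (FEt.restrict (Groth.Agent.Pi1A.FEtAffine.specMap A (A ⧸ I))).EssSurj := by
    rw [Groth.Agent.Pi1A.FEtAffine.restrict_essSurj_iff]
    intro B' _ _ _ _
    obtain ⟨B, i1, i2, i3, i4, ⟨e⟩⟩ := Groth.Agent.S0532.result A I B'
    exact ⟨B, i1, i2, i3, i4, ⟨e⟩⟩
  exact { full := h2, faithful := h1, essSurj := h3 }

end Groth.Agent.S0239
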