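import Groth.Statements.S0292
import Groth.Agent.Pi1B.S2Ext

set_option autoImplicit false
universe u
open Pi1

namespace Groth.Agent.S0292

open AlgebraicGeometry CategoryTheory CategoryTheory.Limits in
/-- Stacks Tag 0EY6 (2), existence: let X be locally Noetherian, U an open such that the local rings of X outside U have depth at least 2, and V a finite etale cover of U. Then there is a finite morphism Y -> X restricting to V over U whose local rings at points outside the preimage of U have depth at least 2. -/
theorem result {X : Scheme.{u}} [IsLocallyNoetherian X] (U : X.Opens)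
    (hU : ∀ x : X, x ∉ U → (2 : ℕ∞) ≤ LocCoh.depth (X.presheaf.stalk x) (X.presheaf.stalk x)) (V : FEt.Cat (U : Scheme.{u})) :
    ∃ (Y : Scheme.{u}) (π : Y ⟶ X) (e : pullback π U.ι ≅ V.left), IsFinite π ∧
      e.hom ≫ V.hom = pullback.snd π U.ι ∧
      ∀ y : Y, π.base y ∉ U → (2 : ℕ∞) ≤ LocCoh.depth (Y.presheaf.stalk y) (Y.presheaf.stalk y) := by
  have hfin : IsFinite V.hom := V.prop.1
  have het : Etale V.hom := V.prop.2
  let f : V.left ⟶ X := V.hom ≫ U.ι
  have hres : IsFinite (f ∣_ U) := by
    have h1 : (pullbackRestrictIsoRestrict f U).hom ≫ f ∣_ U = pullback.snd f U.ι :=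
      pullbackRestrictIsoRestrict_hom_morphismRestrict f U
    have h2 : IsFinite (pullback.snd f U.ι) := by
      rw [← Groth.Agent.Pi1B.S2Ext.fst_comp]; infer_instance
    have h3 : f ∣_ U = (pullbackRestrictIsoRestrict f U).inv ≫ pullback.snd f U.ι := by
      rw [← h1, ← Category.assoc, Iso.inv_hom_id, Category.id_comp]
    rw [h3]
    infer_instance
  exact ⟨f.normalization, f.fromNormalization, Groth.Agent.Pi1B.S2Ext.extIso U V.hom,
    Groth.Agent.Pi1B.S2Ext.isFinite_fromNormalization U hU f,
    Groth.Agent.Pi1B.S2Ext.extIso_hom_comp U V.hom,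
    Groth.Agent.Pi1B.S2Ext.two_le_depth_normalization U hU f⟩

end Groth.Agent.S0292
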