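import Groth.Statements.S1442
import Mathlib.RingTheory.Artinian.Module
import Mathlib.RingTheory.IntegralClosure.IsIntegralClosure.Basic
import Mathlib.AlgebraicGeometry.Fiber

set_option autoImplicit false
universe u
open FlatMor

namespace Groth.Agent.S1442

/-- Key algebra lemma: `K` a field, `C` integral over `K`, `φ : A → C` a ring map, `I` an ideal of `A` with
`I C = C`. Then some element of `I` maps to a unit of `C`. -/
theorem exists_isUnit_of_map_eq_top {K A C : Type*} [Field K] [CommRing A] [CommRing C] [Algebra K C]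
    [Algebra.IsIntegral K C] (φ : A →+* C) (I : Ideal A) (hI : I.map φ = ⊤) :
    ∃ a ∈ I, IsUnit (φ a) := by
  classical
  -- write `1` as a combination
  have h1 : (1 : C) ∈ Ideal.span (φ '' (I : Set A)) := by
    have : (1 : C) ∈ I.map φ := by rw [hI]; trivial
    simpa [Ideal.map] using this
  obtain ⟨T, hT, h1T⟩ := Submodule.mem_span_finite_of_mem_span h1
  obtain ⟨c, hc⟩ := (Submodule.mem_span_finset.mp h1T)
  -- the finite subalgebra
  let S : Finset C := T ∪ T.image c
  let C' : Subalgebra K C := Algebra.adjoin K (S : Set C)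
  have hfin : C'.toSubmodule.FG := fg_adjoin_of_finite S.finite_toSet
    (fun x _ => Algebra.IsIntegral.isIntegral x)
  have : Module.Finite K C' := Module.Finite.iff_fg.mpr hfin
  have : IsArtinianRing C' := IsArtinianRing.of_finite K C'
  have hTC : ∀ t ∈ T, t ∈ C' := fun t ht => Algebra.subset_adjoin (by simp [S, ht])
  have hcC : ∀ t ∈ T, c t ∈ C' := fun t ht => Algebra.subset_adjoin (by
    simp only [S, Finset.coe_union, Finset.coe_image]
    exact Or.inr ⟨t, ht, rfl⟩)
  -- subring of `A`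
  let A' : Subring A := C'.toSubring.comap φ
  let ψ : A' →+* C' := (φ.comp A'.subtype).codRestrict C'.toSubring (fun x => x.2)
  have hψ : ∀ x : A', (ψ x : C) = φ x := fun x => rfl
  let J : Ideal A' := I.comap A'.subtype
  have hJ : ∀ m : MaximalSpectrum C', ¬ J ≤ m.asIdeal.comap ψ := by
    intro m hm
    apply m.isMaximal.ne_top
    rw [Ideal.eq_top_iff_one]
    have : (1 : C') = ∑ t ∈ T.attach, (⟨c t, hcC t t.2⟩ : C') * ⟨t, hTC t t.2⟩ := by
      apply Subtype.ext
      rw [AddSubmonoidClass.coe_finsetSum]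
      change (1 : C) = ∑ t ∈ T.attach, c t * (t : C)
      rw [Finset.sum_attach T (fun t => c t * t)]
      exact hc.2.symm
    rw [this]
    refine Submodule.sum_mem _ (fun t ht => Ideal.mul_mem_left _ _ ?_)
    obtain ⟨a, haI, hat⟩ := hT t.2
    have haA' : a ∈ A' := by
      change φ a ∈ C'
      rw [hat]
      exact hTC t t.2
    have : (⟨a, haA'⟩ : A') ∈ J := haI
    have h2 := hm this
    rw [Ideal.mem_comap] at h2
    convert h2 using 1
    apply Subtype.ext
    rw [hψ]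
    exact hat.symm
  -- prime avoidance
  have : Fintype (MaximalSpectrum C') := Fintype.ofFinite _
  have hav : ∃ g ∈ J, ∀ m : MaximalSpectrum C', g ∉ m.asIdeal.comap ψ := by
    by_contra hcon
    push Not at hcon
    have hsub : ((J : Set A') ⊆ ⋃ m ∈ ((Finset.univ : Finset (MaximalSpectrum C')) : Set (MaximalSpectrum C')),
        (m.asIdeal.comap ψ : Set A')) := by
      intro g hg
      obtain ⟨m, hm⟩ := hcon g hg
      simp only [Set.mem_iUnion]
      exact ⟨m, by simp, hm⟩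
    by_cases hne : Nonempty (MaximalSpectrum C')
    · obtain ⟨m0⟩ := hne
      rw [Ideal.subset_union_prime m0 m0 (fun m _ _ _ => by
        have := m.isMaximal.isPrime
        infer_instance)] at hsub
      obtain ⟨m, _, hm⟩ := hsub
      exact hJ m hm
    · obtain ⟨m, hm⟩ := hcon 0 J.zero_mem
      exact hne ⟨m⟩
  obtain ⟨g, hgJ, hg⟩ := hav
  refine ⟨g, hgJ, ?_⟩
  have hu : IsUnit (ψ g) := by
    by_contra hnu
    obtain ⟨m, hm, hgm⟩ := exists_max_ideal_of_mem_nonunits hnu
    exact hg ⟨m, hm⟩ hgm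
  exact hu.map C'.val

open AlgebraicGeometry CategoryTheory Limits TopologicalSpace in
theorem exists_open_preimage_le {Y Z : Scheme.{u}} (j : Z ⟶ Y) [IsIntegralHom j] (y : Y) (W : Z.Opens)
    (h : j ⁻¹' {y} ⊆ (W : Set ↑Z)) : ∃ V : Y.Opens, y ∈ V ∧ j ⁻¹ᵁ V ≤ W := by
  refine ⟨⟨(j '' (W : Set Z)ᶜ)ᶜ, (j.isClosedMap _ W.isOpen.isClosed_compl).isOpen_compl⟩, ?_, ?_⟩
  · rintro ⟨z, hz, hzy⟩
    exact hz (h hzy)
  · intro z hz
    by_contra hzW
    exact hz ⟨z, hzW, rfl⟩

open AlgebraicGeometry CategoryTheory Limits TopologicalSpace in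
/-- The ideal of functions on `U` whose basic open is contained in `V`. -/
def suppIdeal {Z : Scheme.{u}} (U V : Z.Opens) : Ideal Γ(Z, U) where
  carrier := {a | Z.basicOpen a ≤ V}
  add_mem' := fun {a b} ha hb x hx => (Z.basicOpen_add_le a b hx).elim (fun h => ha h) (fun h => hb h)
  zero_mem' := by simp
  smul_mem' := fun c a ha => by
    simp only [smul_eq_mul, Set.mem_ofPred_eq, Scheme.basicOpen_mul] at ha ⊢
    exact inf_le_right.trans ha

open AlgebraicGeometry CategoryTheory Limits TopologicalSpace in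
theorem step1 {Y Z : Scheme.{u}} (j : Z ⟶ Y) [IsIntegralHom j] (y : Y) (U W : Z.Opens) (hU : IsAffineOpen U)
    (hWU : W ≤ U) (h : j ⁻¹' {y} ⊆ (W : Set ↑Z)) :
    ∃ a : Γ(Z, U), Z.basicOpen a ≤ W ∧ j ⁻¹' {y} ⊆ (Z.basicOpen a : Set ↑Z) := by
  let F := j.fiber y
  have hle : (⊤ : F.Opens) ≤ j.fiberι y ⁻¹ᵁ U := by
    intro x _
    have : (j.fiberι y) x ∈ Set.range (j.fiberι y) := ⟨x, rfl⟩
    rw [Scheme.Hom.range_fiberι] at this
    exact hWU (h this)
  let φ : Γ(Z, U) →+* Γ(F, ⊤) := ((j.fiberι y).appLE U ⊤ hle).hom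
  have hint : IsIntegralHom (j.fiberToSpecResidueField y) := by
    exact MorphismProperty.pullback_snd (P := @IsIntegralHom) j (Y.fromSpecResidueField y) inferInstance
  let K := Y.residueField y
  let alg : K →+* Γ(F, ⊤) := ((Scheme.ΓSpecIso (Y.residueField y)).inv ≫
    (j.fiberToSpecResidueField y).appTop).hom
  let _ : Algebra K Γ(F, ⊤) := alg.toAlgebra
  have : Algebra.IsIntegral K Γ(F, ⊤) := by
    rw [← algebraMap_isIntegral_iff]
    change alg.IsIntegral
    have h1 : ((j.fiberToSpecResidueField y).appTop).hom.IsIntegral :=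
      (j.fiberToSpecResidueField y).isIntegral_app ⊤ (isAffineOpen_top _)
    have h2 : ((Scheme.ΓSpecIso (Y.residueField y)).inv).hom.IsIntegral :=
      RingHom.isIntegral_of_surjective _ (ConcreteCategory.bijective_of_isIso (Scheme.ΓSpecIso (Y.residueField y)).inv).2
    exact RingHom.IsIntegral.trans _ _ h2 h1
  have hbo : ∀ a : Γ(Z, U), F.basicOpen (φ a) = j.fiberι y ⁻¹ᵁ (Z.basicOpen a) := by
    intro a
    have := Scheme.basicOpen_appLE (j.fiberι y) ⊤ U hle a
    rw [top_inf_eq] at this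
    exact this
  have hmap : (suppIdeal U W).map φ = ⊤ := by
    by_contra hne
    obtain ⟨m, hm, hle'⟩ := Ideal.exists_le_maximal _ hne
    have hmp : m.IsPrime := hm.isPrime
    -- the point of the fibre
    let p : PrimeSpectrum Γ(F, ⊤) := ⟨m, hmp⟩
    have hFaff : IsAffine F := inferInstance
    let x : F := (isAffineOpen_top F).fromSpec p
    have hxW : (j.fiberι y) x ∈ W := by
      apply h
      have : (j.fiberι y) x ∈ Set.range (j.fiberι y) := ⟨x, rfl⟩
      rw [Scheme.Hom.range_fiberι] at this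
      exact this
    obtain ⟨a, haW, hxa⟩ := hU.exists_basicOpen_le ⟨_, hxW⟩ (hWU hxW)
    have ha : a ∈ suppIdeal U W := haW
    have h1 : φ a ∈ m := hle' (Ideal.mem_map_of_mem _ ha)
    have h2 : x ∈ F.basicOpen (φ a) := by
      rw [hbo]; exact hxa
    have h3 : p ∈ PrimeSpectrum.basicOpen (φ a) := by
      have := (isAffineOpen_top F).fromSpec_preimage_basicOpen (φ a)
      rw [← this]
      exact h2
    exact h3 h1
  obtain ⟨a, ha, hu⟩ := exists_isUnit_of_map_eq_top (K := K) φ _ hmap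
  refine ⟨a, ha, ?_⟩
  have h1 : F.basicOpen (φ a) = ⊤ := F.basicOpen_of_isUnit hu
  rw [hbo] at h1
  intro z hz
  rw [← Scheme.Hom.range_fiberι] at hz
  obtain ⟨x, rfl⟩ := hz
  have : x ∈ j.fiberι y ⁻¹ᵁ (Z.basicOpen a) := by rw [h1]; trivial
  exact this

open AlgebraicGeometry CategoryTheory Limits in
/-- Stacks Tag 0ECJ: let i : Z → X be a closed immersion and j : Z → Y an integral morphism such that for each point y of Y the fibre of j over y is contained in the preimage of some affine open of X. Then for each y there are affine opens U of X and V of Y with y ∈ V and with the same preimage in Z. -/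
theorem result {X Y Z : Scheme.{u}} (i : Z ⟶ X) [IsClosedImmersion i] (j : Z ⟶ Y) [IsIntegralHom j]
    (h : ∀ y : Y, ∃ U : X.Opens, IsAffineOpen U ∧ j ⁻¹' {y} ⊆ (i ⁻¹ᵁ U : Set ↑Z)) (y : Y) :
    ∃ (U : X.Opens) (V : Y.Opens), IsAffineOpen U ∧ IsAffineOpen V ∧ y ∈ V ∧ i ⁻¹ᵁ U = j ⁻¹ᵁ V := by
  obtain ⟨U, hU, hyU⟩ := h y
  obtain ⟨V₀, hyV₀, hV₀⟩ := exists_open_preimage_le j y (i ⁻¹ᵁ U) hyU
  obtain ⟨V, hV, hyV, hVV₀⟩ := exists_isAffineOpen_mem_and_subset (x := y) (U := V₀) hyV₀
  have hVU : j ⁻¹ᵁ V ≤ i ⁻¹ᵁ U := by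
    refine le_trans ?_ hV₀
    exact (TopologicalSpace.Opens.map j.base).monotone hVV₀
  obtain ⟨a, haV, hya⟩ := step1 j y (i ⁻¹ᵁ U) (j ⁻¹ᵁ V) (hU.preimage i) hVU (by
    intro z hz
    change j z ∈ V
    rw [show j z = y from hz]
    exact hyV)
  obtain ⟨f, hf⟩ := i.app_surjective U hU a
  have hU₁ : IsAffineOpen (X.basicOpen f) := hU.basicOpen f
  have hU₁eq : i ⁻¹ᵁ (X.basicOpen f) = Z.basicOpen a := by
    rw [Scheme.preimage_basicOpen, hf]
  obtain ⟨V₁, hyV₁, hV₁⟩ := exists_open_preimage_le j y (i ⁻¹ᵁ (X.basicOpen f)) (by rw [hU₁eq]; exact hya)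
  obtain ⟨g, hgV₁, hyg⟩ := hV.exists_basicOpen_le ⟨y, hyV₁⟩ hyV
  have hle : i ⁻¹ᵁ (X.basicOpen f) ≤ j ⁻¹ᵁ V := by rw [hU₁eq]; exact haV
  obtain ⟨f', hf'⟩ := i.app_surjective (X.basicOpen f) hU₁ (j.appLE V _ hle g)
  refine ⟨X.basicOpen f', Y.basicOpen g, hU₁.basicOpen f', hV.basicOpen g, hyg, ?_⟩
  rw [Scheme.preimage_basicOpen, hf', Scheme.basicOpen_appLE]
  apply inf_eq_right.mpr
  refine le_trans ?_ hV₁
  exact (TopologicalSpace.Opens.map j.base).monotone hgV₁

end Groth.Agent.S1442
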