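import Groth.Statements.S0706
-- import your own Groth.Agent.* helpers here

set_option autoImplicit false
open CategoryTheory CategoryTheory.Limits AlgebraicGeometry Opposite Topology
universe u
open ProEtW

namespace Groth.Agent.S0706

/-- Stacks Tag 096V, part (1): let f be an element and I an ideal of A, and Z the intersection of D(f) and V(I) in Spec A. There is a multiplicative subset S of A for which the image of Spec(S^{-1}A) in Spec A consists precisely of the points having a specialization in Z. -/
theorem result (A : Type u) [CommRing A] (f : A) (I : Ideal A) :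
    ∃ S : Submonoid A,
      Set.range (PrimeSpectrum.comap (algebraMap A (Localization S))) =
        {x | ∃ z : PrimeSpectrum A,
          z ∈ (PrimeSpectrum.basicOpen f : Set (PrimeSpectrum A)) ∩ PrimeSpectrum.zeroLocus I ∧ x ⤳ z} := by
  let Z : Set (PrimeSpectrum A) :=
    (PrimeSpectrum.basicOpen f : Set (PrimeSpectrum A)) ∩ PrimeSpectrum.zeroLocus I
  let S : Submonoid A :=
    { carrier := {s | ∀ z ∈ Z, s ∉ z.asIdeal}
      mul_mem' := by
        intro a b ha hb z hz hab
        rcases z.isPrime.mem_or_mem hab with h | h
        · exact ha z hz h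
        · exact hb z hz h
      one_mem' := by
        intro z hz h
        exact z.isPrime.ne_top ((Ideal.eq_top_iff_one _).2 h) }
  refine ⟨S, ?_⟩
  rw [PrimeSpectrum.localization_comap_range (Localization S) S]
  ext x
  simp only [Set.mem_setOf_eq]
  constructor
  · intro hx
    by_contra hcon
    push Not at hcon
    have key : f ∈ (I ⊔ x.asIdeal).radical := by
      rw [Ideal.radical_eq_sInf, Ideal.mem_sInf]
      rintro J ⟨hJ, hJp⟩
      by_contra hf
      refine hcon ⟨J, hJp⟩ ⟨hf, ?_⟩ ?_
      · rw [PrimeSpectrum.mem_zeroLocus]
        exact fun a ha => hJ (Ideal.mem_sup_left ha)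
      · rw [← PrimeSpectrum.le_iff_specializes]
        exact fun a ha => hJ (Ideal.mem_sup_right ha)
    obtain ⟨n, hn⟩ := key
    obtain ⟨i, hi, a, ha, hia⟩ := Submodule.mem_sup.1 hn
    have haS : a ∈ S := by
      rintro z ⟨hzf, hzI⟩ haz
      apply hzf
      refine z.isPrime.mem_of_pow_mem n ?_
      rw [← hia]
      exact z.asIdeal.add_mem (hzI hi) haz
    exact Set.disjoint_left.1 hx haS ha
  · rintro ⟨z, hz, hxz⟩
    rw [← PrimeSpectrum.le_iff_specializes] at hxz
    refine Set.disjoint_left.2 fun s hs hsx => ?_
    exact hs z hz (hxz hsx)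

end Groth.Agent.S0706
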