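import Groth.Statements.S0707
import Groth.Agent.Proet.WEtaleProd

set_option autoImplicit false
open CategoryTheory CategoryTheory.Limits AlgebraicGeometry Opposite Topology
universe u
open ProEtW

namespace Groth.Agent.S0707

open Groth.Agent.Proet.WEtaleProd Groth.Agent.Proet.WEtale2

theorem exists_weaklyEtale_compl (A : Type u) [CommRing A] (E : Finset A) :
    ∃ (T : Type u) (_ : CommRing T) (_ : Algebra A T), Algebra.WeaklyEtale A T ∧
      Set.range (PrimeSpectrum.comap (algebraMap A T)) =
        (PrimeSpectrum.zeroLocus (R := A) E)ᶜ := by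
  classical
  induction E using Finset.induction_on with
  | empty =>
    refine ⟨Localization.Away (0 : A), inferInstance, inferInstance,
      weaklyEtale_of_isLocalization _ (Submonoid.powers (0 : A)), ?_⟩
    rw [PrimeSpectrum.localization_away_comap_range _ (0 : A)]
    simp
  | insert f E hf ih =>
    obtain ⟨T, _, _, h1, h2⟩ := ih
    have h3 : Algebra.WeaklyEtale A (Localization.Away f) :=
      weaklyEtale_of_isLocalization _ (Submonoid.powers f)
    refine ⟨Localization.Away f × T, inferInstance, inferInstance, weaklyEtale_prod _ _ _, ?_⟩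
    rw [range_comap_prod, h2, PrimeSpectrum.localization_away_comap_range _ f]
    ext p
    simp only [Set.mem_union, SetLike.mem_coe, PrimeSpectrum.mem_basicOpen, Set.mem_compl_iff,
      PrimeSpectrum.mem_zeroLocus, Finset.coe_insert, Set.insert_subset_iff]
    tauto

/-- a maximal ideal of the ring `A_Z` lies over a point of `Z`. -/
theorem mem_of_isMaximal {A B : Type u} [CommRing A] [CommRing B]
    [Algebra A B] (S : Submonoid A) [IsLocalization S B] (Z : Set (PrimeSpectrum A))
    (hB : Set.range (PrimeSpectrum.comap (algebraMap A B)) =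
      {x | ∃ z : PrimeSpectrum A, z ∈ Z ∧ x ⤳ z})
    (m : PrimeSpectrum B) (hm : m.asIdeal.IsMaximal) :
    PrimeSpectrum.comap (algebraMap A B) m ∈ Z := by
  have h1 : PrimeSpectrum.comap (algebraMap A B) m ∈
      Set.range (PrimeSpectrum.comap (algebraMap A B)) := ⟨m, rfl⟩
  rw [hB] at h1
  obtain ⟨z, hz, hmz⟩ := h1
  have h2 : z ∈ Set.range (PrimeSpectrum.comap (algebraMap A B)) := by
    rw [hB]
    exact ⟨z, hz, specializes_rfl⟩
  obtain ⟨q, rfl⟩ := h2
  have h3 : m ⤳ q := (PrimeSpectrum.localization_comap_isEmbedding B S).specializes_iff.1 hmz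
  have h4 := (PrimeSpectrum.le_iff_specializes m q).2 h3
  have h5 : m = q := PrimeSpectrum.ext (hm.eq_of_le q.isPrime.ne_top h4)
  rw [h5]
  exact hz

/-- Stacks Tag 0987: let A be w-contractible, E a finite set of elements of A with zero set Z in Spec A, and B a localization of A at a multiplicative subset whose spectrum maps onto precisely the points of Spec A having a specialization in Z (the ring A_Z of Tag 096V). Then B is w-contractible. -/
theorem result (A B : Type u) [CommRing A] [CommRing B]
    [Algebra A B] (S : Submonoid A) [IsLocalization S B] (E : Finset A)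
    (hB : Set.range (PrimeSpectrum.comap (algebraMap A B)) =
      {x | ∃ z : PrimeSpectrum A, z ∈ PrimeSpectrum.zeroLocus (R := A) E ∧ x ⤳ z})
    (hA : EtPBC.IsWContractible A) : EtPBC.IsWContractible B := by
  intro C _ _ hff hwe
  let _ : Algebra A C := ((algebraMap B C).comp (algebraMap A B)).toAlgebra
  have : IsScalarTower A B C := IsScalarTower.of_algebraMap_eq fun _ => rfl
  have hAB : Algebra.WeaklyEtale A B := weaklyEtale_of_isLocalization _ S
  have hAC : Algebra.WeaklyEtale A C := Algebra.WeaklyEtale.trans A B C
  obtain ⟨T, _, _, hT, hTr⟩ := exists_weaklyEtale_compl A E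
  have hCr : Set.range (PrimeSpectrum.comap (algebraMap A C)) =
      Set.range (PrimeSpectrum.comap (algebraMap A B)) := by
    apply Set.Subset.antisymm
    · rintro _ ⟨q, rfl⟩
      exact ⟨PrimeSpectrum.comap (algebraMap B C) q, rfl⟩
    · rintro _ ⟨q, rfl⟩
      obtain ⟨q', rfl⟩ := PrimeSpectrum.comap_surjective_of_faithfullyFlat (A := B) (B := C) q
      exact ⟨q', rfl⟩
  have hprod : Module.FaithfullyFlat A (C × T) := by
    apply faithfullyFlat_prod
    rw [hCr, hB, hTr]
    ext x
    simp only [Set.mem_union, Set.mem_ofPred_eq, Set.mem_compl_iff, Set.mem_univ, iff_true]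
    by_cases hx : x ∈ PrimeSpectrum.zeroLocus (R := A) E
    · exact Or.inl ⟨x, hx, specializes_rfl⟩
    · exact Or.inr hx
  obtain ⟨r⟩ := hA (C × T) hprod (weaklyEtale_prod A C T)
  obtain ⟨ψ⟩ := exists_algHom_of_retraction (B := B) r (by
    intro m hm hmem
    rw [hTr] at hmem
    exact hmem (mem_of_isMaximal S _ hB m hm))
  refine ⟨{ ψ with commutes' := ?_ }⟩
  intro b
  have : (ψ.toRingHom.comp (algebraMap B C)) = RingHom.id B := by
    apply IsLocalization.ringHom_ext S
    ext a
    change ψ (algebraMap B C (algebraMap A B a)) = algebraMap A B a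
    rw [← IsScalarTower.algebraMap_apply, ψ.commutes]
  exact RingHom.congr_fun this b


end Groth.Agent.S0707
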