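import Groth.Statements.S0694
import Groth.Agent.Proet.WLocFinal

set_option autoImplicit false
open CategoryTheory CategoryTheory.Limits AlgebraicGeometry Opposite Topology
universe u
open ProEtW

namespace Groth.Agent.S0694

/-- Stacks Tag 0975, parts (1), (2), (3), (5): for every ring A there is a faithfully flat ind-Zariski A-algebra A_w whose spectrum is w-local, the closed points of Spec A_w mapping bijectively onto Spec A. (Part (4), reducedness of the particular closed subscheme structure of the construction, is not stated.) -/
theorem result (A : Type u) [CommRing A] :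
    ∃ (Aw : Type u) (_ : CommRing Aw) (_ : Algebra A Aw),
      Module.FaithfullyFlat A Aw ∧ EtPBC.IsIndZariski A Aw ∧ ProEtW.IsWLocal (PrimeSpectrum Aw) ∧
      Set.BijOn (PrimeSpectrum.comap (algebraMap A Aw)) (ProEtW.closedPoints (PrimeSpectrum Aw))
        Set.univ := by
  exact ⟨Groth.Agent.Proet.WLoc.Aw A, inferInstance, inferInstance,
    Groth.Agent.Proet.WLocFinal.faithfullyFlat_Aw A, Groth.Agent.Proet.WLocFinal.isIndZariski_Aw A,
    Groth.Agent.Proet.WLoc.isWLocal_Aw, Groth.Agent.Proet.WLoc.bijOn_closedPoints⟩

end Groth.Agent.S0694
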