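import Groth.Statements.S0738
-- import your own Groth.Agent.* helpers here

set_option autoImplicit false
open CategoryTheory CategoryTheory.Limits AlgebraicGeometry Opposite Topology
universe u
open ProEtW

namespace Groth.Agent.S0738

/-- a closed subspace of a spectral space is spectral. -/
theorem spectralSpace_of_isClosed {X : Type u} [TopologicalSpace X] [SpectralSpace X]
    {Y : Set X} (hY : IsClosed Y) : SpectralSpace Y := by
  have hf : IsClosedEmbedding (Subtype.val : Y → X) := hY.isClosedEmbedding_subtypeVal
  have : T0Space Y := hf.isEmbedding.t0Space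
  have : CompactSpace Y := isCompact_iff_compactSpace.1 hY.isCompact
  have : QuasiSober Y := hf.quasiSober
  have : PrespectralSpace Y := .of_isClosedEmbedding _ hf
  have hb : TopologicalSpace.IsTopologicalBasis
      (Set.range fun U : {U : Set X // IsOpen U ∧ IsCompact U} => (Subtype.val ⁻¹' U.1 : Set Y)) := by
    have := (PrespectralSpace.isTopologicalBasis (X := X)).isInducing hf.isInducing
    convert this using 1
    ext s
    simp
  have : QuasiSeparatedSpace Y := by
    refine QuasiSeparatedSpace.of_isTopologicalBasis hb ?_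
    intro U V
    rw [← Set.preimage_inter]
    exact hf.isCompact_preimage
      (QuasiSeparatedSpace.inter_isCompact _ _ U.2.1 U.2.2 V.2.1 V.2.2)
  exact {}

theorem isClosed_singleton_iff {X : Type u} [TopologicalSpace X]
    {Y : Set X} (hY : IsClosed Y) (y : Y) : IsClosed ({y} : Set Y) ↔ IsClosed ({y.1} : Set X) := by
  have hf : IsClosedEmbedding (Subtype.val : Y → X) := hY.isClosedEmbedding_subtypeVal
  rw [hf.isClosed_iff_image_isClosed, Set.image_singleton]

/-- Stacks Tag 096B: a closed subset of a w-local spectral space is w-local (with the subspace topology). -/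
theorem result (X : Type u) [TopologicalSpace X] (hX : ProEtW.IsWLocal X)
    (Y : Set X) (hY : IsClosed Y) : ProEtW.IsWLocal ↥Y := by
  obtain ⟨h1, h2, h3⟩ := hX
  refine ⟨spectralSpace_of_isClosed hY, ?_, ?_⟩
  · have : {x : Y | IsClosed ({x} : Set Y)} = Subtype.val ⁻¹' {x : X | IsClosed ({x} : Set X)} := by
      ext y
      exact isClosed_singleton_iff hY y
    rw [this]
    exact h2.preimage continuous_subtype_val
  · intro x
    obtain ⟨y, ⟨hy1, hy2⟩, hy3⟩ := h3 x.1
    have hyY : y ∈ Y := hy2.mem_closed hY x.2
    refine ⟨⟨y, hyY⟩, ⟨(isClosed_singleton_iff hY _).2 hy1, ?_⟩, ?_⟩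
    · exact Topology.IsInducing.subtypeVal.specializes_iff.1 hy2
    · rintro z ⟨hz1, hz2⟩
      apply Subtype.ext
      exact hy3 z.1 ⟨(isClosed_singleton_iff hY _).1 hz1,
        hz2.map continuous_subtype_val⟩

end Groth.Agent.S0738
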