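import Groth.Statements.S0678
import Groth.Agent.Proet2.ZarRetract
import Groth.Agent.Proet.IndZariski
import Groth.Agent.S0694
import Groth.Agent.S0697
import Groth.Agent.S0738
import Mathlib.Topology.Compactification.StoneCech
-- import your own Groth.Agent.* helpers here

set_option autoImplicit false
open CategoryTheory CategoryTheory.Limits AlgebraicGeometry Opposite Topology
universe u
open ProEtW

namespace Groth.Agent.S0678

/-- A retract of a projective compact Hausdorff space is projective. -/
theorem projective_of_retract {P T : Type u} [TopologicalSpace P] [TopologicalSpace T]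
    (hT : CompactT2.Projective T) (g : T → P) (hg : Continuous g) (s : P → T) (hs : Continuous s)
    (hgs : ∀ x, g (s x) = x) : CompactT2.Projective P := by
  intro Y Z _ _ _ _ _ _ f φ hf hφ hφs
  obtain ⟨h, hh, hφh⟩ := hT (f := f ∘ g) (g := φ) (hf.comp hg) hφ hφs
  refine ⟨h ∘ s, hh.comp hs, ?_⟩
  ext x
  have h1 := congr_fun hφh (s x)
  simp only [Function.comp_apply] at h1 ⊢
  rw [h1, hgs]

theorem exists_gleason_aux (D : Type u) [TopologicalSpace D] [DiscreteTopology D] (P : Type u)
    [TopologicalSpace P] [CompactSpace P] [T2Space P] (f : D → P) (hf : Function.Surjective f) :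
    ∃ (T : Type u) (_ : TopologicalSpace T) (_ : CompactSpace T) (_ : T2Space T)
      (_ : TotallyDisconnectedSpace T) (g : C(T, P)),
      CompactT2.Projective T ∧ Function.Surjective g := by
  have hTproj : CompactT2.Projective (StoneCech D) := StoneCech.projective
  have hTED : ExtremallyDisconnected (StoneCech D) := hTproj.extremallyDisconnected
  have hfc : Continuous f := continuous_of_discreteTopology
  refine ⟨StoneCech D, inferInstance, inferInstance, inferInstance, inferInstance,
    ⟨stoneCechExtend hfc, continuous_stoneCechExtend hfc⟩, hTproj, ?_⟩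
  intro x
  obtain ⟨d, rfl⟩ := hf x
  exact ⟨stoneCechUnit d, congr_fun (stoneCechExtend_extends hfc) d⟩

/-- Every compact Hausdorff space is the image of a profinite projective one. -/
theorem exists_gleason (P : Type u) [TopologicalSpace P] [CompactSpace P] [T2Space P] :
    ∃ (T : Type u) (_ : TopologicalSpace T) (_ : CompactSpace T) (_ : T2Space T)
      (_ : TotallyDisconnectedSpace T) (g : C(T, P)),
      CompactT2.Projective T ∧ Function.Surjective g :=
  @exists_gleason_aux P ⊥ (@DiscreteTopology.mk P ⊥ rfl) P _ _ _ id Function.surjective_id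

/-- A ring with a surjection from a ring with w-local spectrum has w-local spectrum. -/
theorem isWLocal_of_surjective {R S : Type u} [CommRing R] [CommRing S] (f : R →+* S)
    (hf : Function.Surjective f) (hR : ProEtW.IsWLocal (PrimeSpectrum R)) :
    ProEtW.IsWLocal (PrimeSpectrum S) := by
  have hemb : IsClosedEmbedding (PrimeSpectrum.comap f) :=
    PrimeSpectrum.isClosedEmbedding_comap_of_surjective _ f hf
  have h1 := Groth.Agent.S0738.result (PrimeSpectrum R) hR (Set.range (PrimeSpectrum.comap f))
    hemb.isClosed_range
  let e : PrimeSpectrum S ≃ₜ Set.range (PrimeSpectrum.comap f) := hemb.isEmbedding.toHomeomorph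
  have hcl : ∀ x : PrimeSpectrum S, IsClosed ({x} : Set (PrimeSpectrum S)) ↔
      IsClosed ({e x} : Set (Set.range (PrimeSpectrum.comap f))) := by
    intro x
    rw [← e.isClosed_image, Set.image_singleton]
  refine ⟨inferInstance, ?_, ?_⟩
  · have h2 : {x : PrimeSpectrum S | IsClosed ({x} : Set (PrimeSpectrum S))} =
        e ⁻¹' {x | IsClosed ({x} : Set (Set.range (PrimeSpectrum.comap f)))} := by
      ext x
      exact hcl x
    rw [h2]
    exact h1.2.1.preimage e.continuous
  · intro x
    obtain ⟨y, ⟨hy1, hy2⟩, hy3⟩ := h1.2.2 (e x)
    refine ⟨e.symm y, ⟨?_, ?_⟩, ?_⟩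
    · rw [hcl, e.apply_symm_apply]
      exact hy1
    · have := hy2.map e.symm.continuous
      rwa [e.symm_apply_apply] at this
    · rintro z ⟨hz1, hz2⟩
      rw [hcl] at hz1
      have := hy3 (e z) ⟨hz1, hz2.map e.continuous⟩
      rw [← this, e.symm_apply_apply]

/-- Stacks Tag 09AZ, (2) iff (3): for a ring A, every faithfully flat ind-Zariski A-algebra (filtered colimit of local isomorphisms) has an A-algebra retraction if and only if Spec A is w-local and the space of connected components of Spec A is extremally disconnected. -/
theorem result (A : Type u) [CommRing A] :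
    ProEtW.HasIndZariskiRetractions A ↔
      (ProEtW.IsWLocal (PrimeSpectrum A) ∧
        ExtremallyDisconnected (ConnectedComponents (PrimeSpectrum A))) := by
  constructor
  · intro hR
    -- `Spec A` is w-local
    have hW : ProEtW.IsWLocal (PrimeSpectrum A) := by
      obtain ⟨Aw, _, _, hff, hind, hW, -⟩ := Groth.Agent.S0694.result A
      obtain ⟨ρ⟩ := hR Aw hff hind
      refine isWLocal_of_surjective ρ.toRingHom ?_ hW
      intro a
      exact ⟨algebraMap A Aw a, ρ.commutes a⟩
    refine ⟨hW, ?_⟩
    have hT2 : T2Space (ConnectedComponents (PrimeSpectrum A)) :=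
      Groth.Agent.Proet.SpectralPi0.t2Space_connectedComponents
    have hcpt : CompactSpace (ConnectedComponents (PrimeSpectrum A)) := inferInstance
    -- a Gleason cover
    obtain ⟨T, _, _, _, _, g, hTproj, hgs⟩ := exists_gleason (ConnectedComponents (PrimeSpectrum A))
    obtain ⟨B, _, _, e, hind, hcomp, hemb, hrange⟩ := Groth.Agent.S0697.result A T g
    have hsurj : Function.Surjective (PrimeSpectrum.comap (algebraMap A B)) := by
      intro x
      obtain ⟨t, ht⟩ := hgs (ConnectedComponents.mk x)
      have hmem : (x, t) ∈ {p : PrimeSpectrum A × T | ConnectedComponents.mk p.1 = g p.2} :=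
        ht.symm
      rw [← hrange] at hmem
      obtain ⟨y, hy⟩ := hmem
      exact ⟨y, congr_arg Prod.fst hy⟩
    have hflat : Module.Flat A B := Groth.Agent.Proet.IndZariski.flat_of_isIndZariski A B hind
    have hff : Module.FaithfullyFlat A B :=
      Module.FaithfullyFlat.of_comap_surjective hsurj
    obtain ⟨ρ⟩ := hR B hff hind
    have hρ : ρ.toRingHom.comp (algebraMap A B) = RingHom.id A := by
      ext a
      exact ρ.commutes a
    let σ : PrimeSpectrum A → PrimeSpectrum B := PrimeSpectrum.comap ρ.toRingHom
    have hσ : Continuous σ := PrimeSpectrum.continuous_comap _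
    have hσs : ∀ x, PrimeSpectrum.comap (algebraMap A B) (σ x) = x := by
      intro x
      have : PrimeSpectrum.comap (algebraMap A B) (σ x) =
          PrimeSpectrum.comap (ρ.toRingHom.comp (algebraMap A B)) x := by
        rw [PrimeSpectrum.comap_comp]
        rfl
      rw [this, hρ, PrimeSpectrum.comap_id]
    have hproj : CompactT2.Projective (ConnectedComponents (PrimeSpectrum A)) := by
      refine projective_of_retract hTproj g g.continuous (fun x ↦ e (hσ.connectedComponentsMap x))
        (e.continuous.comp hσ.connectedComponentsMap_continuous) ?_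
      intro x
      obtain ⟨x, rfl⟩ := ConnectedComponents.surjective_coe x
      have h1 := hcomp (σ x)
      rw [hσs] at h1
      exact h1
    exact hproj.extremallyDisconnected
  · rintro ⟨hW, hED⟩ B _ _ hff hind
    exact Groth.Agent.Proet2.ZarRetract.exists_retraction hW hED
      (Groth.Agent.EtpbcB.IdLoc.identifiesLocalRings_of_isIndZariski A B hind)
      PrimeSpectrum.comap_surjective_of_faithfullyFlat

end Groth.Agent.S0678
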