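import Groth.Statements.S0778
import Groth.Agent.Proet.WContr

set_option autoImplicit false
open CategoryTheory CategoryTheory.Limits AlgebraicGeometry Opposite Topology
universe u
open ProEtW

namespace Groth.Agent.S0778

/-- Stacks Tag 0982, (1) iff (2): a ring A is w-contractible (retractions for faithfully flat weakly etale algebras) if and only if every faithfully flat ind-etale A-algebra has an A-algebra retraction. -/
theorem result (A : Type u) [CommRing A] :
    EtPBC.IsWContractible A ↔ ProEtW.HasIndEtaleRetractions A := by
  constructor
  · exact Groth.Agent.Proet.WContr.hasIndEtaleRetractions_of_isWContractible A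
  · intro h
    obtain ⟨h1, h2, h3⟩ := Groth.Agent.Proet.WContr.wLocal_of_hasIndEtaleRetractions A h
    exact Groth.Agent.Proet.WContr.isWContractible_of_wLocal A h1 h2 h3

end Groth.Agent.S0778
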