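import Groth.Statements.S0677
import Groth.Agent.Proet.WContr

set_option autoImplicit false
open CategoryTheory CategoryTheory.Limits AlgebraicGeometry Opposite Topology
universe u
open ProEtW

namespace Groth.Agent.S0677

/-- Stacks Tag 0982, (1) iff (3): a ring A is w-contractible (every faithfully flat weakly etale A-algebra has a retraction) if and only if (a) Spec A is w-local, (b) the space of connected components of Spec A is extremally disconnected, and (c) A_m is strictly henselian for every maximal ideal m. -/
theorem result (A : Type u) [CommRing A] :
    EtPBC.IsWContractible A ↔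
      (ProEtW.IsWLocal (PrimeSpectrum A) ∧
        ExtremallyDisconnected (ConnectedComponents (PrimeSpectrum A)) ∧
        ∀ (m : Ideal A) [m.IsMaximal], EtCoh.IsStrictlyHenselianLocalRing (Localization.AtPrime m)) := by
  constructor
  · intro h
    exact Groth.Agent.Proet.WContr.wLocal_of_hasIndEtaleRetractions A
      (Groth.Agent.Proet.WContr.hasIndEtaleRetractions_of_isWContractible A h)
  · rintro ⟨h1, h2, h3⟩
    exact Groth.Agent.Proet.WContr.isWContractible_of_wLocal A h1 h2 h3

end Groth.Agent.S0677
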