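import Groth.Statements.S0737
import Groth.Agent.S0705

set_option autoImplicit false
open CategoryTheory CategoryTheory.Limits AlgebraicGeometry Opposite Topology
universe u
open ProEtW

namespace Groth.Agent.S0737

theorem isSpectralMap_comap {R S : Type*} [CommRing R] [CommRing S] (f : R →+* S) :
    IsSpectralMap (PrimeSpectrum.comap f) := by
  classical
  refine ⟨PrimeSpectrum.continuous_comap f, fun s hs hs' => ?_⟩
  obtain ⟨t, ht⟩ := PrimeSpectrum.isCompact_isOpen_iff.1 ⟨hs', hs⟩
  refine (PrimeSpectrum.isCompact_isOpen_iff.2 ⟨t.image f, ?_⟩).1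
  rw [← ht, Set.preimage_compl, PrimeSpectrum.preimage_comap_zeroLocus, Finset.coe_image]

/-- Stacks Tag 097A: let Spec A be w-local with radical ideal I cutting out its closed points, and A -> B inducing algebraic residue field extensions. Then (1) every point of V(IB) is closed in Spec B, and (2) there is an ind-Zariski B-algebra C with B/IB -> C/IC bijective, Spec C w-local, Spec C -> Spec A w-local, and closed points of Spec C exactly the points over closed points of Spec A. -/
theorem result (A B : Type u) [CommRing A]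
    [CommRing B] [Algebra A B] (hA : ProEtW.IsWLocal (PrimeSpectrum A)) (I : Ideal A) (hI : I.IsRadical)
    (hI0 : PrimeSpectrum.zeroLocus (R := A) I = ProEtW.closedPoints (PrimeSpectrum A))
    (h : ProEtW.AlgebraicResidueExtensions A B) :
    PrimeSpectrum.zeroLocus (R := B) (I.map (algebraMap A B)) ⊆ ProEtW.closedPoints (PrimeSpectrum B) ∧
    ∃ (C : Type u) (_ : CommRing C) (_ : Algebra B C) (_ : Algebra A C) (_ : IsScalarTower A B C),
      EtPBC.IsIndZariski B C ∧
      Function.Bijective (Ideal.quotientMap ((I.map (algebraMap A B)).map (algebraMap B C))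
        (algebraMap B C) Ideal.le_comap_map) ∧
      ProEtW.IsWLocal (PrimeSpectrum C) ∧
      ProEtW.IsWLocalMap (PrimeSpectrum.comap (algebraMap A C)) ∧
      ProEtW.closedPoints (PrimeSpectrum C) =
        PrimeSpectrum.comap (algebraMap A C) ⁻¹' ProEtW.closedPoints (PrimeSpectrum A) := by
  have hmaxI : ∀ p : PrimeSpectrum A, p ∈ PrimeSpectrum.zeroLocus (R := A) I →
      p.asIdeal.IsMaximal := by
    intro p hp
    rw [hI0] at hp
    exact (PrimeSpectrum.isClosed_singleton_iff_isMaximal p).1 hp
  have hmemV : ∀ (C : Type u) [CommRing C] [Algebra A C] (q : PrimeSpectrum C),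
      q ∈ PrimeSpectrum.zeroLocus (R := C) (I.map (algebraMap A C)) ↔
      PrimeSpectrum.comap (algebraMap A C) q ∈ PrimeSpectrum.zeroLocus (R := A) I := by
    intro C _ _ q
    rw [PrimeSpectrum.mem_zeroLocus, PrimeSpectrum.mem_zeroLocus, SetLike.coe_subset_coe,
      SetLike.coe_subset_coe, Ideal.map_le_iff_le_comap]
    rfl
  have h1 : PrimeSpectrum.zeroLocus (R := B) (I.map (algebraMap A B)) ⊆
      ProEtW.closedPoints (PrimeSpectrum B) := by
    intro q hq
    rw [hmemV] at hq
    have halg := h q.asIdeal
    have hmax : (q.asIdeal.comap (algebraMap A B)).IsMaximal := hmaxI _ hq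
    show IsClosed _
    rw [PrimeSpectrum.isClosed_singleton_iff_isMaximal]
    let _ := Ideal.Quotient.field (q.asIdeal.comap (algebraMap A B))
    rw [Ideal.Quotient.maximal_ideal_iff_isField_quotient]
    have : Algebra.IsIntegral (A ⧸ q.asIdeal.comap (algebraMap A B)) (B ⧸ q.asIdeal) :=
      Algebra.isAlgebraic_iff_isIntegral.1 halg
    exact isField_of_isIntegral_of_isField' (R := A ⧸ q.asIdeal.comap (algebraMap A B))
      (Field.toIsField _)
  refine ⟨h1, ?_⟩
  -- `V(IB)` is profinite
  have hprof : ProEtW.IsProfinite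
      (PrimeSpectrum.zeroLocus (R := B) (I.map (algebraMap A B))) := by
    have hsp : SpectralSpace (PrimeSpectrum.zeroLocus (R := B) (I.map (algebraMap A B))) :=
      Groth.Agent.Proet.SpectralPi0.spectralSpace_of_isClosed (PrimeSpectrum.isClosed_zeroLocus _)
    have ht1 : T1Space (PrimeSpectrum.zeroLocus (R := B) (I.map (algebraMap A B))) := by
      refine ⟨fun x => ?_⟩
      have : ({x} : Set (PrimeSpectrum.zeroLocus (R := B) (I.map (algebraMap A B)))) =
          Subtype.val ⁻¹' ({x.1} : Set (PrimeSpectrum B)) := by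
        ext y
        simp [Subtype.ext_iff]
      rw [this]
      exact (show IsClosed ({x.1} : Set (PrimeSpectrum B)) from h1 x.2).preimage
        continuous_subtype_val
    have ht2 : T2Space (PrimeSpectrum.zeroLocus (R := B) (I.map (algebraMap A B))) :=
      Groth.Agent.Proet.Spectral.t2Space_of_t1Space
    exact ⟨inferInstance, ht2, inferInstance⟩
  obtain ⟨C, _, _, hZ, hw, hcl, hbij⟩ :=
    Groth.Agent.S0705.result B (I.map (algebraMap A B)) hprof
  letI : Algebra A C := ((algebraMap B C).comp (algebraMap A B)).toAlgebra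
  haveI : IsScalarTower A B C := IsScalarTower.of_algebraMap_eq fun _ => rfl
  have hmap : (I.map (algebraMap A B)).map (algebraMap B C) = I.map (algebraMap A C) := by
    rw [Ideal.map_map]; rfl
  have hcl' : ProEtW.closedPoints (PrimeSpectrum C) =
      PrimeSpectrum.comap (algebraMap A C) ⁻¹' ProEtW.closedPoints (PrimeSpectrum A) := by
    rw [hcl, hmap, ← hI0]
    ext q
    exact hmemV C q
  refine ⟨C, inferInstance, inferInstance, inferInstance, inferInstance, hZ, hbij, hw, ?_, hcl'⟩
  refine ⟨isSpectralMap_comap _, ?_⟩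
  intro x hx
  have : x ∈ ProEtW.closedPoints (PrimeSpectrum C) := hx
  rw [hcl'] at this
  exact this

end Groth.Agent.S0737
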