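import Groth.Statements.S0692
import Groth.Agent.Proet.WSquare

set_option autoImplicit false
open CategoryTheory CategoryTheory.Limits AlgebraicGeometry Opposite Topology
universe u
open ProEtW

namespace Groth.Agent.S0692

/-- Stacks Tag 097X: let A -> B induce algebraic residue field extensions. Then one can find faithfully flat ind-etale extensions C of A and D of B, with D a C-algebra compatibly, such that: Spec C and Spec D are w-local; Spec D -> Spec C is w-local; the closed points of Spec D are exactly the points over closed points of Spec C; the closed points of Spec C map onto Spec A and those of Spec D onto Spec B; and C_m is strictly henselian for every maximal ideal m of C. -/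
theorem result (A B : Type u) [CommRing A] [CommRing B] [Algebra A B]
    (h : ProEtW.AlgebraicResidueExtensions A B) :
    ∃ (C D : Type u) (_ : CommRing C) (_ : CommRing D) (_ : Algebra A C) (_ : Algebra B D)
      (_ : Algebra C D) (_ : Algebra A D) (_ : IsScalarTower A C D) (_ : IsScalarTower A B D),
      Module.FaithfullyFlat A C ∧ EtPBC.IsIndEtale A C ∧ Module.FaithfullyFlat B D ∧
      EtPBC.IsIndEtale B D ∧ ProEtW.IsWLocal (PrimeSpectrum C) ∧ ProEtW.IsWLocal (PrimeSpectrum D) ∧
      ProEtW.IsWLocalMap (PrimeSpectrum.comap (algebraMap C D)) ∧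
      ProEtW.closedPoints (PrimeSpectrum D) =
        PrimeSpectrum.comap (algebraMap C D) ⁻¹' ProEtW.closedPoints (PrimeSpectrum C) ∧
      PrimeSpectrum.comap (algebraMap A C) '' ProEtW.closedPoints (PrimeSpectrum C) = Set.univ ∧
      PrimeSpectrum.comap (algebraMap B D) '' ProEtW.closedPoints (PrimeSpectrum D) = Set.univ ∧
      ∀ (m : Ideal C) [m.IsMaximal], EtCoh.IsStrictlyHenselianLocalRing (Localization.AtPrime m) := by
  obtain ⟨C, _, _, hAC, hCw, hCs, hSH⟩ := Groth.Agent.Proet.WSquare.exists_strictlyHenselian_wLocal A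
  let _ : Algebra C (TensorProduct A B C) := Algebra.TensorProduct.rightAlgebra
  have hres : ProEtW.AlgebraicResidueExtensions C (TensorProduct A B C) :=
    Groth.Agent.Proet.ResExt.algebraicResidueExtensions_baseChange A B C h
  obtain ⟨J, hJr, hJ0⟩ := Groth.Agent.Proet.WSquare.exists_ideal_closedPoints C hCw
  obtain ⟨hc1, D, _, _, _, _, hD1, hD2, hD3, hD4, hD5⟩ :=
    Groth.Agent.S0737.result C (TensorProduct A B C) hCw J hJr hJ0 hres
  let _ : Algebra B D := ((algebraMap (TensorProduct A B C) D).comp (algebraMap B (TensorProduct A B C))).toAlgebra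
  have _ : IsScalarTower B (TensorProduct A B C) D := .of_algebraMap_eq' rfl
  let _ : Algebra A D := ((algebraMap C D).comp (algebraMap A C)).toAlgebra
  have _ : IsScalarTower A C D := .of_algebraMap_eq' rfl
  have hABD : IsScalarTower A B D := by
    refine .of_algebraMap_eq fun a => ?_
    change algebraMap C D (algebraMap A C a) =
      algebraMap (TensorProduct A B C) D (algebraMap B (TensorProduct A B C) (algebraMap A B a))
    rw [IsScalarTower.algebraMap_apply C (TensorProduct A B C) D]
    congr 1
    change TensorProduct.tmul A (1 : B) (algebraMap A C a) = TensorProduct.tmul A (algebraMap A B a) (1 : C)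
    rw [Algebra.algebraMap_eq_smul_one, Algebra.algebraMap_eq_smul_one,
      TensorProduct.smul_tmul]
  have hBD : EtPBC.IsIndEtale B D :=
    Groth.Agent.Proet.IndEtale.isIndEtale_trans B (TensorProduct A B C) D
      (Groth.Agent.Proet.IndEtale.isIndEtale_baseChange A C B hAC)
      (Groth.Agent.EtpbcB.IdLoc.isIndEtale_of_isIndZariski _ _ hD1)
  have hDs : PrimeSpectrum.comap (algebraMap B D) '' ProEtW.closedPoints (PrimeSpectrum D) =
      Set.univ := by
    rw [Set.eq_univ_iff_forall]
    intro q
    have hp : PrimeSpectrum.comap (algebraMap A B) q ∈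
        PrimeSpectrum.comap (algebraMap A C) '' ProEtW.closedPoints (PrimeSpectrum C) := by
      rw [hCs]; trivial
    obtain ⟨c, hc, hcq⟩ := hp
    obtain ⟨Q, hQ, hQ1, hQ2⟩ := Groth.Agent.Proet.ResExt.exists_prime_tensor (R := A)
      q.asIdeal c.asIdeal (congrArg PrimeSpectrum.asIdeal hcq.symm)
    have hQc : PrimeSpectrum.comap (algebraMap C (TensorProduct A B C)) ⟨Q, hQ⟩ = c :=
      PrimeSpectrum.ext hQ2
    have hQq : PrimeSpectrum.comap (algebraMap B (TensorProduct A B C)) ⟨Q, hQ⟩ = q :=
      PrimeSpectrum.ext hQ1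
    obtain ⟨r, hr1, hr2⟩ := Groth.Agent.Proet.WSquare.exists_closedPoint_lift hJ0 hD2 hD5 ⟨Q, hQ⟩
      (hQc.symm ▸ hc)
    refine ⟨r, hr1, ?_⟩
    rw [IsScalarTower.algebraMap_eq B (TensorProduct A B C) D, PrimeSpectrum.comap_comp_apply, hr2, hQq]
  have hffC : Module.FaithfullyFlat A C := by
    have : Module.Flat A C := Groth.Agent.Proet.IndZariski.flat_of_isIndEtale A C hAC
    refine .of_comap_surjective ?_
    intro p
    have hp : p ∈ PrimeSpectrum.comap (algebraMap A C) '' ProEtW.closedPoints (PrimeSpectrum C) := by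
      rw [hCs]; trivial
    obtain ⟨c, hc, hcq⟩ := hp
    exact ⟨c, hcq⟩
  have hffD : Module.FaithfullyFlat B D := by
    have : Module.Flat B D := Groth.Agent.Proet.IndZariski.flat_of_isIndEtale B D hBD
    refine .of_comap_surjective ?_
    intro p
    have hp : p ∈ PrimeSpectrum.comap (algebraMap B D) '' ProEtW.closedPoints (PrimeSpectrum D) := by
      rw [hDs]; trivial
    obtain ⟨c, hc, hcq⟩ := hp
    exact ⟨c, hcq⟩
  exact ⟨C, D, inferInstance, inferInstance, inferInstance, inferInstance, inferInstance,
    inferInstance, inferInstance, hABD, hffC, hAC, hffD, hBD, hCw, hD3, hD4, hD5, hCs, hDs, hSH⟩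

end Groth.Agent.S0692
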