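import Groth.Statements.S0703
import Groth.Agent.Proet.SpectralPi0

set_option autoImplicit false
open Topology
universe u
open ProEtW

namespace Groth.Agent.S0703

open Groth.Agent.Proet.Spectral Groth.Agent.Proet.SpectralPi0

/-- the fibre product is closed in the product. -/
theorem isClosed_fibreProduct (X T : Type u) [TopologicalSpace X] [SpectralSpace X]
    [TopologicalSpace T] (g : C(T, ConnectedComponents X)) :
    IsClosed {p : X × T | ConnectedComponents.mk p.1 = g p.2} := by
  have := t2Space_connectedComponents (X := X)
  exact isClosed_eq (ConnectedComponents.continuous_coe.comp continuous_fst)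
    (g.continuous.comp continuous_snd)

/-- Stacks Tag 096C, first part: let X be a spectral space, T a profinite space and g : T -> pi_0(X) continuous; let Y be the fibre product of X and T over pi_0(X) (pairs (x, t) with [x] = g t, subspace topology). Then Y is spectral and the projection Y -> T induces a homeomorphism pi_0(Y) = T. -/
theorem result (X T : Type u) [TopologicalSpace X] [SpectralSpace X]
    [TopologicalSpace T] [CompactSpace T] [T2Space T] [TotallyDisconnectedSpace T]
    (g : C(T, ConnectedComponents X)) :
    SpectralSpace {p : X × T // ConnectedComponents.mk p.1 = g p.2} ∧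
      ∃ e : ConnectedComponents {p : X × T // ConnectedComponents.mk p.1 = g p.2} ≃ₜ T,
        ∀ y : {p : X × T // ConnectedComponents.mk p.1 = g p.2}, e (ConnectedComponents.mk y) = y.1.2 := by
  have hT2 := t2Space_connectedComponents (X := X)
  have hTs : SpectralSpace T := spectralSpace_of_profinite
  have hXT : SpectralSpace (X × T) := spectralSpace_prod
  have hcl := isClosed_fibreProduct X T g
  have hspec : SpectralSpace {p : X × T // ConnectedComponents.mk p.1 = g p.2} :=
    spectralSpace_of_isClosed hcl
  refine ⟨hspec, ?_⟩
  have hcont : Continuous (fun y : {p : X × T // ConnectedComponents.mk p.1 = g p.2} => y.1.2) :=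
    continuous_snd.comp continuous_subtype_val
  have hbij : Function.Bijective hcont.connectedComponentsLift := by
    constructor
    · refine ConnectedComponents.surjective_coe.forall₂.2 fun y z hyz => ?_
      change y.1.2 = z.1.2 at hyz
      obtain ⟨⟨x, t⟩, hx⟩ := y
      obtain ⟨⟨x', t'⟩, hx'⟩ := z
      obtain rfl : t = t' := hyz
      change ConnectedComponents.mk x = g t at hx
      change ConnectedComponents.mk x' = g t at hx'
      have hconn : IsPreconnected (connectedComponent x) := isPreconnected_connectedComponent
      have hmem : ∀ z ∈ connectedComponent x, ConnectedComponents.mk z = g t := fun z hz =>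
        (ConnectedComponents.coe_eq_coe.2 (connectedComponent_eq hz).symm).trans hx
      have him : IsPreconnected (Set.range (fun z : connectedComponent x =>
          (⟨(z.1, t), hmem z.1 z.2⟩ : {p : X × T // ConnectedComponents.mk p.1 = g p.2}))) := by
        have : PreconnectedSpace (connectedComponent x) := Subtype.preconnectedSpace hconn
        apply isPreconnected_range
        exact Continuous.subtype_mk (continuous_subtype_val.prodMk continuous_const) _
      have hx'x : x' ∈ connectedComponent x :=
        ConnectedComponents.coe_eq_coe'.1 (hx'.trans hx.symm)
      apply ConnectedComponents.coe_eq_coe'.2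
      have h1 := him.subset_connectedComponent ⟨⟨x', hx'x⟩, rfl⟩
      have h2 : (⟨(x, t), hx⟩ : {p : X × T // ConnectedComponents.mk p.1 = g p.2}) ∈
        Set.range (fun z : connectedComponent x =>
          (⟨(z.1, t), hmem z.1 z.2⟩ : {p : X × T // ConnectedComponents.mk p.1 = g p.2})) :=
        ⟨⟨x, mem_connectedComponent⟩, rfl⟩
      exact h1 h2
    · intro t
      obtain ⟨x, hx⟩ := ConnectedComponents.surjective_coe (g t)
      exact ⟨ConnectedComponents.mk ⟨(x, t), hx⟩, rfl⟩
  have hc : CompactSpace (ConnectedComponents {p : X × T // ConnectedComponents.mk p.1 = g p.2}) :=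
    inferInstance
  refine ⟨(Continuous.homeoOfEquivCompactToT2 (f := Equiv.ofBijective _ hbij)
    hcont.connectedComponentsLift_continuous), ?_⟩
  intro y
  rfl


end Groth.Agent.S0703
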