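import Groth.Statements.S0704
import Groth.Agent.S0703

set_option autoImplicit false
open Topology
universe u
open ProEtW

namespace Groth.Agent.S0704

open Groth.Agent.Proet.Spectral Groth.Agent.Proet.SpectralPi0

/-- Stacks Tag 096C, second part: with X, T, g and the fibre product Y of X and T over pi_0(X) as in the first part, if X is moreover w-local then Y is w-local, the projection Y -> X is w-local, and the closed points of Y are exactly the points mapping to closed points of X. -/
theorem result (X T : Type u) [TopologicalSpace X]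
    [TopologicalSpace T] [CompactSpace T] [T2Space T] [TotallyDisconnectedSpace T]
    (hX : ProEtW.IsWLocal X) (g : C(T, ConnectedComponents X)) :
    ProEtW.IsWLocal {p : X × T // ConnectedComponents.mk p.1 = g p.2} ∧
      ProEtW.IsWLocalMap (fun y : {p : X × T // ConnectedComponents.mk p.1 = g p.2} => y.1.1) ∧
      ProEtW.closedPoints {p : X × T // ConnectedComponents.mk p.1 = g p.2} =
        (fun y : {p : X × T // ConnectedComponents.mk p.1 = g p.2} => y.1.1) ⁻¹' ProEtW.closedPoints X := by
  obtain ⟨hXs, hXcl, hXu⟩ := hX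
  have hclosed : ProEtW.closedPoints {p : X × T // ConnectedComponents.mk p.1 = g p.2} =
      (fun y : {p : X × T // ConnectedComponents.mk p.1 = g p.2} => y.1.1) ⁻¹'
        ProEtW.closedPoints X := by
    ext ⟨⟨x, t⟩, hx⟩
    change ConnectedComponents.mk x = g t at hx
    simp only [ProEtW.closedPoints, Set.mem_ofPred_eq, Set.mem_preimage]
    constructor
    · intro h
      obtain ⟨x', ⟨h1, h2⟩, -⟩ := hXu x
      have hx' : ConnectedComponents.mk x' = g t := (mk_eq_of_specializes h2).symm.trans hx
      have hsp : (⟨(x, t), hx⟩ : {p : X × T // ConnectedComponents.mk p.1 = g p.2}) ⤳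
          ⟨(x', t), hx'⟩ :=
        (subtype_specializes_iff _ _).2 (h2.prod specializes_rfl)
      have h3 : (⟨(x', t), hx'⟩ : {p : X × T // ConnectedComponents.mk p.1 = g p.2}) =
          ⟨(x, t), hx⟩ := hsp.mem_closed h rfl
      have h4 : x' = x := congrArg (fun p => p.1.1) h3
      exact h4 ▸ h1
    · intro h
      have : ({⟨(x, t), hx⟩} : Set {p : X × T // ConnectedComponents.mk p.1 = g p.2}) =
          Subtype.val ⁻¹' (({x} : Set X) ×ˢ ({t} : Set T)) := by
        ext ⟨⟨a, b⟩, hab⟩
        simp
      rw [this]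
      exact (h.prod isClosed_singleton).preimage continuous_subtype_val
  refine ⟨⟨(Groth.Agent.S0703.result X T g).1, ?_, ?_⟩, ⟨?_, ?_⟩, hclosed⟩
  · have h1 := hXcl.preimage (f := (fun y : {p : X × T // ConnectedComponents.mk p.1 = g p.2} =>
      y.1.1)) (continuous_fst.comp continuous_subtype_val)
    exact (congrArg IsClosed hclosed).mpr h1
  · rintro ⟨⟨x, t⟩, hx⟩
    change ConnectedComponents.mk x = g t at hx
    obtain ⟨x', ⟨h1, h2⟩, h3⟩ := hXu x
    have hx' : ConnectedComponents.mk x' = g t := (mk_eq_of_specializes h2).symm.trans hx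
    refine ⟨⟨(x', t), hx'⟩, ⟨?_, ?_⟩, ?_⟩
    · exact (Set.ext_iff.1 hclosed ⟨(x', t), hx'⟩).2 h1
    · exact (subtype_specializes_iff _ _).2 (h2.prod specializes_rfl)
    · rintro ⟨⟨y, s⟩, hy⟩ ⟨hy1, hy2⟩
      have h4 : y ∈ ProEtW.closedPoints X := (Set.ext_iff.1 hclosed ⟨(y, s), hy⟩).1 hy1
      have h5 : (x, t) ⤳ (y, s) := hy2.map continuous_subtype_val
      obtain ⟨h6, h7⟩ := specializes_prod.1 h5
      have h8 : t = s := h7.eq
      have h9 : y = x' := h3 y ⟨h4, h6⟩
      subst h8 h9
      rfl
  · have hcl := Groth.Agent.S0703.isClosed_fibreProduct X T g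
    have hv : IsSpectralMap
        (Subtype.val : {p : X × T // ConnectedComponents.mk p.1 = g p.2} → X × T) :=
      hcl.isClosedEmbedding_subtypeVal.isProperMap.isSpectralMap
    have hf : IsSpectralMap (Prod.fst : X × T → X) := by
      refine ⟨continuous_fst, fun s hs hc => ?_⟩
      rw [← Set.prod_univ]
      exact hc.prod isCompact_univ
    exact hf.comp hv
  · intro y hy
    exact (Set.ext_iff.1 hclosed y).1 hy


end Groth.Agent.S0704
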