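import Groth.Statements.S0177
import Groth.Agent.S0692
import Groth.Agent.S0677
import Groth.Agent.S0704
import Groth.Agent.S0734
import Groth.Agent.Proet.ProfRing
import Groth.Agent.Proet.FacInd
import Groth.Agent.Proet.WLocalMap
import Groth.Agent.Proet.SpectralPi0
import Groth.Agent.Proet.LocalRings
import Groth.Agent.Proet.IndZariski
import Groth.Agent.EtpbcB.IdLoc
import Groth.Agent.EtpbcB.StrHensEquiv
import Mathlib.Topology.Category.Stonean.Basic

set_option autoImplicit false
universe u
open CategoryTheory CategoryTheory.Limits AlgebraicGeometry Opposite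
open EtPBC

namespace Groth.Agent.S0177

open Groth.Agent.EtpbcB Groth.Agent.Proet Groth.Agent.Proet.ProfRing Topology

/-- Every compact Hausdorff space is covered by an extremally disconnected compact Hausdorff
space. -/
theorem exists_extremallyDisconnected_cover (X : Type u) [TopologicalSpace X] [CompactSpace X]
    [T2Space X] : ∃ (T : Type u) (_ : TopologicalSpace T) (_ : CompactSpace T) (_ : T2Space T)
      (_ : ExtremallyDisconnected T) (g : C(T, X)), Function.Surjective g := by
  let Y := CompHaus.of X
  let T := Y.presentation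
  refine ⟨T, inferInstance, inferInstance, inferInstance, inferInstance,
    (CompHaus.presentation.π Y).hom.hom, ?_⟩
  exact (CompHaus.epi_iff_surjective _).1 (CompHaus.presentation.epi_π Y)


theorem extremallyDisconnected_of_homeo {X Y : Type u} [TopologicalSpace X] [TopologicalSpace Y]
    (e : X ≃ₜ Y) [ExtremallyDisconnected Y] : ExtremallyDisconnected X := by
  constructor
  intro U hU
  have h1 : IsOpen (e '' U) := (e.isOpen_image).2 hU
  have h2 := ExtremallyDisconnected.open_closure _ h1
  rw [← e.image_closure, e.isOpen_image] at h2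
  exact h2

theorem exists_cover (C : Type u) [CommRing C] (hwC : ProEtW.IsWLocal (PrimeSpectrum C)) :
    ∃ (D : Type u) (_ : CommRing D) (_ : Algebra C D),
      EtPBC.IsIndZariski C D ∧ Module.FaithfullyFlat C D ∧ ProEtW.IsWLocal (PrimeSpectrum D) ∧
      ExtremallyDisconnected (ConnectedComponents (PrimeSpectrum D)) ∧
      ∀ y : PrimeSpectrum D, IsClosed ({y} : Set (PrimeSpectrum D)) →
        IsClosed ({PrimeSpectrum.comap (algebraMap C D) y} : Set (PrimeSpectrum C)) := by
  have := hwC.1
  have : T2Space (ConnectedComponents (PrimeSpectrum C)) := SpectralPi0.t2Space_connectedComponents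
  obtain ⟨T, _, _, _, _, g, hg⟩ :=
    exists_extremallyDisconnected_cover (ConnectedComponents (PrimeSpectrum C))
  have hfac := fac_PR_self g
  have hZ : EtPBC.IsIndZariski C (PR g) := (FacInd.isIndZariski_iff_fac _).2 hfac
  have hff : Module.FaithfullyFlat C (PR g) := by
    have := IndZariski.flat_of_isIndZariski C (PR g) hZ
    exact Module.FaithfullyFlat.of_comap_surjective (comap_surjective g hg)
  obtain ⟨hw1, hw2, hw3⟩ := Groth.Agent.S0704.result (PrimeSpectrum C) T hwC g
  refine ⟨PR g, inferInstance, inferInstance, hZ, hff,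
    WLocalMap.isWLocal_of_homeo hw1 (specHomeo g), extremallyDisconnected_of_homeo (pi0Homeo g), ?_⟩
  intro y hy
  have h1 : IsClosed ({specHomeo g y} : Set _) := by
    rw [← Set.image_singleton, (specHomeo g).isClosed_image]
    exact hy
  have h2 : specHomeo g y ∈ ProEtW.closedPoints
    {p : PrimeSpectrum C × T // ConnectedComponents.mk p.1 = g p.2} := h1
  rw [hw3] at h2
  exact h2

/-- Stacks Tag 0983: for every ring A there is a faithfully flat ind-etale A-algebra D which is w-contractible, i.e. every faithfully flat weakly etale D-algebra has a D-algebra retraction. -/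
theorem result (A : Type u) [CommRing A] :
    ∃ (D : Type u) (_ : CommRing D) (_ : Algebra A D),
      Module.FaithfullyFlat A D ∧ EtPBC.IsIndEtale A D ∧ EtPBC.IsWContractible D := by
  obtain ⟨C, _, _, _, _, _, _, _, _, _, hC, hAC, -, -, hwC, -, -, -, -, -, hsh⟩ :=
    Groth.Agent.S0692.result A A (LocalRings.algebraicResidueExtensions_of_weaklyEtale A A)
  obtain ⟨D, _, _, hZ, hff, hwD, hED, hcl⟩ := exists_cover C hwC
  let algA : Algebra A D := ((algebraMap C D).comp (algebraMap A C)).toAlgebra
  have tow : IsScalarTower A C D := IsScalarTower.of_algebraMap_eq' rfl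
  refine ⟨D, inferInstance, algA, ?_, ?_, ?_⟩
  · exact Module.FaithfullyFlat.trans A C D
  · exact Groth.Agent.S0734.result A C D hAC (IdLoc.isIndEtale_of_isIndZariski _ _ hZ)
  · rw [Groth.Agent.S0677.result]
    refine ⟨hwD, hED, ?_⟩
    intro n hn
    have hncl : IsClosed ({⟨n, hn.isPrime⟩} : Set (PrimeSpectrum D)) :=
      (PrimeSpectrum.isClosed_singleton_iff_isMaximal _).2 hn
    have hm : (n.comap (algebraMap C D)).IsMaximal :=
      (PrimeSpectrum.isClosed_singleton_iff_isMaximal _).1 (hcl _ hncl)
    have hbij := IdLoc.identifiesLocalRings_of_isIndZariski C D hZ ⟨n, hn.isPrime⟩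
    exact StrHensEquiv.isStrictlyHenselian_of_ringEquiv (RingEquiv.ofBijective _ hbij) (hsh _)

end Groth.Agent.S0177
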