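import Groth.Statements.S0176
import Groth.Agent.S0692
import Groth.Agent.S0700
import Groth.Agent.S0427
import Groth.Agent.S0734
import Groth.Agent.S0736
import Groth.Agent.Proet.LocalRings
import Groth.Agent.EtpbcB.IdLoc

set_option autoImplicit false
universe u
open CategoryTheory CategoryTheory.Limits AlgebraicGeometry Opposite
open EtPBC

namespace Groth.Agent.S0176

open Groth.Agent.EtpbcB Groth.Agent.Proet

/-- Olivier's theorem at a prime of a weakly etale algebra over a prime with strictly henselian
local ring. -/
theorem bijective_localRingHom (C D : Type u) [CommRing C] [CommRing D] [Algebra C D]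
    [Algebra.WeaklyEtale C D] (n : Ideal D) [n.IsPrime]
    (hm : EtCoh.IsStrictlyHenselianLocalRing (Localization.AtPrime (n.comap (algebraMap C D)))) :
    Function.Bijective (Localization.localRingHom (n.comap (algebraMap C D)) n
      (algebraMap C D) rfl) := by
  set m := n.comap (algebraMap C D) with hmn
  have : n.LiesOver m := ⟨rfl⟩
  let := Localization.AtPrime.algebraOfLiesOver m n
  have e : algebraMap (Localization.AtPrime m) (Localization.AtPrime n) =
      Localization.localRingHom m n (algebraMap C D) rfl := rfl
  have : IsScalarTower C (Localization.AtPrime m) (Localization.AtPrime n) := inferInstance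
  have : Algebra.WeaklyEtale C (Localization.AtPrime m) :=
    WEtale2.weaklyEtale_of_isLocalization _ m.primeCompl
  have : Algebra.WeaklyEtale D (Localization.AtPrime n) :=
    WEtale2.weaklyEtale_of_isLocalization _ n.primeCompl
  have : Algebra.WeaklyEtale C (Localization.AtPrime n) :=
    Algebra.WeaklyEtale.trans C D _
  have : Algebra.WeaklyEtale (Localization.AtPrime m) (Localization.AtPrime n) :=
    WEtale2.weaklyEtale_of_weaklyEtale_comp C _ _
  have : IsLocalHom (algebraMap (Localization.AtPrime m) (Localization.AtPrime n)) := by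
    rw [e]
    exact Localization.isLocalHom_localRingHom _ _ _ _
  obtain ⟨_, _⟩ := hm
  exact Groth.Agent.S0427.result

/-- Stacks Tag 097Z: for a weakly etale ring map A -> B (Mathlib's Algebra.WeaklyEtale) one can enlarge B along a faithfully flat ind-etale extension B' so that B' is already ind-etale over A; here ind-etale means: a filtered colimit of etale algebras. -/
theorem result (A B : Type u) [CommRing A] [CommRing B] [Algebra A B]
    [Algebra.WeaklyEtale A B] :
    ∃ (B' : Type u) (_ : CommRing B') (_ : Algebra B B') (_ : Algebra A B') (_ : IsScalarTower A B B'),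
      Module.FaithfullyFlat B B' ∧ EtPBC.IsIndEtale B B' ∧ EtPBC.IsIndEtale A B' := by
  obtain ⟨C, D, _, _, _, _, _, _, _, _, hC, hAC, hD, hBD, hwC, hwD, hmap, hcl, -, -, hsh⟩ :=
    Groth.Agent.S0692.result A B (LocalRings.algebraicResidueExtensions_of_weaklyEtale A B)
  have : Algebra.WeaklyEtale A C := Groth.Agent.S0736.result A C hAC
  have : Algebra.WeaklyEtale B D := Groth.Agent.S0736.result B D hBD
  have : Algebra.WeaklyEtale A D := Algebra.WeaklyEtale.trans A B D
  have : Algebra.WeaklyEtale C D := WEtale2.weaklyEtale_of_weaklyEtale_comp A C D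
  have hid : EtPBC.IdentifiesLocalRings C D := by
    refine LocalRings.identifiesLocalRings_of_exists_ge C D fun q => ?_
    obtain ⟨n, hn, hqn⟩ := Ideal.exists_le_maximal q.asIdeal q.2.ne_top
    refine ⟨⟨n, hn.isPrime⟩, hqn, ?_⟩
    have hncl : (⟨n, hn.isPrime⟩ : PrimeSpectrum D) ∈ ProEtW.closedPoints (PrimeSpectrum D) :=
      (PrimeSpectrum.isClosed_singleton_iff_isMaximal _).2 hn
    rw [hcl] at hncl
    have hm : (n.comap (algebraMap C D)).IsMaximal :=
      (PrimeSpectrum.isClosed_singleton_iff_isMaximal _).1 hncl
    exact bijective_localRingHom C D n (hsh _)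
  have hind : EtPBC.IsIndZariski C D := Groth.Agent.S0700.result C D hid hwC hwD hmap
  exact ⟨D, inferInstance, inferInstance, inferInstance, inferInstance, hD, hBD,
    Groth.Agent.S0734.result A C D hAC (IdLoc.isIndEtale_of_isIndZariski C D hind)⟩

end Groth.Agent.S0176
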