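import Groth.Statements.S0713
import Groth.Agent.Proet.WCExist
import Groth.Agent.S0177
import Groth.Agent.S0736

set_option autoImplicit false
open CategoryTheory CategoryTheory.Limits AlgebraicGeometry Opposite
universe u
open ProEtS

namespace Groth.Agent.S0713

/-- Stacks Tag 0F4P (for the small pro-etale site X_proet), first assertion: every object U of X_proet admits a covering {V -> U} by a single weakly contractible object V. -/
theorem result {X : Scheme.{u}} (U : X.ProEt) :
    ∃ (V : X.ProEt) (g : V ⟶ U),
      Sieve.generate (Presieve.singleton g) ∈ Scheme.ProEt.topology X U ∧ ProEtS.IsWC V := by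
  have hwc : Groth.Agent.Proet.WCExist.HasWCCover.{u} := fun A _ => by
    obtain ⟨D, i1, i2, h1, h2, h3⟩ := Groth.Agent.S0177.result A
    exact ⟨D, i1, i2, h1, Groth.Agent.S0736.result A D h2, h3⟩
  obtain ⟨V, g, h1, -, h2⟩ := Groth.Agent.Proet.WCExist.exists_wc_cover_of_opens hwc U
    (ι := U.left.affineOpens) (fun T => T.1) (fun T => T.2) (fun x => by
      obtain ⟨T, hT, hx, -⟩ := U.left.isBasis_affineOpens.exists_subset_of_mem_open
        (Set.mem_univ x) isOpen_univ
      obtain ⟨T', hT', rfl⟩ := hT
      exact ⟨⟨T', hT'⟩, hx⟩)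
  exact ⟨V, g, h1, h2⟩

end Groth.Agent.S0713
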