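import Groth.Statements.S0701
import Groth.Agent.Proet.Spectral

set_option autoImplicit false
open CategoryTheory CategoryTheory.Limits AlgebraicGeometry Opposite Topology
universe u
open ProEtW

namespace Groth.Agent.S0701

/-- Stacks Tag 0978, case (1): let Spec A be profinite (quasi-compact, Hausdorff, totally disconnected) and A -> B a ring map such that two distinct primes of B over the same prime of A are never comparable. Then Spec B is profinite. -/
theorem result (A B : Type u) [CommRing A] [CommRing B]
    [Algebra A B] [T2Space (PrimeSpectrum A)] [TotallyDisconnectedSpace (PrimeSpectrum A)]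
    (h : ∀ q q' : PrimeSpectrum B, q.asIdeal.comap (algebraMap A B) = q'.asIdeal.comap (algebraMap A B) →
      q.asIdeal ≤ q'.asIdeal → q = q') :
    ProEtW.IsProfinite (PrimeSpectrum B) := by
  have h1 : T1Space (PrimeSpectrum B) := by
    rw [t1Space_iff_specializes_imp_eq]
    intro q q' hq
    refine h q q' ?_ ((PrimeSpectrum.le_iff_specializes q q').2 hq)
    have := hq.map (PrimeSpectrum.continuous_comap (algebraMap A B))
    exact congrArg PrimeSpectrum.asIdeal this.eq
  have h2 : T2Space (PrimeSpectrum B) := Groth.Agent.Proet.Spectral.t2Space_of_t1Space
  exact ⟨inferInstance, inferInstance, inferInstance⟩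

end Groth.Agent.S0701
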