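import Groth.Statements.S0698
import Groth.Agent.Proet.FacInd
import Groth.Agent.Proet.Pi0Ring

set_option autoImplicit false
open CategoryTheory CategoryTheory.Limits AlgebraicGeometry Opposite Topology
universe u
open ProEtW

namespace Groth.Agent.S0698

/-- Stacks Tag 097C: let A be a ring, X = Spec A and T a closed subset of pi_0(X). Then A has an ind-Zariski quotient ring B (the map A -> B is surjective) whose spectrum maps homeomorphically onto the preimage of T in X. -/
theorem result (A : Type u) [CommRing A]
    (T : Set (ConnectedComponents (PrimeSpectrum A))) (hT : IsClosed T) :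
    ∃ (B : Type u) (_ : CommRing B) (_ : Algebra A B),
      EtPBC.IsIndZariski A B ∧ Function.Surjective (algebraMap A B) ∧
      Topology.IsEmbedding (PrimeSpectrum.comap (algebraMap A B)) ∧
      Set.range (PrimeSpectrum.comap (algebraMap A B)) = ConnectedComponents.mk ⁻¹' T := by
  have hF : Groth.Agent.Proet.FacM.Fac A (Groth.Agent.Proet.FacM.LocIso A)
      (Localization (Groth.Agent.Proet.Pi0Ring.idemSub A (ConnectedComponents.mk ⁻¹' T))) :=
    Groth.Agent.Proet.FacM.Fac.localization Groth.Agent.Proet.FacM.locIso_away
      (Groth.Agent.Proet.FacM.Fac.of_self Groth.Agent.Proet.FacM.locIso_self)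
      (Groth.Agent.Proet.Pi0Ring.idemSub A (ConnectedComponents.mk ⁻¹' T)) _
  exact ⟨Localization (Groth.Agent.Proet.Pi0Ring.idemSub A (ConnectedComponents.mk ⁻¹' T)),
    inferInstance, inferInstance,
    (Groth.Agent.Proet.FacInd.isIndZariski_iff_fac _).2 hF,
    Groth.Agent.Proet.Pi0Ring.surjective_of_idem
      (Groth.Agent.Proet.Pi0Ring.idemSub A (ConnectedComponents.mk ⁻¹' T)) (fun e he => he.1) _,
    PrimeSpectrum.localization_comap_isEmbedding _
      (Groth.Agent.Proet.Pi0Ring.idemSub A (ConnectedComponents.mk ⁻¹' T)),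
    Groth.Agent.Proet.Pi0Ring.range_comap T hT _⟩

end Groth.Agent.S0698
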