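import Groth.Statements.S0699
import Groth.Agent.Proet2.WLocal
import Groth.Agent.Proet2.IdentLoc
-- import your own Groth.Agent.* helpers here

set_option autoImplicit false
open CategoryTheory CategoryTheory.Limits AlgebraicGeometry Opposite Topology
universe u
open ProEtW

namespace Groth.Agent.S0699

/-- Stacks Tag 097E: let A -> B identify local rings, with Spec A and Spec B w-local, Spec B -> Spec A w-local, and pi_0(Spec B) -> pi_0(Spec A) bijective. Then A -> B is bijective. -/
theorem result (A B : Type u) [CommRing A] [CommRing B]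
    [Algebra A B] (h1 : EtPBC.IdentifiesLocalRings A B) (h2 : ProEtW.IsWLocal (PrimeSpectrum A))
    (h3 : ProEtW.IsWLocal (PrimeSpectrum B))
    (h4 : ProEtW.IsWLocalMap (PrimeSpectrum.comap (algebraMap A B)))
    (h5 : Function.Bijective
      (PrimeSpectrum.continuous_comap (algebraMap A B)).connectedComponentsMap) :
    Function.Bijective (algebraMap A B) := by
  refine Groth.Agent.Proet2.IdentLoc.bijective_of_identifiesLocalRings h1 ?_
  intro m hm
  let p : PrimeSpectrum A := ⟨m, hm.isPrime⟩
  have hp : IsClosed ({p} : Set (PrimeSpectrum A)) :=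
    (PrimeSpectrum.isClosed_singleton_iff_isMaximal p).mpr hm
  obtain ⟨z, hz⟩ := h5.2 (ConnectedComponents.mk p)
  obtain ⟨y, rfl⟩ := ConnectedComponents.surjective_coe z
  let n := Groth.Agent.Proet2.WLocal.closedPt h3 y
  have hyn : y ⤳ n := Groth.Agent.Proet2.WLocal.specializes_closedPt h3 y
  have hn : IsClosed ({n} : Set (PrimeSpectrum B)) :=
    Groth.Agent.Proet2.WLocal.isClosed_closedPt h3 y
  have hmapn : PrimeSpectrum.comap (algebraMap A B) n = p := by
    have h6 : ConnectedComponents.mk (PrimeSpectrum.comap (algebraMap A B) n) =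
        ConnectedComponents.mk p := by
      rw [← hz]
      exact (Groth.Agent.Proet.SpectralPi0.mk_eq_of_specializes
        (hyn.map (PrimeSpectrum.continuous_comap (algebraMap A B)))).symm
    rw [Groth.Agent.Proet2.WLocal.mk_eq_mk_iff h2,
      Groth.Agent.Proet2.WLocal.closedPt_eq_self h2 (h4.2 n hn),
      Groth.Agent.Proet2.WLocal.closedPt_eq_self h2 hp] at h6
    exact h6
  refine ⟨n, congr_arg PrimeSpectrum.asIdeal hmapn, ?_⟩
  intro q hq
  let n' := Groth.Agent.Proet2.WLocal.closedPt h3 q
  have hqn' : q ⤳ n' := Groth.Agent.Proet2.WLocal.specializes_closedPt h3 q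
  have hn' : IsClosed ({n'} : Set (PrimeSpectrum B)) :=
    Groth.Agent.Proet2.WLocal.isClosed_closedPt h3 q
  have hqp : PrimeSpectrum.comap (algebraMap A B) q ⤳ p := by
    rw [← PrimeSpectrum.le_iff_specializes]
    exact hq
  have h7 : PrimeSpectrum.comap (algebraMap A B) n' = p := by
    rw [← Groth.Agent.Proet2.WLocal.closedPt_eq h2 hp hqp]
    exact (Groth.Agent.Proet2.WLocal.closedPt_eq h2 (h4.2 n' hn')
      (hqn'.map (PrimeSpectrum.continuous_comap (algebraMap A B)))).symm
  have h8 : (ConnectedComponents.mk n' : ConnectedComponents (PrimeSpectrum B)) =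
      ConnectedComponents.mk n := by
    apply h5.1
    change ConnectedComponents.mk (PrimeSpectrum.comap (algebraMap A B) n') =
      ConnectedComponents.mk (PrimeSpectrum.comap (algebraMap A B) n)
    rw [h7, hmapn]
  rw [Groth.Agent.Proet2.WLocal.mk_eq_mk_iff h3,
    Groth.Agent.Proet2.WLocal.closedPt_eq_self h3 hn',
    Groth.Agent.Proet2.WLocal.closedPt_eq_self h3 hn] at h8
  have h9 : q ≤ n := by
    rw [PrimeSpectrum.le_iff_specializes, ← h8]
    exact hqn'
  exact h9

end Groth.Agent.S0699
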