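import Groth.Statements.S0005
-- import your own Groth.Agent.* helpers here
import Groth.Agent.Pi1B.ExtBasic
import Groth.Agent.S0247
import Groth.Agent.S0250

set_option autoImplicit false
universe u
open FEt

namespace Groth.Agent.S0005

open CategoryTheory AlgebraicGeometry in
/-- Purity for finite etale covers, global form (combination of Stacks 0BMA local purity, 0EY7 extension over points where purity holds, and 0BQF full faithfulness; with 0BLQ and regularity of strict henselizations 06LN for the connectedness hypothesis): if X is a Noetherian scheme all of whose local rings are regular and U is an open subscheme such that every point outside U has local ring of Krull dimension at least 2, then restriction of finite etale covers from X to U is an equivalence of categories. -/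
theorem result (X : Scheme.{u}) [IsNoetherian X]
    (hreg : ∀ x : X, IsRegularLocalRing (X.presheaf.stalk x)) (U : X.Opens)
    (hU : ∀ x : X, x ∉ U → (2 : WithBot ℕ∞) ≤ ringKrullDim (X.presheaf.stalk x)) :
    (FEt.restrict U.ι).IsEquivalence := by
  have hd : Dense (U : Set X) := by
    apply Groth.Agent.Pi1B.ExtBasic.dense_of_dim_pos
    intro x hx
    by_contra hxU
    have h := hU x hxU
    rw [hx] at h
    exact absurd h (by norm_num)
  obtain ⟨h1, h2⟩ := Groth.Agent.Pi1B.ExtBasic.restrict_fullyFaithful U (fun x _ => hreg x) hd
  have h3 : (FEt.restrict U.ι).EssSurj :=
    Groth.Agent.S0250.result U fun x hx => by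
      have := hreg x
      exact Groth.Agent.S0247.result _ (hU x hx)
  exact { }

end Groth.Agent.S0005
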