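import Groth.Statements.S0006
import Groth.Agent.Picfga.PicRep
-- import your own Groth.Agent.* helpers here

set_option autoImplicit false
universe u
open PicF

namespace Groth.Agent.S0006

open CategoryTheory AlgebraicGeometry in
/-- Stacks 0B9Z (representability of the Picard functor of a curve), in the rigidified form the source reduces to: let k be a separably closed field, X a smooth proper curve over k (proper replaces projective; they agree for curves over a field) and σ a k-point of X. Then the functor sending a k-scheme T to the isomorphism classes of invertible modules on X ×_k T whose pullback along σ_T is trivial is representable: there is a k-scheme P with a universal such class. (The source's Pic_{X/k} is the fppf sheafification of T ↦ Pic(X_T); by Stacks' lemmas on the Picard functor with a section — applicable since H^0(X, O_X) = k universally for such X — it is isomorphic to this rigidified functor.) -/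
theorem result (k : Type u) [Field k] [IsSepClosed k] (X : Scheme.{u})
    (f : X ⟶ Spec (CommRingCat.of k)) (hX : Curve.IsSmoothProperCurve k X f)
    (σ : Spec (CommRingCat.of k) ⟶ X) (hσ : σ ≫ f = 𝟙 (Spec (CommRingCat.of k))) :
    PicF.RigRepresentable f σ hσ :=
  Groth.Agent.Picfga.PicRep.rigRepresentable hX σ hσ

end Groth.Agent.S0006
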