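import Groth.Statements.S0014
import Groth.Agent.CohqA.IdealMod
import Groth.Agent.CohqA.LiftFT

set_option autoImplicit false
universe u
open Coherent

namespace Groth.Agent.S0014

open AlgebraicGeometry CategoryTheory in
/-- Stacks Tag 01XG (Serre's criterion, finite-type version). If X is quasi-compact and quasi-separated and H^1 vanishes for every quasi-coherent submodule of finite type of the structure sheaf, then X is affine. -/
theorem result (X : Scheme.{u}) [CompactSpace X]
    [QuasiSeparatedSpace X]
    (h : ∀ (I : X.Modules) (i : I ⟶ Coh.structureModule X), Mono i →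
      Coh.IsQCoh I → CohB1.IsFT I → Subsingleton (Coh.HH X I 1)) : IsAffine X := by
  refine CohqA.AffCrit.isAffine_of_liftProp (CohqA.LiftFT.liftProp_of_ft fun K hK ↦
    CohqA.IdealMod.liftProp_of_H1 K ?_)
  exact h (ClSub.idealMod K) (ClSub.idealModι K) (CohqA.IdealMod.mono_idealModι K)
    (CohqA.IdealMod.isQCoh_idealMod K) (CohqA.IdealMod.isFT_idealMod K hK)

end Groth.Agent.S0014
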