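import Groth.Statements.S0017
import Groth.Agent.CohqA.AffineBaseChange

set_option autoImplicit false
universe u
open Coherent

namespace Groth.Agent.S0017

open AlgebraicGeometry CategoryTheory in
/-- Stacks Tag 02KG. Let f : X → S be affine, F quasi-coherent on X, and X' = S' ×_S X a base change with projections g' : X' → X and f' : X' → S'. Then the pullback of f_* F along S' → S is isomorphic to f'_* of the pullback of F. (Stacks also records that the higher direct images of F vanish, see 01XC; here only an isomorphism is asserted, not that the base change map is one.) -/
theorem result {X S X' S' : Scheme.{u}} (f : X ⟶ S) (g : S' ⟶ S)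
    (g' : X' ⟶ X) (f' : X' ⟶ S') (h : IsPullback g' f' f g) [IsAffineHom f]
    (M : X.Modules) [Coh.IsQCoh M] :
    Nonempty ((Scheme.Modules.pullback g).obj ((Coh.push f).obj M) ≅
      (Coh.push f').obj ((Scheme.Modules.pullback g').obj M)) := by
  exact Groth.Agent.CohqA.AffineBaseChange.nonempty_iso h M

end Groth.Agent.S0017
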