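import Groth.Statements.S0026
import Groth.Agent.CohqA.DevInd

set_option autoImplicit false
universe u
open Coherent

namespace Groth.Agent.S0026

open AlgebraicGeometry CategoryTheory CategoryTheory.Limits in
/-- The relation between consecutive steps of the filtration. -/
def Rel {X : Scheme.{u}} (A B : X.Modules) : Prop :=
  ∃ φ : A ⟶ B, Mono φ ∧ Groth.Agent.CohqA.DevInd.IsDevQuot (cokernel φ)

open AlgebraicGeometry CategoryTheory CategoryTheory.Limits in
/-- The property proved by dévissage: existence of a filtration ending exactly at `M`. -/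
def Filt {X : Scheme.{u}} (M : X.Modules) : Prop :=
  ∃ (m : ℕ) (F : ℕ → X.Modules), IsZero (F 0) ∧ Nonempty (F m ≅ M) ∧ (∀ j ≤ m, Coh.IsCoh (F j)) ∧
    ∀ j < m, Rel (F j) (F (j + 1))

open AlgebraicGeometry CategoryTheory CategoryTheory.Limits in
theorem filt_step {X : Scheme.{u}} {A B : X.Modules} (f : A ⟶ B) (hf : Mono f)
    (hB : Coh.IsCoh B) (hq : Groth.Agent.CohqA.DevInd.IsDevQuot (cokernel f)) (h : Filt A) :
    Filt B := by
  obtain ⟨m, F, h0, ⟨e⟩, hc, hstep⟩ := h
  refine ⟨m + 1, fun j => if j ≤ m then F j else B, ?_, ?_, ?_, ?_⟩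
  · simpa using h0
  · simpa using ⟨Iso.refl B⟩
  · intro j hj
    by_cases hjm : j ≤ m
    · simpa [hjm] using hc j hjm
    · simpa [hjm] using hB
  · intro j hj
    rcases Nat.lt_succ_iff_lt_or_eq.mp hj with hlt | rfl
    · have h1 : j ≤ m := hlt.le
      have h2 : j + 1 ≤ m := hlt
      beta_reduce
      rw [if_pos h1, if_pos h2]
      exact hstep j hlt
    · have : Rel (F j) B := by
        refine ⟨e.hom ≫ f, mono_comp _ _, ?_⟩
        obtain ⟨Z, i, h1, h2, I, ι, h3, h4, h5, ⟨e'⟩⟩ := hq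
        exact ⟨Z, i, h1, h2, I, ι, h3, h4, h5, ⟨cokernelEpiComp e.hom f ≪≫ e'⟩⟩
      beta_reduce
      rw [if_pos le_rfl, if_neg (by lia)]
      exact this

open AlgebraicGeometry CategoryTheory CategoryTheory.Limits in
theorem filt_of_isCoh {X : Scheme.{u}} [IsNoetherian X] (M : X.Modules) (hM : Coh.IsCoh M) :
    Filt M := by
  refine Groth.Agent.CohqA.DevInd.coh_induction Filt ?_ ?_ ?_ M hM
  · rintro M N ⟨e⟩ ⟨m, F, h0, ⟨e'⟩, h⟩
    exact ⟨m, F, h0, ⟨e' ≪≫ e⟩, h⟩
  · intro M hM
    refine ⟨0, fun _ => M, hM, ⟨Iso.refl _⟩, fun _ _ => ?_, fun j hj => absurd hj (by simp)⟩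
    exact Groth.Agent.PerfA.CohSerre.isCoh_of_isZero hM
  · intro A B f hf _ hB hq hA
    exact filt_step f hf hB hq hA

open AlgebraicGeometry CategoryTheory CategoryTheory.Limits in
/-- Stacks Tag 01YF (dévissage of coherent sheaves). On a Noetherian scheme X, every coherent module M admits a finite chain 0 = F_0 → F_1 → … → F_m ≅ M of monomorphisms between coherent modules such that each quotient F_{j+1}/F_j is isomorphic to the direct image of a nonzero quasi-coherent ideal sheaf of some integral closed subscheme Z_j → X. (Filtration written as a chain of monomorphisms up to isomorphism.) -/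
theorem result (X : Scheme.{u}) [IsNoetherian X]
    (M : X.Modules) (hM : Coh.IsCoh M) :
    ∃ (m : ℕ) (F : ℕ → X.Modules) (φ : (j : ℕ) → (F j ⟶ F (j + 1))),
      IsZero (F 0) ∧ Nonempty (F m ≅ M) ∧ (∀ j ≤ m, Coh.IsCoh (F j)) ∧ ∀ j < m, Mono (φ j) ∧
        ∃ (Z : Scheme.{u}) (i : Z ⟶ X), IsClosedImmersion i ∧ IsIntegral Z ∧
          ∃ (I : Z.Modules) (ι : I ⟶ Coh.structureModule Z), Mono ι ∧ Coh.IsQCoh I ∧ ¬ IsZero I ∧
            Nonempty (cokernel (φ j) ≅ (Coh.push i).obj I) := by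
  obtain ⟨m, F, h0, he, hc, hstep⟩ := filt_of_isCoh M hM
  refine ⟨m, F, fun j => if h : j < m then (hstep j h).choose else 0, h0, he, hc, fun j hj => ?_⟩
  have h := (hstep j hj).choose_spec
  simp only [hj, dite_true]
  exact h

end Groth.Agent.S0026
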