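import Groth.Statements.S0029
import Groth.Agent.CohqA.AffMorCrit

set_option autoImplicit false
universe u
open Coherent

namespace Groth.Agent.S0029

open AlgebraicGeometry CategoryTheory in
/-- Stacks Tag 0F83. Let f : X → Y be quasi-compact with X and Y quasi-separated. If R^1 f_* I = 0 for every quasi-coherent submodule I of O_X, then f is affine. -/
theorem result {X Y : Scheme.{u}} (f : X ⟶ Y) [QuasiCompact f]
    [QuasiSeparatedSpace X] [QuasiSeparatedSpace Y]
    (h : ∀ (I : X.Modules) (i : I ⟶ Coh.structureModule X), Mono i → Coh.IsQCoh I →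
      Limits.IsZero ((Coh.RpushAb f 1).obj (Coh.toAb I))) : IsAffineHom f := by
  constructor
  intro V hV
  have hc : IsCompact ((f ⁻¹ᵁ V : X.Opens) : Set X) :=
    QuasiCompact.isCompact_preimage (f := f) V.1 V.2 hV.isCompact
  have := Divis.IdealFT.quasiCompact_ι _ hc
  have : CompactSpace (f ⁻¹ᵁ V) := isCompact_iff_compactSpace.mp hc
  exact CohqA.AffCrit.isAffine_of_liftProp fun K ↦ CohqA.AffMorCrit.liftProp_of_surjective K
    (CohqA.AffMorCrit.toSubscheme_app_preimage_surjective f _
      (h _ (ClSub.idealModι _) (CohqA.IdealMod.mono_idealModι _)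
        (CohqA.IdealMod.isQCoh_idealMod _)) hV)

end Groth.Agent.S0029
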