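import Groth.Statements.S0037
import Mathlib.AlgebraicGeometry.ZariskisMainTheorem
import Groth.Agent.CohqB.RpushStalk
import Groth.Agent.CohqA.AffineVanish

set_option autoImplicit false
universe u
open Coherent

namespace Groth.Agent.S0037

open AlgebraicGeometry CategoryTheory in
/-- Stacks Tag 02OE. Let Y be locally Noetherian, f : X → Y proper and y a point whose fibre f⁻¹{y} is finite. Then for every coherent F on X and every p > 0 the stalk of R^p f_* F at y vanishes. -/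
theorem result {X Y : Scheme.{u}} (f : X ⟶ Y) [IsProper f]
    [IsLocallyNoetherian Y] (y : Y) (hy : (f.base ⁻¹' {y}).Finite) (M : X.Modules) (hM : Coh.IsCoh M)
    (p : ℕ) (hp : 0 < p) :
    Limits.IsZero (TopCat.Presheaf.stalk ((Coh.RpushAb f p).obj (Coh.toAb M)).obj y) := by
  have hM' : Coh.IsQCoh M := hM.1
  apply Groth.Agent.CohqB.RpushStalk.isZero_stalk_RpushAb
  intro V hyV ξ
  obtain ⟨V0, hyV0, hV0⟩ := exists_isFinite_morphismRestrict_of_finite_preimage_singleton f y hy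
  obtain ⟨V1, hV1, hyV1, hV1V⟩ := exists_isAffineOpen_mem_and_subset (X := (V0 : Scheme.{u}))
    (x := ⟨y, hyV0⟩) (U := V0.ι ⁻¹ᵁ V) hyV
  let W : Y.Opens := V0.ι ''ᵁ V1
  have hWV : W ≤ V := by
    rintro _ ⟨z, hz, rfl⟩
    exact hV1V hz
  have hyW : y ∈ W := ⟨⟨y, hyV0⟩, hyV1, rfl⟩
  have hW : IsAffineOpen W := hV1.image_of_isOpenImmersion V0.ι
  have hfin : IsFinite (f ∣_ W) := by
    have h1 : IsFinite ((f ∣_ V0) ∣_ V1) := inferInstance
    exact (MorphismProperty.arrow_mk_iso_iff @IsFinite (morphismRestrictRestrict f V0 V1)).mp h1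
  have hWa : IsAffine W := hW
  have hfW : IsAffineOpen (f ⁻¹ᵁ W) := isAffine_of_isAffineHom (f ∣_ W)
  have hsub : Subsingleton (CohTop.HU (X := X.toTopCat) (Coh.toAb M) p (f ⁻¹ᵁ W)) :=
    Groth.Agent.CohqA.AffineVanish.HU_subsingleton M p hp (f ⁻¹ᵁ W) hfW
  exact ⟨W, hWV, hyW, Subsingleton.elim _ _⟩

end Groth.Agent.S0037
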