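import Groth.Statements.S0043
-- import your own Groth.Agent.* helpers here
import Groth.Agent.CohqB.KerTrick
import Groth.Agent.CohqB.QC4
import Groth.Agent.CohqA.HBiprod
import Groth.Agent.PerfA.QCohSerre
import Groth.Agent.S0016

set_option autoImplicit false
universe u
open Coherent

namespace Groth.Agent.S0043

open AlgebraicGeometry TopologicalSpace CategoryTheory in
theorem isQCoh_G {X : Scheme.{u}} {n : ℕ} (f : Fin n → Γ(X, ⊤)) (j : ℕ) :
    Coh.IsQCoh (Groth.Agent.CohqB.KerTrick.G f j) := by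
  induction j with
  | zero => exact Groth.Agent.PerfA.QCohSerre.isQCoh_unit X
  | succ j ih =>
    refine Groth.Agent.PerfA.QCohSerre.isQCoh_kernel _ ?_ ih
    exact Groth.Agent.CohqA.HBiprod.isQCoh_biproduct (fun _ => Groth.Agent.CohqB.KerTrick.G f j)
      (fun _ => ih)

open AlgebraicGeometry TopologicalSpace in
theorem exists_fin_cover (X : Scheme.{u}) [X.IsQuasiAffine] :
    ∃ (n : ℕ) (f : Fin n → Γ(X, ⊤)), (∀ i, IsAffineOpen (X.basicOpen (f i))) ∧
      ⨆ i, X.basicOpen (f i) = ⊤ := by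
  have h := Scheme.IsQuasiAffine.isBasis_basicOpen X
  have h1 : ∀ x : X, ∃ r : Γ(X, ⊤), IsAffineOpen (X.basicOpen r) ∧ x ∈ X.basicOpen r := by
    intro x
    obtain ⟨_, ⟨_, ⟨r, hr, rfl⟩, rfl⟩, hxr, -⟩ :=
      h.exists_subset_of_mem_open (Set.mem_univ x) isOpen_univ
    exact ⟨r, hr, hxr⟩
  choose r hr hxr using h1
  obtain ⟨t, ht⟩ := isCompact_univ.elim_finite_subcover (fun x : X => (X.basicOpen (r x) : Set X))
    (fun x => (X.basicOpen (r x)).isOpen) (fun x _ => Set.mem_iUnion.2 ⟨x, hxr x⟩)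
  refine ⟨t.card, fun i => r (t.equivFin.symm i), fun i => hr _, ?_⟩
  rw [eq_top_iff]
  intro x _
  have hx := ht (Set.mem_univ x)
  simp only [Set.mem_iUnion] at hx
  obtain ⟨y, hy, hxy⟩ := hx
  refine Opens.mem_iSup.2 ⟨t.equivFin ⟨y, hy⟩, ?_⟩
  simpa using hxy

open AlgebraicGeometry in
/-- Stacks Tag 0EBE. If X is quasi-affine and H^p(X, O_X) = 0 for all p > 0, then X is affine. -/
theorem result (X : Scheme.{u}) [X.IsQuasiAffine]
    (h : ∀ p : ℕ, 0 < p → Subsingleton (Coh.HH X (Coh.structureModule X) p)) : IsAffine X := by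
  obtain ⟨n, f, hf, hcov⟩ := exists_fin_cover X
  obtain ⟨d, hd⟩ := Groth.Agent.S0016.result X
  obtain ⟨a, ha⟩ := Groth.Agent.CohqB.KerTrick.exists_sum_eq_one f hcov h d
    (hd _ (isQCoh_G f (d + 1)) (d + 1) (by omega))
  refine isAffine_of_isAffineOpen_basicOpen (Set.range f) ?_ ?_
  · rw [Ideal.eq_top_iff_one, ← ha]
    refine Ideal.sum_mem _ fun i _ => Ideal.mul_mem_right _ _ (Ideal.subset_span ⟨i, rfl⟩)
  · rintro _ ⟨i, rfl⟩
    exact hf i

end Groth.Agent.S0043
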