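import Groth.Statements.S0044
import Groth.Agent.CohqB.QAffThick

set_option autoImplicit false
universe u
open Coherent

namespace Groth.Agent.S0044

open AlgebraicGeometry in
/-- Stacks Tag 0B7K. For a thickening i : Z → X (a closed immersion between Noetherian schemes inducing a homeomorphism), X is quasi-affine exactly when Z is. -/
theorem result {Z X : Scheme.{u}} (i : Z ⟶ X) [IsClosedImmersion i]
    [IsNoetherian X] [IsNoetherian Z] (hi : IsHomeomorph i.base) : X.IsQuasiAffine ↔ Z.IsQuasiAffine := by
  have : Surjective i := ⟨hi.surjective⟩
  constructor
  · intro h
    have : CompactSpace Z := inferInstance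
    exact Scheme.IsQuasiAffine.of_isImmersion i
  · intro h
    exact CohqB.QAffThick.quasiAffine_of_thickening i

end Groth.Agent.S0044
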