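import Groth.Statements.S0053
import Groth.Agent.CohqB.AmpThick2
import Groth.Agent.CohqB.AmpBridge

set_option autoImplicit false
universe u
open Coherent

namespace Groth.Agent.S0053

open AlgebraicGeometry CategoryTheory in
/-- Stacks Tag 09MS. For a thickening i : Z → X (a closed immersion between Noetherian schemes inducing a homeomorphism) and an invertible module L on X, ampleness of the pullback of L to Z is equivalent to ampleness of L. -/
theorem result {Z X : Scheme.{u}} (i : Z ⟶ X) [IsClosedImmersion i]
    [IsNoetherian X] [IsNoetherian Z] (hi : IsHomeomorph i.base) (L : X.Modules) (hL : PicF.IsInvertible L) :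
    CohB1.IsAmple ((Scheme.Modules.pullback i).obj L) ↔ CohB1.IsAmple L := by
  obtain ⟨n, c, ha, -, ⟨T⟩⟩ := Groth.Agent.CohqB.AmpCocycle.exists_triv_affine L hL
    (fun _ : Unit => (⊤ : X.Opens)) (fun _ => ⟨(), trivial⟩)
  rw [T.isAmple_iff, (T.pullback i).isAmple_iff]
  exact ⟨fun h => Groth.Agent.CohqB.AmpCocycle.Coc.ample_of_pull_closedImmersion ha i
    hi.surjective h, fun h => h.pull i⟩

end Groth.Agent.S0053
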