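import Groth.Statements.S0063
import Groth.Agent.Etbase.Rigidity

set_option autoImplicit false
open CategoryTheory CategoryTheory.Limits AlgebraicGeometry Opposite
universe u
open EtBase

namespace Groth.Agent.S0063

/-- Stacks 024V: rigidity of maps into an unramified separated scheme — two maps from a connected scheme over the base that agree at one point, including on residue fields, coincide. -/
theorem result {X S Y : Scheme.{u}} (π : X ⟶ S)
    [FormallyUnramified π] [LocallyOfFiniteType π] [IsSeparated π]
    (h : Y ⟶ S) [ConnectedSpace Y] (f g : Y ⟶ X) (hf : f ≫ π = h) (hg : g ≫ π = h)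
    (y : Y) (hy : Y.fromSpecResidueField y ≫ f = Y.fromSpecResidueField y ≫ g) : f = g := by
  refine Groth.Agent.Etbase.Rigidity.eq_of_agree π f g (hf.trans hg.symm) {y} ?_ ?_
  · intro U hU hyU
    exact hU.eq_univ ⟨y, hyU rfl⟩
  · rintro _ rfl
    exact hy

end Groth.Agent.S0063
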