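import Groth.Statements.S0064
import Groth.Agent.Etbase.Rigidity

set_option autoImplicit false
open CategoryTheory CategoryTheory.Limits AlgebraicGeometry Opposite
universe u
open EtBase

namespace Groth.Agent.S0064

open Groth.Agent.Etbase.Rigidity

/-- Stacks 0AKI: separated case — over a Noetherian base, a Noetherian scheme admits only finitely many morphisms over the base to a given quasi-compact, separated, unramified scheme. (The source also treats the non-separated case by Noetherian induction with details omitted; we state the case it proves in full.) -/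
theorem result {X S Y : Scheme.{u}} [IsNoetherian S] [IsNoetherian Y]
    (π : X ⟶ S) [FormallyUnramified π] [LocallyOfFiniteType π] [QuasiCompact π] [IsSeparated π]
    (h : Y ⟶ S) : Set.Finite {f : Y ⟶ X | f ≫ π = h} := by
  have hfin : (irreducibleComponents Y).Finite := TopologicalSpace.NoetherianSpace.finite_irreducibleComponents
  -- generic points
  have hgen : ∀ Z : irreducibleComponents Y, ∃ y : Y, closure {y} = (Z : Set Y) := fun Z =>
    QuasiSober.sober Z.2.1 (isClosed_of_mem_irreducibleComponents _ Z.2)
  choose y hy using hgen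
  have := hfin.to_subtype
  rw [← Set.finite_coe_iff]
  have hf : ∀ Z : irreducibleComponents Y, Finite {g : Spec (Y.residueField (y Z)) ⟶ X | g ≫ π = Y.fromSpecResidueField (y Z) ≫ h} :=
    fun Z => (finite_lifts_field (K := Y.residueField (y Z)) π (Y.fromSpecResidueField (y Z) ≫ h)).to_subtype
  let F : {f : Y ⟶ X | f ≫ π = h} → ∀ Z : irreducibleComponents Y, {g : Spec (Y.residueField (y Z)) ⟶ X | g ≫ π = Y.fromSpecResidueField (y Z) ≫ h} :=
    fun f Z => ⟨Y.fromSpecResidueField (y Z) ≫ f.1, by
      change (Y.fromSpecResidueField (y Z) ≫ f.1) ≫ π = _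
      rw [Category.assoc, f.2]⟩
  refine Finite.of_injective F fun f₁ f₂ hF => ?_
  refine Subtype.ext (eq_of_agree π f₁.1 f₂.1 (f₁.2.trans f₂.2.symm) (Set.range y) ?_ ?_)
  · intro U hU hyU
    rw [← Set.univ_subset_iff, ← sUnion_irreducibleComponents]
    rintro x ⟨Z, hZ, hxZ⟩
    have h1 : closure {y ⟨Z, hZ⟩} ⊆ U := hU.1.closure_subset_iff.mpr (by
      rw [Set.singleton_subset_iff]; exact hyU ⟨_, rfl⟩)
    rw [hy] at h1
    exact h1 hxZ
  · rintro _ ⟨Z, rfl⟩
    exact congrArg Subtype.val (congrFun hF Z)

end Groth.Agent.S0064
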