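import Groth.Statements.S0070
import Groth.Agent.S0067
import Groth.Agent.Etbase.StalkPull

set_option autoImplicit false
open CategoryTheory CategoryTheory.Limits AlgebraicGeometry Opposite
universe u
open EtBase

namespace Groth.Agent.S0070

/-- Stacks 04FX: abelian case, second half — at a geometric point of the closed subscheme, the stalk of the pushforward is isomorphic to the stalk of the original sheaf (existence of an isomorphism only; the source's identification is the canonical map). -/
theorem result {Z X : Scheme.{u}} (i : Z ⟶ X) [IsClosedImmersion i] [EtCoh.BCCont i]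
    (G : EtCoh.Ab Z) {Ω : Type u} [Field Ω] [IsSepClosed Ω] (ζ : Spec (CommRingCat.of Ω) ⟶ Z) :
    Nonempty ((EtCoh.stalk (ζ ≫ i)).obj ((EtCoh.push i).obj G) ≅ (EtCoh.stalk ζ).obj G) := by
  obtain ⟨h1, h2⟩ := Groth.Agent.S0067.result i
  have h3 : IsIso (EtCoh.pullPushAdj i).counit := inferInstance
  exact ⟨(Etbase.StalkPull.stalkPullIso i ζ).app _ ≪≫
    (EtCoh.stalk ζ).mapIso (asIso ((EtCoh.pullPushAdj i).counit.app G))⟩

end Groth.Agent.S0070
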