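import Groth.Statements.S0077
import Mathlib.Algebra.Polynomial.Derivative
import Mathlib.FieldTheory.IsAlgClosed.Basic
import Mathlib.LinearAlgebra.Dimension.Finite
-- import your own Groth.Agent.* helpers here

set_option autoImplicit false
universe u
open EtBase

namespace Groth.Agent.S0077

open Polynomial in
/-- The auxiliary polynomials. -/
noncomputable def Q {k : Type u} [Field k] (p : ℕ) (a : ℕ → k) : ℕ → k[X]
  | 0 => C (a 0) * X ^ p - 1
  | (i + 1) => (Q p a i) ^ p + C (a (i + 1)) * X ^ p

open Polynomial in
theorem derivative_Q {k : Type u} [Field k] (p : ℕ) [CharP k p] (a : ℕ → k) (i : ℕ) :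
    derivative (Q p a i) = 0 := by
  have hp : (p : k) = 0 := CharP.cast_eq_zero k p
  have hpX : (p : k[X]) = 0 := by
    rw [← C_eq_natCast, hp, C_0]
  cases i with
  | zero => simp [Q, derivative_X_pow, hp]
  | succ i => simp [Q, derivative_pow, hp, hpX]

open Polynomial in
theorem exists_fixed {k : Type u} [Field k] [IsAlgClosed k] (p : ℕ) [CharP k p] (a : ℕ → k) (i : ℕ) :
    ∃ t : k, (Q p a i).eval t = t := by
  have hd : derivative (Q p a i - X) = -1 := by
    simp [derivative_Q]
  have hdeg : (Q p a i - X).degree ≠ 0 := by
    intro h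
    have := eq_C_of_degree_eq_zero h
    rw [this] at hd
    simp at hd
  obtain ⟨t, ht⟩ := IsAlgClosed.exists_root _ hdeg
  refine ⟨t, ?_⟩
  simpa [IsRoot, sub_eq_zero] using ht

/-- Stacks 0A3L: first half — on a finite-dimensional vector space over an algebraically closed field of characteristic p, any additive p-semilinear map F has F − id surjective. -/
theorem result {k V : Type u} [Field k] [IsAlgClosed k] (p : ℕ) [Fact p.Prime] [CharP k p]
    [AddCommGroup V] [Module k V] [FiniteDimensional k V] (F : V →+ V)
    (hF : ∀ (c : k) (v : V), F (c • v) = c ^ p • F v) :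
    Function.Surjective fun v => F v - v := by
  classical
  intro w
  -- a linear dependence among the iterates
  have key : ∃ (m : ℕ) (a : ℕ → k), F^[m] w = ∑ i ∈ Finset.range m, a i • F^[i] w := by
    by_contra hcon
    push Not at hcon
    have hli : LinearIndependent k (fun i : ℕ => F^[i] w) := by
      rw [linearIndependent_iff']
      intro s g hg
      by_contra hne
      push Not at hne
      -- take the largest index with nonzero coefficient
      have hne' : (s.filter (fun i => g i ≠ 0)).Nonempty := by
        obtain ⟨i, hi, hgi⟩ := hne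
        exact ⟨i, by simp [hi, hgi]⟩
      set m := (s.filter (fun i => g i ≠ 0)).max' hne' with hm
      have hmem := Finset.max'_mem _ hne'
      rw [← hm, Finset.mem_filter] at hmem
      have hgt : ∀ i ∈ s, m < i → g i = 0 := by
        intro i hi hlt
        by_contra h0
        have := Finset.le_max' (s.filter (fun i => g i ≠ 0)) i (by simp [hi, h0])
        omega
      refine hcon m (fun i => if i ∈ s then - (g m)⁻¹ * g i else 0) ?_
      have h1 : ∑ i ∈ s, g i • F^[i] w = g m • F^[m] w + ∑ i ∈ Finset.range m, (if i ∈ s then g i else 0) • F^[i] w := by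
        have h2 : ∑ i ∈ s, g i • F^[i] w = ∑ i ∈ Finset.range (m+1), (if i ∈ s then g i else 0) • F^[i] w := by
          have h3 : ∑ i ∈ s, g i • F^[i] w = ∑ i ∈ s ∩ Finset.range (m+1), g i • F^[i] w := by
            symm
            apply Finset.sum_subset Finset.inter_subset_left
            intro i hi hni
            have : m < i := by
              by_contra hle
              exact hni (by simp [hi]; omega)
            rw [hgt i hi this, zero_smul]
          rw [h3]
          rw [Finset.inter_comm, ← Finset.filter_mem_eq_inter, Finset.sum_filter]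
          apply Finset.sum_congr rfl
          intro i _
          split_ifs <;> simp
        rw [h2, Finset.sum_range_succ, if_pos hmem.1, add_comm]
      rw [hg] at h1
      have h4 : F^[m] w = - (g m)⁻¹ • ∑ i ∈ Finset.range m, (if i ∈ s then g i else 0) • F^[i] w := by
        have h5 : g m • F^[m] w = - ∑ i ∈ Finset.range m, (if i ∈ s then g i else 0) • F^[i] w := by
          rw [eq_neg_iff_add_eq_zero]; exact h1.symm
        rw [neg_smul, ← smul_neg, ← h5, smul_smul, inv_mul_cancel₀ hmem.2, one_smul]
      rw [h4, Finset.smul_sum]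
      apply Finset.sum_congr rfl
      intro i _
      rw [smul_smul]
      congr 1
      split_ifs <;> simp
    exact (Module.Finite.not_linearIndependent_of_infinite (R := k) (fun i : ℕ => F^[i] w)) hli
  obtain ⟨n, a, hn⟩ := key
  cases n with
  | zero =>
    simp at hn
    exact ⟨0, by simp [hn]⟩
  | succ m =>
    obtain ⟨t, ht⟩ := exists_fixed p a m
    refine ⟨∑ i ∈ Finset.range (m + 1), ((Q p a i).eval t) • F^[i] w, ?_⟩
    have h1 : F (∑ i ∈ Finset.range (m + 1), ((Q p a i).eval t) • F^[i] w) =
        ∑ i ∈ Finset.range (m + 1), ((Q p a i).eval t) ^ p • F^[i + 1] w := by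
      rw [map_sum]
      apply Finset.sum_congr rfl
      intro i _
      rw [hF, Function.iterate_succ_apply']
    have h2 : ∑ i ∈ Finset.range (m + 1), ((Q p a i).eval t) ^ p • F^[i + 1] w =
        ∑ i ∈ Finset.range m, ((Q p a i).eval t) ^ p • F^[i + 1] w +
          ∑ i ∈ Finset.range (m + 1), (t ^ p * a i) • F^[i] w := by
      rw [Finset.sum_range_succ, ht, hn, Finset.smul_sum]
      congr 1
      apply Finset.sum_congr rfl
      intro i _
      rw [smul_smul]
    have h3 : ∑ i ∈ Finset.range (m + 1), (t ^ p * a i) • F^[i] w =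
        (∑ i ∈ Finset.range m, (t ^ p * a (i + 1)) • F^[i + 1] w) + (t ^ p * a 0) • w := by
      rw [Finset.sum_range_succ']
      simp
    have h4 : ∑ i ∈ Finset.range (m + 1), ((Q p a i).eval t) • F^[i] w =
        (∑ i ∈ Finset.range m, ((Q p a (i + 1)).eval t) • F^[i + 1] w) + ((Q p a 0).eval t) • w := by
      rw [Finset.sum_range_succ']
      simp
    show F (∑ i ∈ Finset.range (m + 1), ((Q p a i).eval t) • F^[i] w) - _ = w
    rw [h1, h2, h3, h4]
    have h5 : ∑ i ∈ Finset.range m, ((Q p a (i + 1)).eval t) • F^[i + 1] w =
        ∑ i ∈ Finset.range m, ((Q p a i).eval t) ^ p • F^[i + 1] w +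
        ∑ i ∈ Finset.range m, (t ^ p * a (i + 1)) • F^[i + 1] w := by
      rw [← Finset.sum_add_distrib]
      apply Finset.sum_congr rfl
      intro i _
      rw [← add_smul]
      congr 1
      simp [Q]
      ring
    have h6 : (Q p a 0).eval t = t ^ p * a 0 - 1 := by
      simp [Q]; ring
    rw [h5, h6, sub_smul, one_smul]
    abel

end Groth.Agent.S0077
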