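import Groth.Statements.S0078
import Mathlib.FieldTheory.Finite.Basic
import Mathlib.LinearAlgebra.Dimension.Finite
-- import your own Groth.Agent.* helpers here

set_option autoImplicit false
universe u
open EtBase

namespace Groth.Agent.S0078

open Polynomial in
theorem card_fixed {k : Type u} [Field k] (p : ℕ) [Fact p.Prime] :
    Set.Finite {c : k | c ^ p = c} ∧ Nat.card {c : k | c ^ p = c} ≤ p := by
  classical
  have h1 : (X ^ p - X : k[X]) ≠ 0 :=
    FiniteField.X_pow_card_sub_X_ne_zero k (Fact.out : p.Prime).one_lt
  have h2 : {c : k | c ^ p = c} = ((X ^ p - X : k[X]).roots.toFinset : Set k) := by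
    ext c
    simp [h1, sub_eq_zero]
  rw [h2]
  refine ⟨Finset.finite_toSet _, ?_⟩
  have h3 : Nat.card (((X ^ p - X : k[X]).roots.toFinset : Set k)) = (X ^ p - X : k[X]).roots.toFinset.card :=
    Nat.card_eq_card_toFinset _ |>.trans (by rw [Finset.toFinset_coe])
  rw [h3]
  calc _ ≤ Multiset.card (X ^ p - X : k[X]).roots := Multiset.toFinset_card_le _
    _ ≤ (X ^ p - X : k[X]).natDegree := card_roots' _
    _ = p := FiniteField.X_pow_card_sub_X_natDegree_eq k (Fact.out : p.Prime).one_lt

/-- Stacks 0A3L: second half — for such an F the fixed vectors F v = v form a finite set of size at most p ^ dim V (an F_p-space of dimension at most dim V). -/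
theorem result {k V : Type u} [Field k] [IsAlgClosed k] (p : ℕ) [Fact p.Prime] [CharP k p]
    [AddCommGroup V] [Module k V] [FiniteDimensional k V] (F : V →+ V)
    (hF : ∀ (c : k) (v : V), F (c • v) = c ^ p • F v) :
    Set.Finite {v : V | F v = v} ∧ Nat.card {v : V | F v = v} ≤ p ^ Module.finrank k V := by
  classical
  obtain ⟨b, hbS, hspan, hli⟩ := exists_linearIndependent k {v : V | F v = v}
  have hbfin : Finite b := hli.finite
  have : Fintype b := Fintype.ofFinite b
  have hcard : Fintype.card b ≤ Module.finrank k V := hli.fintype_card_le_finrank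
  obtain ⟨hfin, hle⟩ := card_fixed (k := k) p
  have hfin' : Finite {c : k | c ^ p = c} := hfin
  -- coordinates of a fixed vector
  have hcoord : ∀ v : {v : V | F v = v}, ∃ c : b → {c : k | c ^ p = c}, ∑ i, (c i : k) • (i : V) = v := by
    intro v
    have hv : (v : V) ∈ Submodule.span k b := by
      rw [hspan]; exact Submodule.subset_span v.2
    rw [← Subtype.range_coe (s := b), Submodule.mem_span_range_iff_exists_fun] at hv
    obtain ⟨c, hc⟩ := hv
    have hFv : F (v : V) = v := v.2
    have h1 : ∑ i, (c i ^ p - c i) • (i : V) = 0 := by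
      simp only [sub_smul, Finset.sum_sub_distrib]
      rw [hc, sub_eq_zero]
      have h2 : F (∑ i, c i • (i : V)) = ∑ i, (c i ^ p) • (i : V) := by
        rw [map_sum]
        apply Finset.sum_congr rfl
        intro i _
        rw [hF]
        congr 1
        exact hbS i.2
      rw [← h2, hc, hFv]
    have h3 := (Fintype.linearIndependent_iff.mp hli) _ h1
    refine ⟨fun i => ⟨c i, sub_eq_zero.mp (h3 i)⟩, hc⟩
  choose c hc using hcoord
  have hinj : Function.Injective c := by
    intro v w hvw
    apply Subtype.ext
    rw [← hc v, ← hc w, hvw]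
  have hfinV : Finite {v : V | F v = v} := Finite.of_injective c hinj
  refine ⟨hfinV, ?_⟩
  calc Nat.card {v : V | F v = v} ≤ Nat.card (b → {c : k | c ^ p = c}) := Nat.card_le_card_of_injective c hinj
    _ = (Nat.card {c : k | c ^ p = c}) ^ Fintype.card b := by
        rw [Nat.card_fun, Nat.card_eq_fintype_card (α := b)]
    _ ≤ p ^ Fintype.card b := Nat.pow_le_pow_left hle _
    _ ≤ p ^ Module.finrank k V := Nat.pow_le_pow_right (Fact.out : p.Prime).pos hcard

end Groth.Agent.S0078
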