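import Groth.Statements.S0080
import Groth.Agent.Etbase.FpqcDescent

set_option autoImplicit false
open CategoryTheory CategoryTheory.Limits AlgebraicGeometry Opposite
universe u
open EtBase

namespace Groth.Agent.S0080

/-- Stacks 02KR: quasi-separatedness descends along a quasi-compact flat surjective base change. (Stated for a single quasi-compact faithfully flat cover; with Zariski-locality on the target this is the fpqc-local statement of the source.) -/
theorem result :
    MorphismProperty.DescendsAlong @QuasiSeparated (@Surjective ⊓ @Flat ⊓ @QuasiCompact : MorphismProperty Scheme.{u}) := by
  exact Groth.Agent.Etbase.FpqcDescent.descendsAlong_quasiSeparated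

end Groth.Agent.S0080
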