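import Groth.Statements.S0096
import Groth.Agent.Etbase.UnramSplitScheme

set_option autoImplicit false
open CategoryTheory CategoryTheory.Limits AlgebraicGeometry Opposite
universe u
open EtBase

namespace Groth.Agent.S0096

/-- Stacks 04HJ: a finite unramified morphism becomes, after base change to a suitable étale neighbourhood of any point of the base, a finite disjoint union of closed immersions. -/
theorem result {X S : Scheme.{u}} (f : X ⟶ S) [IsFinite f] [FormallyUnramified f] (s : S) :
    ∃ (U : Scheme.{u}) (g : U ⟶ S) (_ : AlgebraicGeometry.Etale g) (u : U) (_ : g.base u = s)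
      (n : ℕ) (V : Fin n → Scheme.{u}) (c : ∀ j, V j ⟶ U) (_ : ∀ j, IsClosedImmersion (c j))
      (e : (∐ V) ≅ pullback f g), ∀ j, Sigma.ι V j ≫ e.hom ≫ pullback.snd f g = c j := by
  obtain ⟨U, g, hg, u, hu, n, V, c, hc, a, H⟩ :=
    Groth.Agent.Etbase.UnramSplitScheme.general_case f s
  refine ⟨U, g, hg, u, hu, n, V, c, hc, H.isoPullback, fun j => ?_⟩
  rw [H.isoPullback_hom_snd, Sigma.ι_desc]

end Groth.Agent.S0096
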