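import Groth.Statements.S0100
import Groth.Agent.Etbase.StalkPull

set_option autoImplicit false
open CategoryTheory CategoryTheory.Limits AlgebraicGeometry Opposite
universe u
open EtBase

namespace Groth.Agent.S0100

/-- Stacks 03Q1: part (3) — the stalk of the pullback of an abelian étale sheaf at a geometric point is isomorphic to the stalk of the sheaf at the image geometric point (existence of an isomorphism only; the source's identification is canonical). -/
theorem result {X Y : Scheme.{u}} (f : X ⟶ Y) [EtCoh.BCCont f] (G : EtCoh.Ab Y)
    {Ω : Type u} [Field Ω] [IsSepClosed Ω] (ξ : Spec (CommRingCat.of Ω) ⟶ X) :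
    Nonempty ((EtCoh.stalk ξ).obj ((EtCoh.pull f).obj G) ≅ (EtCoh.stalk (ξ ≫ f)).obj G) := by
  exact ⟨((Groth.Agent.Etbase.StalkPull.stalkPullIso f ξ).app G).symm⟩

end Groth.Agent.S0100
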