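import Groth.Statements.S0102
import Groth.Agent.Etbase.EtSite
import Mathlib.AlgebraicGeometry.Morphisms.UniversallyOpen

set_option autoImplicit false
open CategoryTheory CategoryTheory.Limits AlgebraicGeometry Opposite
universe u
open EtBase

namespace Groth.Agent.S0102

/-- Stacks 04FR: a section of an abelian étale sheaf over an étale scheme U vanishes on pullback to an étale V → U exactly when V maps into a certain largest open subset of U. -/
theorem result {S : Scheme.{u}} (F : EtCoh.Ab S) (U : S.Etale) (σ : EtCoh.sect F U) :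
    ∃ W : U.left.Opens, ∀ (V : S.Etale) (φ : V ⟶ U),
      F.obj.map φ.op σ = 0 ↔ Set.range φ.left.base ⊆ (W : Set U.left) := by
  refine ⟨⟨{x | ∃ (V : S.Etale) (φ : V ⟶ U) (v : V.left),
    φ.left v = x ∧ F.obj.map φ.op σ = 0}, ?_⟩, ?_⟩
  · rw [isOpen_iff_forall_mem_open]
    rintro x ⟨V, φ, v, hv, hφ⟩
    refine ⟨Set.range φ.left.base, ?_, ?_, ⟨v, hv⟩⟩
    · rintro _ ⟨w, rfl⟩
      exact ⟨V, φ, w, rfl, hφ⟩
    · have : AlgebraicGeometry.Etale φ.left := inferInstance
      exact (AlgebraicGeometry.Scheme.Hom.isOpenMap φ.left).isOpen_range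
  · intro V φ
    constructor
    · rintro h _ ⟨v, rfl⟩
      exact ⟨V, φ, v, rfl, h⟩
    · intro h
      refine Groth.Agent.Etbase.EtSite.sect_eq_zero F V _ (fun v => ?_)
      obtain ⟨W, ψ, w, hw, hψ⟩ := h ⟨v, rfl⟩
      obtain ⟨P, a, b, p, hab, ha, hb⟩ :=
        Groth.Agent.Etbase.EtSite.exists_pullback φ ψ v w hw.symm
      refine ⟨P, a, p, ha, ?_⟩
      have h1 : F.obj.map a.op (F.obj.map φ.op σ) = F.obj.map (a ≫ φ).op σ := by
        rw [op_comp, F.obj.map_comp]; rfl
      have h2 : F.obj.map b.op (F.obj.map ψ.op σ) = F.obj.map (b ≫ ψ).op σ := by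
        rw [op_comp, F.obj.map_comp]; rfl
      rw [h1, hab, ← h2, hψ, map_zero]

end Groth.Agent.S0102
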