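import Groth.Statements.S0105
-- import your own Groth.Agent.* helpers here
import Groth.Agent.Etbase.OverStalk
import Mathlib.AlgebraicGeometry.Morphisms.UniversallyOpen

set_option autoImplicit false
open CategoryTheory CategoryTheory.Limits AlgebraicGeometry Opposite
universe u
open EtBase

namespace Groth.Agent.S0105

open Groth.Agent.Etbase.OverStalk

/-- If `F` restricted to `U` is constant with value `M`, its stalk at any geometric point lifting
to `U` is `M`. -/
noncomputable def stalkEquiv {X : Scheme.{u}} (F : EtCoh.Ab X) (U : X.Etale) (M : Type)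
    [AddCommGroup M] (e : EtCoh.restr F U ≅
      (constantSheaf (X.smallEtaleTopology.over U) AddCommGrpCat.{u + 1}).obj
        (AddCommGrpCat.of (ULift.{u + 1} M)))
    (Φ : GrothendieckTopology.Point.{u} X.smallEtaleTopology) (x : Φ.fiber.obj U) :
    ↥(Φ.sheafFiber.obj F) ≃+ M :=
  ((sheafFiberOverIso Φ x F).symm ≪≫ (Φ.over x).sheafFiber.mapIso e ≪≫
    sheafFiberConstantSheafIso (Φ.over x) _).addCommGroupIsoToAddEquiv.trans AddEquiv.ulift

theorem isOpen_range {X : Scheme.{u}} (U : X.Etale) : IsOpen (Set.range U.hom.base) := by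
  have : AlgebraicGeometry.Etale U.hom := U.prop
  exact U.hom.isOpenMap.isOpen_range

/-- If two members of the covering meet, their groups are isomorphic. -/
theorem nonempty_addEquiv {X : Scheme.{u}} (F : EtCoh.Ab X) (U V : X.Etale) (M N : Type)
    [AddCommGroup M] [AddCommGroup N]
    (e : Nonempty (EtCoh.restr F U ≅
      (constantSheaf (X.smallEtaleTopology.over U) AddCommGrpCat.{u + 1}).obj
        (AddCommGrpCat.of (ULift.{u + 1} M))))
    (e' : Nonempty (EtCoh.restr F V ≅
      (constantSheaf (X.smallEtaleTopology.over V) AddCommGrpCat.{u + 1}).obj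
        (AddCommGrpCat.of (ULift.{u + 1} N))))
    (x : X) (hU : x ∈ Set.range U.hom.base) (hV : x ∈ Set.range V.hom.base) :
    Nonempty (M ≃+ N) := by
  obtain ⟨e⟩ := e
  obtain ⟨e'⟩ := e'
  let ξ : Spec (CommRingCat.of (SeparableClosure (X.residueField x))) ⟶ X :=
    (Scheme.SpecToEquivOfField (SeparableClosure (X.residueField x)) _).2
        ⟨x, CommRingCat.ofHom (algebraMap (X.residueField x) _)⟩
  have hξ : ξ default = x := by simp [ξ, Scheme.SpecToEquivOfField]
  obtain ⟨a, ha⟩ := hU
  obtain ⟨b, hb⟩ := hV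
  obtain ⟨s, -⟩ := Scheme.pointSmallEtaleFiberObjToPreimage_surjective ξ hξ U ⟨a, ha⟩
  obtain ⟨t, -⟩ := Scheme.pointSmallEtaleFiberObjToPreimage_surjective ξ hξ V ⟨b, hb⟩
  exact ⟨(stalkEquiv F U M e (Scheme.pointSmallEtale ξ) s).symm.trans
    (stalkEquiv F V N e' (Scheme.pointSmallEtale ξ) t)⟩

/-- Stacks 09BF: on a connected scheme, a finite locally constant abelian étale sheaf is, étale locally, constant with one and the same finite group everywhere (stated for finite locally constant abelian sheaves; the source allows arbitrary locally constant sheaves of modules). -/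
theorem result {X : Scheme.{u}} [ConnectedSpace X] (F : EtCoh.Ab X) (h : EtCoh.IsFiniteLocallyConstant F) :
    ∃ (M : Type) (_ : AddCommGroup M) (_ : Finite M) (ι : Type u) (U : ι → X.Etale), EtCoh.Covers U ∧
      ∀ i, Nonempty (EtCoh.restr F (U i) ≅
        (constantSheaf (X.smallEtaleTopology.over (U i)) AddCommGrpCat.{u + 1}).obj
          (AddCommGrpCat.of (ULift.{u + 1} M))) := by
  obtain ⟨ι, U, hU, H⟩ := h
  choose M hM hMf e using H
  obtain ⟨x₀⟩ : Nonempty X := inferInstance
  obtain ⟨i₀, y₀, hy₀⟩ := hU x₀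
  -- the set of points covered by members with group isomorphic to `M i₀`
  let A : Set X := ⋃ (i : ι) (_ : Nonempty (M i ≃+ M i₀)), Set.range (U i).hom.base
  let B : Set X := ⋃ (i : ι) (_ : ¬ Nonempty (M i ≃+ M i₀)), Set.range (U i).hom.base
  have hA : IsOpen A := isOpen_iUnion fun i => isOpen_iUnion fun _ => isOpen_range (U i)
  have hB : IsOpen B := isOpen_iUnion fun i => isOpen_iUnion fun _ => isOpen_range (U i)
  have hAB : A ∪ B = Set.univ := by
    ext x
    simp only [Set.mem_union, Set.mem_univ, iff_true, A, B, Set.mem_iUnion]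
    obtain ⟨i, y, hy⟩ := hU x
    by_cases hi : Nonempty (M i ≃+ M i₀)
    · exact Or.inl ⟨i, hi, y, hy⟩
    · exact Or.inr ⟨i, hi, y, hy⟩
  have hd : Disjoint A B := by
    rw [Set.disjoint_left]
    intro x hxA hxB
    simp only [A, B, Set.mem_iUnion] at hxA hxB
    obtain ⟨i, hi, hxi⟩ := hxA
    obtain ⟨j, hj, hxj⟩ := hxB
    obtain ⟨f⟩ := nonempty_addEquiv F (U i) (U j) (M i) (M j) (e i) (e j) x hxi hxj
    obtain ⟨g⟩ := hi
    exact hj ⟨f.symm.trans g⟩
  have hAc : IsClopen A := by
    refine ⟨?_, hA⟩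
    have : A = Bᶜ := by
      ext x
      constructor
      · exact fun hx hx' => Set.disjoint_left.1 hd hx hx'
      · intro hx
        have : x ∈ A ∪ B := by rw [hAB]; trivial
        exact this.resolve_right hx
    rw [this]
    exact hB.isClosed_compl
  have hAu : A = Set.univ := by
    refine hAc.eq_univ ⟨x₀, ?_⟩
    simp only [A, Set.mem_iUnion]
    exact ⟨i₀, ⟨AddEquiv.refl _⟩, y₀, hy₀⟩
  refine ⟨M i₀, hM i₀, hMf i₀, {i : ι // Nonempty (M i ≃+ M i₀)}, fun i => U i.1, ?_, ?_⟩
  · intro x
    have hx : x ∈ A := by rw [hAu]; trivial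
    simp only [A, Set.mem_iUnion] at hx
    obtain ⟨i, hi, y, hy⟩ := hx
    exact ⟨⟨i, hi⟩, y, hy⟩
  · rintro ⟨i, ⟨f⟩⟩
    obtain ⟨e⟩ := e i
    exact ⟨e ≪≫ (constantSheaf (X.smallEtaleTopology.over (U i)) AddCommGrpCat.{u + 1}).mapIso
      (((AddEquiv.ulift.trans f).trans AddEquiv.ulift.symm).toAddCommGrpIso)⟩

end Groth.Agent.S0105
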