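import Groth.Statements.S0109
import Groth.Agent.Etbase.GaQC

set_option autoImplicit false
open CategoryTheory CategoryTheory.Limits AlgebraicGeometry Opposite
universe u
open EtBase

namespace Groth.Agent.S0109

/-- Stacks 03P2 (with Cohomology of Schemes 01XB): on an affine scheme, étale cohomology of the additive group sheaf (the structure sheaf) vanishes in positive degrees. -/
theorem result (S : Scheme.{u}) [IsAffine S] (p : ℕ) (hp : 1 ≤ p) : Subsingleton (EtCoh.H S (EtCoh.Ga S) p) := by
  obtain ⟨n, rfl⟩ : ∃ n, p = n + 1 := ⟨p - 1, by omega⟩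
  exact Groth.Agent.Etbase.EtCartan.H_subsingleton_of_etAcyc _
    (Groth.Agent.Etbase.GaQC.ga_etAcyc S) n

end Groth.Agent.S0109
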