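import Groth.Statements.S0111
import Groth.Agent.Etbase.StrictHensStalk

set_option autoImplicit false
open CategoryTheory CategoryTheory.Limits AlgebraicGeometry Opposite
universe u
open EtBase

namespace Groth.Agent.S0111

/-- Stacks 04HX (with Algebra 04GW (strict henselization as a colimit over pointed étale algebras), 04GP): the étale local ring at a geometric point (the stalk of the structure sheaf on the small étale site) is a strictly henselian local ring. Only this consequence of the source's identification of that ring with the strict henselization of the Zariski local ring is stated. -/
theorem result {X : Scheme.{u}} {Ω : Type u} [Field Ω] [IsSepClosed Ω]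
    (ξ : Spec (CommRingCat.of Ω) ⟶ X) : EtCoh.IsStrictlyHenselianLocalRing (EtBase.etaleLocalRing ξ) := by
  exact Groth.Agent.Etbase.StrictHensStalk.etaleLocalRing_isStrictlyHenselian ξ

end Groth.Agent.S0111
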