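import Groth.Statements.S0116
import Groth.Agent.Etbase.NoethDescent

set_option autoImplicit false
open CategoryTheory CategoryTheory.Limits AlgebraicGeometry Opposite
universe u
open EtBase

namespace Groth.Agent.S0116

open Groth.Agent.Etbase.NoethDescent

/-- Stacks 034C (with Algebra 033E (descent of Noetherian along faithfully flat)): the descent half — if X → Y is surjective, flat and locally of finite presentation and X is locally Noetherian, then Y is locally Noetherian (the ascent half is finite-type-over-Noetherian). -/
theorem result {X Y : Scheme.{u}} (f : X ⟶ Y) [Surjective f] [Flat f] [LocallyOfFinitePresentation f]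
    [IsLocallyNoetherian X] : IsLocallyNoetherian Y := by
  rw [isLocallyNoetherian_iff_of_affine_openCover Y.affineCover]
  intro i
  have : IsLocallyNoetherian (pullback f (Y.affineCover.f i)) :=
    isLocallyNoetherian_of_isOpenImmersion (pullback.fst f _)
  have h1 : Surjective (pullback.snd f (Y.affineCover.f i)) := MorphismProperty.pullback_snd (P := @Surjective) _ _ inferInstance
  have h2 : Flat (pullback.snd f (Y.affineCover.f i)) := MorphismProperty.pullback_snd (P := @Flat) _ _ inferInstance
  have h3 : LocallyOfFinitePresentation (pullback.snd f (Y.affineCover.f i)) := MorphismProperty.pullback_snd (P := @LocallyOfFinitePresentation) _ _ inferInstance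
  obtain ⟨A, φ, p, h1, h2, h3⟩ := @exists_affine_of_fppf _ (Y.affineOpenCover.X i) (pullback.snd f (Y.affineCover.f i)) h1 h2 h3
  have : LocallyOfFiniteType p := IsLocalIso.le_of_isZariskiLocalAtSource @LocallyOfFiniteType _ _ _ h1
  have : IsLocallyNoetherian (Spec A) := LocallyOfFiniteType.isLocallyNoetherian p
  have : IsNoetherianRing A := isLocallyNoetherian_Spec.mp this
  algebraize [φ.hom]
  have := isNoetherianRing_of_faithfullyFlat (Y.affineOpenCover.X i) A
  exact isNoetherianRing_of_ringEquiv (Y.affineOpenCover.X i) (Scheme.ΓSpecIso (Y.affineOpenCover.X i)).symm.commRingCatIsoToRingEquiv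

end Groth.Agent.S0116
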