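import Groth.Statements.S0154
import Groth.Agent.EtpbcB.EffaceMain
import Groth.Agent.Sga4A.IntegralSection
import Groth.Agent.Etbase.EtColimBig

set_option autoImplicit false
universe u
open CategoryTheory CategoryTheory.Limits AlgebraicGeometry Opposite
open EtPBC

namespace Groth.Agent.S0154

/-- Stacks Tag 09ZE: X affine, i : Z -> X a closed immersion, F a torsion abelian sheaf on X_et, q > 0 and xi in H^q(Z, i^* F). Then there is an injective map F -> F' of torsion abelian sheaves on X_et such that xi maps to zero in H^q(Z, i^* F'). -/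
theorem result (X Z : Scheme.{u}) [IsAffine X]
    (i : Z ⟶ X) [IsClosedImmersion i] [EtCoh.BCCont i]
    (F : EtCoh.Ab X) (hF : EtCoh.IsTorsion F) (q : ℕ) (hq : 0 < q)
    (ξ : EtCoh.H Z ((EtCoh.pull i).obj F) q) :
    ∃ (F' : EtCoh.Ab X) (_ : EtCoh.IsTorsion F') (φ : F ⟶ F') (_ : Mono φ),
      Sheaf.H.map ((EtCoh.pull i).map φ) q ξ = 0 := by
  have hZa : IsAffine Z := isAffine_of_isAffineHom i
  have hqc : CompactSpace Z := inferInstance
  have hqs : QuasiSeparatedSpace Z := inferInstance
  exact Groth.Agent.EtpbcB.EffaceMain.efface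
    (fun f _ => Groth.Agent.Sga4A.EtSplit.preservesFiniteColimits_push f) X Z i q hq
    (fun J _ _ => Groth.Agent.Etbase.EtColimBig.preservesColimits_HF_big Z J q) F hF ξ

end Groth.Agent.S0154
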