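import Groth.Statements.S0136
import Groth.Agent.EtpbcA.FinPush

set_option autoImplicit false
universe u
open CategoryTheory CategoryTheory.Limits AlgebraicGeometry Opposite
open EtPBC

namespace Groth.Agent.S0136

/-- Stacks Tag 095H: abelian case: if f : X -> Y is finite etale and F is a constructible abelian sheaf on X_et then f_* F is constructible on Y_et. -/
theorem result {X Y : Scheme.{u}} (f : X ⟶ Y) [IsFinite f] [Etale f]
    [EtCoh.BCCont f] (F : EtCoh.Ab X) (hF : EtPBC.IsConstructible F) :
    EtPBC.IsConstructible ((EtCoh.push f).obj F) := by
  exact Groth.Agent.EtpbcA.FinPush.isConstructible_push f F hF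

end Groth.Agent.S0136
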