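import Groth.Statements.S0145
-- import your own Groth.Agent.* helpers here
import Groth.Agent.S0134
import Groth.Agent.S0141
import Groth.Agent.EtpbcA.SuppCons

set_option autoImplicit false
universe u
open CategoryTheory CategoryTheory.Limits AlgebraicGeometry Opposite
open EtPBC

namespace Groth.Agent.S0145

/-- Stacks Tag 0F0N: (1): X Noetherian, E a subset of X stable under specialization, F a torsion abelian sheaf on X_et supported inside E. Then F is a filtered colimit of constructible abelian sheaves each supported inside some closed subset contained in E. -/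
theorem result (X : Scheme.{u}) [IsNoetherian X]
    (E : Set X) (hE : StableUnderSpecialization E)
    (F : EtCoh.Ab X) (hF : EtCoh.IsTorsion F) (hsupp : EtPBC.supp F ⊆ E) :
    ∃ (J : Type (u + 1)) (_ : SmallCategory J) (_ : IsFiltered J) (D : J ⥤ EtCoh.Ab X)
      (c : Cocone D) (_ : IsColimit c), Nonempty (c.pt ≅ F) ∧
      ∀ j, EtPBC.IsConstructible (D.obj j) ∧
        ∃ Z : Set X, IsClosed Z ∧ Z ⊆ E ∧ EtPBC.supp (D.obj j) ⊆ Z := by
  obtain ⟨J, i1, i2, D, c, hc, hD, ⟨e⟩⟩ := S0134.result X F hF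
  refine ⟨J, i1, i2, EtpbcA.SuppCons.imD c, EtpbcA.SuppCons.imC c,
    EtpbcA.SuppCons.imCIsColimit hc, ⟨e⟩, fun j => ?_⟩
  obtain ⟨n, hn, hDn⟩ := EtpbcA.KilledBy.exists_killedBy_of_isConstructible (hD j)
  have h1 : EtPBC.IsConstructible ((EtpbcA.SuppCons.imD c).obj j) :=
    S0141.result X (EtpbcA.SuppCons.imE c j) n hn hDn (hD j)
  have h2 : EtPBC.supp ((EtpbcA.SuppCons.imD c).obj j) ⊆ E := by
    refine (EtpbcA.SuppCons.supp_subset_of_mono ((EtpbcA.SuppCons.imC c).ι.app j)).trans ?_
    change EtPBC.supp c.pt ⊆ E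
    rw [EtpbcA.Artin.supp_congr e]
    exact hsupp
  exact ⟨h1, closure (EtPBC.supp ((EtpbcA.SuppCons.imD c).obj j)), isClosed_closure,
    EtpbcA.SuppCons.closure_supp_subset h1 hE h2, subset_closure⟩

end Groth.Agent.S0145
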