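import Groth.Statements.S0149
-- import your own Groth.Agent.* helpers here
import Groth.Agent.EtpbcA.CdColim
import Groth.Agent.EtpbcA.RpushTors
import Groth.Agent.EtpbcA.CdEtLeray
import Groth.Agent.Etcore.Torsion
import Groth.Agent.S0099
import Groth.Agent.S0646
import Mathlib.CategoryTheory.Presentable.Directed

set_option autoImplicit false
universe u
open CategoryTheory CategoryTheory.Limits AlgebraicGeometry Opposite
open EtPBC

namespace Groth.Agent.S0149

open Groth.Agent.EtpbcA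

/-- The case of a directed system indexed by a preorder. -/
theorem cd_limit_aux {ι : Type u} [Preorder ι] [IsDirected ι (· ≤ ·)] [Nonempty ι]
    (Xs : ιᵒᵖ ⥤ Scheme.{u}) [∀ {a b : ιᵒᵖ} (h : a ⟶ b), IsAffineHom (Xs.map h)]
    [∀ a, CompactSpace (Xs.obj a)] [∀ a, QuasiSeparatedSpace (Xs.obj a)]
    (c : Cone Xs) (hc : IsLimit c) (d : ℕ) (h : ∀ a, EtCoh.CohDimLE (Xs.obj a) d) :
    EtCoh.CohDimLE c.pt d := by
  intro F hF q hq
  have hcomp : CompactSpace c.pt := Scheme.compactSpace_of_isLimit Xs c hc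
  have haff (a : ιᵒᵖ) : IsAffineHom (c.π.app a) := isAffineHom_π_app Xs c hc a
  have hqs : QuasiSeparatedSpace c.pt := by
    obtain ⟨i⟩ := ‹Nonempty ι›
    exact quasiSeparatedSpace_of_quasiSeparated (c.π.app (op i))
  obtain ⟨hcol⟩ := CdColim.isColimit_phiCocone Xs c F hc
  have : PreservesColimitsOfShape (ιᵒᵖ)ᵒᵖ (EtCoh.HF c.pt q) :=
    Groth.Agent.S0099.result c.pt q (ιᵒᵖ)ᵒᵖ
  have : PreservesColimitsOfShape (ιᵒᵖ)ᵒᵖ (forget AddCommGrpCat.{u + 1}) := by
    have := Groth.Agent.Etbase.PointBasics.preservesFilteredColimitsOfSize_forget.{u}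
    infer_instance
  have hcol' := isColimitOfPreserves (forget AddCommGrpCat.{u + 1})
    (isColimitOfPreserves (EtCoh.HF c.pt q) hcol)
  have key (i : ι) (η : EtCoh.H c.pt (CdBc.Phi (c.π.app (op i)) F) q) : η = 0 := by
    have hpush : EtCoh.IsTorsion ((EtCoh.push (c.π.app (op i))).obj F) :=
      RpushTors.isTorsion_push (c.π.app (op i)) F hF
    obtain ⟨j, hj, ξj, hξ⟩ := (Groth.Agent.S0646.result Xs (fun _ _ _ => inferInstance)
      inferInstance inferInstance c hc i ((EtCoh.push (c.π.app (op i))).obj F) q).1 η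
    have hsub := h (op j) _ (Groth.Agent.Etcore.Torsion.isTorsion_pull (Xs.map (homOfLE hj).op) _ hpush)
      q hq
    rw [← hξ, Subsingleton.elim ξj 0, map_zero]
  have hzero (ξ : EtCoh.H c.pt F q) : ξ = 0 := by
    obtain ⟨a, η, hη⟩ := Types.jointly_surjective_of_isColimit hcol' ξ
    have hη0 : η = (0 : EtCoh.H c.pt (CdBc.Phi (c.π.app a.unop) F) q) := key a.unop.unop η
    rw [← hη, hη0]
    exact map_zero ((EtCoh.HF c.pt q).map ((CdColim.phiCocone Xs c F).ι.app a)).hom
  exact ⟨fun ξ η => (hzero ξ).trans (hzero η).symm⟩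

/-- Stacks Tag 0F0R: if X = lim X_i is a cofiltered limit of quasi-compact quasi-separated schemes with affine transition morphisms and cd(X_i) <= d for all i, then cd(X) <= d. -/
theorem result {I : Type u} [SmallCategory I] [IsCofiltered I] (D : I ⥤ Scheme.{u})
    [∀ {i j : I} (a : i ⟶ j), IsAffineHom (D.map a)]
    [∀ i, CompactSpace (D.obj i)] [∀ i, QuasiSeparatedSpace (D.obj i)]
    (c : Cone D) (hc : IsLimit c) (d : ℕ) (h : ∀ i, EtCoh.CohDimLE (D.obj i) d) :
    EtCoh.CohDimLE c.pt d := by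
  obtain ⟨α, _, _, _, G, _⟩ := IsFiltered.exists_directed Iᵒᵖ
  let G' : αᵒᵖ ⥤ I := G.leftOp
  have : G'.Initial := inferInstanceAs G.leftOp.Initial
  have (a : αᵒᵖ) : CompactSpace ((G' ⋙ D).obj a) :=
    inferInstanceAs (CompactSpace (D.obj (G'.obj a)))
  have (a : αᵒᵖ) : QuasiSeparatedSpace ((G' ⋙ D).obj a) :=
    inferInstanceAs (QuasiSeparatedSpace (D.obj (G'.obj a)))
  have {a b : αᵒᵖ} (f : a ⟶ b) : IsAffineHom ((G' ⋙ D).map f) :=
    inferInstanceAs (IsAffineHom (D.map (G'.map f)))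
  exact cd_limit_aux (G' ⋙ D) (c.whisker G') ((Functor.Initial.isLimitWhiskerEquiv G' c).symm hc) d
    (fun a => h _)

end Groth.Agent.S0149
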