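import Groth.Statements.S0164
import Groth.Agent.S0674
import Groth.Agent.EtpbcA.SepClosedStrict

set_option autoImplicit false
universe u
open CategoryTheory CategoryTheory.Limits AlgebraicGeometry Opposite
open EtPBC

namespace Groth.Agent.S0164

/-- Stacks Tag 0EZY: let S = Spec k with k separably closed, f : X -> S arbitrary and g : T -> S quasi-compact and quasi-separated (the standing hypothesis of the source's section on base change for pushforward), Y = X x_S T with projections h, e. Then f^* g_* F ≅ h_* e^* F for every abelian sheaf F on T_et. The source proves the canonical map is an isomorphism for sheaves of sets; we state that the canonical base change map is an isomorphism, for abelian sheaves. -/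
theorem result {k : Type u} [Field k] [IsSepClosed k]
    {X Y T : Scheme.{u}} (f : X ⟶ Spec (CommRingCat.of k)) (g : T ⟶ Spec (CommRingCat.of k))
    [QuasiCompact g] [QuasiSeparated g] (h : Y ⟶ X) (e : Y ⟶ T) (hc : IsPullback e h g f)
    [EtCoh.BCCont f] [EtCoh.BCCont g] [EtCoh.BCCont h] [EtCoh.BCCont e] (F : EtCoh.Ab T) :
    IsIso (EtCoh.baseChange0 g f h e hc.w F) := by
  have hf : Flat f := inferInstance
  refine S0674.result f ?_ g h e hc F
  intro x RS _ _ _ _ hRS RX _ _ _ _ hRX ψ _ _ Ω _ _ η
  obtain ⟨E⟩ := EtpbcA.SepClosedStrict.exists_ringEquiv k (f.base x) RS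
  exact EtpbcA.SepClosedStrict.connectedSpace_pullback k E ψ η

end Groth.Agent.S0164
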