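import Groth.Statements.S0169
import Groth.Agent.EtpbcB.StratScheme
import Groth.Agent.EtpbcB.StratTop
import Groth.Agent.Desc.LQF

set_option autoImplicit false
universe u
open CategoryTheory CategoryTheory.Limits AlgebraicGeometry Opposite
open EtPBC

namespace Groth.Agent.S0169

open Groth.Agent.EtpbcB Topology

/-- `S` is the image of an immersion over which `j` is finite. -/
def Good {U X : Scheme.{u}} (j : U ⟶ X) (S : Set X) : Prop :=
  ∃ (T : Scheme.{u}) (g : T ⟶ X), IsImmersion g ∧ Set.range g = S ∧ IsFinite (pullback.snd j g)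

theorem Good.shrink {U X : Scheme.{u}} {j : U ⟶ X} {S : Set X} (h : Good j S) (V C : Set X)
    (hV : IsOpen V) (hC : IsClosed C) : Good j (S ∩ V ∩ C) := by
  obtain ⟨T, g, hg, rfl, hfin⟩ := h
  let V' : X.Opens := ⟨V, hV⟩
  let W : T.Opens := g ⁻¹ᵁ V'
  let Z : TopologicalSpace.Closeds W.toScheme := ⟨(W.ι ≫ g) ⁻¹' C, hC.preimage (W.ι ≫ g).continuous⟩
  let I := Scheme.IdealSheafData.vanishingIdeal Z
  let k : I.subscheme ⟶ T := I.subschemeι ≫ W.ι
  have hrange : Set.range I.subschemeι = (Z : Set W.toScheme) := by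
    rw [Scheme.IdealSheafData.range_subschemeι]
    exact Scheme.IdealSheafData.coe_support_vanishingIdeal Z
  refine ⟨I.subscheme, k ≫ g, inferInstance, ?_, ?_⟩
  · ext x
    constructor
    · rintro ⟨z, rfl⟩
      have hz : I.subschemeι z ∈ (Z : Set W.toScheme) := by rw [← hrange]; exact ⟨z, rfl⟩
      refine ⟨⟨⟨k z, rfl⟩, ?_⟩, ?_⟩
      · have : W.ι (I.subschemeι z) ∈ (W : Set T) := (I.subschemeι z).2
        exact this
      · exact hz
    · rintro ⟨⟨⟨t, rfl⟩, htV⟩, htC⟩
      have htW : t ∈ W := htV
      have h1 : (⟨t, htW⟩ : W.toScheme) ∈ (Z : Set W.toScheme) := htC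
      rw [← hrange] at h1
      obtain ⟨z, hz⟩ := h1
      refine ⟨z, ?_⟩
      change g (W.ι (I.subschemeι z)) = g t
      rw [hz]
      rfl
  · have h1 : pullback.snd j (k ≫ g) = (pullbackLeftPullbackSndIso j g k).inv ≫ pullback.snd (pullback.snd j g) k := by
      rw [pullbackLeftPullbackSndIso_inv_snd_snd]
    rw [h1]
    infer_instance

/-- The range of `Spec` of `A → A_f / I A_f`. -/
theorem range_comap_away_quotient {A : Type u} [CommRing A] (f : A) (I : Ideal A) :
    Set.range (PrimeSpectrum.comap ((Ideal.Quotient.mk (I.map (algebraMap A (Localization.Away f)))).comp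
      (algebraMap A (Localization.Away f)))) =
      (PrimeSpectrum.basicOpen f : Set (PrimeSpectrum A)) ∩ PrimeSpectrum.zeroLocus (I : Set A) := by
  rw [PrimeSpectrum.comap_comp]
  have h1 : Set.range ((PrimeSpectrum.comap (algebraMap A (Localization.Away f))) ∘
      (PrimeSpectrum.comap (Ideal.Quotient.mk (I.map (algebraMap A (Localization.Away f)))))) =
      PrimeSpectrum.comap (algebraMap A (Localization.Away f)) ''
        (PrimeSpectrum.comap (algebraMap A (Localization.Away f)) ⁻¹' PrimeSpectrum.zeroLocus (I : Set A)) := by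
    rw [Set.range_comp, range_comap_of_surjective _ _ Ideal.Quotient.mk_surjective, Ideal.mk_ker,
      PrimeSpectrum.preimage_comap_zeroLocus, Ideal.map, PrimeSpectrum.zeroLocus_span]
  refine h1.trans ?_
  rw [Set.image_preimage_eq_inter_range, PrimeSpectrum.localization_away_comap_range _ f, Set.inter_comm]

/-- Each point has a locally closed constructible neighbourhood over which `j` is finite. -/
theorem exists_good {U X : Scheme.{u}} [CompactSpace U] [QuasiSeparatedSpace U]
    [CompactSpace X] [QuasiSeparatedSpace X] (j : U ⟶ X) [Etale j] (x : X) :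
    ∃ O O' : Set X, IsOpen O ∧ IsCompact O ∧ IsOpen O' ∧ IsCompact O' ∧ x ∈ O ∧ x ∉ O' ∧
      Good j (O \ O') := by
  obtain ⟨W, hW, hxW, -⟩ := exists_isAffineOpen_mem_and_subset (U := (⊤ : X.Opens)) (x := x) trivial
  let A := Γ(X, W)
  let e : Spec A ⟶ X := hW.fromSpec
  have hrange : Set.range e = (W : Set X) := hW.range_fromSpec
  obtain ⟨p, hp⟩ : ∃ p : Spec A, e p = x := by
    have : x ∈ Set.range e := by rw [hrange]; exact hxW
    exact this
  have hjqc : QuasiCompact j := inferInstance
  let j' : pullback j e ⟶ Spec A := pullback.snd j e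
  have hqc' : QuasiCompact j' := inferInstance
  have hc : CompactSpace (pullback j e : Scheme.{u}) :=
    QuasiCompact.compactSpace_of_compactSpace j'
  have hqs : QuasiSeparatedSpace (pullback j e : Scheme.{u}) :=
    (pullback.fst j e).isOpenEmbedding.quasiSeparatedSpace
  have hlqf : LocallyQuasiFinite j' := Groth.Agent.Desc.LQF.of_etale j'
  obtain ⟨f, hf, I, hI, hIp, H⟩ := StratScheme.ev_isFinite (A := A) j' p
  let T := (Localization.Away f) ⧸ (I.map (algebraMap A (Localization.Away f)))
  let φ : A →+* T := (Ideal.Quotient.mk (I.map (algebraMap A (Localization.Away f)))).comp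
      (algebraMap A (Localization.Away f))
  have hu : IsUnit (φ f) := (IsLocalization.Away.algebraMap_isUnit f).map
    (Ideal.Quotient.mk (I.map (algebraMap A (Localization.Away f))))
  have hle : I ≤ RingHom.ker φ := fun i hi =>
    Ideal.Quotient.eq_zero_iff_mem.mpr (Ideal.mem_map_of_mem _ hi)
  have hfin := H T φ hu hle
  have himm : IsImmersion (Spec.map (CommRingCat.ofHom φ)) := by
    have h1 : IsOpenImmersion (Spec.map (CommRingCat.ofHom (algebraMap A (Localization.Away f)))) :=
      inferInstance
    have h2 : IsClosedImmersion (Spec.map (CommRingCat.ofHom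
        (Ideal.Quotient.mk (I.map (algebraMap A (Localization.Away f)))))) :=
      IsClosedImmersion.spec_of_surjective _ Ideal.Quotient.mk_surjective
    have h3 : Spec.map (CommRingCat.ofHom φ) = Spec.map (CommRingCat.ofHom
        (Ideal.Quotient.mk (I.map (algebraMap A (Localization.Away f))))) ≫
        Spec.map (CommRingCat.ofHom (algebraMap A (Localization.Away f))) := by
      rw [← Spec.map_comp]
      rfl
    rw [h3]
    infer_instance
  have hrg : Set.range (Spec.map (CommRingCat.ofHom φ)) =
      (PrimeSpectrum.basicOpen f : Set (PrimeSpectrum A)) ∩ PrimeSpectrum.zeroLocus (I : Set A) :=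
    range_comap_away_quotient f I
  have hVc : IsCompact ((PrimeSpectrum.zeroLocus (I : Set A))ᶜ : Set (PrimeSpectrum A)) :=
    (PrimeSpectrum.isCompact_isOpen_iff_ideal.mpr ⟨I, hI, rfl⟩).1
  have hVo : IsOpen ((PrimeSpectrum.zeroLocus (I : Set A))ᶜ : Set (PrimeSpectrum A)) :=
    (PrimeSpectrum.isClosed_zeroLocus _).isOpen_compl
  have hbo : IsOpen (PrimeSpectrum.basicOpen f : Set (PrimeSpectrum A)) :=
    (PrimeSpectrum.basicOpen f).isOpen
  have hbc : IsCompact (PrimeSpectrum.basicOpen f : Set (PrimeSpectrum A)) :=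
    PrimeSpectrum.isCompact_basicOpen f
  have heo : IsOpenEmbedding e := e.isOpenEmbedding
  refine ⟨e '' (PrimeSpectrum.basicOpen f : Set (PrimeSpectrum A)),
    e '' ((PrimeSpectrum.basicOpen f : Set (PrimeSpectrum A)) ∩
      (PrimeSpectrum.zeroLocus (I : Set A))ᶜ), ?_, ?_, ?_, ?_, ?_, ?_, ?_⟩
  · exact heo.isOpenMap _ hbo
  · exact hbc.image e.continuous
  · exact heo.isOpenMap _ (hbo.inter hVo)
  · exact (QuasiSeparatedSpace.inter_isCompact _ _ hbo hbc hVo hVc).image e.continuous
  · exact ⟨p, hf, hp⟩
  · rintro ⟨q, ⟨_, hq2⟩, hq3⟩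
    have : q = p := heo.injective (hq3.trans hp.symm)
    subst this
    exact hq2 hIp
  · refine ⟨Spec (.of T), Spec.map (CommRingCat.ofHom φ) ≫ e, inferInstance, ?_, ?_⟩
    · have h1 : Set.range (Spec.map (CommRingCat.ofHom φ) ≫ e) =
          e '' Set.range (Spec.map (CommRingCat.ofHom φ)) := by
        rw [← Set.range_comp]
        rfl
      rw [h1, hrg, ← Set.image_sdiff heo.injective]
      congr 1
      ext q
      constructor
      · rintro ⟨h2, h3⟩
        exact ⟨h2, fun h4 => h4.2 h3⟩
      · rintro ⟨h2, h3⟩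
        exact ⟨h2, by_contra fun h4 => h3 ⟨h2, h4⟩⟩
    · have h1 : pullback.snd j (Spec.map (CommRingCat.ofHom φ) ≫ e) =
          (pullbackLeftPullbackSndIso j e (Spec.map (CommRingCat.ofHom φ))).inv ≫
            pullback.snd (pullback.snd j e) (Spec.map (CommRingCat.ofHom φ)) := by
        rw [pullbackLeftPullbackSndIso_inv_snd_snd]
      rw [h1, MorphismProperty.cancel_left_of_respectsIso (P := @IsFinite)]
      exact hfin

/-- Stacks Tag 03S0: for j : U -> X an etale morphism of quasi-compact quasi-separated schemes there are finitely many immersions T_i -> X with pairwise disjoint constructible images covering X such that U x_X T_i -> T_i is finite (etale) for each i. -/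
theorem result {U X : Scheme.{u}} [CompactSpace U] [QuasiSeparatedSpace U]
    [CompactSpace X] [QuasiSeparatedSpace X] (j : U ⟶ X) [Etale j] :
    ∃ (n : ℕ) (T : Fin n → Scheme.{u}) (g : ∀ i, T i ⟶ X),
      (∀ i, IsImmersion (g i)) ∧ (∀ i, Topology.IsConstructible (Set.range (g i))) ∧
      Pairwise (fun i i' => Disjoint (Set.range (g i)) (Set.range (g i'))) ∧
      (⋃ i, Set.range (g i)) = Set.univ ∧ ∀ i, IsFinite (pullback.snd j (g i)) := by
  obtain ⟨n, S, hS1, hS2, hS3, hS4⟩ := StratTop.exists_partition (X := X) (Good j)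
    (fun S V C hV hC h => h.shrink V C hV hC) (exists_good j)
  choose T g hg hr hfin using hS4
  refine ⟨n, T, g, hg, ?_, ?_, ?_, hfin⟩
  · intro i
    rw [hr]
    exact hS1 i
  · intro i i' h
    change Disjoint (Set.range (g i)) (Set.range (g i'))
    rw [hr, hr]
    exact hS2 h
  · simp only [hr]
    exact hS3

end Groth.Agent.S0169
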