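import Groth.Statements.S0170
import Groth.Agent.EtpbcB.QFProd

set_option autoImplicit false
universe u
open CategoryTheory CategoryTheory.Limits AlgebraicGeometry Opposite
open EtPBC

namespace Groth.Agent.S0170

open scoped TensorProduct

/-- Every ring has a map to a product of algebraically closed fields which is surjective on
spectra. -/
theorem comap_prod_surjective (A : Type u) [CommRing A] :
    Function.Surjective (PrimeSpectrum.comap
      (algebraMap A (∀ p : PrimeSpectrum A, AlgebraicClosure p.asIdeal.ResidueField))) := by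
  intro p
  refine ⟨Groth.Agent.EtpbcB.QFProd.principal _ p, ?_⟩
  ext a
  change algebraMap A (∀ p : PrimeSpectrum A, AlgebraicClosure p.asIdeal.ResidueField) a ∈
    (Groth.Agent.EtpbcB.QFProd.principal _ p).asIdeal ↔ _
  rw [Groth.Agent.EtpbcB.QFProd.mem_principal]
  change algebraMap A (AlgebraicClosure p.asIdeal.ResidueField) a = 0 ↔ _
  rw [IsScalarTower.algebraMap_apply A p.asIdeal.ResidueField (AlgebraicClosure p.asIdeal.ResidueField)]
  rw [map_eq_zero_iff (algebraMap _ _) (algebraMap p.asIdeal.ResidueField (AlgebraicClosure p.asIdeal.ResidueField)).injective]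
  exact Ideal.algebraMap_residueField_eq_zero

/-- Stacks Tag 095K (1): for f : Y -> X quasi-finite and of finite presentation with X and Y affine, one can find an affine X' mapping onto X such that the base change Y' = X' x_X Y contains a closed subscheme Z' with the same underlying space (a thickening) for which the composite Z' -> Y' -> X' is finite etale. -/
theorem result {Y X : Scheme.{u}} [IsAffine X] [IsAffine Y] (f : Y ⟶ X)
    [LocallyQuasiFinite f] [LocallyOfFinitePresentation f] :
    ∃ (X' : Scheme.{u}) (_ : IsAffine X') (a : X' ⟶ X) (_ : Surjective a) (Z' : Scheme.{u})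
      (c : Z' ⟶ pullback a f) (_ : IsClosedImmersion c) (_ : Surjective c),
      IsFinite (c ≫ pullback.fst a f) ∧ Etale (c ≫ pullback.fst a f) := by
  let A := Γ(X, ⊤)
  let B := Γ(Y, ⊤)
  let φ : A ⟶ B := f.appTop
  let _ : Algebra A B := φ.hom.toAlgebra
  let R := ∀ p : PrimeSpectrum A, AlgebraicClosure p.asIdeal.ResidueField
  have hf : f = Y.isoSpec.hom ≫ Spec.map φ ≫ X.isoSpec.inv := by
    rw [← Category.assoc, Iso.eq_comp_inv]
    exact (Scheme.isoSpec_hom_naturality f).symm
  have hqf : Algebra.QuasiFinite A B :=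
    (HasRingHomProperty.iff_of_isAffine (P := @LocallyQuasiFinite)).mp ‹_›
  have hfp : Algebra.FinitePresentation A B :=
    (HasRingHomProperty.iff_of_isAffine (P := @LocallyOfFinitePresentation)).mp ‹_›
  obtain ⟨C, _, _, π, hπ, hfin, het, hsurj⟩ :=
    Groth.Agent.EtpbcB.QFProd.exists_finite_etale_model (A := A) (B := B)
      (fun p : PrimeSpectrum A => AlgebraicClosure p.asIdeal.ResidueField)
  have sq1 : IsPullback (Spec.map (CommRingCat.ofHom (Algebra.TensorProduct.includeLeftRingHom : R →+* R ⊗[A] B)))
      (Spec.map (CommRingCat.ofHom (Algebra.TensorProduct.includeRight.toRingHom : B →+* R ⊗[A] B)))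
      (Spec.map (CommRingCat.ofHom (algebraMap A R))) (Spec.map φ) :=
    isPullback_SpecMap_of_isPushout _ _ _ _ (CommRingCat.isPushout_tensorProduct A R B)
  have sq2 : IsPullback (Spec.map (CommRingCat.ofHom (Algebra.TensorProduct.includeLeftRingHom : R →+* R ⊗[A] B)))
      (Spec.map (CommRingCat.ofHom (Algebra.TensorProduct.includeRight.toRingHom : B →+* R ⊗[A] B)) ≫ Y.isoSpec.inv)
      (Spec.map (CommRingCat.ofHom (algebraMap A R)) ≫ X.isoSpec.inv) f := by
    refine sq1.of_iso (Iso.refl _) (Iso.refl _) Y.isoSpec.symm X.isoSpec.symm ?_ ?_ ?_ ?_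
    · simp
    · simp
    · simp
    · simp [hf]
  let e := sq2.isoPullback
  have hcomp : (Spec.map (CommRingCat.ofHom π.toRingHom) ≫ e.hom) ≫
      pullback.fst (Spec.map (CommRingCat.ofHom (algebraMap A R)) ≫ X.isoSpec.inv) f =
      Spec.map (CommRingCat.ofHom (algebraMap R C)) := by
    rw [Category.assoc, IsPullback.isoPullback_hom_fst, ← Spec.map_comp, ← CommRingCat.ofHom_comp]
    congr 2
    exact π.comp_algebraMap
  refine ⟨Spec (.of R), inferInstance, Spec.map (CommRingCat.ofHom (algebraMap A R)) ≫ X.isoSpec.inv, ?_,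
    Spec (.of C), Spec.map (CommRingCat.ofHom π.toRingHom) ≫ e.hom, ?_, ?_, ?_, ?_⟩
  · have h1 : Surjective (Spec.map (CommRingCat.ofHom (algebraMap A R))) :=
      ⟨comap_prod_surjective A⟩
    infer_instance
  · have h1 : IsClosedImmersion (Spec.map (CommRingCat.ofHom π.toRingHom)) :=
      IsClosedImmersion.spec_of_surjective _ hπ
    infer_instance
  · have h1 : Surjective (Spec.map (CommRingCat.ofHom π.toRingHom)) := ⟨hsurj⟩
    infer_instance
  · rw [hcomp, IsFinite.SpecMap_iff]
    exact RingHom.finite_algebraMap.mpr hfin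
  · rw [hcomp, HasRingHomProperty.Spec_iff (P := @Etale)]
    exact RingHom.etale_algebraMap.mpr het

end Groth.Agent.S0170
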