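import Groth.Statements.S0175
import Groth.Agent.EtpbcB.ClosedImmPush
import Groth.Agent.EtpbcB.OpenImmPush

set_option autoImplicit false
universe u
open CategoryTheory CategoryTheory.Limits AlgebraicGeometry Opposite
open EtPBC

namespace Groth.Agent.S0175

/-- Stacks Tag 09XQ: i : Z -> X a closed immersion with open complement j : U -> X, I an injective abelian sheaf on X_et. The subsheaf H_Z(I) of sections supported on Z (the kernel of I -> j_* j^* I), viewed on Z_et via i^*, is an injective abelian sheaf on Z_et. -/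
theorem result {Z X U : Scheme.{u}} (i : Z ⟶ X) [IsClosedImmersion i]
    (j : U ⟶ X) [IsOpenImmersion j] (hZU : Set.range j = (Set.range i)ᶜ)
    [EtCoh.BCCont i] [EtCoh.BCCont j] (I : EtCoh.Ab X) [Injective I] :
    Injective ((EtCoh.pull i).obj (kernel ((EtCoh.pullPushAdj j).unit.app I))) := by
  have := EtpbcB.ClosedImmEtale.isCoverDense_bc i
  have := EtpbcB.ClosedImmEtale.isLocallyFull_bc i
  have hfull : (EtCoh.push i).Full := inferInstance
  have hfaith : (EtCoh.push i).Faithful := inferInstance
  change Injective ((EtCoh.pull i).obj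
    (kernel (C := EtCoh.Ab X) (X := I) ((EtCoh.pullPushAdj j).unit.app I)))
  set η : I ⟶ (EtCoh.push j).obj ((EtCoh.pull j).obj I) := (EtCoh.pullPushAdj j).unit.app I with hη
  -- the kernel vanishes over the complement
  have hH : (EtCoh.push i).essImage (kernel η) := by
    rw [EtpbcB.ClosedImmPush.essImage_push_iff]
    intro V hV
    have hV' : Set.range V.hom.base ⊆ Set.range j.base := by
      have h1 : Set.range V.hom.base ⊆ (Set.range i.base)ᶜ := Set.disjoint_left.1 hV
      exact h1.trans hZU.symm.subset
    have h1 : Mono (η.hom.app (op V)) := EtpbcB.OpenImmPush.mono_unit_app_app j I V hV'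
    have h2 : Mono ((kernel.ι η).hom.app (op V)) := by
      have : Mono ((sheafToPresheaf _ _).map (kernel.ι η)) := inferInstance
      have : Mono (((sheafToPresheaf _ _).map (kernel.ι η)).app (op V)) := inferInstance
      exact this
    have h3 : (kernel.ι η).hom.app (op V) ≫ η.hom.app (op V) = 0 :=
      congrArg (fun m : kernel η ⟶ _ => m.hom.app (op V)) (kernel.condition η)
    have h4 : (kernel.ι η).hom.app (op V) = 0 := by
      rw [← cancel_mono (η.hom.app (op V))]
      exact h3.trans zero_comp.symm
    exact IsZero.of_mono_eq_zero _ h4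
  have hunit : IsIso ((EtCoh.pullPushAdj i).unit.app (kernel η)) :=
    ((EtCoh.pullPushAdj i).isIso_unit_app_iff_mem_essImage).2 hH
  constructor
  intro A B g m hm
  have hm' : Mono ((EtCoh.push i).map m) := inferInstance
  let ε := (EtCoh.pullPushAdj i).unit.app (kernel η)
  let g' : (EtCoh.push i).obj A ⟶ kernel η := (EtCoh.push i).map g ≫ inv ε
  obtain ⟨b, hb⟩ := Injective.factors (g' ≫ kernel.ι η) ((EtCoh.push i).map m)
  have hbη : b ≫ η = 0 := by
    refine EtpbcB.OpenImmPush.hom_push_eq_zero j _ (fun V hV => ?_) _ _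
    refine EtpbcB.ClosedImmPush.isZero_push_obj i B V (Set.disjoint_left.2 fun x hx => ?_)
    have := hV hx
    have h2 : x ∈ (Set.range i)ᶜ := hZU ▸ this
    exact h2
  let b' : (EtCoh.push i).obj B ⟶ kernel η := kernel.lift η b hbη
  have hb' : (EtCoh.push i).map m ≫ b' = g' := by
    rw [← cancel_mono (kernel.ι η), Category.assoc, kernel.lift_ι, hb]
  obtain ⟨c, hc⟩ := (EtCoh.push i).map_surjective (b' ≫ ε)
  refine ⟨c, (EtCoh.push i).map_injective ?_⟩
  rw [Functor.map_comp, hc, ← Category.assoc, hb', Category.assoc, IsIso.inv_hom_id, Category.comp_id]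

end Groth.Agent.S0175
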