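import Groth.Statements.S0181
import Groth.Agent.S0139
import Mathlib.CategoryTheory.Limits.Types.Filtered

set_option autoImplicit false
universe u
open CategoryTheory CategoryTheory.Limits AlgebraicGeometry Opposite
open EtPBC

namespace Groth.Agent.S0181

/-- Maps out of an object with filtered-colimit-preserving `Hom` factor through a stage. -/
theorem exists_factor {C : Type*} [Category.{u + 1} C] {J : Type u} [SmallCategory J] [IsFiltered J]
    {D : J ⥤ C} {c : Cocone D} (hc : IsColimit c) (F : C)
    [PreservesColimitsOfShape J (coyoneda.obj (op F))] (f : F ⟶ c.pt) :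
    ∃ (i : J) (s : F ⟶ D.obj i), s ≫ c.ι.app i = f := by
  obtain ⟨i, s, hs⟩ := Types.jointly_surjective_of_isColimit
    (isColimitOfPreserves (coyoneda.obj (op F)) hc) f
  exact ⟨i, s, hs⟩

/-- Two maps to a stage which agree in the colimit agree at a later stage. -/
theorem exists_eq {C : Type*} [Category.{u + 1} C] {J : Type u} [SmallCategory J] [IsFiltered J]
    {D : J ⥤ C} {c : Cocone D} (hc : IsColimit c) (F : C)
    [PreservesColimitsOfShape J (coyoneda.obj (op F))] {i : J} (f g : F ⟶ D.obj i)
    (h : f ≫ c.ι.app i = g ≫ c.ι.app i) :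
    ∃ (k : J) (a : i ⟶ k), f ≫ D.map a = g ≫ D.map a := by
  obtain ⟨k, a, ha⟩ := (Types.FilteredColimit.isColimit_eq_iff'
    (isColimitOfPreserves (coyoneda.obj (op F)) hc) (i := i) f g).1 h
  exact ⟨k, a, ha⟩

/-- Stacks Tag 095P: (2): on a quasi-compact quasi-separated X, if F = colim F_j is a filtered colimit of constructible abelian sheaves and F is itself constructible, then the ind-object (F_j) is essentially constant with value F: there are i and s : F -> F_i splitting F_i -> F such that for every j the transition F_j -> F_k, for some k beyond i and j, equals F_j -> F -> F_i -> F_k. -/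
theorem result (X : Scheme.{u}) [CompactSpace X] [QuasiSeparatedSpace X]
    {J : Type u} [SmallCategory J] [IsFiltered J] (D : J ⥤ EtCoh.Ab X)
    (c : Cocone D) (hc : IsColimit c)
    (hD : ∀ j, EtPBC.IsConstructible (D.obj j)) (hF : EtPBC.IsConstructible c.pt) :
    ∃ (i : J) (s : c.pt ⟶ D.obj i), s ≫ c.ι.app i = 𝟙 c.pt ∧
      ∀ j : J, ∃ (k : J) (a : i ⟶ k) (b : j ⟶ k), D.map b = c.ι.app j ≫ s ≫ D.map a := by
  have := Groth.Agent.S0139.result X c.pt hF J
  obtain ⟨i, s, hs⟩ := exists_factor hc c.pt (𝟙 c.pt)
  refine ⟨i, s, hs, fun j => ?_⟩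
  have := Groth.Agent.S0139.result X (D.obj j) (hD j) J
  obtain ⟨k, a, ha⟩ := exists_eq hc (D.obj j) (i := IsFiltered.max i j)
    (D.map (IsFiltered.rightToMax i j)) (c.ι.app j ≫ s ≫ D.map (IsFiltered.leftToMax i j))
    (by
      rw [Category.assoc, Category.assoc, c.w, c.w, hs]
      exact (Category.comp_id _).symm)
  refine ⟨k, IsFiltered.leftToMax i j ≫ a, IsFiltered.rightToMax i j ≫ a, ?_⟩
  rw [D.map_comp, ha, D.map_comp]
  simp only [Category.assoc]

end Groth.Agent.S0181
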