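import Groth.Statements.S0183
import Groth.Agent.S0694
import Groth.Agent.Proet.WLocFinal
import Groth.Agent.EtpbcB.IdLoc

set_option autoImplicit false
universe u
open CategoryTheory CategoryTheory.Limits AlgebraicGeometry Opposite
open EtPBC

namespace Groth.Agent.S0183

open Groth.Agent.EtpbcB Groth.Agent.Proet

/-- Stacks Tag 097G: suppose A -> B identifies local rings (A_p -> B_q bijective for every prime q of B over p). Then B can be enlarged along a faithfully flat ind-Zariski extension B' so that B' is already ind-Zariski over A; ind-Zariski means: a filtered colimit of local isomorphisms in the sense of Mathlib's Algebra.IsLocalIso (Zariski-locally on the source a standard open immersion). -/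
theorem result (A B : Type u) [CommRing A] [CommRing B] [Algebra A B]
    (h : EtPBC.IdentifiesLocalRings A B) :
    ∃ (B' : Type u) (_ : CommRing B') (_ : Algebra B B') (_ : Algebra A B') (_ : IsScalarTower A B B'),
      Module.FaithfullyFlat B B' ∧ EtPBC.IsIndZariski B B' ∧ EtPBC.IsIndZariski A B' := by
  obtain ⟨Bw, _, _, hff, hZ, hw, -⟩ := Groth.Agent.S0694.result B
  let algA : Algebra A Bw := ((algebraMap B Bw).comp (algebraMap A B)).toAlgebra
  have tow : IsScalarTower A B Bw := IsScalarTower.of_algebraMap_eq' rfl
  refine ⟨Bw, inferInstance, inferInstance, algA, tow, hff, hZ, ?_⟩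
  have h1 : IdLoc.IdLoc (algebraMap A Bw) :=
    ((IdLoc.identifiesLocalRings_iff A B).1 h).comp
      ((IdLoc.identifiesLocalRings_iff B Bw).1 (IdLoc.identifiesLocalRings_of_isIndZariski B Bw hZ))
  exact WLocFinal.isIndZariski_of_bijective A Bw hw
    fun m => (IdLoc.identifiesLocalRings_iff A Bw).2 h1 m.toPrimeSpectrum

end Groth.Agent.S0183
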