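import Groth.Statements.S0194
import Groth.Agent.S0188
import Groth.Agent.S0187
import Groth.Agent.CurvesA.CSABasic

set_option autoImplicit false
universe u v w
open scoped TensorProduct
open Curves

namespace Groth.Agent.S0194

/-- Stacks Tag 074U (brauer): a central simple subalgebra B of a finite central simple algebra A, together with its centralizer C, decomposes A as B ⊗ C. -/
theorem result (k : Type u) [Field k] (A : Type v) [Ring A] [Algebra k A]
    [Algebra.IsCentral k A] [IsSimpleRing A] [FiniteDimensional k A]
    (B : Subalgebra k A) [IsSimpleRing B] [Algebra.IsCentral k B] :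
    Function.Bijective (Algebra.TensorProduct.lift B.val (Subalgebra.centralizer k (B : Set A)).val
      (fun x y => y.2 x.1 x.2)) := by
  have h0 := Groth.Agent.S0187.result k A B
  have h1 := Groth.Agent.S0188.result k A B
  have : Module.Finite k B := Module.Finite.of_injective B.val.toLinearMap Subtype.val_injective
  have : Module.Finite k (Subalgebra.centralizer k (B : Set A)) :=
    Module.Finite.of_injective (Subalgebra.centralizer k (B : Set A)).val.toLinearMap
      Subtype.val_injective
  have hs : IsSimpleRing (Subalgebra.centralizer k (B : Set A) ⊗[k] B) :=
    Groth.Agent.S0190.result k (Subalgebra.centralizer k (B : Set A)) B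
  have hs' : IsSimpleRing (B ⊗[k] Subalgebra.centralizer k (B : Set A)) :=
    IsSimpleRing.of_ringEquiv
      (Algebra.TensorProduct.comm k (Subalgebra.centralizer k (B : Set A)) B).toRingEquiv hs
  set φ := Algebra.TensorProduct.lift B.val (Subalgebra.centralizer k (B : Set A)).val
      (fun x y => y.2 x.1 x.2) with hφ
  have hinj : Function.Injective φ := RingHom.injective φ.toRingHom
  refine ⟨hinj, ?_⟩
  have hfr : Module.finrank k (B ⊗[k] Subalgebra.centralizer k (B : Set A)) =
      Module.finrank k A := by
    rw [Module.finrank_tensorProduct, h1]
  exact (LinearMap.injective_iff_surjective_of_finrank_eq_finrank (f := φ.toLinearMap) hfr).1 hinj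

end Groth.Agent.S0194
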