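import Groth.Statements.S0195
import Groth.Agent.CurvesA.SplitEmbed

set_option autoImplicit false
universe u v w
open scoped TensorProduct
open Curves

namespace Groth.Agent.S0195

/-- Stacks Tag 074Z (brauer): a finite extension k' of k splits a finite central simple algebra A exactly when some algebra similar to A contains k' with dim equal to [k':k]^2. Uses Mathlib's bundled CSA and Brauer equivalence. -/
theorem result (k : Type u) [Field k] (A : CSA.{u, u} k)
    (k' : Type u) [Field k'] [Algebra k k'] [FiniteDimensional k k'] :
    Curves.Splits k A k' ↔ ∃ (B : CSA.{u, u} k) (_ : k' →ₐ[k] B), IsBrauerEquivalent A B ∧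
      Module.finrank k B = Module.finrank k k' ^ 2 := by
  constructor
  · intro h
    obtain ⟨D, _, _, _, _, a, j, ha, hj, e, φ, hdim⟩ :=
      Groth.Agent.CurvesA.SplitEmbed.exists_embed k k' A h
    let B : CSA.{u, u} k := { toAlgCat := AlgCat.of k (Matrix (Fin j) (Fin j) D)
                              isCentral := inferInstanceAs (Algebra.IsCentral k (Matrix (Fin j) (Fin j) D))
                              isSimple := inferInstanceAs (IsSimpleRing (Matrix (Fin j) (Fin j) D))
                              fin_dim := inferInstanceAs (FiniteDimensional k (Matrix (Fin j) (Fin j) D)) }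
    refine ⟨B, φ, ⟨j, a, hj.out, ha.out, ⟨?_⟩⟩, hdim⟩
    exact (e.mapMatrix (m := Fin j)).trans <|
      (Matrix.compAlgEquiv (Fin j) (Fin a) D k).trans <|
      (Matrix.reindexAlgEquiv k D (Equiv.prodComm (Fin j) (Fin a))).trans <|
      (Matrix.compAlgEquiv (Fin a) (Fin j) D k).symm
  · rintro ⟨B, φ, ⟨n, m, hn, hm, ⟨e⟩⟩, hdim⟩
    have h1 : Curves.Splits k B k' :=
      Groth.Agent.CurvesA.Splitting.splits_of_subfield k k' B φ hdim
    have h2 := Groth.Agent.CurvesA.Splitting.splits_matrix_of_splits k k' B m hm h1
    have h3 := Groth.Agent.CurvesA.Splitting.splits_congr k k' e.symm h2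
    exact Groth.Agent.CurvesA.Splitting.splits_of_splits_matrix k k' A n hn h3

end Groth.Agent.S0195
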