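import Groth.Statements.S0196
import Groth.Agent.S0188

set_option autoImplicit false
universe u v w
open scoped TensorProduct
open Curves

namespace Groth.Agent.S0196

/-- A commutative finite-dimensional subalgebra of a division ring is simple. -/
theorem simple_of_comm (k : Type u) [Field k]
    (D : Type v) [DivisionRing D] [Algebra k D] [FiniteDimensional k D]
    (L : Subalgebra k D) : IsSimpleRing L := by
  apply IsSimpleRing.of_eq_bot_or_eq_top
  intro I
  by_cases hI : I = ⊥
  · exact Or.inl hI
  · right
    obtain ⟨x, hx, hx0⟩ := SetLike.exists_of_lt (bot_lt_iff_ne_bot.mpr hI : ⊥ < I)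
    have hx0' : (x : D) ≠ 0 := by
      intro h
      apply hx0
      have : x = 0 := Subtype.ext h
      rw [this]; exact TwoSidedIdeal.zero_mem _
    have hinj : Function.Injective (LinearMap.mulLeft k x) := by
      intro a b hab
      have h1 : (x : D) * a = x * b := congrArg Subtype.val hab
      exact Subtype.ext (mul_left_cancel₀ hx0' h1)
    obtain ⟨y, hy⟩ := LinearMap.injective_iff_surjective.1 hinj 1
    rw [← TwoSidedIdeal.one_mem_iff]
    rw [← hy]
    exact I.mul_mem_right _ _ hx


/-- Stacks Tag 074W (brauer): in a finite central skew field D over k, a maximal commutative k-subalgebra L satisfies dim D = (dim L)^2. -/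
theorem result (k : Type u) [Field k]
    (D : Type v) [DivisionRing D] [Algebra k D] [Algebra.IsCentral k D] [FiniteDimensional k D]
    (L : Subalgebra k D) (hcomm : ∀ x ∈ L, ∀ y ∈ L, x * y = y * x)
    (hmax : ∀ L' : Subalgebra k D, (∀ x ∈ L', ∀ y ∈ L', x * y = y * x) → L ≤ L' → L' = L) :
    Module.finrank k D = Module.finrank k L ^ 2 := by
  have hs := simple_of_comm k D L
  have h1 := Groth.Agent.S0188.result k D L
  have hle : L ≤ Subalgebra.centralizer k (L : Set D) := by
    intro x hx
    rw [Subalgebra.mem_centralizer_iff]
    intro y hy
    exact hcomm y hy x hx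
  have hge : Subalgebra.centralizer k (L : Set D) ≤ L := by
    intro x hx
    rw [Subalgebra.mem_centralizer_iff] at hx
    have key : ∀ a ∈ insert x (L : Set D), ∀ b ∈ insert x (L : Set D), a * b = b * a := by
      rintro a (rfl | ha) b (rfl | hb)
      · rfl
      · exact (hx b hb).symm
      · exact hx a ha
      · exact hcomm a ha b hb
    have hc := Algebra.adjoin_le_centralizer_centralizer k (insert x (L : Set D))
    have h2 := hmax (Algebra.adjoin k (insert x (L : Set D))) ?_ ?_
    · rw [← h2]
      exact Algebra.subset_adjoin (Set.mem_insert _ _)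
    · intro a ha b hb
      have hb' : b ∈ Subalgebra.centralizer k (insert x (L : Set D)) := by
        have h3 : Algebra.adjoin k (insert x (L : Set D)) ≤
            Subalgebra.centralizer k (insert x (L : Set D)) := by
          rw [Algebra.adjoin_le_iff]
          intro c hc
          rw [SetLike.mem_coe, Subalgebra.mem_centralizer_iff]
          intro d hd
          exact key d hd c hc
        exact h3 hb
      have ha' := hc ha
      rw [Subalgebra.mem_centralizer_iff] at ha'
      exact (ha' b hb').symm
    · intro a ha
      exact Algebra.subset_adjoin (Set.mem_insert_of_mem _ ha)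
  have heq : Subalgebra.centralizer k (L : Set D) = L := le_antisymm hge hle
  rw [heq] at h1
  rw [h1, sq]

end Groth.Agent.S0196
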