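import Groth.Statements.S0197
import Groth.Agent.CurvesA.SplitEmbed

set_option autoImplicit false
universe u v w
open scoped TensorProduct
open Curves

namespace Groth.Agent.S0197

/-- Stacks Tag 0751 (brauer): if a finite central skew field D has dimension d^2, the degree of any finite splitting field of D is divisible by d. -/
theorem result (k : Type u) [Field k]
    (D : Type u) [DivisionRing D] [Algebra k D] [Algebra.IsCentral k D] [FiniteDimensional k D]
    (d : ℕ) (hd : Module.finrank k D = d ^ 2)
    (k' : Type u) [Field k'] [Algebra k k'] [FiniteDimensional k k'] (hs : Curves.Splits k D k') :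
    d ∣ Module.finrank k k' := by
  obtain ⟨D', _, _, _, _, a, j, ha, hj, e, φ, hdim⟩ :=
    Groth.Agent.CurvesA.SplitEmbed.exists_embed k k' D hs
  have : NeZero (1 : ℕ) := ⟨one_ne_zero⟩
  let e1 : D ≃ₐ[k] Matrix (Fin 1) (Fin 1) D := AlgEquiv.ofBijective
    (Matrix.scalarAlgHom (Fin 1) k) ⟨by
      intro a b hab
      have := congrFun (congrFun hab 0) 0
      simpa using this, by
      intro M
      refine ⟨M 0 0, ?_⟩
      ext i j
      simp [Subsingleton.elim i 0, Subsingleton.elim j 0]⟩
  obtain ⟨f⟩ := Groth.Agent.CurvesA.MatrixDiv.nonempty_algEquiv D 1 k D' a (e1.symm.trans e)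
  rw [Module.finrank_matrix, ← f.toLinearEquiv.finrank_eq, hd] at hdim
  have h2 : (Module.finrank k k') ^ 2 = (j * d) ^ 2 := by
    rw [← hdim]
    simp only [Fintype.card_fin]
    ring
  have h3 : Module.finrank k k' = j * d := Nat.pow_left_injective two_ne_zero h2
  exact ⟨j, by rw [h3, mul_comm]⟩

end Groth.Agent.S0197
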