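import Groth.Statements.S0202
import Groth.Agent.CurvesA.AICGlue
import Groth.Agent.CurvesA.UpTop
import Groth.Agent.CurvesA.ClosedLC
import Groth.Agent.Flat2E.AIC1

set_option autoImplicit false
universe u
open CategoryTheory CategoryTheory.Limits AlgebraicGeometry
open Curves

namespace Groth.Agent.S0202

open Groth.Agent.CurvesA Groth.Agent.Flat2E

/-- an absolutely integrally closed local ring is strictly henselian. -/
theorem isStrictlyHenselian {L : Type u} [CommRing L] [IsLocalRing L] (h : AIC1.IsAIC L) :
    EtCoh.IsStrictlyHenselianLocalRing L := by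
  refine ⟨{ is_henselian := ?_ }, ?_⟩
  · intro f hf a₀ h1 h2
    obtain ⟨s, hs⟩ := h.splits f hf
    rw [hs, Polynomial.eval_multiset_prod, Multiset.map_map] at h1
    obtain ⟨y, hy, hy2⟩ := ((IsLocalRing.maximalIdeal.isMaximal L).isPrime.multiset_prod_mem_iff_exists_mem
      _).1 h1
    rw [Multiset.mem_map] at hy
    obtain ⟨a, ha, rfl⟩ := hy
    refine ⟨a, ?_, ?_⟩
    · rw [hs]
      refine Polynomial.dvd_iff_isRoot.1 (Multiset.dvd_prod (Multiset.mem_map_of_mem _ ha))
    · have h3 : a₀ - a ∈ IsLocalRing.maximalIdeal L := by simpa using hy2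
      rw [← neg_sub]
      exact neg_mem h3
  · have h1 : AIC1.IsAIC (IsLocalRing.ResidueField L) :=
      h.of_surjective (IsLocalRing.residue L) IsLocalRing.residue_surjective
    have : IsAlgClosed (IsLocalRing.ResidueField L) := by
      refine IsAlgClosed.of_exists_root _ fun p hp hirr => ?_
      exact h1 p hp hirr.natDegree_pos.ne'
    infer_instance

theorem isStrictlyHenselian_stalk (R : Type u) [CommRing R] (hR : Curves.IsAIC R)
    (x : Spec (CommRingCat.of R)) :
    EtCoh.IsStrictlyHenselianLocalRing ((Spec (CommRingCat.of R)).presheaf.stalk x) := by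
  have h1 : AIC1.IsAIC R := fun f hf hn => hR f hf (Nat.pos_of_ne_zero hn)
  refine isStrictlyHenselian ?_
  let A : Type u := (Spec (CommRingCat.of R)).presheaf.stalk x
  let _ : Algebra R A := StructureSheaf.stalkAlgebra R x
  have : IsLocalization x.asIdeal.primeCompl A := StructureSheaf.IsLocalization.to_stalk R x
  exact h1.of_isLocalization x.asIdeal.primeCompl

theorem diff_up {Y : Type u} [TopologicalSpace Y] {M : Type} [AddCommGroup M]
    (h : AICGlue.DiffProp Y M) : ClosedLC.Diff (UpTop.up Y) (ULift.{u + 1} M) := by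
  intro A B cA cB c
  let upm : C(Y, UpTop.up Y) := ⟨ULift.up, continuous_uliftUp⟩
  obtain ⟨a, b, e⟩ := h (ULift.up ⁻¹' A) (ULift.up ⁻¹' B) (cA.preimage continuous_uliftUp)
    (cB.preimage continuous_uliftUp)
    ((c.map ULift.down).comap ⟨fun y => ⟨ULift.up y.1, y.2, trivial⟩,
      (continuous_uliftUp.comp continuous_subtype_val).subtype_mk _⟩)
  refine ⟨(a.map ULift.up).comap ⟨fun x => ⟨x.1.down, x.2.1⟩,
      (continuous_uliftDown.comp continuous_subtype_val).subtype_mk _⟩,
    (b.map ULift.up).comap ⟨fun x => ⟨x.1.down, x.2.1⟩,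
      (continuous_uliftDown.comp continuous_subtype_val).subtype_mk _⟩, ?_⟩
  refine ClosedLC.sect_ext fun x hx hU => ?_
  exact congrArg ULift.up (e x.down hx.1 hx.2)

/-- Stacks Tag 0GY7 (etale-cohomology): over the spectrum of an absolutely integrally closed ring, constant sheaves with finite value group have no higher étale cohomology. Absolutely integrally closed is taken as: every monic of positive degree has a root (Stacks 0DCK/0DCL). -/
theorem result (R : Type u) [CommRing R] (hR : Curves.IsAIC R)
    (M : Type) [AddCommGroup M] [Finite M] (i : ℕ) (hi : 0 < i) :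
    Subsingleton (EtCoh.H (Spec (CommRingCat.of R)) (EtCoh.const (Spec (CommRingCat.of R)) M) i) := by
  obtain ⟨q, rfl⟩ : ∃ q, i = q + 1 := ⟨i - 1, by omega⟩
  let X : Scheme.{u} := Spec (CommRingCat.of R)
  have h1 : CompactSpace X := inferInstance
  have h2 : PrespectralSpace X := inferInstance
  have h3 : QuasiSeparatedSpace X := inferInstance
  have h1' : CompactSpace (UpTop.up X) := inferInstance
  have h2' : PrespectralSpace (UpTop.up X) :=
    .of_isClosedEmbedding _ (Homeomorph.ulift.{u + 1} (X := X)).isClosedEmbedding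
  have h3' : QuasiSeparatedSpace (UpTop.up X) :=
    .of_isOpenEmbedding (Homeomorph.ulift.{u + 1} (X := X)).isOpenEmbedding
  have hD : ClosedLC.Diff (UpTop.up X) (ULift.{u + 1} M) := diff_up (Y := X) (AICGlue.diffProp hR M)
  have h4 := ClosedLC.subsingleton_H_const hD q
  obtain ⟨e⟩ := UpTop.nonempty_H_const X (isStrictlyHenselian_stalk R hR)
    (AddCommGrpCat.of (ULift.{u + 1} M)) (q + 1)
  exact e.toEquiv.subsingleton

end Groth.Agent.S0202
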