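import Groth.Statements.S0207
import Groth.Agent.CurvesA.ArtinSchreier
import Groth.Agent.S0110
import Groth.Agent.S0469

set_option autoImplicit false
universe u
open CategoryTheory CategoryTheory.Limits AlgebraicGeometry
open Curves

namespace Groth.Agent.S0207

/-- Stacks Tag 0A3K (etale-cohomology): on a quasi-compact quasi-separated scheme of dimension d on which the prime p is zero, étale cohomology with Z/p coefficients vanishes from degree d+2 on. -/
theorem result (p : ℕ) [Fact p.Prime] (S : Scheme.{u}) [CompactSpace S] [QuasiSeparatedSpace S]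
    (hp : (p : Γ(S, ⊤)) = 0) (d : ℕ) (hd : topologicalKrullDim S = d) (q : ℕ) (hq : 2 + d ≤ q) :
    Subsingleton (EtCoh.H S (EtCoh.const S (ZMod p)) q) := by
  have hsp : SpectralSpace S := {}
  have key : ∀ n : ℕ, d < n → Subsingleton (EtCoh.H S (EtCoh.Ga S) n) := by
    intro n hn
    obtain ⟨e⟩ := Groth.Agent.S0110.result S n
    have : Subsingleton (Coh.HH S (Coh.structureModule S) n) :=
      Groth.Agent.S0469.result (X := S.carrier) d hd.le (Coh.toAb (Coh.structureModule S)) n hn
    exact e.toEquiv.subsingleton
  obtain ⟨n, rfl⟩ : ∃ n, q = n + 1 := ⟨q - 1, by omega⟩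
  exact Groth.Agent.CurvesA.ArtinSchreier.subsingleton_H_of_subsingleton S p hp n
    (key _ (by omega)) (key _ (by omega))

end Groth.Agent.S0207
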