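import Groth.Statements.S0215
import Groth.Agent.CurvesA.UnitThm
import Groth.Agent.CurvesA.TwoAffGeom
-- import your own Groth.Agent.* helpers here

set_option autoImplicit false
universe u
open CategoryTheory CategoryTheory.Limits AlgebraicGeometry TopologicalSpace
open Curves

namespace Groth.Agent.S0215

open Groth.Agent.CurvesA.TwoAffGeom Groth.Agent.CurvesA.UnitThm

/-- A quotient of a commutative group by a subgroup containing the kernel of a homomorphism to a
finite product of copies of `ℤ` is finitely generated. -/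
theorem fg_of_hom {V G : Type*} [CommGroup V] [hV : Group.FG V] [CommGroup G] (Φ : G →* V)
    (N : Subgroup G) (hN : Φ.ker ≤ N) : Group.FG (G ⧸ N) := by
  -- the range is finitely generated
  have hr : Group.FG Φ.range := by
    have h1 : AddGroup.FG (Additive V) := inferInstance
    have h2 : Module.Finite ℤ (Additive V) := Module.Finite.iff_addGroup_fg.mpr h1
    have h3 : IsNoetherian ℤ (Additive V) := inferInstance
    rw [Group.fg_iff_subgroup_fg, Subgroup.fg_iff_add_fg]
    have h4 := h3.noetherian (AddSubgroup.toIntSubmodule Φ.range.toAddSubgroup)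
    rw [Submodule.fg_iff_addSubgroup_fg] at h4
    exact h4
  -- and surjects onto the quotient
  let e : G ⧸ Φ.ker ≃* Φ.range := QuotientGroup.quotientKerEquivRange Φ
  have h1 : Group.FG (G ⧸ Φ.ker) :=
    Group.fg_of_surjective (f := e.symm.toMonoidHom) e.symm.surjective
  let q : G ⧸ Φ.ker →* G ⧸ N := QuotientGroup.map Φ.ker N (MonoidHom.id G) hN
  refine Group.fg_of_surjective (f := q) ?_
  intro x
  obtain ⟨g, rfl⟩ := QuotientGroup.mk_surjective x
  exact ⟨QuotientGroup.mk g, rfl⟩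

open Polynomial in
/-- Stacks Tag 04L7 (varieties): for a connected reduced scheme locally of finite type over a field k with finitely many irreducible components, in which every global function integral over k is a constant, the group of invertible global functions modulo nonzero constants is finitely generated. -/
theorem result (k : Type u) [Field k] (X : Scheme.{u}) (f : X ⟶ Spec (CommRingCat.of k))
    [LocallyOfFiniteType f] [IsReduced X] [ConnectedSpace X] (hirr : (irreducibleComponents (X : Type u)).Finite)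
    (hint : ∀ x : Γ(X, ⊤), (f.appTop.hom.comp (Scheme.ΓSpecIso (CommRingCat.of k)).inv.hom).IsIntegralElem x →
      x ∈ Set.range (f.appTop.hom.comp (Scheme.ΓSpecIso (CommRingCat.of k)).inv.hom)) :
    Group.FG ((Γ(X, ⊤))ˣ ⧸ (Units.map ((f.appTop.hom.comp (Scheme.ΓSpecIso (CommRingCat.of k)).inv.hom : k →+* Γ(X, ⊤)) : k →* Γ(X, ⊤))).range) := by
  let ρ : k →+* Γ(X, ⊤) := f.appTop.hom.comp (Scheme.ΓSpecIso (CommRingCat.of k)).inv.hom
  let ι := irreducibleComponents (X : Type u)
  have hfinι : Finite ι := hirr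
  have := Fintype.ofFinite ι
  -- generic points
  have hη : ∀ Z : ι, ∃ z : X, IsGenericPoint z (Z : Set X) := fun Z =>
    QuasiSober.sober Z.2.1
      (isClosed_of_mem_irreducibleComponents _ Z.2)
  choose η hη using hη
  have hU : ∀ Z : ι, ∃ U : X.Opens, IsAffineOpen U ∧ η Z ∈ U := by
    intro Z
    obtain ⟨U, hU, hyU, -⟩ :=
      exists_isAffineOpen_mem_and_subset (X := X) (x := η Z) (U := ⊤) trivial
    exact ⟨U, hU, hyU⟩
  choose U hU hηU using hU
  let R : ι → Type u := fun Z => Γ(X, U Z) ⧸ ptI (U Z) (η Z) (hηU Z)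
  let res : ∀ Z, Γ(X, ⊤) →+* Γ(X, U Z) := fun Z => (X.presheaf.map (homOfLE le_top).op).hom
  let ψ : ∀ Z, Γ(X, ⊤) →+* R Z := fun Z => (Ideal.Quotient.mk _).comp (res Z)
  have hzero : ∀ u : Γ(X, ⊤), (∀ Z, ψ Z u = 0) → u = 0 := by
    intro u hu
    rw [← basicOpen_eq_bot_iff]
    apply SetLike.coe_injective
    rw [Opens.coe_bot, Set.eq_empty_iff_forall_notMem]
    intro z hz
    obtain ⟨Z, hZ, hzZ⟩ := exists_mem_irreducibleComponents_subset_of_isIrreducible {z}
      isIrreducible_singleton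
    have h1 : η ⟨Z, hZ⟩ ⤳ z := (hη ⟨Z, hZ⟩).specializes (hzZ rfl)
    have h2 : η ⟨Z, hZ⟩ ∈ X.basicOpen u := h1.mem_open (X.basicOpen u).isOpen hz
    have h3 := hu ⟨Z, hZ⟩
    change Ideal.Quotient.mk _ (res ⟨Z, hZ⟩ u) = 0 at h3
    rw [Ideal.Quotient.eq_zero_iff_mem, ← Ideal.mem_comap, comap_ptI le_top, mem_ptI] at h3
    exact h3 h2
  let alg : ∀ Z, Algebra k (R Z) := fun Z => ((ψ Z).comp ρ).toAlgebra
  have hft : ∀ Z, Algebra.FiniteType k (R Z) := by
    intro Z
    have h1 := f.finiteType_appLE (isAffineOpen_top _) (hU Z) le_top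
    have h2 : (Scheme.ΓSpecIso (CommRingCat.of k)).inv.hom.FiniteType :=
      RingHom.FiniteType.of_surjective _
        (ConcreteCategory.bijective_of_isIso (Scheme.ΓSpecIso (CommRingCat.of k)).inv).2
    have h3 := h1.comp h2
    have h4 : (Ideal.Quotient.mk (ptI (U Z) (η Z) (hηU Z))).FiniteType :=
      RingHom.FiniteType.of_surjective _ Ideal.Quotient.mk_surjective
    have h5 := h4.comp h3
    exact h5
  have hex : ∀ Z, ∃ (n : ℕ) (φ : (R Z)ˣ →* (Fin n → Multiplicative ℤ)),
      ∀ u, φ u = 1 → IsIntegral k (u : R Z) := fun Z => exists_hom k (R Z)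
  choose n φ hφ using hex
  let Φ : Γ(X, ⊤)ˣ →* (∀ Z, Fin (n Z) → Multiplicative ℤ) :=
    MonoidHom.pi fun Z => (φ Z).comp (Units.map (ψ Z : Γ(X, ⊤) →* R Z))
  refine fg_of_hom Φ _ ?_
  intro u hu
  rw [MonoidHom.mem_ker] at hu
  have hu' : ∀ Z, IsIntegral k (ψ Z (u : Γ(X, ⊤))) := by
    intro Z
    refine hφ Z (Units.map (ψ Z : Γ(X, ⊤) →* R Z) u) ?_
    exact congrFun hu Z
  -- `u` is integral over `k`
  have hint' : ρ.IsIntegralElem (u : Γ(X, ⊤)) := by
    refine ⟨∏ Z : ι, minpoly k (ψ Z (u : Γ(X, ⊤))),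
      monic_prod_of_monic _ _ fun Z _ => minpoly.monic (hu' Z), ?_⟩
    apply hzero
    intro Z
    rw [hom_eval₂]
    have h1 : eval₂ ((ψ Z).comp ρ) (ψ Z (u : Γ(X, ⊤))) (minpoly k (ψ Z (u : Γ(X, ⊤)))) = 0 :=
      minpoly.aeval k (ψ Z (u : Γ(X, ⊤)))
    have h2 : minpoly k (ψ Z (u : Γ(X, ⊤))) ∣ ∏ Z : ι, minpoly k (ψ Z (u : Γ(X, ⊤))) :=
      Finset.dvd_prod_of_mem _ (Finset.mem_univ Z)
    exact eval₂_eq_zero_of_dvd_of_eval₂_eq_zero _ _ h2 h1
  obtain ⟨c, hc⟩ := hint _ hint'
  obtain ⟨x₀⟩ : Nonempty X := inferInstance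
  have hne : Nonempty (⊤ : X.Opens) := ⟨⟨x₀, trivial⟩⟩
  have hnt : Nontrivial Γ(X, ⊤) := inferInstance
  have hc0 : c ≠ 0 := by
    rintro rfl
    rw [map_zero] at hc
    exact u.ne_zero hc.symm
  refine ⟨Units.mk0 c hc0, ?_⟩
  ext
  exact hc

end Groth.Agent.S0215
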