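import Groth.Statements.S0216
import Groth.Agent.CurvesA.IntElemAlg
import Mathlib.RingTheory.Spectrum.Prime.ConstructibleSet
-- import your own Groth.Agent.* helpers here

set_option autoImplicit false
universe u
open CategoryTheory CategoryTheory.Limits AlgebraicGeometry TopologicalSpace
open Curves

namespace Groth.Agent.S0216

open Polynomial in
/-- The locus where `m(x) ≠ 0` is closed, for `m` irreducible. -/
theorem isClosed_basicOpen {k₁ k R : Type*} [Field k₁] [Field k] [CommRing R]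
    [Algebra k R] [Algebra.FiniteType k R] (g : k₁ →+* R) (x : R) (hx : g.IsIntegralElem x)
    (m : k[X]) (hm : Irreducible m) :
    IsClosed ((PrimeSpectrum.basicOpen (aeval x m) : Opens (PrimeSpectrum R)) :
      Set (PrimeSpectrum R)) := by
  refine PrimeSpectrum.isClosed_of_stableUnderSpecialization_of_isConstructible ?_
    PrimeSpectrum.isConstructible_basicOpen
  intro p q hpq hp
  rw [← PrimeSpectrum.le_iff_specializes] at hpq
  simp only [SetLike.mem_coe, PrimeSpectrum.mem_basicOpen] at hp ⊢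
  intro hq
  apply hp
  have halg : IsAlgebraic k (Ideal.Quotient.mk p.asIdeal x) := by
    refine Groth.Agent.CurvesA.IntElemAlg.isAlgebraic_of_isIntegralElem
      ((Ideal.Quotient.mk p.asIdeal).comp g) _ ?_
    obtain ⟨P, hP, hPx⟩ := hx
    refine ⟨P, hP, ?_⟩
    rw [← hom_eval₂, hPx, map_zero]
  have hint : IsIntegral k (Ideal.Quotient.mk p.asIdeal x) := halg.isIntegral
  set μ := minpoly k (Ideal.Quotient.mk p.asIdeal x) with hμdef
  have hμirr : Irreducible μ := minpoly.irreducible hint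
  have hcomp : ∀ P : k[X], Ideal.Quotient.mk p.asIdeal (aeval x P) =
      aeval (Ideal.Quotient.mk p.asIdeal x) P := fun P =>
    (aeval_algHom_apply (Ideal.Quotient.mkₐ k p.asIdeal) x P).symm
  have hμ' : aeval x μ ∈ p.asIdeal := by
    rw [← Ideal.Quotient.eq_zero_iff_mem, hcomp, hμdef, minpoly.aeval]
  rw [← Ideal.Quotient.eq_zero_iff_mem, hcomp, ← minpoly.dvd_iff, ← hμdef]
  by_cases hdvd : m ∣ μ
  · exact (hm.associated_of_dvd hμirr hdvd).symm.dvd
  · exfalso
    obtain ⟨A, B, hAB⟩ := (hm.coprime_iff_not_dvd).mpr hdvd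
    refine q.isPrime.ne_top ((Ideal.eq_top_iff_one _).mpr ?_)
    have h1 : aeval x (A * m + B * μ) = (1 : R) := by rw [hAB, map_one]
    rw [← h1, map_add, map_mul, map_mul]
    exact Ideal.add_mem _ (Ideal.mul_mem_left _ _ hq) (Ideal.mul_mem_left _ _ (hpq hμ'))

open Polynomial in
theorem aux (X : Scheme.{u}) [IsReduced X] [ConnectedSpace X]
    (k₁ k₂ : Type u) [Field k₁] [Field k₂]
    (a : X ⟶ Spec (CommRingCat.of k₁)) (b : X ⟶ Spec (CommRingCat.of k₂))
    [LocallyOfFiniteType b] (x : Coh.Γtop X)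
    (hx : (Coh.toGlobal a).IsIntegralElem x) : (Coh.toGlobal b).IsIntegralElem x := by
  let α : k₁ →+* Γ(X, ⊤) := Coh.toGlobal a
  let β : k₂ →+* Γ(X, ⊤) := Coh.toGlobal b
  let x' : Γ(X, ⊤) := x
  have hx' : α.IsIntegralElem x' := hx
  -- restriction to affine opens
  let ρ : ∀ U : X.Opens, Γ(X, ⊤) →+* Γ(X, U) := fun U => (X.presheaf.map (homOfLE le_top).op).hom
  have hpre : ∀ (U : X.Opens) (hU : IsAffineOpen U) (f : Γ(X, ⊤)),
      hU.fromSpec ⁻¹ᵁ (X.basicOpen f) = PrimeSpectrum.basicOpen (ρ U f) := by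
    intro U hU f
    rw [← hU.fromSpec_preimage_basicOpen]
    have h1 : X.basicOpen (ρ U f) = U ⊓ X.basicOpen f := X.basicOpen_res f (homOfLE le_top).op
    rw [h1]
    change _ = hU.fromSpec ⁻¹ᵁ U ⊓ hU.fromSpec ⁻¹ᵁ (X.basicOpen f)
    rw [hU.fromSpec_preimage_self, top_inf_eq]
  have hft : ∀ (U : X.Opens) (hU : IsAffineOpen U), ((ρ U).comp β).FiniteType := by
    intro U hU
    have h1 := b.finiteType_appLE (isAffineOpen_top _) hU le_top
    have h2 : (Scheme.ΓSpecIso (CommRingCat.of k₂)).inv.hom.FiniteType :=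
      RingHom.FiniteType.of_surjective _
        (ConcreteCategory.bijective_of_isIso (Scheme.ΓSpecIso (CommRingCat.of k₂)).inv).2
    have h3 := h1.comp h2
    exact h3
  -- the local statement
  have hcl : ∀ (U : X.Opens) (hU : IsAffineOpen U) (m : k₂[X]), Irreducible m →
      IsClosed ((PrimeSpectrum.basicOpen (ρ U (m.eval₂ β x')) : Opens (PrimeSpectrum Γ(X, U))) :
        Set (PrimeSpectrum Γ(X, U))) := by
    intro U hU m hm
    let : Algebra k₂ Γ(X, U) := ((ρ U).comp β).toAlgebra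
    have : Algebra.FiniteType k₂ Γ(X, U) := hft U hU
    have h1 := isClosed_basicOpen ((ρ U).comp α) (ρ U x') (by
      obtain ⟨P, hP, hPx⟩ := hx'
      refine ⟨P, hP, ?_⟩
      rw [← hom_eval₂, hPx, map_zero]) m hm
    rw [aeval_def] at h1
    rw [hom_eval₂]
    exact h1
  have hclX : ∀ (m : k₂[X]), Irreducible m →
      IsClosed ((X.basicOpen (m.eval₂ β x') : X.Opens) : Set X) := by
    intro m hm
    rw [TopologicalSpace.IsOpenCover.isClosed_iff_coe_preimage (iSup_affineOpens_eq_top X)]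
    rintro ⟨U, hU⟩
    have h1 := hcl U hU m hm
    rw [← hpre U hU] at h1
    have h2 : IsClosed ((hU.isoSpec.inv.homeomorph) ⁻¹' (U.ι ⁻¹' (X.basicOpen (m.eval₂ β x') : Set X))) := h1
    rw [Homeomorph.isClosed_preimage] at h2
    exact h2
  obtain ⟨y⟩ : Nonempty X := inferInstance
  obtain ⟨U, hU, hyU, -⟩ := exists_isAffineOpen_mem_and_subset (X := X) (x := y) (U := ⊤) trivial
  let y' : PrimeSpectrum Γ(X, U) := hU.isoSpec.hom ⟨y, hyU⟩
  let : Algebra k₂ Γ(X, U) := ((ρ U).comp β).toAlgebra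
  have : Algebra.FiniteType k₂ Γ(X, U) := hft U hU
  have halg : IsAlgebraic k₂ (Ideal.Quotient.mk y'.asIdeal (ρ U x')) := by
    refine Groth.Agent.CurvesA.IntElemAlg.isAlgebraic_of_isIntegralElem
      (((Ideal.Quotient.mk y'.asIdeal).comp (ρ U)).comp α) _ ?_
    obtain ⟨P, hP, hPx⟩ := hx'
    refine ⟨P, hP, ?_⟩
    rw [RingHom.comp_assoc, ← hom_eval₂, ← hom_eval₂, hPx, map_zero, map_zero]
  have hint : IsIntegral k₂ (Ideal.Quotient.mk y'.asIdeal (ρ U x')) := halg.isIntegral
  set m := minpoly k₂ (Ideal.Quotient.mk y'.asIdeal (ρ U x')) with hm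
  have hmirr : Irreducible m := minpoly.irreducible hint
  have hclopen : IsClopen ((X.basicOpen (m.eval₂ β x') : X.Opens) : Set X) :=
    ⟨hclX m hmirr, (X.basicOpen _).isOpen⟩
  have hy : y' ∉ (PrimeSpectrum.basicOpen (ρ U (m.eval₂ β x')) : Opens (PrimeSpectrum Γ(X, U))) := by
    rw [PrimeSpectrum.mem_basicOpen, not_not, ← Ideal.Quotient.eq_zero_iff_mem, hom_eval₂]
    have h1 : aeval (Ideal.Quotient.mk y'.asIdeal (ρ U x')) m = 0 := by rw [hm, minpoly.aeval]
    rw [← h1]
    exact (aeval_algHom_apply (Ideal.Quotient.mkₐ k₂ y'.asIdeal) (ρ U x') m).symm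
  rw [← hpre U hU] at hy
  have hempty : ((X.basicOpen (m.eval₂ β x') : X.Opens) : Set X) = ∅ := by
    rcases isClopen_iff.mp hclopen with h | h
    · exact h
    · exfalso
      apply hy
      change hU.fromSpec y' ∈ ((X.basicOpen (m.eval₂ β x') : X.Opens) : Set X)
      rw [h]
      trivial
  have hzero : m.eval₂ β x' = 0 := by
    rw [← basicOpen_eq_bot_iff]
    exact SetLike.coe_injective hempty
  exact ⟨m, minpoly.monic hint, hzero⟩

/-- Stacks Tag 04MK (varieties): if a connected reduced scheme is locally of finite type over two fields k₁ and k₂, then a global function is integral over k₁ exactly when it is integral over k₂ (the integral closures of the two base fields in the global functions coincide). -/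
theorem result (X : Scheme.{u}) [IsReduced X] [ConnectedSpace X]
    (k₁ k₂ : Type u) [Field k₁] [Field k₂]
    (a : X ⟶ Spec (CommRingCat.of k₁)) (b : X ⟶ Spec (CommRingCat.of k₂))
    [LocallyOfFiniteType a] [LocallyOfFiniteType b] (x : Coh.Γtop X) :
    (Coh.toGlobal a).IsIntegralElem x ↔ (Coh.toGlobal b).IsIntegralElem x := 
  ⟨fun h => aux X k₁ k₂ a b x h, fun h => aux X k₂ k₁ b a x h⟩

end Groth.Agent.S0216
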