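import Groth.Statements.S0218
import Mathlib.RingTheory.Jacobson.Ring
import Mathlib.RingTheory.Jacobson.Artinian
import Mathlib.Algebra.DualNumber
import Mathlib.FieldTheory.IsAlgClosed.Basic

set_option autoImplicit false
universe u
open Curves

namespace Groth.Agent.S0218

/-- The subalgebra `k + J` for an ideal `J`. -/
def kAddIdeal (k : Type u) [Field k] (A : Type u) [CommRing A] [Algebra k A] (J : Ideal A) :
    Subalgebra k A where
  carrier := {a | ∃ c : k, a - algebraMap k A c ∈ J}
  mul_mem' := by
    rintro a b ⟨c, hc⟩ ⟨d, hd⟩
    refine ⟨c * d, ?_⟩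
    rw [map_mul]
    have : a * b - algebraMap k A c * algebraMap k A d =
      (a - algebraMap k A c) * b + algebraMap k A c * (b - algebraMap k A d) := by ring
    rw [this]
    exact J.add_mem (J.mul_mem_right _ hc) (J.mul_mem_left _ hd)
  add_mem' := by
    rintro a b ⟨c, hc⟩ ⟨d, hd⟩
    refine ⟨c + d, ?_⟩
    rw [map_add]
    have : a + b - (algebraMap k A c + algebraMap k A d) =
      (a - algebraMap k A c) + (b - algebraMap k A d) := by ring
    rw [this]
    exact J.add_mem hc hd
  algebraMap_mem' := by
    intro r
    exact ⟨r, by simp⟩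

lemma mem_kAddIdeal (k : Type u) [Field k] (A : Type u) [CommRing A] [Algebra k A] (J : Ideal A) (a : A) :
    a ∈ kAddIdeal k A J ↔ ∃ c : k, a - algebraMap k A c ∈ J := Iff.rfl

/-- Stacks Tag 0C1I (curves): over an algebraically closed field k, a commutative k-algebra with exactly two k-subalgebras is isomorphic to k × k or to the dual numbers over k. -/
theorem result (k : Type u) [Field k] [IsAlgClosed k] (A : Type u) [CommRing A] [Algebra k A]
    (h : Nat.card (Subalgebra k A) = 2) :
    Nonempty (A ≃ₐ[k] (k × k)) ∨ Nonempty (A ≃ₐ[k] DualNumber k) := by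
  classical
  have hne : (⊥ : Subalgebra k A) ≠ ⊤ := by
    intro hbt
    have : Subsingleton (Subalgebra k A) := subsingleton_of_bot_eq_top hbt
    rw [Nat.card_of_subsingleton ⊥] at h
    omega
  have hall : ∀ S : Subalgebra k A, S = ⊥ ∨ S = ⊤ := by
    obtain ⟨x, y, hxy, hu⟩ := Nat.card_eq_two_iff.mp h
    intro S
    have hS : S ∈ ({x, y} : Set (Subalgebra k A)) := hu ▸ Set.mem_univ S
    have hb : ⊥ ∈ ({x, y} : Set (Subalgebra k A)) := hu ▸ Set.mem_univ _
    have ht : ⊤ ∈ ({x, y} : Set (Subalgebra k A)) := hu ▸ Set.mem_univ _
    simp only [Set.mem_insert_iff, Set.mem_singleton_iff] at hS hb ht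
    rcases hS with rfl | rfl <;> rcases hb with hb | hb <;> rcases ht with ht | ht <;>
      first
      | (left; rw [hb]; done)
      | (right; rw [ht]; done)
      | (exfalso; apply hne; rw [hb, ht])
  have hnt : Nontrivial A := by
    by_contra hA
    rw [not_nontrivial_iff_subsingleton] at hA
    apply hne
    ext x
    rw [Subsingleton.elim x 0]
    simp [Subalgebra.zero_mem]
  -- anything not in k generates
  have hgen : ∀ S : Subalgebra k A, ∀ b ∈ S, b ∉ (⊥ : Subalgebra k A) → S = ⊤ := by
    intro S b hb hb'
    rcases hall S with rfl | rfl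
    · exact absurd hb hb'
    · rfl
  obtain ⟨b, hbk, hbu⟩ : ∃ b : A, b ∉ (⊥ : Subalgebra k A) ∧ ¬ IsUnit b := by
    by_contra hcon
    push Not at hcon
    have hfield : IsField A := by
      refine ⟨exists_pair_ne A, mul_comm, ?_⟩
      intro a ha
      have hau : IsUnit a := by
        by_cases hak : a ∈ (⊥ : Subalgebra k A)
        · obtain ⟨c, rfl⟩ := Algebra.mem_bot.mp hak
          have hc : c ≠ 0 := by rintro rfl; simp at ha
          exact (isUnit_iff_ne_zero.mpr hc).map (algebraMap k A)
        · exact hcon a hak
      exact hau.exists_right_inv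
    obtain ⟨a, ha⟩ : ∃ a : A, a ∉ (⊥ : Subalgebra k A) := by
      by_contra hcon'
      push Not at hcon'
      apply hne
      rw [eq_top_iff]
      intro x _
      exact hcon' x
    have hft : Algebra.FiniteType k A := by
      refine ⟨⟨{a}, ?_⟩⟩
      apply hgen _ a _ ha
      exact Algebra.subset_adjoin (by simp)
    let _ := hfield.toField
    have hfin : Module.Finite k A := finite_of_finite_type_of_isJacobsonRing k A
    have hsurj := (IsAlgClosed.algebraMap_bijective_of_isIntegral (k := k) (K := A)).2
    obtain ⟨c, hc⟩ := hsurj a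
    exact ha (Algebra.mem_bot.mpr ⟨c, hc⟩)
  by_cases hb2 : b ^ 2 = 0
  · right
    let φ : DualNumber k →ₐ[k] A := DualNumber.lift ⟨(Algebra.ofId k A, b), by
      rw [← pow_two]; exact hb2, fun a => mul_comm _ _⟩
    have hφ : ∀ z, φ z = algebraMap k A z.fst + algebraMap k A z.snd * b := fun z =>
      DualNumber.lift_apply_apply _ z
    refine ⟨(AlgEquiv.ofBijective φ ⟨?_, ?_⟩).symm⟩
    · rw [injective_iff_map_eq_zero]
      intro z hz
      rw [hφ] at hz
      have h2 : z.snd = 0 := by
        by_contra h2
        apply hbk
        rw [Algebra.mem_bot]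
        refine ⟨- (z.snd)⁻¹ * z.fst, ?_⟩
        have h3 : algebraMap k A (z.snd)⁻¹ * algebraMap k A z.snd = 1 := by
          rw [← map_mul, inv_mul_cancel₀ h2, map_one]
        rw [map_mul, map_neg]
        linear_combination b * h3 - algebraMap k A (z.snd)⁻¹ * hz
      rw [h2, map_zero, zero_mul, add_zero] at hz
      have h1 : z.fst = 0 := by
        have := (algebraMap k A).injective (hz.trans (map_zero _).symm)
        exact this
      exact TrivSqZeroExt.ext h1 h2
    · rw [← AlgHom.range_eq_top]
      apply hgen _ b _ hbk
      exact ⟨DualNumber.eps, (hφ _).trans (by simp)⟩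
  · left
    have h1 : kAddIdeal k A (Ideal.span {b^2}) = ⊤ := by
      apply hgen _ (b^2)
      · rw [mem_kAddIdeal]
        refine ⟨0, ?_⟩
        simpa using Ideal.mem_span_singleton_self (b^2)
      · intro hb2k
        obtain ⟨c, hc⟩ := Algebra.mem_bot.mp hb2k
        have hc0 : c ≠ 0 := by
          rintro rfl
          apply hb2
          rw [← hc]; simp
        apply hbu
        have : IsUnit (b ^ 2) := by
          rw [← hc]
          exact (isUnit_iff_ne_zero.mpr hc0).map (algebraMap k A)
        rwa [isUnit_pow_iff (by norm_num)] at this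
    have hbm : b ∈ kAddIdeal k A (Ideal.span {b^2}) := by rw [h1]; exact Algebra.mem_top
    rw [mem_kAddIdeal] at hbm
    obtain ⟨c, hc⟩ := hbm
    obtain ⟨q, hq⟩ := Ideal.mem_span_singleton'.mp hc
    have hc0 : c = 0 := by
      by_contra hc0
      apply hbu
      have hcu : IsUnit (algebraMap k A c) := (isUnit_iff_ne_zero.mpr hc0).map (algebraMap k A)
      have : algebraMap k A c = b * (1 - b * q) := by
        linear_combination hq
      rw [this] at hcu
      exact isUnit_of_mul_isUnit_left hcu
    rw [hc0, map_zero, sub_zero] at hq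
    set e := b * q with he
    have hee : e * e = e := by
      rw [he]; linear_combination q * hq
    have heb : b * e = b := by
      rw [he]; linear_combination hq
    have hek : e ∉ (⊥ : Subalgebra k A) := by
      intro hek
      obtain ⟨d, hd⟩ := Algebra.mem_bot.mp hek
      rcases eq_or_ne d 0 with rfl | hd0
      · rw [map_zero] at hd
        rw [← hd, mul_zero] at heb
        exact hb2 (by rw [← heb]; simp)
      · apply hbu
        have : IsUnit e := by
          rw [← hd]; exact (isUnit_iff_ne_zero.mpr hd0).map (algebraMap k A)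
        exact isUnit_of_mul_isUnit_left (this : IsUnit (b * q))
    let ψ : (k × k) →ₐ[k] A :=
      { toFun := fun z => algebraMap k A z.1 * (1 - e) + algebraMap k A z.2 * e
        map_one' := by simp
        map_zero' := by simp
        map_add' := by
          intro x y
          simp only [Prod.fst_add, Prod.snd_add, map_add]
          ring
        map_mul' := by
          intro x y
          simp only [Prod.fst_mul, Prod.snd_mul, map_mul]
          linear_combination (algebraMap k A x.1 * algebraMap k A y.2 +
            algebraMap k A x.2 * algebraMap k A y.1 - algebraMap k A x.1 * algebraMap k A y.1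
            - algebraMap k A x.2 * algebraMap k A y.2) * hee
        commutes' := by
          intro r
          change algebraMap k A r * (1 - e) + algebraMap k A r * e = _
          ring }
    have hψ : ∀ z, ψ z = algebraMap k A z.1 * (1 - e) + algebraMap k A z.2 * e := fun z => rfl
    refine ⟨(AlgEquiv.ofBijective ψ ⟨?_, ?_⟩).symm⟩
    · rw [injective_iff_map_eq_zero]
      rintro ⟨x, y⟩ hz
      rw [hψ] at hz
      simp only at hz
      have h2 : x = y := by
        by_contra h2
        apply hek
        rw [Algebra.mem_bot]
        have h2' : x - y ≠ 0 := sub_ne_zero.mpr h2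
        refine ⟨(x - y)⁻¹ * x, ?_⟩
        have h3 : algebraMap k A (x - y)⁻¹ * algebraMap k A (x - y) = 1 := by
          rw [← map_mul, inv_mul_cancel₀ h2', map_one]
        rw [map_sub] at h3
        rw [map_mul]
        linear_combination e * h3 + algebraMap k A (x - y)⁻¹ * hz
      subst h2
      have h4 : algebraMap k A x = 0 := by linear_combination hz
      have h1 : x = 0 := (algebraMap k A).injective (h4.trans (map_zero _).symm)
      subst h1
      rfl
    · rw [← AlgHom.range_eq_top]
      apply hgen _ e _ hek
      exact ⟨(0, 1), (hψ _).trans (by simp)⟩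

end Groth.Agent.S0218
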