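import Groth.Statements.S0219
import Groth.Agent.CurvesA.DimOne
import Mathlib.AlgebraicGeometry.ZariskisMainTheorem

set_option autoImplicit false
universe u
open CategoryTheory CategoryTheory.Limits AlgebraicGeometry TopologicalSpace
open Curves

namespace Groth.Agent.S0219

/-- Stacks Tag 0CCL (curves): a morphism over a field from a proper scheme of dimension at most one to a separated scheme, which does not contract any one-dimensional irreducible component to a point, is finite. -/
theorem result (k : Type u) [Field k] (X Y : Scheme.{u}) (p : X ⟶ Spec (CommRingCat.of k)) (q : Y ⟶ Spec (CommRingCat.of k))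
    [IsProper p] [IsSeparated q] (f : X ⟶ Y) (hf : f ≫ q = p) (hdim : topologicalKrullDim X ≤ 1)
    (h : ∀ Z ∈ irreducibleComponents (X : Type u), topologicalKrullDim Z = 1 → (f.base '' Z).Nontrivial) :
    IsFinite f := by
  have : IsProper f := by
    have : IsProper (f ≫ q) := by rw [hf]; infer_instance
    exact IsProper.of_comp f q
  have : IsLocallyNoetherian X := LocallyOfFiniteType.isLocallyNoetherian p
  have : CompactSpace X := QuasiCompact.compactSpace_of_compactSpace p
  have : IsNoetherian X := {}
  have : LocallyQuasiFinite f := by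
    refine .of_finite_preimage_singleton f fun y => ?_
    by_contra hinf
    obtain ⟨Z, hZ, hZinf⟩ : ∃ Z ∈ irreducibleComponents X, (Z ∩ f ⁻¹' {y}).Infinite := by
      by_contra hcon
      push Not at hcon
      apply hinf
      refine (Set.Finite.biUnion (NoetherianSpace.finite_irreducibleComponents (α := X))
        (t := fun Z => Z ∩ f ⁻¹' {y}) (fun Z hZ => hcon Z hZ)).subset ?_
      intro x hx
      exact Set.mem_biUnion (irreducibleComponent_mem_irreducibleComponents x)
        ⟨mem_irreducibleComponent, hx⟩
    have hZcl : IsClosed Z := isClosed_of_mem_irreducibleComponents Z hZ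
    let ZZ : IrreducibleCloseds X := ⟨Z, hZ.1, hZcl⟩
    have key : ∀ C : Set X, IsClosed C → C ⊆ Z → C.Infinite → C = Z := by
      intro C hC hCZ hCinf
      obtain ⟨S, hSf, hS1, hS2, rfl⟩ := NoetherianSpace.exists_finite_set_isClosed_irreducible hC
      by_contra hne
      apply hCinf
      refine hSf.sUnion ?_
      intro t ht
      have htZ : t ⊆ Z := (Set.subset_sUnion_of_mem ht).trans hCZ
      have htne : t ≠ Z := by
        rintro rfl
        exact hne (hCZ.antisymm (Set.subset_sUnion_of_mem ht))
      let T : IrreducibleCloseds X := ⟨t, hS2 t ht, hS1 t ht⟩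
      have hTZ : T < ZZ := lt_of_le_of_ne htZ
        (fun heq => htne (congrArg (fun W : IrreducibleCloseds X => (W : Set X)) heq))
      exact (Groth.Agent.CurvesA.DimOne.subsingleton_of_lt hdim hTZ).finite
    obtain ⟨t, htm, htcl⟩ : ∃ t ∈ Z ∩ f ⁻¹' {y}, IsClosed ({t} : Set X) := by
      have haux : ∀ t ∈ Z ∩ f ⁻¹' {y}, closure {t} ≠ Z → IsClosed ({t} : Set X) := by
        intro t ht htne
        let T : IrreducibleCloseds X := ⟨closure {t}, isIrreducible_singleton.closure, isClosed_closure⟩
        have hTZ : T < ZZ := lt_of_le_of_ne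
          (hZcl.closure_subset_iff.mpr (Set.singleton_subset_iff.mpr ht.1))
          (fun heq => htne (congrArg (fun W : IrreducibleCloseds X => (W : Set X)) heq))
        have hs := Groth.Agent.CurvesA.DimOne.subsingleton_of_lt hdim hTZ
        have : closure ({t} : Set X) = {t} :=
          hs.eq_singleton_of_mem (subset_closure (Set.mem_singleton t))
        rw [← this]
        exact isClosed_closure
      obtain ⟨t₁, h₁, t₂, h₂, hne⟩ := hZinf.nontrivial
      by_cases hc₁ : closure {t₁} = Z
      · refine ⟨t₂, h₂, haux t₂ h₂ ?_⟩
        intro hc₂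
        apply hne
        have : Inseparable t₁ t₂ := by
          rw [inseparable_iff_closure_eq, hc₁, hc₂]
        exact this.eq
      · exact ⟨t₁, h₁, haux t₁ h₁ hc₁⟩
    have hy : IsClosed ({y} : Set Y) := by
      have h1 := f.isClosedMap _ htcl
      rw [Set.image_singleton] at h1
      have h2 : f t = y := htm.2
      rwa [h2] at h1
    have hZeq : Z ∩ f ⁻¹' {y} = Z :=
      key _ (hZcl.inter (hy.preimage f.continuous)) Set.inter_subset_left hZinf
    have hdimZ : topologicalKrullDim Z = 1 := by
      apply le_antisymm
      · exact (topologicalKrullDim_subspace_le X Z).trans hdim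
      · rw [topologicalKrullDim, Order.one_le_krullDim_iff]
        refine ⟨⟨{⟨t, htm.1⟩}, isIrreducible_singleton, ?_⟩, ⟨Set.univ, ?_, isClosed_univ⟩, ?_⟩
        · have : ({⟨t, htm.1⟩} : Set Z) = Subtype.val ⁻¹' {t} := by
            ext z
            simp [Subtype.ext_iff]
          rw [this]
          exact htcl.preimage continuous_subtype_val
        · have : IrreducibleSpace Z := Subtype.irreducibleSpace hZ.1
          exact IrreducibleSpace.isIrreducible_univ Z
        · refine lt_of_le_of_ne (fun x _ => Set.mem_univ x) ?_
          intro heq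
          have heq' : ({⟨t, htm.1⟩} : Set Z) = Set.univ :=
            congrArg (fun W : IrreducibleCloseds Z => (W : Set Z)) heq
          obtain ⟨t', ht', hne'⟩ := hZinf.nontrivial.exists_ne t
          apply hne'
          have : (⟨t', ht'.1⟩ : Z) ∈ ({⟨t, htm.1⟩} : Set Z) := by rw [heq']; trivial
          exact congrArg Subtype.val this
    obtain ⟨a, ⟨a', ha', rfl⟩, b, ⟨b', hb', rfl⟩, hab⟩ := h Z hZ hdimZ
    apply hab
    rw [← hZeq] at ha' hb'
    exact (ha'.2 : f a' = y).trans (hb'.2 : f b' = y).symm
  exact IsFinite.of_isProper_of_locallyQuasiFinite f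

end Groth.Agent.S0219
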