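import Groth.Statements.S0220
import Groth.Agent.CurvesA.DimOne
import Mathlib.AlgebraicGeometry.Morphisms.SchemeTheoreticallyDominant
import Mathlib.AlgebraicGeometry.FunctionField
import Mathlib.RingTheory.Flat.TorsionFree
import Mathlib.RingTheory.DiscreteValuationRing.TFAE

set_option autoImplicit false
universe u
open CategoryTheory CategoryTheory.Limits AlgebraicGeometry TopologicalSpace
open Curves

namespace Groth.Agent.S0220

/-- A ring map with injective underlying map from a PID to a domain is flat. -/
lemma flat_of_injective {R S : Type u} [CommRing R] [CommRing S] [IsDomain R] [IsDomain S]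
    [IsPrincipalIdealRing R] (φ : R →+* S) (hφ : Function.Injective φ) : φ.Flat := by
  algebraize [φ]
  have : FaithfulSMul R S := (faithfulSMul_iff_algebraMap_injective R S).mpr hφ
  change Module.Flat R S
  infer_instance

/-- Stacks Tag 0CCK (curves): a nonconstant morphism between curves over a field (integral, separated, finite type, dimension one) whose target has integrally closed local domains is flat. -/
theorem result (k : Type u) [Field k] (X Y : Scheme.{u}) (p : X ⟶ Spec (CommRingCat.of k)) (q : Y ⟶ Spec (CommRingCat.of k))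
    [IsIntegral X] [IsIntegral Y] [IsSeparated p] [IsSeparated q] [LocallyOfFiniteType p] [LocallyOfFiniteType q]
    [QuasiCompact p] [QuasiCompact q] (hX : topologicalKrullDim X = 1) (hY : topologicalKrullDim Y = 1)
    (hN : ∀ y : Y, IsDomain (Y.presheaf.stalk y) ∧ IsIntegrallyClosed (Y.presheaf.stalk y))
    (f : X ⟶ Y) (hf : f ≫ q = p) (hnc : (Set.range f.base).Nontrivial) :
    Flat f := by
  have : IsLocallyNoetherian Y := LocallyOfFiniteType.isLocallyNoetherian q
  have : QuasiCompact f := by
    have : QuasiCompact (f ≫ q) := by rw [hf]; infer_instance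
    exact QuasiCompact.of_comp f q
  have hdom : IsDominant f := by
    refine ⟨?_⟩
    by_contra hcon
    have hirr : IsIrreducible (closure (Set.range f.base)) := by
      rw [← Set.image_univ]
      exact ((IrreducibleSpace.isIrreducible_univ X).image _ f.continuous.continuousOn).closure
    let Z : IrreducibleCloseds Y := ⟨closure (Set.range f.base), hirr, isClosed_closure⟩
    let W : IrreducibleCloseds Y := ⟨Set.univ, IrreducibleSpace.isIrreducible_univ Y, isClosed_univ⟩
    have hlt : Z < W := by
      refine lt_of_le_of_ne (fun x _ => Set.mem_univ x) ?_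
      intro heq
      apply hcon
      have : (Z : Set Y) = (W : Set Y) := congrArg _ heq
      rw [DenseRange, dense_iff_closure_eq]
      exact this
    have hs := Groth.Agent.CurvesA.DimOne.subsingleton_of_lt hY.le hlt
    exact (hnc.mono subset_closure).not_subsingleton hs
  have : IsSchemeTheoreticallyDominant f := .of_isDominant f
  apply Flat.of_stalkMap
  intro x
  obtain ⟨_, ⟨U, hU, rfl⟩, hxU, -⟩ := Y.isBasis_affineOpens.exists_subset_of_mem_open (Set.mem_univ (f x)) isOpen_univ
  have hinj : Function.Injective (f.stalkMap x) := by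
    apply hU.stalkMap_injective f x hxU
    intro g hg
    have h3 : (X.presheaf.germ (f ⁻¹ᵁ U) x hxU) (f.app U g) = 0 := by
      rw [← hg]
      exact (Scheme.Hom.germ_stalkMap_apply f U x hxU g).symm
    have h4 : f.app U g = 0 :=
      (germ_injective_of_isIntegral X x hxU) (h3.trans (map_zero _).symm)
    have h5 : g = 0 := (f.app_injective U) (h4.trans (map_zero _).symm)
    rw [h5, map_zero]
  have h1 : IsDomain (Y.presheaf.stalk (f x)) := (hN (f x)).1
  have h2 : IsIntegrallyClosed (Y.presheaf.stalk (f x)) := (hN (f x)).2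
  have hPID : IsPrincipalIdealRing (Y.presheaf.stalk (f x)) := by
    have htfae : IsPrincipalIdealRing (Y.presheaf.stalk (f x)) ↔
        (IsIntegrallyClosed (Y.presheaf.stalk (f x)) ∧
          ∀ P : Ideal (Y.presheaf.stalk (f x)), P ≠ ⊥ → P.IsPrime →
            P = IsLocalRing.maximalIdeal (Y.presheaf.stalk (f x))) :=
      (tfae_of_isNoetherianRing_of_isLocalRing_of_isDomain (Y.presheaf.stalk (f x))).out 0 3
    refine htfae.mpr ⟨h2, ?_⟩
    intro P hP hPp
    by_contra hne
    have hdimS : ringKrullDim (Y.presheaf.stalk (f x)) ≤ 1 :=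
      (Groth.Agent.CurvesA.DimOne.ringKrullDim_stalk_le Y (f x)).trans hY.le
    have hlt1 : (⟨⊥, Ideal.isPrime_bot⟩ : PrimeSpectrum (Y.presheaf.stalk (f x))) < ⟨P, hPp⟩ := by
      rw [← PrimeSpectrum.asIdeal_lt_asIdeal]
      exact bot_lt_iff_ne_bot.mpr hP
    have hlt2 : (⟨P, hPp⟩ : PrimeSpectrum (Y.presheaf.stalk (f x))) <
        ⟨IsLocalRing.maximalIdeal _, inferInstance⟩ := by
      rw [← PrimeSpectrum.asIdeal_lt_asIdeal]
      exact lt_of_le_of_ne (IsLocalRing.le_maximalIdeal hPp.ne_top) hne
    let l : LTSeries (PrimeSpectrum (Y.presheaf.stalk (f x))) :=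
      ((RelSeries.singleton _ (⟨IsLocalRing.maximalIdeal _, inferInstance⟩ :
        PrimeSpectrum (Y.presheaf.stalk (f x)))).cons ⟨P, hPp⟩ hlt2).cons
          ⟨⊥, Ideal.isPrime_bot⟩ (by simpa using hlt1)
    have h6 : (l.length : WithBot ℕ∞) ≤ 1 := (Order.LTSeries.length_le_krullDim l).trans hdimS
    have h7 : l.length = 2 := by simp [l]
    rw [h7] at h6
    exact absurd h6 (by decide)
  exact flat_of_injective _ hinj

end Groth.Agent.S0220
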