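import Groth.Statements.S0226
import Mathlib.RingTheory.Ideal.Height
import Mathlib.RingTheory.PrincipalIdealDomain
import Mathlib.RingTheory.PrincipalIdealDomainOfPrime
import Mathlib.RingTheory.Ideal.MinimalPrime.Noetherian
import Mathlib.RingTheory.Nakayama

set_option autoImplicit false
universe u
open Curves

namespace Groth.Agent.S0226

open IsLocalRing

/-- A Noetherian local ring with principal maximal ideal is a principal ideal ring. -/
lemma isPrincipalIdealRing_of_maximalIdeal {B : Type u} [CommRing B] [IsLocalRing B]
    [IsNoetherianRing B] (y : B) (hy : maximalIdeal B = Ideal.span {y}) :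
    IsPrincipalIdealRing B := by
  apply IsPrincipalIdealRing.of_prime
  intro q hq
  by_cases h : q = maximalIdeal B
  · exact ⟨y, by rw [h, hy]⟩
  · have hle : q ≤ maximalIdeal B := le_maximalIdeal hq.ne_top
    have hyq : y ∉ q := by
      intro hyq
      apply h
      apply le_antisymm hle
      rw [hy, Ideal.span_singleton_le_iff_mem]
      exact hyq
    have hbot : q = ⊥ := by
      apply Submodule.eq_bot_of_le_smul_of_le_jacobson_bot (maximalIdeal B) q
        (IsNoetherian.noetherian q)
      · intro z hz
        have hz' : z ∈ Ideal.span {y} := hy ▸ hle hz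
        obtain ⟨a, rfl⟩ := Ideal.mem_span_singleton'.mp hz'
        have ha : a ∈ q := (hq.mem_or_mem hz).resolve_right hyq
        rw [mul_comm]
        exact Submodule.smul_mem_smul (hy ▸ Ideal.mem_span_singleton_self y) ha
      · exact maximalIdeal_le_jacobson _
    rw [hbot]
    exact bot_isPrincipal

/-- Stacks Tag 0C48 (curves): in a regular local ring of dimension two, an ideal inside the maximal ideal with reduced quotient is zero, the maximal ideal, or principal. -/
theorem result (A : Type u) [CommRing A] [IsRegularLocalRing A] (hdim : ringKrullDim A = 2)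
    (I : Ideal A) (hI : I ≤ IsLocalRing.maximalIdeal A) [IsReduced (A ⧸ I)] :
    I = ⊥ ∨ I = IsLocalRing.maximalIdeal A ∨ ∃ f ∈ IsLocalRing.maximalIdeal A, f ≠ 0 ∧ I = Ideal.span {f} := by
  have hrad : I.IsRadical := by
    rwa [Ideal.isRadical_iff_quotient_reduced]
  have hspan : (maximalIdeal A).spanFinrank = 2 := by
    have := IsRegularLocalRing.spanFinrank_maximalIdeal (R := A)
    rw [hdim] at this
    exact_mod_cast this
  by_cases hm : maximalIdeal A ∈ I.minimalPrimes
  · right; left
    apply le_antisymm hI
    rw [← hrad.radical, ← Ideal.sInf_minimalPrimes]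
    apply le_sInf
    intro p hp
    exact hm.2 ⟨hp.1.1, hp.1.2⟩ (le_maximalIdeal hp.1.1.ne_top)
  · -- choose t
    have hmsq : ¬ maximalIdeal A ≤ (maximalIdeal A) ^ 2 := by
      intro hle
      have : maximalIdeal A = ⊥ := by
        apply Submodule.eq_bot_of_le_smul_of_le_jacobson_bot (maximalIdeal A) (maximalIdeal A)
          (IsNoetherian.noetherian _)
        · rw [pow_two] at hle; exact hle
        · exact maximalIdeal_le_jacobson _
      rw [this] at hspan
      simp at hspan
    obtain ⟨t, htm, ht⟩ : ∃ t ∈ maximalIdeal A, t ∉ (maximalIdeal A)^2 ∧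
        ∀ p ∈ I.minimalPrimes, t ∉ p := by
      classical
      have hfin := Ideal.finite_minimalPrimes_of_isNoetherianRing A I
      by_contra hcon
      push Not at hcon
      let s : Finset (Ideal A) := insert ((maximalIdeal A)^2) hfin.toFinset
      have hsub : ((maximalIdeal A : Ideal A) : Set A) ⊆ ⋃ i ∈ (↑s : Set (Ideal A)), ((id i : Ideal A) : Set A) := by
        intro t ht
        by_cases h2 : t ∈ (maximalIdeal A)^2
        · exact Set.mem_biUnion (x := (maximalIdeal A)^2) (by simp [s]) h2
        · obtain ⟨p, hp, htp⟩ := hcon t ht h2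
          exact Set.mem_biUnion (x := p) (by simp [s, hp]) htp
      rw [Ideal.subset_union_prime ((maximalIdeal A)^2) ((maximalIdeal A)^2)] at hsub
      · obtain ⟨i, hi, hle⟩ := hsub
        simp only [s, Finset.mem_insert, Set.Finite.mem_toFinset] at hi
        rcases hi with rfl | hi
        · exact hmsq hle
        · have : i = maximalIdeal A := le_antisymm (le_maximalIdeal hi.1.1.ne_top) hle
          exact hm (this ▸ hi)
      · intro i hi h1 _
        simp only [s, Finset.mem_insert, Set.Finite.mem_toFinset] at hi
        rcases hi with rfl | hi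
        · exact absurd rfl h1
        · exact hi.1.1
    obtain ⟨ht2, htp⟩ := ht
    -- t is a nonzerodivisor mod I
    have hnzd : ∀ a, t * a ∈ I → a ∈ I := by
      intro a ha
      rw [← hrad.radical, ← Ideal.sInf_minimalPrimes, Ideal.mem_sInf]
      intro p hp
      exact (hp.1.1.mem_or_mem (hp.1.2 ha)).resolve_left (htp p hp)
    -- m = (t, y)
    obtain ⟨y, hy⟩ : ∃ y, maximalIdeal A = Ideal.span {t, y} := by
      have hfg : (maximalIdeal A).FG := IsNoetherian.noetherian _
      classical
      obtain ⟨s, hs1, hs2⟩ := Submodule.FG.exists_span_finset_card_eq_spanFinrank hfg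
      rw [hspan, Finset.card_eq_two] at hs1
      obtain ⟨x, y, hxy, rfl⟩ := hs1
      have hs3 : Ideal.span {x, y} = maximalIdeal A := by
        rw [← hs2]; simp [Ideal.span]
      have key : ∀ x y a b : A, Ideal.span {x, y} = maximalIdeal A → a * x + b * y = t → IsUnit a →
          maximalIdeal A = Ideal.span {t, y} := by
        intro x y a b h1 h2 ha
        apply le_antisymm
        · rw [← h1, Ideal.span_le]
          rintro z (rfl | rfl)
          · obtain ⟨a', ha'⟩ := ha.exists_left_inv
            rw [SetLike.mem_coe, Ideal.mem_span_pair]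
            refine ⟨a', - a' * b, ?_⟩
            rw [← h2]
            linear_combination z * ha'
          · exact Ideal.subset_span (by simp)
        · rw [Ideal.span_le]
          rintro z (rfl | rfl)
          · exact htm
          · rw [← h1]; exact Ideal.subset_span (by simp)
      have htm' := htm
      rw [← hs3, Ideal.mem_span_pair] at htm'
      obtain ⟨a, b, hab⟩ := htm'
      by_cases ha : IsUnit a
      · exact ⟨y, key x y a b hs3 hab ha⟩
      by_cases hb : IsUnit b
      · refine ⟨x, key y x b a ?_ ?_ hb⟩
        · rw [← hs3, Set.pair_comm]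
        · rw [← hab]; ring
      · exfalso
        apply ht2
        rw [← hab, pow_two]
        apply Ideal.add_mem
        · exact Ideal.mul_mem_mul ha (hs3 ▸ Ideal.subset_span (by simp))
        · exact Ideal.mul_mem_mul hb (hs3 ▸ Ideal.subset_span (by simp))
    let B := A ⧸ Ideal.span {t}
    have htop : Ideal.span {t} ≠ ⊤ := by
      intro h
      have : Ideal.span {t} ≤ maximalIdeal A := by
        rw [Ideal.span_singleton_le_iff_mem]; exact htm
      rw [h] at this
      exact (maximalIdeal.isMaximal A).ne_top (top_le_iff.mp this)
    have : Nontrivial B := Ideal.Quotient.nontrivial_iff.mpr htop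
    have : IsLocalRing B := IsLocalRing.of_surjective' (Ideal.Quotient.mk _) Ideal.Quotient.mk_surjective
    have hB : maximalIdeal B = Ideal.span {Ideal.Quotient.mk (Ideal.span {t}) y} := by
      have h1 : maximalIdeal B = (maximalIdeal A).map (Ideal.Quotient.mk (Ideal.span {t})) := by
        symm
        apply IsLocalRing.eq_maximalIdeal
        rcases Ideal.map_eq_top_or_isMaximal_of_surjective (Ideal.Quotient.mk (Ideal.span {t}))
          Ideal.Quotient.mk_surjective (maximalIdeal.isMaximal A) with h | h
        · exfalso
          have h2 : (maximalIdeal A) ⊔ Ideal.span {t} = ⊤ := by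
            have := congrArg (Ideal.comap (Ideal.Quotient.mk (Ideal.span {t}))) h
            rwa [Ideal.comap_map_of_surjective _ Ideal.Quotient.mk_surjective, Ideal.comap_top,
              ← RingHom.ker_eq_comap_bot, Ideal.mk_ker] at this
          have h3 : Ideal.span {t} ≤ maximalIdeal A := by
            rw [Ideal.span_singleton_le_iff_mem]; exact htm
          rw [sup_eq_left.mpr h3] at h2
          exact (maximalIdeal.isMaximal A).ne_top h2
        · exact h
      rw [h1, hy, Ideal.map_span, Set.image_pair]
      have h0 : Ideal.Quotient.mk (Ideal.span {t}) t = 0 :=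
        Ideal.Quotient.eq_zero_iff_mem.mpr (Ideal.mem_span_singleton_self t)
      rw [h0]
      exact Submodule.span_insert_zero
    have : IsPrincipalIdealRing B := isPrincipalIdealRing_of_maximalIdeal _ hB
    obtain ⟨g, hg⟩ := (IsPrincipalIdealRing.principal (I.map (Ideal.Quotient.mk (Ideal.span {t})))).principal
    obtain ⟨f, hfI, hf⟩ : ∃ f ∈ I, Ideal.Quotient.mk (Ideal.span {t}) f = g := by
      have : g ∈ I.map (Ideal.Quotient.mk (Ideal.span {t})) := by
        rw [hg]; exact Submodule.mem_span_singleton_self g
      rwa [Ideal.mem_map_iff_of_surjective _ Ideal.Quotient.mk_surjective] at this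
    have hIf : I = Ideal.span {f} := by
      apply le_antisymm
      · apply Submodule.le_of_le_smul_of_le_jacobson_bot (I := maximalIdeal A) (IsNoetherian.noetherian I)
          (maximalIdeal_le_jacobson _)
        intro z hz
        have hz1 : Ideal.Quotient.mk (Ideal.span {t}) z ∈ I.map (Ideal.Quotient.mk (Ideal.span {t})) :=
          Ideal.mem_map_of_mem _ hz
        rw [hg] at hz1
        obtain ⟨c, hc⟩ := Submodule.mem_span_singleton.mp hz1
        obtain ⟨c, rfl⟩ := Ideal.Quotient.mk_surjective c
        have h2 : z - c * f ∈ Ideal.span {t} := by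
          rw [← Ideal.Quotient.eq_zero_iff_mem, map_sub, map_mul, hf, ← hc]
          simp
        obtain ⟨w, hw⟩ := Ideal.mem_span_singleton'.mp h2
        have hwI : w ∈ I := by
          apply hnzd
          rw [mul_comm, hw]
          exact I.sub_mem hz (I.mul_mem_left _ hfI)
        have h3 : z = c * f + t * w := by rw [mul_comm t, hw]; ring
        rw [h3]
        apply Submodule.add_mem_sup
        · exact Ideal.mem_span_singleton'.mpr ⟨c, rfl⟩
        · exact Submodule.smul_mem_smul htm hwI
      · rw [Ideal.span_singleton_le_iff_mem]; exact hfI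
    by_cases hf0 : f = 0
    · left; rw [hIf, hf0]; simp
    · right; right
      exact ⟨f, hI hfI, hf0, hIf⟩

end Groth.Agent.S0226
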