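import Groth.Statements.S0232
import Groth.Agent.CurvesA.FlatH0
import Groth.Agent.CurvesA.FFGen
import Groth.Agent.CurvesB.HZero
import Groth.Agent.Picfga.LineDescent
import Groth.Agent.Ega2.QCohLocal
-- import your own Groth.Agent.* helpers here

set_option autoImplicit false
universe u
open CategoryTheory CategoryTheory.Limits AlgebraicGeometry
open Curves

namespace Groth.Agent.S0232

open Groth.Agent.CurvesA.FlatH0 Groth.Agent.Fdesc.LocGen Groth.Agent.VarietyB.PullSec
open Groth.Agent.CurvesB TensorProduct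

/-- `Γ(X, ⊤)` is Artinian when `H^0(X, O_X)` is finite over the base field. -/
theorem isArtinian_of_finite (k : Type u) [Field k] (X : Scheme.{u}) [X.Over (Spec (CommRingCat.of k))]
    (hfin : Module.Finite k (Coh.HH X (Coh.structureModule X) 0)) : IsArtinianRing Γ(X, ⊤) := by
  letI : Algebra k Γ(X, ⊤) := (HZero.gl k X).toAlgebra
  let e : Coh.HH X (Coh.structureModule X) 0 ≃ₗ[k] Γ(X, ⊤) :=
    { HZero.equivO X with
      map_smul' := fun t x => by
        change HZero.equivO X (t • x) = t • HZero.equivO X x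
        rw [HZero.equivO_smul, Algebra.smul_def]; rfl }
  have : Module.Finite k Γ(X, ⊤) := Module.Finite.equiv e
  exact IsArtinianRing.of_finite k Γ(X, ⊤)

/-- A section of an invertible module whose pullback along a surjective morphism is a generator is a
generator. -/
theorem isGen_of_pullSec {X X' : Scheme.{u}} (g : X' ⟶ X) [Surjective g] {L : X.Modules}
    (hL : PicF.IsInvertible L) (s : Γ(L, ⊤)) (hs : IsGen (pullSec g s)) : IsGen s := by
  have h1 : CohB1.genLocus L (homOf s) = ⊤ := by
    rw [eq_top_iff]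
    intro x _
    obtain ⟨x', hx'⟩ := g.surjective x
    obtain ⟨U, e, hx, he⟩ := (isInvertible_iff L).mp hL x
    obtain ⟨a, ha⟩ := he.exists_eq (res L le_top s)
    have h2 := genLocus_inf_eq (homOf s) he (a := a) (by rw [sec_homOf]; exact ha)
    have h3 : IsGen ((g.app U a : Γ(X', g ⁻¹ᵁ U)) • pullSec g e) := by
      rw [← pullSec_smul, ← ha, ← res_pullSec]
      exact hs.res _
    have h4 : IsUnit (g.app U a) := (he.pullSec g).isUnit_of_smul h3
    have h5 : g ⁻¹ᵁ (X.basicOpen a) = g ⁻¹ᵁ U := by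
      rw [Scheme.preimage_basicOpen]
      exact X'.basicOpen_of_isUnit h4
    have h6 : x' ∈ g ⁻¹ᵁ (X.basicOpen a) := by
      rw [h5]
      change g x' ∈ U
      rw [hx']; exact hx
    have h7 : x ∈ X.basicOpen a := by
      have : g x' ∈ X.basicOpen a := h6
      rwa [hx'] at this
    rw [← h2] at h7
    exact h7.1
  have h8 := isGen_sec_genLocus (homOf s)
  rw [h1] at h8
  simpa using h8

/-- Stacks Tag 0CC5 (varieties): for a quasi-compact quasi-separated scheme X over a field k with finite-dimensional H^0(X, O_X), an invertible module on X that becomes trivial after base change to a field extension k' is already trivial (injectivity of Pic(X) → Pic(X_{k'}), stated on classes without a group structure). The base change is given as any pullback square. -/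
theorem result (k : Type u) [Field k] (X : Scheme.{u}) [X.Over (Spec (CommRingCat.of k))]
    [CompactSpace X] [QuasiSeparatedSpace X]
    (hfin : Module.Finite k (Coh.HH X (Coh.structureModule X) 0))
    (k' : Type u) [Field k'] [Algebra k k'] (X' : Scheme.{u}) (g : X' ⟶ X) (q : X' ⟶ Spec (CommRingCat.of k'))
    (hpb : IsPullback g q (X ↘ Spec (CommRingCat.of k)) (Spec.map (CommRingCat.ofHom (algebraMap k k'))))
    (L : X.Modules) (hL : PicF.IsInvertible L) (htriv : PicF.IsTrivialCl (PicF.pullCl g (PicF.cl L))) :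
    PicF.IsTrivialCl (PicF.cl L) := by
  have hff : Flat (Spec.map (CommRingCat.ofHom (algebraMap k k'))) ∧
      Surjective (Spec.map (CommRingCat.ofHom (algebraMap k k'))) := by
    refine (flat_and_surjective_SpecMap_iff _).mpr ?_
    rw [CommRingCat.hom_ofHom, RingHom.faithfullyFlat_algebraMap_iff]
    infer_instance
  obtain ⟨hf1, hf2⟩ := hff
  have hgs : Surjective g := MorphismProperty.of_isPullback hpb.flip hf2
  have hLq : Coh.IsQCoh L := Groth.Agent.Ega2.QCohLocal.isQCoh_of_isInvertible hL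
  obtain ⟨φ⟩ := Groth.Agent.Picfga.LineDescent.cl_eq_iff.mp htriv
  let t' : Γ((Scheme.Modules.pullback g).obj L, ⊤) := sec φ.inv ⊤
  have ht' : IsGen t' := (isIso_iff_isGen φ.inv).mp inferInstance
  have hart : IsArtinianRing Γ(X, ⊤) := isArtinian_of_finite k X hfin
  letI : Algebra Γ(X, ⊤) Γ(X', ⊤) := (g.appLE ⊤ ⊤ (le_pt g ⊤)).hom.toAlgebra
  letI := secModule g L (le_pt g ⊤)
  haveI : IsScalarTower Γ(X, ⊤) Γ(X', ⊤) Γ((Scheme.Modules.pullback g).obj L, ⊤) :=
    ⟨fun a b c => by rw [Algebra.smul_def, mul_smul]; rfl⟩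
  have hbc : IsBaseChange Γ(X', ⊤) (secₗ g L (le_pt g ⊤)) :=
    isBaseChange_secₗ_of_qcqs (X ↘ Spec (CommRingCat.of k)) q _ g hpb L hLq (U := ⊤) isCompact_univ
      isQuasiSeparated_univ rfl
  haveI : Module.FaithfullyFlat Γ(X, ⊤) Γ(X', ⊤) :=
    faithfullyFlat_appTop (X ↘ Spec (CommRingCat.of k)) q _ g hpb
  let e' : Γ(X', ⊤) ≃ₗ[Γ(X', ⊤)] Γ((Scheme.Modules.pullback g).obj L, ⊤) :=
    LinearEquiv.ofBijective (LinearMap.toSpanSingleton _ _ t') ht'.bijective
  obtain ⟨s, hs⟩ := Groth.Agent.CurvesA.FFGen.exists_bijective_smul Γ(X, ⊤) Γ(X', ⊤) Γ(L, ⊤)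
    (hbc.equiv.trans e'.symm)
  have hz : ∀ z : Γ(X', ⊤) ⊗[Γ(X, ⊤)] Γ(L, ⊤), ∃ b : Γ(X', ⊤), z = b ⊗ₜ s := by
    intro z
    induction z using TensorProduct.induction_on with
    | zero => exact ⟨0, by simp⟩
    | tmul b m =>
      obtain ⟨a, rfl⟩ := hs.2 m
      exact ⟨a • b, by simp [TensorProduct.smul_tmul]⟩
    | add x y hx hy =>
      obtain ⟨b, rfl⟩ := hx
      obtain ⟨c, rfl⟩ := hy
      exact ⟨b + c, (TensorProduct.add_tmul _ _ _).symm⟩
  obtain ⟨b, hb⟩ := hz (hbc.equiv.symm t')
  let u : Γ((Scheme.Modules.pullback g).obj L, ⊤) := pullSec g s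
  have hb' : t' = b • u := by
    have := congrArg hbc.equiv hb
    rw [LinearEquiv.apply_symm_apply, IsBaseChange.equiv_tmul] at this
    refine this.trans ?_
    congr 1
    change res ((Scheme.Modules.pullback g).obj L) (le_refl ⊤) u = u
    exact res_refl _ _
  have hgen : IsGen u := by
    obtain ⟨c, hc⟩ := ht'.exists_eq u
    have h1 : (b * c) • t' = (1 : Γ(X', ⊤)) • t' := by
      rw [mul_smul, ← hc, ← hb', one_smul]
    have h2 : b * c = 1 := ht'.ext h1
    rw [hc]
    exact ht'.unit_smul (IsUnit.of_mul_eq_one_right b h2)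
  have hgen' : IsGen s := isGen_of_pullSec g hL s hgen
  have : IsIso (homOf s) := by
    rw [isIso_iff_isGen, sec_homOf]
    simpa using hgen'
  exact Groth.Agent.Picfga.LineDescent.cl_eq_iff.mpr ⟨(asIso (homOf s)).symm⟩

end Groth.Agent.S0232
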