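import Groth.Statements.S0233
import Groth.Agent.S0234

set_option autoImplicit false
universe u
open CategoryTheory CategoryTheory.Limits AlgebraicGeometry
open Curves

namespace Groth.Agent.S0233

open Groth.Agent.CurvesA.UfdFrac Groth.Agent.CurvesA.UfdStalk Groth.Agent.Ega4dA.GenSec
open Groth.Agent.CurvesA.UfdExtend TopologicalSpace
open Groth.Agent.Ega1.LocNoethNhd (mem_basicOpen_iff_notMem_primeIdealOf)

section alg

variable {X : Scheme.{u}} {V : X.Opens} {η : X}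

theorem isUnit_germ_iff (hV : IsAffineOpen V) {y : X} (hy : y ∈ V) (a : Γ(X, V)) :
    IsUnit (X.presheaf.germ V y hy a) ↔ a ∉ (hV.primeIdealOf ⟨y, hy⟩).asIdeal := by
  rw [← mem_basicOpen_iff_notMem_primeIdealOf hV ⟨y, hy⟩ a]
  exact (Scheme.mem_basicOpen X a y hy).symm

theorem isFractionRing_section (hV : IsAffineOpen V) (h : GenPt V η) [IsDomain Γ(X, V)] :
    letI := (X.presheaf.germ V η h.mem).hom.toAlgebra
    IsFractionRing Γ(X, V) (X.presheaf.stalk η) := by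
  let := (X.presheaf.germ V η h.mem).hom.toAlgebra
  have h1 : IsLocalization.AtPrime (X.presheaf.stalk η) (hV.primeIdealOf ⟨η, h.mem⟩).asIdeal :=
    hV.isLocalization_stalk ⟨η, h.mem⟩
  have h2 : (hV.primeIdealOf ⟨η, h.mem⟩).asIdeal.primeCompl = nonZeroDivisors Γ(X, V) := by
    ext a
    rw [mem_nonZeroDivisors_iff_ne_zero, Ideal.mem_primeCompl_iff, ← isUnit_germ_iff hV h.mem a]
    constructor
    · rintro hu rfl
      rw [map_zero] at hu
      exact not_isUnit_zero hu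
    · intro ha
      have h3 : X.presheaf.germ V η h.mem a ≠ 0 := fun h0 =>
        ha (h.inj V le_rfl h.mem (by rw [h0, map_zero]))
      obtain ⟨b, hb⟩ := h.field.mul_inv_cancel h3
      exact IsUnit.of_mul_eq_one b hb
  change IsLocalization _ _ at h1
  rw [h2] at h1
  exact h1

/-- If `c` is a unit at the point of the prime element `π` then it is a quotient of elements prime to `π`. -/
theorem exists_unit_frac' (hV : IsAffineOpen V) (h : GenPt V η) {y : X} (hy : y ∈ V) (π : Γ(X, V))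
    (hπ : (hV.primeIdealOf ⟨y, hy⟩).asIdeal = Ideal.span {π}) (c : X.presheaf.stalk y) (hc : IsUnit c) :
    ∃ a b : Γ(X, V), ¬ π ∣ a ∧ ¬ π ∣ b ∧
      sp (h.spec y hy) c * X.presheaf.germ V η h.mem b = X.presheaf.germ V η h.mem a := by
  let := (X.presheaf.germ V y hy).hom.toAlgebra
  have h1 : IsLocalization.AtPrime (X.presheaf.stalk y) (hV.primeIdealOf ⟨y, hy⟩).asIdeal :=
    hV.isLocalization_stalk ⟨y, hy⟩
  obtain ⟨⟨a, b⟩, hab⟩ := IsLocalization.surj (hV.primeIdealOf ⟨y, hy⟩).asIdeal.primeCompl c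
  have hiff : ∀ a, a ∈ (hV.primeIdealOf ⟨y, hy⟩).asIdeal ↔ π ∣ a := by
    intro a; rw [hπ, Ideal.mem_span_singleton]
  have h2 : c * X.presheaf.germ V y hy b.1 = X.presheaf.germ V y hy a := hab
  have hb : IsUnit (X.presheaf.germ V y hy b.1) := (isUnit_germ_iff hV hy b.1).mpr b.2
  refine ⟨a, b.1, fun hd => ?_, fun hd => b.2 ((hiff _).2 hd), ?_⟩
  · have h3 := (hiff _).2 hd
    have h4 := (isUnit_germ_iff hV hy a).mp (by rw [← h2]; exact hc.mul hb)
    exact h4 h3
  · have h3 := congrArg (sp (h.spec y hy)) h2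
    rw [map_mul, sp_germ, sp_germ] at h3
    exact h3

end alg

/-- On an affine open `V` whose ring of functions is factorial, a locally free module of rank one over an
open `U ≤ V` has a global generator. -/
theorem exists_generator {X : Scheme.{u}} {V : X.Opens} (hV : IsAffineOpen V) [IsDomain Γ(X, V)]
    [UniqueFactorizationMonoid Γ(X, V)] {A : X.Modules} {U : X.Opens} (hUV : U ≤ V) (hA : LocGen A U)
    (hE : IsExt A U) (hne : (U : Set X).Nonempty) : ∃ s, IsGen A U s := by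
  obtain ⟨η, hG⟩ := exists_genPt hV
  have hηU : η ∈ U := by
    obtain ⟨y, hy⟩ := hne
    exact hG.mem_of_mem hUV hy
  have key : ∀ y : {y : X // y ∈ U}, ∃ f : Γ(X, V), y.1 ∈ X.basicOpen f ∧ X.basicOpen f ≤ U ∧
      ∃ e, IsGen A (X.basicOpen f) e := by
    intro y
    obtain ⟨W, hyW, hWU, s, hs⟩ := hA y.1 y.2
    obtain ⟨f, hf, hyf⟩ := hV.exists_basicOpen_le ⟨y.1, hyW⟩ (hUV y.2)
    exact ⟨f, hyf, hf.trans hWU, _, hs.mono hf⟩
  choose f hyf hfU e he using key
  have hηf : ∀ i, η ∈ X.basicOpen (f i) := fun i => hG.mem_of_mem (X.basicOpen_le (f i)) (hyf i)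
  have hne : Nonempty {y : X // y ∈ U} := ⟨⟨η, hηU⟩⟩
  let E := A.presheaf.germ _ η (hηf ⟨η, hηU⟩) (e ⟨η, hηU⟩)
  have hEg : CycB.ModStalk.IsGen A η E := isGen_germ (he ⟨η, hηU⟩) _
  have hg : ∀ i, ∃ g : (X.presheaf.stalk η)ˣ,
      A.presheaf.germ _ η (hηf i) (e i) = g • E := fun i =>
    hEg.exists_unit_smul (isGen_germ (he i) (hηf i))
  choose g hg using hg
  let := (X.presheaf.germ V η hG.mem).hom.toAlgebra
  have hfr := isFractionRing_section hV hG
  have hf0 : ∀ i, f i ≠ 0 := by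
    intro i h0
    have h2 := (Scheme.mem_basicOpen X (f i) η hG.mem).mp (hηf i)
    rw [h0, map_zero] at h2
    exact not_isUnit_zero h2
  obtain ⟨γ, h1, h2, -⟩ := exists_glue_units hG.field f hf0 g (by
    intro i j π hπ hi hj
    have hP : (Ideal.span {π}).IsPrime := (Ideal.span_singleton_prime hπ.ne_zero).mpr hπ
    let P : PrimeSpectrum Γ(X, V) := ⟨Ideal.span {π}, hP⟩
    let y : X := hV.fromSpec P
    have hy : y ∈ V := by
      have : y ∈ Set.range hV.fromSpec := ⟨P, rfl⟩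
      rw [hV.range_fromSpec] at this
      exact this
    have hyP : hV.primeIdealOf ⟨y, hy⟩ = P := by
      apply hV.fromSpec.isOpenEmbedding.injective
      rw [hV.fromSpec_primeIdealOf]
    have hyP' : (hV.primeIdealOf ⟨y, hy⟩).asIdeal = Ideal.span {π} := by rw [hyP]
    have hmem : ∀ i, ¬ π ∣ f i → y ∈ X.basicOpen (f i) := by
      intro i hi
      rw [mem_basicOpen_iff_notMem_primeIdealOf hV ⟨y, hy⟩, hyP', Ideal.mem_span_singleton]
      exact hi
    have hO : y ∈ X.basicOpen (f i) ⊓ X.basicOpen (f j) := ⟨hmem i hi, hmem j hj⟩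
    have hηO : η ∈ X.basicOpen (f i) ⊓ X.basicOpen (f j) := ⟨hηf i, hηf j⟩
    obtain ⟨a, ha⟩ := ((he j).mono (inf_le_right : X.basicOpen (f i) ⊓ X.basicOpen (f j) ≤ _)).exists_unit
      ((he i).mono (inf_le_left : X.basicOpen (f i) ⊓ X.basicOpen (f j) ≤ _))
    have h4 := congrArg (A.presheaf.germ (X.basicOpen (f i) ⊓ X.basicOpen (f j)) η hηO) ha
    rw [CycB.ModStalk.germ_smul, germ_res', germ_res', hg, hg, Units.smul_def, Units.smul_def,
      ← mul_smul] at h4
    have h5 := hEg.1 h4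
    obtain ⟨a', b', ha', hb', hab⟩ := exists_unit_frac' hV hG hy π hyP'
      (X.presheaf.germ (X.basicOpen (f i) ⊓ X.basicOpen (f j)) _ hO a.1)
      (a.isUnit.map (X.presheaf.germ (X.basicOpen (f i) ⊓ X.basicOpen (f j)) _ hO).hom)
    refine ⟨a', b', ha', hb', ?_⟩
    rw [sp_germ] at hab
    change (g i : X.presheaf.stalk η) * X.presheaf.germ V η hG.mem b' = g j * X.presheaf.germ V η hG.mem a'
    rw [← hab, ← h5]
    ring)
  -- sections
  have sec : ∀ (i : {y : X // y ∈ U}) (α β : (X.presheaf.stalk η)ˣ) (N : ℕ) (a : Γ(X, V)),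
      X.presheaf.germ V η hG.mem (f i) ^ N * (α : X.presheaf.stalk η) = β * X.presheaf.germ V η hG.mem a →
      ∃ r : Γ(X, X.basicOpen (f i)), X.presheaf.germ _ η (hηf i) r =
        (α : X.presheaf.stalk η) * (β⁻¹ : (X.presheaf.stalk η)ˣ) := by
    intro i α β N a h
    have hu : IsUnit (resO X (X.basicOpen_le (f i)) (f i)) := by
      exact RingedSpace.isUnit_res_basicOpen X.toRingedSpace (f i)
    obtain ⟨u, hu⟩ := hu
    refine ⟨(u⁻¹ : (Γ(X, X.basicOpen (f i)))ˣ) ^ N * resO X (X.basicOpen_le (f i)) a, ?_⟩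
    have h3 : X.presheaf.germ _ η (hηf i) (u : Γ(X, X.basicOpen (f i))) =
        X.presheaf.germ V η hG.mem (f i) := by rw [hu, germ_resO]
    have h4 : X.presheaf.germ _ η (hηf i) (u : Γ(X, X.basicOpen (f i))) *
        X.presheaf.germ _ η (hηf i) ((u⁻¹ : (Γ(X, X.basicOpen (f i)))ˣ) : Γ(X, X.basicOpen (f i))) = 1 := by
      rw [← map_mul, Units.mul_inv, map_one]
    rw [map_mul, map_pow, germ_resO, Units.eq_mul_inv_iff_mul_eq, mul_assoc,
      mul_comm _ (β : X.presheaf.stalk η), ← h, ← h3, ← mul_assoc, ← mul_pow, mul_comm _ (X.presheaf.germ _ η (hηf i) (u : Γ(X, X.basicOpen (f i)))),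
      h4, one_pow, one_mul]
  have hu : ∀ i, ∃ r : (Γ(X, X.basicOpen (f i)))ˣ, X.presheaf.germ _ η (hηf i) r.1 =
        (γ : X.presheaf.stalk η) * ((g i)⁻¹ : (X.presheaf.stalk η)ˣ) := by
    intro i
    obtain ⟨N₁, a₁, e₁⟩ := h1 i
    obtain ⟨N₂, a₂, e₂⟩ := h2 i
    obtain ⟨r, hr⟩ := sec i γ (g i) N₁ a₁ e₁
    obtain ⟨r', hr'⟩ := sec i (g i) γ N₂ a₂ e₂
    have hrr : r * r' = 1 := by
      apply hG.inj _ (X.basicOpen_le (f i)) (hηf i)
      rw [map_mul, hr, hr', map_one, mul_assoc, Units.inv_mul_cancel_left, Units.mul_inv]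
    exact ⟨⟨r, r', hrr, by rw [mul_comm, hrr]⟩, hr⟩
  choose r hr using hu
  have hgerm : ∀ i, A.presheaf.germ (X.basicOpen (f i)) η (hηf i) ((r i).1 • e i) =
        (γ : X.presheaf.stalk η) • E := by
    intro i
    rw [CycB.ModStalk.germ_smul, hg, hr, Units.smul_def, ← mul_smul, mul_assoc,
      Units.inv_mul, mul_one]
  obtain ⟨t, ht⟩ := exists_glue A (U := U) (fun i => X.basicOpen (f i)) hfU (by
      intro y hy
      exact Opens.mem_iSup.mpr ⟨⟨y, hy⟩, hyf ⟨y, hy⟩⟩) (fun i => (r i).1 • e i) (by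
      intro i j
      have hm : η ∈ X.basicOpen (f i) ⊓ X.basicOpen (f j) := ⟨hηf i, hηf j⟩
      refine germ_injective_module hG hA hE (inf_le_left.trans (X.basicOpen_le _)) hm ?_
      rw [germ_res', germ_res', hgerm, hgerm])
  refine ⟨t, isGen_of_cover fun y hy => ⟨X.basicOpen (f ⟨y, hy⟩), hfU _, hyf ⟨y, hy⟩, ?_⟩⟩
  rw [ht ⟨y, hy⟩]
  exact (he _).smul (r _).isUnit

theorem isGen_of_pushforward {X : Scheme.{u}} (U : X.Opens) (L : (U : Scheme.{u}).Modules)
    (s : Γ(L, U.ι ⁻¹ᵁ U))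
    (hs : IsGen ((Scheme.Modules.pushforward U.ι).obj L) U s) :
    IsGen L (U.ι ⁻¹ᵁ U) s := by
  intro W hW
  have hO : U.ι ''ᵁ W ≤ U := by
    rintro _ ⟨y, _, rfl⟩
    exact y.2
  have h1 := hs (U.ι ''ᵁ W) hO
  have h2 : (fun r : Γ(X, U.ι ''ᵁ W) => r • res ((Scheme.Modules.pushforward U.ι).obj L) hO s) =
      (fun r : Γ((U : Scheme.{u}), U.ι ⁻¹ᵁ (U.ι ''ᵁ W)) =>
        r • res L (show U.ι ⁻¹ᵁ (U.ι ''ᵁ W) ≤ U.ι ⁻¹ᵁ U from fun x hx => hO hx) s) ∘
        (U.ι.app (U.ι ''ᵁ W)) := rfl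
  rw [h2] at h1
  have hiso : IsIso (U.ι.app (U.ι ''ᵁ W)) := U.ι.isIso_app _ (by simpa using hO)
  have h3 := (Function.Bijective.of_comp_iff _
    ((ConcreteCategory.isIso_iff_bijective (U.ι.app (U.ι ''ᵁ W))).mp hiso)).mp h1
  have e : U.ι ⁻¹ᵁ (U.ι ''ᵁ W) = W := U.ι.preimage_image_eq W
  have gen : ∀ (W' : (U : Scheme.{u}).Opens) (h' : W' ≤ U.ι ⁻¹ᵁ U) (_ : W' = W),
      Function.Bijective (fun r : Γ((U : Scheme.{u}), W') => r • res L h' s) →
      Function.Bijective (fun r : Γ((U : Scheme.{u}), W) => r • res L hW s) := by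
    rintro W' h' rfl h
    exact h
  exact gen _ _ e h3

/-- Stacks Tag 0BDA (divisors): every invertible module on an open subscheme of the spectrum of a unique factorisation domain is trivial. -/
theorem result (R : Type u) [CommRing R] [IsDomain R] [UniqueFactorizationMonoid R]
    (U : (Spec (CommRingCat.of R)).Opens) (L : (U : Scheme.{u}).Modules) (hL : PicF.IsInvertible L) :
    Nonempty (L ≅ Coh.structureModule (U : Scheme.{u})) := by
  rw [nonempty_iso_iff]
  by_cases hne : (U : Set (Spec (CommRingCat.of R))).Nonempty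
  · let X := Spec (CommRingCat.of R)
    let ε : Γ(X, ⊤) ≃+* R := (Scheme.ΓSpecIso (CommRingCat.of R)).commRingCatIsoToRingEquiv
    have hd : IsDomain Γ(X, ⊤) := MulEquiv.isDomain R ε.toMulEquiv
    have hu : UniqueFactorizationMonoid Γ(X, ⊤) :=
      ε.symm.toMulEquiv.uniqueFactorizationMonoid inferInstance
    obtain ⟨s, hs⟩ := exists_generator (X := X) (isAffineOpen_top X) le_top
      (S0234.locGen_pushforward U L hL) (S0234.isExt_pushforward U L) hne
    have h1 := isGen_of_pushforward U L s hs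
    have h2 : (⊤ : (U : Scheme.{u}).Opens) ≤ U.ι ⁻¹ᵁ U := fun x _ => x.2
    exact ⟨_, h1.mono h2⟩
  · have hall : ∀ (W : (U : Scheme.{u}).Opens) (y : (U : Scheme.{u})), y ∉ W := by
      intro W y
      exact absurd ⟨y.1, y.2⟩ hne
    refine ⟨0, fun W hW => ⟨fun a b _ => subsingletonO_of_notMem (hall W) a b, fun t =>
      ⟨0, subsingleton_of_notMem L (hall W) _ _⟩⟩⟩

end Groth.Agent.S0233
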