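import Groth.Statements.S0235
import Groth.Agent.CurvesA.InvAffine
import Mathlib.AlgebraicGeometry.Morphisms.QuasiFinite

set_option autoImplicit false
universe u
open CategoryTheory CategoryTheory.Limits AlgebraicGeometry
open Curves

namespace Groth.Agent.S0235

open Groth.Agent.Ega4dA.GenSec Groth.Agent.CurvesA.InvAffine TopologicalSpace

/-- Stacks Tag 0BUT (divisors): for a finite morphism π : X → Y and an invertible module L on X, every point y of Y has an open neighbourhood V such that L is trivial on the preimage of V. -/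
theorem result {X Y : Scheme.{u}} (π : X ⟶ Y) [IsFinite π]
    (L : X.Modules) (hL : PicF.IsInvertible L) (y : Y) :
    ∃ V : Y.Opens, y ∈ V ∧ Nonempty (L.restrict (π ⁻¹ᵁ V).ι ≅ Coh.structureModule (↑(π ⁻¹ᵁ V))) := by
  rw [isInvertible_iff] at hL
  obtain ⟨_, ⟨V₀, hV₀, rfl⟩, hyV₀, -⟩ :=
    Y.isBasis_affineOpens.exists_subset_of_mem_open (Set.mem_univ y) isOpen_univ
  have hU₀ : IsAffineOpen (π ⁻¹ᵁ V₀) := hV₀.preimage π
  have hfin : (π ⁻¹' {y}).Finite := π.finite_preimage_singleton y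
  obtain ⟨s, hs⟩ := exists_section_of_finite L hU₀ (fun x _ => hL x) hfin.toFinset (by
    intro x hx
    have : π x = y := by simpa using hx
    change π x ∈ V₀
    rw [this]; exact hyV₀)
  -- the open where `s` generates
  let U₁ : X.Opens := ⨆ W : {W : X.Opens // ∃ h : W ≤ π ⁻¹ᵁ V₀, IsGen L W (res L h s)}, W.1
  have hU₁ : U₁ ≤ π ⁻¹ᵁ V₀ := iSup_le fun W => W.2.1
  have hgen : IsGen L U₁ (res L hU₁ s) := by
    apply isGen_of_cover
    intro x hx
    obtain ⟨⟨W, hW, hWg⟩, hxW⟩ := Opens.mem_iSup.mp hx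
    refine ⟨W, le_iSup (fun W : {W : X.Opens // ∃ h : W ≤ π ⁻¹ᵁ V₀, IsGen L W (res L h s)} => W.1)
      ⟨W, hW, hWg⟩, hxW, ?_⟩
    rwa [res_res]
  have hcl : IsClosed (π '' ((U₁ : Set X)ᶜ)) := π.isClosedMap _ U₁.isOpen.isClosed_compl
  let V : Y.Opens := ⟨(π '' ((U₁ : Set X)ᶜ))ᶜ, hcl.isOpen_compl⟩
  have hVU₁ : π ⁻¹ᵁ V ≤ U₁ := by
    intro x hx
    by_contra hxU
    exact hx ⟨x, hxU, rfl⟩
  refine ⟨V, ?_, ?_⟩
  · rintro ⟨x, hxU, hxy⟩
    apply hxU
    obtain ⟨W, hW, hxW, hWg⟩ := hs x (by simpa using hxy)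
    exact Opens.mem_iSup.mpr ⟨⟨W, hW, hWg⟩, hxW⟩
  · rw [nonempty_iso_iff]
    have hle : (π ⁻¹ᵁ V).ι ''ᵁ ⊤ ≤ π ⁻¹ᵁ V := by simp
    refine ⟨(show Γ(L.restrict (π ⁻¹ᵁ V).ι, ⊤) from res L ((hle.trans hVU₁).trans hU₁) s), ?_⟩
    rw [isGen_restrict_iff]
    have := hgen.mono (hle.trans hVU₁)
    rwa [res_res] at this

end Groth.Agent.S0235
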