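import Groth.Statements.S0237
import Groth.Agent.Pi1A.Agree
-- import your own Groth.Agent.* helpers here

set_option autoImplicit false
universe u
open Pi1

namespace Groth.Agent.S0237

open AlgebraicGeometry CategoryTheory in
/-- Stacks Tag 0BQE. If a morphism of schemes has dense image, pulling back finite etale covers along it is faithful. -/
theorem result {X Y : Scheme.{u}} (f : X ⟶ Y)
    (h : DenseRange f.base) : (FEt.restrict f).Faithful := by
  apply Groth.Agent.Pi1A.Agree.restrict_faithful_of_clopen
  intro T U hU hUr
  rw [Groth.Agent.Pi1A.Agree.range_proj] at hUr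
  have hE : Etale T.hom := T.prop.2
  have hopen : IsOpenMap T.hom := T.hom.isOpenMap
  have hd : Dense (T.hom ⁻¹' Set.range f) := Dense.preimage h hopen
  have : (U : Set T.left) = Set.univ := by
    rw [← hU.closure_eq]
    exact (hd.mono hUr).closure_eq
  exact TopologicalSpace.Opens.ext this

end Groth.Agent.S0237
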