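import Groth.Statements.S0243
import Groth.Agent.Pi1A.Agree
-- import your own Groth.Agent.* helpers here

set_option autoImplicit false
universe u
open Pi1

namespace Groth.Agent.S0243

open AlgebraicGeometry CategoryTheory CategoryTheory.Limits in
/-- Stacks Tag 0EJX. If a closed subscheme meets every connected component of the ambient scheme, restricting finite etale covers to it is a faithful functor. -/
theorem result {X Y : Scheme.{u}} (i : Y ⟶ X) [IsClosedImmersion i]
    (h : ∀ x : X, (connectedComponent x ∩ Set.range i.base).Nonempty) :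
    (FEt.restrict i).Faithful := by
  apply Groth.Agent.Pi1A.Agree.restrict_faithful_of_clopen
  intro T U hU hUr
  rw [Groth.Agent.Pi1A.Agree.range_proj] at hUr
  have hE : Etale T.hom := T.prop.2
  have hF : IsFinite T.hom := T.prop.1
  have hopen : IsOpenMap T.hom := T.hom.isOpenMap
  have hclosed : IsClosedMap T.hom := T.hom.isClosedMap
  by_contra hne
  obtain ⟨t, ht⟩ : ∃ t : T.left, t ∉ U := by
    by_contra hcon
    push Not at hcon
    exact hne (by ext x; simp [hcon x])
  have hC : IsClopen (T.hom '' (U : Set T.left)ᶜ) :=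
    ⟨hclosed _ U.isOpen.isClosed_compl, hopen _ hU.isOpen_compl⟩
  obtain ⟨y, hy, hy'⟩ := h (T.hom t)
  have hy2 : y ∈ T.hom '' (U : Set T.left)ᶜ :=
    hC.connectedComponent_subset ⟨t, ht, rfl⟩ hy
  obtain ⟨s, hs, hsy⟩ := hy2
  exact hs (hUr (show T.hom s ∈ Set.range i by
    rw [hsy]
    exact hy'))

end Groth.Agent.S0243
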