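import Groth.Statements.S0244
import Groth.Agent.Pi1A.NormalFF

set_option autoImplicit false
universe u
open Pi1

namespace Groth.Agent.S0244

open AlgebraicGeometry CategoryTheory CategoryTheory.Limits in
/-- Stacks Tag 0BQI, in the case of a normal integral scheme (normal schemes are geometrically unibranch by Tag 0BQ3, and the statement on fundamental groups is the full faithfulness below by Tag 0BN6). Restricting finite etale covers of a normal integral scheme to a nonempty open subscheme is fully faithful. -/
theorem result {X : Scheme.{u}} [IsIntegral X] (hX : Pi1.IsNormalScheme X) (U : X.Opens)
    (hU : (U : Set X).Nonempty) : (FEt.restrict U.ι).Full ∧ (FEt.restrict U.ι).Faithful := by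
  exact Groth.Agent.Pi1A.NormalFF.restrict_opens hX U hU

end Groth.Agent.S0244
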