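import Groth.Statements.S0251
import Groth.Agent.Pi1A.PSPurityHolds

set_option autoImplicit false
universe u
open Pi1

namespace Groth.Agent.S0251

open AlgebraicGeometry CategoryTheory CategoryTheory.Limits in
/-- Stacks Tag 0EYA (the final assertion). If A is a Noetherian local ring of depth at least 2 and d is at least 1, then purity holds for the local ring of formal power series in d variables over A. -/
theorem result (A : Type u) [CommRing A] [IsNoetherianRing A] [IsLocalRing A] (hA : (2 : ℕ∞) ≤ LocCoh.depth A A)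
    (d : ℕ) (hd : 1 ≤ d) : FEt.PurityHolds (MvPowerSeries (Fin d) A) := by
  obtain ⟨x, hx, y, hy, hxy⟩ := Groth.Agent.Pi1A.DepthTwo.exists_isRegPair_of_two_le_depth A hA
  obtain ⟨n, rfl⟩ : ∃ n, d = n + 1 := ⟨d - 1, by omega⟩
  have hmem : ∀ a ∈ IsLocalRing.maximalIdeal A, (MvPowerSeries.C a : MvPowerSeries (Fin n) A) ∈
      IsLocalRing.maximalIdeal (MvPowerSeries (Fin n) A) := by
    intro a ha
    rw [IsLocalRing.mem_maximalIdeal, mem_nonunits_iff] at ha ⊢
    intro hu
    apply ha
    have := hu.map (MvPowerSeries.constantCoeff (R := A) (σ := Fin n))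
    simpa using this
  refine Groth.Agent.Pi1A.PSPurityHolds.purityHolds_of_ringEquiv
    (MvPowerSeries.finSuccEquiv A n).toRingEquiv.symm ?_
  refine Groth.Agent.Pi1A.PSPurityHolds.purityHolds_powerSeries (MvPowerSeries (Fin n) A)
    (hmem x hx) (hmem y hy) (Groth.Agent.Pi1A.PSPurityHolds.isRegPair_mvPowerSeries hxy) ?_
  exact Groth.Agent.Pi1A.PSPurityHolds.IsRegPair.regular_snd
    (Groth.Agent.Pi1A.PSPurityHolds.isRegPair_mvPowerSeries hxy) (hmem x hx)

end Groth.Agent.S0251
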