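import Groth.Statements.S0252
import Groth.Agent.Pi1A.Clopen
import Groth.Agent.Pi1A.CompSpectral
-- import your own Groth.Agent.* helpers here

set_option autoImplicit false
universe u
open Pi1

namespace Groth.Agent.S0252

open AlgebraicGeometry CategoryTheory CategoryTheory.Limits in
/-- Stacks Tag 0BQA (1). Let f be a morphism between quasi-compact quasi-separated schemes such that base change of finite etale covers along f is an equivalence. Then the induced map on connected components is a homeomorphism. -/
theorem result {X Y : Scheme.{u}} [CompactSpace X] [QuasiSeparatedSpace X] [CompactSpace Y] [QuasiSeparatedSpace Y]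
    (f : X ⟶ Y) (h : (FEt.restrict f).IsEquivalence) :
    IsHomeomorph f.continuous.connectedComponentsMap := by
  apply Groth.Agent.Pi1A.CompSpectral.isHomeomorph_connectedComponentsMap
  · intro V hV hfV
    have := Groth.Agent.Pi1A.Clopen.eq_bot_of_preimage_eq_bot f ⟨V, hV.isOpen⟩ hV.isClosed
      (TopologicalSpace.Opens.ext hfV)
    exact congr(($this : Set Y))
  · intro U hU
    obtain ⟨V, hV, hVU⟩ := Groth.Agent.Pi1A.Clopen.preimage_clopen_surjective f ⟨U, hU.isOpen⟩
      hU.isClosed (Functor.EssSurj.mem_essImage _ _)
    exact ⟨V, ⟨hV, V.isOpen⟩, congr(($hVU : Set X))⟩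

end Groth.Agent.S0252
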