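import Groth.Statements.S0253
-- import your own Groth.Agent.* helpers here

set_option autoImplicit false
universe u
open Pi1

namespace Groth.Agent.S0253

open Polynomial in
/-- Over an integrally closed domain with separably closed fraction field, every monic polynomial
of positive degree has a root modulo any nonzero prime. -/
lemma exists_root_mod (A : Type u) [CommRing A] [IsDomain A] [IsIntegrallyClosed A]
    [IsSepClosed (FractionRing A)] (p : Ideal A) (hp : p ≠ ⊥) :
    ∀ (n : ℕ) (Q : A[X]), Q.Monic → Q.natDegree = n → 0 < n → ∃ x : A, Q.eval x ∈ p := by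
  intro n
  induction n using Nat.strong_induction_on with
  | _ n ih =>
  intro Q hQ hn hpos
  -- a separable monic polynomial has a root
  have key : ∀ G : A[X], G.Monic → 0 < G.natDegree →
      (G.map (algebraMap A (FractionRing A))).Separable → ∃ x : A, G.eval x = 0 := by
    intro G hG hGn hsep
    obtain ⟨y, hy⟩ := IsSepClosed.exists_root (G.map (algebraMap A (FractionRing A)))
      (by
        rw [hG.degree_map]
        rw [Polynomial.degree_eq_natDegree hG.ne_zero]
        exact_mod_cast hGn.ne') hsep
    have hint : IsIntegral A y := ⟨G, hG, by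
      rw [← Polynomial.eval_map]; exact hy⟩
    obtain ⟨x, rfl⟩ := IsIntegrallyClosed.isIntegral_iff.mp hint
    refine ⟨x, ?_⟩
    have : algebraMap A (FractionRing A) (G.eval x) = 0 := by
      rw [← Polynomial.eval_map_apply]
      exact hy
    exact (IsFractionRing.injective A (FractionRing A)) (by simpa using this)
  by_cases hirr : Irreducible Q
  · have hirr' := (Polynomial.Monic.irreducible_iff_irreducible_map_fraction_map
      (K := FractionRing A) hQ).mp hirr
    by_cases hsep : (Q.map (algebraMap A (FractionRing A))).Separable
    · obtain ⟨x, hx⟩ := key Q hQ (hn ▸ hpos) hsep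
      exact ⟨x, by rw [hx]; exact p.zero_mem⟩
    · rw [Polynomial.separable_iff_derivative_ne_zero hirr', not_not] at hsep
      obtain ⟨a, hap, ha0⟩ := Submodule.exists_mem_ne_zero_of_ne_bot hp
      rw [Polynomial.derivative_map] at hsep
      have hder : Polynomial.derivative Q = 0 := by
        have := Polynomial.map_injective _ (IsFractionRing.injective A (FractionRing A))
          (a₁ := Polynomial.derivative Q) (a₂ := 0)
        exact this (by rw [hsep]; simp)
      have hdeg : 1 < Q.natDegree := by
        by_contra hlt
        have h1 : Q.natDegree = 1 := by omega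
        have h2 : Q = X + C (Q.coeff 0) := by
          conv_lhs => rw [hQ.eq_X_add_C h1]
        rw [h2] at hder
        simp at hder
      have hdeg2 : (C a * X : A[X]).degree < Q.degree := by
        refine lt_of_le_of_lt (Polynomial.degree_C_mul_X_le a) ?_
        rw [Polynomial.degree_eq_natDegree hQ.ne_zero]
        exact_mod_cast hdeg
      have hmon : (Q + C a * X).Monic := hQ.add_of_left hdeg2
      have hnd : (Q + C a * X).natDegree = Q.natDegree :=
        Polynomial.natDegree_add_eq_left_of_degree_lt hdeg2
      have hsep2 : ((Q + C a * X).map (algebraMap A (FractionRing A))).Separable := by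
        rw [Polynomial.separable_def, Polynomial.derivative_map]
        simp only [Polynomial.derivative_add, hder, zero_add, Polynomial.derivative_mul,
          Polynomial.derivative_C, zero_mul, Polynomial.derivative_X, mul_one]
        rw [Polynomial.map_C]
        have ha1 : algebraMap A (FractionRing A) a ≠ 0 := by
          intro h0
          exact ha0 ((IsFractionRing.injective A (FractionRing A)) (by simpa using h0))
        refine ⟨0, C (algebraMap A (FractionRing A) a)⁻¹, ?_⟩
        rw [zero_mul, zero_add, ← C_mul, inv_mul_cancel₀ ha1, C_1]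
      obtain ⟨x, hx⟩ := key _ hmon (by omega) hsep2
      refine ⟨x, ?_⟩
      have : Q.eval x = - (a * x) := by
        have := hx
        simp only [Polynomial.eval_add, Polynomial.eval_mul, Polynomial.eval_C,
          Polynomial.eval_X] at this
        exact eq_neg_of_add_eq_zero_left this
      rw [this]
      exact p.neg_mem (p.mul_mem_right _ hap)
  · rw [hQ.irreducible_iff_natDegree'] at hirr
    push Not at hirr
    have hQ1 : Q ≠ 1 := by
      rintro rfl
      simp at hn; omega
    obtain ⟨f, g, hf, hg, hfg, hmem⟩ := hirr hQ1
    rw [Finset.mem_Ioc] at hmem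
    obtain ⟨x, hx⟩ := ih g.natDegree (by omega) g hg rfl hmem.1
    exact ⟨x, by rw [← hfg, Polynomial.eval_mul]; exact p.mul_mem_left _ hx⟩

open AlgebraicGeometry CategoryTheory CategoryTheory.Limits in
/-- Stacks Tag 0BSP. Let A be an integrally closed domain whose fraction field is separably closed. Then the residue field at any nonzero prime ideal of A is algebraically closed. -/
theorem result (A : Type u) [CommRing A] [IsDomain A] [IsIntegrallyClosed A] [IsSepClosed (FractionRing A)]
    (p : Ideal A) [p.IsPrime] (hp : p ≠ ⊥) : IsAlgClosed p.ResidueField := by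
  classical
  refine IsAlgClosed.of_exists_root _ fun f hf hirr => ?_
  obtain ⟨b, hb⟩ := IsLocalization.exist_integer_multiples_of_finset (nonZeroDivisors (A ⧸ p))
    (S := p.ResidueField) (f.support.image f.coeff)
  have hb' : ∀ i, ∃ c : A ⧸ p, algebraMap (A ⧸ p) p.ResidueField c =
      algebraMap (A ⧸ p) p.ResidueField (b : A ⧸ p) * f.coeff i := by
    intro i
    by_cases hi : i ∈ f.support
    · obtain ⟨c, hc⟩ := hb (f.coeff i) (Finset.mem_image_of_mem _ hi)
      exact ⟨c, by rw [hc, Algebra.smul_def]⟩
    · refine ⟨0, ?_⟩
      rw [Polynomial.notMem_support_iff.mp hi]; simp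
  set β : p.ResidueField := algebraMap (A ⧸ p) p.ResidueField (b : A ⧸ p) with hβ
  have hβ0 : β ≠ 0 := by
    intro h0
    exact (nonZeroDivisors.ne_zero b.2) ((IsFractionRing.injective (A ⧸ p) p.ResidueField)
      (by rw [map_zero]; exact h0))
  have hlift : f.scaleRoots β ∈ Polynomial.lifts (algebraMap A p.ResidueField) := by
    rw [Polynomial.lifts_iff_coeff_lifts]
    intro i
    rw [Polynomial.coeff_scaleRoots]
    have hsurj : ∀ z : A ⧸ p, algebraMap (A ⧸ p) p.ResidueField z ∈
        Set.range (algebraMap A p.ResidueField) := by
      intro z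
      obtain ⟨a, rfl⟩ := Ideal.Quotient.mk_surjective z
      exact ⟨a, by rw [IsScalarTower.algebraMap_apply A (A ⧸ p) p.ResidueField]; rfl⟩
    rcases lt_trichotomy i f.natDegree with hi | hi | hi
    · obtain ⟨c, hc⟩ := hb' i
      have : f.coeff i * β ^ (f.natDegree - i) =
          algebraMap (A ⧸ p) p.ResidueField (c * (b : A ⧸ p) ^ (f.natDegree - i - 1)) := by
        rw [map_mul, hc, map_pow, ← hβ]
        have : f.natDegree - i = (f.natDegree - i - 1) + 1 := by omega
        conv_lhs => rw [this, pow_succ]
        ring
      rw [this]; exact hsurj _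
    · subst hi
      simp only [hf.coeff_natDegree, tsub_self, pow_zero, mul_one]
      exact ⟨1, map_one _⟩
    · rw [Polynomial.coeff_eq_zero_of_natDegree_lt hi, zero_mul]
      exact ⟨0, map_zero _⟩
  obtain ⟨Q, hQ, hQd, hQm⟩ := Polynomial.lifts_and_natDegree_eq_and_monic hlift
    ((Polynomial.monic_scaleRoots_iff β).mpr hf)
  obtain ⟨x, hx⟩ := exists_root_mod A p hp Q.natDegree Q hQm rfl (by
    rw [hQd, Polynomial.natDegree_scaleRoots]
    exact hirr.natDegree_pos)
  have hx2 : (f.scaleRoots β).eval (algebraMap A p.ResidueField x) = 0 := by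
    rw [← hQ, Polynomial.eval_map_apply]
    exact (Ideal.algebraMap_residueField_eq_zero).mpr hx
  refine ⟨β⁻¹ * algebraMap A p.ResidueField x, ?_⟩
  have := Polynomial.scaleRoots_eval_mul f (β⁻¹ * algebraMap A p.ResidueField x) β
  rw [mul_inv_cancel_left₀ hβ0, hx2] at this
  exact (mul_eq_zero.mp this.symm).resolve_left (pow_ne_zero _ hβ0)

end Groth.Agent.S0253
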