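import Groth.Statements.S0254
import Groth.Agent.S0253
-- import your own Groth.Agent.* helpers here

set_option autoImplicit false
universe u
open Pi1

namespace Groth.Agent.S0254

open Polynomial in
/-- A monic polynomial of positive degree that becomes separable over the (separably closed)
fraction field of a normal domain has a root in the domain. -/
lemma exists_root_of_separable (A : Type u) [CommRing A] [IsDomain A] [IsIntegrallyClosed A]
    [IsSepClosed (FractionRing A)] (G : A[X]) (hG : G.Monic) (hGn : 0 < G.natDegree)
    (hsep : (G.map (algebraMap A (FractionRing A))).Separable) : ∃ x : A, G.eval x = 0 := by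
  obtain ⟨y, hy⟩ := IsSepClosed.exists_root (G.map (algebraMap A (FractionRing A)))
    (by
      rw [hG.degree_map]
      rw [Polynomial.degree_eq_natDegree hG.ne_zero]
      exact_mod_cast hGn.ne') hsep
  have hint : IsIntegral A y := ⟨G, hG, by
    rw [← Polynomial.eval_map]; exact hy⟩
  obtain ⟨x, rfl⟩ := IsIntegrallyClosed.isIntegral_iff.mp hint
  refine ⟨x, ?_⟩
  have : algebraMap A (FractionRing A) (G.eval x) = 0 := by
    rw [← Polynomial.eval_map_apply]
    exact hy
  exact (IsFractionRing.injective A (FractionRing A)) (by simpa using this)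

open Polynomial in
lemma henselian_aux (A : Type u) [CommRing A] [IsDomain A] [IsLocalRing A] [IsIntegrallyClosed A]
    [IsSepClosed (FractionRing A)] : ∀ (n : ℕ) (f : A[X]) (_ : f.Monic) (_ : f.natDegree = n)
      (a₀ : A) (_ : f.eval a₀ ∈ IsLocalRing.maximalIdeal A)
      (_ : IsUnit (f.derivative.eval a₀)), ∃ a : A, f.IsRoot a ∧
        a - a₀ ∈ IsLocalRing.maximalIdeal A := by
  intro n
  induction n using Nat.strong_induction_on with
  | _ n ih =>
  intro f hf hn a₀ h0 h1
  by_cases hirr : Irreducible f
  · have hirr' := (Polynomial.Monic.irreducible_iff_irreducible_map_fraction_map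
      (K := FractionRing A) hf).mp hirr
    have hder : Polynomial.derivative f ≠ 0 := by
      intro h
      rw [h] at h1
      simp at h1
    have hsep : (f.map (algebraMap A (FractionRing A))).Separable := by
      rw [Polynomial.separable_iff_derivative_ne_zero hirr', Polynomial.derivative_map]
      intro h
      exact hder (Polynomial.map_injective _ (IsFractionRing.injective A (FractionRing A))
        (by rw [h]; simp))
    have hdeg : (f.map (algebraMap A (FractionRing A))).degree = 1 :=
      IsSepClosed.degree_eq_one_of_irreducible _ hirr' hsep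
    rw [hf.degree_map] at hdeg
    have hnd : f.natDegree = 1 := Polynomial.natDegree_eq_of_degree_eq_some hdeg
    have hfX := hf.eq_X_add_C hnd
    refine ⟨-f.coeff 0, ?_, ?_⟩
    · rw [Polynomial.IsRoot.def, hfX]; simp
    · rw [hfX] at h0
      simp only [Polynomial.eval_add, Polynomial.eval_X, Polynomial.eval_C] at h0
      have : - f.coeff 0 - a₀ = - (a₀ + f.coeff 0) := by ring
      rw [this]
      exact (IsLocalRing.maximalIdeal A).neg_mem h0
  · rw [hf.irreducible_iff_natDegree'] at hirr
    push Not at hirr
    have hQ1 : f ≠ 1 := by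
      rintro rfl
      simp at h1
    obtain ⟨g, k, hg, hk, hgk, hmem⟩ := hirr hQ1
    rw [Finset.mem_Ioc] at hmem
    have hgd : f.natDegree = g.natDegree + k.natDegree := by
      rw [← hgk, hg.natDegree_mul hk]
    have hcase : ∀ (g k : A[X]), g.Monic → g * k = f → g.natDegree < n →
        g.eval a₀ ∈ IsLocalRing.maximalIdeal A →
        ∃ a : A, f.IsRoot a ∧ a - a₀ ∈ IsLocalRing.maximalIdeal A := by
      intro g k hg hgk hlt hmem
      obtain ⟨a, ha, ha'⟩ := ih g.natDegree hlt g hg rfl a₀ hmem (by
        rw [← hgk, Polynomial.derivative_mul, Polynomial.eval_add, Polynomial.eval_mul,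
          Polynomial.eval_mul] at h1
        by_contra hcon
        have h2 : g.derivative.eval a₀ ∈ IsLocalRing.maximalIdeal A := hcon
        exact (IsLocalRing.mem_maximalIdeal _).mp ((IsLocalRing.maximalIdeal A).add_mem
          ((IsLocalRing.maximalIdeal A).mul_mem_right _ h2)
          ((IsLocalRing.maximalIdeal A).mul_mem_right _ hmem)) h1)
      exact ⟨a, by
        rw [Polynomial.IsRoot.def, ← hgk, Polynomial.eval_mul, ha.eq_zero, zero_mul], ha'⟩
    rw [← hgk, Polynomial.eval_mul] at h0
    rcases (IsLocalRing.maximalIdeal.isMaximal A).isPrime.mem_or_mem h0 with h | h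
    · exact hcase g k hg hgk (by omega) h
    · exact hcase k g hk (by rw [mul_comm]; exact hgk) (by omega) h

open AlgebraicGeometry CategoryTheory CategoryTheory.Limits in
/-- Stacks Tag 0BSQ. An integrally closed local domain whose fraction field is separably closed is henselian with separably closed residue field (i.e. strictly henselian). -/
theorem result (A : Type u) [CommRing A] [IsDomain A] [IsLocalRing A] [IsIntegrallyClosed A]
    [IsSepClosed (FractionRing A)] :
    HenselianLocalRing A ∧ IsSepClosed (IsLocalRing.ResidueField A) := by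
  refine ⟨⟨fun f hf a₀ h0 h1 => henselian_aux A f.natDegree f hf rfl a₀ h0 h1⟩, ?_⟩
  refine IsSepClosed.of_exists_root _ fun p hp hirr hsep => ?_
  by_cases hm : IsLocalRing.maximalIdeal A = ⊥
  · have hinj : Function.Injective (IsLocalRing.residue A) := by
      rw [injective_iff_map_eq_zero]
      intro a ha
      rw [IsLocalRing.residue_eq_zero_iff, hm] at ha
      exact ha
    let e : A ≃+* IsLocalRing.ResidueField A :=
      RingEquiv.ofBijective (IsLocalRing.residue A) ⟨hinj, IsLocalRing.residue_surjective⟩
    obtain ⟨x, hx⟩ := exists_root_of_separable A (p.map (e.symm : _ →+* A)) (hp.map _)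
      (by rw [hp.natDegree_map]; exact hirr.natDegree_pos) (hsep.map.map)
    refine ⟨e x, ?_⟩
    have : (p.map (e.symm : _ →+* A)).map (e : A →+* IsLocalRing.ResidueField A) = p := by
      rw [Polynomial.map_map]; simp
    rw [← this]
    have h2 := Polynomial.eval_map_apply (p := p.map (e.symm : _ →+* A))
      (f := (e : A →+* IsLocalRing.ResidueField A)) x
    rw [RingEquiv.coe_toRingHom] at h2
    rw [h2, hx, map_zero]
  · obtain ⟨Q, hQ, hQd, hQm⟩ := Polynomial.lifts_and_natDegree_eq_and_monic
      (f := IsLocalRing.residue A) (p := p) (by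
        rw [Polynomial.lifts_iff_coeff_lifts]
        intro n
        exact IsLocalRing.residue_surjective _) hp
    obtain ⟨x, hx⟩ := Groth.Agent.S0253.exists_root_mod A (IsLocalRing.maximalIdeal A) hm
      Q.natDegree Q hQm rfl (by rw [hQd]; exact hirr.natDegree_pos)
    refine ⟨IsLocalRing.residue A x, ?_⟩
    rw [← hQ, Polynomial.eval_map_apply]
    exact (IsLocalRing.residue_eq_zero_iff _).mpr hx

end Groth.Agent.S0254
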