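import Groth.Statements.S0255
import Groth.Agent.Hensel.BranchPurity
import Groth.Agent.Pi1A.QfUnramSch
import Groth.Agent.UnramA.Locus
import Groth.Agent.Hensel.StalkAt

set_option autoImplicit false
universe u
open Pi1

namespace Groth.Agent.S0255

open AlgebraicGeometry CategoryTheory CategoryTheory.Limits in
/-- Stacks Tag 0BMB (purity of branch locus). Let f be a morphism locally of finite type between locally Noetherian schemes and x a point with image y, such that the local ring at x is a normal domain, the local ring at y is regular of the same dimension, this dimension is at least 1, f is quasi-finite at x, and f is unramified at every point of dimension one specializing to x. Then f is etale on an open neighbourhood of x. -/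
theorem result {X Y : Scheme.{u}} (f : X ⟶ Y) [LocallyOfFiniteType f] [IsLocallyNoetherian X]
    [IsLocallyNoetherian Y] (x : X)
    (hx : IsDomain (X.presheaf.stalk x) ∧ IsIntegrallyClosed (X.presheaf.stalk x))
    (hy : IsRegularLocalRing (Y.presheaf.stalk (f.base x)))
    (hq : f.QuasiFiniteAt x)
    (hdim : ringKrullDim (X.presheaf.stalk x) = ringKrullDim (Y.presheaf.stalk (f.base x)))
    (hdim1 : (1 : WithBot ℕ∞) ≤ ringKrullDim (X.presheaf.stalk x))
    (hunr : ∀ x' : X, x' ⤳ x → ringKrullDim (X.presheaf.stalk x') = 1 →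
      (f.stalkMap x').hom.FormallyUnramified) :
    ∃ U : X.Opens, x ∈ U ∧ Etale (U.ι ≫ f) := by
  obtain ⟨V, hV, hxV, -⟩ := TopologicalSpace.Opens.isBasis_iff_nbhd.mp Y.isBasis_affineOpens
    (show f x ∈ (⊤ : Y.Opens) from trivial)
  obtain ⟨U, hU, hxU, hUV⟩ := TopologicalSpace.Opens.isBasis_iff_nbhd.mp X.isBasis_affineOpens
    (show x ∈ f ⁻¹ᵁ V from hxV)
  have hft := f.finiteType_appLE hV hU hUV
  have hqf := hq.quasiFiniteAt hU hV hUV hxU
  have hN : IsNoetherianRing Γ(Y, V) := IsLocallyNoetherian.component_noetherian ⟨V, hV⟩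
  have hstalk : ∀ (x' : X) (hx' : x' ∈ U), (f.stalkMap x').hom.FormallyUnramified → _ :=
    fun x' hx' => Groth.Agent.Pi1A.QfUnramSch.isUnramifiedAt_of_stalkMap f hV hU hUV x' hx'
  rw [Groth.Agent.UnramA.Locus.etale_nhd_iff]
  have hsm := AlgebraicGeometry.formallySmooth_stalkMap_iff V hV U hU hUV hxU
  have hun := Groth.Agent.UnramA.Locus.formallyUnramified_stalkMap_iff V hV U hU hUV hxU
  have hcomap := IsAffineOpen.comap_primeIdealOf_appLE V hV U hU hUV hxU
  suffices h : (f.stalkMap x).hom.FormallySmooth ∧ (f.stalkMap x).hom.FormallyUnramified by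
    obtain ⟨h1, h2⟩ := h
    algebraize [(f.stalkMap x).hom]
    exact Algebra.FormallyEtale.iff_formallyUnramified_and_formallySmooth.mpr
      ⟨inferInstance, inferInstance⟩
  rw [hsm, hun]
  clear hsm hun
  algebraize [(f.appLE V U hUV).hom]
  have hqf' : Algebra.QuasiFiniteAt Γ(Y, V) (hU.primeIdealOf ⟨x, hxU⟩).asIdeal := hqf
  have hp : (hU.primeIdealOf ⟨x, hxU⟩).asIdeal.under Γ(Y, V) =
      (hV.primeIdealOf ⟨f x, hUV hxU⟩).asIdeal := congr($(hcomap).1)
  have key : Algebra.IsEtaleAt Γ(Y, V) (hU.primeIdealOf ⟨x, hxU⟩).asIdeal := by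
    refine Groth.Agent.Hensel.BranchPurity.isEtaleAt_of_height_one _ ?_ ?_ ?_ ?_ ?_
    · have := (Groth.Agent.Hensel.StalkAt.regAt_iff_stalk hV (f x) (hUV hxU)).mpr hy
      convert this
    · exact (Groth.Agent.Hensel.StalkAt.normalAt_iff_stalk hU x hxU).mpr hx
    · rw [Groth.Agent.Pi1A.QfUnramSch.ringKrullDim_stalk hU x hxU] at hdim
      have h2 := Groth.Agent.Pi1A.QfUnramSch.ringKrullDim_stalk hV (f x) (hUV hxU)
      rw [hp]
      have h3 := hdim.trans h2
      exact_mod_cast h3.symm
    · rw [Groth.Agent.Pi1A.QfUnramSch.ringKrullDim_stalk hU x hxU] at hdim1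
      exact_mod_cast hdim1
    · intro q' hq' hle hht
      let y : PrimeSpectrum Γ(X, U) := ⟨q', hq'⟩
      have hyU := Groth.Agent.Pi1A.QfUnramSch.fromSpec_mem hU y
      have hy : hU.primeIdealOf ⟨hU.fromSpec y, hyU⟩ = y :=
        Groth.Agent.Pi1A.QfUnramSch.primeIdealOf_fromSpec hU y hyU
      have h1 := hstalk (hU.fromSpec y) hyU (hunr _ ?_ ?_)
      · rw [hy] at h1
        exact h1
      · have : y ⤳ hU.primeIdealOf ⟨x, hxU⟩ := (PrimeSpectrum.le_iff_specializes _ _).mp hle
        have h2 := this.map hU.fromSpec.continuous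
        rw [hU.fromSpec_primeIdealOf] at h2
        exact h2
      · rw [Groth.Agent.Pi1A.QfUnramSch.ringKrullDim_stalk hU _ hyU, hy, hht]
        rfl
  have key' : Algebra.FormallyEtale Γ(Y, V)
    (Localization.AtPrime (hU.primeIdealOf ⟨x, hxU⟩).asIdeal) := key
  obtain ⟨h1, h2⟩ := Algebra.FormallyEtale.iff_formallyUnramified_and_formallySmooth.mp key'
  exact ⟨h2, h1⟩

end Groth.Agent.S0255
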