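import Groth.Statements.S0257
import Groth.Agent.Pi1A.QfUnramSch

set_option autoImplicit false
universe u
open Pi1

namespace Groth.Agent.S0257

open AlgebraicGeometry CategoryTheory CategoryTheory.Limits in
/-- Stacks Tag 0BJH. Let f be flat and locally of finite type between locally Noetherian schemes, x a point of X which is not a generic point of an irreducible component (its local ring has dimension at least 1), with f quasi-finite at x and unramified at all points of dimension one specializing to x. Then f is etale on an open neighbourhood of x. -/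
theorem result {X Y : Scheme.{u}} (f : X ⟶ Y) [LocallyOfFiniteType f] [Flat f] [IsLocallyNoetherian X]
    [IsLocallyNoetherian Y] (x : X) (hq : f.QuasiFiniteAt x)
    (hdim1 : (1 : WithBot ℕ∞) ≤ ringKrullDim (X.presheaf.stalk x))
    (hunr : ∀ x' : X, x' ⤳ x → ringKrullDim (X.presheaf.stalk x') = 1 →
      (f.stalkMap x').hom.FormallyUnramified) :
    ∃ U : X.Opens, x ∈ U ∧ Etale (U.ι ≫ f) := by
  obtain ⟨V, hV, hxV, -⟩ := TopologicalSpace.Opens.isBasis_iff_nbhd.mp Y.isBasis_affineOpens
    (show f x ∈ (⊤ : Y.Opens) from trivial)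
  obtain ⟨U, hU, hxU, hUV⟩ := TopologicalSpace.Opens.isBasis_iff_nbhd.mp X.isBasis_affineOpens
    (show x ∈ f ⁻¹ᵁ V from hxV)
  refine Groth.Agent.Pi1A.QfUnramSch.exists_etale_of_isUnramifiedAt f hV hU hUV x hxU ?_
  have hft := f.finiteType_appLE hV hU hUV
  have hfl := f.flat_appLE hV hU hUV
  have hqf := hq.quasiFiniteAt hU hV hUV hxU
  have hN : IsNoetherianRing Γ(Y, V) := IsLocallyNoetherian.component_noetherian ⟨V, hV⟩
  have hstalk : ∀ (x' : X) (hx' : x' ∈ U), (f.stalkMap x').hom.FormallyUnramified → _ :=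
    fun x' hx' => Groth.Agent.Pi1A.QfUnramSch.isUnramifiedAt_of_stalkMap f hV hU hUV x' hx'
  algebraize [(f.appLE V U hUV).hom]
  have hqf' : Algebra.QuasiFiniteAt Γ(Y, V) (hU.primeIdealOf ⟨x, hxU⟩).asIdeal := hqf
  refine Groth.Agent.Pi1A.QfUnramAlg.isUnramifiedAt_of_codim_one _ ?_ ?_
  · rw [Groth.Agent.Pi1A.QfUnramSch.ringKrullDim_stalk hU x hxU] at hdim1
    exact_mod_cast hdim1
  · intro q' hq' hle hht
    let y : PrimeSpectrum Γ(X, U) := ⟨q', hq'⟩
    have hyU := Groth.Agent.Pi1A.QfUnramSch.fromSpec_mem hU y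
    have hy : hU.primeIdealOf ⟨hU.fromSpec y, hyU⟩ = y :=
      Groth.Agent.Pi1A.QfUnramSch.primeIdealOf_fromSpec hU y hyU
    have h1 := hstalk (hU.fromSpec y) hyU (hunr _ ?_ ?_)
    · rw [hy] at h1
      exact h1
    · have : y ⤳ hU.primeIdealOf ⟨x, hxU⟩ := (PrimeSpectrum.le_iff_specializes _ _).mp hle
      have h2 := this.map hU.fromSpec.continuous
      rw [hU.fromSpec_primeIdealOf] at h2
      exact h2
    · rw [Groth.Agent.Pi1A.QfUnramSch.ringKrullDim_stalk hU _ hyU, hy, hht]
      rfl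

end Groth.Agent.S0257
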