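import Groth.Statements.S0258
import Groth.Agent.Pi1A.DepthPunctured

set_option autoImplicit false
universe u
open Pi1

namespace Groth.Agent.S0258

open AlgebraicGeometry CategoryTheory CategoryTheory.Limits in
/-- Stacks Tag 0BLQ, with its hypothesis (connected punctured spectrum of the strict henselization) replaced by the sufficient condition depth at least 2, which implies it by Tag 0BLR (Hartshorne's connectedness). For a Noetherian local ring A of depth at least 2, restricting finite etale covers of Spec A to the punctured spectrum is fully faithful. -/
theorem result (A : Type u) [CommRing A] [IsNoetherianRing A] [IsLocalRing A] (hA : (2 : ℕ∞) ≤ LocCoh.depth A A) :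
    (FEt.restrict (FEt.puncturedSpec A).ι).Full ∧ (FEt.restrict (FEt.puncturedSpec A).ι).Faithful := by
  exact Pi1A.FEtHom.full_faithful_of_bijective_app _
    (fun T V => Pi1A.DepthPunctured.bijective_proj_app A hA T V)

end Groth.Agent.S0258
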