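import Groth.Statements.S0262
-- import your own Groth.Agent.* helpers here
import Groth.Agent.Pi1A.FEtFormalGlue
import Mathlib.RingTheory.AdicCompletion.LocalRing
import Mathlib.RingTheory.AdicCompletion.AsTensorProduct
import Mathlib.RingTheory.Flat.FaithfullyFlat.Algebra

set_option autoImplicit false
universe u
open Pi1

namespace Groth.Agent.S0262

open IsLocalRing in
lemma faithfullyFlat (A : Type u) [CommRing A] [IsNoetherianRing A] [IsLocalRing A] :
    (algebraMap A (AdicCompletion (maximalIdeal A) A)).FaithfullyFlat := by
  rw [RingHom.faithfullyFlat_algebraMap_iff]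
  exact Module.FaithfullyFlat.of_flat_of_isLocalHom

lemma dense (A : Type u) [CommRing A] [IsNoetherianRing A] (I : Ideal A) (k : ℕ)
    (s : AdicCompletion I A) :
    ∃ x : A, s - algebraMap A (AdicCompletion I A) x ∈
      (I ^ k).map (algebraMap A (AdicCompletion I A)) := by
  obtain ⟨x, hx⟩ := Submodule.mkQ_surjective _ (AdicCompletion.eval I A k s)
  refine ⟨x, ?_⟩
  have h1 : s - algebraMap A (AdicCompletion I A) x ∈ (AdicCompletion.eval I A k).ker := by
    rw [LinearMap.mem_ker, map_sub, ← hx, sub_eq_zero]
    rfl
  rw [← AdicCompletion.pow_smul_top_eq_ker_eval (IsNoetherian.noetherian I)] at h1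
  rw [← Submodule.restrictScalars_mem A, ← Ideal.smul_top_eq_map]
  exact h1

open AlgebraicGeometry CategoryTheory CategoryTheory.Limits in
/-- Stacks Tag 0BLL. Let A be a Noetherian local ring with completion A^, U the punctured spectrum of A and U' its base change to Spec A^. A finite etale cover V of U is the restriction of a finite etale cover of Spec A if and only if the base change of V to U' is the restriction of a finite etale cover of Spec A^. -/
theorem result (A : Type u) [CommRing A] [IsNoetherianRing A] [IsLocalRing A]
    (V : FEt.Cat (FEt.puncturedSpec A : Scheme.{u})) :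
    (∃ Y : FEt.Cat (Spec (CommRingCat.of A)),
      Nonempty ((FEt.restrict (FEt.puncturedSpec A).ι).obj Y ≅ V)) ↔
    (∃ Y' : FEt.Cat (Spec (CommRingCat.of (AdicCompletion (IsLocalRing.maximalIdeal A) A))),
      Nonempty ((FEt.restrict (pullback.snd (FEt.puncturedSpec A).ι
        (Spec.map (CommRingCat.ofHom
          (algebraMap A (AdicCompletion (IsLocalRing.maximalIdeal A) A)))))).obj Y' ≅
        (FEt.restrict (pullback.fst (FEt.puncturedSpec A).ι
        (Spec.map (CommRingCat.ofHom
          (algebraMap A (AdicCompletion (IsLocalRing.maximalIdeal A) A)))))).obj V)) := by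
  constructor
  · rintro ⟨Y, ⟨e⟩⟩
    refine ⟨(FEt.restrict (Spec.map (CommRingCat.ofHom
          (algebraMap A (AdicCompletion (IsLocalRing.maximalIdeal A) A))))).obj Y, ⟨?_⟩⟩
    refine ?_ ≪≫ (FEt.restrict (pullback.fst (FEt.puncturedSpec A).ι
        (Spec.map (CommRingCat.ofHom
          (algebraMap A (AdicCompletion (IsLocalRing.maximalIdeal A) A)))))).mapIso e
    exact ((MorphismProperty.Over.pullbackComp _ _).app Y).symm ≪≫
      ((MorphismProperty.Over.pullbackCongr pullback.condition.symm).app Y) ≪≫
      ((MorphismProperty.Over.pullbackComp _ _).app Y)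
  · rintro ⟨Y', ⟨e⟩⟩
    refine Pi1A.FEtFormalGlue.exists_extension (CommRingCat.ofHom
          (algebraMap A (AdicCompletion (IsLocalRing.maximalIdeal A) A))) (faithfullyFlat A)
      (IsLocalRing.maximalIdeal A) (IsNoetherian.noetherian _) (fun k s => dense A _ k s)
      (FEt.puncturedSpec A) ?_ V Y' e
    intro x
    change x ≠ IsLocalRing.closedPoint A ↔ _
    rw [not_iff_not]
    constructor
    · rintro rfl
      exact le_rfl
    · intro h
      apply PrimeSpectrum.ext
      exact ((IsLocalRing.maximalIdeal.isMaximal A).eq_of_le x.2.ne_top h).symm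

end Groth.Agent.S0262
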