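import Groth.Statements.S0261
import Groth.Agent.S0260
import Groth.Agent.S0262
import Groth.Agent.S0239
import Groth.Agent.Pi1A.LefExt

set_option autoImplicit false
universe u
open Pi1

namespace Groth.Agent.S0261

open AlgebraicGeometry CategoryTheory CategoryTheory.Limits

open Groth.Agent.Pi1A.FEtAffine

/-- The punctured spectrum of the target of a local homomorphism with `m_A B = m_B` is the
preimage of the punctured spectrum. -/
theorem exists_iso_puncturedSpec (A B : Type u) [CommRing A] [IsLocalRing A] [CommRing B]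
    [IsLocalRing B] (φ : A →+* B)
    (hφ : (IsLocalRing.maximalIdeal A).map φ = IsLocalRing.maximalIdeal B) :
    ∃ e : pullback (FEt.puncturedSpec A).ι (Spec.map (CommRingCat.ofHom φ)) ≅
        (FEt.puncturedSpec B : Scheme.{u}),
      e.hom ≫ (FEt.puncturedSpec B).ι =
        pullback.snd (FEt.puncturedSpec A).ι (Spec.map (CommRingCat.ofHom φ)) := by
  have hrange : (pullback.snd (FEt.puncturedSpec A).ι (Spec.map (CommRingCat.ofHom φ))).opensRange
      = FEt.puncturedSpec B := by
    rw [Scheme.Hom.opensRange_pullbackSnd, Scheme.Opens.opensRange_ι]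
    ext x
    change PrimeSpectrum.comap φ x ≠ IsLocalRing.closedPoint A ↔ x ≠ IsLocalRing.closedPoint B
    refine not_congr ⟨fun h => ?_, fun h => ?_⟩
    · have h1 : x.asIdeal.comap φ = IsLocalRing.maximalIdeal A := congrArg PrimeSpectrum.asIdeal h
      have h2 : IsLocalRing.maximalIdeal B ≤ x.asIdeal := by
        rw [← hφ, Ideal.map_le_iff_le_comap, h1]
      exact PrimeSpectrum.ext
        ((IsLocalRing.maximalIdeal.isMaximal B).eq_of_le x.2.ne_top h2).symm
    · rw [h]
      have h1 : IsLocalRing.maximalIdeal A ≤ (IsLocalRing.maximalIdeal B).comap φ := by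
        rw [← Ideal.map_le_iff_le_comap, hφ]
      refine PrimeSpectrum.ext ?_
      exact ((IsLocalRing.maximalIdeal.isMaximal A).eq_of_le
        (Ideal.IsPrime.ne_top inferInstance) h1).symm
  refine ⟨(pullback.snd (FEt.puncturedSpec A).ι
    (Spec.map (CommRingCat.ofHom φ))).isoOpensRange ≪≫ (Spec (CommRingCat.of B)).isoOfEq hrange, ?_⟩
  simp

/-- Extension over `B` for `A → B` a local homomorphism, `B` henselian of depth at least three. -/
theorem exists_extension (A B : Type u) [CommRing A] [IsLocalRing A] [CommRing B]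
    [IsNoetherianRing B] [HenselianLocalRing B] [Algebra A B]
    (hφ : (IsLocalRing.maximalIdeal A).map (algebraMap A B) = IsLocalRing.maximalIdeal B)
    (hB : (3 : ℕ∞) ≤ LocCoh.depth B B)
    (f : A) (hf : f ∈ IsLocalRing.maximalIdeal A) (V : FEt.Cat (FEt.puncturedSpec A : Scheme.{u}))
    (hV : ∃ Y₀ : FEt.Cat (Spec (CommRingCat.of (A ⧸ Ideal.span {f}))),
      Nonempty ((FEt.restrict (pullback.snd (FEt.puncturedSpec A).ι
        (Spec.map (CommRingCat.ofHom (Ideal.Quotient.mk (Ideal.span {f})))))).obj Y₀ ≅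
        (FEt.restrict (pullback.fst (FEt.puncturedSpec A).ι
        (Spec.map (CommRingCat.ofHom (Ideal.Quotient.mk (Ideal.span {f})))))).obj V)) :
    ∃ Y' : FEt.Cat (Spec (CommRingCat.of B)),
      Nonempty ((FEt.restrict (pullback.snd (FEt.puncturedSpec A).ι
        (Spec.map (CommRingCat.ofHom (algebraMap A B))))).obj Y' ≅
        (FEt.restrict (pullback.fst (FEt.puncturedSpec A).ι
        (Spec.map (CommRingCat.ofHom (algebraMap A B))))).obj V) := by
  obtain ⟨Y₀, ⟨e₀⟩⟩ := hV
  obtain ⟨ε, hε⟩ := exists_iso_puncturedSpec A B (algebraMap A B) hφ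
  let f' : B := algebraMap A B f
  have hf' : f' ∈ IsLocalRing.maximalIdeal B := by
    rw [← hφ]; exact Ideal.mem_map_of_mem _ hf
  let c := Spec.map (CommRingCat.ofHom (algebraMap A B))
  let k := Spec.map (CommRingCat.ofHom (Ideal.Quotient.mk (Ideal.span {f})))
  let k' := Spec.map (CommRingCat.ofHom (Ideal.Quotient.mk (Ideal.span {f'})))
  let ψ : A ⧸ Ideal.span {f} →+* B ⧸ Ideal.span {f'} :=
    Ideal.quotientMap _ (algebraMap A B) (by
      rw [Ideal.span_singleton_le_iff_mem, Ideal.mem_comap]
      exact Ideal.mem_span_singleton_self _)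
  let c₀ := Spec.map (CommRingCat.ofHom ψ)
  have hc : c₀ ≫ k = k' ≫ c := by
    simp only [c₀, k, k', c, ← Spec.map_comp, ← CommRingCat.ofHom_comp]
    congr 2
  have hhens : HenselianRing B (Ideal.span {f'}) :=
    Groth.Agent.Pi1A.LefExt.henselianRing_of_le _ (by
      rw [Ideal.span_singleton_le_iff_mem]; exact hf')
  have hEq : (FEt.restrict k').IsEquivalence := Groth.Agent.S0239.result B (Ideal.span {f'})
  obtain ⟨hFull, hFaith⟩ := Groth.Agent.S0260.result B hB f' hf'
  let Y' := (FEt.restrict k').objPreimage ((FEt.restrict c₀).obj Y₀)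
  let eY' : (FEt.restrict k').obj Y' ≅ (FEt.restrict c₀).obj Y₀ :=
    (FEt.restrict k').objObjPreimageIso _
  let pA := FEt.puncturedSpec A
  let pB := FEt.puncturedSpec B
  let i := pullback.fst pA.ι k
  let s := pullback.snd pA.ι k
  let i' := pullback.fst pB.ι k'
  let s' := pullback.snd pB.ι k'
  let t : (pB : Scheme.{u}) ⟶ pA := ε.inv ≫ pullback.fst pA.ι c
  have ht : t ≫ pA.ι = pB.ι ≫ c := by
    simp only [t, Category.assoc]
    rw [pullback.condition, ← hε]
    simp [c, pA]
    rfl
  let w : pullback pB.ι k' ⟶ pullback pA.ι k := pullback.lift (i' ≫ t) (s' ≫ c₀) (by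
    have h1 : i' ≫ pB.ι = s' ≫ k' := pullback.condition
    calc (i' ≫ t) ≫ pA.ι = i' ≫ (t ≫ pA.ι) := Category.assoc _ _ _
      _ = (i' ≫ pB.ι) ≫ c := by rw [ht, ← Category.assoc]
      _ = s' ≫ (k' ≫ c) := by rw [h1, Category.assoc]
      _ = (s' ≫ c₀) ≫ k := by rw [← hc, ← Category.assoc])
  have hw1 : w ≫ i = i' ≫ t := pullback.lift_fst _ _ _
  have hw2 : w ≫ s = s' ≫ c₀ := pullback.lift_snd _ _ _
  -- isomorphism on the hypersurface
  let iso₀ : (FEt.restrict i').obj ((FEt.restrict pB.ι).obj Y') ≅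
      (FEt.restrict i').obj ((FEt.restrict t).obj V) :=
    ((restrictComp i' pB.ι).symm ≪≫ restrictCongr pullback.condition ≪≫ restrictComp s' k').app Y' ≪≫
    (FEt.restrict s').mapIso eY' ≪≫
    ((restrictComp s' c₀).symm ≪≫ restrictCongr hw2.symm ≪≫ restrictComp w s).app Y₀ ≪≫
    (FEt.restrict w).mapIso e₀ ≪≫
    ((restrictComp w i).symm ≪≫ restrictCongr hw1 ≪≫ restrictComp i' t).app V
  have hF1 : (FEt.restrict i').Full := hFull
  have hF2 : (FEt.restrict i').Faithful := hFaith
  let iso₁ : (FEt.restrict pB.ι).obj Y' ≅ (FEt.restrict t).obj V := (FEt.restrict i').preimageIso iso₀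
  refine ⟨Y', ⟨?_⟩⟩
  have h1 : pullback.snd pA.ι c = ε.hom ≫ pB.ι := hε.symm
  have h2 : ε.hom ≫ t = pullback.fst pA.ι c := by simp [t]
  exact ((restrictCongr h1 ≪≫ restrictComp ε.hom pB.ι).app Y') ≪≫
    (FEt.restrict ε.hom).mapIso iso₁ ≪≫
    ((restrictComp ε.hom t).symm ≪≫ restrictCongr h2).app V

/-- Stacks Tag 0BLM. Let A be a Noetherian local ring of depth at least 3, f an element of the maximal ideal and V a finite etale cover of the punctured spectrum U of A. If the restriction of V to the punctured spectrum of A/fA is the restriction of a finite etale cover of Spec(A/fA), then V is the restriction of a finite etale cover of Spec A. -/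
theorem result (A : Type u) [CommRing A] [IsNoetherianRing A] [IsLocalRing A] (hA : (3 : ℕ∞) ≤ LocCoh.depth A A)
    (f : A) (hf : f ∈ IsLocalRing.maximalIdeal A) (V : FEt.Cat (FEt.puncturedSpec A : Scheme.{u}))
    (hV : ∃ Y₀ : FEt.Cat (Spec (CommRingCat.of (A ⧸ Ideal.span {f}))),
      Nonempty ((FEt.restrict (pullback.snd (FEt.puncturedSpec A).ι
        (Spec.map (CommRingCat.ofHom (Ideal.Quotient.mk (Ideal.span {f})))))).obj Y₀ ≅
        (FEt.restrict (pullback.fst (FEt.puncturedSpec A).ι
        (Spec.map (CommRingCat.ofHom (Ideal.Quotient.mk (Ideal.span {f})))))).obj V)) :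
    ∃ Y : FEt.Cat (Spec (CommRingCat.of A)),
      Nonempty ((FEt.restrict (FEt.puncturedSpec A).ι).obj Y ≅ V) := by
  rw [Groth.Agent.S0262.result]
  let B := AdicCompletion (IsLocalRing.maximalIdeal A) A
  have hN : IsNoetherianRing B := Groth.Agent.Ega4A.CompleteNoeth.isNoetherianRing_adicCompletion _
  have hC : IsAdicComplete (IsLocalRing.maximalIdeal B) B := inferInstance
  have hH : HenselianLocalRing B :=
    Groth.Agent.Pi1A.LefExt.henselianLocalRing_of_isAdicComplete B
  have hφ : (IsLocalRing.maximalIdeal A).map (algebraMap A B) = IsLocalRing.maximalIdeal B :=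
    (AdicCompletion.maximalIdeal_eq_map).symm
  have hflat : Module.Flat A B := inferInstance
  have hloc : IsLocalHom (algebraMap A B) := inferInstance
  have hB : (3 : ℕ∞) ≤ LocCoh.depth B B := by
    have := Groth.Agent.Pi1A.LefExt.le_depth_of_flat (A := A) (B := B) (n := 2)
      (by exact_mod_cast hA)
    exact_mod_cast this
  exact exists_extension A B hφ hB f hf V hV

end Groth.Agent.S0261
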