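import Groth.Statements.S0263
import Groth.Agent.Pi1A.DepthPunctured

set_option autoImplicit false
universe u
open Pi1

namespace Groth.Agent.S0263

open AlgebraicGeometry CategoryTheory CategoryTheory.Limits in
theorem aux {A : CommRingCat.{u}} {Z W : Scheme.{u}} (p : Z ⟶ Spec A) [IsFinite p] [Etale p]
    (j : W ⟶ Z) (hj : Function.Bijective j.appTop) :
    ((Scheme.ΓSpecIso A).inv ≫ (j ≫ p).appTop).hom.Finite ∧
    ((Scheme.ΓSpecIso A).inv ≫ (j ≫ p).appTop).hom.Etale := by
  have : IsAffine Z := isAffine_of_isAffineHom p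
  have hI : IsIso j.appTop := (ConcreteCategory.isIso_iff_bijective _).mpr hj
  have h1 : (Scheme.ΓSpecIso A).inv ≫ (j ≫ p).appTop =
      (Scheme.ΓSpecIso A).inv ≫ p.appTop ≫ j.appTop := by simp
  rw [h1]
  have hfin : p.appTop.hom.Finite := p.finite_appTop
  have het : p.appTop.hom.Etale := by
    have := HasRingHomProperty.appTop @Etale p inferInstance
    exact this
  constructor
  · rw [CommRingCat.hom_comp, CommRingCat.hom_comp]
    refine RingHom.Finite.comp (RingHom.Finite.comp ?_ hfin) ?_
    · exact RingHom.Finite.of_surjective _ hj.2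
    · exact RingHom.Finite.of_surjective _
        ((ConcreteCategory.isIso_iff_bijective _).mp inferInstance).2
  · have h2 := (RingHom.Etale.respectsIso.cancel_left_isIso (Scheme.ΓSpecIso A).inv
      (p.appTop ≫ j.appTop))
    have h3 := (RingHom.Etale.respectsIso.cancel_right_isIso p.appTop j.appTop)
    exact h2.mpr (h3.mpr het)

open AlgebraicGeometry CategoryTheory CategoryTheory.Limits in
theorem bijective_appTop_of_isIso {Z W : Scheme.{u}} (f : Z ⟶ W) (hf : IsIso f) :
    Function.Bijective f.appTop := by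
  have : IsIso (Scheme.Γ.map f.op) := inferInstance
  exact (ConcreteCategory.isIso_iff_bijective (Scheme.Γ.map f.op)).mp this

open AlgebraicGeometry CategoryTheory CategoryTheory.Limits in
/-- Stacks Tag 0BLK, direction (1) ⇒ (2) (the direction written out in the source; it rests on Tag 0BM8). Let A be a Noetherian local ring of depth at least 2 and V a finite etale cover of the punctured spectrum which is the restriction of a finite etale cover of Spec A. Then the ring of global sections of V is finite etale over A. -/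
theorem result (A : Type u) [CommRing A] [IsNoetherianRing A] [IsLocalRing A] (hA : (2 : ℕ∞) ≤ LocCoh.depth A A)
    (V : FEt.Cat (FEt.puncturedSpec A : Scheme.{u}))
    (hV : ∃ Y : FEt.Cat (Spec (CommRingCat.of A)),
      Nonempty ((FEt.restrict (FEt.puncturedSpec A).ι).obj Y ≅ V)) :
    ((Scheme.ΓSpecIso (CommRingCat.of A)).inv ≫ (V.hom ≫ (FEt.puncturedSpec A).ι).appTop).hom.Finite ∧
    ((Scheme.ΓSpecIso (CommRingCat.of A)).inv ≫ (V.hom ≫ (FEt.puncturedSpec A).ι).appTop).hom.Etale := by
  obtain ⟨Y, ⟨e⟩⟩ := hV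
  have hfin : IsFinite Y.hom := Y.prop.1
  have het : Etale Y.hom := Y.prop.2
  have heiso : IsIso e.inv.left := by
    have : IsIso ((MorphismProperty.Over.forget FEt.prop ⊤ _ ⋙ Over.forget _).map e.inv) := inferInstance
    exact this
  have hfac : V.hom ≫ (FEt.puncturedSpec A).ι =
      (e.inv.left ≫ Pi1A.FEtHom.proj (FEt.puncturedSpec A).ι Y) ≫ Y.hom := by
    rw [Category.assoc, (Pi1A.FEtHom.isPullback_proj (FEt.puncturedSpec A).ι Y).w,
      Pi1A.FEtHom.left_comp_hom_assoc]
  rw [hfac]
  refine aux Y.hom _ ?_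
  rw [Scheme.Hom.comp_appTop]
  have h1 := Pi1A.DepthPunctured.bijective_proj_app A hA Y ⊤
  have h2 : Function.Bijective e.inv.left.appTop := bijective_appTop_of_isIso _ heiso
  exact h2.comp h1

end Groth.Agent.S0263
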