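import Groth.Statements.S0264
import Groth.Agent.Pi1A.ConnFibres

set_option autoImplicit false
universe u
open Pi1

namespace Groth.Agent.S0264

open AlgebraicGeometry CategoryTheory CategoryTheory.Limits in
/-- Stacks Tag 0C0J (the surjectivity part of the homotopy exact sequence, in the functor form of Tag 0BN6). Let f : X -> S be flat, proper and of finite presentation with connected and reduced geometric fibres, S connected. Then pulling back finite etale covers along f is fully faithful. -/
theorem result {X S : Scheme.{u}} (f : X ⟶ S) [IsProper f] [Flat f] [LocallyOfFinitePresentation f]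
    [ConnectedSpace S]
    (hfib : ∀ (Ω : Type u) [Field Ω] [IsAlgClosed Ω] (s : Spec (CommRingCat.of Ω) ⟶ S),
      ConnectedSpace ↥(pullback f s) ∧ IsReduced (pullback f s)) :
    (FEt.restrict f).Full ∧ (FEt.restrict f).Faithful := by
  exact Groth.Agent.Pi1A.ConnFibres.restrict_fullyFaithful_of_universallyClosed f
    fun Ω _ _ s => (hfib Ω s).1

end Groth.Agent.S0264
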