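import Groth.Statements.S0267
import Groth.Agent.Pi1A.GaloisExact

set_option autoImplicit false
universe u v
open Pi1

namespace Groth.Agent.S0267

section Aux

open CategoryTheory CategoryTheory.Limits CategoryTheory.Functor PreGaloisCategory
  Pi1A.GaloisExact

variable {C : Type u} [Category.{v} C]
    [GaloisCategory C] {D : Type u} [Category.{v} D] [GaloisCategory D]
    (H : C ⥤ D) [PreservesFiniteLimits H] [PreservesFiniteColimits H]

/-- `X ⟶ T ⨿ T` is constant on fibres if `X` is connected and `T` is terminal. -/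
lemma aux_const (F : C ⥤ FintypeCat.{v}) [FiberFunctor F]
    (X : C) [IsConnected X]
    (f : X ⟶ (⊤_ C) ⨿ (⊤_ C)) (x y : F.obj X) : F.map f x = F.map f y := by
  obtain ⟨g, rfl⟩ := MulAction.exists_smul_eq (Aut F) x y
  rw [← mulAction_naturality]
  have key : ∀ z : F.obj ((⊤_ C) ⨿ (⊤_ C)), g • z = z := by
    intro z
    obtain ⟨hun⟩ := nonempty_unique_of_isTerminal F (X := ⊤_ C) terminalIsTerminal
    have h3 := isCompl_range_of_isColimit F _ _ (coprodIsCoprod (⊤_ C) (⊤_ C))
    have hz : z ∈ Set.range (F.map (coprod.inl : (⊤_ C) ⟶ (⊤_ C) ⨿ (⊤_ C))) ∪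
      Set.range (F.map (coprod.inr : (⊤_ C) ⟶ (⊤_ C) ⨿ (⊤_ C))) := by
      have h4 := h3.sup_eq_top
      exact h4.ge (Set.mem_univ z)
    rcases hz with ⟨t, rfl⟩ | ⟨t, rfl⟩
    · rw [mulAction_naturality]
      congr 1
      exact (hun.uniq _).trans (hun.uniq _).symm
    · rw [mulAction_naturality]
      congr 1
      exact (hun.uniq _).trans (hun.uniq _).symm
  exact (key _).symm

lemma aux_mp (hH : H.Full) (X : C) [IsConnected X] : IsConnected (H.obj X) := by
  let G := GaloisCategory.getFiberFunctor D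
  have hF : FiberFunctor (H ⋙ G) := fiberFunctor_comp H G
  obtain ⟨x⟩ := nonempty_fiber_of_isConnected (H ⋙ G) X
  refine ⟨fun h => not_initial_of_inhabited G (X := H.obj X) x h, fun Y i _ hY => ?_⟩
  obtain ⟨Z, u, ⟨hc⟩⟩ := PreGaloisCategory.monoInducesIsoOnDirectSummand i
  obtain ⟨y⟩ := (not_initial_iff_fiber_nonempty G Y).mp hY
  -- the map to two points
  have hT : IsTerminal (H.obj (⊤_ C)) := IsTerminal.isTerminalObj H _ terminalIsTerminal
  let φ : H.obj X ⟶ H.obj ((⊤_ C) ⨿ (⊤_ C)) :=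
    BinaryCofan.IsColimit.desc hc (hT.from Y ≫ H.map coprod.inl) (hT.from Z ≫ H.map coprod.inr)
  have hφ1 : i ≫ φ = hT.from Y ≫ H.map coprod.inl := BinaryCofan.IsColimit.inl_desc hc _ _
  have hφ2 : u ≫ φ = hT.from Z ≫ H.map coprod.inr := BinaryCofan.IsColimit.inr_desc hc _ _
  obtain ⟨f, hf⟩ := hH.map_surjective φ
  have hZ : IsEmpty (G.obj Z) := by
    by_contra hne
    rw [not_isEmpty_iff] at hne
    obtain ⟨z⟩ := hne
    have h1 : G.map φ (G.map i y) = G.map φ (G.map u z) := by
      have := aux_const (H ⋙ G) X f (G.map i y) (G.map u z)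
      rw [← hf]
      exact this
    have h2 : G.map φ (G.map i y) = (H ⋙ G).map coprod.inl (G.map (hT.from Y) y) := by
      change (G.map i ≫ G.map φ) y = (G.map _ ≫ G.map (H.map _)) y
      rw [← G.map_comp, ← G.map_comp, hφ1]
    have h3 : G.map φ (G.map u z) = (H ⋙ G).map coprod.inr (G.map (hT.from Z) z) := by
      change (G.map u ≫ G.map φ) z = (G.map _ ≫ G.map (H.map _)) z
      rw [← G.map_comp, ← G.map_comp, hφ2]
    have h4 := isCompl_range_of_isColimit (H ⋙ G) _ _ (coprodIsCoprod (⊤_ C) (⊤_ C))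
    exact (h4.disjoint.le_bot ⟨⟨_, rfl⟩, ⟨G.map (hT.from Z) z, (h3.symm.trans (h1.symm.trans h2))⟩⟩ : _)
  obtain ⟨hZi⟩ := (initial_iff_fiber_empty G Z).mpr hZ
  exact isIso_of_isColimit_of_isInitial i u hc hZi

/-- Fullness at connected objects. -/
lemma aux_full_connected (hH : ∀ X : C, IsConnected X → IsConnected (H.obj X)) (X Y : C)
    [IsConnected X] (g : H.obj X ⟶ H.obj Y) : ∃ f : X ⟶ Y, H.map f = g := by
  let G := GaloisCategory.getFiberFunctor D
  have hF : FiberFunctor (H ⋙ G) := fiberFunctor_comp H G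
  obtain ⟨x⟩ := nonempty_fiber_of_isConnected (H ⋙ G) X
  have hX : IsConnected (H.obj X) := hH X inferInstance
  -- the graph
  let e := PreservesLimitPair.iso H X Y
  let Γ : H.obj X ⟶ H.obj (X ⨯ Y) := prod.lift (𝟙 _) g ≫ e.inv
  have hΓ1 : Γ ≫ H.map prod.fst = 𝟙 _ := by
    simp only [Γ, e, Category.assoc, PreservesLimitPair.iso_inv_fst]
    exact prod.lift_fst _ _
  have hΓ2 : Γ ≫ H.map prod.snd = g := by
    simp only [Γ, e, Category.assoc, PreservesLimitPair.iso_inv_snd]
    exact prod.lift_snd _ _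
  have hΓm : Mono Γ := by
    have : Mono (Γ ≫ H.map prod.fst) := by rw [hΓ1]; infer_instance
    exact mono_of_mono Γ (H.map prod.fst)
  obtain ⟨T, i, t, ht, hT, hi⟩ := fiber_in_connected_component (H ⋙ G) (X ⨯ Y) (G.map Γ x)
  have hHT : IsConnected (H.obj T) := hH T hT
  obtain ⟨a, ha⟩ := connected_component_unique G (A := H.obj X) (B := H.obj T) x t Γ (H.map i) ht.symm
  have h1 : a.hom ≫ H.map i = Γ := by
    apply evaluation_injective_of_isConnected G (H.obj X) _ x
    change G.map (a.hom ≫ H.map i) x = G.map Γ x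
    rw [G.map_comp, FintypeCat.comp_apply, ha]
    exact ht
  have h2 : IsIso (H.map (i ≫ prod.fst)) := by
    have : a.hom ≫ H.map (i ≫ prod.fst) = 𝟙 _ := by
      rw [H.map_comp, ← Category.assoc, h1, hΓ1]
    exact IsIso.of_isIso_fac_left this
  have h3 : IsIso (i ≫ prod.fst) := by
    have : IsIso ((H ⋙ G).map (i ≫ prod.fst)) := by
      change IsIso (G.map (H.map (i ≫ prod.fst)))
      infer_instance
    exact isIso_of_reflects_iso _ (H ⋙ G)
  refine ⟨inv (i ≫ prod.fst) ≫ i ≫ prod.snd, ?_⟩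
  have h4 : a.hom = H.map (inv (i ≫ prod.fst)) := by
    rw [← cancel_mono (H.map (i ≫ prod.fst)), ← H.map_comp, IsIso.inv_hom_id, H.map_id,
      H.map_comp, ← Category.assoc, h1, hΓ1]
  rw [H.map_comp, H.map_comp, ← h4, ← Category.assoc, h1, hΓ2]

lemma aux_mpr (hH : ∀ X : C, IsConnected X → IsConnected (H.obj X)) : H.Full := by
  refine ⟨fun {X Y} g => ?_⟩
  obtain ⟨ι, f, j, hc, hf, hι⟩ := has_decomp_connected_components X
  have hH' : IsColimit (Cofan.mk (H.obj X) fun i => H.map (j i)) :=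
    isColimitCofanMkObjOfIsColimit H _ _ hc
  choose k hk using fun i => aux_full_connected H hH (f i) Y (H.map (j i) ≫ g)
  refine ⟨Cofan.IsColimit.desc hc k, ?_⟩
  apply Cofan.IsColimit.hom_ext hH'
  intro i
  change H.map (j i) ≫ _ = H.map (j i) ≫ g
  rw [← H.map_comp, ← hk i]
  congr 1
  exact Cofan.IsColimit.fac hc k i

end Aux

open CategoryTheory CategoryTheory.Limits in
/-- Stacks Tag 0BN6, equivalence of (2) and (3): for an exact functor H between Galois categories, H is fully faithful exactly when it carries connected objects to connected objects (both are equivalent to surjectivity of the induced map on fundamental groups). -/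
theorem result {C : Type u} [Category.{v} C]
    [GaloisCategory C] {D : Type u} [Category.{v} D] [GaloisCategory D]
    (H : C ⥤ D) [PreservesFiniteLimits H] [PreservesFiniteColimits H] :
    (H.Full ∧ H.Faithful) ↔
      ∀ X : C, PreGaloisCategory.IsConnected X → PreGaloisCategory.IsConnected (H.obj X) := by
  refine ⟨fun h X hX => aux_mp H h.1 X, fun h => ⟨aux_mpr H h, ?_⟩⟩
  let G := PreGaloisCategory.GaloisCategory.getFiberFunctor D
  have hF : PreGaloisCategory.FiberFunctor (H ⋙ G) :=
    Pi1A.GaloisExact.fiberFunctor_comp H G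
  have : (H ⋙ G).Faithful := inferInstance
  exact Functor.Faithful.of_comp H G

end Groth.Agent.S0267
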