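import Groth.Statements.S0268
import Groth.Agent.Pi1A.ConnFibres
import Mathlib.AlgebraicGeometry.AlgClosed.Basic
import Mathlib.AlgebraicGeometry.Morphisms.QuasiFinite

set_option autoImplicit false
universe u
open Pi1

namespace Groth.Agent.S0268

open AlgebraicGeometry CategoryTheory CategoryTheory.Limits in
/-- Every point of a finite scheme over a field is the image of a point with values in an
algebraic closure. -/
lemma exists_point {k : Type u} [Field k] {T : Scheme.{u}} (f : T ⟶ Spec (CommRingCat.of k))
    [IsFinite f] (t : T) :
    ∃ (s : Spec (CommRingCat.of (AlgebraicClosure k)) ⟶ T)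
      (x : Spec (CommRingCat.of (AlgebraicClosure k))),
      s ≫ f = Spec.map (CommRingCat.ofHom (algebraMap k (AlgebraicClosure k))) ∧ s x = t := by
  set b := Spec.map (CommRingCat.ofHom (algebraMap k (AlgebraicClosure k))) with hb
  have hs : Surjective b := inferInstance
  obtain ⟨t', ht'⟩ := (pullback.fst f b).surjective t
  have hcl : IsClosed {t'} := by
    have : IsLocallyArtinian (pullback f b) := by
      exact IsLocallyArtinian.of_locallyQuasiFinite (pullback.snd f b)
    exact isClosed_discrete _
  refine ⟨pointOfClosedPoint (pullback.snd f b) t' hcl ≫ pullback.fst f b,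
    IsLocalRing.closedPoint _, ?_, ?_⟩
  · rw [Category.assoc, pullback.condition, pointOfClosedPoint_comp_assoc]
  · rw [Scheme.Hom.comp_apply, pointOfClosedPoint_apply, ht']

open AlgebraicGeometry CategoryTheory CategoryTheory.Limits in
/-- Stacks Tag 0BTX (surjectivity of pi_1(X) -> pi_1(Spec k), in the functor form of Tag 0BN6). Let X be quasi-compact and quasi-separated over a field k with X_{kbar} connected. Then pulling back finite etale k-schemes to X is fully faithful. -/
theorem result (k : Type u) [Field k] {X : Scheme.{u}} (f : X ⟶ Spec (CommRingCat.of k)) [CompactSpace X]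
    [QuasiSeparatedSpace X]
    [ConnectedSpace ↥(pullback f (Spec.map (CommRingCat.ofHom (algebraMap k (AlgebraicClosure k)))))] :
    (FEt.restrict f).Full ∧ (FEt.restrict f).Faithful := by
  have hne : Nonempty X := by
    have h : Nonempty ↥(pullback f (Spec.map (CommRingCat.ofHom
      (algebraMap k (AlgebraicClosure k))))) := inferInstance
    exact h.map (pullback.fst f _)
  have hsurj : Surjective f := ⟨Function.surjective_to_subsingleton _⟩
  have hqc : QuasiCompact f := inferInstance
  have hflat : Flat f := inferInstance
  refine Groth.Agent.Pi1A.ConnFibres.restrict_fullyFaithful_of_isQuotientMap f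
    (fun T => Flat.isQuotientMap_of_surjective _) (fun T t => ?_)
  obtain ⟨s, x, hs, rfl⟩ := exists_point T.hom t
  have : ConnectedSpace ↥(pullback f (s ≫ T.hom)) := by
    rw [hs]
    infer_instance
  have := Groth.Agent.Pi1A.ConnFibres.connectedSpace_pullback f T.hom s
  exact (Groth.Agent.Pi1A.ConnFibres.isConnected_preimage_of_geometric
    (pullback.fst T.hom f) s x).isPreconnected

end Groth.Agent.S0268
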