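import Groth.Statements.S0269
import Groth.Agent.Pi1B.AlgClDesc
import Groth.Agent.Pi1A.FEtLimit

set_option autoImplicit false
universe u
open Pi1

namespace Groth.Agent.S0269

open AlgebraicGeometry CategoryTheory CategoryTheory.Limits in
open Groth.Agent.Pi1B in
/-- The statement for an arbitrary algebraic extension. -/
theorem main (k : Type u) [Field k] {X : Scheme.{u}} (f : X ⟶ Spec (CommRingCat.of k)) [CompactSpace X]
    [QuasiSeparatedSpace X] (K : Type u) [Field K] [Algebra k K] [Algebra.IsAlgebraic k K]
    (V : FEt.Cat (pullback f (LimField.toBase k K))) :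
    ∃ (U : FEt.Cat X) (ι : V ⟶ (FEt.restrict (pullback.fst f (LimField.toBase k K))).obj U),
      IsOpenImmersion ι.left ∧ IsClosedImmersion ι.left := by
  have : QuasiCompact f := inferInstance
  have : QuasiSeparated f := inferInstance
  have hcpt : ∀ i, CompactSpace ((LimField.diag k K f).obj i) := fun i => inferInstance
  have hqs : ∀ i, QuasiSeparatedSpace ((LimField.diag k K f).obj i) := fun i => inferInstance
  have haff : ∀ (i j) (h : i ⟶ j), IsAffineHom ((LimField.diag k K f).map h) :=
    fun i j h => inferInstance
  obtain ⟨i, W, ⟨e⟩⟩ := Groth.Agent.Pi1A.FEtLimit.exists_obj (LimField.isLimitCone k K f) V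
  have hfd : FiniteDimensional k i.unop.1 := i.unop.2
  exact AlgClDesc.exists_clopen_of_finite k f K i.unop.1 ((LimField.cone k K f).π.app i)
    (LimPull.pullCone_fst _ _ _ _ _ _ i) W V e

open AlgebraicGeometry CategoryTheory CategoryTheory.Limits in
/-- Stacks Tag 0BTX (injectivity of pi_1(X_{kbar}) -> pi_1(X), in the functor form of Tag 0BN7). Let X be quasi-compact and quasi-separated over a field k with X_{kbar} connected. Every finite etale cover of X_{kbar} admits an open and closed immersion, over X_{kbar}, into the base change of some finite etale cover of X. -/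
theorem result (k : Type u) [Field k] {X : Scheme.{u}} (f : X ⟶ Spec (CommRingCat.of k)) [CompactSpace X]
    [QuasiSeparatedSpace X]
    [ConnectedSpace ↥(pullback f (Spec.map (CommRingCat.ofHom (algebraMap k (AlgebraicClosure k)))))]
    (V : FEt.Cat (pullback f (Spec.map (CommRingCat.ofHom (algebraMap k (AlgebraicClosure k)))))) :
    ∃ (U : FEt.Cat X) (ι : V ⟶ (FEt.restrict (pullback.fst f (Spec.map (CommRingCat.ofHom (algebraMap k (AlgebraicClosure k)))))).obj U),
      IsOpenImmersion ι.left ∧ IsClosedImmersion ι.left :=
  main k f (AlgebraicClosure k) V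

end Groth.Agent.S0269
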