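import Groth.Statements.S0270
import Groth.Agent.Pi1B.SplitDom

set_option autoImplicit false
universe u
open Pi1

namespace Groth.Agent.S0270

open AlgebraicGeometry CategoryTheory CategoryTheory.Limits in
/-- Stacks Tag 0BTX (exactness at pi_1(X), in the functor form of Tag 0BS9 (3)). Let X be quasi-compact and quasi-separated over a field k with X_{kbar} connected. If a finite etale cover U of X becomes a disjoint union of copies of X_{kbar} after base change to kbar, then there are a finite etale k-scheme V and a surjective X-morphism from V x_k X onto U. -/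
theorem result (k : Type u) [Field k] {X : Scheme.{u}} (f : X ⟶ Spec (CommRingCat.of k)) [CompactSpace X]
    [QuasiSeparatedSpace X]
    [ConnectedSpace ↥(pullback f (Spec.map (CommRingCat.ofHom (algebraMap k (AlgebraicClosure k)))))]
    (U : FEt.Cat X) (hU : Pi1.IsSplit ((FEt.restrict (pullback.fst f (Spec.map (CommRingCat.ofHom (algebraMap k (AlgebraicClosure k)))))).obj U)) :
    ∃ (V : FEt.Cat (Spec (CommRingCat.of k))) (e : (FEt.restrict f).obj V ⟶ U), Surjective e.left := by
  obtain ⟨ι, hι, e, he⟩ := hU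
  let K := AlgebraicClosure k
  let pr := pullback.fst f (Spec.map (CommRingCat.ofHom (algebraMap k (AlgebraicClosure k))))
  let s : ι → (pullback f (Groth.Agent.Pi1B.LimField.toBase k K) ⟶ U.left) := fun i =>
    Sigma.ι (fun _ : ι => pullback f (Groth.Agent.Pi1B.LimField.toBase k K)) i ≫ e.inv ≫
      Groth.Agent.Pi1A.FEtAffine.proj pr U
  have hs : ∀ i, s i ≫ U.hom = pullback.fst f (Groth.Agent.Pi1B.LimField.toBase k K) := by
    intro i
    have h1 := he i
    have h2 := (Groth.Agent.Pi1A.FEtAffine.isPullback pr U).w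
    change (Sigma.ι _ i ≫ e.inv ≫ Groth.Agent.Pi1A.FEtAffine.proj pr U) ≫ U.hom = pr
    rw [Category.assoc, Category.assoc, h2]
    have h3 := congr($h1 ≫ pr)
    rw [Category.id_comp, Category.assoc, Category.assoc] at h3
    exact h3
  choose E hE1 hE2 hE3 hE4 h q hh hq using fun i =>
    Groth.Agent.Pi1B.SplitDom.exists_sepField k f K U (s i) (hs i)
  refine Groth.Agent.Pi1B.SplitDom.exists_cover k f U E h hh ?_
  intro u
  have hsurj : Surjective pr := inferInstance
  have hsurj' : Surjective (Groth.Agent.Pi1A.FEtAffine.proj pr U) :=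
    MorphismProperty.of_isPullback (Groth.Agent.Pi1A.FEtAffine.isPullback pr U).flip hsurj
  obtain ⟨y, hy⟩ := hsurj'.surj u
  obtain ⟨i, x, hx⟩ : ∃ (i : ι) (x : (pullback f (Groth.Agent.Pi1B.LimField.toBase k K) :
      Scheme.{u})), (Sigma.ι (fun _ : ι =>
        pullback f (Groth.Agent.Pi1B.LimField.toBase k K)) i) x = e.hom y :=
    (sigmaOpenCover (fun _ : ι =>
      pullback f (Groth.Agent.Pi1B.LimField.toBase k K))).exists_eq (e.hom y)
  refine ⟨i, q i x, ?_⟩
  rw [← Scheme.Hom.comp_apply, hq]
  change (Sigma.ι _ i ≫ e.inv ≫ Groth.Agent.Pi1A.FEtAffine.proj pr U) x = u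
  rw [Scheme.Hom.comp_apply, Scheme.Hom.comp_apply]
  refine (congrArg (fun z => (Groth.Agent.Pi1A.FEtAffine.proj pr U) (e.inv z)) hx).trans ?_
  rw [← hy]
  refine congrArg _ ?_
  rw [← Scheme.Hom.comp_apply, e.hom_inv_id]
  rfl

end Groth.Agent.S0270
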