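import Groth.Statements.S0271
-- import your own Groth.Agent.* helpers here
import Mathlib.RingTheory.Etale.StandardEtale
import Mathlib.GroupTheory.CosetCover
import Mathlib.RingTheory.Ideal.Pointwise
import Mathlib.RingTheory.Invariant.Basic
import Mathlib.FieldTheory.Finite.Basic
import Mathlib.Algebra.Polynomial.Derivative
import Mathlib.Algebra.Polynomial.Div

set_option autoImplicit false
universe u
open Pi1

namespace Groth.Agent.S0271

section aux

open Polynomial
open scoped Pointwise

variable {G R : Type u} [Group G] [CommRing R] [MulSemiringAction G R]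

/-- The action of a coset of `H` on the `H`-invariants. -/
noncomputable def act (H : Subgroup G) (τ : G ⧸ H) : FixedPoints.subring R H →+* R :=
  (MulSemiringAction.toRingHom G R τ.out).comp (FixedPoints.subring R H).subtype

lemma act_mk (H : Subgroup G) (σ : G) (b : FixedPoints.subring R H) :
    act H (QuotientGroup.mk σ) b = σ • (b : R) := by
  obtain ⟨h, hh⟩ := QuotientGroup.mk_out_eq_mul H σ
  have hb : ((h : G) • (b : R)) = b := b.2 h
  simp [act, hh, mul_smul, hb]

lemma smul_act (H : Subgroup G) (σ : G) (τ : G ⧸ H) (b : FixedPoints.subring R H) :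
    σ • act H τ b = act H (σ • τ) b := by
  obtain ⟨g, rfl⟩ := QuotientGroup.mk_surjective τ
  rw [act_mk, ← mul_smul, ← act_mk]
  rfl

/-- Invariant polynomials come from polynomials with invariant coefficients. -/
lemma exists_map_eq (p : R[X]) (hp : ∀ σ : G, p.map (MulSemiringAction.toRingHom G R σ) = p) :
    ∃ p' : (FixedPoints.subring R G)[X], p'.map (FixedPoints.subring R G).subtype = p := by
  refine ⟨p.toSubring _ ?_, p.map_toSubring _ _⟩
  intro a ha
  obtain ⟨n, hn, rfl⟩ := Polynomial.mem_coeffs_iff.mp ha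
  intro σ
  conv_rhs => rw [← hp σ]
  simp

variable (H : Subgroup G) [Fintype (G ⧸ H)] [DecidableEq (G ⧸ H)]

/-- The polynomial with roots the conjugates of `e`. -/
noncomputable def FF (e : FixedPoints.subring R H) : R[X] := ∏ τ : G ⧸ H, (X - C (act H τ e))

/-- Lagrange interpolation polynomial. -/
noncomputable def QQ (e b : FixedPoints.subring R H) : R[X] :=
  ∑ τ : G ⧸ H, C (act H τ b) * ∏ τ' ∈ Finset.univ.erase τ, (X - C (act H τ' e))

omit [DecidableEq (G ⧸ H)] in
lemma FF_monic (e : FixedPoints.subring R H) : (FF H e).Monic :=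
  Polynomial.monic_prod_of_monic _ _ fun _ _ => Polynomial.monic_X_sub_C _

omit [DecidableEq (G ⧸ H)] in
lemma FF_map (e : FixedPoints.subring R H) (σ : G) :
    (FF H e).map (MulSemiringAction.toRingHom G R σ) = FF H e := by
  simp only [FF, Polynomial.map_prod, Polynomial.map_sub, Polynomial.map_X, Polynomial.map_C,
    MulSemiringAction.toRingHom_apply, smul_act]
  exact Fintype.prod_equiv (MulAction.toPerm σ) _ _ fun _ => rfl

lemma QQ_map (e b : FixedPoints.subring R H) (σ : G) :
    (QQ H e b).map (MulSemiringAction.toRingHom G R σ) = QQ H e b := by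
  simp only [QQ, Polynomial.map_sum, Polynomial.map_mul, Polynomial.map_prod, Polynomial.map_sub,
    Polynomial.map_X, Polynomial.map_C, MulSemiringAction.toRingHom_apply, smul_act]
  refine Fintype.sum_equiv (MulAction.toPerm σ) _ _ fun τ => ?_
  rw [MulAction.toPerm_apply]
  congr 1
  refine Finset.prod_bij (fun τ' _ => σ • τ') ?_ ?_ ?_ ?_
  · intro a ha
    simp only [Finset.mem_erase, Finset.mem_univ, and_true] at ha ⊢
    simpa using ha
  · intro a _ b _ h
    simpa using h
  · intro b hb
    simp only [Finset.mem_erase, Finset.mem_univ, and_true] at hb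
    refine ⟨σ⁻¹ • b, ?_, by simp⟩
    simp only [Finset.mem_erase, Finset.mem_univ, and_true]
    rintro h
    exact hb (by rw [← h, smul_inv_smul])
  · intro a _
    rfl

lemma derivative_FF (e : FixedPoints.subring R H) : derivative (FF H e) = QQ H e 1 := by
  simp only [FF, QQ]
  rw [Polynomial.derivative_prod_finset]
  simp

lemma QQ_eval' (e b : FixedPoints.subring R H) : (QQ H e b).eval (e : R) =
    b * ∏ τ' ∈ Finset.univ.erase (QuotientGroup.mk (1:G) : G ⧸ H), ((e:R) - act H τ' e) := by
  rw [QQ, Polynomial.eval_finsetSum, Finset.sum_eq_single (QuotientGroup.mk (1:G) : G ⧸ H)]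
  · simp [Polynomial.eval_prod, act_mk]
  · intro τ _ hτ
    rw [Polynomial.eval_mul, Polynomial.eval_prod]
    rw [Finset.prod_eq_zero (i := (QuotientGroup.mk (1:G) : G ⧸ H)), mul_zero]
    · simp [hτ.symm]
    · simp [act_mk]
  · simp

lemma QQ_eval (e b : FixedPoints.subring R H) :
    (QQ H e b).eval (e : R) = b * (derivative (FF H e)).eval (e : R) := by
  rw [derivative_FF, QQ_eval', QQ_eval']
  simp

lemma dvd_of_eval_eq_zero (e : FixedPoints.subring R H) (Q : R[X])
    (hQ : ∀ τ : G ⧸ H, Q.eval (act H τ e) = 0) : FF H e ∣ derivative (FF H e) * Q := by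
  rw [derivative_FF, QQ, Finset.sum_mul]
  refine Finset.dvd_sum fun τ _ => ?_
  obtain ⟨Q', hQ'⟩ := Polynomial.dvd_iff_isRoot.mpr (hQ τ)
  rw [hQ']
  have : FF H e = (X - C (act H τ e)) * ∏ τ' ∈ Finset.univ.erase τ, (X - C (act H τ' e)) := by
    rw [FF, Finset.mul_prod_erase Finset.univ (fun τ => X - C (act H τ e)) (Finset.mem_univ τ)]
  rw [this]
  refine ⟨C (act H τ 1) * Q', by ring⟩

omit [Fintype (G ⧸ H)] [DecidableEq (G ⧸ H)] in
/-- If `e` is an `H`-invariant whose conjugates `σ e`, `σ ∉ H`, differ from `e` modulo the prime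
`q`, then the `H`-invariants are étale over the `G`-invariants at the prime under `q`. -/
theorem etale_of_generic [Finite G] (q : Ideal R) [q.IsPrime] (e : FixedPoints.subring R H)
    (he : ∀ σ : G, σ ∉ H → σ • (e:R) - e ∉ q) :
    ∃ g : FixedPoints.subring R H, (g : R) ∉ q ∧
      Algebra.Etale (FixedPoints.subring R G) (Localization.Away g) := by
  classical
  let _ : Fintype (G ⧸ H) := Fintype.ofFinite _
  obtain ⟨F, hF⟩ := exists_map_eq (FF H e) (FF_map H e)
  have hFm : F.Monic := by
    apply Polynomial.monic_of_injective (f := (FixedPoints.subring R G).subtype)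
      Subtype.val_injective
    rw [hF]
    exact FF_monic H e
  -- evaluation
  have haeval : ∀ (p : (FixedPoints.subring R G)[X]) ,
      ((Polynomial.aeval e p : FixedPoints.subring R H) : R) =
        (p.map (FixedPoints.subring R G).subtype).eval (e : R) := by
    intro p
    rw [Polynomial.eval_map, Polynomial.aeval_def, ← Subring.coe_subtype, Polynomial.hom_eval₂]
    rfl
  have haevalσ : ∀ (p : (FixedPoints.subring R G)[X]) (τ : G ⧸ H),
      (p.map (FixedPoints.subring R G).subtype).eval (act H τ e) =
        act H τ (Polynomial.aeval e p) := by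
    intro p τ
    rw [Polynomial.eval_map, Polynomial.aeval_def, Polynomial.hom_eval₂]
    congr 1
    ext a
    obtain ⟨g, rfl⟩ := QuotientGroup.mk_surjective τ
    rw [RingHom.comp_apply, act_mk]
    exact (a.2 g).symm
  let P : StandardEtalePair (FixedPoints.subring R G) :=
    ⟨F, hFm, derivative F, 1, 0, 1, by ring⟩
  let g : FixedPoints.subring R H := Polynomial.aeval e (derivative F)
  let S := Localization.Away g
  have hgR : (g : R) = (derivative (FF H e)).eval (e : R) := by
    rw [haeval, ← hF, Polynomial.derivative_map]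
  have hFe : Polynomial.aeval e F = 0 := by
    apply Subtype.ext
    rw [haeval, hF, FF, Polynomial.eval_prod]
    exact Finset.prod_eq_zero (Finset.mem_univ (QuotientGroup.mk (1:G) : G ⧸ H)) (by simp [act_mk])
  have hmap : P.HasMap (algebraMap (FixedPoints.subring R H) S e) := by
    constructor
    · rw [Polynomial.aeval_algebraMap_apply]
      change algebraMap _ S (Polynomial.aeval e F) = 0
      rw [hFe, map_zero]
    · rw [Polynomial.aeval_algebraMap_apply]
      exact IsLocalization.Away.algebraMap_isUnit g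
  refine ⟨g, ?_, ?_⟩
  · rw [hgR, derivative_FF, QQ_eval', Subring.coe_one, one_mul, Ideal.IsPrime.prod_mem_iff]
    rintro ⟨τ, hτ, hmem⟩
    obtain ⟨σ, rfl⟩ := QuotientGroup.mk_surjective τ
    rw [act_mk] at hmem
    refine he σ ?_ (by rw [← neg_sub]; exact neg_mem hmem)
    intro hσ
    apply (Finset.mem_erase.mp hτ).1
    rw [QuotientGroup.eq]
    simpa using hσ
  · suffices h : Function.Bijective (P.lift _ hmap) from
      Algebra.Etale.of_equiv (AlgEquiv.ofBijective _ h)
    have hliftp : ∀ p : (FixedPoints.subring R G)[X], P.lift _ hmap (Polynomial.aeval P.X p) =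
        algebraMap _ S (Polynomial.aeval e p) := by
      intro p
      rw [← Polynomial.aeval_algHom_apply, P.lift_X, Polynomial.aeval_algebraMap_apply]
    constructor
    · rw [injective_iff_map_eq_zero]
      intro z hz
      let P' : StandardEtalePresentation (FixedPoints.subring R G) P.Ring :=
        ⟨P, P.X, P.hasMap_X, by simpa [StandardEtalePair.lift_X_left] using Function.bijective_id⟩
      obtain ⟨p, n, hp⟩ := P'.exists_mul_aeval_x_g_pow_eq_aeval_x z
      change z * (Polynomial.aeval P.X (derivative F)) ^ n = Polynomial.aeval P.X p at hp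
      have h1 : algebraMap _ S (Polynomial.aeval e p) = 0 := by
        rw [← hliftp, ← hp, map_mul, hz, zero_mul]
      obtain ⟨⟨_, N, rfl⟩, hN⟩ := (IsLocalization.map_eq_zero_iff (Submonoid.powers g) S _).mp h1
      change g ^ N * Polynomial.aeval e p = 0 at hN
      let Q : (FixedPoints.subring R G)[X] := derivative F ^ N * p
      have hQ : Polynomial.aeval e Q = 0 := by
        simp only [Q, map_mul, map_pow]
        exact hN
      have hdvd : F ∣ derivative F * Q := by
        rw [← Polynomial.map_dvd_map (FixedPoints.subring R G).subtype Subtype.val_injective hFm,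
          hF, Polynomial.map_mul, ← Polynomial.derivative_map, hF]
        apply dvd_of_eval_eq_zero
        intro τ
        rw [haevalσ, hQ, map_zero]
      obtain ⟨K, hK⟩ := hdvd
      have hK' := congrArg (Polynomial.aeval P.X) hK
      have hX0 : Polynomial.aeval P.X F = 0 := P.hasMap_X.1
      have hXu : IsUnit (Polynomial.aeval P.X (derivative F)) := P.hasMap_X.2
      simp only [Q, map_mul, map_pow, hX0, zero_mul] at hK'
      rw [hXu.mul_right_eq_zero, (hXu.pow N).mul_right_eq_zero] at hK'
      rw [hK', (hXu.pow n).mul_left_eq_zero] at hp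
      exact hp
    · intro s
      obtain ⟨n, b, hb⟩ := IsLocalization.Away.surj g s
      obtain ⟨Qb, hQb⟩ := exists_map_eq (QQ H e b) (QQ_map H e b)
      have hQb' : Polynomial.aeval e Qb = b * g := by
        apply Subtype.ext
        rw [haeval, hQb, QQ_eval, ← hgR]
        rfl
      have hXu : IsUnit (Polynomial.aeval P.X (derivative F)) := P.hasMap_X.2
      refine ⟨Polynomial.aeval P.X Qb * (↑(hXu.unit⁻¹) : P.Ring) ^ (n + 1), ?_⟩
      have hgu : IsUnit (algebraMap _ S g) := IsLocalization.Away.algebraMap_isUnit g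
      have h2 : P.lift _ hmap (↑(hXu.unit⁻¹) : P.Ring) * algebraMap _ S g = 1 := by
        change _ * algebraMap _ S (Polynomial.aeval e (derivative F)) = 1
        rw [← hliftp, ← map_mul, IsUnit.val_inv_mul, map_one]
      rw [← (hgu.pow n).mul_left_inj, hb, map_mul, hliftp, hQb', map_mul, map_pow]
      calc _ = algebraMap _ S b * ((P.lift _ hmap (↑(hXu.unit⁻¹) : P.Ring)) * algebraMap _ S g) ^ (n+1) := by ring
        _ = _ := by rw [h2]; simp

/-- For `σ` outside the inertia group there is an inertia-invariant moved by `σ` modulo `q`. -/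
lemma exists_sep [Finite G] (q : Ideal R) [q.IsPrime] (σ : G) (hσ : σ ∉ q.inertia G) :
    ∃ m : FixedPoints.subring R (q.inertia G), σ • (m : R) - m ∉ q := by
  by_contra! hcon
  apply hσ
  intro x
  let _ : Fintype (q.inertia G) := Fintype.ofFinite _
  let F : R[X] := MulSemiringAction.charpoly (q.inertia G) x
  have hFc : ∀ n, σ • F.coeff n - F.coeff n ∈ q := fun n =>
    hcon ⟨F.coeff n, fun i => MulSemiringAction.smul_coeff_charpoly x n i⟩
  have h1 : (F.map (MulSemiringAction.toRingHom G R σ)).map (Ideal.Quotient.mk q) =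
      F.map (Ideal.Quotient.mk q) := by
    ext n
    simp only [Polynomial.coeff_map, MulSemiringAction.toRingHom_apply]
    exact (Ideal.Quotient.mk_eq_mk_iff_sub_mem _ _).mpr (hFc n)
  have h2 : (F.map (MulSemiringAction.toRingHom G R σ)).eval (σ • x) = 0 := by
    have := Polynomial.eval_map_apply (MulSemiringAction.toRingHom G R σ) x (p := F)
    rw [MulSemiringAction.toRingHom_apply, MulSemiringAction.eval_charpoly] at this
    simpa using this
  have h3 : (F.map (Ideal.Quotient.mk q)).eval (Ideal.Quotient.mk q (σ • x)) = 0 := by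
    rw [← h1, Polynomial.eval_map_apply, h2, map_zero]
  rw [Polynomial.eval_map_apply, Ideal.Quotient.eq_zero_iff_mem] at h3
  simp only [F] at h3
  rw [MulSemiringAction.charpoly_eq, Polynomial.eval_prod, Ideal.IsPrime.prod_mem_iff] at h3
  obtain ⟨i, -, hi⟩ := h3
  simp only [Polynomial.eval_sub, Polynomial.eval_X, Polynomial.eval_C] at hi
  have h4 : (i : G) • x - x ∈ q := i.2 x
  have h5 : i • x = (i : G) • x := rfl
  have := q.add_mem hi h4
  rw [h5] at this
  simpa using this

/-- an invariant of the inertia group, not in `q` but in all the other conjugates of `q` -/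
lemma exists_cut [Finite G] (q : Ideal R) [q.IsPrime] :
    ∃ c : FixedPoints.subring R (q.inertia G), (c : R) ∉ q ∧
      ∀ σ : G, (¬ ∀ x ∈ q, σ • x ∈ q) → σ • (c : R) ∈ q := by
  classical
  let _ : Fintype G := Fintype.ofFinite _
  let _ : Fintype (q.inertia G) := Fintype.ofFinite _
  have h1 : ∀ σ : G, (¬ ∀ x ∈ q, σ • x ∈ q) → ∃ a, a ∉ q ∧ σ • a ∈ q := by
    intro σ hσ
    by_contra! hcon
    apply hσ
    have h2 : σ⁻¹ • q ≤ q := by
      intro x hx
      by_contra hxq
      refine hcon x hxq ?_
      rwa [Ideal.mem_inv_pointwise_smul_iff] at hx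
    have h3 : σ⁻¹ • q = q := smul_eq_of_smul_le h2
    intro x hx
    rw [← h3, Ideal.mem_inv_pointwise_smul_iff] at hx
    exact hx
  choose! a ha1 ha2 using h1
  let b : R := ∏ σ ∈ Finset.univ.filter (fun σ : G => ¬ ∀ x ∈ q, σ • x ∈ q), a σ
  have hb1 : b ∉ q := by
    rw [Ideal.IsPrime.prod_mem_iff]
    rintro ⟨σ, hσ, hm⟩
    exact ha1 σ (Finset.mem_filter.mp hσ).2 hm
  have hb2 : ∀ σ : G, (¬ ∀ x ∈ q, σ • x ∈ q) → σ • b ∈ q := by
    intro σ hσ
    rw [Finset.smul_prod', Ideal.IsPrime.prod_mem_iff]
    exact ⟨σ, Finset.mem_filter.mpr ⟨Finset.mem_univ _, hσ⟩, ha2 σ hσ⟩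
  refine ⟨⟨∏ h : q.inertia G, h • b, fun i => Finset.smul_prod_perm b i⟩, ?_, ?_⟩
  · change ∏ h : q.inertia G, h • b ∉ q
    rw [Ideal.IsPrime.prod_mem_iff]
    rintro ⟨h, -, hm⟩
    apply hb1
    have h4 : (h : G) • b - b ∈ q := h.2 b
    have h5 : h • b = (h : G) • b := rfl
    have := q.sub_mem hm h4
    rw [h5] at this
    simpa using this
  · intro σ hσ
    change σ • ∏ h : q.inertia G, h • b ∈ q
    rw [Finset.smul_prod', Ideal.IsPrime.prod_mem_iff]
    exact ⟨1, Finset.mem_univ _, by rw [one_smul]; exact hb2 σ hσ⟩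

/-- The existence of the generic element. -/
lemma exists_generic [Finite G] (q : Ideal R) [q.IsPrime] :
    ∃ e : FixedPoints.subring R (q.inertia G),
      ∀ σ : G, σ ∉ q.inertia G → σ • (e : R) - e ∉ q := by
  classical
  let _ : Fintype G := Fintype.ofFinite _
  let I := q.inertia G
  let M := FixedPoints.subring R I
  let N := FixedPoints.subring R G
  let p : G → Submodule N M := fun σ =>
    { carrier := {m | σ • (m : R) - m ∈ q}
      add_mem' := by
        intro a b ha hb
        simp only [Set.mem_ofPred_eq] at ha hb ⊢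
        have := q.add_mem ha hb
        rw [Subring.coe_add, smul_add]
        convert this using 1
        ring
      zero_mem' := by simp
      smul_mem' := by
        intro c m hm
        simp only [Set.mem_ofPred_eq] at hm ⊢
        have h1 : ((c • m : M) : R) = (c : R) * m := rfl
        have h2 : σ • (c : R) = c := c.2 σ
        rw [h1, smul_mul', h2, ← mul_sub]
        exact q.mul_mem_left _ hm }
  by_contra! hcon
  have hcover : ⋃ σ ∈ Finset.univ.filter (fun σ : G => σ ∉ I), (p σ : Set M) = Set.univ := by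
    rw [Set.eq_univ_iff_forall]
    intro e
    obtain ⟨σ, hσ, he⟩ := hcon e
    simp only [Set.mem_iUnion]
    exact ⟨σ, Finset.mem_filter.mpr ⟨Finset.mem_univ _, hσ⟩, he⟩
  obtain ⟨σ, hσ, hfin⟩ := Submodule.exists_finiteIndex_of_cover hcover
  have hσ' : σ ∉ I := (Finset.mem_filter.mp hσ).2
  obtain ⟨m, hm⟩ := exists_sep q σ hσ'
  have hfinN : Finite (N ⧸ q.comap N.subtype) := by
    have : Finite (M ⧸ p σ) := AddSubgroup.finite_quotient_of_finiteIndex
    let φ : N →+ (M ⧸ p σ) := ((p σ).mkQ.comp (LinearMap.toSpanSingleton N M m)).toAddMonoidHom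
    have hφ : ∀ c : N, φ c = 0 → c ∈ q.comap N.subtype := by
      intro c hc
      have h1 : c • m ∈ p σ := (Submodule.Quotient.mk_eq_zero (p σ)).mp hc
      change σ • (((c • m : M)) : R) - ((c • m : M) : R) ∈ q at h1
      have h2 : ((c • m : M) : R) = (c : R) * m := rfl
      have h3 : σ • (c : R) = c := c.2 σ
      rw [h2, smul_mul', h3, ← mul_sub] at h1
      exact (Ideal.IsPrime.mem_or_mem inferInstance h1).resolve_right hm
    refine Finite.of_injective (fun x : N ⧸ q.comap N.subtype => φ (Quotient.out x)) ?_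
    intro x y hxy
    have h4 : φ (Quotient.out x - Quotient.out y) = 0 := by
      rw [map_sub, sub_eq_zero]
      exact hxy
    have h5 := hφ _ h4
    rw [← Ideal.Quotient.eq_zero_iff_mem, map_sub, sub_eq_zero] at h5
    simpa using h5
  have hfinR : Finite (R ⧸ q) := by
    let f0 : (N ⧸ q.comap N.subtype) →+* (R ⧸ q) := Ideal.quotientMap q N.subtype le_rfl
    let n := Fintype.card G
    let P : (Fin (n + 1) → (N ⧸ q.comap N.subtype)) → (R ⧸ q)[X] := fun c =>
      ∑ i : Fin (n + 1), C (f0 (c i)) * X ^ (i : ℕ)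
    have hsub : (Set.univ : Set (R ⧸ q)) ⊆
        ⋃ c : {c : Fin (n + 1) → (N ⧸ q.comap N.subtype) // P c ≠ 0}, {x | (P c).IsRoot x} := by
      intro x _
      obtain ⟨b, rfl⟩ := Ideal.Quotient.mk_surjective x
      let F : R[X] := MulSemiringAction.charpoly G b
      have hFn : F.natDegree = n := by
        simp only [F]
        rw [MulSemiringAction.charpoly_eq, Polynomial.natDegree_prod_of_monic _ _
          (fun i _ => Polynomial.monic_X_sub_C _)]
        have : Nontrivial R := (Ideal.Quotient.mk q).domain_nontrivial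
        simp [n]
      have hFm : F.Monic := MulSemiringAction.monic_charpoly G b
      let c : Fin (n + 1) → (N ⧸ q.comap N.subtype) := fun i =>
        Ideal.Quotient.mk _ ⟨F.coeff i, fun g => MulSemiringAction.smul_coeff_charpoly b i g⟩
      have hPc : P c = F.map (Ideal.Quotient.mk q) := by
        rw [F.as_sum_range_C_mul_X_pow, hFn, Polynomial.map_sum, Finset.sum_range]
        refine Finset.sum_congr rfl fun i _ => ?_
        rw [Polynomial.map_mul, Polynomial.map_C, Polynomial.map_pow, Polynomial.map_X]
        rfl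
      refine Set.mem_iUnion.mpr ⟨⟨c, ?_⟩, ?_⟩
      · rw [hPc]
        exact (hFm.map _).ne_zero
      · change (P c).eval _ = 0
        rw [hPc, Polynomial.eval_map_apply, MulSemiringAction.eval_charpoly, map_zero]
    have hfin : (⋃ c : {c : Fin (n + 1) → (N ⧸ q.comap N.subtype) // P c ≠ 0},
        {x | (P c).IsRoot x}).Finite :=
      Set.finite_iUnion fun c => Polynomial.finite_setOfPred_isRoot c.2
    exact Set.finite_univ_iff.mp (hfin.subset hsub)
  have hfinM : Finite (M ⧸ q.comap M.subtype) := by
    let f1 : (M ⧸ q.comap M.subtype) →+* (R ⧸ q) := Ideal.quotientMap q M.subtype le_rfl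
    exact Finite.of_injective f1 Ideal.quotientMap_injective
  let k := M ⧸ q.comap M.subtype
  have hk : IsField k := Finite.isField_of_domain k
  obtain ⟨ζ, hζ⟩ := IsCyclic.exists_monoid_generator (α := kˣ)
  obtain ⟨c, hc1, hc2⟩ := exists_cut (G := G) q
  have hc0 : (Ideal.Quotient.mk (q.comap M.subtype) c : k) ≠ 0 := by
    rw [Ne, Ideal.Quotient.eq_zero_iff_mem]
    exact hc1
  obtain ⟨c', hc'⟩ := hk.mul_inv_cancel hc0
  obtain ⟨m₁, hm₁⟩ := Ideal.Quotient.mk_surjective (c' * (ζ : k))
  obtain ⟨σ, hσ, he⟩ := hcon (c * m₁)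
  have hē : (Ideal.Quotient.mk (q.comap M.subtype) (c * m₁) : k) = ζ := by
    rw [map_mul, hm₁, ← mul_assoc, hc', one_mul]
  by_cases hq : ∀ x ∈ q, σ • x ∈ q
  · obtain ⟨m, hm⟩ := exists_sep q σ hσ
    by_cases hmq : (m : R) ∈ q
    · exact hm (q.sub_mem (hq _ hmq) hmq)
    · have hm0 : (Ideal.Quotient.mk (q.comap M.subtype) m : k) ≠ 0 := by
        rw [Ne, Ideal.Quotient.eq_zero_iff_mem]
        exact hmq
      obtain ⟨m', hm'⟩ := hk.mul_inv_cancel hm0
      obtain ⟨j, hj⟩ := hζ (Units.mkOfMulEqOne _ _ hm')
      have hj' : (Ideal.Quotient.mk (q.comap M.subtype) m : k) =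
          Ideal.Quotient.mk (q.comap M.subtype) ((c * m₁) ^ j) := by
        rw [map_pow, hē]
        have := congrArg (Units.val) hj
        simpa using this.symm
      rw [Ideal.Quotient.mk_eq_mk_iff_sub_mem] at hj'
      have h6 : (m : R) - ((c * m₁ : M) : R) ^ j ∈ q := hj'
      have h7 : σ • ((m : R) - ((c * m₁ : M) : R) ^ j) ∈ q := hq _ h6
      have h8 : (σ • ((c * m₁ : M) : R)) ^ j - ((c * m₁ : M) : R) ^ j ∈ q :=
        q.mem_of_dvd (sub_dvd_pow_sub_pow _ _ j) he
      apply hm
      have h9 := q.sub_mem (q.add_mem h7 h8) h6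
      rw [smul_sub, smul_pow'] at h9
      convert h9 using 1
      ring
  · have h6 : σ • ((c * m₁ : M) : R) ∈ q := by
      rw [Subring.coe_mul, smul_mul']
      exact q.mul_mem_right _ (hc2 σ hq)
    have h7 : ((c * m₁ : M) : R) ∈ q := by
      have := q.sub_mem h6 he
      simpa using this
    have h8 : (Ideal.Quotient.mk (q.comap M.subtype) (c * m₁) : k) = 0 := by
      rw [Ideal.Quotient.eq_zero_iff_mem]
      exact h7
    rw [hē] at h8
    exact ζ.ne_zero h8


end aux

open AlgebraicGeometry CategoryTheory CategoryTheory.Limits in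
/-- Stacks Tag 0BST. Let a finite group G act on a ring R, let q be a prime of R with inertia subgroup I (elements acting trivially modulo q). Then the ring of I-invariants is etale over the ring of G-invariants at the prime below q: some principal localization of the I-invariants at an element outside that prime is an etale algebra over the G-invariants. -/
theorem result (G R : Type u) [Group G] [Finite G] [CommRing R] [MulSemiringAction G R]
    (q : Ideal R) [q.IsPrime] :
    ∃ g : FixedPoints.subring R (q.inertia G),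
      g ∉ q.comap (FixedPoints.subring R (q.inertia G)).subtype ∧
      Algebra.Etale (FixedPoints.subring R G) (Localization.Away g) := by
  obtain ⟨e, he⟩ := exists_generic (G := G) q
  obtain ⟨g, hg, h⟩ := etale_of_generic (q.inertia G) q e he
  exact ⟨g, hg, h⟩

end Groth.Agent.S0271
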