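import Groth.Statements.S0272
import Groth.Agent.Pi1B.CIPurity
import Groth.Agent.Pi1B.CIInduction
import Groth.Agent.Pi1B.PuncturedIso
import Groth.Agent.S0262
import Groth.Agent.S0247

set_option autoImplicit false
universe u
open Pi1

namespace Groth.Agent.S0272

open Groth.Agent.Pi1B.PuncturedIso in
/-- the completion step -/
theorem purity_of_completion (A : Type u) [CommRing A] [IsLocalRing A] [IsNoetherianRing A]
    (h : FEt.PurityHolds (AdicCompletion (IsLocalRing.maximalIdeal A) A)) : FEt.PurityHolds A := by
  refine ⟨fun V => ?_⟩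
  obtain ⟨Y, ⟨e⟩⟩ := (Groth.Agent.S0262.result A V).2
    (exists_extension_of_purityHolds A (AdicCompletion (IsLocalRing.maximalIdeal A) A)
      (algebraMap A (AdicCompletion (IsLocalRing.maximalIdeal A) A)) (maximalIdeal_le_map_completion A) h _)
  exact ⟨Y, ⟨e⟩⟩

open AlgebraicGeometry CategoryTheory CategoryTheory.Limits in
/-- Stacks Tag 0BPD. Let A be a Noetherian local ring which is a complete intersection (its completion is a regular local ring modulo a regular sequence) of dimension at least 3. Then every finite etale cover of the punctured spectrum of A extends to Spec A. -/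
theorem result (A : Type u) [CommRing A] [IsNoetherianRing A] [IsLocalRing A] (hA : Pi1.IsCompleteIntersection A)
    (hd : (3 : WithBot ℕ∞) ≤ ringKrullDim A) : FEt.PurityHolds A := by
  refine Groth.Agent.Pi1B.CIInduction.ci_induction (fun A _ _ => FEt.PurityHolds A)
    (fun A B _ _ _ _ e h => Groth.Agent.Pi1B.PuncturedIso.purityHolds_of_ringEquiv A B e h)
    (fun A _ _ _ _ h => purity_of_completion A h) 3
    (fun A _ _ h => Groth.Agent.S0247.result A (le_trans (by norm_num) h)) ?_ A hA (by exact_mod_cast hd)
  intro A _ _ _ _ f hf hreg _ _ hdep hA hp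
  exact Groth.Agent.Pi1B.CIPurity.purityHolds_quotient A f hf hreg (by exact_mod_cast hdep) hA hp

end Groth.Agent.S0272
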