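import Groth.Statements.S0273
-- import your own Groth.Agent.* helpers here
import Groth.Agent.Pi1B.FlowSmooth
import Groth.Agent.Pi1A.FEtGlue
import Groth.Agent.S0250
import Groth.Agent.S0259

set_option autoImplicit false
universe u
open Pi1

namespace Groth.Agent.S0273

open AlgebraicGeometry CategoryTheory CategoryTheory.Limits

/-- The Noetherian case. -/
theorem noetherian {X S : Scheme.{u}} (f : X ⟶ S) [Smooth f] [IsLocallyNoetherian S]
    [IsNoetherian X] (U : X.Opens)
    (h3 : ∀ s : S, LocCoh.depth (S.presheaf.stalk s) (S.presheaf.stalk s) ≤ 1 →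
      f.base ⁻¹' {s} ⊆ (U : Set X))
    (h4 : ∀ s : S, f.base ⁻¹' {s} ⊆ closure ((U : Set X) ∩ f.base ⁻¹' {s})) :
    (FEt.restrict U.ι).IsEquivalence := by
  have hd : ∀ x : X, x ∉ U →
      (2 : ℕ∞) ≤ LocCoh.depth (S.presheaf.stalk (f x)) (S.presheaf.stalk (f x)) := by
    intro x hx
    by_contra hcon
    refine hx (h3 (f x) ?_ rfl)
    have h1 := not_le.mp hcon
    exact Order.le_of_lt_add_one h1
  have hdense : Dense (U : Set X) := fun x =>
    closure_mono Set.inter_subset_left (h4 (f x) rfl)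
  obtain ⟨h1, h2⟩ := S0259.result U hdense fun x hx =>
    Pi1B.FlowSmooth.two_le_depth_stalk f x (hd x hx)
  have h5 : (FEt.restrict U.ι).EssSurj := S0250.result U fun x hx => by
    obtain ⟨x', hx', hne, hfx⟩ := Pi1B.FlowSmooth.exists_generization f x U hx (h4 (f x) rfl)
    exact Pi1B.FlowSmooth.purityHolds_stalk f x (hd x hx) x' hx' hne hfx
  exact { }

/-- Stacks Tag 0EYB. Let f : X -> S be smooth with S Noetherian and U an open of X such that U contains the whole fibre over every point of S whose local ring has depth at most 1, and U is dense in every fibre. Then restricting finite etale covers from X to U is an equivalence of categories. -/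
theorem result {X S : Scheme.{u}} (f : X ⟶ S) [Smooth f] [IsNoetherian S] (U : X.Opens)
    (h3 : ∀ s : S, LocCoh.depth (S.presheaf.stalk s) (S.presheaf.stalk s) ≤ 1 → f.base ⁻¹' {s} ⊆ (U : Set X))
    (h4 : ∀ s : S, f.base ⁻¹' {s} ⊆ closure ((U : Set X) ∩ f.base ⁻¹' {s})) :
    (FEt.restrict U.ι).IsEquivalence := by
  have hXN : IsLocallyNoetherian X := LocallyOfFiniteType.isLocallyNoetherian f
  refine Pi1A.FEtGlue.isEquivalence_of_affineOpens _ fun W => ?_
  have hWa : IsAffine W.1.toScheme := W.2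
  have hWN : IsNoetherian W.1.toScheme := { }
  let UW : W.1.toScheme.Opens := W.1.ι ⁻¹ᵁ U
  have hmain : (FEt.restrict UW.ι).IsEquivalence := by
    refine noetherian (W.1.ι ≫ f) UW ?_ ?_
    · intro s hs w hw
      exact h3 s hs hw
    · intro s w hw
      have h5 := h4 s hw
      have h6 : w ∈ W.1.ι ⁻¹' closure ((U : Set X) ∩ f.base ⁻¹' {s}) := h5
      rw [W.1.ι.isOpenEmbedding.isOpenMap.preimage_closure_eq_closure_preimage
        W.1.ι.isOpenEmbedding.continuous] at h6
      exact h6
  refine Pi1A.FEtGlue.isEquivalence_of_arrowIso ?_ hmain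
  have hrange : Set.range (U.ι ∣_ W.1) = Set.range UW.ι := by
    rw [Scheme.Opens.range_ι]
    ext w
    constructor
    · rintro ⟨z, rfl⟩
      have h := morphismRestrict_base_coe U.ι W.1 z
      have h' : W.1.ι ((U.ι ∣_ W.1) z) = U.ι z.1 := h
      change W.1.ι ((U.ι ∣_ W.1) z) ∈ U
      rw [h']
      exact z.1.2
    · intro hw
      have hw' : W.1.ι w ∈ U := hw
      refine ⟨⟨⟨W.1.ι w, hw'⟩, w.2⟩, ?_⟩
      apply W.1.ι.isOpenEmbedding.injective
      exact morphismRestrict_base_coe U.ι W.1 _
  exact Arrow.isoMk (IsOpenImmersion.isoOfRangeEq (U.ι ∣_ W.1) UW.ι hrange) (Iso.refl _)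
    (by simp)

end Groth.Agent.S0273
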