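import Groth.Statements.S0280
import Groth.Agent.Pi1B.Achinger

set_option autoImplicit false
universe u
open Pi1

namespace Groth.Agent.S0280

/-- Stacks Tag 0G1G (after Achinger). Let k be a field of characteristic p > 0 and C a k-algebra which is etale over the polynomial ring in n variables. Then there is a (possibly different) k-algebra map from that polynomial ring to C which is finite etale. -/
theorem result (k : Type u) [Field k] (p : ℕ)
    [Fact p.Prime] [CharP k p] (n : ℕ) (C : Type u) [CommRing C]
    [Algebra (MvPolynomial (Fin n) k) C] [Algebra k C] [IsScalarTower k (MvPolynomial (Fin n) k) C]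
    [Algebra.Etale (MvPolynomial (Fin n) k) C] :
    ∃ φ : MvPolynomial (Fin n) k →ₐ[k] C, φ.toRingHom.Finite ∧ φ.toRingHom.Etale := by
  set x : Fin n → C := fun i => algebraMap (MvPolynomial (Fin n) k) C (MvPolynomial.X i) with hx
  have h1 : (MvPolynomial.aeval x : MvPolynomial (Fin n) k →ₐ[k] C) =
      IsScalarTower.toAlgHom k (MvPolynomial (Fin n) k) C := by
    refine MvPolynomial.algHom_ext fun i => ?_
    simp [hx]
  have h2 : (MvPolynomial.aeval x : MvPolynomial (Fin n) k →ₐ[k] C).toRingHom.Etale := by
    rw [h1]
    exact (RingHom.etale_algebraMap (R := MvPolynomial (Fin n) k) (S := C)).mpr inferInstance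
  obtain ⟨x', hx', -, hf⟩ := Groth.Agent.Pi1B.Achinger.exists_finite_etale p ⊤ x h2 (fun c =>
    ⟨Polynomial.X, Polynomial.monic_X, Subsingleton.elim _ _⟩)
  exact ⟨MvPolynomial.aeval x', hf, hx'⟩

end Groth.Agent.S0280
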