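import Groth.Statements.S0282
import Groth.Agent.Pi1B.AchingerAffine
import Mathlib.Algebra.Algebra.ZMod
import Mathlib.Algebra.Field.ULift
import Mathlib.Algebra.Field.ZMod
import Mathlib.Algebra.CharP.Basic

set_option autoImplicit false
universe u
open scoped TensorProduct
open Pi1

namespace Groth.Agent.S0282

/-- Stacks Tag 0G1I (the covering-level statement proved there, which gives injectivity of pi_1(Z) -> pi_1(X) via Tag 0BN7). Let R be a ring of prime characteristic p, A a quotient ring of R, and B a finite etale A-algebra. Then there are a finite etale R-algebra C and a surjective A-algebra map from A ⊗_R C onto B. -/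
theorem result (p : ℕ) [Fact p.Prime] (R A B : Type u)
    [CommRing R] [CommRing A] [CommRing B] [CharP R p] [Algebra R A]
    (hRA : Function.Surjective (algebraMap R A)) [Algebra A B] [Module.Finite A B]
    [Algebra.Etale A B] :
    ∃ (C : Type u) (_ : CommRing C) (_ : Algebra R C), Module.Finite R C ∧ Algebra.Etale R C ∧
      ∃ ψ : A ⊗[R] C →ₐ[A] B, Function.Surjective ψ := by
  let _ : Algebra (ZMod p) R := ZMod.algebra R p
  let _ : Algebra (ULift.{u} (ZMod p)) R :=
    ((algebraMap (ZMod p) R).comp
      (ULift.ringEquiv : ULift.{u} (ZMod p) ≃+* ZMod p).toRingHom).toAlgebra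
  exact Groth.Agent.Pi1B.AchingerAffine.exists_finite_etale_surj (ULift.{u} (ZMod p)) p R A B hRA

end Groth.Agent.S0282
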