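import Groth.Statements.S0286
import Groth.Agent.S0289
import Groth.Agent.Pi1B.PurInsepSpec
-- import your own Groth.Agent.* helpers here

set_option autoImplicit false
universe u
open Pi1

namespace Groth.Agent.S0286

open AlgebraicGeometry CategoryTheory CategoryTheory.Limits in
/-- Stacks Tag 0BTW (a special case of topological invariance, Tag 0BQN, for the universal homeomorphism X_{k^perf} -> X). For a scheme X over a field k of characteristic p, base change to the perfect closure of k is an equivalence on categories of finite etale covers. -/
theorem result (k : Type u) [Field k] (p : ℕ) [Fact p.Prime] [CharP k p] {X : Scheme.{u}}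
    (f : X ⟶ Spec (CommRingCat.of k)) :
    (FEt.restrict (pullback.fst f
      (Spec.map (CommRingCat.ofHom (PerfectClosure.of k p))))).IsEquivalence := by
  let := (PerfectClosure.of k p).toAlgebra
  have h0 : IsPurelyInseparable k (PerfectClosure k p) :=
    Groth.Agent.Pi1B.PurInsepSpec.isPurelyInseparable_perfectClosure k p
  have h1 : UniversallyInjective (Spec.map (CommRingCat.ofHom (PerfectClosure.of k p))) :=
    Groth.Agent.Pi1B.PurInsepSpec.universallyInjective_specMap k (PerfectClosure k p)
  have h2 : IsIntegralHom (Spec.map (CommRingCat.ofHom (PerfectClosure.of k p))) :=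
    Groth.Agent.Pi1B.PurInsepSpec.isIntegralHom_specMap k (PerfectClosure k p)
  have h3 : Surjective (Spec.map (CommRingCat.ofHom (PerfectClosure.of k p))) :=
    Groth.Agent.Pi1B.PurInsepSpec.surjective_specMap k (PerfectClosure k p)
  have h4 : UniversallyInjective (pullback.fst f
      (Spec.map (CommRingCat.ofHom (PerfectClosure.of k p)))) :=
    UniversallyInjective.isStableUnderBaseChange.of_isPullback
      (IsPullback.of_hasPullback f _).flip h1
  exact Groth.Agent.S0289.result _

end Groth.Agent.S0286
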