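import Groth.Statements.S0288
import Groth.Agent.Pi1B.NormalUnram
import Mathlib.RingTheory.LocalProperties.IntegrallyClosed

set_option autoImplicit false
universe u
open Pi1

namespace Groth.Agent.S0288

open AlgebraicGeometry CategoryTheory CategoryTheory.Limits in
/-- Sections over a nonempty affine open of a normal integral scheme form an integrally closed
domain. -/
theorem isIntegrallyClosed_section {X : Scheme.{u}} [IsIntegral X] (hX : Pi1.IsNormalScheme X)
    {U : X.Opens} (hU : IsAffineOpen U) [Nonempty U] : IsIntegrallyClosed Γ(X, U) := by
  refine IsIntegrallyClosed.of_localization_maximal fun p _ hp => ?_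
  let y : PrimeSpectrum Γ(X, U) := ⟨p, hp.isPrime⟩
  have hy : hU.fromSpec y ∈ U := by
    rw [← SetLike.mem_coe, ← hU.range_fromSpec]; exact ⟨y, rfl⟩
  let := TopCat.Presheaf.algebra_section_stalk X.presheaf ⟨hU.fromSpec y, hy⟩
  have : IsLocalization p.primeCompl (X.presheaf.stalk (hU.fromSpec y)) :=
    hU.isLocalization_stalk' y hy
  have h2 := (hX (hU.fromSpec y)).2
  exact .of_equiv (IsLocalization.algEquiv p.primeCompl (X.presheaf.stalk (hU.fromSpec y))
    (Localization.AtPrime p)).toRingEquiv

open AlgebraicGeometry CategoryTheory CategoryTheory.Limits in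
theorem app_injective_of_generic {X : Scheme.{u}} [IsIntegral X] {Z : Scheme.{u}} (g : Z ⟶ X)
    (z : Z) (hz : g z = genericPoint X) {U : X.Opens} (hzU : g z ∈ U) :
    Function.Injective (g.app U) := by
  have h1 : Function.Injective (X.presheaf.germ U (g z) hzU) :=
    germ_injective_of_isIntegral _ _ _
  have h2 : IsField (X.presheaf.stalk (g z)) := by
    rw [hz]; exact Field.toIsField X.functionField
  let _ := h2.toField
  have h3 : Function.Injective (g.stalkMap z) := RingHom.injective (g.stalkMap z).hom
  have h4 : Function.Injective (Z.presheaf.germ (g ⁻¹ᵁ U) z hzU ∘ g.app U) := by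
    intro a b hab
    apply h1
    apply h3
    have := Scheme.Hom.germ_stalkMap g U z hzU
    have ha := congr($this a)
    have hb := congr($this b)
    simp only [CommRingCat.comp_apply] at ha hb
    rw [ha, hb]
    exact hab
  exact Function.Injective.of_comp h4

open AlgebraicGeometry CategoryTheory CategoryTheory.Limits in
/-- An affine morphism is etale if it is so on sections over affine opens of the target. -/
theorem etale_of_forall_app {X Y : Scheme.{u}} (f : Y ⟶ X) [IsAffineHom f]
    (h : ∀ (U : X.Opens), IsAffineOpen U → (f.app U).hom.Etale) : Etale f := by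
  constructor
  intro U hU V hV e
  have h1 : f.appLE U V e = f.app U ≫ (𝟙 Y : Y ⟶ Y).appLE (f ⁻¹ᵁ U) V (by simpa using e) := by
    simp only [Scheme.Hom.appLE, Scheme.Hom.id_app]
    erw [Category.id_comp]
    rfl
  rw [h1, CommRingCat.hom_comp]
  exact RingHom.Etale.stableUnderComposition _ _ (h U hU)
    (Scheme.Hom.etale_appLE (𝟙 Y) (hU.preimage _) hV _)

open AlgebraicGeometry CategoryTheory CategoryTheory.Limits in
/-- Stacks Tag 0BQK. Let X be a normal integral scheme with function field K, L a finite field extension of K and Y -> X the normalization of X in Spec L. If Y -> X is unramified (formally unramified and locally of finite type), then it is etale, and finite. -/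
theorem result {X : Scheme.{u}} [IsIntegral X] (hX : Pi1.IsNormalScheme X) (L : Type u) [Field L]
    [Algebra X.functionField L] [FiniteDimensional X.functionField L]
    [QuasiCompact (Spec.map (CommRingCat.ofHom (algebraMap X.functionField L)) ≫ X.fromSpecStalk (genericPoint X))]
    [QuasiSeparated (Spec.map (CommRingCat.ofHom (algebraMap X.functionField L)) ≫ X.fromSpecStalk (genericPoint X))]
    [FormallyUnramified (Spec.map (CommRingCat.ofHom (algebraMap X.functionField L)) ≫ X.fromSpecStalk (genericPoint X)).fromNormalization]
    [LocallyOfFiniteType (Spec.map (CommRingCat.ofHom (algebraMap X.functionField L)) ≫ X.fromSpecStalk (genericPoint X)).fromNormalization] :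
    Etale (Spec.map (CommRingCat.ofHom (algebraMap X.functionField L)) ≫ X.fromSpecStalk (genericPoint X)).fromNormalization ∧
    IsFinite (Spec.map (CommRingCat.ofHom (algebraMap X.functionField L)) ≫ X.fromSpecStalk (genericPoint X)).fromNormalization := by
  set g := Spec.map (CommRingCat.ofHom (algebraMap X.functionField L)) ≫
    X.fromSpecStalk (genericPoint X) with hg
  have hfin : IsFinite g.fromNormalization := by
    rw [IsFinite.iff_isIntegralHom_and_locallyOfFiniteType]
    exact ⟨inferInstance, inferInstance⟩
  refine ⟨?_, hfin⟩
  have hgz : ∀ z : Spec (CommRingCat.of L), g z = genericPoint X := by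
    intro z
    have h1 : Spec.map (CommRingCat.ofHom (algebraMap X.functionField L)) z =
        IsLocalRing.closedPoint X.functionField := by
      let _ : Unique (PrimeSpectrum X.functionField) := PrimeSpectrum.instUnique
      exact Subsingleton.elim (α := PrimeSpectrum X.functionField) _ _
    rw [hg, Scheme.Hom.comp_apply, h1]
    exact X.fromSpecStalk_closedPoint
  have key : ∀ (U : X.Opens) (hU : IsAffineOpen U), (g.fromNormalization.app U).hom.Etale := by
    intro U hU
    rcases isEmpty_or_nonempty U with hE | hne
    · have : U = ⊥ := by
        ext x; simpa using fun h => hE.elim ⟨x, h⟩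
      subst this
      have h2 : Subsingleton Γ(g.normalization, g.fromNormalization ⁻¹ᵁ ⊥) := by
        change Subsingleton Γ(g.normalization, ⊥)
        infer_instance
      refine RingHom.Etale.of_bijective ⟨fun a b _ => Subsingleton.elim _ _, fun b => ⟨0, Subsingleton.elim _ _⟩⟩
    · have z : Spec (CommRingCat.of L) := (⊥ : PrimeSpectrum L)
      have hzU : g z ∈ U := by
        rw [hgz z]
        exact ((genericPoint_spec X).mem_open_set_iff U.isOpen).mpr (by simpa using hne)
      have : Nonempty (g ⁻¹ᵁ U) := ⟨⟨z, hzU⟩⟩
      have hinj := app_injective_of_generic g z (hgz z) hzU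
      have := isIntegrallyClosed_section hX hU
      have hff : (g.fromNormalization.app U).hom.FormallyUnramified := by
        rw [Scheme.Hom.app_eq_appLE]
        exact g.fromNormalization.formallyUnramified_appLE hU (hU.preimage _) _
      have hft : (g.fromNormalization.app U).hom.FiniteType := by
        rw [Scheme.Hom.app_eq_appLE]
        exact g.fromNormalization.finiteType_appLE hU (hU.preimage _) _
      let _ := (g.app U).hom.toAlgebra
      have heq := g.fromNormalization_app hU
      rw [heq] at hff hft ⊢
      rw [CommRingCat.hom_comp, RingHom.FormallyUnramified.respectsIso.cancel_right_isIso] at hff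
      rw [CommRingCat.hom_comp, RingHom.finiteType_respectsIso.cancel_right_isIso] at hft
      rw [CommRingCat.hom_comp, RingHom.Etale.respectsIso.cancel_right_isIso]
      rw [CommRingCat.hom_ofHom, RingHom.etale_algebraMap]
      rw [CommRingCat.hom_ofHom, RingHom.formallyUnramified_algebraMap] at hff
      rw [CommRingCat.hom_ofHom, RingHom.finiteType_algebraMap] at hft
      refine Pi1B.NormalUnram.etale_of_unramified ?_
      have hcomp : Function.Injective ((integralClosure Γ(X, U)
          Γ(Spec (CommRingCat.of L), g ⁻¹ᵁ U)).val ∘
          algebraMap Γ(X, U) (integralClosure Γ(X, U) Γ(Spec (CommRingCat.of L), g ⁻¹ᵁ U))) :=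
        hinj
      exact Function.Injective.of_comp hcomp
  exact etale_of_forall_app _ key

end Groth.Agent.S0288
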