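import Groth.Statements.S0290
import Groth.Agent.Pi1B.FieldGal3
import Groth.Agent.S0295

set_option autoImplicit false
universe u
open Pi1

namespace Groth.Agent.S0290

open AlgebraicGeometry CategoryTheory CategoryTheory.Limits FintypeCatDiscrete in
/-- Stacks Tag 0BNE (1) with Tag 03QR (stated without the compatibility with the fibre functor): for a field K, the category of finite etale K-schemes is equivalent to the category of finite sets with a continuous action of the absolute Galois group of K. -/
theorem result (K : Type u) [Field K] :
    Nonempty (FEt.Cat (Spec (CommRingCat.of K)) ≌ ContAction FintypeCat.{u} (Field.absoluteGaloisGroup K)) := by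
  have : ConnectedSpace (Spec (CommRingCat.of K)) :=
    inferInstanceAs (ConnectedSpace (PrimeSpectrum K))
  obtain ⟨_, F, hF, ⟨e⟩⟩ :=
    Groth.Agent.S0295.result (Groth.Agent.Pi1B.FieldGal.geomPt K)
  exact Groth.Agent.Pi1B.FieldGal.nonempty_equiv K F e

end Groth.Agent.S0290
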