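import Groth.Statements.S0291
import Groth.Agent.Pi1B.Hartogs

set_option autoImplicit false
universe u
open Pi1

namespace Groth.Agent.S0291

open AlgebraicGeometry CategoryTheory CategoryTheory.Limits in
/-- Stacks Tag 0BM8. Let A be a Noetherian local ring and B a finite A-algebra such that the local rings of Spec B at all closed points have depth at least 2. Then restriction from global sections of Spec B to sections over the preimage of the punctured spectrum of A is an isomorphism. -/
theorem result (A B : Type u) [CommRing A] [IsNoetherianRing A] [IsLocalRing A] [CommRing B] [Algebra A B]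
    [Module.Finite A B]
    (h : ∀ (m : Ideal B) (_ : m.IsMaximal), (2 : ℕ∞) ≤ LocCoh.depth (Localization.AtPrime m) (Localization.AtPrime m)) :
    IsIso ((Spec (CommRingCat.of B)).presheaf.map (homOfLE (le_top :
      Spec.map (CommRingCat.ofHom (algebraMap A B)) ⁻¹ᵁ FEt.puncturedSpec A ≤ ⊤)).op) := by
  have : IsNoetherianRing B := IsNoetherianRing.of_finite A B
  let J : Ideal B := (IsLocalRing.maximalIdeal A).map (algebraMap A B)
  obtain ⟨x, hx, y, hy, hxy⟩ := Groth.Agent.Pi1B.RegPair.exists_isRegPair J (by
    intro p hp hJp
    have hcomap : p.comap (algebraMap A B) = IsLocalRing.maximalIdeal A := by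
      refine ((IsLocalRing.maximalIdeal.isMaximal A).eq_of_le ?_ (Ideal.map_le_iff_le_comap.mp hJp)).symm
      exact (Ideal.IsPrime.comap _).ne_top
    have hmax : p.IsMaximal := by
      apply Ideal.isMaximal_of_isIntegral_of_isMaximal_comap (R := A) p
      rw [hcomap]; infer_instance
    exact h p hmax)
  let e := (Scheme.ΓSpecIso (CommRingCat.of B)).symm.commRingCatIsoToRingEquiv
  have h1 := hxy.of_ringEquiv e
  have h2 := Groth.Agent.Pi1B.Hartogs.isRegPairOn_of_flat (𝟙 (Spec (CommRingCat.of B)))
    (isAffineOpen_top _) h1
  have hD : ∀ z ∈ J, (Spec (CommRingCat.of B)).basicOpen (e z) ≤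
      Spec.map (CommRingCat.ofHom (algebraMap A B)) ⁻¹ᵁ FEt.puncturedSpec A := by
    intro z hz q hq
    have hq' : z ∉ q.asIdeal := by
      have h3 : (Spec (CommRingCat.of B)).basicOpen (e z) = PrimeSpectrum.basicOpen z :=
        basicOpen_eq_of_affine (R := CommRingCat.of B) z
      rw [h3] at hq
      exact hq
    intro hq2
    apply hq'
    have hq3 : q.asIdeal.comap (algebraMap A B) = IsLocalRing.maximalIdeal A :=
      congrArg PrimeSpectrum.asIdeal hq2
    have : J ≤ q.asIdeal := by
      rw [Ideal.map_le_iff_le_comap, hq3]
    exact this hz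
  rw [ConcreteCategory.isIso_iff_bijective]
  exact h2.res_bijective le_top (hD x hx) (hD y hy)

end Groth.Agent.S0291
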