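import Groth.Statements.S0293
import Groth.Agent.Pi1B.OpenPair
import Groth.Agent.Pi1B.RestrictProp
import Groth.Agent.Pi1B.RegPairUnramified

set_option autoImplicit false
universe u
open Pi1

namespace Groth.Agent.S0293

open AlgebraicGeometry CategoryTheory CategoryTheory.Limits in
/-- Stacks Tag 0EY6 (3), global form: let X be locally Noetherian, U an open such that the local rings of X outside U have depth at least 2, and Y -> X finite, etale over U, with local rings of depth at least 2 at points outside the preimage of U. Then Y -> X is etale if and only if it is flat. -/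
theorem result {X : Scheme.{u}} [IsLocallyNoetherian X] (U : X.Opens)
    (hU : ∀ x : X, x ∉ U → (2 : ℕ∞) ≤ LocCoh.depth (X.presheaf.stalk x) (X.presheaf.stalk x)) {Y : Scheme.{u}} (π : Y ⟶ X)
    [IsFinite π] [Etale (pullback.snd π U.ι)]
    (hY : ∀ y : Y, π.base y ∉ U → (2 : ℕ∞) ≤ LocCoh.depth (Y.presheaf.stalk y) (Y.presheaf.stalk y)) :
    Etale π ↔ Flat π := by
  refine ⟨fun _ => inferInstance, fun hflat => ?_⟩
  have hres : Etale (π ∣_ U) := by
    have h1 : (pullbackRestrictIsoRestrict π U).hom ≫ π ∣_ U = pullback.snd π U.ι :=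
      pullbackRestrictIsoRestrict_hom_morphismRestrict π U
    have h2 : Etale ((pullbackRestrictIsoRestrict π U).hom ≫ π ∣_ U) := by
      rw [h1]; infer_instance
    have h3 : π ∣_ U = (pullbackRestrictIsoRestrict π U).inv ≫
        (pullbackRestrictIsoRestrict π U).hom ≫ π ∣_ U := by
      rw [← Category.assoc, Iso.inv_hom_id, Category.id_comp]
    rw [h3]
    infer_instance
  have hunr : FormallyUnramified π := by
    refine Groth.Agent.Pi1B.RestrictProp.of_app π fun W hW => ?_
    have hN : IsNoetherianRing Γ(X, W) := IsLocallyNoetherian.component_noetherian ⟨W, hW⟩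
    obtain ⟨x, y, hxy, hx, hy⟩ :=
      Groth.Agent.Pi1B.OpenPair.exists_isRegPair_basicOpen_le hW U (fun x _ hxU => hU x hxU)
    have hfin : (π.app W).hom.Finite := IsFinite.finite_app π W hW
    have hfl : (π.app W).hom.Flat := by
      have := π.flat_appLE hW (hW.preimage π) le_rfl
      rwa [← Scheme.Hom.app_eq_appLE] at this
    have key : ∀ z : Γ(X, W), X.basicOpen z ≤ U →
        (π.appLE W (Y.basicOpen (π.app W z)) (Y.basicOpen_le _)).hom.FormallyUnramified := by
      intro z hz
      have h1 := Groth.Agent.Pi1B.RestrictProp.appLE_of_restrict (P := @Etale) π U hres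
        (hW.basicOpen z) hz ((hW.preimage π).basicOpen (π.app W z))
        (by rw [Scheme.Hom.preimage_basicOpen])
      have h2 : (X.presheaf.map (homOfLE (X.basicOpen_le z)).op) ≫
        π.appLE (X.basicOpen z) (Y.basicOpen (π.app W z)) (by rw [Scheme.Hom.preimage_basicOpen]) =
        π.appLE W (Y.basicOpen (π.app W z)) (Y.basicOpen_le _) := by
        rw [Scheme.Hom.map_appLE]
      rw [← h2, CommRingCat.hom_comp]
      refine RingHom.FormallyUnramified.comp ?_ h1.formallyUnramified
      have h3 := hW.isLocalization_basicOpen z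
      exact RingHom.FormallyUnramified.holdsForLocalizationAway _ z
    algebraize [(π.app W).hom]
    have hB : ∀ z : Γ(X, W), IsLocalization.Away (algebraMap Γ(X, W) Γ(Y, π ⁻¹ᵁ W) z)
      Γ(Y, Y.basicOpen (π.app W z)) := fun z => (hW.preimage π).isLocalization_basicOpen (π.app W z)
    have hfinW : Module.Finite Γ(X, W) Γ(Y, π ⁻¹ᵁ W) := hfin
    have hflW : Module.Flat Γ(X, W) Γ(Y, π ⁻¹ᵁ W) := hfl
    let Ax : Algebra Γ(X, W) Γ(Y, Y.basicOpen (π.app W x)) :=
      (π.appLE W (Y.basicOpen (π.app W x)) (Y.basicOpen_le _)).hom.toAlgebra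
    let Ay : Algebra Γ(X, W) Γ(Y, Y.basicOpen (π.app W y)) :=
      (π.appLE W (Y.basicOpen (π.app W y)) (Y.basicOpen_le _)).hom.toAlgebra
    have := hB x
    have := hB y
    have tx : IsScalarTower Γ(X, W) Γ(Y, π ⁻¹ᵁ W) Γ(Y, Y.basicOpen (π.app W x)) :=
      IsScalarTower.of_algebraMap_eq' rfl
    have ty : IsScalarTower Γ(X, W) Γ(Y, π ⁻¹ᵁ W) Γ(Y, Y.basicOpen (π.app W y)) :=
      IsScalarTower.of_algebraMap_eq' rfl
    have ux : Algebra.FormallyUnramified Γ(X, W) Γ(Y, Y.basicOpen (π.app W x)) := key x hx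
    have uy : Algebra.FormallyUnramified Γ(X, W) Γ(Y, Y.basicOpen (π.app W y)) := key y hy
    exact Groth.Agent.Pi1B.RegPairUnramified.formallyUnramified_of_isRegPair hxy
      Γ(Y, Y.basicOpen (π.app W x)) Γ(Y, Y.basicOpen (π.app W y))
  exact Etale.of_formallyUnramified_of_flat π

end Groth.Agent.S0293
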