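import Groth.Statements.S0297
import Groth.Agent.S0295
import Groth.Agent.Pi1A.GaloisExact

set_option autoImplicit false
universe u
open Pi1

namespace Groth.Agent.S0297

open AlgebraicGeometry CategoryTheory CategoryTheory.Limits in
/-- Görtz and Wedhorn, Algebraic Geometry II, Prop. 20.93, first assertion (compare Stacks Tag 0BND): for a connected scheme X, every morphism of functors between the fibre functors at two geometric points is an isomorphism. -/
theorem result {X : Scheme.{u}} [ConnectedSpace X] {Ω Ω' : Type u} [Field Ω]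
    [IsAlgClosed Ω] [Field Ω'] [IsAlgClosed Ω'] (ξ : Spec (CommRingCat.of Ω) ⟶ X)
    (ξ' : Spec (CommRingCat.of Ω') ⟶ X) (φ : FEt.fiber ξ ⟶ FEt.fiber ξ') : IsIso φ := by
  obtain ⟨inst, F, hF, ⟨e⟩⟩ := Groth.Agent.S0295.result ξ
  obtain ⟨_, F', hF', ⟨e'⟩⟩ := Groth.Agent.S0295.result ξ'
  have : GaloisCategory (FEt.Cat X) := ⟨⟨F, ⟨hF⟩⟩⟩
  obtain ⟨i⟩ := Groth.Agent.Pi1A.GaloisExact.nonempty_iso_fiberFunctor F F'
  let ff := (Functor.FullyFaithful.ofFullyFaithful FintypeCat.incl).whiskeringRight (FEt.Cat X)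
  let ψ : F ⟶ F' := ff.preimage (e.hom ≫ φ ≫ e'.inv)
  have hψ : Functor.whiskerRight ψ FintypeCat.incl = e.hom ≫ φ ≫ e'.inv := ff.map_preimage _
  have h1 : IsIso (ψ ≫ i.inv) := PreGaloisCategory.FibreFunctor.end_isIso F (ψ ≫ i.inv)
  have h2 : IsIso ψ := by
    have : ψ = (ψ ≫ i.inv) ≫ i.hom := by simp
    rw [this]
    infer_instance
  have h3 : IsIso (e.hom ≫ φ ≫ e'.inv) := by
    rw [← hψ]
    infer_instance
  have h4 : φ = e.inv ≫ (e.hom ≫ φ ≫ e'.inv) ≫ e'.hom := by simp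
  rw [h4]
  infer_instance

end Groth.Agent.S0297
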