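import Groth.Statements.S0298
import Groth.Agent.Pi1B.FieldGal2

set_option autoImplicit false
universe u
open Pi1

namespace Groth.Agent.S0298

open AlgebraicGeometry CategoryTheory CategoryTheory.Limits in
/-- Stacks Tag 0BNE (2), as an isomorphism of abstract groups (the shared prelude's fundamental group carries no topology yet): for a field K with algebraic closure Kbar, the automorphism group of the fibre functor of finite etale K-schemes at Spec Kbar is isomorphic to the absolute Galois group of K. -/
theorem result (K : Type u) [Field K] :
    Nonempty (Field.absoluteGaloisGroup K ≃*
      FEt.piOne (Spec (CommRingCat.of K))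
        (Spec.map (CommRingCat.ofHom (algebraMap K (AlgebraicClosure K))))) :=
  ⟨Groth.Agent.Pi1B.FieldGal.galEquiv K⟩

end Groth.Agent.S0298
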