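import Groth.Statements.S0304
import Groth.Agent.Localalg.InjDecomp

set_option autoImplicit false
universe u v
open InjHull

namespace Groth.Agent.S0304

/-- Stacks Tag 08Y7 (2),(4): in an indecomposable injective module any two nonzero submodules meet, and the set of ring elements that kill some nonzero element of the module is a prime ideal. -/
theorem result (R : Type u) [CommRing R] (E : Type u) [AddCommGroup E] [Module R E] (hE : InjHull.IsIndecomposable R E) (hinj : Module.Injective R E) : (∀ N N' : Submodule R E, N ≠ ⊥ → N' ≠ ⊥ → N ⊓ N' ≠ ⊥) ∧ ∃ p : Ideal R, p.IsPrime ∧ (p : Set R) = {r : R | ∃ x : E, x ≠ 0 ∧ r • x = 0} := by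
  have h1 := Groth.Agent.Localalg.InjDecomp.inf_ne_bot_of_indecomposable hE hinj
  refine ⟨h1, ?_⟩
  obtain ⟨x0, hx0⟩ : ∃ x : E, x ≠ 0 := by
    have := hE.1
    exact exists_ne 0
  let p : Ideal R :=
    { carrier := {r : R | ∃ x : E, x ≠ 0 ∧ r • x = 0}
      zero_mem' := ⟨x0, hx0, zero_smul _ _⟩
      add_mem' := by
        rintro a b ⟨x, hx, hax⟩ ⟨y, hy, hby⟩
        obtain ⟨z, ⟨hz1, hz2⟩, hz0⟩ := Submodule.exists_mem_ne_zero_of_ne_bot
          (h1 (Submodule.span R {x}) (Submodule.span R {y})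
            (by simpa [Submodule.span_singleton_eq_bot] using hx)
            (by simpa [Submodule.span_singleton_eq_bot] using hy))
        obtain ⟨c, rfl⟩ := Submodule.mem_span_singleton.1 hz1
        obtain ⟨d, hd⟩ := Submodule.mem_span_singleton.1 hz2
        refine ⟨c • x, hz0, ?_⟩
        rw [add_smul, smul_comm a, hax, smul_zero, ← hd, smul_comm b, hby, smul_zero, add_zero]
      smul_mem' := by
        rintro c a ⟨x, hx, hax⟩
        exact ⟨x, hx, by rw [smul_eq_mul, mul_smul, hax, smul_zero]⟩ }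
  refine ⟨p, ⟨?_, ?_⟩, rfl⟩
  · intro h
    obtain ⟨x, hx, hx1⟩ : (1 : R) ∈ p := h ▸ Submodule.mem_top
    exact hx (by simpa using hx1)
  · rintro a b ⟨x, hx, habx⟩
    by_cases hb : b • x = 0
    · exact Or.inr ⟨x, hx, hb⟩
    · exact Or.inl ⟨b • x, hb, by rw [← mul_smul, habx]⟩

end Groth.Agent.S0304
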