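import Groth.Statements.S0306
import Groth.Agent.Localalg.InjDecomp2

set_option autoImplicit false
universe u v
open InjHull

namespace Groth.Agent.S0306

/-- Stacks Tag 08Y9: over a Noetherian ring every indecomposable injective module is an injective hull of the residue field of some prime. -/
theorem result (R : Type u) [CommRing R] [IsNoetherianRing R] (E : Type u) [AddCommGroup E] [Module R E] (hE : InjHull.IsIndecomposable R E) (hinj : Module.Injective R E) : ∃ (p : Ideal R) (_ : p.IsPrime) (g : p.ResidueField →ₗ[R] E), InjHull.IsInjectiveHull g := by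
  have := hE.1
  obtain ⟨p, hp, f, hf⟩ := Groth.Agent.Localalg.InjDecomp2.exists_prime_injective R E
  have hf' : InjHull.IsInjectiveHull f := by
    refine ⟨⟨hf, fun N hN => ?_⟩, hinj⟩
    refine Groth.Agent.Localalg.InjDecomp.inf_ne_bot_of_indecomposable hE hinj N _ hN ?_
    intro h
    have h1 : f 1 ∈ LinearMap.range f := ⟨1, rfl⟩
    rw [h] at h1
    have h2 : (1 : R ⧸ p) = 0 := hf (((Submodule.mem_bot R).1 h1).trans (map_zero f).symm)
    have : Nontrivial (R ⧸ p) := Ideal.Quotient.nontrivial_iff.2 hp.ne_top
    exact one_ne_zero h2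
  obtain ⟨g, hg⟩ := Groth.Agent.Localalg.InjDecomp2.exists_hull_residueField p f hf'
  exact ⟨p, hp, g, hg⟩

end Groth.Agent.S0306
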