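import Groth.Statements.S0307
import Groth.Agent.Localalg.InjDecomp2

set_option autoImplicit false
universe u v
open InjHull

namespace Groth.Agent.S0307

open Classical in
/-- Stacks Tag 08YA: over a Noetherian ring every injective module is an internal direct sum of indecomposable injective submodules. -/
theorem result (R : Type u) [CommRing R] [IsNoetherianRing R] (I : Type u) [AddCommGroup I] [Module R I] (hI : Module.Injective R I) : ∃ (ι : Type u) (E : ι → Submodule R I), DirectSum.IsInternal E ∧ ∀ i, InjHull.IsIndecomposable R ↥(E i) ∧ Module.Injective R ↥(E i) := by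
  obtain ⟨S, h1, h2, h3⟩ := Groth.Agent.Localalg.InjDecomp2.exists_decomposition hI
  have h4 : iSup (fun N : S => (N : Submodule R I)) = ⊤ := by rw [← sSup_eq_iSup', h2]
  exact ⟨S, fun N => N, @DirectSum.isInternal_submodule_of_iSupIndep_of_iSup_eq_top R _ S (_) I _ _
    (fun N => N) ((sSupIndep_iff S).1 h1) h4, fun N => h3 N.1 N.2⟩

end Groth.Agent.S0307
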