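import Groth.Statements.S0335
-- import your own Groth.Agent.* helpers here

set_option autoImplicit false
universe u v
open LocCoh

namespace Groth.Agent.S0335
open IsLocalRing RingTheory.Sequence

/-- Elements `x, y` of `R` with `x` a non-zero-divisor and `y` a non-zero-divisor modulo `x`. -/
theorem exists_pair (R : Type u) [CommRing R] [IsLocalRing R] (h : 2 ≤ LocCoh.depth R R) :
    ∃ x y : R, x ∈ maximalIdeal R ∧ y ∈ maximalIdeal R ∧ (∀ t, x * t = 0 → t = 0) ∧
      (∀ t, x ∣ y * t → x ∣ t) := by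
  unfold LocCoh.depth LocCoh.idealDepth at h
  rw [if_neg] at h
  · obtain ⟨rs, hrs, hlen⟩ : ∃ rs : List R, (IsWeaklyRegular R rs ∧ ∀ r ∈ rs, r ∈ maximalIdeal R) ∧
        2 ≤ rs.length := by
      by_contra hcon
      push Not at hcon
      have : (⨆ (rs : List R) (_ : IsWeaklyRegular R rs ∧ ∀ r ∈ rs, r ∈ maximalIdeal R),
          (rs.length : ℕ∞)) ≤ 1 := by
        refine iSup₂_le fun rs hrs => ?_
        have := hcon rs hrs
        exact_mod_cast (by omega : rs.length ≤ 1)
      have h2 := h.trans this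
      exact absurd h2 (by decide)
    obtain ⟨hreg, hmem⟩ := hrs
    match rs, hlen with
    | x :: y :: rs, _ =>
      rw [isWeaklyRegular_cons_iff, isWeaklyRegular_cons_iff] at hreg
      obtain ⟨hx, hy, -⟩ := hreg
      refine ⟨x, y, hmem x (by simp), hmem y (by simp), ?_, ?_⟩
      · intro t ht
        exact hx (by simpa using ht)
      · intro t ht
        have h1 : y • (Submodule.Quotient.mk t : QuotSMulTop x R) = y • 0 := by
          rw [smul_zero, ← Submodule.Quotient.mk_smul, Submodule.Quotient.mk_eq_zero]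
          obtain ⟨c, hc⟩ := ht
          rw [smul_eq_mul, hc]
          exact Submodule.smul_mem_pointwise_smul c x ⊤ trivial
        have h2 := hy h1
        rw [Submodule.Quotient.mk_eq_zero] at h2
        obtain ⟨c, -, hc⟩ := h2
        exact ⟨c, hc.symm⟩
  · rw [smul_eq_mul, Ideal.mul_top]
    exact Ideal.IsPrime.ne_top inferInstance

theorem pow_pair {R : Type u} [CommRing R] {x y : R} (hx : ∀ t, x * t = 0 → t = 0)
    (hy : ∀ t, x ∣ y * t → x ∣ t) (a b : ℕ) :
    (∀ t, x ^ a * t = 0 → t = 0) ∧ (∀ t, x ^ a ∣ y ^ b * t → x ^ a ∣ t) := by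
  have hyb : ∀ b t, x ∣ y ^ b * t → x ∣ t := by
    intro b
    induction b with
    | zero => intro t ht; simpa using ht
    | succ b ih =>
      intro t ht
      apply hy
      apply ih
      rwa [← mul_assoc, ← pow_succ]
  constructor
  · induction a with
    | zero => intro t ht; simpa using ht
    | succ a ih =>
      intro t ht
      apply hx
      apply ih
      rwa [← mul_assoc, ← pow_succ]
  · induction a with
    | zero => intro t _; simp
    | succ a ih =>
      rintro t ⟨s, hs⟩
      obtain ⟨t', rfl⟩ := hyb b t (hs ▸ ⟨x ^ a * s, by ring⟩)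
      have h1 : x * (y ^ b * t' - x ^ a * s) = 0 := by
        rw [mul_sub]
        rw [sub_eq_zero]
        calc x * (y ^ b * t') = y ^ b * (x * t') := by ring
          _ = x ^ (a + 1) * s := hs
          _ = x * (x ^ a * s) := by ring
      have h2 := hx _ h1
      rw [sub_eq_zero] at h2
      obtain ⟨t'', rfl⟩ := ih t' ⟨s, h2⟩
      exact ⟨t'', by ring⟩

theorem key (R : Type u) [CommRing R] [IsLocalRing R] {x y : R} (hx : ∀ t, x * t = 0 → t = 0)
    (hy : ∀ t, x ∣ y * t → x ∣ t) (I J : Ideal R) (hxm : x ∈ I ⊔ J) (hym : y ∈ I ⊔ J)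
    (hIJ : I * J = ⊥) : I = ⊥ ∨ J = ⊥ := by
  obtain ⟨i, hi, j, hj, hij⟩ := Submodule.mem_sup.mp hxm
  obtain ⟨i', hi', j', hj', hij'⟩ := Submodule.mem_sup.mp hym
  have hz : ∀ u ∈ I, ∀ v ∈ J, u * v = 0 := by
    intro u hu v hv
    have := Ideal.mul_mem_mul hu hv
    rwa [hIJ] at this
  have h1 : y * j = x * j' := by
    rw [← hij, ← hij']
    have e1 := hz i' hi' j hj
    have e2 := hz i hi j' hj'
    linear_combination e1 - e2
  obtain ⟨c, hc⟩ := hy j ⟨j', h1⟩
  have hcI : ∀ u ∈ I, c * u = 0 := by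
    intro u hu
    apply hx
    rw [← mul_assoc, ← hc, mul_comm]
    exact hz u hu j hj
  have hcJ : ∀ u ∈ J, (1 - c) * u = 0 := by
    intro u hu
    apply hx
    have := hz i hi u hu
    linear_combination this + (hij.symm) * u + u * hc
  rcases IsLocalRing.isUnit_or_isUnit_one_sub_self c with hu | hu
  · left
    rw [eq_bot_iff]
    intro u huI
    exact (hu.mul_right_eq_zero).mp (hcI u huI)
  · right
    rw [eq_bot_iff]
    intro u huI
    exact (hu.mul_right_eq_zero).mp (hcJ u huI)

/-- Stacks Tag 0BLR (for the ring itself; Hartshorne's connectedness): if a Noetherian local ring has depth at least 2 then its punctured spectrum is connected. -/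
theorem result (R : Type u) [CommRing R] [IsLocalRing R] [IsNoetherianRing R] (h : 2 ≤ LocCoh.depth R R) : IsConnected {x : PrimeSpectrum R | x.asIdeal ≠ IsLocalRing.maximalIdeal R} := by
  obtain ⟨x, y, hxm, hym, hx, hy⟩ := exists_pair R h
  constructor
  · -- nonempty
    by_contra hcon
    rw [Set.not_nonempty_iff_eq_empty, Set.eq_empty_iff_forall_notMem] at hcon
    have hnil : x ∈ nilradical R := by
      rw [mem_nilradical, nilpotent_iff_mem_prime]
      intro J hJ
      have := hcon ⟨J, hJ⟩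
      simp only [Set.mem_ofPred_eq, not_not] at this
      rw [this]; exact hxm
    obtain ⟨n, hn⟩ := hnil
    have := (pow_pair hx hy n 0).1 1 (by rw [hn, zero_mul])
    exact one_ne_zero this
  · rintro u v hu hv hs ⟨q₁, hq₁, hq₁u⟩ ⟨q₂, hq₂, hq₂v⟩
    by_contra hcon
    rw [Set.not_nonempty_iff_eq_empty, Set.eq_empty_iff_forall_notMem] at hcon
    obtain ⟨I, hI⟩ := (PrimeSpectrum.isClosed_iff_zeroLocus_ideal _).mp hu.isClosed_compl
    obtain ⟨J, hJ⟩ := (PrimeSpectrum.isClosed_iff_zeroLocus_ideal _).mp hv.isClosed_compl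
    have hIu : ∀ q : PrimeSpectrum R, I ≤ q.asIdeal ↔ q ∉ u := by
      intro q
      rw [← Set.mem_compl_iff, hI]
      rfl
    have hJv : ∀ q : PrimeSpectrum R, J ≤ q.asIdeal ↔ q ∉ v := by
      intro q
      rw [← Set.mem_compl_iff, hJ]
      rfl
    -- the maximal ideal is in neither
    have hIne : I ≤ maximalIdeal R := by
      refine IsLocalRing.le_maximalIdeal ?_
      rintro rfl
      refine hcon q₂ ⟨hq₂, ?_, hq₂v⟩
      by_contra hc
      exact q₂.2.ne_top (top_le_iff.mp ((hIu q₂).mpr hc))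
    have hJne : J ≤ maximalIdeal R := by
      refine IsLocalRing.le_maximalIdeal ?_
      rintro rfl
      refine hcon q₁ ⟨hq₁, hq₁u, ?_⟩
      by_contra hc
      exact q₁.2.ne_top (top_le_iff.mp ((hJv q₁).mpr hc))
    have hnil : I * J ≤ nilradical R := by
      rw [nilradical_eq_sInf]
      refine le_sInf fun q hq => ?_
      rw [Set.mem_ofPred_eq] at hq
      by_cases hqm : q = maximalIdeal R
      · rw [hqm]
        exact Ideal.mul_le_right.trans hJne
      · have := hcon ⟨q, hq⟩
        simp only [Set.mem_inter_iff, Set.mem_ofPred_eq, not_and] at this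
        have h1 := this hqm
        by_cases hqu : (⟨q, hq⟩ : PrimeSpectrum R) ∈ u
        · exact Ideal.mul_le_right.trans ((hJv ⟨q, hq⟩).mpr (h1 hqu))
        · exact Ideal.mul_le_left.trans ((hIu ⟨q, hq⟩).mpr hqu)
    obtain ⟨n, hn⟩ := Ideal.exists_pow_le_of_le_radical_of_fg (I := I * J) (J := ⊥)
      hnil (IsNoetherian.noetherian _)
    have hmrad : maximalIdeal R ≤ (I ⊔ J).radical := by
      rw [Ideal.radical_eq_sInf]
      refine le_sInf ?_
      rintro q ⟨hq, hqp⟩
      by_contra hc
      have hqm : q ≠ maximalIdeal R := by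
        rintro rfl; exact hc le_rfl
      have := hs (show (⟨q, hqp⟩ : PrimeSpectrum R) ∈ _ from hqm)
      rcases this with h1 | h1
      · exact (hIu ⟨q, hqp⟩).mp (le_sup_left.trans hq) h1
      · exact (hJv ⟨q, hqp⟩).mp (le_sup_right.trans hq) h1
    have hmrad' : maximalIdeal R ≤ (I ^ n ⊔ J ^ n).radical := by
      refine hmrad.trans ?_
      rw [Ideal.radical_le_radical_iff]
      refine sup_le ?_ ?_
      · intro a ha
        exact ⟨n, Ideal.mem_sup_left (Ideal.pow_mem_pow ha n)⟩
      · intro a ha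
        exact ⟨n, Ideal.mem_sup_right (Ideal.pow_mem_pow ha n)⟩
    obtain ⟨a, ha⟩ := hmrad' hxm
    obtain ⟨b, hb⟩ := hmrad' hym
    obtain ⟨hx', hy'⟩ := pow_pair hx hy a b
    rcases key R hx' hy' (I ^ n) (J ^ n) ha hb (by rw [← mul_pow]; exact le_bot_iff.mp hn) with h1 | h1
    · refine (hIu q₁).mp ?_ hq₁u
      intro z hz
      refine q₁.2.mem_of_pow_mem n ?_
      have : z ^ n ∈ I ^ n := Ideal.pow_mem_pow hz n
      rw [h1] at this
      rw [(Ideal.mem_bot).mp this]
      exact zero_mem _
    · refine (hJv q₂).mp ?_ hq₂v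
      intro z hz
      refine q₂.2.mem_of_pow_mem n ?_
      have : z ^ n ∈ J ^ n := Ideal.pow_mem_pow hz n
      rw [h1] at this
      rw [(Ideal.mem_bot).mp this]
      exact zero_mem _

end Groth.Agent.S0335
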