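import Groth.Statements.S0336
import Groth.Agent.Localalg.Kunz

set_option autoImplicit false
universe u v
open LocCoh

namespace Groth.Agent.S0336
open Groth.Agent.Localalg.Kunz

theorem charP_of_prime {A : Type*} [CommRing A] [Nontrivial A] (p : ℕ) [hp : Fact p.Prime]
    (h : (p : A) = 0) : CharP A p := by
  obtain ⟨q, hq⟩ := CharP.exists A
  have h1 : q ∣ p := (CharP.cast_eq_zero_iff A q p).mp h
  rcases (Nat.dvd_prime hp.out).mp h1 with h2 | h2
  · subst h2
    have h0 : ((1 : ℕ) : A) = 0 := CharP.cast_eq_zero A 1
    rw [Nat.cast_one] at h0
    exact (one_ne_zero h0).elim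
  · subst h2; exact hq

theorem charP_localization (p : ℕ) [Fact p.Prime] (R : Type*) [CommRing R] [CharP R p]
    (P : Ideal R) [P.IsPrime] : CharP (Localization.AtPrime P) p := by
  refine charP_of_prime p ?_
  have := congrArg (algebraMap R (Localization.AtPrime P)) (CharP.cast_eq_zero R p)
  rwa [map_natCast, map_zero] at this

theorem comap_frobenius (p : ℕ) [Fact p.Prime] (R : Type*) [CommRing R] [CharP R p]
    (P : Ideal R) [hP : P.IsPrime] : P.comap (frobenius R p) = P := by
  ext x
  rw [Ideal.mem_comap, frobenius_def]
  exact hP.pow_mem_iff_mem p (Fact.out : p.Prime).pos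

theorem localRingHom_frobenius (p : ℕ) [Fact p.Prime] (R : Type*) [CommRing R] [CharP R p]
    (P : Ideal R) [P.IsPrime] [CharP (Localization.AtPrime P) p]
    (h : P = P.comap (frobenius R p)) :
    Localization.localRingHom P P (frobenius R p) h = frobenius (Localization.AtPrime P) p := by
  apply IsLocalization.ringHom_ext P.primeCompl
  ext x
  rw [RingHom.comp_apply, RingHom.comp_apply, Localization.localRingHom_to_map, frobenius_def,
    frobenius_def, map_pow]

/-- Stacks Tag 0EC0 (Kunz): a Noetherian ring of prime characteristic p is regular exactly when its Frobenius endomorphism is flat. -/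
theorem result (p : ℕ) [Fact p.Prime] (R : Type u) [CommRing R] [IsNoetherianRing R] [CharP R p] : IsRegularRing R ↔ (frobenius R p).Flat := by
  constructor
  · intro hR
    refine RingHom.Flat.ofLocalizationPrime _ ?_
    intro P hP
    have := charP_localization p R P
    have key : ∀ (Q : Ideal R) [Q.IsPrime] (hQ : Q = P.comap (frobenius R p)), Q = P →
        (Localization.localRingHom Q P (frobenius R p) hQ).Flat := by
      rintro Q hQp hQ rfl
      rw [localRingHom_frobenius]
      have := hR.isRegularLocalRing_localization Q
      exact frobenius_flat_of_isRegularLocalRing p _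
    exact key _ rfl (comap_frobenius p R P)
  · intro h
    rw [isRegularRing_iff]
    intro P hP
    have := charP_localization p R P
    have h1 := RingHom.Flat.localRingHom h P P (comap_frobenius p R P).symm
    rw [localRingHom_frobenius] at h1
    exact isRegularLocalRing_of_frobenius_flat p _ h1

end Groth.Agent.S0336
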