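import Groth.Statements.S0337
import Groth.Agent.Localalg.Frob

set_option autoImplicit false
universe u v
open CategoryTheory
open LocCoh

namespace Groth.Agent.S0337

open IsLocalRing Groth.Agent.Localalg.Frob

/-- A minimal generating family of a finite module over a local ring. -/
theorem exists_minimal_generators (R : Type u) [CommRing R] [IsLocalRing R]
    (M : Type u) [AddCommGroup M] [Module R M] [Module.Finite R M] :
    ∃ (n : ℕ) (m : Fin n → M), Submodule.span R (Set.range m) = ⊤ ∧
      ∀ a : Fin n → R, ∑ i, a i • m i = 0 → ∀ i, a i ∈ maximalIdeal R := by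
  classical
  let b := Module.finBasis (ResidueField R) (TensorProduct R (ResidueField R) M)
  have hs : Function.Surjective (TensorProduct.mk R (ResidueField R) M 1) :=
    TensorProduct.mk_surjective R M (ResidueField R) Ideal.Quotient.mk_surjective
  choose m hm using fun i => hs (b i)
  refine ⟨_, m, IsLocalRing.span_eq_top_of_tmul_eq_basis m b hm, ?_⟩
  intro a ha i
  have h1 : ∑ i, (residue R (a i)) • b i = 0 := by
    have := congrArg (TensorProduct.mk R (ResidueField R) M 1) ha
    rw [map_sum, map_zero] at this
    rw [← this]
    refine Finset.sum_congr rfl fun i _ => ?_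
    rw [map_smul, hm]
    exact (algebraMap_smul (ResidueField R) (a i) (b i))
  have h2 := (Fintype.linearIndependent_iff.mp b.linearIndependent) _ h1 i
  exact (residue_eq_zero_iff _).mp h2

/-- Stacks Tag 0EBV: over a Noetherian local ring of prime characteristic p, a finite module isomorphic to its own base change along Frobenius is free. -/
theorem result (p : ℕ) [Fact p.Prime] (R : Type u) [CommRing R] [IsLocalRing R] [IsNoetherianRing R] [CharP R p] (M : Type u) [AddCommGroup M] [Module R M] [Module.Finite R M] (h : Nonempty ((ModuleCat.extendScalars (frobenius R p)).obj (ModuleCat.of R M) ≅ ModuleCat.of R M)) : Module.Free R M := by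
  classical
  obtain ⟨h⟩ := h
  obtain ⟨n, m, hm, hmin⟩ := exists_minimal_generators R M
  let e := h.toLinearEquiv
  let m' : Fin n → M := fun i => e (unit (frobenius R p) (ModuleCat.of R M) (m i))
  -- the coefficient ideal
  let I : Ideal R := Ideal.span {x | ∃ a : Fin n → R, ∑ i, a i • m i = 0 ∧ ∃ i, a i = x}
  have hIm : I ≤ maximalIdeal R := by
    rw [Ideal.span_le]
    rintro x ⟨a, ha, i, rfl⟩
    exact hmin a ha i
  -- coordinates modulo I
  have hcoord : ∀ j : Fin n, ∃ c : M →ₗ[R] (R ⧸ I), ∀ a : Fin n → R,
      c (∑ i, a i • m i) = Ideal.Quotient.mk I (a j) := by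
    intro j
    let π : (Fin n → R) →ₗ[R] M := Fintype.linearCombination R m
    have hπ : Function.Surjective π := by
      rw [← LinearMap.range_eq_top, Fintype.range_linearCombination, hm]
    let q : (Fin n → R) →ₗ[R] (R ⧸ I) := (Submodule.mkQ I).comp (LinearMap.proj j)
    have hq : LinearMap.ker π ≤ LinearMap.ker q := by
      intro a ha
      rw [LinearMap.mem_ker] at ha ⊢
      have ha' : ∑ i, a i • m i = 0 := by
        rw [← ha]; rfl
      exact (Submodule.Quotient.mk_eq_zero _).mpr (Ideal.subset_span ⟨a, ha', j, rfl⟩)
    let e1 := (LinearMap.quotKerEquivOfSurjective π hπ)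
    refine ⟨((LinearMap.ker π).liftQ q hq).comp e1.symm.toLinearMap, ?_⟩
    intro a
    have h1 : e1.symm (∑ i, a i • m i) = Submodule.Quotient.mk a := by
      rw [LinearEquiv.symm_apply_eq]
      rfl
    rw [LinearMap.comp_apply]
    erw [h1]
    rfl
  -- relations of m'
  have hrel : ∀ a : Fin n → R, ∑ i, a i • m' i = 0 → ∀ j, a j ∈ I.map (frobenius R p) := by
    intro a ha j
    obtain ⟨c, hc⟩ := hcoord j
    -- Frobenius on the quotient
    let Fbar : (R ⧸ I) →+* (R ⧸ I.map (frobenius R p)) :=
      Ideal.quotientMap _ (frobenius R p) Ideal.le_comap_map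
    let g : M →+ (R ⧸ I.map (frobenius R p)) := Fbar.toAddMonoidHom.comp c.toAddMonoidHom
    obtain ⟨G, hG⟩ := exists_lift (frobenius R p) (ModuleCat.of R M)
      (R ⧸ I.map (frobenius R p)) g (by
        intro r x
        change Fbar (c (r • x)) = frobenius R p r • Fbar (c x)
        rw [map_smul, Algebra.smul_def, map_mul, Algebra.smul_def]
        rfl)
    have h1 : ∑ i, a i • unit (frobenius R p) (ModuleCat.of R M) (m i) = 0 := by
      apply e.injective
      rw [map_sum, map_zero]
      rw [← ha]
      refine Finset.sum_congr rfl fun i _ => ?_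
      exact map_smul e _ _
    have h2 := congrArg G h1
    rw [map_sum, map_zero] at h2
    have h3 : ∀ i, G (a i • unit (frobenius R p) (ModuleCat.of R M) (m i))
        = if i = j then Ideal.Quotient.mk _ (a j) else 0 := by
      intro i
      rw [map_smul, hG]
      have h4 : c (m i) = Ideal.Quotient.mk I ((Pi.single i (1:R) : Fin n → R) j) := by
        rw [← hc]
        congr 1
        rw [Finset.sum_eq_single i]
        · simp
        · intro b _ hb
          simp [Pi.single_eq_of_ne hb]
        · simp
      change a i • Fbar (c (m i)) = _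
      rw [h4]
      by_cases hij : i = j
      · subst hij
        simp [Algebra.smul_def]
      · rw [Pi.single_eq_of_ne (Ne.symm hij)]
        simp [hij]
    rw [Finset.sum_congr rfl (fun i _ => h3 i)] at h2
    simp only [Finset.sum_ite_eq', Finset.mem_univ, if_true] at h2
    exact (Ideal.Quotient.eq_zero_iff_mem).mp h2
  -- m' generates
  have hm' : Submodule.span R (Set.range m') = ⊤ := by
    have h1 : Submodule.span R (Set.range
        (fun i => unit (frobenius R p) (ModuleCat.of R M) (m i))) = ⊤ := by
      rw [eq_top_iff, ← span_range_unit (frobenius R p) (ModuleCat.of R M), Submodule.span_le]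
      rintro _ ⟨x, rfl⟩
      have hx : (x : M) ∈ Submodule.span R (Set.range m) := by rw [hm]; trivial
      rw [← Fintype.range_linearCombination] at hx
      obtain ⟨a, ha⟩ := hx
      have ha' : x = ∑ i, a i • m i := by rw [← ha]; rfl
      rw [ha', map_sum]
      refine Submodule.sum_mem _ fun i _ => ?_
      have := unit_smul (frobenius R p) (ModuleCat.of R M) (a i) (m i)
      erw [this]
      exact Submodule.smul_mem _ _ (Submodule.subset_span ⟨i, rfl⟩)
    have h2 : Set.range m' = e.toLinearMap '' (Set.range
        (fun i => unit (frobenius R p) (ModuleCat.of R M) (m i))) := by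
      rw [← Set.range_comp]; rfl
    rw [h2, Submodule.span_image, h1, Submodule.map_top, LinearMap.range_eq_top]
    exact e.surjective
  have hII : I ≤ I.map (frobenius R p) := by
    have hG : ∀ i, ∃ G : Fin n → R, ∑ j, G j • m j = m' i := by
      intro i
      have hx : m' i ∈ Submodule.span R (Set.range m) := by rw [hm]; trivial
      rw [← Fintype.range_linearCombination] at hx
      obtain ⟨a, ha⟩ := hx
      exact ⟨a, by rw [← ha]; rfl⟩
    choose G hG using hG
    let g : (Fin n → R) →ₗ[R] (Fin n → R) := Fintype.linearCombination R G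
    have hg : ∀ a : Fin n → R, ∑ j, (g a) j • m j = ∑ i, a i • m' i := by
      intro a
      have : ∀ j, g a j = ∑ i, a i * G i j := by
        intro j
        simp [g, Fintype.linearCombination_apply]
      simp_rw [this, Finset.sum_smul, ← hG, Finset.smul_sum, smul_smul]
      rw [Finset.sum_comm]
    have hgs : LinearMap.range g = ⊤ := by
      rw [eq_top_iff]
      refine Submodule.le_of_le_smul_of_le_jacobson_bot (I := maximalIdeal R)
        Module.Finite.fg_top (IsLocalRing.maximalIdeal_le_jacobson _) ?_
      rintro x -
      have hx : (∑ i, x i • m i) ∈ Submodule.span R (Set.range m') := by rw [hm']; trivial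
      rw [← Fintype.range_linearCombination] at hx
      obtain ⟨a, ha⟩ := hx
      have h1 : ∑ i, (x - g a) i • m i = 0 := by
        simp only [Pi.sub_apply, sub_smul, Finset.sum_sub_distrib]
        rw [hg, ← ha]
        exact sub_self _
      have h2 := hmin _ h1
      have h3 : x - g a ∈ maximalIdeal R • (⊤ : Submodule R (Fin n → R)) := by
        rw [pi_eq_sum_univ (x - g a)]
        exact Submodule.sum_mem _ fun i _ => Submodule.smul_mem_smul (h2 i) trivial
      have h4 : x = g a + (x - g a) := by abel
      rw [h4]
      exact Submodule.add_mem_sup ⟨a, rfl⟩ h3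
    rw [Ideal.span_le]
    rintro x ⟨a, ha, j, rfl⟩
    obtain ⟨b, hb⟩ : a ∈ LinearMap.range g := by rw [hgs]; trivial
    have h5 : ∑ i, b i • m' i = 0 := by rw [← hg, hb, ha]
    have h6 := hrel b h5
    change a j ∈ _
    rw [← hb]
    have : g b j = ∑ i, b i * G i j := by
      simp [g, Fintype.linearCombination_apply]
    rw [this]
    exact Ideal.sum_mem _ fun i _ => Ideal.mul_mem_right _ _ (h6 i)
  have hI0 : I = ⊥ := by
    refine Submodule.eq_bot_of_le_smul_of_le_jacobson_bot (maximalIdeal R) I
      (IsNoetherian.noetherian I) ?_ ?_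
    · refine hII.trans ?_
      rw [Ideal.map_le_iff_le_comap]
      intro x hx
      rw [Ideal.mem_comap, frobenius_def, smul_eq_mul]
      have hp : p = (p - 1) + 1 := (Nat.succ_pred_prime Fact.out).symm
      rw [hp, pow_succ]
      refine Ideal.mul_mem_mul ?_ hx
      refine Ideal.pow_mem_of_mem _ (hIm hx) _ ?_
      have := (Fact.out : p.Prime).two_le
      omega
    · exact IsLocalRing.maximalIdeal_le_jacobson _
  have hli : LinearIndependent R m := by
    rw [Fintype.linearIndependent_iff]
    intro a ha i
    have : a i ∈ I := Ideal.subset_span ⟨a, ha, i, rfl⟩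
    rw [hI0] at this
    exact this
  exact Module.Free.of_basis (Module.Basis.mk hli hm.ge)

end Groth.Agent.S0337
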