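import Groth.Statements.S0338
import Groth.Agent.Localalg.Kunz
import Groth.Agent.Localalg.Frob2
import Groth.Agent.Localalg.SocPow
import Groth.Agent.Localalg.Matlis3

set_option autoImplicit false
universe u v
open CategoryTheory
open LocCoh

namespace Groth.Agent.S0338
open IsLocalRing Groth.Agent.Localalg.Frob Groth.Agent.Localalg.Kunz Groth.Agent.Localalg.Lech
open Groth.Agent.Localalg.Matlis

section Socle

variable {R : Type u} [CommRing R] [IsLocalRing R]

/-- A family in `M` inducing a basis of the socle over the residue field. -/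
theorem exists_socle_basis (M : Type u) [AddCommGroup M] [Module R M] :
    ∃ (ι : Type u) (b : ι → M),
      (∀ i, ∀ a ∈ maximalIdeal R, a • b i = 0) ∧
      (∀ y : M, (∀ a ∈ maximalIdeal R, a • y = 0) → y ∈ Submodule.span R (Set.range b)) ∧
      (∀ r : ι →₀ R, r.sum (fun i a => a • b i) = 0 → ∀ i, r i ∈ maximalIdeal R) := by
  classical
  let κ := R ⧸ maximalIdeal R
  let _ : Field κ := Ideal.Quotient.field (maximalIdeal R)
  let S := Submodule.torsionBySet R M (maximalIdeal R : Set R)
  let b := Module.Basis.ofVectorSpace κ S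
  refine ⟨_, fun i => (b i : M), ?_, ?_, ?_⟩
  · intro i a ha
    exact (Submodule.mem_torsionBySet_iff _ _).mp (b i).2 ⟨a, ha⟩
  · intro y hy
    have hyS : y ∈ S := (Submodule.mem_torsionBySet_iff _ _).mpr (fun a => hy a a.2)
    have h1 : Submodule.span R (Set.range b) = ⊤ := by
      have := Submodule.restrictScalars_span R κ Ideal.Quotient.mk_surjective (Set.range b)
      rw [← this, b.span_eq]
      rfl
    have h2 : (⟨y, hyS⟩ : S) ∈ Submodule.span R (Set.range b) := by rw [h1]; trivial
    have h3 := Submodule.mem_map_of_mem (f := S.subtype) h2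
    rw [Submodule.map_span, ← Set.range_comp] at h3
    exact h3
  · intro r hr i
    have h1 : Finsupp.linearCombination κ b (r.mapRange (Ideal.Quotient.mk (maximalIdeal R))
        (map_zero _)) = 0 := by
      apply Subtype.ext
      rw [Finsupp.linearCombination_apply, Finsupp.sum_mapRange_index (by intro; simp)]
      rw [ZeroMemClass.coe_zero, ← hr, Finsupp.sum, Finsupp.sum, AddSubmonoidClass.coe_finsetSum]
      rfl
    have h2 := (linearIndependent_iff.mp b.linearIndependent) _ h1
    have h3 := DFunLike.congr_fun h2 i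
    rw [Finsupp.mapRange_apply] at h3
    exact (Ideal.Quotient.eq_zero_iff_mem).mp h3

/-- Extension of a map defined on generators. -/
theorem exists_extension {P M Q : Type u} [AddCommGroup P] [Module R P] [AddCommGroup M] [Module R M]
    [AddCommGroup Q] [Module R Q] (hQ : Module.Injective R Q) (L : P →ₗ[R] M) (k : P →ₗ[R] Q)
    (h : LinearMap.ker L ≤ LinearMap.ker k) : ∃ j : M →ₗ[R] Q, ∀ x, j (L x) = k x := by
  let j₀ : LinearMap.range L →ₗ[R] Q :=
    ((LinearMap.ker L).liftQ k h).comp L.quotKerEquivRange.symm.toLinearMap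
  obtain ⟨j, hj⟩ := hQ.out (LinearMap.range L).subtype (Submodule.injective_subtype _) j₀
  refine ⟨j, fun x => ?_⟩
  have h1 := hj ⟨L x, x, rfl⟩
  have h2 : L.quotKerEquivRange.symm ⟨L x, x, rfl⟩ = Submodule.Quotient.mk x := by
    rw [LinearEquiv.symm_apply_eq]
    rfl
  calc j (L x) = j₀ ⟨L x, x, rfl⟩ := h1
    _ = (LinearMap.ker L).liftQ k h (L.quotKerEquivRange.symm ⟨L x, x, rfl⟩) := rfl
    _ = k x := by rw [h2]; rfl

end Socle

section Hull

variable {R : Type u} [CommRing R] [IsLocalRing R] [IsNoetherianRing R]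
variable {E : Type u} [AddCommGroup E] [Module R E] {f : ResidueField R →ₗ[R] E}

theorem smul_apply_one_eq_zero_iff (hf : InjHull.IsInjectiveHull f) (r : R) :
    r • f 1 = 0 ↔ r ∈ maximalIdeal R := by
  rw [← map_smul, map_eq_zero_iff f hf.injective, Algebra.smul_def, mul_one,
    ResidueField.algebraMap_eq, residue_eq_zero_iff]

/-- If `R/I` has finite length and cyclic socle, then `E[I]` is cyclic with annihilator `I`. -/
theorem exists_cyclic (hf : InjHull.IsInjectiveHull f) (I : Ideal R) (N : ℕ)
    (hN : maximalIdeal R ^ N ≤ I) (s : R)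
    (hs1 : ∀ a ∈ maximalIdeal R, a * s ∈ I)
    (hs2 : ∀ r, (∀ a ∈ maximalIdeal R, a * r ∈ I) → r ∈ I ⊔ Ideal.span {s}) (hs3 : s ∉ I) :
    ∃ ε : E, (∀ a : R, a • ε = 0 ↔ a ∈ I) ∧
      ∀ y : E, (∀ a ∈ I, a • y = 0) → ∃ r : R, y = r • ε := by
  have hlen : IsFiniteLength R (R ⧸ I) := isFiniteLength_of_pow_smul N (by
    intro a ha x
    obtain ⟨x, rfl⟩ := Ideal.Quotient.mk_surjective x
    change Ideal.Quotient.mk I (a * x) = 0
    rw [Ideal.Quotient.eq_zero_iff_mem]
    exact Ideal.mul_mem_right _ _ (hN ha))
  have htor : LocCoh.IsPowerTorsion (maximalIdeal R) (R ⧸ I) := by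
    intro x
    refine ⟨N, fun a ha => ?_⟩
    obtain ⟨x, rfl⟩ := Ideal.Quotient.mk_surjective x
    change Ideal.Quotient.mk I (a * x) = 0
    rw [Ideal.Quotient.eq_zero_iff_mem]
    exact Ideal.mul_mem_right _ _ (hN ha)
  -- the map `R → R/I`, `r ↦ r s`
  let L : R →ₗ[R] (R ⧸ I) := LinearMap.toSpanSingleton R _ (Submodule.Quotient.mk s)
  let k : R →ₗ[R] E := LinearMap.toSpanSingleton R E (f 1)
  have hLk : LinearMap.ker L ≤ LinearMap.ker k := by
    intro r hr
    rw [LinearMap.mem_ker] at hr ⊢
    change r • f 1 = 0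
    rw [smul_apply_one_eq_zero_iff hf]
    have hr' : r * s ∈ I := (Submodule.Quotient.mk_eq_zero _).mp hr
    by_contra hrm
    have hu : IsUnit r := by
      by_contra hu
      exact hrm ((mem_maximalIdeal r).mpr hu)
    exact hs3 ((Ideal.unit_mul_mem_iff_mem I hu).mp hr')
  obtain ⟨g, hg⟩ := exists_extension hf.isInjective L k hLk
  have hginj : Function.Injective g := by
    rw [injective_iff_map_eq_zero]
    intro x hx
    by_contra hx0
    obtain ⟨t, ht0, ht⟩ := exists_smul_mem_socle htor hx0
    obtain ⟨r, hr⟩ := Ideal.Quotient.mk_surjective (t • x)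
    have h1 : ∀ a ∈ maximalIdeal R, a * r ∈ I := by
      intro a ha
      have := ht a ha
      rw [← hr] at this
      exact (Ideal.Quotient.eq_zero_iff_mem).mp this
    obtain ⟨i, hi, z, hz, hiz⟩ := Submodule.mem_sup.mp (hs2 r h1)
    obtain ⟨a, rfl⟩ := Ideal.mem_span_singleton'.mp hz
    have h2 : t • x = L a := by
      rw [← hr, ← hiz]
      change Ideal.Quotient.mk I (i + a * s) = Ideal.Quotient.mk I (a * s)
      rw [map_add, (Ideal.Quotient.eq_zero_iff_mem).mpr hi, zero_add]
    have h3 : a • f 1 = 0 := by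
      have : g (t • x) = a • f 1 := by rw [h2, hg]; rfl
      rw [← this, map_smul, hx, smul_zero]
    rw [smul_apply_one_eq_zero_iff hf] at h3
    apply ht0
    rw [h2]
    exact (Ideal.Quotient.eq_zero_iff_mem).mpr (hs1 a h3)
  have hmk : ∀ a : R, a • g (Submodule.Quotient.mk 1) = g (Submodule.Quotient.mk a) := by
    intro a
    rw [← map_smul, ← Submodule.Quotient.mk_smul, smul_eq_mul, mul_one]
  have hann : ∀ a : R, a • g (Submodule.Quotient.mk 1) = 0 ↔ a ∈ I := by
    intro a
    rw [hmk, map_eq_zero_iff g hginj, Submodule.Quotient.mk_eq_zero]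
  refine ⟨g (Submodule.Quotient.mk 1), hann, ?_⟩
  intro y hy
  let φ₀ : (R ⧸ I) →ₗ[R] E := I.liftQ (LinearMap.toSpanSingleton R E y) (fun a ha => hy a ha)
  obtain ⟨φ, hφ⟩ := hf.isInjective.out g hginj φ₀
  obtain ⟨r, hr⟩ := exists_smul_eq hf φ hlen
  refine ⟨r, ?_⟩
  rw [← hr _ (fun a ha => (hann a).mpr ha), hφ]
  change y = (1 : R) • y
  rw [one_smul]

end Hull

section Main

variable {R : Type u} [CommRing R] [IsLocalRing R] [IsNoetherianRing R]
variable {E : Type u} [AddCommGroup E] [Module R E] {f : ResidueField R →ₗ[R] E}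
variable {M : Type u} [AddCommGroup M] [Module R M]

/-- The core of the argument: `j : M → E^(ι)` compatible with bases of the socles is onto the
`I`-torsion, provided `M[I]` is free over `R/I` and `R/I` has cyclic socle. -/
theorem mem_range_of_torsion (hf : InjHull.IsInjectiveHull f) (I : Ideal R) (N : ℕ)
    (hN : maximalIdeal R ^ N ≤ I) (hIm : I ≤ maximalIdeal R) (s : R)
    (hs1 : ∀ a ∈ maximalIdeal R, a * s ∈ I)
    (hs2 : ∀ r, (∀ a ∈ maximalIdeal R, a * r ∈ I) → r ∈ I ⊔ Ideal.span {s}) (hs3 : s ∉ I)
    {ι : Type u} (b c : ι → M) (j : M →ₗ[R] (ι →₀ E))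
    (hb : ∀ i, ∀ a ∈ maximalIdeal R, a • b i = 0)
    (hj : ∀ i, j (b i) = Finsupp.single i (f 1))
    (hc0 : ∀ i, ∀ a ∈ I, a • c i = 0)
    (hcA : ∀ y : M, (∀ a ∈ I, a • y = 0) → y ∈ Submodule.span R (Set.range c))
    (hcB : ∀ r : ι →₀ R, r.sum (fun i a => a • c i) = 0 → ∀ i, r i ∈ I)
    (z : ι →₀ E) (hz : ∀ a ∈ I, a • z = 0) : z ∈ LinearMap.range j := by
  classical
  obtain ⟨ε, hε1, hε2⟩ := exists_cyclic hf I N hN s hs1 hs2 hs3
  let T : Submodule R (ι →₀ E) := Submodule.span R (Set.range (fun i => Finsupp.single i ε))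
  have hcoord : ∀ (r' : ι →₀ R) (k : ι),
      (r'.sum (fun i a => a • (Finsupp.single i ε : ι →₀ E))) k = r' k • ε := by
    intro r' k
    rw [Finsupp.sum, Finsupp.finsetSum_apply]
    have : ∀ i, (r' i • Finsupp.single i ε : ι →₀ E) k = if i = k then r' i • ε else 0 := by
      intro i
      by_cases hik : i = k
      · subst hik; simp
      · simp [hik]
    rw [Finset.sum_congr rfl (fun i _ => this i), Finset.sum_ite_eq']
    by_cases hk : k ∈ r'.support
    · rw [if_pos hk]
    · rw [if_neg hk, Finsupp.notMem_support_iff.mp hk, zero_smul]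
  -- the `I`-torsion is contained in `T`, with coefficients
  have hT : ∀ z : ι →₀ E, (∀ a ∈ I, a • z = 0) →
      ∃ r : ι →₀ R, z = r.sum (fun i a => a • Finsupp.single i ε) := by
    intro z hz
    have h1 : ∀ i, ∃ r : R, z i = r • ε := fun i => hε2 (z i) (fun a ha => by
      have := DFunLike.congr_fun (hz a ha) i
      simpa using this)
    choose r hr using h1
    refine ⟨Finsupp.onFinset z.support (fun i => if z i = 0 then 0 else r i) (by
      intro i hi
      rw [Finsupp.mem_support_iff]
      intro h0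
      exact hi (if_pos h0)), ?_⟩
    rw [Finsupp.onFinset_sum _ (by intro; simp)]
    rw [← Finsupp.onFinset_sum (s := z.support) (f := fun i => if z i = 0 then 0 else r i) (by
      intro i hi
      rw [Finsupp.mem_support_iff]
      intro h0
      exact hi (if_pos h0)) (g := fun i a => a • (Finsupp.single i ε : ι →₀ E)) (by intro; simp)]
    ext k
    rw [hcoord, Finsupp.onFinset_apply]
    by_cases hk : z k = 0
    · rw [if_pos hk, hk, zero_smul]
    · rw [if_neg hk, hr k]
  have hTmem : ∀ r : ι →₀ R, r.sum (fun i a => a • Finsupp.single i ε) ∈ T := fun r =>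
    Submodule.sum_mem _ fun i _ => Submodule.smul_mem _ _ (Submodule.subset_span ⟨i, rfl⟩)
  -- the Nakayama step
  have hstep : T ≤ LinearMap.range j ⊔ maximalIdeal R • T := by
    rw [Submodule.span_le]
    rintro _ ⟨i, rfl⟩
    -- `s ε` lies in the socle
    have h1 : s • ε ∈ LinearMap.range f := by
      refine mem_range_of_smul_eq_zero hf.toIsEssentialInj ?_
      intro a ha
      rw [smul_smul]
      exact (hε1 _).mpr (hs1 a ha)
    obtain ⟨w, hw⟩ := h1
    obtain ⟨t, rfl⟩ := residue_surjective w
    have hw' : s • ε = t • f 1 := by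
      rw [← hw, ← map_smul, Algebra.smul_def, mul_one, ResidueField.algebraMap_eq]
    -- write `t • b i` as `s • y`
    have h2 : t • b i ∈ Submodule.span R (Set.range c) := hcA _ (by
      intro a ha
      rw [smul_comm, hb i a (hIm ha), smul_zero])
    rw [Finsupp.mem_span_range_iff_exists_finsupp] at h2
    obtain ⟨r, hr⟩ := h2
    have h3 : ∀ k, r k ∈ I ⊔ Ideal.span {s} := by
      intro k
      apply hs2
      intro a ha
      have h4 : (a • r).sum (fun i a => a • c i) = 0 := by
        rw [Finsupp.sum_smul_index' (by intro; simp)]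
        simp only [smul_eq_mul, mul_smul]
        rw [← Finsupp.smul_sum, hr, smul_comm, hb i a ha, smul_zero]
      exact hcB _ h4 k
    have h5 : ∀ k, ∃ a : R, r k - a * s ∈ I := by
      intro k
      obtain ⟨i', hi', z', hz', hiz⟩ := Submodule.mem_sup.mp (h3 k)
      obtain ⟨a, rfl⟩ := Ideal.mem_span_singleton'.mp hz'
      exact ⟨a, by rw [← hiz, add_sub_cancel_right]; exact hi'⟩
    choose a' ha' using h5
    let y : M := r.sum (fun k _ => a' k • c k)
    have hy : t • b i = s • y := by
      rw [← hr, Finsupp.smul_sum]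
      refine Finset.sum_congr rfl fun k _ => ?_
      change r k • c k = s • a' k • c k
      rw [smul_smul, ← sub_eq_zero, ← sub_smul, mul_comm s]
      exact hc0 k _ (ha' k)
    have hyI : ∀ a ∈ I, a • y = 0 := by
      intro a ha
      rw [Finsupp.smul_sum]
      refine Finset.sum_eq_zero fun k _ => ?_
      change a • a' k • c k = 0
      rw [smul_comm, hc0 k a ha, smul_zero]
    -- the difference
    have h6 : s • (Finsupp.single i ε - j y) = 0 := by
      rw [smul_sub, ← map_smul, ← hy, map_smul, hj, Finsupp.smul_single, Finsupp.smul_single, hw',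
        sub_self]
    have h7 : ∀ a ∈ I, a • (Finsupp.single i ε - j y) = 0 := by
      intro a ha
      rw [smul_sub, ← map_smul, hyI a ha, map_zero, sub_zero, Finsupp.smul_single,
        (hε1 a).mpr ha, Finsupp.single_zero]
    obtain ⟨r', hr'⟩ := hT _ h7
    have h8 : ∀ k, r' k ∈ maximalIdeal R := by
      intro k
      rw [hr'] at h6
      have h9 := DFunLike.congr_fun h6 k
      rw [Finsupp.smul_apply, hcoord, smul_smul, Finsupp.zero_apply] at h9
      have h10 := (hε1 _).mp h9
      by_contra hrm
      have hu : IsUnit (r' k) := by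
        by_contra hu
        exact hrm ((mem_maximalIdeal _).mpr hu)
      rw [mul_comm] at h10
      exact hs3 ((Ideal.unit_mul_mem_iff_mem I hu).mp h10)
    have h11 : Finsupp.single i ε = j y + (Finsupp.single i ε - j y) := by abel
    change Finsupp.single i ε ∈ LinearMap.range j ⊔ maximalIdeal R • T
    rw [h11]
    refine add_mem (Submodule.mem_sup_left ⟨y, rfl⟩) (Submodule.mem_sup_right ?_)
    rw [hr']
    exact Submodule.sum_mem _ fun k _ => Submodule.smul_mem_smul (h8 k) (Submodule.subset_span ⟨k, rfl⟩)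
  have hpow : ∀ n : ℕ, T ≤ LinearMap.range j ⊔ maximalIdeal R ^ n • T := by
    intro n
    induction n with
    | zero => rw [pow_zero, Submodule.one_smul]; exact le_sup_right
    | succ n ih =>
      refine ih.trans (sup_le le_sup_left ?_)
      refine (Submodule.smul_mono le_rfl hstep).trans ?_
      rw [Submodule.smul_sup, ← mul_smul, ← pow_succ]
      exact sup_le_sup_right Submodule.smul_le_right _
  have hT0 : maximalIdeal R ^ N • T = ⊥ := by
    rw [eq_bot_iff, Submodule.smul_le]
    intro a ha t ht
    rw [Submodule.mem_bot]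
    induction ht using Submodule.span_induction with
    | mem t ht =>
      obtain ⟨i, rfl⟩ := ht
      rw [Finsupp.smul_single, (hε1 a).mpr (hN ha), Finsupp.single_zero]
    | zero => rw [smul_zero]
    | add x y _ _ hx hy => rw [smul_add, hx, hy, add_zero]
    | smul r x _ hx => rw [smul_comm, hx, smul_zero]
  have hfin := hpow N
  rw [hT0, sup_bot_eq] at hfin
  obtain ⟨r, hr⟩ := hT z hz
  rw [hr]
  exact hfin (hTmem r)

end Main

/-- Stacks Tag 0EC3: over a regular local ring of prime characteristic p, let M be a module killed elementwise by powers of the maximal ideal and isomorphic to its own base change along Frobenius; then M is isomorphic to a (possibly infinite) sum of copies of E, where E is an injective hull of the residue field. -/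
theorem result (p : ℕ) [Fact p.Prime] (R : Type u) [CommRing R] [IsRegularLocalRing R] [CharP R p] (E : Type u) [AddCommGroup E] [Module R E] (f : IsLocalRing.ResidueField R →ₗ[R] E) (hf : InjHull.IsInjectiveHull f) (M : Type u) [AddCommGroup M] [Module R M] (hM : LocCoh.IsPowerTorsion (IsLocalRing.maximalIdeal R) M) (h : Nonempty ((ModuleCat.extendScalars (frobenius R p)).obj (ModuleCat.of R M) ≅ ModuleCat.of R M)) : ∃ ι : Type u, Nonempty (M ≃ₗ[R] (ι →₀ E)) := by
  classical
  obtain ⟨h⟩ := h
  let F := frobenius R p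
  have hF : F.Flat := frobenius_flat_of_isRegularLocalRing p R
  let e : (ModuleCat.extendScalars F).obj (ModuleCat.of R M) ≃ₗ[R] M := h.toLinearEquiv
  let u : M →+ M := semi F e
  have hu : ∀ (r : R) (m : M), u (r • m) = F r • u m := semi_smul F e
  obtain ⟨n, x, hx, hmin⟩ := exists_minimal_generators_maximalIdeal R
  let I : ℕ → Ideal R := fun k => (maximalIdeal R).map (iterateFrobenius R p k)
  have hI0 : I 0 = maximalIdeal R := by
    change (maximalIdeal R).map (iterateFrobenius R p 0) = _
    rw [iterateFrobenius_zero, Ideal.map_id]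
  have hIs : ∀ k, I (k + 1) = (I k).map F := by
    intro k
    have : iterateFrobenius R p (k + 1) = F.comp (iterateFrobenius R p k) := by
      ext x
      simp [F, iterateFrobenius_def, frobenius_def, pow_succ, pow_mul]
    change (maximalIdeal R).map (iterateFrobenius R p (k + 1)) = _
    rw [this, ← Ideal.map_map]
  have hp2 := (Fact.out : p.Prime).two_le
  have hIle : ∀ k, I k ≤ maximalIdeal R ^ (k + 1) := by
    intro k
    induction k with
    | zero => rw [hI0, zero_add, pow_one]
    | succ k ih =>
      rw [hIs, Ideal.map_le_iff_le_comap]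
      intro a ha
      rw [Ideal.mem_comap]
      change a ^ p ∈ _
      have h1 := Ideal.pow_mem_pow (ih ha) p
      rw [← pow_mul] at h1
      refine Ideal.pow_le_pow_right ?_ h1
      nlinarith
  have hIrad : ∀ k, ∃ N, maximalIdeal R ^ N ≤ I k := by
    intro k
    refine Ideal.exists_pow_le_of_le_radical_of_fg ?_ (maximalIdeal R).fg_of_isNoetherianRing
    intro a ha
    refine ⟨p ^ k, ?_⟩
    have := Ideal.mem_map_of_mem (iterateFrobenius R p k) ha
    rwa [iterateFrobenius_def] at this
  obtain ⟨ι, b, hb0, hbA, hbB⟩ := exists_socle_basis (R := R) M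
  let c : ℕ → ι → M := fun k i => (u^[k]) (b i)
  have hcs : ∀ k i, c (k + 1) i = u (c k i) := fun k i => Function.iterate_succ_apply' _ _ _
  have hc : ∀ k, (∀ i, ∀ a ∈ I k, a • c k i = 0) ∧
      (∀ y : M, (∀ a ∈ I k, a • y = 0) → y ∈ Submodule.span R (Set.range (c k))) ∧
      (∀ r : ι →₀ R, r.sum (fun i a => a • c k i) = 0 → ∀ i, r i ∈ I k) := by
    intro k
    induction k with
    | zero => rw [hI0]; exact ⟨hb0, hbA, hbB⟩
    | succ k ih =>
      obtain ⟨ih0, ihA, ihB⟩ := ih
      have hceq : c (k + 1) = fun i => u (c k i) := by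
        funext i; exact hcs k i
      refine ⟨?_, ?_, ?_⟩
      · intro i a ha
        rw [hIs] at ha
        rw [hcs]
        refine Submodule.span_induction (p := fun a _ => a • u (c k i) = 0) ?_ ?_ ?_ ?_ ha
        · rintro _ ⟨a, ha, rfl⟩
          rw [← hu, ih0 i a ha, map_zero]
        · rw [zero_smul]
        · intro a b _ _ ha hb
          rw [add_smul, ha, hb, add_zero]
        · intro r a _ ha
          rw [smul_eq_mul, mul_smul, ha, smul_zero]
      · rw [hceq, hIs]
        exact mem_span_semi F e hF (I k) (I k).fg_of_isNoetherianRing (c k) ihA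
      · rw [hIs]
        intro r hr i
        exact mem_map_of_sum_semi F e hF (I k) (c k) ihB r (by
          rw [← hr]
          refine Finset.sum_congr rfl fun i _ => ?_
          change r i • u (c k i) = r i • c (k + 1) i
          rw [hcs]) i
  -- the embedding
  have hinj : Module.Injective R (ι →₀ E) :=
    Groth.Agent.Localalg.InjHull.injective_of_equiv
      (Groth.Agent.Localalg.InjDecomp.injective_directSum (fun _ : ι => E) (fun _ => hf.isInjective))
      (finsuppLEquivDirectSum R E ι)
  let L : (ι →₀ R) →ₗ[R] M := Finsupp.linearCombination R b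
  let k : (ι →₀ R) →ₗ[R] (ι →₀ E) :=
    Finsupp.mapRange.linearMap (LinearMap.toSpanSingleton R E (f 1))
  have hk : ∀ (r : ι →₀ R) (i : ι), k r i = r i • f 1 := fun r i => rfl
  have hkL : ∀ r : ι →₀ R, L r = 0 ↔ k r = 0 := by
    intro r
    constructor
    · intro hr
      ext i
      rw [hk, Finsupp.zero_apply, smul_apply_one_eq_zero_iff hf]
      exact hbB r hr i
    · intro hr
      change r.sum (fun i a => a • b i) = 0
      refine Finset.sum_eq_zero fun i _ => ?_
      apply hb0
      rw [← smul_apply_one_eq_zero_iff hf, ← hk, hr, Finsupp.zero_apply]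
  obtain ⟨j, hj⟩ := exists_extension hinj L k (fun r hr => (hkL r).mp hr)
  have hjb : ∀ i, j (b i) = Finsupp.single i (f 1) := by
    intro i
    have h1 : L (Finsupp.single i 1) = b i := by simp [L]
    rw [← h1, hj]
    simp [k]
  have hjinj : Function.Injective j := by
    rw [injective_iff_map_eq_zero]
    intro y hy
    by_contra hy0
    obtain ⟨t, ht0, ht⟩ := exists_smul_mem_socle hM hy0
    have h1 := hbA _ ht
    rw [Finsupp.mem_span_range_iff_exists_finsupp] at h1
    obtain ⟨r, hr⟩ := h1
    have h2 : L r = t • y := hr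
    apply ht0
    rw [← h2, hkL, ← hj, h2, map_smul, hy, smul_zero]
  have hjsurj : Function.Surjective j := by
    intro z
    -- a power of the maximal ideal kills `z`
    have hE := isPowerTorsion_hull hf
    obtain ⟨N, hN⟩ : ∃ N : ℕ, ∀ a ∈ maximalIdeal R ^ N, a • z = 0 := by
      choose N hN using fun i => hE (z i)
      refine ⟨z.support.sup N, fun a ha => ?_⟩
      ext i
      rw [Finsupp.smul_apply, Finsupp.zero_apply]
      by_cases hi : i ∈ z.support
      · exact hN i a (Ideal.pow_le_pow_right (Finset.le_sup hi) ha)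
      · rw [Finsupp.notMem_support_iff.mp hi, smul_zero]
    -- the socle of `R / I N`
    obtain ⟨q, hq⟩ : ∃ q, p ^ N = q + 1 := ⟨p ^ N - 1, by
      have : 0 < p ^ N := pow_pos (by omega) _
      omega⟩
    have hfun : (⇑(iterateFrobenius R p N) ∘ x) = fun i => x i ^ (q + 1) := by
      funext i
      simp [iterateFrobenius_def, hq]
    have hind : Indep (fun i => x i ^ (q + 1)) := by
      have := indep_of_flat _ (flat_iterateFrobenius p R hF N) x hx hmin
      simpa [iterateFrobenius_def, hq] using this
    have hIN : Ideal.span (Set.range (fun i => x i ^ (q + 1))) = I N := by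
      change _ = (maximalIdeal R).map (iterateFrobenius R p N)
      rw [← hx, Ideal.map_span, ← Set.range_comp, hfun]
    obtain ⟨s, hs1, hs2⟩ := cycSoc_pow hx q hind
    rw [hIN] at hs1 hs2
    obtain ⟨N', hN'⟩ := hIrad N
    have hs3 : s ∉ I N := by
      intro hs
      have htor : LocCoh.IsPowerTorsion (maximalIdeal R) (R ⧸ I N) := by
        intro x
        refine ⟨N', fun a ha => ?_⟩
        obtain ⟨x, rfl⟩ := Ideal.Quotient.mk_surjective x
        change Ideal.Quotient.mk (I N) (a * x) = 0
        rw [Ideal.Quotient.eq_zero_iff_mem]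
        exact Ideal.mul_mem_right _ _ (hN' ha)
      have h1 : (Ideal.Quotient.mk (I N) 1) ≠ 0 := by
        rw [Ne, Ideal.Quotient.eq_zero_iff_mem]
        intro h1
        have h2 := hIle N h1
        have h3 := Ideal.pow_le_self (Nat.succ_ne_zero N) h2
        exact (Ideal.ne_top_iff_one _).mp (Ideal.IsPrime.ne_top inferInstance) h3
      obtain ⟨t, ht0, ht⟩ := exists_smul_mem_socle htor h1
      have h4 : t ∈ I N ⊔ Ideal.span {s} := hs2 t (by
        intro a ha
        have := ht a ha
        change Ideal.Quotient.mk (I N) (a * (t * 1)) = 0 at this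
        rwa [mul_one, Ideal.Quotient.eq_zero_iff_mem] at this)
      have h5 : I N ⊔ Ideal.span {s} = I N := by
        rw [sup_eq_left, Ideal.span_le, Set.singleton_subset_iff]
        exact hs
      rw [h5] at h4
      apply ht0
      change Ideal.Quotient.mk (I N) (t * 1) = 0
      rwa [mul_one, Ideal.Quotient.eq_zero_iff_mem]
    obtain ⟨hc0, hcA, hcB⟩ := hc N
    exact mem_range_of_torsion hf (I N) N' hN' ((hIle N).trans (Ideal.pow_le_self (Nat.succ_ne_zero N)))
      s hs1 hs2 hs3 b (c N) j hb0 hjb hc0 hcA hcB z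
      (fun a ha => hN a (Ideal.pow_le_pow_right (Nat.le_succ N) (hIle N ha)))
  exact ⟨ι, ⟨LinearEquiv.ofBijective j ⟨hjinj, hjsurj⟩⟩⟩

end Groth.Agent.S0338
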