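import Groth.Statements.S0339
import Groth.Agent.Localalg.InjDim

set_option autoImplicit false
universe u v
open CategoryTheory
open Goren

namespace Groth.Agent.S0339

/-- Stacks Tag 0AVJ, for a module: a finite module M over a Noetherian local ring has finite injective dimension exactly when Ext^i(κ, M) vanishes for all large i, κ the residue field.  (The source states it for bounded-below complexes with finite cohomology; we state the module case.) -/
theorem result (A : Type u) [CommRing A] [IsLocalRing A] [IsNoetherianRing A] (M : Type u) [AddCommGroup M] [Module A M] [Module.Finite A M] : (∃ n : ℕ, HasInjectiveDimensionLT (ModuleCat.of A M) n) ↔ ∃ N : ℕ, ∀ i : ℕ, N ≤ i → Subsingleton (Abelian.Ext (ModuleCat.of A (IsLocalRing.ResidueField A)) (ModuleCat.of A M) i) := by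
  constructor
  · rintro ⟨n, hn⟩
    exact ⟨n, fun i hi ↦ HasInjectiveDimensionLT.subsingleton _ n i hi _⟩
  · rintro ⟨N, hN⟩
    exact ⟨N, Groth.Agent.Localalg.InjDim.hasInjectiveDimensionLT_of_ext_quotient_maximalIdeal
      (ModuleCat.of A M) N hN⟩

end Groth.Agent.S0339
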