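import Groth.Statements.S0345
import Groth.Agent.CalgA.RegBasic
import Groth.Agent.Localalg.InjDim
import Groth.Agent.Localalg.GorExt
import Groth.Agent.Sga2.ExtLoc

set_option autoImplicit false
universe u v
open Goren

namespace Groth.Agent.S0345

open CategoryTheory Abelian

/-- Injective dimension `< d + 1` for a Gorenstein local ring of dimension `d`. -/
theorem injDim_lt (B : Type u) [CommRing B] [LocCoh.IsGorensteinLocalRing B] (d : ℕ)
    (hd : ringKrullDim B = d) : HasInjectiveDimensionLT (ModuleCat.of B B) (d + 1) := by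
  refine Localalg.InjDim.hasInjectiveDimensionLT_of_ext_quotient_maximalIdeal _ _ fun i hi ↦ ?_
  exact (Localalg.GorExt.ext_residueField d B hd).1 i (by omega)

/-- The dimension of a Gorenstein local ring is smaller than any strict bound of the injective
dimension. -/
theorem dim_lt (B : Type u) [CommRing B] [LocCoh.IsGorensteinLocalRing B] (n : ℕ)
    (h : HasInjectiveDimensionLT (ModuleCat.of B B) n) : ringKrullDim B < n := by
  obtain ⟨d, hd⟩ := Groth.Agent.CalgA.RegBasic.ringKrullDim_eq_natCast B
  rw [hd]
  by_contra hc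
  have hc' : n ≤ d := by
    have := not_lt.1 hc
    exact_mod_cast this
  obtain ⟨e⟩ := (Localalg.GorExt.ext_residueField d B hd).2
  have := HasInjectiveDimensionLT.subsingleton (ModuleCat.of B B) n d hc'
    (ModuleCat.of B (IsLocalRing.ResidueField B))
  exact not_subsingleton _ e.subsingleton

/-- Localization of the injective dimension. -/
theorem injDim_localization (A : Type u) [CommRing A] [IsNoetherianRing A] (n : ℕ)
    (h : HasInjectiveDimensionLT (ModuleCat.of A A) n) (p : PrimeSpectrum A) :
    HasInjectiveDimensionLT (ModuleCat.of (Localization p.asIdeal.primeCompl)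
      (Localization p.asIdeal.primeCompl)) n := by
  rw [Localalg.InjDim.hasInjectiveDimensionLT_iff_ideal]
  intro J
  obtain ⟨I, rfl⟩ : ∃ I, Submodule.localized' (Localization p.asIdeal.primeCompl)
      p.asIdeal.primeCompl (Algebra.linearMap A (Localization p.asIdeal.primeCompl)) I = J :=
    ⟨J.comap (algebraMap A _), by
      simp [Ideal.localized'_eq_map, IsLocalization.map_under p.asIdeal.primeCompl]⟩
  have h1 : Subsingleton (Ext.{u} (ModuleCat.of A (A ⧸ I)) (ModuleCat.of A A) n) :=
    HasInjectiveDimensionLT.subsingleton _ n n le_rfl _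
  have h2 := (Sga2.ExtLoc.subsingleton_localized_iff p (A ⧸ I) A n).2 (by
    rw [Module.support_eq_empty]
    exact Set.notMem_empty _)
  have e1 : LocalizedModule p.asIdeal.primeCompl (A ⧸ I) ≃ₗ[Localization p.asIdeal.primeCompl]
      (Localization p.asIdeal.primeCompl ⧸ Submodule.localized' (Localization p.asIdeal.primeCompl)
        p.asIdeal.primeCompl (Algebra.linearMap A (Localization p.asIdeal.primeCompl)) I) :=
    (IsLocalizedModule.linearEquiv p.asIdeal.primeCompl
      (LocalizedModule.mkLinearMap p.asIdeal.primeCompl (A ⧸ I))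
      (Submodule.toLocalizedQuotient' (Localization p.asIdeal.primeCompl) p.asIdeal.primeCompl
        (Algebra.linearMap A (Localization p.asIdeal.primeCompl)) I)).extendScalarsOfIsLocalization
      p.asIdeal.primeCompl (Localization p.asIdeal.primeCompl)
  exact Localalg.InjDim.subsingleton_ext_congr e1 (Sga2.ExtLoc.ringEquiv p.asIdeal.primeCompl) n h2

/-- Stacks Tag 0HB2: for a Noetherian ring A, the A-module A has finite injective dimension exactly when every localization of A at a prime is Gorenstein and A has finite Krull dimension. -/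
theorem result (A : Type u) [CommRing A] [IsNoetherianRing A] : (∃ n : ℕ, CategoryTheory.HasInjectiveDimensionLT (ModuleCat.of A A) n) ↔ (LocCoh.IsGorensteinRing A ∧ ringKrullDim A < ⊤) := by
  constructor
  · rintro ⟨n, hn⟩
    have hG : ∀ p : PrimeSpectrum A, LocCoh.IsGorensteinLocalRing (Localization.AtPrime p.asIdeal) :=
      fun p ↦ ⟨n, injDim_localization A n hn p⟩
    refine ⟨⟨fun p hp ↦ hG ⟨p, hp⟩⟩, ?_⟩
    have hb : ringKrullDim A ≤ n := by
      rw [ringKrullDim_le_iff_height_le]
      intro p hp
      have := hG ⟨p, hp⟩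
      rw [← IsLocalization.AtPrime.ringKrullDim_eq_height p (Localization.AtPrime p)]
      exact (dim_lt _ n (injDim_localization A n hn ⟨p, hp⟩)).le
    exact lt_of_le_of_lt hb (WithBot.coe_lt_coe.2 (ENat.natCast_lt_top n))
  · rintro ⟨hG, hd⟩
    obtain ⟨d, hd'⟩ : ∃ d : ℕ, ringKrullDim A ≤ d := by
      cases h : ringKrullDim A with
      | bot => exact ⟨0, bot_le⟩
      | coe x =>
        rw [h] at hd
        obtain ⟨m, hm⟩ := ENat.ne_top_iff_exists.1 (WithBot.coe_lt_coe.1 hd).ne
        exact ⟨m, by rw [← hm]; rfl⟩
    refine ⟨d + 1, ?_⟩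
    rw [Localalg.InjDim.hasInjectiveDimensionLT_iff_ideal]
    intro I
    have : Module.support A (Ext.{u} (ModuleCat.of A (A ⧸ I)) (ModuleCat.of A A) (d + 1)) = ∅ := by
      refine Set.eq_empty_of_forall_notMem fun p hp ↦ ?_
      refine (Sga2.ExtLoc.subsingleton_localized_iff p (A ⧸ I) A (d + 1)).1 ?_ hp
      have := hG.isGorensteinLocalRing_localization p.asIdeal
      obtain ⟨e, he⟩ := CalgA.RegBasic.ringKrullDim_eq_natCast (Localization.AtPrime p.asIdeal)
      have hed : e ≤ d := by
        have h3 := (IsLocalization.AtPrime.ringKrullDim_eq_height p.asIdeal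
          (Localization.AtPrime p.asIdeal)).symm.trans he
        have h4 := (Ideal.height_le_ringKrullDim_of_ne_top p.isPrime.ne_top).trans hd'
        rw [h3] at h4
        exact_mod_cast h4
      have h1 := injDim_lt _ e he
      have h2 : Subsingleton (Ext.{u} (ModuleCat.of (Localization.AtPrime p.asIdeal)
        (LocalizedModule p.asIdeal.primeCompl (A ⧸ I)))
        (ModuleCat.of (Localization.AtPrime p.asIdeal) (Localization.AtPrime p.asIdeal)) (d + 1)) :=
        HasInjectiveDimensionLT.subsingleton _ (e + 1) (d + 1) (by omega) _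
      exact Localalg.InjDim.subsingleton_ext_congr (LinearEquiv.refl _ _)
        (Sga2.ExtLoc.ringEquiv p.asIdeal.primeCompl).symm (d + 1) h2
    rwa [Module.support_eq_empty_iff] at this

end Groth.Agent.S0345
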