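import Groth.Statements.S0346
import Groth.Agent.Localalg.GrpSchShear

set_option autoImplicit false
universe u v
open CategoryTheory MonoidalCategory CartesianMonoidalCategory MonObj GrpObj AlgebraicGeometry
open GrpSch

namespace Groth.Agent.S0346

section cat

variable {C : Type u} [Category.{v} C] [CartesianMonoidalCategory C] (G : C) [GrpObj G]

lemma isPullback_diag : IsPullback (lift (𝟙 G) (𝟙 G)) (toUnit G) ((fst G G)⁻¹ * snd G G) η[G] where
  w := by
    rw [comp_mul, comp_inv, lift_fst, lift_snd, inv_mul_cancel, Hom.one_def]
  isLimit' := ⟨Limits.PullbackCone.IsLimit.mk _ (fun s => s.fst ≫ fst G G)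
    (fun s => by
      have h := s.condition
      rw [comp_mul, comp_inv] at h
      have h2 : s.snd ≫ η[G] = 1 := by
        rw [toUnit_unique s.snd (toUnit _), Hom.one_def]
      rw [h2, inv_mul_eq_one] at h
      ext
      · simp
      · simpa using h)
    (fun s => toUnit_unique _ _)
    (fun s m hm _ => by
      rw [← hm]; simp)⟩

end cat

set_option backward.isDefEq.respectTransparency false in
lemma isPullback_diagonal (S : Scheme.{u}) (G : Over S) [GrpObj G] :
    IsPullback (Limits.pullback.diagonal G.hom) G.hom ((fst G G)⁻¹ * snd G G).left η[G].left :=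
  (isPullback_diag G).map (Over.forget S)

/-- Stacks Tag 047G: a group scheme over any base scheme is separated over the base exactly when its unit section is a closed immersion, and quasi-separated exactly when the unit section is quasi-compact. -/
theorem result (S : Scheme.{u}) (G : Over S) [GrpObj G] : (IsSeparated G.hom ↔ IsClosedImmersion η[G].left) ∧ (QuasiSeparated G.hom ↔ QuasiCompact η[G].left) := by
  have hη : η[G].left ≫ G.hom = 𝟙 S := by simp
  have hc : IsClosedImmersion (𝟙 S) := inferInstance
  have hq : QuasiCompact (𝟙 S) := inferInstance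
  refine ⟨⟨fun h => ?_, fun h => ⟨?_⟩⟩, ⟨fun h => ?_, fun h => ⟨?_⟩⟩⟩
  · have : IsClosedImmersion (η[G].left ≫ G.hom) := by rw [hη]; exact hc
    exact IsClosedImmersion.of_comp _ G.hom
  · exact MorphismProperty.of_isPullback (P := @IsClosedImmersion) (isPullback_diagonal S G).flip h
  · have : QuasiCompact (η[G].left ≫ G.hom) := by rw [hη]; exact hq
    exact QuasiCompact.of_comp _ G.hom
  · exact MorphismProperty.of_isPullback (P := @QuasiCompact) (isPullback_diagonal S G).flip h

end Groth.Agent.S0346
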