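import Groth.Statements.S0350
import Groth.Agent.Localalg.GrpSchComp

set_option autoImplicit false
universe u v
open CategoryTheory MonoidalCategory CartesianMonoidalCategory MonObj GrpObj AlgebraicGeometry
open GrpSch

namespace Groth.Agent.S0350

/-- Stacks Tag 047M (1),(2): in a group scheme over a field every local ring has exactly one minimal prime, and exactly one irreducible component passes through the identity point.  (Part (3), geometric irreducibility of that component, is not stated.) -/
theorem result (K : Type u) [Field K] (G : Over (Spec (CommRingCat.of K))) [GrpObj G] : (∀ x : G.left, (minimalPrimes (G.left.presheaf.stalk x)).Subsingleton) ∧ ∃! Z : Set G.left, Z ∈ irreducibleComponents (G.left : Type u) ∧ η[G].left (IsLocalRing.closedPoint K) ∈ Z :=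
  ⟨fun x => (Groth.Agent.Localalg.GrpSchComp.uniqueGen G x).subsingleton_minimalPrimes,
    (Groth.Agent.Localalg.GrpSchComp.uniqueGen G _).existsUnique⟩

end Groth.Agent.S0350
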