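import Groth.Statements.S0354
import Groth.Agent.Localalg.GrpDim

set_option autoImplicit false
universe u v
open CategoryTheory MonoidalCategory CartesianMonoidalCategory MonObj GrpObj AlgebraicGeometry
open GrpSch

namespace Groth.Agent.S0354

/-- Stacks Tag 045X (last sentence): in a group scheme locally of finite type over a field, the local ring at every closed point has Krull dimension equal to the dimension of the whole scheme. -/
theorem result (K : Type u) [Field K] (G : Over (Spec (CommRingCat.of K))) [GrpObj G] [LocallyOfFiniteType G.hom] (g : G.left) (hg : IsClosed ({g} : Set G.left)) : ringKrullDim (G.left.presheaf.stalk g) = topologicalKrullDim G.left := by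
  haveI : GrpObj (Over.mk G.hom) := (inferInstance : GrpObj G)
  exact Groth.Agent.Localalg.GrpDim.ringKrullDim_stalk (G := G.left) G.hom g hg

end Groth.Agent.S0354
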