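import Groth.Statements.S0356
-- import your own Groth.Agent.* helpers here
import Groth.Agent.Localalg.HVLC
import Groth.Agent.CohqA.HOpen

set_option autoImplicit false
universe u v
open CategoryTheory AlgebraicGeometry
open LocCoh

namespace Groth.Agent.S0356

/-- Stacks Tag 0DWR (2), Noetherian case: for a module M over a Noetherian ring and an ideal I, the cohomology in degree p ≥ 1 of the associated quasi-coherent sheaf on the open complement of V(I) in Spec is the local cohomology of M with support in I in degree p + 1.  (The four-term exact sequence in low degrees is not stated.) -/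
theorem result (R : Type u) [CommRing R] [IsNoetherianRing R] (I : Ideal R) (M : Type u) [AddCommGroup M] [Module R M] (p : ℕ) (hp : 1 ≤ p) : Nonempty (Coh.HH (↑(LocCoh.puncturedOpen R I)) ((AlgebraicGeometry.tilde (R := CommRingCat.of R) (ModuleCat.of R M)).restrict (LocCoh.puncturedOpen R I).ι) p ≃+ LocCoh.H I (p + 1) M) := by
  obtain ⟨n, rfl⟩ := Nat.exists_eq_add_of_le' hp
  obtain ⟨e, -, -⟩ := Localalg.HVLC.exists_hvEquiv I n
  exact ⟨(CohqA.HOpen.HHonEquiv (AlgebraicGeometry.tilde (R := CommRingCat.of R) (ModuleCat.of R M))
    (LocCoh.puncturedOpen R I) (n + 1)).symm.trans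
      ((FormalA.HUBasic.toE _ _ _).trans (e (ModuleCat.of R M)))⟩

end Groth.Agent.S0356
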