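import Groth.Statements.S0358
import Groth.Agent.Localalg.FibreReg
import Groth.Agent.S0322

set_option autoImplicit false
universe u v
open LocCoh

namespace Groth.Agent.S0358

/-- Stacks Tag 0BUY: for a flat local homomorphism R → S of Noetherian local rings whose closed fibre S/m_R S is Cohen–Macaulay, and a proper ideal I of S, the I-depth of S is at least dim(S/m_R S) − dim(S/(m_R S + I)); stated additively. -/
theorem result (R : Type u) [CommRing R] [IsLocalRing R] [IsNoetherianRing R] (S : Type u) [CommRing S] [IsLocalRing S] [IsNoetherianRing S] [Algebra R S] [IsLocalHom (algebraMap R S)] [Module.Flat R S] (hCM : LocCoh.IsCohenMacaulayLocalRing (S ⧸ (IsLocalRing.maximalIdeal R).map (algebraMap R S))) (I : Ideal S) (hI : I ≠ ⊤) : ringKrullDim (S ⧸ (IsLocalRing.maximalIdeal R).map (algebraMap R S)) ≤ ringKrullDim (S ⧸ ((IsLocalRing.maximalIdeal R).map (algebraMap R S) ⊔ I)) + ((LocCoh.idealDepth I S : ℕ∞) : WithBot ℕ∞) := by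
  set J : Ideal S := (IsLocalRing.maximalIdeal R).map (algebraMap R S) with hJ
  have hJm : J ≤ IsLocalRing.maximalIdeal S := by
    rw [hJ]
    exact ((IsLocalRing.local_hom_TFAE (algebraMap R S)).out 0 2 rfl rfl).mp inferInstance
  have hIm : I ≤ IsLocalRing.maximalIdeal S := IsLocalRing.le_maximalIdeal hI
  have hI' : I.map (Ideal.Quotient.mk J) ≠ ⊤ := by
    intro h
    have h3 := congrArg (Ideal.comap (Ideal.Quotient.mk J)) h
    rw [Ideal.comap_map_of_surjective _ Ideal.Quotient.mk_surjective, Ideal.comap_top,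
      ← RingHom.ker_eq_comap_bot, Ideal.mk_ker] at h3
    exact Ideal.IsPrime.ne_top inferInstance (top_le_iff.1 (h3.ge.trans (sup_le hIm hJm)))
  have hloc : IsLocalRing (S ⧸ J) := hCM.toIsLocalRing
  have hCM' : LocCoh.IsCohenMacaulayModule (S ⧸ J) (S ⧸ J) := hCM.supportDim_eq_depth
  have h1 := Groth.Agent.S0322.result (S ⧸ J) (I.map (Ideal.Quotient.mk J)) hI' (S ⧸ J) hCM'
  rw [Module.supportDim_self_eq_ringKrullDim, smul_eq_mul, Ideal.mul_top,
    Module.supportDim_quotient_eq_ringKrullDim] at h1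
  have h2 : ringKrullDim ((S ⧸ J) ⧸ I.map (Ideal.Quotient.mk J)) = ringKrullDim (S ⧸ (J ⊔ I)) :=
    ringKrullDim_eq_of_ringEquiv (DoubleQuot.quotQuotEquivQuotSup J I)
  rw [h1, h2]
  gcongr
  exact_mod_cast Groth.Agent.Localalg.FibreReg.idealDepth_fibre_le I hI

end Groth.Agent.S0358
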