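import Groth.Statements.S0362
import Mathlib.RingTheory.Artinian.Ring
import Mathlib.RingTheory.Ideal.KrullsHeightTheorem
import Mathlib.RingTheory.LocalRing.Quotient

set_option autoImplicit false
universe u v
open CategoryTheory
open Dual

namespace Groth.Agent.S0362

open IsLocalRing

set_option linter.style.haveILetI false
set_option linter.unusedSectionVars false

variable {A : Type u} [CommRing A] [IsLocalRing A] [IsNoetherianRing A]

lemma isFiniteLength_quot (n : ℕ) : IsFiniteLength A (A ⧸ (maximalIdeal A)^(n+1)) := by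
  rw [isFiniteLength_iff_isNoetherian_isArtinian]
  refine ⟨inferInstance, ?_⟩
  have hne : (maximalIdeal A)^(n+1) ≠ ⊤ := by
    intro h
    have : (maximalIdeal A)^(n+1) ≤ maximalIdeal A := Ideal.pow_le_self (by omega)
    rw [h] at this
    exact (maximalIdeal.isMaximal A).ne_top (top_le_iff.mp this)
  haveI : Nontrivial (A ⧸ (maximalIdeal A)^(n+1)) := Ideal.Quotient.nontrivial_iff.mpr hne
  haveI : IsLocalRing (A ⧸ (maximalIdeal A)^(n+1)) :=
    IsLocalRing.of_surjective' (Ideal.Quotient.mk _) Ideal.Quotient.mk_surjective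
  haveI : IsArtinianRing (A ⧸ (maximalIdeal A)^(n+1)) := by
    rw [isArtinianRing_iff_isNilpotent_maximalIdeal]
    refine ⟨n+1, ?_⟩
    have : (maximalIdeal A).map (Ideal.Quotient.mk _) = maximalIdeal (A ⧸ (maximalIdeal A)^(n+1)) := by
      apply IsLocalRing.eq_maximalIdeal
      apply Ideal.IsMaximal.map_of_surjective_of_ker_le Ideal.Quotient.mk_surjective
      rw [Ideal.mk_ker]
      exact Ideal.pow_le_self (by omega)
    rw [← this, ← Ideal.map_pow]
    simp [Ideal.map_quotient_self]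
  exact isArtinian_of_surjective_algebraMap
    (S := A) (R := A ⧸ (maximalIdeal A)^(n+1)) (M := A ⧸ (maximalIdeal A)^(n+1)) Ideal.Quotient.mk_surjective

lemma exists_pow_smul_eq_zero (M : Type u) [AddCommGroup M] [Module A M] (h : IsFiniteLength A M) :
    ∃ n : ℕ, ∀ a ∈ (maximalIdeal A)^(n+1), ∀ x : M, a • x = 0 := by
  rw [isFiniteLength_iff_isNoetherian_isArtinian] at h
  obtain ⟨h1, h2⟩ := h
  let f : ℕ →o (Submodule A M)ᵒᵈ :=
    ⟨fun n => OrderDual.toDual ((maximalIdeal A)^n • (⊤ : Submodule A M)), by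
      intro a b hab
      exact Submodule.smul_mono_left (Ideal.pow_le_pow_right hab)⟩
  obtain ⟨n, hn⟩ := IsArtinian.monotone_stabilizes f
  refine ⟨n, ?_⟩
  have h1 : (maximalIdeal A)^n • (⊤ : Submodule A M) = (maximalIdeal A)^(n+1) • (⊤ : Submodule A M) :=
    hn (n+1) (by omega)
  have h2 : (maximalIdeal A)^n • (⊤ : Submodule A M) = ⊥ := by
    apply Submodule.eq_bot_of_le_smul_of_le_jacobson_bot (maximalIdeal A)
    · exact IsNoetherian.noetherian _
    · conv_lhs => rw [h1]
      rw [pow_succ', Submodule.mul_smul]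
    · exact IsLocalRing.maximalIdeal_le_jacobson _
  rw [h2] at h1
  intro a ha x
  have : a • x ∈ (maximalIdeal A)^(n+1) • (⊤ : Submodule A M) := Submodule.smul_mem_smul ha trivial
  rw [← h1] at this
  simpa using this

/-- underlying linear map -/
abbrev lin {X Y : FinLen A} (f : X ⟶ Y) : X.obj →ₗ[A] Y.obj := f.hom.hom

/-- morphism from linear map -/
abbrev mor {X Y : FinLen A} (f : X.obj →ₗ[A] Y.obj) : X ⟶ Y := ObjectProperty.homMk (ModuleCat.ofHom f)

lemma lin_inj {X Y : FinLen A} {f g : X ⟶ Y} (h : lin f = lin g) : f = g := by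
  ext x
  exact LinearMap.congr_fun h x

lemma lin_mor {X Y : FinLen A} (f : X.obj →ₗ[A] Y.obj) : lin (mor f) = f := rfl

lemma lin_zero {X Y : FinLen A} : lin (0 : X ⟶ Y) = 0 := rfl
lemma lin_add {X Y : FinLen A} (f g : X ⟶ Y) : lin (f + g) = lin f + lin g := rfl
lemma lin_smul {X Y : FinLen A} (a : A) (f : X ⟶ Y) : lin (a • f) = a • lin f := rfl
lemma lin_comp {X Y Z : FinLen A} (f : X ⟶ Y) (g : Y ⟶ Z) : lin (f ≫ g) = lin g ∘ₗ lin f := rfl
lemma lin_id {X : FinLen A} : lin (𝟙 X) = LinearMap.id := rfl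

/-- object from module -/
abbrev ob (M : Type u) [AddCommGroup M] [Module A M] (h : IsFiniteLength A M) : FinLen A :=
  ⟨ModuleCat.of A M, h⟩

lemma finLen_quot (X : FinLen A) (N : Submodule A X.obj) : IsFiniteLength A (X.obj ⧸ N) :=
  X.property.of_surjective (f := N.mkQ) (Submodule.mkQ_surjective _)

lemma finLen_sub (X : FinLen A) (N : Submodule A X.obj) : IsFiniteLength A N :=
  X.property.of_injective (f := N.subtype) (Submodule.injective_subtype _)

lemma surjective_of_epi {X Y : FinLen A} (f : X ⟶ Y) [Epi f] : Function.Surjective (lin f) := by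
  rw [← LinearMap.range_eq_top]
  let Z : FinLen A := ob _ (finLen_quot Y (LinearMap.range (lin f)))
  let g : Y ⟶ Z := mor (LinearMap.range (lin f)).mkQ
  have h : f ≫ g = f ≫ 0 := by
    rw [Limits.comp_zero]
    apply lin_inj
    rw [lin_comp, lin_mor, lin_zero]
    exact LinearMap.range_mkQ_comp _
  have h2 := (cancel_epi f).mp h
  have h3 : (LinearMap.range (lin f)).mkQ = 0 := congrArg lin h2
  rw [← Submodule.ker_mkQ (LinearMap.range (lin f)), h3, LinearMap.ker_zero]

lemma epi_of_surjective {X Y : FinLen A} (f : X ⟶ Y) (hf : Function.Surjective (lin f)) : Epi f := by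
  constructor
  intro Z g h hgh
  apply lin_inj
  have := congrArg lin hgh
  rw [lin_comp, lin_comp] at this
  exact LinearMap.cancel_right hf |>.mp this

variable (F : FinLen A ⥤ FinLen A) [F.Additive] [F.Linear A]

lemma smul_F_eq_zero (X : FinLen A) (a : A) (h : ∀ x : X.obj, a • x = 0) (y : (F.obj X).obj) : a • y = 0 := by
  have h1 : a • 𝟙 X = 0 := by
    apply lin_inj
    ext x
    exact h x
  have h2 : a • 𝟙 (F.obj X) = 0 := by
    rw [← F.map_id, ← F.map_smul, h1, F.map_zero]
  have h3 := congrArg lin h2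
  exact LinearMap.congr_fun h3 y

lemma smul_eq_zero_of_F [F.Faithful] (X : FinLen A) (a : A) (h : ∀ x : (F.obj X).obj, a • x = 0) (y : X.obj) : a • y = 0 := by
  have h1 : a • 𝟙 (F.obj X) = 0 := by
    apply lin_inj
    ext x
    exact h x
  have h2 : a • 𝟙 X = 0 := by
    apply F.map_injective
    rw [F.map_zero, F.map_smul, F.map_id, h1]
  have h3 := congrArg lin h2
  exact LinearMap.congr_fun h3 y


lemma simple_of_F [F.Faithful] (X : FinLen A) (h : IsSimpleModule A (F.obj X).obj) : IsSimpleModule A X.obj := by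
  have hnt : Nontrivial X.obj := by
    by_contra hX
    rw [not_nontrivial_iff_subsingleton] at hX
    have h1 : 𝟙 X = 0 := by
      apply lin_inj
      ext x
      exact Subsingleton.elim _ _
    have h2 : 𝟙 (F.obj X) = 0 := by rw [← F.map_id, h1, F.map_zero]
    have h3 := congrArg lin h2
    haveI := IsSimpleModule.nontrivial A (F.obj X).obj
    obtain ⟨y, hy⟩ := exists_ne (0 : (F.obj X).obj)
    exact hy (LinearMap.congr_fun h3 y)
  rw [isSimpleModule_iff]
  refine { exists_pair_ne := ⟨⊥, ⊤, bot_ne_top⟩, eq_bot_or_eq_top := ?_ }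
  intro N
  let i : ob N (finLen_sub X N) ⟶ X := mor N.subtype
  let p : X ⟶ ob _ (finLen_quot X N) := mor N.mkQ
  have hip : i ≫ p = 0 := by
    apply lin_inj
    apply LinearMap.ext
    intro x
    exact (Submodule.Quotient.mk_eq_zero N).mpr x.2
  have hF : F.map i ≫ F.map p = 0 := by rw [← F.map_comp, hip, F.map_zero]
  by_cases hi : F.map i = 0
  · left
    have h4 : i = 0 := F.map_injective (by rw [hi, F.map_zero])
    have h5 := congrArg lin h4
    rw [Submodule.eq_bot_iff]
    intro x hx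
    exact LinearMap.congr_fun h5 ⟨x, hx⟩
  · right
    have h6 : Function.Surjective (lin (F.map i)) := by
      rw [← LinearMap.range_eq_top]
      rcases eq_bot_or_eq_top (LinearMap.range (lin (F.map i))) with h7 | h7
      · exfalso
        apply hi
        apply lin_inj
        rw [LinearMap.range_eq_bot] at h7
        rw [h7]; rfl
      · exact h7
    haveI := epi_of_surjective (F.map i) h6
    have h8 : F.map p = 0 := by
      rw [← cancel_epi (F.map i), hF, Limits.comp_zero]
    have h9 : p = 0 := F.map_injective (by rw [h8, F.map_zero])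
    have h10 : N.mkQ = 0 := congrArg lin h9
    rw [← Submodule.ker_mkQ N, h10, LinearMap.ker_zero]

/-- the modules A/m^(n+1) -/
abbrev Q (A : Type u) [CommRing A] [IsLocalRing A] [IsNoetherianRing A] (n : ℕ) : FinLen A :=
  ob (A ⧸ (maximalIdeal A)^(n+1)) (isFiniteLength_quot n)

/-- cyclicity criterion -/
lemma cyclic_of_property (P : Type u) [AddCommGroup P] [Module A P] [Module.Finite A P]
    (hP : ∀ (T : Type u) [AddCommGroup T] [Module A T], IsSimpleModule A T →
      ∀ f g : P →ₗ[A] T, f ≠ 0 → ∃ a : A, g = a • f) :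
    ∃ e : P, Submodule.span A {e} = ⊤ := by
  rcases subsingleton_or_nontrivial P with h | h
  · exact ⟨0, Subsingleton.elim _ _⟩
  · obtain ⟨N, hN, -⟩ := (eq_top_or_exists_le_coatom (⊥ : Submodule A P)).resolve_left bot_ne_top
    have hNs : IsSimpleModule A (P ⧸ N) := isSimpleModule_iff_isCoatom.mpr hN
    obtain ⟨e, he⟩ : ∃ e, e ∉ N := by
      by_contra hcon
      push Not at hcon
      exact hN.1 (eq_top_iff.mpr (fun x _ => hcon x))
    refine ⟨e, ?_⟩
    by_contra hcon
    obtain ⟨N', hN', hle⟩ := (eq_top_or_exists_le_coatom (Submodule.span A {e})).resolve_left hcon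
    have hNs' : IsSimpleModule A (P ⧸ N') := isSimpleModule_iff_isCoatom.mpr hN'
    obtain ⟨I, hI, ⟨eI⟩⟩ := isSimpleModule_iff_quot_maximal.mp hNs
    obtain ⟨I', hI', ⟨eI'⟩⟩ := isSimpleModule_iff_quot_maximal.mp hNs'
    obtain rfl := IsLocalRing.eq_maximalIdeal hI
    obtain rfl := IsLocalRing.eq_maximalIdeal hI'
    obtain ⟨a, ha⟩ := hP (A ⧸ maximalIdeal A) (isSimpleModule_iff_quot_maximal.mpr ⟨_, hI, ⟨LinearEquiv.refl _ _⟩⟩)
      (eI.toLinearMap ∘ₗ N.mkQ) (eI'.toLinearMap ∘ₗ N'.mkQ) (by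
        intro h0
        apply he
        have := LinearMap.congr_fun h0 e
        simpa using this)
    have he' : e ∈ N' := hle (Submodule.mem_span_singleton_self e)
    have h1 := LinearMap.congr_fun ha e
    have h2 : N'.mkQ e = 0 := by simpa using he'
    rw [LinearMap.comp_apply, h2, map_zero] at h1
    have h3 : a ∈ maximalIdeal A := by
      by_contra hau
      have hu : IsUnit a := by
        by_contra hu
        exact hau ((mem_maximalIdeal a).mpr hu)
      have h4 : (eI.toLinearMap ∘ₗ N.mkQ) e = 0 := by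
        have h5 : a • (eI.toLinearMap ∘ₗ N.mkQ) e = 0 := h1.symm
        exact (hu.smul_eq_zero).mp h5
      apply he
      simpa using h4
    have h6 : (eI'.toLinearMap ∘ₗ N'.mkQ) = 0 := by
      rw [ha]
      ext x
      obtain ⟨z, hz⟩ := Ideal.Quotient.mk_surjective ((eI.toLinearMap ∘ₗ N.mkQ) x)
      rw [LinearMap.smul_apply, ← hz]
      change Ideal.Quotient.mk _ (a * z) = 0
      rw [Ideal.Quotient.eq_zero_iff_mem]
      exact Ideal.mul_mem_right _ _ h3
    apply hN'.1
    rw [eq_top_iff]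
    intro x _
    have := LinearMap.congr_fun h6 x
    simpa using this

lemma quot_ext (n : ℕ) {M : Type u} [AddCommGroup M] [Module A M]
    (f g : (A ⧸ (maximalIdeal A)^(n+1)) →ₗ[A] M) (h : f (Ideal.Quotient.mk _ 1) = g (Ideal.Quotient.mk _ 1)) : f = g := by
  ext
  exact h

lemma cyclic_F [F.IsEquivalence] (n : ℕ) : ∃ e : (F.obj (Q A n)).obj, Submodule.span A {e} = ⊤ := by
  haveI : Module.Finite A (F.obj (Q A n)).obj := by
    have := (isFiniteLength_iff_isNoetherian_isArtinian.mp (F.obj (Q A n)).property).1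
    infer_instance
  apply cyclic_of_property
  intro T _ _ hT f g hf
  have hTF : IsFiniteLength A T := by
    rw [isFiniteLength_iff_isNoetherian_isArtinian]
    exact ⟨inferInstance, inferInstance⟩
  let T0 : FinLen A := ob T hTF
  let e := F.objObjPreimageIso T0
  have hs : IsSimpleModule A (F.objPreimage T0).obj := by
    apply simple_of_F F
    have e' : (F.obj (F.objPreimage T0)).obj ≃ₗ[A] T :=
      { lin e.hom with
        invFun := lin e.inv
        left_inv := fun x => LinearMap.congr_fun (congrArg lin e.hom_inv_id) x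
        right_inv := fun x => LinearMap.congr_fun (congrArg lin e.inv_hom_id) x }
    exact IsSimpleModule.congr e'
  let f' : F.obj (Q A n) ⟶ F.obj (F.objPreimage T0) := (mor f : _ ⟶ T0) ≫ e.inv
  let g' : F.obj (Q A n) ⟶ F.obj (F.objPreimage T0) := (mor g : _ ⟶ T0) ≫ e.inv
  obtain ⟨f'', hf''⟩ := F.map_surjective f'
  obtain ⟨g'', hg''⟩ := F.map_surjective g'
  have hx : lin f'' (Ideal.Quotient.mk _ 1) ≠ 0 := by
    intro h0
    have h1 : f'' = 0 := by
      apply lin_inj
      apply quot_ext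
      rw [h0]; rfl
    have h2 : f' = 0 := by rw [← hf'', h1, F.map_zero]
    have h3 : (mor f : _ ⟶ T0) = 0 := by
      rw [← cancel_mono e.inv, Limits.zero_comp]
      exact h2
    exact hf (congrArg lin h3)
  have hspan : Submodule.span A {lin f'' (Ideal.Quotient.mk _ 1)} = ⊤ := by
    rcases eq_bot_or_eq_top (Submodule.span A {lin f'' (Ideal.Quotient.mk _ 1)}) with h | h
    · exact absurd (Submodule.span_singleton_eq_bot.mp h) hx
    · exact h
  obtain ⟨a, ha⟩ := Submodule.mem_span_singleton.mp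
    (show lin g'' (Ideal.Quotient.mk _ 1) ∈ Submodule.span A {lin f'' (Ideal.Quotient.mk _ 1)} by rw [hspan]; trivial)
  refine ⟨a, ?_⟩
  have h4 : g'' = a • f'' := by
    apply lin_inj
    apply quot_ext
    exact ha.symm
  have h5 : g' = a • f' := by rw [← hg'', ← hf'', h4, F.map_smul]
  have h6 : (mor g : _ ⟶ T0) = a • (mor f : _ ⟶ T0) := by
    rw [← cancel_mono e.inv, Linear.smul_comp]
    exact h5
  exact congrArg lin h6

/-- projections -/
def pi {n m : ℕ} (h : n ≤ m) : Q A m ⟶ Q A n :=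
  mor (Submodule.factor (Ideal.pow_le_pow_right (Nat.add_le_add_right h 1)))

lemma lin_pi_mk {n m : ℕ} (h : n ≤ m) (a : A) :
    lin (pi (A := A) h) (Ideal.Quotient.mk _ a) = Ideal.Quotient.mk _ a := rfl

lemma pi_surj {n m : ℕ} (h : n ≤ m) : Function.Surjective (lin (pi (A := A) h)) := by
  intro x
  obtain ⟨a, rfl⟩ := Ideal.Quotient.mk_surjective x
  exact ⟨Ideal.Quotient.mk _ a, rfl⟩

lemma pi_comp {n m k : ℕ} (h : n ≤ m) (h' : m ≤ k) : pi (A := A) h' ≫ pi h = pi (h.trans h') := by
  apply lin_inj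
  apply quot_ext
  rfl

lemma pi_self (n : ℕ) : pi (A := A) (le_refl n) = 𝟙 _ := by
  apply lin_inj
  apply quot_ext
  rfl

lemma exists_lift [F.IsEquivalence] (n : ℕ) (e : (F.obj (Q A n)).obj) (he : Submodule.span A {e} = ⊤) :
    ∃ e' : (F.obj (Q A (n+1))).obj, Submodule.span A {e'} = ⊤ ∧
      lin (F.map (pi (Nat.le_succ n))) e' = e := by
  haveI : Epi (pi (A := A) (Nat.le_succ n)) := epi_of_surjective _ (pi_surj _)
  obtain ⟨e', he'⟩ := surjective_of_epi (F.map (pi (A := A) (Nat.le_succ n))) e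
  refine ⟨e', ?_, he'⟩
  obtain ⟨g, hg⟩ := cyclic_F F (A := A) (n+1)
  obtain ⟨a, ha⟩ := Submodule.mem_span_singleton.mp (show e' ∈ Submodule.span A {g} by rw [hg]; trivial)
  have hau : IsUnit a := by
    by_contra hau
    have ham : a ∈ maximalIdeal A := (mem_maximalIdeal a).mpr hau
    -- e ∈ m F(Q n)
    have h1 : e = a • lin (F.map (pi (Nat.le_succ n))) g := by
      rw [← he', ← ha, map_smul]
    obtain ⟨b, hb⟩ := Submodule.mem_span_singleton.mp
      (show lin (F.map (pi (Nat.le_succ n))) g ∈ Submodule.span A {e} by rw [he]; trivial)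
    rw [← hb, smul_smul] at h1
    have h2 : (1 - a * b) • e = 0 := by rw [sub_smul, one_smul, ← h1, sub_self]
    have h3 : IsUnit (1 - a * b) := by
      by_contra h4
      have h5 : 1 - a * b ∈ maximalIdeal A := (mem_maximalIdeal _).mpr h4
      have h6 : (1 : A) ∈ maximalIdeal A := by
        have := Ideal.add_mem _ h5 (Ideal.mul_mem_right b _ ham)
        rwa [sub_add_cancel] at this
      exact (maximalIdeal.isMaximal A).ne_top ((Ideal.eq_top_iff_one _).mpr h6)
    have h7 : e = 0 := h3.smul_eq_zero.mp h2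
    have h8 : ∀ x : (F.obj (Q A n)).obj, (1 : A) • x = 0 := by
      intro x
      obtain ⟨c, hc⟩ := Submodule.mem_span_singleton.mp (show x ∈ Submodule.span A {e} by rw [he]; trivial)
      rw [← hc, h7, smul_zero, smul_zero]
    have h9 := smul_eq_zero_of_F F (Q A n) 1 h8 (Ideal.Quotient.mk _ 1)
    rw [one_smul] at h9
    have h10 : (1 : A) ∈ (maximalIdeal A)^(n+1) := Ideal.Quotient.eq_zero_iff_mem.mp h9
    exact (maximalIdeal.isMaximal A).ne_top ((Ideal.eq_top_iff_one _).mpr (Ideal.pow_le_self (by omega) h10))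
  rw [← ha, Submodule.span_singleton_smul_eq hau, hg]

lemma exists_seq [F.IsEquivalence] : ∃ e : ∀ n, (F.obj (Q A n)).obj,
    (∀ n, Submodule.span A {e n} = ⊤) ∧ ∀ n, lin (F.map (pi (Nat.le_succ n))) (e (n+1)) = e n := by
  classical
  choose e0 he0 using cyclic_F F (A := A) 0
  choose L hL1 hL2 using exists_lift F (A := A)
  let s : ∀ n, {e : (F.obj (Q A n)).obj // Submodule.span A {e} = ⊤} := fun n =>
    Nat.rec ⟨e0, he0⟩ (fun n e => ⟨L n e.1 e.2, hL1 n e.1 e.2⟩) n
  exact ⟨fun n => (s n).1, fun n => (s n).2, fun n => hL2 n (s n).1 (s n).2⟩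

/-- the map A/m^(n+1) → M with value x at 1. -/
def hat {M : FinLen A} (n : ℕ) (h : ∀ a ∈ (maximalIdeal A)^(n+1), ∀ x : M.obj, a • x = 0) (x : M.obj) : Q A n ⟶ M :=
  mor (Submodule.liftQ ((maximalIdeal A)^(n+1)) (LinearMap.toSpanSingleton A M.obj x) (by
    intro a ha
    simp [h a ha x]))

lemma hat_mk {M : FinLen A} (n : ℕ) (h : ∀ a ∈ (maximalIdeal A)^(n+1), ∀ x : M.obj, a • x = 0) (x : M.obj) (a : A) :
    lin (hat n h x) (Ideal.Quotient.mk _ a) = a • x := rfl

lemma hat_add {M : FinLen A} (n : ℕ) (h : ∀ a ∈ (maximalIdeal A)^(n+1), ∀ x : M.obj, a • x = 0) (x y : M.obj) :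
    hat n h (x + y) = hat n h x + hat n h y := by
  apply lin_inj
  apply quot_ext
  rw [lin_add, LinearMap.add_apply, hat_mk, hat_mk, hat_mk, smul_add]

lemma hat_smul {M : FinLen A} (n : ℕ) (h : ∀ a ∈ (maximalIdeal A)^(n+1), ∀ x : M.obj, a • x = 0) (c : A) (x : M.obj) :
    hat n h (c • x) = c • hat n h x := by
  apply lin_inj
  apply quot_ext
  rw [lin_smul, LinearMap.smul_apply, hat_mk, hat_mk, one_smul, one_smul]

lemma pi_hat {M : FinLen A} (n m : ℕ) (hnm : n ≤ m) (h : ∀ a ∈ (maximalIdeal A)^(n+1), ∀ x : M.obj, a • x = 0)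
    (h' : ∀ a ∈ (maximalIdeal A)^(m+1), ∀ x : M.obj, a • x = 0) (x : M.obj) :
    pi hnm ≫ hat n h x = hat m h' x := by
  apply lin_inj
  apply quot_ext
  rfl

lemma hat_comp {M N : FinLen A} (n : ℕ) (h : ∀ a ∈ (maximalIdeal A)^(n+1), ∀ x : M.obj, a • x = 0)
    (h' : ∀ a ∈ (maximalIdeal A)^(n+1), ∀ x : N.obj, a • x = 0) (f : M ⟶ N) (x : M.obj) :
    hat n h x ≫ f = hat n h' (lin f x) := by
  apply lin_inj
  apply quot_ext
  rw [lin_comp, LinearMap.comp_apply, hat_mk, hat_mk, map_smul]

lemma eq_hat {M : FinLen A} (n : ℕ) (h : ∀ a ∈ (maximalIdeal A)^(n+1), ∀ x : M.obj, a • x = 0) (f : Q A n ⟶ M) :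
    f = hat n h (lin f (Ideal.Quotient.mk _ 1)) := by
  apply lin_inj
  apply quot_ext
  rw [hat_mk, one_smul]

section

variable {F}
variable [F.IsEquivalence] {e : ∀ n, (F.obj (Q A n)).obj} (he : ∀ n, Submodule.span A {e n} = ⊤)
  (hc : ∀ n, lin (F.map (pi (Nat.le_succ n))) (e (n+1)) = e n)

include hc in
lemma seq_compat (n k : ℕ) : lin (F.map (pi (Nat.le_add_right n k))) (e (n+k)) = e n := by
  induction k with
  | zero =>
    change lin (F.map (pi (le_refl n))) (e n) = e n
    rw [pi_self, F.map_id]; rfl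
  | succ k ih =>
    have : pi (A := A) (Nat.le_add_right n (k+1)) = pi (Nat.le_succ (n+k)) ≫ pi (Nat.le_add_right n k) := by
      rw [pi_comp]
    rw [this, F.map_comp, lin_comp, LinearMap.comp_apply]
    erw [hc (n+k)]
    exact ih

include hc in
lemma seq_compat' {n m : ℕ} (h : n ≤ m) : lin (F.map (pi h)) (e m) = e n := by
  obtain ⟨k, rfl⟩ := Nat.exists_eq_add_of_le h
  exact seq_compat hc n k

/-- the value with index n -/
def val (e : ∀ n, (F.obj (Q A n)).obj) {M : FinLen A} (n : ℕ) (h : ∀ a ∈ (maximalIdeal A)^(n+1), ∀ x : M.obj, a • x = 0) (x : M.obj) :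
    (F.obj M).obj := lin (F.map (hat n h x)) (e n)

include hc in
lemma val_eq_of_le {M : FinLen A} (n m : ℕ) (hnm : n ≤ m) (h : ∀ a ∈ (maximalIdeal A)^(n+1), ∀ x : M.obj, a • x = 0)
    (h' : ∀ a ∈ (maximalIdeal A)^(m+1), ∀ x : M.obj, a • x = 0) (x : M.obj) :
    val e n h x = val e m h' x := by
  rw [val, val, ← pi_hat n m hnm h h', F.map_comp, lin_comp, LinearMap.comp_apply, seq_compat' hc]

include hc in
lemma val_eq {M : FinLen A} (n m : ℕ) (h : ∀ a ∈ (maximalIdeal A)^(n+1), ∀ x : M.obj, a • x = 0)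
    (h' : ∀ a ∈ (maximalIdeal A)^(m+1), ∀ x : M.obj, a • x = 0) (x : M.obj) :
    val e n h x = val e m h' x := by
  rcases le_total n m with hnm | hnm
  · exact val_eq_of_le hc n m hnm h h' x
  · exact (val_eq_of_le hc m n hnm h' h x).symm

lemma val_add {M : FinLen A} (n : ℕ) (h : ∀ a ∈ (maximalIdeal A)^(n+1), ∀ x : M.obj, a • x = 0) (x y : M.obj) :
    val e n h (x + y) = val e n h x + val e n h y := by
  rw [val, hat_add, F.map_add, lin_add, LinearMap.add_apply]; rfl

lemma val_smul {M : FinLen A} (n : ℕ) (h : ∀ a ∈ (maximalIdeal A)^(n+1), ∀ x : M.obj, a • x = 0) (c : A) (x : M.obj) :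
    val e n h (c • x) = c • val e n h x := by
  rw [val, hat_smul, F.map_smul, lin_smul, LinearMap.smul_apply]; rfl

lemma val_nat {M N : FinLen A} (n : ℕ) (h : ∀ a ∈ (maximalIdeal A)^(n+1), ∀ x : M.obj, a • x = 0)
    (h' : ∀ a ∈ (maximalIdeal A)^(n+1), ∀ x : N.obj, a • x = 0) (f : M ⟶ N) (x : M.obj) :
    lin (F.map f) (val e n h x) = val e n h' (lin f x) := by
  rw [val, val, ← hat_comp n h h', F.map_comp, lin_comp, LinearMap.comp_apply]

include he in
lemma val_inj {M : FinLen A} (n : ℕ) (h : ∀ a ∈ (maximalIdeal A)^(n+1), ∀ x : M.obj, a • x = 0) :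
    Function.Injective (val e n h (M := M)) := by
  intro x y hxy
  have h1 : F.map (hat n h x) = F.map (hat n h y) := by
    apply lin_inj
    apply LinearMap.ext
    intro z
    obtain ⟨c, hc⟩ := Submodule.mem_span_singleton.mp (show z ∈ Submodule.span A {e n} by rw [he]; trivial)
    rw [← hc, map_smul, map_smul]
    congr 1
  have h2 := F.map_injective h1
  have h3 := LinearMap.congr_fun (congrArg lin h2) (Ideal.Quotient.mk _ 1)
  rw [hat_mk, hat_mk, one_smul, one_smul] at h3
  exact h3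

include he in
lemma val_surj {M : FinLen A} (n : ℕ) (h : ∀ a ∈ (maximalIdeal A)^(n+1), ∀ x : M.obj, a • x = 0) :
    Function.Surjective (val e n h (M := M)) := by
  intro y
  -- annihilator of e n
  have h1 : ∀ a : A, a • e n = 0 → a ∈ (maximalIdeal A)^(n+1) := by
    intro a ha
    have h2 : ∀ x : (F.obj (Q A n)).obj, a • x = 0 := by
      intro x
      obtain ⟨c, hc⟩ := Submodule.mem_span_singleton.mp (show x ∈ Submodule.span A {e n} by rw [he]; trivial)
      rw [← hc, smul_comm, ha, smul_zero]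
    have h3 := smul_eq_zero_of_F F (Q A n) a h2 (Ideal.Quotient.mk _ 1)
    have h4 : Ideal.Quotient.mk ((maximalIdeal A)^(n+1)) (a * 1) = 0 := h3
    rw [mul_one] at h4
    exact Ideal.Quotient.eq_zero_iff_mem.mp h4
  have h5 : ∀ a ∈ (maximalIdeal A)^(n+1), ∀ x : (F.obj M).obj, a • x = 0 := fun a ha =>
    smul_F_eq_zero F M a (h a ha)
  -- linear map F(Q n) → F M
  let s : A →ₗ[A] (F.obj (Q A n)).obj := LinearMap.toSpanSingleton A _ (e n)
  have hs : Function.Surjective s := by
    intro z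
    obtain ⟨c, hc⟩ := Submodule.mem_span_singleton.mp (show z ∈ Submodule.span A {e n} by rw [he]; trivial)
    exact ⟨c, hc⟩
  let t : A →ₗ[A] (F.obj M).obj := LinearMap.toSpanSingleton A _ y
  have hst : LinearMap.ker s ≤ LinearMap.ker t := by
    intro a ha
    have : a • e n = 0 := ha
    change a • y = 0
    exact h5 a (h1 a this) y
  let g : (F.obj (Q A n)).obj →ₗ[A] (F.obj M).obj :=
    (Submodule.liftQ _ t hst) ∘ₗ (s.quotKerEquivOfSurjective hs).symm.toLinearMap
  have hg : g (e n) = y := by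
    have h6 : (s.quotKerEquivOfSurjective hs).symm (e n) = Submodule.Quotient.mk 1 := by
      rw [LinearEquiv.symm_apply_eq]
      change e n = (1 : A) • e n
      rw [one_smul]
    change (Submodule.liftQ _ t hst) ((s.quotKerEquivOfSurjective hs).symm (e n)) = y
    rw [h6]
    change (1 : A) • y = y
    rw [one_smul]
  obtain ⟨g', hg'⟩ := F.map_surjective (mor g : F.obj (Q A n) ⟶ F.obj M)
  refine ⟨lin g' (Ideal.Quotient.mk _ 1), ?_⟩
  rw [val, ← eq_hat n h g', hg']
  exact hg

end

theorem main (F : FinLen A ⥤ FinLen A) [F.Additive] [F.Linear A] [F.IsEquivalence] : Nonempty (F ≅ 𝟭 (FinLen A)) := by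
  classical
  obtain ⟨e, he, hc⟩ := exists_seq F
  choose N hN using fun M : FinLen A => exists_pow_smul_eq_zero M.obj M.property
  let f : ∀ M : FinLen A, M.obj ≃ₗ[A] (F.obj M).obj := fun M =>
    LinearEquiv.ofBijective
      { toFun := val e (N M) (hN M)
        map_add' := val_add (N M) (hN M)
        map_smul' := val_smul (N M) (hN M) } ⟨val_inj he _ _, val_surj he _ _⟩
  refine ⟨(NatIso.ofComponents (fun M => ObjectProperty.isoMk _ (LinearEquiv.toModuleIso (f M))) ?_).symm⟩
  intro M M' g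
  apply lin_inj
  apply LinearMap.ext
  intro x
  change (val e (N M') (hN M') (lin g x)) = lin (F.map g) (val e (N M) (hN M) x)
  let k := max (N M) (N M')
  have hk1 : ∀ a ∈ (maximalIdeal A)^(k+1), ∀ x : M.obj, a • x = 0 := fun a ha =>
    hN M a (Ideal.pow_le_pow_right (by omega) ha)
  have hk2 : ∀ a ∈ (maximalIdeal A)^(k+1), ∀ x : M'.obj, a • x = 0 := fun a ha =>
    hN M' a (Ideal.pow_le_pow_right (by omega) ha)
  rw [val_eq hc (N M') k (hN M') hk2, val_eq hc (N M) k (hN M) hk1, val_nat k hk1 hk2]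

/-- Stacks Tag 0A7P: over a Noetherian local ring A, an additive A-linear equivalence from the category of finite length A-modules to itself is naturally isomorphic to the identity. -/
theorem result (A : Type u) [CommRing A] [IsLocalRing A] [IsNoetherianRing A] (F : Dual.FinLen A ≌ Dual.FinLen A) [F.functor.Additive] [F.functor.Linear A] : Nonempty (F.functor ≅ 𝟭 (Dual.FinLen A)) := by
  exact main F.functor

end Groth.Agent.S0362
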