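import Groth.Statements.S0363
import Groth.Agent.Localalg.TorDual
import Groth.Agent.Localalg.GorExt

set_option autoImplicit false
universe u v
open CategoryTheory
open Goren

namespace Groth.Agent.S0363

/-- Stacks Tag 0EBT: over a Gorenstein local ring of dimension d with E an injective hull of the residue field κ, Tor_i(E, κ) vanishes for i ≠ d and Tor_d(E, κ) is isomorphic to κ. -/
theorem result (A : Type u) [CommRing A] [LocCoh.IsGorensteinLocalRing A] (d : ℕ) (hd : ringKrullDim A = d) (E : Type u) [AddCommGroup E] [Module A E] (f : IsLocalRing.ResidueField A →ₗ[A] E) (hf : InjHull.IsInjectiveHull f) : (∀ i : ℕ, i ≠ d → Limits.IsZero (((Tor (ModuleCat.{u} A) i).obj (ModuleCat.of A E)).obj (ModuleCat.of A (IsLocalRing.ResidueField A)))) ∧ Nonempty ((((Tor (ModuleCat.{u} A) d).obj (ModuleCat.of A E)).obj (ModuleCat.of A (IsLocalRing.ResidueField A))) ≅ ModuleCat.of A (IsLocalRing.ResidueField A)) := by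
  have hfin : Module.Finite A (IsLocalRing.ResidueField A) :=
    Module.Finite.of_surjective (Algebra.linearMap A (IsLocalRing.ResidueField A))
      IsLocalRing.residue_surjective
  obtain ⟨h1, ⟨e⟩⟩ := Groth.Agent.Localalg.GorExt.ext_residueField d A hd
  have hE : Module.Injective A E := hf.isInjective
  constructor
  · intro i hi
    obtain ⟨e1⟩ := Groth.Agent.Localalg.TorDual.tor_dual hE i (IsLocalRing.ResidueField A)
    have := h1 i hi
    have h2 : Subsingleton (DRing.Tor A i E (IsLocalRing.ResidueField A)) :=
      e1.toEquiv.subsingleton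
    exact ModuleCat.isZero_of_subsingleton _
  · obtain ⟨e1⟩ := Groth.Agent.Localalg.TorDual.tor_dual hE d (IsLocalRing.ResidueField A)
    have e2 : (IsLocalRing.ResidueField A →ₗ[A] E) ≃ₗ[A] IsLocalRing.ResidueField A :=
      Groth.Agent.Localalg.Matlis.homResidueFieldEquiv hf.toIsEssentialInj
    exact ⟨(e1.trans ((e.symm.arrowCongr (LinearEquiv.refl A E)).trans e2)).toModuleIso⟩

end Groth.Agent.S0363
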