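import Groth.Statements.S0369
import Groth.Agent.CalgB.DzData
import Groth.Agent.LoccohA.DzTrunc2

set_option autoImplicit false
universe u v
open CategoryTheory
attribute [local instance] HasDerivedCategory.standard
open Dual

namespace Groth.Agent.S0369

/-- Stacks Tag 0AWE: for a Noetherian local ring of dimension d with normalized dualizing complex ω, the module ω_A = H^{−d}(ω) is supported exactly on the union of the irreducible components of Spec A of dimension d, and satisfies Serre's condition (S_2). -/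
theorem result (A : Type u) [CommRing A] [IsLocalRing A] [IsNoetherianRing A] (ω : Dual.D A) (hω : Dual.IsDualizing A ω) (hn : Dual.IsNormalized A ω) (d : ℕ) (hd : ringKrullDim A = d) : Module.support A (Dual.HD A ω (-(d : ℤ))) = {p : PrimeSpectrum A | ∃ q ∈ minimalPrimes A, q ≤ p.asIdeal ∧ ringKrullDim (A ⧸ q) = d} ∧ LocCoh.HasSk 2 A (Dual.HD A ω (-(d : ℤ))) := by
  obtain ⟨δ, h⟩ := CalgB.DzData.exists_isDelta hω
  -- the values of `δ`
  have hδle : ∀ q : PrimeSpectrum A, 0 ≤ δ q ∧ δ q ≤ d := by
    intro q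
    have h0 : 0 ≤ δ q := by
      have := LoccohA.DimFun.le_of_le h.cov
        (show q ≤ IsLocalRing.closedPoint A from IsLocalRing.le_maximalIdeal q.2.ne_top)
      rwa [h.closedPoint_eq_zero hn] at this
    refine ⟨h0, ?_⟩
    have h1 : ringKrullDim (A ⧸ q.asIdeal) = ((δ q).toNat : ℕ) :=
      (h.dim_quotient hn q _).mpr (Int.toNat_of_nonneg h0).symm
    have h2 : ringKrullDim (A ⧸ q.asIdeal) ≤ ringKrullDim A :=
      ringKrullDim_le_of_surjective _ Ideal.Quotient.mk_surjective
    rw [h1, hd] at h2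
    have h3 : (δ q).toNat ≤ d := by exact_mod_cast h2
    omega
  have hδeq : ∀ (q : PrimeSpectrum A), ringKrullDim (A ⧸ q.asIdeal) = d ↔ δ q = d :=
    fun q => h.dim_quotient hn q d
  -- cohomology of `ω`
  have hlow : ∀ i : ℤ, i < -(d : ℤ) → Module.support A (Dual.HD A ω i) = ∅ := by
    intro i hi
    rw [CalgB.DzData.support_HD, Set.eq_empty_iff_forall_notMem]
    intro p hp
    obtain ⟨q, -, -, hq⟩ := h.exists_le_of_mem p A i hp
    have := (hδle q).2
    omega
  have hzero : ∀ i : ℤ, i < -(d : ℤ) → CategoryTheory.Limits.IsZero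
      ((DerivedCategory.homologyFunctor (ModuleCat.{u} A) i).obj ω) := by
    intro i hi
    have h1 : Subsingleton (Dual.HD A ω i) := Module.support_eq_empty_iff.mp (hlow i hi)
    exact ModuleCat.isZero_of_subsingleton _
  have hfin : Module.Finite A (Dual.HD A ω (-(d : ℤ))) := hω.finite_cohomology _
  -- the support
  have hsupp : Module.support A (Dual.HD A ω (-(d : ℤ))) =
      {p : PrimeSpectrum A | ∃ q ∈ minimalPrimes A, q ≤ p.asIdeal ∧ ringKrullDim (A ⧸ q) = d} := by
    ext p
    rw [CalgB.DzData.support_HD]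
    constructor
    · intro hp
      obtain ⟨q, -, hqp, hq⟩ := h.exists_le_of_mem p A _ hp
      have hqd : δ q = d := by have := (hδle q).2; omega
      refine ⟨q.asIdeal, ?_, hqp, (hδeq q).mpr hqd⟩
      obtain ⟨r, hr, hrq⟩ := Ideal.exists_minimalPrimes_le (I := (⊥ : Ideal A)) (J := q.asIdeal)
        bot_le
      have hrprime : r.IsPrime := hr.1.1
      rcases (show (⟨r, hrprime⟩ : PrimeSpectrum A) ≤ q from hrq).eq_or_lt with h1 | h1
      · rw [← h1]; exact hr
      · have h2 := LoccohA.DimFun.lt_of_lt h.cov h1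
        have h3 := (hδle ⟨r, hrprime⟩).2
        omega
    · rintro ⟨q, hq, hqp, hqd⟩
      have hqprime : q.IsPrime := hq.1.1
      have h1 : δ ⟨q, hqprime⟩ = d := (hδeq ⟨q, hqprime⟩).mp hqd
      have h2 : (⟨q, hqprime⟩ : PrimeSpectrum A).asIdeal ∈ associatedPrimes A A := by
        refine Module.associatedPrimes.minimalPrimes_annihilator_subset_associatedPrimes A A ?_
        rw [Module.annihilator_eq_bot.mpr inferInstance]
        exact hq
      have h3 := h.mem_of_mem_associatedPrimes _ A h2
      rw [h1] at h3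
      exact CalgB.DzData.support_mono (show (⟨q, hqprime⟩ : PrimeSpectrum A) ≤ p from hqp) h3
  refine ⟨hsupp, ?_⟩
  -- Serre's condition
  intro p hpp
  set P : PrimeSpectrum A := ⟨p, hpp⟩ with hP
  obtain ⟨n, hn'⟩ : ∃ n : ℕ, δ P + n = d := ⟨(d - δ P).toNat, by have := (hδle P).2; omega⟩
  have hdim : Module.supportDim (Localization.AtPrime p)
      (LocalizedModule p.primeCompl (Dual.HD A ω (-(d : ℤ)))) ≤ n :=
    h.supportDim_le P _ n (fun q _ _ => by have := (hδle q).2; omega)
  have hωGE : ω.IsGE (-(d : ℤ)) := by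
    rw [DerivedCategory.isGE_iff]
    exact hzero
  obtain ⟨a, b, hab⟩ := hω.finite_injective_dimension
  have hωLE : ω.IsLE b := by
    rw [DerivedCategory.isLE_iff]
    intro j hj
    exact LoccohB.InjRep.isZero_homology_of_subsingleton ω j (hab A j (Or.inr hj))
  have key : ((min 2 n : ℕ) : ℕ∞) ≤ LocCoh.depth (Localization.AtPrime P.asIdeal)
      (LocalizedModule P.asIdeal.primeCompl (Dual.HD A ω (-(d : ℤ)))) := by
    rw [h.natCast_le_depth_iff P]
    intro e he
    have he2 : e < 2 := lt_of_lt_of_le he (min_le_left _ _)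
    have hen : e < n := lt_of_lt_of_le he (min_le_right _ _)
    have hvan : ∀ (M : Type u) [AddCommGroup M] [Module A M] [Module.Finite A M] (i : ℤ),
        -δ P < i → LoccohA.DzExact.VanAt A P.asIdeal (LoccohA.DExt.E ω i M) := by
      intro M _ _ _ i hi
      rw [LoccohA.DzDim.vanAt_iff_subsingleton]
      exact Module.notMem_support_iff.mp (h.notMem_of_gt P M i hi)
    have h1 := LoccohA.DzTrunc2.extract (LoccohA.DzExact.closed_vanAt.{u, u + 1} A P.asIdeal) ω
      ((n : ℤ) - e) (-(d : ℤ)) b (-(d : ℤ)) ω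
      ((LoccohA.DzExact.closed_vanAt.{u, u + 1} A P.asIdeal).zero _
        (hω.ext_self_subsingleton _ (by omega)))
      (fun i hi => by
        have := hω.finite_cohomology i
        exact hvan (Dual.HD A ω i) _ (by omega))
      (fun i hi => LoccohA.DzTrunc2.P_of_isZero
        (LoccohA.DzExact.closed_vanAt.{u, u + 1} A P.asIdeal) ω i _ ω (hzero i hi))
    have e1 : (n : ℤ) - e + -(d : ℤ) = -δ P - e := by omega
    rw [e1] at h1
    rw [Module.notMem_support_iff]
    exact LoccohA.DzDim.vanAt_iff_subsingleton.mp h1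
  calc min ((2 : ℕ) : WithBot ℕ∞) (Module.supportDim (Localization.AtPrime p)
        (LocalizedModule p.primeCompl (Dual.HD A ω (-(d : ℤ))))) 
      ≤ min ((2 : ℕ) : WithBot ℕ∞) (n : WithBot ℕ∞) := min_le_min le_rfl hdim
    _ ≤ ((((min 2 n : ℕ) : ℕ∞)) : WithBot ℕ∞) := by
        rcases le_total 2 n with h2 | h2
        · rw [min_eq_left h2]; exact min_le_left _ _
        · rw [min_eq_right h2]; exact min_le_right _ _
    _ ≤ _ := WithBot.coe_le_coe.mpr key

end Groth.Agent.S0369
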