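import Groth.Statements.S0370
import Groth.Agent.CalgB.DzData
import Groth.Agent.Pi1C.DimFun

set_option autoImplicit false
universe u v
open CategoryTheory
attribute [local instance] HasDerivedCategory.standard
open Dual

namespace Groth.Agent.S0370

/-- Stacks Tag 0DW5: a Noetherian ring admitting a finite module which, placed in degree 0, is a dualizing complex, is Cohen–Macaulay. -/
theorem result (A : Type u) [CommRing A] [IsNoetherianRing A] (W : Type u) [AddCommGroup W] [Module A W] [Module.Finite A W] (h : Dual.IsDualizing A (Dual.inD A W)) : LocCoh.IsCohenMacaulayRing A := by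
  obtain ⟨δ, hd⟩ := CalgB.DzData.exists_isDelta h
  refine ⟨fun p hpp => ?_⟩
  set P : PrimeSpectrum A := ⟨p, hpp⟩ with hP
  -- vanishing of the cohomology outside degree `0`
  have hvan : ∀ (i : ℤ), i ≠ 0 → Module.support A (LoccohA.DExt.E (Dual.inD A W) i A) = ∅ := by
    intro i hi
    rw [← CalgB.DzData.support_HD, Module.support_eq_empty_iff]
    have hz : CategoryTheory.Limits.IsZero
        ((DerivedCategory.homologyFunctor (ModuleCat.{u} A) i).obj (Dual.inD A W)) := by
      rcases lt_or_gt_of_ne hi with h1 | h1
      · exact DerivedCategory.isZero_of_isGE _ 0 i h1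
      · exact DerivedCategory.isZero_of_isLE _ 0 i h1
    exact ModuleCat.subsingleton_of_isZero hz
  have hass : ∀ q : PrimeSpectrum A, q.asIdeal ∈ associatedPrimes A A → δ q = 0 := by
    intro q hq
    have h1 := hd.mem_of_mem_associatedPrimes q A hq
    by_contra hne
    rw [hvan _ (by omega)] at h1
    exact h1
  obtain ⟨q, hq, hqp⟩ := Ideal.exists_minimalPrimes_le (I := (⊥ : Ideal A)) (J := p) bot_le
  have hqprime : q.IsPrime := hq.1.1
  set Q : PrimeSpectrum A := ⟨q, hqprime⟩ with hQ
  have hQass : Q.asIdeal ∈ associatedPrimes A A := by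
    refine Module.associatedPrimes.minimalPrimes_annihilator_subset_associatedPrimes A A ?_
    rw [Module.annihilator_eq_bot.mpr inferInstance]
    exact hq
  have hQP : Q ≤ P := hqp
  have hQ0 : δ Q = 0 := hass Q hQass
  have hle : δ P ≤ 0 := hQ0 ▸ LoccohA.DimFun.le_of_le hd.cov hQP
  obtain ⟨n, hn⟩ : ∃ n : ℕ, δ P = -(n : ℤ) := ⟨(-δ P).toNat, by omega⟩
  have hsupp : ∀ r : PrimeSpectrum A, r ∈ Module.support A A := by
    intro r
    rw [Module.support_eq_zeroLocus, Module.annihilator_eq_bot.mpr inferInstance]
    simp
  have hdim := hd.supportDim_eq P A n (fun r hr hrP => by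
      obtain ⟨r', hr', hr'r⟩ := Ideal.exists_minimalPrimes_le (I := (⊥ : Ideal A)) (J := r.asIdeal) bot_le
      have hr'prime : r'.IsPrime := hr'.1.1
      have h1 : δ ⟨r', hr'prime⟩ = 0 := hass _ (by
        refine Module.associatedPrimes.minimalPrimes_annihilator_subset_associatedPrimes A A ?_
        rw [Module.annihilator_eq_bot.mpr inferInstance]
        exact hr')
      have h2 := LoccohA.DimFun.le_of_le hd.cov (show (⟨r', hr'prime⟩ : PrimeSpectrum A) ≤ r from hr'r)
      omega) ⟨Q, hsupp Q, hQP, by omega⟩
  have hdepth := hd.depth_eq P A n (fun d hdn => by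
      rw [hvan _ (by omega)]
      exact Set.notMem_empty _) (by
      have h1 := hd.mem_of_mem_associatedPrimes Q A hQass
      have h2 := CalgB.DzData.support_mono hQP h1
      have e1 : -δ P - (n : ℤ) = -δ Q := by omega
      rw [e1]
      exact h2)
  have inst : IsLocalRing (Localization.AtPrime p) := inferInstance
  refine { supportDim_eq_depth := ?_ }
  rw [← Module.supportDim_eq_of_equiv (Pi1C.DimFun.localizedModuleSelf p.primeCompl)]
  rw [← Pi1C.DimFun.depth_localizedModule_self p]
  exact hdim.trans (by rw [hdepth]; rfl)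

end Groth.Agent.S0370
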