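import Groth.Statements.S0371
import Groth.Agent.Books.DualCM

set_option autoImplicit false
universe u v
open CategoryTheory
attribute [local instance] HasDerivedCategory.standard
open Dual

namespace Groth.Agent.S0371

/-- Stacks Tag 0A80 (dimension part): a Noetherian ring with a dualizing complex has finite Krull dimension.  (Universal catenarity is not stated.) -/
theorem result (A : Type u) [CommRing A] [IsNoetherianRing A] (ω : Dual.D A) (hω : Dual.IsDualizing A ω) : ringKrullDim A < ⊤ := by
  obtain ⟨-, δ, hδ, hcov⟩ := Groth.Agent.Books.DualCM.exists_setup hω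
  obtain ⟨a, b, -, hab⟩ := Groth.Agent.Books.DualCM.exists_bounds hω hδ
  refine lt_of_le_of_lt (b := (((b - a).toNat : ℕ) : WithBot ℕ∞)) (iSup_le fun s => ?_) ?_
  · have h1 := Groth.Agent.LoccohA.DimFun.length_le hcov s
    have h2 := hab s.head
    have h3 := hab s.last
    have h4 : s.length ≤ (b - a).toNat := by omega
    exact_mod_cast h4
  · exact WithBot.coe_lt_coe.mpr (ENat.coe_lt_top _)

end Groth.Agent.S0371
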