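import Groth.Statements.S0374
import Groth.Agent.Models.LocDualComp

set_option autoImplicit false
universe u v
open CategoryTheory
attribute [local instance] HasDerivedCategory.standard
open Dual

namespace Groth.Agent.S0374

/-- Stacks Tag 0AAK, complete case (Grothendieck local duality): over a complete Noetherian local ring with normalized dualizing complex ω and E an injective hull of the residue field, for a finite module M and i ≥ 0 the A-module Hom(M, ω[−i]) in D(A) is isomorphic to the E-dual of the i-th local cohomology of M at the maximal ideal.  (The source states it for any Noetherian local ring with an m-adic completion on the left; for complete A and finite M that completion changes nothing.) -/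
theorem result (A : Type u) [CommRing A] [IsLocalRing A] [IsNoetherianRing A] [IsAdicComplete (IsLocalRing.maximalIdeal A) A] (ω : Dual.D A) (hω : Dual.IsDualizing A ω) (hn : Dual.IsNormalized A ω) (E : Type u) [AddCommGroup E] [Module A E] (f : IsLocalRing.ResidueField A →ₗ[A] E) (hf : InjHull.IsInjectiveHull f) (M : Type u) [AddCommGroup M] [Module A M] [Module.Finite A M] (i : ℕ) : Nonempty ((Dual.inD A M ⟶ ω⟦(-(i : ℤ))⟧) ≃ₗ[A] (LocCoh.H (IsLocalRing.maximalIdeal A) i M →ₗ[A] E)) := by
  obtain ⟨h3, ⟨e, he1, he2⟩, hfin⟩ := Groth.Agent.LoccohB.LocDualHull.normData ω hω hn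
  have hB := Groth.Agent.LoccohB.LocDualMod.B_module (IsLocalRing.maximalIdeal A) ω h3 e he1 he2 hfin M
    (i : ℤ)
  obtain ⟨ψ⟩ := Groth.Agent.Models.LocDualComp.core ω hω hn E f hf (Dual.inD A M) (i : ℤ) hB
    (hfin M (-(i : ℤ)))
  exact ⟨ψ.trans (LinearEquiv.congrLeft E A
    (Groth.Agent.LoccohA.LCTComp.Hequiv (IsLocalRing.maximalIdeal A) i M).symm)⟩

end Groth.Agent.S0374
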