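import Groth.Statements.S0375
import Groth.Agent.Localalg.DDualZero
import Groth.Agent.S0364

set_option autoImplicit false
universe u v
open CategoryTheory
attribute [local instance] HasDerivedCategory.standard
open Dual

namespace Groth.Agent.S0375

/-- Stacks Tag 0A7R: over a Noetherian local ring of dimension 0, a normalized dualizing complex is isomorphic in D(A) to an injective hull of the residue field placed in degree 0. -/
theorem result (A : Type u) [CommRing A] [IsLocalRing A] [IsNoetherianRing A] (h0 : ringKrullDim A = 0) (ω : Dual.D A) (hω : Dual.IsDualizing A ω) (hn : Dual.IsNormalized A ω) (E : Type u) [AddCommGroup E] [Module A E] (f : IsLocalRing.ResidueField A →ₗ[A] E) (hf : InjHull.IsInjectiveHull f) : Nonempty (ω ≅ Dual.inD A E) := by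
  refine Groth.Agent.Localalg.DDualZero.nonempty_iso h0 ω hω hn ?_ E f hf
  obtain ⟨n, h1, h2⟩ := Groth.Agent.S0364.result A ω hω (IsLocalRing.maximalIdeal A)
  have hnt := Groth.Agent.Localalg.DDual.residueField_nontrivial hω hn
  have hn0 : n = 0 := by
    by_contra hne
    have h3 : Subsingleton (Dual.inD A (IsLocalRing.ResidueField A) ⟶ ω⟦(0 : ℤ)⟧) :=
      h1 0 (fun h ↦ hne h.symm)
    exact (not_subsingleton_iff_nontrivial.2 hnt) h3
  subst hn0
  exact h2

end Groth.Agent.S0375
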