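import Groth.Statements.S0382
import Groth.Agent.Grpsch.AbUnram

set_option autoImplicit false
universe u v
open CategoryTheory MonoidalCategory CartesianMonoidalCategory MonObj GrpObj AlgebraicGeometry
open GrpSch

namespace Groth.Agent.S0382

open Groth.Agent.Grpsch AbTangent AbStalk AbEtale AbBC AbUnram in
/-- if `d = 0` in `K` and `[d]` is étale then `A` has one point. -/
theorem subsingleton_of_etale (K : Type u) [Field K] (A : Over (Spec (CommRingCat.of K)))
    [GrpObj A] [IsProper A.hom] [GeometricallyIntegral A.hom] (d : ℤ)
    (hd : (d : K) = 0) (h : Etale ((𝟙 A ^ d).left)) : Subsingleton A.left := by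
  have hunr : ((𝟙 A ^ d).left.stalkMap (pt η[A])).hom.FormallyUnramified :=
    AlgebraicGeometry.FormallyUnramified.stalkMap _ _
  have h1 : (A.hom.stalkMap (pt η[A])).hom.FormallyUnramified := by
    have hft : LocallyOfFiniteType (toUnit A).left := inferInstanceAs (LocallyOfFiniteType A.hom)
    refine formallyUnramified_stalkMap (toUnit A) η[A] fun τ hτ _ ↦ ?_
    refine tangent_eq_of_formallyUnramified (𝟙 A ^ d) η[A] hunr τ hτ ?_
    rw [comp_zpow_eq_specTmap_zsmul τ hτ]
    have h0 : (d • LinearMap.id : K →ₗ[K] K) = 0 := by
      ext
      simp [hd]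
    rw [h0, specTmap_zero_comp τ hτ, GrpObj.comp_zpow, Category.comp_id, MonObj.one_eq_one,
      one_zpow, MonObj.comp_one]
  have h2 := isField_stalk (X := A) _ h1
  have : IsIntegral A.left := GeometricallyIntegral.isIntegral_of_subsingleton A.hom
  have hcl : IsClosed {pt η[A]} := by
    have h3 := η[A].left.isClosedEmbedding.isClosed_range
    have h4 : Set.range η[A].left = {pt η[A]} := by
      refine Set.eq_singleton_iff_unique_mem.mpr ⟨⟨_, rfl⟩, ?_⟩
      rintro _ ⟨x, rfl⟩
      exact congrArg _ (Subsingleton.elim (α := PrimeSpectrum K) x _)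
    rwa [h4] at h3
  exact subsingleton_of_isField (pt η[A]) hcl h2

/-- Stacks Tag 0BFH: on an abelian variety of positive dimension over a field K (a proper, geometrically integral group scheme over K), multiplication by an integer d is étale exactly when d is nonzero in K.  Multiplication by d is written as the d-th power of the identity morphism in the group Hom(A, A), whose multiplication is pointwise, induced by the group structure of A. -/
theorem result (K : Type u) [Field K] (A : Over (Spec (CommRingCat.of K))) [GrpObj A] [IsProper A.hom] [GeometricallyIntegral A.hom] (hA : 0 < topologicalKrullDim A.left) (d : ℤ) : Etale ((𝟙 A ^ d).left) ↔ ((d : K) ≠ 0) := by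
  refine ⟨fun h hd ↦ ?_, fun hd ↦ Groth.Agent.Grpsch.AbBC.etale_zpow A hd⟩
  have := subsingleton_of_etale K A d hd h
  have hne : Nonempty A.left := ⟨η[A].left (IsLocalRing.closedPoint K)⟩
  exact absurd hA (topologicalKrullDim_zero_of_discreteTopology _).not_gt

end Groth.Agent.S0382
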