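import Groth.Statements.S0390
import Groth.Agent.FlatA.LocalCriterion
import Mathlib.RingTheory.LocalRing.ResidueField.Basic
import Mathlib.LinearAlgebra.Basis.VectorSpace

set_option autoImplicit false
universe u
open FlatMor

namespace Groth.Agent.S0390

open TensorProduct in
/-- Stacks Tag 00MK: local criterion for flatness: for a local homomorphism of Noetherian local rings and a finite module over the target, if tensoring the inclusion of the maximal ideal of the base with the module gives an injective map (the first Tor against the residue field vanishes) then the module is flat over the base. -/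
theorem result {R S M : Type u} [CommRing R] [CommRing S] [IsLocalRing R] [IsLocalRing S] [IsNoetherianRing R] [IsNoetherianRing S] [Algebra R S] [IsLocalHom (algebraMap R S)]
    [AddCommGroup M] [Module R M] [Module S M] [IsScalarTower R S M] [Module.Finite S M]
    (h : Function.Injective (LinearMap.rTensor M (Submodule.subtype (IsLocalRing.maximalIdeal R)))) : Module.Flat R M := by
  have hloc : (IsLocalRing.maximalIdeal R).map (algebraMap R S) ≤ IsLocalRing.maximalIdeal S :=
    ((IsLocalRing.local_hom_TFAE (algebraMap R S)).out 0 2).1 ‹_›
  refine Groth.Agent.FlatA.LocalCriterion.flat_of_injective_of_flat_quotient (B := S)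
    (IsLocalRing.maximalIdeal R) (hloc.trans (IsLocalRing.maximalIdeal_le_jacobson _)) h ?_
  have : Module.Flat (IsLocalRing.ResidueField R) (IsLocalRing.ResidueField R ⊗[R] M) :=
    inferInstance
  exact this

end Groth.Agent.S0390
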