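import Groth.Statements.S0396
import Groth.Agent.FlatA.LocalCriterion

set_option autoImplicit false
universe u
open FlatMor

namespace Groth.Agent.S0396

open TensorProduct in
/-- Stacks Tag 0523: for a map of Noetherian rings R → S, an ideal I of R and a finite S-module M such that M/IⁿM is flat over R/Iⁿ for every n ≥ 1, the localization of M at any prime of S containing IS is flat over R. -/
theorem result {R S M : Type u} [CommRing R] [CommRing S] [IsNoetherianRing R] [IsNoetherianRing S] [Algebra R S]
    [AddCommGroup M] [Module R M] [Module S M] [IsScalarTower R S M] [Module.Finite S M] (I : Ideal R)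
    (h : ∀ n : ℕ, 0 < n → Module.Flat (R ⧸ I ^ n) ((R ⧸ I ^ n) ⊗[R] M))
    (q : Ideal S) [q.IsPrime] (hq : I.map (algebraMap R S) ≤ q) :
    Module.Flat R (LocalizedModule q.primeCompl M) := by
  refine Groth.Agent.FlatA.LocalCriterion.flat_localized_of_forall_flat_quotient_pow
    (B := S) (N := M) I h q.primeCompl ?_ (LocalizedModule.mkLinearMap q.primeCompl M)
  intro r hr h1
  have h2 : r ∈ q := hq hr
  have h3 : (1 : S) ∈ q := by
    have := q.add_mem h1 h2
    rwa [sub_add_cancel] at this
  exact (q.ne_top_iff_one.1 (Ideal.IsPrime.ne_top ‹_›)) h3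

end Groth.Agent.S0396
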