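import Groth.Statements.S0400
import Groth.Agent.FlatA.FibreNilpotent

set_option autoImplicit false
universe u
open FlatMor

namespace Groth.Agent.S0400

open TensorProduct in
/-- Stacks Tag 06A5: fibrewise criterion of flatness, nilpotent form: for ring maps R → S, a nilpotent ideal I of R and an S-module M flat over R with M/IM flat over S/IS, M is flat over S (the source also locates the primes of S at which S is flat over R; not stated here). -/
theorem result {R S M : Type u} [CommRing R] [CommRing S] [Algebra R S] (I : Ideal R) (hI : IsNilpotent I)
    [AddCommGroup M] [Module S M] [Module R M] [IsScalarTower R S M] [Module.Flat R M]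
    (h : Module.Flat (S ⧸ I.map (algebraMap R S)) ((S ⧸ I.map (algebraMap R S)) ⊗[S] M)) : Module.Flat S M := by
  exact Groth.Agent.FlatA.FibreNilpotent.flat_of_isNilpotent_of_fibre I hI h

end Groth.Agent.S0400
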