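import Groth.Statements.S0401
-- import your own Groth.Agent.* helpers here

set_option autoImplicit false
universe u
open FlatMor

namespace Groth.Agent.S0401

/-- Stacks Tag 00QF: for a finite type ring map R → S quasi-finite at a prime q lying over p, the dimension of S_q is at most the dimension of R_p. -/
theorem result {R S : Type u} [CommRing R] [CommRing S] [Algebra R S] [Algebra.FiniteType R S] (q : Ideal S) [q.IsPrime] [Algebra.QuasiFiniteAt R q] :
    ringKrullDim (Localization.AtPrime q) ≤ ringKrullDim (Localization.AtPrime (q.under R)) := by
  let p := q.under R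
  let φ : Localization.AtPrime p →+* Localization.AtPrime q := Localization.localRingHom p q (algebraMap R S) rfl
  refine Order.krullDim_le_of_strictMono (PrimeSpectrum.comap φ) ?_
  intro P Q hPQ
  have hle : PrimeSpectrum.comap φ P ≤ PrimeSpectrum.comap φ Q := Ideal.comap_mono hPQ.le
  refine lt_of_le_of_ne hle ?_
  intro heq
  have hcomp : φ.comp (algebraMap R (Localization.AtPrime p)) = algebraMap R (Localization.AtPrime q) := by
    ext r
    simp only [RingHom.comp_apply, φ]
    rw [Localization.localRingHom_to_map]
    exact (IsScalarTower.algebraMap_apply R S (Localization.AtPrime q) r).symm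
  have h1 : P.asIdeal.under R = Q.asIdeal.under R := by
    simp only [Ideal.under_def, ← hcomp, ← Ideal.comap_comap]
    exact congrArg (fun I : PrimeSpectrum (Localization.AtPrime p) => I.asIdeal.comap (algebraMap R (Localization.AtPrime p))) heq
  have := Algebra.QuasiFinite.eq_of_le_of_under_eq (R := R) P.asIdeal Q.asIdeal hPQ.le h1
  exact hPQ.ne (PrimeSpectrum.ext this)

end Groth.Agent.S0401
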