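import Groth.Statements.S0404
import Groth.Agent.FlatA.FlatFibre
import Groth.Agent.FlatA.FibreTop

set_option autoImplicit false
universe u
open FlatMor

namespace Groth.Agent.S0404

open AlgebraicGeometry CategoryTheory Limits in
/-- Stacks Tag 0D4H: for a flat morphism of finite presentation (here: flat, quasi-compact, quasi-separated and locally of finite presentation) the dimension of the fibre is a lower semicontinuous function on the target. -/
theorem result {X S : Scheme.{u}} (f : X ⟶ S) [Flat f] [LocallyOfFinitePresentation f] [QuasiCompact f] [QuasiSeparated f] (c : WithBot ℕ∞) :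
    IsOpen {s : S | c < topologicalKrullDim (f.fiber s)} := by
  rw [isOpen_iff_forall_mem_open]
  intro s hs
  change c < topologicalKrullDim (f.fiber s) at hs
  rw [Groth.Agent.FlatA.FibreDim.topologicalKrullDim_fiber_eq] at hs
  obtain ⟨l, hl⟩ := lt_iSup_iff.mp hs
  obtain ⟨x, hx⟩ := l.head.isIrreducible.nonempty
  obtain ⟨x, hxs⟩ := x
  obtain rfl : f x = s := hxs
  obtain ⟨V, hV, hxV, -⟩ := exists_isAffineOpen_mem_and_subset (U := ⊤) (x := f x) (by trivial)
  obtain ⟨U, hU, hxU, hUV⟩ := exists_isAffineOpen_mem_and_subset (U := f ⁻¹ᵁ V) (x := x) hxV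
  have e : U ≤ f ⁻¹ᵁ V := hUV
  let := (f.appLE V U e).hom.toAlgebra
  have : Algebra.FinitePresentation Γ(S, V) Γ(X, U) := f.finitePresentation_appLE hV hU e
  have : Module.Flat Γ(S, V) Γ(X, U) := f.flat_appLE hV hU e
  have hopen := Groth.Agent.FlatA.FlatFibre.isOpen_le_ringKrullDim_fiber
    (R := Γ(S, V)) (B := Γ(X, U)) l.length
  obtain ⟨q, hq⟩ : ∃ q : PrimeSpectrum Γ(X, U), hU.fromSpec q = x :=
    ⟨hU.primeIdealOf ⟨x, hxU⟩, hU.fromSpec_primeIdealOf ⟨x, hxU⟩⟩
  obtain ⟨p, hpq⟩ : ∃ p, p = PrimeSpectrum.comap (f.appLE V U e).hom q := ⟨_, rfl⟩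
  have hpx : hV.fromSpec p = f x := by
    rw [hpq, ← Groth.Agent.FlatA.FibreTop.apply_fromSpec f hV hU e q, hq]
  refine ⟨hV.fromSpec '' {p | _}, ?_, hV.fromSpec.isOpenEmbedding.isOpenMap _ hopen, ⟨p, ?_, hpx⟩⟩
  · rintro _ ⟨p', hp', rfl⟩
    change c < topologicalKrullDim (f.fiber _)
    refine hl.trans_le (le_trans hp' ?_)
    exact (Groth.Agent.FlatA.FibreQF.topologicalKrullDim_fibre_eq Γ(S, V) Γ(X, U) p').symm.le.trans
      (Groth.Agent.FlatA.FibreTop.dim_chart_le f hV hU e p')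
  · refine le_trans ?_ (Groth.Agent.FlatA.FibreQF.topologicalKrullDim_fibre_eq Γ(S, V) Γ(X, U) p).le
    let U' : TopologicalSpace.Opens ↥((f : X → S) ⁻¹' {f x}) :=
      ⟨Subtype.val ⁻¹' U, U.isOpen.preimage continuous_subtype_val⟩
    refine (Groth.Agent.VarietyB.DimTop.length_le_of_mem_head l U' ⟨x, rfl⟩ hxU hx).trans ?_
    exact Groth.Agent.FlatA.FibreTop.le_dim_chart f hV hU e p (f x) hpx (U' : Set _)
      (fun z hz ↦ hz)

end Groth.Agent.S0404
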