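import Groth.Statements.S1237
import Groth.Agent.Flat2B.FlatLocusAux
import Mathlib.RingTheory.Ideal.AssociatedPrime.Finiteness
import Groth.Agent.S0387
import Groth.Agent.S1192
import Groth.Agent.S1208

set_option autoImplicit false
universe u
open FlatMor

namespace Groth.Agent.S1237

open TensorProduct Flat2B.FlatLocusAux

theorem weakAss_congr {S : Type*} [CommRing S] {M N : Type*} [AddCommGroup M] [Module S M]
    [AddCommGroup N] [Module S N] (e : M ≃ₗ[S] N) : FlatCA.weakAss S M = FlatCA.weakAss S N := by
  have key : ∀ m : M, (Submodule.span S {m}).annihilator = (Submodule.span S {e m}).annihilator := by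
    intro m
    ext s
    rw [Submodule.mem_annihilator_span_singleton, Submodule.mem_annihilator_span_singleton,
      ← map_smul, LinearEquiv.map_eq_zero_iff]
  ext p
  constructor
  · rintro ⟨m, hm⟩
    exact ⟨e m, by rwa [← key]⟩
  · rintro ⟨n, hn⟩
    exact ⟨e.symm n, by rw [key]; simpa using hn⟩

/-- A flat finitely presented module over a finitely presented algebra over a ring with finitely many weakly
associated primes has finitely many weakly associated primes. -/
theorem weakAss_finite {R S : Type u} [CommRing R] [CommRing S] [Algebra R S]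
    [Algebra.FinitePresentation R S] (hR : (FlatCA.weakAss R R).Finite)
    (N : Type u) [AddCommGroup N] [Module S N] [Module R N] [IsScalarTower R S N]
    [Module.FinitePresentation S N] [Module.Flat R N] : (FlatCA.weakAss S N).Finite := by
  have e : (N ⊗[R] R) ≃ₗ[S] N := TensorProduct.AlgebraTensorModule.rid R S N
  rw [← weakAss_congr e]
  have hsub : FlatCA.weakAss S (N ⊗[R] R) ⊆ ⋃ p ∈ FlatCA.weakAss R R,
      {q : Ideal S | ∃ (_ : p.IsPrime) (_ : q.IsPrime), q.LiesOver p ∧
        FlatCA.fiberIdeal p q ∈ associatedPrimes (p.Fiber S) (FlatCA.fiberMod p S N)} := by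
    intro q hq
    obtain ⟨m, hm⟩ := hq
    have hqp : q.IsPrime := hm.1.1
    have hpp : (q.under R).IsPrime := inferInstance
    have hov : q.LiesOver (q.under R) := inferInstance
    have := (Groth.Agent.S1192.result N R (q.under R) q).mp ⟨m, hm⟩
    simp only [Set.mem_iUnion]
    exact ⟨q.under R, this.1, hpp, hqp, hov, this.2⟩
  refine Set.Finite.subset (hR.biUnion ?_) hsub
  intro p hp
  obtain ⟨m, hm⟩ := hp
  have hpp : p.IsPrime := hm.1.1
  have : IsNoetherianRing (p.Fiber S) := Flat2A.Fiber.fiber_isNoetherianRing p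
  have : Module.Finite (p.Fiber S) (FlatCA.fiberMod p S N) := Flat2A.Fiber.fiberMod_finite N p
  have hfin : (associatedPrimes (p.Fiber S) (FlatCA.fiberMod p S N)).Finite :=
    associatedPrimes.finite _ _
  refine Set.Finite.of_injOn (f := FlatCA.fiberIdeal p) (t := associatedPrimes (p.Fiber S) (FlatCA.fiberMod p S N)) ?_ ?_ hfin
  · rintro q ⟨_, _, _, hq⟩
    exact hq
  · rintro q ⟨_, hq1, hq2, _⟩ q' ⟨_, hq1', hq2', _⟩ heq
    rw [← Flat2A.Fiber.comap_fiberIdeal p q, ← Flat2A.Fiber.comap_fiberIdeal p q']
    exact congrArg _ heq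

/-- a surjection whose kernel dies in a localization induces an isomorphism of localizations -/
theorem bijective_map_of_ker {S M N : Type*} [CommRing S] [AddCommGroup M] [Module S M]
    [AddCommGroup N] [Module S N] (W : Submonoid S) (φ : M →ₗ[S] N) (hφ : Function.Surjective φ)
    (hker : ∀ x ∈ LinearMap.ker φ, ∃ w ∈ W, w • x = 0) :
    Function.Bijective (LocalizedModule.map W φ) := by
  constructor
  · rw [injective_iff_map_eq_zero]
    intro x hx
    induction x using LocalizedModule.induction_on with
    | h m s =>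
      rw [LocalizedModule.map_mk] at hx
      have h1 : ∃ u : W, u • φ m = 0 := by
        have := (IsLocalizedModule.mk'_eq_zero' (f := LocalizedModule.mkLinearMap W N)
          (m := φ m) s).mp (by rw [← IsLocalizedModule.mk_eq_mk']; exact hx)
        exact this
      obtain ⟨u, hu⟩ := h1
      have h2 : u.1 • m ∈ LinearMap.ker φ := by
        rw [LinearMap.mem_ker, map_smul]; exact hu
      obtain ⟨w, hw, hwx⟩ := hker _ h2
      rw [IsLocalizedModule.mk_eq_mk', IsLocalizedModule.mk'_eq_zero']
      refine ⟨⟨w, hw⟩ * u, ?_⟩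
      rw [mul_smul]
      exact hwx
  · exact LocalizedModule.map_surjective W φ hφ

theorem exists_away {R S : Type u} [CommRing R] [CommRing S] [Algebra R S]
    [Algebra.FinitePresentation R S] (hR : (FlatCA.weakAss R R).Finite)
    (N : Type u) [AddCommGroup N] [Module S N] [Module R N] [IsScalarTower R S N]
    [Module.Finite S N] (q : Ideal S) [q.IsPrime] (hflat : FlatCA.FlatAt R q N) :
    ∃ g : S, g ∉ q ∧
      Module.FinitePresentation (Localization.Away g) (LocalizedModule (Submonoid.powers g) N) ∧
      Module.Flat R (LocalizedModule (Submonoid.powers g) N) := by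
  have h1 := Groth.Agent.S1208.result N q hflat
  obtain ⟨N', _, _, φ, hfp, hsurj, hker⟩ := exists_fp_surjection q.primeCompl h1
  let _ : Module R N' := Module.compHom N' (algebraMap R S)
  have : IsScalarTower R S N' := ⟨fun r s x => by
    rw [Algebra.smul_def, mul_smul]; rfl⟩
  -- `N'` is flat at `q`
  have hbij := bijective_map_of_ker q.primeCompl φ hsurj hker
  let e : LocalizedModule q.primeCompl N' ≃ₗ[Localization q.primeCompl] LocalizedModule q.primeCompl N :=
    LinearEquiv.ofBijective _ hbij
  have hflat' : Module.Flat R (LocalizedModule q.primeCompl N') := by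
    have : Module.Flat R (LocalizedModule q.primeCompl N) := hflat
    exact Module.Flat.of_linearEquiv ((e.restrictScalars S).restrictScalars R)
  have hopen := Groth.Agent.S0387.result (R := R) (S := S) (M := N')
  obtain ⟨_, ⟨g₁, rfl⟩, hg₁, hsub⟩ := PrimeSpectrum.isTopologicalBasis_basic_opens.exists_subset_of_mem_open
    (show (⟨q, ‹_›⟩ : PrimeSpectrum S) ∈ {q : PrimeSpectrum S |
      Module.Flat R (LocalizedModule q.asIdeal.primeCompl N')} from hflat') hopen
  have hg₁q : g₁ ∉ q := hg₁
  -- `N'` is flat on `D(g₁)`
  have hflat₁ : Module.Flat R (LocalizedModule (Submonoid.powers g₁) N') :=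
    flat_away_of_flatAt N' g₁ fun q' hq' hmem => hsub (show (⟨q', hq'⟩ : PrimeSpectrum S) ∈ _ from hmem)
  have hfp₁ : Algebra.FinitePresentation R (Localization.Away g₁) := inferInstance
  have hfin := weakAss_finite (S := Localization.Away g₁) hR (LocalizedModule (Submonoid.powers g₁) N')
  have hdisj : Disjoint (Submonoid.powers g₁ : Set S) (q : Set S) := by
    rw [Set.disjoint_left]
    rintro _ ⟨n, rfl⟩ hmem
    exact hg₁q (‹q.IsPrime›.mem_of_pow_mem n hmem)
  have hq₁ : (q.map (algebraMap S (Localization.Away g₁))).IsPrime :=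
    IsLocalization.isPrime_of_isPrime_disjoint (Submonoid.powers g₁) _ q ‹_› hdisj
  have hcomap : (q.map (algebraMap S (Localization.Away g₁))).comap (algebraMap S (Localization.Away g₁)) = q :=
    IsLocalization.under_map_of_isPrime_disjoint (Submonoid.powers g₁) _ ‹_› hdisj
  obtain ⟨g', hg', hkill⟩ := exists_notMem_forall_pow_smul_eq_zero hfin
    ((LinearMap.ker φ).localized' (Localization.Away g₁) (Submonoid.powers g₁)
      (LocalizedModule.mkLinearMap (Submonoid.powers g₁) N'))
    (q.map (algebraMap S (Localization.Away g₁))) (by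
      intro x hx
      obtain ⟨m, hm, s, rfl⟩ := (Submodule.mem_localized' _ _ _ _ _).mp hx
      obtain ⟨w, hw, hwm⟩ := hker m hm
      refine ⟨algebraMap S _ w, ?_, ?_⟩
      · intro hmem
        apply hw
        have : w ∈ (q.map (algebraMap S (Localization.Away g₁))).comap (algebraMap S (Localization.Away g₁)) := hmem
        rwa [hcomap] at this
      · rw [algebraMap_smul, ← IsLocalizedModule.mk'_smul, hwm, IsLocalizedModule.mk'_zero])
  obtain ⟨⟨a, s⟩, has⟩ := IsLocalization.surj (Submonoid.powers g₁) g'
  have haq : a ∉ q := by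
    intro ha
    apply hg'
    have h2 : g' * algebraMap S (Localization.Away g₁) s ∈ q.map (algebraMap S (Localization.Away g₁)) := by
      rw [has]
      exact Ideal.mem_map_of_mem _ ha
    exact (hq₁.mem_or_mem h2).resolve_right (fun h3 => hq₁.ne_top
      (Ideal.eq_top_of_isUnit_mem _ h3 (IsLocalization.map_units _ s)))
  have hkill' : ∀ x ∈ LinearMap.ker φ, ∃ w ∈ Submonoid.powers (g₁ * a), w • x = 0 := by
    intro x hx
    obtain ⟨n, hn⟩ := hkill (LocalizedModule.mkLinearMap (Submonoid.powers g₁) N' x) (by
      rw [Submodule.mem_localized']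
      exact ⟨x, hx, 1, IsLocalizedModule.mk'_one _ _ _⟩)
    have h3 : LocalizedModule.mkLinearMap (Submonoid.powers g₁) N' (a ^ n • x) = 0 := by
      rw [map_smul, ← algebraMap_smul (Localization.Away g₁) (a ^ n), map_pow, ← has, mul_pow, mul_comm,
        mul_smul, hn, smul_zero]
    obtain ⟨⟨_, m, rfl⟩, hm⟩ := (IsLocalizedModule.eq_zero_iff (Submonoid.powers g₁) _).mp h3
    refine ⟨_, ⟨m + n, rfl⟩, ?_⟩
    have h4 : g₁ ^ m • a ^ n • x = 0 := hm
    have h5 : (g₁ * a) ^ (m + n) = (g₁ ^ n * a ^ m) * (g₁ ^ m * a ^ n) := by ring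
    simp only
    rw [h5, mul_smul, mul_smul (g₁ ^ m), h4, smul_zero]
  refine ⟨g₁ * a, fun hmem => (‹q.IsPrime›.mem_or_mem hmem).elim hg₁q haq, ?_, ?_⟩
  · exact Module.FinitePresentation.of_equiv
      (LinearEquiv.ofBijective _ (bijective_map_of_ker (Submonoid.powers (g₁ * a)) φ hsurj hkill'))
  · have h6 : Module.Flat R (LocalizedModule (Submonoid.powers (g₁ * a)) N') := by
      refine flat_away_of_flatAt N' _ fun q' hq' hmem => hsub (show (⟨q', hq'⟩ : PrimeSpectrum S) ∈ _ from ?_)
      exact fun h7 => hmem (Ideal.mul_mem_right _ _ h7)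
    let e' : LocalizedModule (Submonoid.powers (g₁ * a)) N' ≃ₗ[Localization (Submonoid.powers (g₁ * a))]
      LocalizedModule (Submonoid.powers (g₁ * a)) N := LinearEquiv.ofBijective _
        (bijective_map_of_ker (Submonoid.powers (g₁ * a)) φ hsurj hkill')
    exact Module.Flat.of_linearEquiv ((e'.restrictScalars S).restrictScalars R).symm

/-- Stacks Tag 05IK (ring form, X = Spec S and S = Spec R affine, where local finiteness of the weakly associated points means finiteness): let R be a ring with finitely many weakly associated primes, S a finitely presented R-algebra and N a finite S-module. Then the set U of primes q of S with N_q flat over R is open in Spec S, and every q in U has a basic open neighbourhood D(g) on which N becomes finitely presented over S_g and flat over R. -/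
theorem result {R S : Type u} [CommRing R] [CommRing S] [Algebra R S] [Algebra.FinitePresentation R S]
    (hR : (FlatCA.weakAss R R).Finite)
    (N : Type u) [AddCommGroup N] [Module S N] [Module R N] [IsScalarTower R S N] [Module.Finite S N] :
    IsOpen {q : PrimeSpectrum S | FlatCA.FlatAt R q.asIdeal N} ∧
    ∀ (q : Ideal S) [q.IsPrime], FlatCA.FlatAt R q N → ∃ g : S, g ∉ q ∧
      Module.FinitePresentation (Localization.Away g) (LocalizedModule (Submonoid.powers g) N) ∧
      Module.Flat R (LocalizedModule (Submonoid.powers g) N) := by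
  refine ⟨?_, fun q _ hq => exists_away hR N q hq⟩
  rw [isOpen_iff_forall_mem_open]
  intro q hq
  obtain ⟨g, hg, _, hflat⟩ := exists_away hR N q.asIdeal hq
  exact ⟨PrimeSpectrum.basicOpen g, fun q' hq' => flatAt_of_flat_away q'.asIdeal N g hq' hflat,
    PrimeSpectrum.isOpen_basicOpen, hg⟩

end Groth.Agent.S1237
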