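import Groth.Statements.S0405
import Groth.Agent.S1237
import Groth.Agent.Flat2C.FlatAtCriterion
import Mathlib.RingTheory.LocalProperties.FinitePresentation
import Mathlib.RingTheory.FiniteType

set_option autoImplicit false
universe u
open FlatMor

namespace Groth.Agent.S0405

lemma weakAss_finite_of_isDomain (R : Type u) [CommRing R] [IsDomain R] :
    (FlatCA.weakAss R R).Finite := by
  refine Set.Finite.subset (Set.finite_singleton ⊥) ?_
  rintro p ⟨m, hm⟩
  by_cases h0 : m = 0
  · subst h0
    have h1 : (Submodule.span R {(0 : R)}).annihilator = ⊤ := by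
      rw [Submodule.span_zero_singleton, Submodule.annihilator_bot]
    rw [h1] at hm
    exact absurd (top_le_iff.mp hm.1.2) hm.1.1.ne_top
  · have h1 : (Submodule.span R {m}).annihilator = ⊥ := by
      rw [eq_bot_iff]
      intro x hx
      rw [Submodule.mem_annihilator_span_singleton, smul_eq_mul] at hx
      rcases mul_eq_zero.mp hx with h | h
      · exact h
      · exact absurd h h0
    rw [h1] at hm
    have : (⊥ : Ideal R).IsPrime := Ideal.isPrime_bot
    exact le_antisymm (hm.2 ⟨this, le_rfl⟩ bot_le) bot_le

/-- Finite presentation over a ring mapping onto `S` gives finite presentation over `S`. -/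
lemma finitePresentation_of_surjective (P S M : Type*) [CommRing P] [CommRing S] [Algebra P S]
    [AddCommGroup M] [Module S M] [Module P M] [IsScalarTower P S M]
    (h : Function.Surjective (algebraMap P S)) [Module.FinitePresentation P M] :
    Module.FinitePresentation S M := by
  have hPS : Module.Finite P S := Module.Finite.of_surjective (Algebra.linearMap P S) h
  have hM : Module.Finite S M := Module.Finite.of_restrictScalars_finite P S M
  obtain ⟨n, l, hl⟩ := Module.Finite.exists_fin' S M
  refine Module.finitePresentation_of_surjective l hl ?_
  refine Submodule.FG.of_restrictScalars (R := P) ?_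
  have := Module.FinitePresentation.fg_ker (l.restrictScalars P) hl
  rwa [LinearMap.ker_restrictScalars] at this

/-- Stacks Tag 053G: Raynaud–Gruson: over a domain R, a finite module over a finite type R-algebra S that is flat over R is finitely presented as an S-module. -/
theorem result {R S M : Type u} [CommRing R] [IsDomain R] [CommRing S] [Algebra R S] [Algebra.FiniteType R S]
    [AddCommGroup M] [Module S M] [Module R M] [IsScalarTower R S M] [Module.Finite S M] [Module.Flat R M] :
    Module.FinitePresentation S M := by
  obtain ⟨n, φ, hφ⟩ := Algebra.FiniteType.iff_quotient_mvPolynomial''.mp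
    (inferInstance : Algebra.FiniteType R S)
  let _ : Algebra (MvPolynomial (Fin n) R) S := φ.toRingHom.toAlgebra
  have _ : IsScalarTower R (MvPolynomial (Fin n) R) S :=
    IsScalarTower.of_algebraMap_eq' φ.comp_algebraMap.symm
  let _ : Module (MvPolynomial (Fin n) R) M := Module.compHom M φ.toRingHom
  have _ : IsScalarTower (MvPolynomial (Fin n) R) S M := ⟨fun p s m => by
    change (φ p * s) • m = φ p • s • m
    rw [mul_smul]⟩
  have _ : IsScalarTower R (MvPolynomial (Fin n) R) M := ⟨fun r p m => by
    change φ (r • p) • m = r • φ p • m
    rw [map_smul, smul_assoc]⟩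
  have hfinS : Module.Finite (MvPolynomial (Fin n) R) S :=
    Module.Finite.of_surjective (Algebra.linearMap (MvPolynomial (Fin n) R) S) hφ
  have hfinM : Module.Finite (MvPolynomial (Fin n) R) M := Module.Finite.trans S M
  have key := (S1237.result (R := R) (S := MvPolynomial (Fin n) R)
    (weakAss_finite_of_isDomain R) M).2
  have hflat : ∀ (q : Ideal (MvPolynomial (Fin n) R)) [q.IsPrime], FlatCA.FlatAt R q M := by
    intro q _
    rw [Flat2C.FlatAtCriterion.flatAt_iff]
    intro I x hx
    refine ⟨1, fun h => (Ideal.IsPrime.ne_top ‹_›) ((Ideal.eq_top_iff_one q).mpr h), ?_⟩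
    have h1 := (Module.Flat.iff_lTensor_injective' (R := R) (M := M)).mp inferInstance I
    rw [one_smul]
    exact h1 (by rw [hx, map_zero])
  have hfp : Module.FinitePresentation (MvPolynomial (Fin n) R) M := by
    have hspan : Ideal.span {g : MvPolynomial (Fin n) R |
        Module.FinitePresentation (Localization.Away g) (LocalizedModule (Submonoid.powers g) M)} = ⊤ := by
      by_contra hne
      obtain ⟨q, hq, hle⟩ := Ideal.exists_le_maximal _ hne
      obtain ⟨g, hg, hfp, -⟩ := key q (hflat q)
      exact hg (hle (Ideal.subset_span hfp))
    exact Module.FinitePresentation.of_localizationSpan _ hspan fun g => g.2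
  exact finitePresentation_of_surjective (MvPolynomial (Fin n) R) S M hφ

end Groth.Agent.S0405
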