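import Groth.Statements.S0406
import Groth.Agent.S0405
import Mathlib.RingTheory.FinitePresentation

set_option autoImplicit false
universe u
open FlatMor

namespace Groth.Agent.S0406

/-- Stacks Tag 053G: Raynaud–Gruson, algebra case: a flat finite type algebra over a domain is finitely presented. -/
theorem result {R S : Type u} [CommRing R] [IsDomain R] [CommRing S] [Algebra R S] [Algebra.FiniteType R S] [Module.Flat R S] :
    Algebra.FinitePresentation R S := by
  obtain ⟨n, φ, hφ⟩ := Algebra.FiniteType.iff_quotient_mvPolynomial''.mp
    (inferInstance : Algebra.FiniteType R S)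
  let _ : Algebra (MvPolynomial (Fin n) R) S := φ.toRingHom.toAlgebra
  have _ : IsScalarTower R (MvPolynomial (Fin n) R) S :=
    IsScalarTower.of_algebraMap_eq' φ.comp_algebraMap.symm
  have hfinS : Module.Finite (MvPolynomial (Fin n) R) S :=
    Module.Finite.of_surjective (Algebra.linearMap (MvPolynomial (Fin n) R) S) hφ
  have hfp : Module.FinitePresentation (MvPolynomial (Fin n) R) S :=
    S0405.result (R := R) (S := MvPolynomial (Fin n) R) (M := S)
  refine Algebra.FinitePresentation.of_surjective (f := φ) hφ ?_
  exact Module.FinitePresentation.fg_ker (Algebra.linearMap (MvPolynomial (Fin n) R) S) hφ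

end Groth.Agent.S0406
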