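import Groth.Statements.S0410
import Groth.Agent.FlatA.FiniteExtend
import Groth.Agent.FlatA.FiniteFreeSplit
import Mathlib.RingTheory.Etale.StandardEtale
import Mathlib.RingTheory.Unramified.LocalStructure
import Mathlib.AlgebraicGeometry.Morphisms.UniversallyOpen
import Mathlib.AlgebraicGeometry.Morphisms.Flat
import Mathlib.AlgebraicGeometry.Morphisms.Smooth
import Mathlib.RingTheory.Finiteness.ModuleFinitePresentation

set_option autoImplicit false
universe u
open FlatMor

namespace Groth.Agent.S0410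

section helpers

open Polynomial in
theorem exists_algHom {A : Type u} [CommRing A] (P : StandardEtalePair A)
    {B : Type u} [CommRing B] [Algebra A B] (s : Multiset B)
    (hs : P.f.map (algebraMap A B) = (s.map (fun a => X - C a)).prod)
    {K : Type u} [Field K] (φ₁ : P.Ring →+* K) (φ₂ : B →+* K)
    (h : φ₁.comp (algebraMap A P.Ring) = φ₂.comp (algebraMap A B)) :
    ∃ b : B, φ₂ b ≠ 0 ∧ Nonempty (P.Ring →ₐ[A] Localization.Away b) := by
  let algAK : Algebra A K := (φ₂.comp (algebraMap A B)).toAlgebra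
  let ψ₁ : P.Ring →ₐ[A] K := { φ₁ with commutes' := fun a => congrArg (fun g : A →+* K => g a) h }
  let ψ₂ : B →ₐ[A] K := { φ₂ with commutes' := fun a => rfl }
  have hx : P.HasMap (ψ₁ P.X) := StandardEtalePair.hasMap_X.map ψ₁
  obtain ⟨a, ha, hax⟩ : ∃ a ∈ s, ψ₁ P.X = ψ₂ a := by
    have h0 : (s.map (fun a => ψ₁ P.X - ψ₂ a)).prod = 0 := by
      have h1 := hx.1
      have h2 : aeval (ψ₁ P.X) P.f = eval₂ (ψ₂ : B →+* K) (ψ₁ P.X) (P.f.map (algebraMap A B)) := by
        rw [eval₂_map, aeval_def]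
        rfl
      rw [h2, hs, ← coe_eval₂RingHom, map_multiset_prod, Multiset.map_map] at h1
      convert! h1 using 3
      simp
    rw [Multiset.prod_eq_zero_iff, Multiset.mem_map] at h0
    obtain ⟨a, ha, hax⟩ := h0
    exact ⟨a, ha, sub_eq_zero.mp hax⟩
  have hfa : aeval a P.f = 0 := by
    have h2 : aeval a P.f = eval a (P.f.map (algebraMap A B)) := by
      rw [eval_map, aeval_def]
    rw [h2, hs, eval_multiset_prod]
    apply Multiset.prod_eq_zero
    rw [Multiset.map_map, Multiset.mem_map]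
    exact ⟨a, ha, by simp⟩
  refine ⟨aeval a P.g, ?_, ?_⟩
  · have h3 : ψ₂ (aeval a P.g) = aeval (ψ₁ P.X) P.g := by
      rw [← aeval_algHom_apply, ← hax]
    change ψ₂ (aeval a P.g) ≠ 0
    rw [h3]
    exact hx.2.ne_zero
  · refine ⟨P.lift (algebraMap B (Localization.Away (aeval a P.g)) a) ⟨?_, ?_⟩⟩
    · rw [aeval_algebraMap_apply, hfa, map_zero]
    · rw [aeval_algebraMap_apply]
      exact IsLocalization.Away.algebraMap_isUnit _

open CategoryTheory Limits AlgebraicGeometry

/-- Local factorization of `π : Y ⟶ X` through `g : U ⟶ X` at the point `y`. -/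
def LocFactors {U X Y : Scheme.{u}} (g : U ⟶ X) (π : Y ⟶ X) (y : Y) : Prop :=
  ∃ (V : Y.Opens) (h : ↑V ⟶ U), y ∈ V ∧ h ≫ g = V.ι ≫ π

theorem LocFactors.comp {U X Y Y' : Scheme.{u}} {g : U ⟶ X} {π : Y ⟶ X} (ρ : Y' ⟶ Y) (y : Y')
    (h : LocFactors g π (ρ y)) : LocFactors g (ρ ≫ π) y := by
  obtain ⟨V, h, hy, hh⟩ := h
  refine ⟨ρ ⁻¹ᵁ V, (ρ ∣_ V) ≫ h, hy, ?_⟩
  rw [Category.assoc, hh, morphismRestrict_ι_assoc]

theorem LocFactors.of_openImmersion {U X Y O : Scheme.{u}} {g : U ⟶ X} {π : Y ⟶ X} (j : O ⟶ Y)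
    [IsOpenImmersion j] (o : O) (h : O ⟶ U) (hh : h ≫ g = j ≫ π) : LocFactors g π (j o) := by
  refine ⟨j.opensRange, j.isoOpensRange.inv ≫ h, ⟨o, rfl⟩, ?_⟩
  rw [Category.assoc, hh, Scheme.Hom.isoOpensRange_inv_comp_assoc]

/-- Over an affine base, the points of a finite free cover splitting a standard étale algebra which
lie over the image of the standard étale scheme have local factorizations. -/
theorem locFactors_of_standardEtale {A : Type u} [CommRing A] (P : StandardEtalePair A)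
    {B : Type u} [CommRing B] [Algebra A B] (s : Multiset B)
    (hs : P.f.map (algebraMap A B) = (s.map (fun a => Polynomial.X - Polynomial.C a)).prod)
    (y : Spec (.of B)) (x : Spec (.of P.Ring))
    (h : Spec.map (CommRingCat.ofHom (algebraMap A P.Ring)) x =
      Spec.map (CommRingCat.ofHom (algebraMap A B)) y) :
    LocFactors (Spec.map (CommRingCat.ofHom (algebraMap A P.Ring)))
      (Spec.map (CommRingCat.ofHom (algebraMap A B))) y := by
  let g₁ := Spec.map (CommRingCat.ofHom (algebraMap A P.Ring))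
  let g₂ := Spec.map (CommRingCat.ofHom (algebraMap A B))
  obtain ⟨z, hz₁, hz₂⟩ := Scheme.Pullback.exists_preimage_pullback (f := g₁) (g := g₂) x y h
  let κ : Spec ((pullback g₁ g₂).residueField z) ⟶ pullback g₁ g₂ :=
    (pullback g₁ g₂).fromSpecResidueField z
  obtain ⟨φ₁, hφ₁⟩ := Spec.map_surjective (κ ≫ pullback.fst g₁ g₂)
  obtain ⟨φ₂, hφ₂⟩ := Spec.map_surjective (κ ≫ pullback.snd g₁ g₂)
  have hcomm : CommRingCat.ofHom (algebraMap A P.Ring) ≫ φ₁ =
      CommRingCat.ofHom (algebraMap A B) ≫ φ₂ := by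
    rw [← Spec.map_inj, Spec.map_comp, Spec.map_comp, hφ₁, hφ₂, Category.assoc, Category.assoc]
    rw [pullback.condition]
  obtain ⟨b, hb, ⟨ψ⟩⟩ := exists_algHom P s hs (K := (pullback g₁ g₂).residueField z) φ₁.hom φ₂.hom
    (congrArg CommRingCat.Hom.hom hcomm)
  have hy : b ∉ y.asIdeal := by
    intro hby
    have hyz : y = Spec.map φ₂ (IsLocalRing.closedPoint _) := by
      rw [hφ₂, Scheme.Hom.comp_apply]
      have : κ (IsLocalRing.closedPoint _) = z := Scheme.fromSpecResidueField_apply _ _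
      rw [this, hz₂]
    rw [hyz] at hby
    exact (IsLocalRing.closedPoint ((pullback g₁ g₂).residueField z)).isPrime.ne_top
      (Ideal.eq_top_of_isUnit_mem _ hby (isUnit_iff_ne_zero.mpr hb))
  let j : Spec (.of (Localization.Away b)) ⟶ Spec (.of B) :=
    Spec.map (CommRingCat.ofHom (algebraMap B (Localization.Away b)))
  have hj : IsOpenImmersion j := inferInstance
  obtain ⟨y', rfl⟩ : ∃ y', j y' = y := by
    have := PrimeSpectrum.localization_away_comap_range (Localization.Away b) b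
    have hy' : y ∈ Set.range (PrimeSpectrum.comap (algebraMap B (Localization.Away b))) := by
      rw [this]
      exact hy
    exact hy'
  refine LocFactors.of_openImmersion j y' (Spec.map (CommRingCat.ofHom ψ.toRingHom)) ?_
  simp only [j]
  rw [← Spec.map_comp, ← Spec.map_comp]
  congr 1
  ext a
  simp only [CommRingCat.hom_comp, CommRingCat.hom_ofHom, RingHom.comp_apply]
  exact (ψ.commutes a).trans (IsScalarTower.algebraMap_apply A B _ a)

/-- Étale morphisms are locally standard étale. -/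
theorem exists_standardEtale {U X : Scheme.{u}} (g : U ⟶ X) [Etale g] (w : U) :
    ∃ (W : X.Opens) (_ : IsAffineOpen W) (P : StandardEtalePair Γ(X, W))
      (t : Spec (.of P.Ring) ⟶ U) (y : Spec (.of P.Ring)), t y = w ∧
      t ≫ g = Spec.map (CommRingCat.ofHom (algebraMap Γ(X, W) P.Ring)) ≫ ‹IsAffineOpen W›.fromSpec := by
  obtain ⟨_, ⟨W, hW, rfl⟩, hxW, -⟩ := X.isBasis_affineOpens.exists_subset_of_mem_open
    (Set.mem_univ (g w)) isOpen_univ
  obtain ⟨_, ⟨V, hV, rfl⟩, hxV, hVW : V ≤ g ⁻¹ᵁ W⟩ :=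
    U.isBasis_affineOpens.exists_subset_of_mem_open hxW (g ⁻¹ᵁ W).2
  have hEt : (g.appLE W V hVW).hom.Etale := g.etale_appLE hW hV hVW
  algebraize [(g.appLE W V hVW).hom]
  let Q := hV.primeIdealOf ⟨w, hxV⟩
  obtain ⟨f, hfQ, hf⟩ := Algebra.IsEtaleAt.exists_isStandardEtale (R := Γ(X, W)) (S := Γ(U, V))
    Q.asIdeal
  obtain ⟨P⟩ := hf.nonempty_standardEtalePresentation
  let τ : Γ(U, V) →+* P.Ring := (P.equivRing : _ →+* P.Ring).comp
    (algebraMap Γ(U, V) (Localization.Away f))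
  have hτ : g.appLE W V hVW ≫ CommRingCat.ofHom τ =
      CommRingCat.ofHom (algebraMap Γ(X, W) P.Ring) := by
    ext a
    exact P.equivRing.commutes a
  obtain ⟨y₀, hy₀⟩ : ∃ y₀ : Spec (.of (Localization.Away f)),
      Spec.map (CommRingCat.ofHom (algebraMap Γ(U, V) (Localization.Away f))) y₀ = Q := by
    have := PrimeSpectrum.localization_away_comap_range (Localization.Away f) f
    have hy' : Q ∈ Set.range (PrimeSpectrum.comap
        (algebraMap Γ(U, V) (Localization.Away f))) := by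
      rw [this]
      exact hfQ
    exact hy'
  let e : CommRingCat.of (Localization.Away f) ⟶ CommRingCat.of P.Ring :=
    CommRingCat.ofHom (P.equivRing : _ →+* P.Ring)
  have he : IsIso e := (ConcreteCategory.isIso_iff_bijective _).mpr P.equivRing.bijective
  obtain ⟨y, hy⟩ : ∃ y, Spec.map e y = y₀ := Scheme.Hom.surjective (Spec.map e) y₀
  have hτ' : CommRingCat.ofHom τ =
    CommRingCat.ofHom (algebraMap Γ(U, V) (Localization.Away f)) ≫ e := rfl
  refine ⟨W, hW, P.P, Spec.map (CommRingCat.ofHom τ) ≫ hV.fromSpec, y, ?_, ?_⟩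
  · rw [hτ', Spec.map_comp, Category.assoc, Scheme.Hom.comp_apply, hy, Scheme.Hom.comp_apply, hy₀]
    exact hV.fromSpec_primeIdealOf ⟨w, hxV⟩
  · rw [Category.assoc, ← IsAffineOpen.SpecMap_appLE_fromSpec g hW hV hVW, ← Category.assoc,
      ← Spec.map_comp, hτ]

theorem exists_local {U X : Scheme.{u}} (g : U ⟶ X) [Etale g] [CompactSpace X]
    [QuasiSeparatedSpace X] (w : U) :
    ∃ V : X.Opens, g w ∈ V ∧ ∃ (Y : Scheme.{u}) (π : Y ⟶ X), Surjective π ∧ IsFinite π ∧
      LocallyOfFinitePresentation π ∧ ∀ y : Y, π y ∈ V → LocFactors g π y := by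
  obtain ⟨W, hW, P, t, y, rfl, htg⟩ := exists_standardEtale g w
  obtain ⟨B, _, _, hfin, hfree, hff, s, hs⟩ :=
    FlatA.FiniteFreeSplit.exists_finite_free_splits P.f P.monic_f
  let a₁ : Spec (.of P.Ring) ⟶ Spec Γ(X, W) :=
    Spec.map (CommRingCat.ofHom (algebraMap Γ(X, W) P.Ring))
  let a₂ : Spec (.of B) ⟶ Spec Γ(X, W) := Spec.map (CommRingCat.ofHom (algebraMap Γ(X, W) B))
  have ha₁ : Etale a₁ := (HasRingHomProperty.Spec_iff (P := @Etale)).mpr
    (RingHom.etale_algebraMap.mpr inferInstance)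
  have h1 : IsFinite a₂ := (IsFinite.SpecMap_iff _).mpr (RingHom.finite_algebraMap.mpr hfin)
  have h2 : LocallyOfFinitePresentation a₂ := by
    refine (LocallyOfFinitePresentation.SpecMap_iff _).mpr
      (RingHom.finitePresentation_algebraMap.mpr ?_)
    have : Module.FinitePresentation Γ(X, W) B := Module.finitePresentation_of_projective _ _
    infer_instance
  have h3 : Surjective a₂ := ⟨PrimeSpectrum.comap_surjective_of_faithfullyFlat⟩
  obtain ⟨Y, π, q, hπ₁, hπ₂, hπ₃, hpb⟩ := FlatA.FiniteExtend.exists_extension_surjective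
    hW.isCompact (a₂ ≫ hW.isoSpec.inv)
  have hq : IsOpenImmersion q := MorphismProperty.of_isPullback hpb.flip inferInstance
  refine ⟨⟨Set.range (a₁ ≫ hW.fromSpec), (a₁ ≫ hW.fromSpec).isOpenMap.isOpen_range⟩,
    ⟨y, ?_⟩, Y, π, hπ₃, hπ₁, hπ₂, ?_⟩
  · rw [← htg, Scheme.Hom.comp_apply]
  · rintro y' ⟨x', hx'⟩
    have hW' : π y' ∈ W := by
      rw [← hx', Scheme.Hom.comp_apply]
      have := hW.range_fromSpec
      rw [← SetLike.mem_coe, ← this]
      exact ⟨_, rfl⟩
    obtain ⟨y₀, rfl, hy₀⟩ := Scheme.exists_preimage_of_isPullback hpb y' ⟨π y', hW'⟩ rfl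
    have hy₀' : a₁ x' = a₂ y₀ := by
      apply hW.fromSpec.isOpenEmbedding.injective
      rw [← Scheme.Hom.comp_apply, hx', ← Scheme.Hom.comp_apply, ← Scheme.Hom.comp_apply,
        hpb.w, Category.assoc]
      rfl
    obtain ⟨V₀, h, hyV₀, hh⟩ := locFactors_of_standardEtale P s hs y₀ x' hy₀'
    have := LocFactors.of_openImmersion (g := g) (π := π) (V₀.ι ≫ q) ⟨y₀, hyV₀⟩ (h ≫ t) ?_
    · exact this
    · rw [Category.assoc, htg, reassoc_of% hh, Category.assoc, hpb.w, Category.assoc]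
      rfl

theorem main {U X : Scheme.{u}} (g : U ⟶ X) [Etale g] [Surjective g] [CompactSpace X]
    [QuasiSeparatedSpace X] :
    ∃ (Y : Scheme.{u}) (π : Y ⟶ X), Surjective π ∧ IsFinite π ∧
      LocallyOfFinitePresentation π ∧ ∀ y : Y, LocFactors g π y := by
  have key : ∃ (Y : Scheme.{u}) (π : Y ⟶ X), Surjective π ∧ IsFinite π ∧
      LocallyOfFinitePresentation π ∧ ∀ y : Y, π y ∈ (Set.univ : Set X) → LocFactors g π y := by
    refine IsCompact.induction_on (isCompact_univ (X := X))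
      (p := fun s => ∃ (Y : Scheme.{u}) (π : Y ⟶ X), Surjective π ∧ IsFinite π ∧
      LocallyOfFinitePresentation π ∧ ∀ y : Y, π y ∈ s → LocFactors g π y) ?_ ?_ ?_ ?_
    · exact ⟨X, 𝟙 X, inferInstance, inferInstance, inferInstance, fun y hy => hy.elim⟩
    · rintro s t hst ⟨Y, π, h1, h2, h3, h4⟩
      exact ⟨Y, π, h1, h2, h3, fun y hy => h4 y (hst hy)⟩
    · rintro s t ⟨Y, π, h1, h2, h3, h4⟩ ⟨Y', π', h1', h2', h3', h4'⟩
      refine ⟨pullback π π', pullback.fst π π' ≫ π, inferInstance, inferInstance, inferInstance,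
        fun y hy => ?_⟩
      obtain hy | hy := hy
      · refine LocFactors.comp _ y (h4 _ ?_)
        rwa [← Scheme.Hom.comp_apply]
      · rw [pullback.condition] at hy ⊢
        refine LocFactors.comp _ y (h4' _ ?_)
        rwa [← Scheme.Hom.comp_apply]
    · intro x _
      obtain ⟨w, rfl⟩ := g.surjective x
      obtain ⟨V, hwV, Y, π, h1, h2, h3, h4⟩ := exists_local g w
      exact ⟨V, mem_nhdsWithin_of_mem_nhds (V.2.mem_nhds hwV), Y, π, h1, h2, h3, h4⟩
  obtain ⟨Y, π, h1, h2, h3, h4⟩ := key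
  exact ⟨Y, π, h1, h2, h3, fun y => h4 y trivial⟩

end helpers

open AlgebraicGeometry CategoryTheory Limits in
/-- Stacks Tag 09Z0: for a surjective étale morphism U → X with X quasi-compact and quasi-separated there is a surjective, finite, finitely presented morphism Y → X that factors through U locally on Y. -/
theorem result {U X : Scheme.{u}} (g : U ⟶ X) [Etale g] [Surjective g] [CompactSpace ↑X] [QuasiSeparatedSpace ↑X] :
    ∃ (Y : Scheme.{u}) (π : Y ⟶ X), Surjective π ∧ IsFinite π ∧ LocallyOfFinitePresentation π ∧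
      ∀ y : ↑Y, ∃ (V : Y.Opens) (h : ↑V ⟶ U), y ∈ V ∧ h ≫ g = V.ι ≫ π := by
  exact main g

end Groth.Agent.S0410
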