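import Groth.Statements.S0417
import Groth.Agent.FlatA.ClosedImmNil

set_option autoImplicit false
universe u
open FlatMor

namespace Groth.Agent.S0417

open AlgebraicGeometry CategoryTheory Limits in
/-- Stacks Tag 0896: if S' → S is a closed immersion that is bijective on points, X → S is of finite type and its base change to S' is a closed immersion, then X → S is a closed immersion (the source alternatively allows S' → S of finite presentation in place of the finite type hypothesis; only the first alternative is stated). -/
theorem result {X S S' : Scheme.{u}} (f : X ⟶ S) (i : S' ⟶ S) [IsClosedImmersion i] (hi : Function.Bijective i)
    [LocallyOfFiniteType f] [QuasiCompact f] [IsClosedImmersion (pullback.snd f i)] : IsClosedImmersion f := by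
  have : Surjective i := ⟨hi.surjective⟩
  exact Groth.Agent.FlatA.ClosedImmNil.isClosedImmersion_of_bijective f i

end Groth.Agent.S0417
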