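import Groth.Statements.S0418
import Mathlib.AlgebraicGeometry.Morphisms.UniversallyInjective
import Mathlib.AlgebraicGeometry.Morphisms.Integral
import Mathlib.RingTheory.Spectrum.Prime.Homeomorph
import Mathlib.RingTheory.Ideal.GoingUp
import Mathlib.Algebra.CharP.Lemmas
import Mathlib.RingTheory.LocalRing.ResidueField.Fiber
import Mathlib.NumberTheory.Basic

set_option autoImplicit false
universe u
open FlatMor

namespace Groth.Agent.S0418

open TensorProduct

section Alg

variable {A S : Type u} [CommRing A] [CommRing S] [Algebra A S]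

/-- For an ideal `I` of `A`, `QQ S p I n t x` says that `t * x ^ p ^ n` is in the image of `A`
modulo `I S`. -/
def QQ (p : ℕ) (I : Ideal A) (n : ℕ) (t : A) (x : S) : Prop :=
  ∃ r : A, algebraMap A S t * x ^ p ^ n - algebraMap A S r ∈ I.map (algebraMap A S)

lemma add_pow_sub (p : ℕ) (hp : p.Prime) (x y : S) (n : ℕ) (I : Ideal A) (hI : (p : A) ∈ I) :
    (x + y) ^ p ^ n - (x ^ p ^ n + y ^ p ^ n) ∈ I.map (algebraMap A S) := by
  obtain ⟨r, hr⟩ := exists_add_pow_prime_pow_eq hp x y n
  rw [hr]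
  have : x ^ p ^ n + y ^ p ^ n + (p : S) * x * y * r - (x ^ p ^ n + y ^ p ^ n) = algebraMap A S (p : A) * (x * y * r) := by
    rw [map_natCast]; ring
  rw [this]
  exact Ideal.mul_mem_right _ _ (Ideal.mem_map_of_mem _ hI)

lemma pow_mem_map (p : ℕ) (hp : p.Prime) (I : Ideal A) (n : ℕ) (w : S)
    (hw : w ∈ I.map (algebraMap A S)) : w ^ p ^ n ∈ I.map (algebraMap A S) :=
  Ideal.pow_mem_of_mem _ hw _ (pow_pos hp.pos _)

lemma QQ.add {p : ℕ} (hp : p.Prime) {I : Ideal A} (hI : (p : A) ∈ I) {n : ℕ} {t : A} {x y : S}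
    (hx : QQ p I n t x) (hy : QQ p I n t y) : QQ p I n t (x + y) := by
  obtain ⟨r, hr⟩ := hx
  obtain ⟨s, hs⟩ := hy
  refine ⟨r + s, ?_⟩
  have h1 := Ideal.mul_mem_left _ (algebraMap A S t) (add_pow_sub (S := S) p hp x y n I hI)
  have h2 := Ideal.add_mem _ (Ideal.add_mem _ hr hs) h1
  convert! h2 using 1
  rw [map_add]; ring

lemma QQ.smul {p : ℕ} {I : Ideal A} {n : ℕ} {t : A} {x : S}
    (hx : QQ p I n t x) (a : A) : QQ p I n t (a • x) := by
  obtain ⟨r, hr⟩ := hx
  refine ⟨a ^ p ^ n * r, ?_⟩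
  have h1 := Ideal.mul_mem_left _ (algebraMap A S (a ^ p ^ n)) hr
  convert! h1 using 1
  rw [Algebra.smul_def, map_mul, mul_pow, map_pow]; ring

lemma QQ.zero {p : ℕ} (hp : p.Prime) {I : Ideal A} {n : ℕ} {t : A} : QQ p I n t (0 : S) := by
  refine ⟨0, ?_⟩
  rw [zero_pow (pow_pos hp.pos n).ne']
  simp

/-- Submodule version. -/
def QS (S : Type u) [CommRing S] [Algebra A S] {p : ℕ} (hp : p.Prime) (I : Ideal A) (hI : (p : A) ∈ I) (n : ℕ) (t : A) : Submodule A S where
  carrier := {x | QQ p I n t x}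
  add_mem' := fun hx hy => QQ.add hp hI hx hy
  zero_mem' := QQ.zero hp
  smul_mem' := fun a _ hx => hx.smul a

lemma QQ.mul_left {p : ℕ} {I : Ideal A} {n : ℕ} {t : A} {x : S}
    (hx : QQ p I n t x) (s : A) : QQ p I n (s * t) x := by
  obtain ⟨r, hr⟩ := hx
  refine ⟨s * r, ?_⟩
  have h1 := Ideal.mul_mem_left _ (algebraMap A S s) hr
  convert! h1 using 1
  rw [map_mul, map_mul]; ring

/-- raising to the power `p ^ k`. -/
lemma QQ.pow {p : ℕ} (hp : p.Prime) {I : Ideal A} (hI : (p : A) ∈ I) {n : ℕ} {t : A} {x : S}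
    (hx : QQ p I n t x) (k : ℕ) : QQ p I (n + k) (t ^ p ^ k) x := by
  obtain ⟨r, hr⟩ := hx
  refine ⟨r ^ p ^ k, ?_⟩
  have h1 := add_pow_sub p hp (algebraMap A S t * x ^ p ^ n - algebraMap A S r) (algebraMap A S r) k I hI
  have h2 := pow_mem_map p hp I k _ hr
  rw [sub_add_cancel] at h1
  have h3 := Ideal.add_mem _ h1 h2
  convert! h3 using 1
  rw [mul_pow, ← pow_mul, ← pow_add, map_pow, map_pow]
  ring

lemma QQ.common {p : ℕ} (hp : p.Prime) {I : Ideal A} [hIp : I.IsPrime] (hI : (p : A) ∈ I)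
    (h : ∀ x : S, ∃ (n : ℕ) (t : A), t ∉ I ∧ QQ p I n t x) (F : Finset S) :
    ∃ (n : ℕ) (t : A), t ∉ I ∧ ∀ x ∈ F, QQ p I n t x := by
  classical
  induction F using Finset.induction_on with
  | empty => exact ⟨0, 1, fun h1 => hIp.ne_top (Ideal.eq_top_iff_one _ |>.2 h1), by simp⟩
  | insert a s ha ih =>
    obtain ⟨n, t, ht, hs⟩ := ih
    obtain ⟨m, u, hu, hau⟩ := h a
    refine ⟨n + m, u ^ p ^ n * t ^ p ^ m, ?_, ?_⟩
    · intro hmem
      rcases hIp.mem_or_mem hmem with h1 | h1
      · exact hu (hIp.mem_of_pow_mem _ h1)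
      · exact ht (hIp.mem_of_pow_mem _ h1)
    · intro x hx
      rw [Finset.mem_insert] at hx
      rcases hx with rfl | hx
      · have := (hau.pow hp hI n).mul_left (t ^ p ^ m)
        rwa [mul_comm, add_comm n m]
      · exact ((hs x hx).pow hp hI m).mul_left _

/-- The core algebraic lemma. `S` is a finite `A`-algebra, and for each prime `P` containing `p`,
each element of `S` is, modulo `PS`, up to powers of `p` and elements outside `P`, in the image
of `A`. Then this holds modulo `p`. -/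
theorem core {p : ℕ} (hp : p.Prime) [Module.Finite A S]
    (H : ∀ (P : Ideal A) [P.IsPrime], (p : A) ∈ P → ∀ x : S, ∃ (n : ℕ) (t : A), t ∉ P ∧ QQ p P n t x) :
    ∃ n : ℕ, ∀ x : S, QQ p (Ideal.span {(p : A)}) n 1 x := by
  classical
  -- the statement for all ideals containing p
  suffices key : ∀ I : Ideal A, (p : A) ∈ I → ∃ n : ℕ, ∀ x : S, QQ p I n 1 x from
    key _ (Ideal.mem_span_singleton_self _)
  by_contra hcon
  push Not at hcon
  obtain ⟨I₀, hI₀, hI₀'⟩ := hcon
  obtain ⟨G, hG⟩ := (Module.Finite.fg_top : (⊤ : Submodule A S).FG)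
  -- criterion on generators
  have hgen : ∀ (I : Ideal A) (hI : (p : A) ∈ I) (n : ℕ) (t : A), (∀ x ∈ G, QQ p I n t x) →
      ∀ x : S, QQ p I n t x := by
    intro I hI n t h x
    have : (⊤ : Submodule A S) ≤ QS S hp I hI n t := by
      rw [← hG, Submodule.span_le]
      exact fun x hx => h x hx
    exact this (Submodule.mem_top (x := x))
  -- Zorn
  let 𝓕 : Set (Ideal A) := {I | (p : A) ∈ I ∧ ¬ ∃ n : ℕ, ∀ x : S, QQ p I n 1 x}
  have hI₀mem : I₀ ∈ 𝓕 := ⟨hI₀, by push Not; exact hI₀'⟩
  obtain ⟨P, hI₀P, hPmax⟩ := zorn_le_nonempty₀ 𝓕 (by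
    intro c hc hchain y hy
    refine ⟨sSup c, ⟨(le_sSup hy : y ≤ sSup c) (hc hy).1, ?_⟩, fun z hz => le_sSup hz⟩
    rintro ⟨n, hn⟩
    -- for each generator, there is an ideal in the chain
    have h1 : ∀ x : S, ∃ I ∈ c, QQ p I n 1 x := by
      intro x
      obtain ⟨r, hr⟩ := hn x
      rw [sSup_eq_iSup', Ideal.map_iSup] at hr
      have hdir : Directed (· ≤ ·) (fun I : c => (I : Ideal A).map (algebraMap A S)) := by
        intro a b
        rcases hchain.total a.2 b.2 with h | h
        · exact ⟨b, Ideal.map_mono h, le_rfl⟩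
        · exact ⟨a, le_rfl, Ideal.map_mono h⟩
      have : Nonempty c := ⟨⟨y, hy⟩⟩
      obtain ⟨I, hI⟩ := (Submodule.mem_iSup_of_directed _ hdir).1 hr
      exact ⟨I, I.2, r, hI⟩
    have h2 : ∀ F : Finset S, ∃ I ∈ c, ∀ x ∈ F, QQ p I n 1 x := by
      intro F
      induction F using Finset.induction_on with
      | empty => exact ⟨y, hy, by simp⟩
      | insert a s ha ih =>
        obtain ⟨I, hI, hs⟩ := ih
        obtain ⟨J, hJ, hJa⟩ := h1 a
        rcases hchain.total hI hJ with h | h
        · refine ⟨J, hJ, fun x hx => ?_⟩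
          rw [Finset.mem_insert] at hx
          rcases hx with rfl | hx
          · exact hJa
          · obtain ⟨r, hr⟩ := hs x hx
            exact ⟨r, Ideal.map_mono h hr⟩
        · refine ⟨I, hI, fun x hx => ?_⟩
          rw [Finset.mem_insert] at hx
          rcases hx with rfl | hx
          · obtain ⟨r, hr⟩ := hJa
            exact ⟨r, Ideal.map_mono h hr⟩
          · exact hs x hx
    obtain ⟨I, hI, hIG⟩ := h2 G
    exact (hc hI).2 ⟨n, hgen I (hc hI).1 n 1 hIG⟩) I₀ hI₀mem
  have hPF : P ∈ 𝓕 := hPmax.prop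
  have hmax : ∀ J : Ideal A, P < J → ∃ n : ℕ, ∀ x : S, QQ p J n 1 x := by
    intro J hJ
    by_contra hJ'
    exact hJ.not_ge (hPmax.le_of_ge ⟨hJ.le hPF.1, hJ'⟩ hJ.le)
  have hne : P ≠ ⊤ := by
    rintro rfl
    refine hPF.2 ⟨0, fun x => ⟨0, ?_⟩⟩
    rw [Ideal.map_top]
    exact Submodule.mem_top
  -- membership in (P ⊔ (a)) S
  have hsup : ∀ (a : A) (w : S), w ∈ (P ⊔ Ideal.span {a}).map (algebraMap A S) →
      ∃ s : S, w - algebraMap A S a * s ∈ P.map (algebraMap A S) := by
    intro a w hw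
    rw [Ideal.map_sup, Ideal.map_span, Set.image_singleton] at hw
    obtain ⟨w₁, hw₁, w₂, hw₂, rfl⟩ := Submodule.mem_sup.1 hw
    obtain ⟨s, rfl⟩ := Ideal.mem_span_singleton'.1 hw₂
    refine ⟨s, ?_⟩
    rw [mul_comm s, add_sub_cancel_right]
    exact hw₁
  have hlt : ∀ a : A, a ∉ P → P < P ⊔ Ideal.span {a} := by
    intro a ha
    refine lt_of_le_of_ne le_sup_left fun h => ha ?_
    rw [h]
    exact Ideal.mem_sup_right (Ideal.mem_span_singleton_self a)
  -- key step: if t ∉ P and QQ p P n t x for all x with t outside P, contradiction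
  have hstep : ∀ (n : ℕ) (t : A), t ∉ P → ¬ ∀ x : S, QQ p P n t x := by
    intro n t ht hall
    obtain ⟨m, hm⟩ := hmax _ (hlt t ht)
    refine hPF.2 ⟨m + n, fun y => ?_⟩
    obtain ⟨r, hr⟩ := hm y
    obtain ⟨s, hs⟩ := hsup t _ hr
    rw [map_one, one_mul] at hs
    -- y ^ p^m = r + t s + w
    obtain ⟨r', hr'⟩ := hall s
    refine ⟨r ^ p ^ n + t ^ (p ^ n - 1) * r', ?_⟩
    have e1 : y ^ p ^ m = (y ^ p ^ m - algebraMap A S r - algebraMap A S t * s) + (algebraMap A S r + algebraMap A S t * s) := by ring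
    have h1 := add_pow_sub p hp (y ^ p ^ m - algebraMap A S r - algebraMap A S t * s) (algebraMap A S r + algebraMap A S t * s) n P hPF.1
    rw [← e1] at h1
    have h2 := add_pow_sub p hp (algebraMap A S r) (algebraMap A S t * s) n P hPF.1
    have h3 := pow_mem_map p hp P n _ hs
    have h4 := Ideal.mul_mem_left _ (algebraMap A S (t ^ (p ^ n - 1))) hr'
    have h5 := Ideal.add_mem _ (Ideal.add_mem _ (Ideal.add_mem _ h1 h3) h2) h4
    convert! h5 using 1
    have e2 : t ^ p ^ n = t ^ (p ^ n - 1) * t := by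
      rw [← pow_succ]
      congr 1
      have := pow_pos hp.pos n
      omega
    rw [map_one, one_mul, pow_add, pow_mul, mul_pow, ← map_pow (algebraMap A S) t, e2, map_add, map_mul, map_pow, map_mul]
    ring
  have hprime : P.IsPrime := by
    refine ⟨hne, fun {a b} hab => ?_⟩
    by_contra hcon
    push Not at hcon
    obtain ⟨ha, hb⟩ := hcon
    obtain ⟨m, hm⟩ := hmax _ (hlt b hb)
    -- show QQ p P m a x for all x
    refine hstep m a ha fun x => ?_
    obtain ⟨r, hr⟩ := hm x
    obtain ⟨s, hs⟩ := hsup b _ hr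
    rw [map_one, one_mul] at hs
    refine ⟨a * r, ?_⟩
    have h1 := Ideal.mul_mem_left _ (algebraMap A S a) hs
    have h2 : algebraMap A S (a * b) * s ∈ P.map (algebraMap A S) :=
      Ideal.mul_mem_right _ _ (Ideal.mem_map_of_mem _ hab)
    have h3 := Ideal.add_mem _ h1 h2
    convert! h3 using 1
    rw [map_mul, map_mul]
    ring
  obtain ⟨n, t, ht, hF⟩ := QQ.common hp hPF.1 (H P hPF.1) G
  exact hstep n t ht (hgen P hPF.1 n t hF)

end Alg

section Prim

variable {A B : Type u} [CommRing A] [CommRing B] [Algebra A B]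

lemma exists_pow_at_prime {p : ℕ} (hp : p.Prime)
    (hK : ∀ (K : Type u) [Field K] (g₁ g₂ : B →+* K),
      g₁.comp (algebraMap A B) = g₂.comp (algebraMap A B) → g₁ = g₂)
    (P : Ideal A) [P.IsPrime] (hpP : (p : A) ∈ P) (Q : Ideal B) [Q.IsPrime]
    (hQ : P = Q.comap (algebraMap A B)) (x : B) :
    ∃ (n : ℕ) (t r : A), t ∉ P ∧ algebraMap A B t * x ^ p ^ n - algebraMap A B r ∈ Q := by
  let φ := Ideal.ResidueField.map P Q (algebraMap A B) hQ
  let : Algebra P.ResidueField Q.ResidueField := φ.toAlgebra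
  have hφ : ∀ a : A, algebraMap P.ResidueField Q.ResidueField (algebraMap A _ a) =
      algebraMap B Q.ResidueField (algebraMap A B a) := fun a =>
    Ideal.ResidueField.map_algebraMap P Q (algebraMap A B) hQ a
  have : CharP P.ResidueField p := by
    rw [CharP.charP_iff_prime_eq_zero hp, ← map_natCast (algebraMap A P.ResidueField)]
    exact Ideal.algebraMap_residueField_eq_zero.2 hpP
  have : Fact p.Prime := ⟨hp⟩
  have : ExpChar P.ResidueField p := inferInstance
  have : IsPurelyInseparable P.ResidueField Q.ResidueField := by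
    have : Nonempty (Q.ResidueField →+* AlgebraicClosure Q.ResidueField) := ⟨algebraMap _ _⟩
    refine IsPurelyInseparable.of_injective_comp_algebraMap _ _ (AlgebraicClosure Q.ResidueField) ?_
    intro g₁ g₂ h12
    have h1 : g₁.comp (algebraMap B _) = g₂.comp (algebraMap B _) := by
      refine hK _ _ _ ?_
      ext a
      have := RingHom.congr_fun h12 (algebraMap A _ a)
      simpa [hφ] using this
    refine IsLocalization.ringHom_ext (nonZeroDivisors (B ⧸ Q)) ?_
    refine Ideal.Quotient.ringHom_ext ?_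
    exact h1
  obtain ⟨n, c, hc⟩ := IsPurelyInseparable.pow_mem P.ResidueField p (algebraMap B Q.ResidueField x)
  obtain ⟨r', t', ht', rfl⟩ := IsFractionRing.div_surjective (A := A ⧸ P) c
  obtain ⟨r, rfl⟩ := Ideal.Quotient.mk_surjective r'
  obtain ⟨t, rfl⟩ := Ideal.Quotient.mk_surjective t'
  have ht : t ∉ P := by
    intro h
    rw [Ideal.Quotient.eq_zero_iff_mem.2 h] at ht'
    exact (nonZeroDivisors.ne_zero ht') rfl
  refine ⟨n, t, r, ht, ?_⟩
  rw [← Ideal.algebraMap_residueField_eq_zero, map_sub, map_mul, map_pow, ← hc, ← hφ, ← hφ, ← map_mul,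
    sub_eq_zero]
  congr 1
  have ht2 : algebraMap A P.ResidueField t ≠ 0 := fun h => ht (Ideal.algebraMap_residueField_eq_zero.1 h)
  rw [Ideal.algebraMap_quotient_residueField_mk, Ideal.algebraMap_quotient_residueField_mk,
    mul_div_cancel₀ _ ht2]

lemma loc_lemma (P : Ideal A) [P.IsPrime] (z : B)
    (hz : ∀ (Q : Ideal B) [Q.IsPrime], Q.comap (algebraMap A B) = P → z ∈ Q) :
    ∃ (t : A) (m : ℕ), t ∉ P ∧ algebraMap A B t * z ^ m ∈ P.map (algebraMap A B) := by
  by_contra hcon
  push Not at hcon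
  let M : Submonoid B := (P.primeCompl.map (algebraMap A B)) ⊔ Submonoid.powers z
  have hdisj : Disjoint ((P.map (algebraMap A B) : Ideal B) : Set B) M := by
    rw [Set.disjoint_left]
    intro y hy hyM
    obtain ⟨a, ha, b, hb, rfl⟩ := Submonoid.mem_sup.1 hyM
    obtain ⟨t, ht, rfl⟩ := ha
    obtain ⟨m, rfl⟩ := hb
    exact hcon t m ht hy
  obtain ⟨Q, hQ, hPQ, hQM⟩ := Ideal.exists_le_prime_disjoint _ _ hdisj
  have h1 : Q.comap (algebraMap A B) = P := by
    apply le_antisymm
    · intro a ha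
      by_contra haP
      have : algebraMap A B a ∈ M := Submonoid.mem_sup_left ⟨a, haP, rfl⟩
      exact Set.disjoint_left.1 hQM ha this
    · exact Ideal.map_le_iff_le_comap.1 hPQ
  exact Set.disjoint_left.1 hQM (hz Q h1) (Submonoid.mem_sup_right (Submonoid.mem_powers z))

lemma H_of [Algebra.IsIntegral A B] {p : ℕ} (hp : p.Prime)
    (hinj : ∀ (Q Q' : Ideal B) [Q.IsPrime] [Q'.IsPrime],
      Q.comap (algebraMap A B) = Q'.comap (algebraMap A B) → Q = Q')
    (hK : ∀ (K : Type u) [Field K] (g₁ g₂ : B →+* K),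
      g₁.comp (algebraMap A B) = g₂.comp (algebraMap A B) → g₁ = g₂)
    (S : Subalgebra A B)
    (P : Ideal A) [P.IsPrime] (hpP : (p : A) ∈ P) (x : S) :
    ∃ (n : ℕ) (t : A), t ∉ P ∧ QQ p P n t x := by
  have hPne : (1 : A) ∉ P := fun h => (inferInstance : P.IsPrime).ne_top ((Ideal.eq_top_iff_one _).2 h)
  have h1 : ∃ (n : ℕ) (t r : A), t ∉ P ∧ ∀ (Q : Ideal B) [Q.IsPrime], Q.comap (algebraMap A B) = P →
      algebraMap A B t * (x : B) ^ p ^ n - algebraMap A B r ∈ Q := by
    by_cases hex : ∃ Q : Ideal B, Q.IsPrime ∧ Q.comap (algebraMap A B) = P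
    · obtain ⟨Q, hQ, hQP⟩ := hex
      obtain ⟨n, t, r, ht, h⟩ := exists_pow_at_prime hp hK P hpP Q hQP.symm (x : B)
      refine ⟨n, t, r, ht, fun Q' _ hQ' => ?_⟩
      rw [hinj Q' Q (hQ'.trans hQP.symm)]
      exact h
    · exact ⟨0, 1, 0, hPne, fun Q hQ hQP => (hex ⟨Q, hQ, hQP⟩).elim⟩
  obtain ⟨n, t, r, ht, h⟩ := h1
  have : Algebra.IsIntegral S B := Algebra.IsIntegral.tower_top A
  have h2 : ∀ (Q : Ideal S) [Q.IsPrime], Q.comap (algebraMap A S) = P →
      algebraMap A S t * x ^ p ^ n - algebraMap A S r ∈ Q := by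
    intro Q _ hQP
    obtain ⟨Q', -, hQ', hQ'Q⟩ := Ideal.exists_ideal_over_prime_of_isIntegral Q (⊥ : Ideal B) (by
      rw [← RingHom.ker_eq_comap_bot, (RingHom.injective_iff_ker_eq_bot _).1]
      · exact bot_le
      · exact Subtype.val_injective)
    have h3 : Q'.comap (algebraMap A B) = P := by
      rw [IsScalarTower.algebraMap_eq A S B, ← Ideal.comap_comap, hQ'Q, hQP]
    have h4 := h Q' h3
    rw [← hQ'Q, Ideal.mem_comap]
    exact h4
  obtain ⟨t', m, ht', hm⟩ := loc_lemma P _ h2
  obtain ⟨k, hk⟩ : ∃ k, m ≤ p ^ k := ⟨m, (Nat.lt_pow_self hp.one_lt).le⟩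
  have h5 : algebraMap A S t' * (algebraMap A S t * x ^ p ^ n - algebraMap A S r) ^ p ^ k ∈
      P.map (algebraMap A S) := by
    have := Ideal.mul_mem_right ((algebraMap A S t * x ^ p ^ n - algebraMap A S r) ^ (p ^ k - m)) _ hm
    rwa [mul_assoc, ← pow_add, Nat.add_sub_cancel' hk] at this
  have h6 := add_pow_sub p hp (algebraMap A S t * x ^ p ^ n - algebraMap A S r) (algebraMap A S r) k P hpP
  rw [sub_add_cancel] at h6
  refine ⟨n + k, t' * t ^ p ^ k, ?_, t' * r ^ p ^ k, ?_⟩
  · intro hmem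
    rcases (inferInstance : P.IsPrime).mem_or_mem hmem with h7 | h7
    · exact ht' h7
    · exact ht ((inferInstance : P.IsPrime).mem_of_pow_mem _ h7)
  · have h7 := Ideal.add_mem _ (Ideal.mul_mem_left _ (algebraMap A S t') h6) h5
    convert! h7 using 1
    rw [mul_pow, ← pow_mul, ← pow_add, map_mul, map_mul, map_pow, map_pow]
    ring

end Prim

section Sch

open AlgebraicGeometry CategoryTheory Limits

variable {A B : Type u} [CommRing A] [CommRing B] (φ : A →+* B)

lemma hK_of (huinj : UniversallyInjective (Spec.map (CommRingCat.ofHom φ))) 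
    (K : Type u) [Field K] (g₁ g₂ : B →+* K) (h12 : g₁.comp φ = g₂.comp φ) : g₁ = g₂ := by
  have h2 : ∀ (K : Type u) [Field K], Function.Injective (fun g : Spec (.of K) ⟶ Spec (.of B) ↦ g ≫ Spec.map (CommRingCat.ofHom φ)) :=
    ((tfae_universallyInjective (Spec.map (CommRingCat.ofHom φ))).out 0 1).1 huinj
  have h3 : Spec.map (CommRingCat.ofHom g₁) = Spec.map (CommRingCat.ofHom g₂) := by
    apply h2 K
    show Spec.map (CommRingCat.ofHom g₁) ≫ Spec.map (CommRingCat.ofHom φ) = Spec.map (CommRingCat.ofHom g₂) ≫ Spec.map (CommRingCat.ofHom φ)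
    rw [← Spec.map_comp, ← Spec.map_comp, ← CommRingCat.ofHom_comp, ← CommRingCat.ofHom_comp]
    exact congrArg _ (congrArg _ h12)
  have h4 := Spec.map_injective h3
  exact congrArg CommRingCat.Hom.hom h4

lemma isUnivHomeo_of (hint : φ.IsIntegral) (hker : RingHom.ker φ ≤ nilradical A)
    (hK : ∀ (K : Type u) [Field K] (g₁ g₂ : B →+* K), g₁.comp φ = g₂.comp φ → g₁ = g₂) :
    FlatMor.IsUnivHomeo (Spec.map (CommRingCat.ofHom φ)) := by
  have h1 : IsIntegralHom (Spec.map (CommRingCat.ofHom φ)) := by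
    rw [IsIntegralHom.SpecMap_iff]
    exact hint
  have h2 : UniversallyInjective (Spec.map (CommRingCat.ofHom φ)) := by
    refine ((tfae_universallyInjective (Spec.map (CommRingCat.ofHom φ))).out 0 1).2 ?_
    intro K _ g₁ g₂ h12
    obtain ⟨g₁, rfl⟩ := Spec.map_surjective g₁
    obtain ⟨g₂, rfl⟩ := Spec.map_surjective g₂
    congr 1
    dsimp only at h12
    rw [← Spec.map_comp, ← Spec.map_comp] at h12
    have h3 := Spec.map_injective h12
    have h4 := hK K g₁.hom g₂.hom (congrArg CommRingCat.Hom.hom h3)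
    exact CommRingCat.hom_ext h4
  have h3 : Surjective (Spec.map (CommRingCat.ofHom φ)) := by
    constructor
    show Function.Surjective (PrimeSpectrum.comap φ)
    have h4 : φ.kerLift.IsIntegral := by
      intro x
      obtain ⟨q, hq, hq'⟩ := hint x
      refine ⟨q.map (Ideal.Quotient.mk _), hq.map _, ?_⟩
      rw [Polynomial.eval₂_map]
      exact hq'
    exact (PrimeSpectrum.comap_quotientMk_bijective_of_le_nilradical hker).2.comp <|
      h4.comap_surjective φ.kerLift_injective
  intro X' Y' i₁ i₂ f' H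
  have e1 : UniversallyClosed f' := MorphismProperty.of_isPullback H.flip (inferInstanceAs (UniversallyClosed (Spec.map (CommRingCat.ofHom φ))))
  have e2 : UniversallyInjective f' := MorphismProperty.of_isPullback H.flip h2
  have e3 : Surjective f' := MorphismProperty.of_isPullback H.flip h3
  exact isHomeomorph_iff_continuous_isClosedMap_bijective.2 ⟨f'.continuous, f'.isClosedMap, f'.injective, e3.surj⟩

end Sch

lemma range_pow_lemma {A B : Type u} [CommRing A] [CommRing B] (φ : A →+* B) (p : ℕ)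
    (h : Function.Bijective (Localization.awayMap φ (p : A))) (y : B) : ∃ k : ℕ, (p : B) ^ k * y ∈ φ.range := by
  obtain ⟨c, hc⟩ := h.2 (algebraMap B _ y)
  obtain ⟨⟨a, ⟨_, j, rfl⟩⟩, haj⟩ := IsLocalization.surj (Submonoid.powers (p : A)) c
  have h1 := congrArg (Localization.awayMap φ (p : A)) haj
  rw [map_mul, hc] at h1
  have h2 : ∀ a : A, Localization.awayMap φ (p : A) (algebraMap A _ a) = algebraMap B (Localization.Away (φ p)) (φ a) := by
    intro a
    simp [Localization.awayMap, IsLocalization.Away.map]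
  simp only [h2] at h1
  rw [← map_mul] at h1
  obtain ⟨⟨_, l, rfl⟩, hl⟩ := (IsLocalization.eq_iff_exists (Submonoid.powers (φ (p : A))) _).1 h1
  refine ⟨l + j, p ^ l * a, ?_⟩
  simp only [map_natCast, map_pow, map_mul] at hl ⊢
  rw [← hl]
  ring

open AlgebraicGeometry in
/-- Stacks Tag 0CNF: for a prime number p and a ring map A → B that becomes an isomorphism after inverting p, Spec B → Spec A is a universal homeomorphism if and only if the kernel consists of nilpotents and every element of B has some p-power multiple and p-power power in the image. -/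
theorem result {A B : Type u} [CommRing A] [CommRing B] (φ : A →+* B) (p : ℕ) (hp : p.Prime)
    (h : Function.Bijective (Localization.awayMap φ (p : A))) :
    FlatMor.IsUnivHomeo (Spec.map (CommRingCat.ofHom φ)) ↔
      (∀ a ∈ RingHom.ker φ, IsNilpotent a) ∧ ∀ b : B, ∃ n : ℕ, (p ^ n : B) * b ∈ φ.range ∧ b ^ (p ^ n) ∈ φ.range := by
  classical
  constructor
  · intro hU
    have hf : IsHomeomorph (Spec.map (CommRingCat.ofHom φ)).base := hU _ _ _ .of_id_snd
    have huinj : UniversallyInjective (Spec.map (CommRingCat.ofHom φ)) := by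
      constructor
      intro X' Y' i₁ i₂ f' H
      exact (hU i₁ i₂ f' H).injective
    have hucl : UniversallyClosed (Spec.map (CommRingCat.ofHom φ)) := by
      constructor
      intro X' Y' i₁ i₂ f' H
      exact (hU i₁ i₂ f' H).isClosedMap
    have hint : IsIntegralHom (Spec.map (CommRingCat.ofHom φ)) :=
      IsIntegralHom.iff_universallyClosed_and_isAffineHom.2 ⟨hucl, inferInstance⟩
    rw [IsIntegralHom.SpecMap_iff] at hint
    let _ : Algebra A B := φ.toAlgebra
    have : Algebra.IsIntegral A B := ⟨hint⟩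
    have hK : ∀ (K : Type u) [Field K] (g₁ g₂ : B →+* K),
      g₁.comp (algebraMap A B) = g₂.comp (algebraMap A B) → g₁ = g₂ :=
      fun K _ g₁ g₂ h12 => hK_of φ huinj K g₁ g₂ h12
    have hcomap : Function.Bijective (PrimeSpectrum.comap φ) := hf.bijective
    constructor
    · intro a ha
      rw [← mem_nilradical, nilradical_eq_sInf, Ideal.mem_sInf]
      intro P hP
      obtain ⟨Q, hQ⟩ := hcomap.2 ⟨P, hP⟩
      have : P = Q.asIdeal.comap φ := by
        have := congrArg PrimeSpectrum.asIdeal hQ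
        exact this.symm
      rw [this, Ideal.mem_comap, RingHom.mem_ker.1 ha]
      exact Q.asIdeal.zero_mem
    · intro b
      have hinj : ∀ (Q Q' : Ideal B) [Q.IsPrime] [Q'.IsPrime],
          Q.comap (algebraMap A B) = Q'.comap (algebraMap A B) → Q = Q' := by
        intro Q Q' hQ hQ' hQQ'
        have := @hcomap.1 ⟨Q, hQ⟩ ⟨Q', hQ'⟩ (PrimeSpectrum.ext hQQ')
        exact congrArg PrimeSpectrum.asIdeal this
      let S := Algebra.adjoin A {b}
      have hfin : Module.Finite A S := 
        Module.Finite.iff_fg.2 (IsIntegral.fg_adjoin_singleton (Algebra.IsIntegral.isIntegral b))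
      obtain ⟨n, hn⟩ := core (S := S) hp fun P _ hpP x => H_of hp hinj hK S P hpP x
      -- bounded p-torsion
      have hk : ∃ k : ℕ, ∀ y : S, (p : B) ^ k * (y : B) ∈ φ.range := by
        obtain ⟨G, hG⟩ := (Module.Finite.fg_top : (⊤ : Submodule A S).FG)
        choose k hk using fun y : B => range_pow_lemma φ p h y
        refine ⟨∑ g ∈ G, k g, ?_⟩
        let N : Submodule A S := 
          { carrier := {y | (p : B) ^ (∑ g ∈ G, k g) * (y : B) ∈ φ.range}
            add_mem' := fun {x y} hx hy => by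
              simp only [Set.mem_ofPred_eq, Subalgebra.coe_add, mul_add] at *
              exact add_mem hx hy
            zero_mem' := ⟨0, by simp⟩
            smul_mem' := fun a x hx => by
              simp only [Set.mem_ofPred_eq] at *
              obtain ⟨c, hc⟩ := hx
              refine ⟨a * c, ?_⟩
              rw [map_mul, hc]
              show φ a * _ = _ * (φ a * (x : B))
              ring }
        have : (⊤ : Submodule A S) ≤ N := by
          rw [← hG, Submodule.span_le]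
          intro g hg
          obtain ⟨c, hc⟩ := hk g
          refine ⟨p ^ (∑ g ∈ G.erase g, k g) * c, ?_⟩
          rw [map_mul, hc, ← Finset.sum_erase_add G _ hg, pow_add, map_pow, map_natCast]
          ring
        intro y
        exact this (Submodule.mem_top (x := y))
      obtain ⟨k, hk⟩ := hk
      obtain ⟨r, hr⟩ := hn ⟨b, Algebra.subset_adjoin (Set.mem_singleton b)⟩
      rw [Ideal.map_span, Set.image_singleton, Ideal.mem_span_singleton, map_one, one_mul, map_natCast] at hr
      have h3 := dvd_sub_pow_of_dvd_sub hr k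
      obtain ⟨s, hs⟩ := h3
      have h4 : b ^ p ^ (n + k) ∈ φ.range := by
        obtain ⟨c, hc⟩ := hk (p * s)
        refine ⟨c + r ^ p ^ k, ?_⟩
        have h5 := congrArg (fun z : S => (z : B)) hs
        simp only [Subalgebra.coe_sub, Subalgebra.coe_pow, Subalgebra.coe_mul] at h5
        have h6 : ((algebraMap A S r : S) : B) = φ r := rfl
        rw [h6, ← pow_mul, ← pow_add] at h5
        rw [map_add, hc, map_pow, ← eq_sub_iff_add_eq, h5]
        have h7 : ((p : S) : B) = (p : B) := rfl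
        rw [Subalgebra.coe_mul, h7]
        ring
      obtain ⟨l, hl⟩ := range_pow_lemma φ p h b
      refine ⟨n + k + l, ?_, ?_⟩
      · obtain ⟨c, hc⟩ := hl
        refine ⟨p ^ (n + k) * c, ?_⟩
        rw [map_mul, hc, map_pow, map_natCast]
        ring
      · obtain ⟨c, hc⟩ := h4
        refine ⟨c ^ p ^ l, ?_⟩
        rw [map_pow, hc, ← pow_mul, ← pow_add]
  · rintro ⟨hker, hB⟩
    refine isUnivHomeo_of φ ?_ (fun a ha => hker a ha) ?_
    · intro b
      obtain ⟨n, -, c, hc⟩ := hB b
      let _ := φ.toAlgebra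
      exact IsIntegral.of_pow (pow_pos hp.pos n) (hc ▸ φ.isIntegralElem_map (x := c))
    · intro K _ g₁ g₂ h12
      ext b
      obtain ⟨n, ⟨c, hc⟩, ⟨d, hd⟩⟩ := hB b
      have e1 : g₁ (p ^ n * b) = g₂ (p ^ n * b) := by
        rw [← hc]; exact RingHom.congr_fun h12 c
      have e2 : g₁ (b ^ p ^ n) = g₂ (b ^ p ^ n) := by
        rw [← hd]; exact RingHom.congr_fun h12 d
      by_cases hpK : (p : K) = 0
      · have : CharP K p := (CharP.charP_iff_prime_eq_zero hp).2 hpK
        have : Fact p.Prime := ⟨hp⟩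
        rw [map_pow, map_pow] at e2
        exact (iterateFrobenius_inj K p n) (by simpa [iterateFrobenius_def] using e2)
      · rw [map_mul, map_mul, map_pow, map_pow, map_natCast, map_natCast] at e1
        exact mul_left_cancel₀ (pow_ne_zero n hpK) e1

end Groth.Agent.S0418
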