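import Groth.Statements.S0422
-- import your own Groth.Agent.* helpers here
import Groth.Agent.FlatB.FibreCritNil

set_option autoImplicit false
universe u
open FlatMor

namespace Groth.Agent.S0422

open TensorProduct in
/-- Stacks Tag 0CEL: fibrewise criterion of flatness modulo a locally nilpotent ideal: for R → S of finite type, R → S' of finite presentation over S, a finitely presented S'-module M flat over R with M/IM flat over S/IS for a locally nilpotent ideal I of R, M is flat over S (the source also gives flatness of suitable localizations of S over R; not stated). -/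
theorem result {R S S' M : Type u} [CommRing R] [CommRing S] [CommRing S'] [Algebra R S] [Algebra S S'] [Algebra R S'] [IsScalarTower R S S']
    [Algebra.FiniteType R S] [Algebra.FinitePresentation R S'] (I : Ideal R) (hI : ∀ a ∈ I, IsNilpotent a)
    [AddCommGroup M] [Module S' M] [Module S M] [Module R M] [IsScalarTower S S' M] [IsScalarTower R S M]
    [Module.FinitePresentation S' M] [Module.Flat R M]
    (h : Module.Flat (S ⧸ I.map (algebraMap R S)) ((S ⧸ I.map (algebraMap R S)) ⊗[S] M)) : Module.Flat S M := by
  have : IsScalarTower R S' M := ⟨fun r s m => by
    rw [← algebraMap_smul S r s, smul_assoc, algebraMap_smul]⟩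
  refine Module.flat_of_isLocalized_maximal (R := S) S' M (fun P _ => Localization.AtPrime P ⊗[S'] M)
    (fun P _ => TensorProduct.mk S' (Localization.AtPrime P) M 1) fun P _ => ?_
  refine FlatB.FibreCritNil.flat_localization (R := R) P (FlatB.FibreCritNil.flat_quot_of_le _ _ ?_ h)
  refine Ideal.map_mono fun a ha => ?_
  exact (Ideal.IsPrime.under R P).mem_of_pow_mem _ ((hI a ha).choose_spec ▸ Ideal.zero_mem _)

end Groth.Agent.S0422
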