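import Groth.Statements.S0423
import Mathlib.RingTheory.Ideal.Pure

set_option autoImplicit false
universe u
open FlatMor

namespace Groth.Agent.S0423

open AlgebraicGeometry CategoryTheory Limits

/-- If the multiplication `S ⊗[R] S → S` is flat then `S` is formally unramified over `R`. -/
theorem formallyUnramified_of_flat_lmul {R S : Type u} [CommRing R] [CommRing S] [Algebra R S]
    (h : (Algebra.TensorProduct.lmul' R (S := S)).toRingHom.Flat) :
    Algebra.FormallyUnramified R S := by
  have hsurj : Function.Surjective (Algebra.TensorProduct.lmul' R (S := S)).toRingHom :=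
    fun x ↦ ⟨x ⊗ₜ 1, by simp⟩
  have hpure : (RingHom.ker (Algebra.TensorProduct.lmul' R (S := S)).toRingHom).Pure := by
    algebraize [(Algebra.TensorProduct.lmul' R (S := S)).toRingHom]
    let e := RingHom.quotientKerEquivOfSurjective hsurj
    let e' : (TensorProduct R S S ⧸ RingHom.ker (Algebra.TensorProduct.lmul' R (S := S)).toRingHom)
        ≃ₗ[TensorProduct R S S] S :=
      { e with
        map_smul' := by
          intro a b
          obtain ⟨b, rfl⟩ := Ideal.Quotient.mk_surjective b
          simp only [RingHom.id_apply]
          rw [Algebra.smul_def]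
          change e (Ideal.Quotient.mk _ a * Ideal.Quotient.mk _ b) = _
          rw [map_mul]
          rfl }
    exact Module.Flat.of_linearEquiv e'
  have hidem := Ideal.isIdempotentElem_of_pure
    (RingHom.ker (Algebra.TensorProduct.lmul' R (S := S)).toRingHom)
  constructor
  exact (Ideal.cotangent_subsingleton_iff _).mpr hidem

end Groth.Agent.S0423

namespace Groth.Agent.S0423

open AlgebraicGeometry CategoryTheory Limits in
/-- Stacks Tag 094W: a weakly étale morphism of schemes (flat with flat diagonal) is formally unramified. -/
theorem result {X Y : Scheme.{u}} (f : X ⟶ Y) [WeaklyEtale f] : FormallyUnramified f := by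
  wlog hY : ∃ R, Y = Spec R
  · rw [IsZariskiLocalAtTarget.iff_of_openCover (P := @FormallyUnramified) Y.affineCover]
    intro i
    exact this (pullback.snd _ _) ⟨_, rfl⟩
  obtain ⟨R, rfl⟩ := hY
  wlog hX : ∃ S, X = Spec S generalizing X
  · rw [IsZariskiLocalAtSource.iff_of_openCover (P := @FormallyUnramified) X.affineCover]
    intro i
    exact this (_ ≫ _) ⟨_, rfl⟩
  obtain ⟨S, rfl⟩ := hX
  obtain ⟨φ, rfl : Spec.map φ = f⟩ := Spec.homEquiv.symm.surjective f
  rw [HasRingHomProperty.Spec_iff (P := @FormallyUnramified)]
  algebraize [φ.hom]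
  let F := (Algebra.TensorProduct.lmul' R (S := S)).toRingHom
  have h1 : Flat (pullback.diagonal (Spec.map φ)) := inferInstance
  have h2 : Flat (Spec.map (CommRingCat.ofHom F)) := by
    rwa [← MorphismProperty.cancel_right_of_respectsIso (P := @Flat) _
      (pullbackSpecIso R S S).inv, ← AlgebraicGeometry.diagonal_SpecMap R S]
  have h3 : F.Flat := by
    rwa [HasRingHomProperty.Spec_iff (P := @Flat)] at h2
  exact formallyUnramified_of_flat_lmul h3

end Groth.Agent.S0423
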