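import Groth.Statements.S0425
import Mathlib.AlgebraicGeometry.Morphisms.FlatMono
import Mathlib.AlgebraicGeometry.Morphisms.UniversallyInjective

set_option autoImplicit false
universe u
open FlatMor

namespace Groth.Agent.S0425

open AlgebraicGeometry CategoryTheory Limits in
/-- Stacks Tag 0F6V: a weakly étale universal homeomorphism is an isomorphism. -/
theorem result {X Y : Scheme.{u}} (f : X ⟶ Y) [WeaklyEtale f] (h : FlatMor.IsUnivHomeo f) : IsIso f := by
  have hf : IsHomeomorph f.base := h _ _ _ .of_id_snd
  have hinj : UniversallyInjective f := by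
    constructor
    intro X' Y' i₁ i₂ f' H
    exact (h i₁ i₂ f' H).injective
  have hqc : QuasiCompact f := ⟨fun U hU hc ↦ hf.homeomorph.isCompact_preimage.mpr hc⟩
  have hsurj : Surjective f := ⟨hf.surjective⟩
  have hdsurj : Surjective (pullback.diagonal f) := (UniversallyInjective.iff_diagonal f).mp hinj
  have hdemb : Topology.IsEmbedding (pullback.diagonal f).base :=
    (pullback.diagonal f).isEmbedding
  have hdhomeo : IsHomeomorph (pullback.diagonal f).base :=
    (isHomeomorph_iff_isEmbedding_surjective).mpr ⟨hdemb, hdsurj.surj⟩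
  have hdqc : QuasiCompact (pullback.diagonal f) :=
    ⟨fun U hU hc ↦ hdhomeo.homeomorph.isCompact_preimage.mpr hc⟩
  have hdiso : IsIso (pullback.diagonal f) := Flat.isIso_of_surjective_of_mono _
  have hmono : Mono f := (pullback.isIso_diagonal_iff f).mp hdiso
  exact Flat.isIso_of_surjective_of_mono f

end Groth.Agent.S0425
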