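import Groth.Statements.S1290
-- import your own Groth.Agent.* helpers here
import Groth.Agent.S1237

set_option autoImplicit false
universe u
open FlatMor

namespace Groth.Agent.S1290

/-- Localizing at a prime of a quotient ring is the same as localizing at its preimage. -/
theorem flatAt_comap_iff {R P S : Type u} [CommRing R] [CommRing P] [CommRing S] [Algebra R P]
    [Algebra R S] [Algebra P S] [IsScalarTower R P S] (hs : Function.Surjective (algebraMap P S))
    (N : Type u) [AddCommGroup N] [Module S N] [Module P N] [Module R N] [IsScalarTower P S N]
    [IsScalarTower R S N] [IsScalarTower R P N] (q : Ideal S) [q.IsPrime] :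
    FlatCA.FlatAt R (q.comap (algebraMap P S)) N ↔ FlatCA.FlatAt R q N := by
  have hsub : Algebra.algebraMapSubmonoid S (q.comap (algebraMap P S)).primeCompl = q.primeCompl := by
    ext x
    constructor
    · rintro ⟨y, hy, rfl⟩
      exact hy
    · intro hx
      obtain ⟨y, rfl⟩ := hs x
      exact ⟨y, hx, rfl⟩
  have hloc : IsLocalizedModule (q.comap (algebraMap P S)).primeCompl
      ((LocalizedModule.mkLinearMap q.primeCompl N).restrictScalars P) := by
    rw [← IsLocalizedModule.restrictScalars_iff]
    rw [hsub]
    infer_instance
  let e := IsLocalizedModule.iso (q.comap (algebraMap P S)).primeCompl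
      ((LocalizedModule.mkLinearMap q.primeCompl N).restrictScalars P)
  let e' : LocalizedModule (q.comap (algebraMap P S)).primeCompl N ≃ₗ[R]
    LocalizedModule q.primeCompl N := e.restrictScalars R
  exact Module.Flat.equiv_iff e'

/-- Relative finite presentation from finite presentation over a localization of a finitely
presented algebra surjecting onto the given one. -/
theorem relFP_of_surjective {R P S : Type u} [CommRing R] [CommRing P] [CommRing S] [Algebra R P]
    [Algebra R S] [Algebra P S] [IsScalarTower R P S] [Algebra.FinitePresentation R P]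
    (hs : Function.Surjective (algebraMap P S))
    (N : Type u) [AddCommGroup N] [Module S N] [Module P N] [IsScalarTower P S N] (g₀ : P)
    (hfp : Module.FinitePresentation (Localization.Away g₀)
      (LocalizedModule (Submonoid.powers g₀) N)) :
    FlatCA.RelFinitePresentation R (Localization.Away (algebraMap P S g₀))
      (LocalizedModule (Submonoid.powers (algebraMap P S g₀)) N) := by
  have : Algebra.FinitePresentation R (Localization.Away g₀) :=
    Algebra.FinitePresentation.trans R P (Localization.Away g₀)
  obtain ⟨n, ψ₀, hψ₀, hker⟩ := Algebra.FinitePresentation.out (R := R) (A := Localization.Away g₀)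
  let χ₀ : Localization.Away g₀ →+* Localization.Away (algebraMap P S g₀) :=
    Localization.awayMap (algebraMap P S) g₀
  have hχP : ∀ x : P, χ₀ (algebraMap P _ x) = algebraMap S _ (algebraMap P S x) := fun x =>
    IsLocalization.map_eq _ x
  let χ : Localization.Away g₀ →ₐ[R] Localization.Away (algebraMap P S g₀) :=
    { χ₀ with
      commutes' := fun r => by
        change χ₀ (algebraMap R (Localization.Away g₀) r) = _
        rw [IsScalarTower.algebraMap_apply R P (Localization.Away g₀), hχP,
          ← IsScalarTower.algebraMap_apply R P S, ← IsScalarTower.algebraMap_apply R S] }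
  have hχ : Function.Surjective χ :=
    Localization.awayMap_surjective_iff.mpr fun a => by
      obtain ⟨b, rfl⟩ := hs a
      exact ⟨b, 0, by simp⟩
  let ψ : MvPolynomial (Fin n) R →ₐ[R] Localization.Away (algebraMap P S g₀) := χ.comp ψ₀
  refine ⟨n, ψ, hχ.comp hψ₀, ?_⟩
  letI : Algebra (MvPolynomial (Fin n) R) (Localization.Away g₀) := ψ₀.toRingHom.toAlgebra
  letI : Module (Localization.Away g₀) (LocalizedModule (Submonoid.powers (algebraMap P S g₀)) N) :=
    Module.compHom _ χ.toRingHom
  letI : Module (MvPolynomial (Fin n) R)
    (LocalizedModule (Submonoid.powers (algebraMap P S g₀)) N) := Module.compHom _ ψ.toRingHom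
  have t1 : IsScalarTower P (Localization.Away g₀)
      (LocalizedModule (Submonoid.powers (algebraMap P S g₀)) N) := by
    refine IsScalarTower.of_algebraMap_smul fun r x => ?_
    have h1 : (algebraMap P (Localization.Away g₀) r) • x =
      (χ₀ (algebraMap P (Localization.Away g₀) r)) • x := rfl
    rw [h1, hχP, algebraMap_smul, algebraMap_smul]
  have t2 : IsScalarTower (MvPolynomial (Fin n) R) (Localization.Away g₀)
      (LocalizedModule (Submonoid.powers (algebraMap P S g₀)) N) := by
    exact IsScalarTower.of_algebraMap_smul fun r x => rfl
  have hl := IsLocalizedModule.restrictScalars_powers g₀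
        (LocalizedModule.mkLinearMap (Submonoid.powers (algebraMap P S g₀)) N)
  let e := IsLocalizedModule.iso (Submonoid.powers g₀)
        ((LocalizedModule.mkLinearMap (Submonoid.powers
          (algebraMap P S g₀)) N).restrictScalars P)
  let e' := e.extendScalarsOfIsLocalization (Submonoid.powers g₀) (Localization.Away g₀)
  have f1 : Module.FinitePresentation (Localization.Away g₀)
      (LocalizedModule (Submonoid.powers (algebraMap P S g₀)) N) :=
    Module.FinitePresentation.of_equiv e'
  have f2 : Module.FinitePresentation (MvPolynomial (Fin n) R) (Localization.Away g₀) :=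
    Module.finitePresentation_of_surjective
      (Algebra.linearMap (MvPolynomial (Fin n) R) (Localization.Away g₀)) hψ₀ hker
  exact Module.FinitePresentation.trans (MvPolynomial (Fin n) R) _ (Localization.Away g₀)

/-- Stacks Tag 05IQ (ring form, X = Spec S, S = Spec R affine): let R be a ring with finitely many weakly associated primes, S a finite type R-algebra and N a finite S-module. Then the set U of primes q of S with N_q flat over R is open in Spec S, and every q in U has a basic open neighbourhood D(g) on which N is flat over R and finitely presented relative to R (finitely presented over a polynomial ring over R surjecting onto S_g). -/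
theorem result {R S : Type u} [CommRing R] [CommRing S] [Algebra R S] [Algebra.FiniteType R S]
    (hR : (FlatCA.weakAss R R).Finite)
    (N : Type u) [AddCommGroup N] [Module S N] [Module R N] [IsScalarTower R S N] [Module.Finite S N] :
    IsOpen {q : PrimeSpectrum S | FlatCA.FlatAt R q.asIdeal N} ∧
    ∀ (q : Ideal S) [q.IsPrime], FlatCA.FlatAt R q N → ∃ g : S, g ∉ q ∧
      Module.Flat R (LocalizedModule (Submonoid.powers g) N) ∧
      FlatCA.RelFinitePresentation R (Localization.Away g) (LocalizedModule (Submonoid.powers g) N) := by
  obtain ⟨n, φ, hφ⟩ := Algebra.FiniteType.iff_quotient_mvPolynomial''.mp ‹Algebra.FiniteType R S›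
  letI : Algebra (MvPolynomial (Fin n) R) S := φ.toRingHom.toAlgebra
  haveI : IsScalarTower R (MvPolynomial (Fin n) R) S :=
    IsScalarTower.of_algebraMap_eq fun r => (φ.commutes r).symm
  letI : Module (MvPolynomial (Fin n) R) N := Module.compHom N φ.toRingHom
  haveI : IsScalarTower (MvPolynomial (Fin n) R) S N := ⟨fun x y z => by
    rw [Algebra.smul_def, mul_smul]; rfl⟩
  haveI : IsScalarTower R (MvPolynomial (Fin n) R) N := ⟨fun x y z => by
    have h1 : (y • z : N) = (algebraMap (MvPolynomial (Fin n) R) S y) • z := rfl
    have h2 : ((x • y) • z : N) = (algebraMap (MvPolynomial (Fin n) R) S (x • y)) • z := rfl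
    rw [h1, h2, Algebra.smul_def, map_mul, ← IsScalarTower.algebraMap_apply, mul_smul,
      algebraMap_smul]⟩
  have hs : Function.Surjective (algebraMap (MvPolynomial (Fin n) R) S) := hφ
  haveI : Module.Finite (MvPolynomial (Fin n) R) S :=
    Module.Finite.of_surjective (Algebra.linearMap (MvPolynomial (Fin n) R) S) hs
  haveI : Module.Finite (MvPolynomial (Fin n) R) N := Module.Finite.trans S N
  obtain ⟨hopen, hloc⟩ := Groth.Agent.S1237.result (R := R) (S := MvPolynomial (Fin n) R) hR N
  constructor
  · have hcont := (PrimeSpectrum.continuous_comap (algebraMap (MvPolynomial (Fin n) R) S))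
    have := hopen.preimage hcont
    convert this using 1
    ext q
    exact (flatAt_comap_iff hs N q.asIdeal).symm
  · intro q hq hfl
    obtain ⟨g₀, hg₀, hfp, hflat⟩ := hloc (q.comap (algebraMap (MvPolynomial (Fin n) R) S))
      ((flatAt_comap_iff hs N q).mpr hfl)
    refine ⟨algebraMap _ S g₀, hg₀, ?_, ?_⟩
    · haveI hl := IsLocalizedModule.restrictScalars_powers g₀
        (LocalizedModule.mkLinearMap (Submonoid.powers (algebraMap (MvPolynomial (Fin n) R) S g₀)) N)
      let e := IsLocalizedModule.iso (Submonoid.powers g₀)
        ((LocalizedModule.mkLinearMap (Submonoid.powers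
          (algebraMap (MvPolynomial (Fin n) R) S g₀)) N).restrictScalars (MvPolynomial (Fin n) R))
      exact (Module.Flat.equiv_iff (e.restrictScalars R)).mp hflat
    · exact relFP_of_surjective hs N g₀ hfp

end Groth.Agent.S1290
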