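import Groth.Statements.S0428
import Groth.Agent.S1290

set_option autoImplicit false
universe u
open FlatMor

namespace Groth.Agent.S0428

theorem weakAss_finite (R : Type u) [CommRing R] [IsDomain R] : (FlatCA.weakAss R R).Finite := by
  refine (Set.finite_singleton (⊥ : Ideal R)).subset ?_
  rintro p ⟨m, hm⟩
  by_cases h : m = 0
  · subst h
    have : (Submodule.span R {(0 : R)}).annihilator = ⊤ := by simp [Submodule.annihilator_bot]
    rw [this] at hm
    exact absurd (top_le_iff.mp hm.1.2) hm.1.1.ne_top
  · have : (Submodule.span R {m}).annihilator = ⊥ := by
      rw [eq_bot_iff]
      intro a ha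
      rw [Submodule.mem_annihilator_span_singleton] at ha
      simpa [h] using ha
    rw [this] at hm
    have h2 := hm.2 (y := ⊥) ⟨Ideal.isPrime_bot, le_rfl⟩ bot_le
    exact le_bot_iff.mp h2

/-- Stacks Tag 05IR: over a domain R, for a finite type R-algebra S and a finite S-module M, the primes of S at which the localization of M is flat over R form an open subset (the source assumes only finitely many weakly associated primes of R, and also describes the module over principal opens inside this set; neither refinement is stated). -/
theorem result {R S M : Type u} [CommRing R] [IsDomain R] [CommRing S] [Algebra R S] [Algebra.FiniteType R S]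
    [AddCommGroup M] [Module S M] [Module R M] [IsScalarTower R S M] [Module.Finite S M] :
    IsOpen {q : PrimeSpectrum S | Module.Flat R (LocalizedModule q.asIdeal.primeCompl M)} :=
  (Groth.Agent.S1290.result (R := R) (S := S) (weakAss_finite R) M).1

end Groth.Agent.S0428
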