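import Groth.Statements.S0429
import Groth.Agent.S0406

set_option autoImplicit false
universe u
open FlatMor

namespace Groth.Agent.S0429

open AlgebraicGeometry CategoryTheory Limits in
/-- Stacks Tag 05IN: a flat morphism locally of finite type to an integral scheme is locally of finite presentation. -/
theorem result {X S : Scheme.{u}} (f : X ⟶ S) [IsIntegral S] [Flat f] [LocallyOfFiniteType f] : LocallyOfFinitePresentation f := by
  rw [HasRingHomProperty.iff_appLE (P := @LocallyOfFinitePresentation)]
  rintro ⟨W, hW⟩ ⟨V, hV⟩ e
  dsimp only at e ⊢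
  have hft : (f.appLE W V e).hom.FiniteType := f.finiteType_appLE hW hV e
  have hfl : (f.appLE W V e).hom.Flat := f.flat_appLE hW hV e
  by_cases hne : Nonempty W
  · have : IsDomain Γ(S, W) := inferInstance
    algebraize [(f.appLE W V e).hom]
    exact Groth.Agent.S0406.result
  · have h1 : W = ⊥ := by
      ext x
      simp only [TopologicalSpace.Opens.coe_bot, Set.mem_empty_iff_false, iff_false]
      exact fun hx => hne ⟨⟨x, hx⟩⟩
    subst h1
    have h2 : V = ⊥ := le_bot_iff.mp e
    subst h2
    have : Subsingleton Γ(X, ⊥) := inferInstance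
    have : Subsingleton Γ(S, ⊥) := inferInstance
    refine RingHom.FinitePresentation.of_bijective ⟨fun a b _ => Subsingleton.elim _ _, fun b => ⟨0, Subsingleton.elim _ _⟩⟩

end Groth.Agent.S0429
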