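import Groth.Statements.S0431
import Groth.Agent.FlatB.PushMain
import Groth.Agent.S0440

set_option autoImplicit false
universe u
open FlatMor

namespace Groth.Agent.S0431

open AlgebraicGeometry CategoryTheory Limits in
/-- Stacks Tag 07RT: for a thickening X → X' (a surjective closed immersion) and an affine morphism X → Y, the pushout Y' of X' and Y along X exists in schemes, Y → Y' is again a thickening and X is the fibre product of Y and X' over Y' (the source's description of the structure sheaf of the pushout as a fibre product of sheaves is not restated). -/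
theorem result {X X' Y : Scheme.{u}} (t : X ⟶ X') [IsClosedImmersion t] (ht : Function.Surjective t) (f : X ⟶ Y) [IsAffineHom f] :
    ∃ (Y' : Scheme.{u}) (f' : X' ⟶ Y') (b : Y ⟶ Y'), IsPushout t f f' b ∧ IsPullback t f f' b ∧
      IsClosedImmersion b ∧ Function.Surjective b := by
  obtain ⟨W, a, b, h1, h2, h3, -, -, -, h4⟩ := FlatB.PushMain.exists_pushout' t f (fun y => by
    obtain ⟨V, hV, hyV, -⟩ := exists_isAffineOpen_mem_and_subset (U := ⊤) (x := y) trivial
    let e : X ≃ₜ X' := t.isClosedEmbedding.toHomeomorph.trans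
      ((Homeomorph.setCongr ht.range_eq).trans (Homeomorph.Set.univ _))
    have he : ∀ x, e x = t x := fun x => rfl
    let U : X'.Opens := ⟨e.symm ⁻¹' (f ⁻¹ᵁ V : Set X), (f ⁻¹ᵁ V).isOpen.preimage e.symm.continuous⟩
    have hU : t ⁻¹ᵁ U = f ⁻¹ᵁ V := by
      ext x
      change e.symm (t x) ∈ (f ⁻¹ᵁ V : Set X) ↔ _
      rw [← he, e.symm_apply_apply]
    refine ⟨U, V, ?_, hV, hyV, hU⟩
    have : IsAffine (t ⁻¹ᵁ U).toScheme := by rw [hU]; exact hV.preimage f
    apply Groth.Agent.S0440.result (t ∣_ U)
    have : Surjective t := ⟨ht⟩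
    exact (IsZariskiLocalAtTarget.restrict (P := @Surjective) this U).surj)
  exact ⟨W, a, b, h1, h2, h3, h4 ht⟩

end Groth.Agent.S0431
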