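import Groth.Statements.S0432
import Groth.Agent.FlatB.PushMain
import Groth.Agent.S1442

set_option autoImplicit false
universe u
open FlatMor

namespace Groth.Agent.S0432

open AlgebraicGeometry CategoryTheory Limits in
/-- Stacks Tag 0B7M: the pushout of two closed immersions Z → X and Z → Y exists in schemes, both maps into it are closed immersions and the square is cartesian. -/
theorem result {X Y Z : Scheme.{u}} (i : Z ⟶ X) (j : Z ⟶ Y) [IsClosedImmersion i] [IsClosedImmersion j] :
    ∃ (P : Scheme.{u}) (a : X ⟶ P) (b : Y ⟶ P), IsPushout i j a b ∧ IsPullback i j a b ∧ IsClosedImmersion a ∧ IsClosedImmersion b := by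
  have haff : ∀ y : Y, ∃ U : X.Opens, IsAffineOpen U ∧ j ⁻¹' {y} ⊆ (i ⁻¹ᵁ U : Set ↑Z) := by
    intro y
    by_cases hy : ∃ z, j z = y
    · obtain ⟨z, rfl⟩ := hy
      obtain ⟨U, hU, hxU, -⟩ := exists_isAffineOpen_mem_and_subset (U := ⊤) (x := i z) trivial
      refine ⟨U, hU, ?_⟩
      intro z' hz'
      have : z' = z := j.isClosedEmbedding.injective hz'
      rw [this]
      exact hxU
    · exact ⟨⊥, isAffineOpen_bot X, fun z hz => (hy ⟨z, hz⟩).elim⟩
  obtain ⟨W, a, b, h1, h2, h3, -, -, h4, -⟩ := FlatB.PushMain.exists_pushout' i j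
    (fun y => Groth.Agent.S1442.result i j haff y)
  exact ⟨W, a, b, h1, h2, h4 inferInstance, h3⟩

end Groth.Agent.S0432
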