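import Groth.Statements.S0433
import Groth.Agent.FlatB.PushSpec

set_option autoImplicit false
universe u
open FlatMor

namespace Groth.Agent.S0433

open AlgebraicGeometry CategoryTheory Limits Groth.Agent.FlatB.PushRing in
theorem isPullback_eqL {A A' B : Type u} [CommRing A] [CommRing A'] [CommRing B] (p : A' →+* A)
    (q : B →+* A) : IsPullback (CommRingCat.ofHom (eqL.snd p q)) (CommRingCat.ofHom (eqL.fst p q))
      (CommRingCat.ofHom q) (CommRingCat.ofHom p) := by
  refine ⟨⟨?_⟩, ⟨PullbackCone.IsLimit.mk _ (fun s => CommRingCat.ofHom (eqL.lift s.snd.hom s.fst.hom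
    ?_)) ?_ ?_ ?_⟩⟩
  · rw [← CommRingCat.ofHom_comp, ← CommRingCat.ofHom_comp, eqL.comm]
  · exact congrArg CommRingCat.Hom.hom s.condition.symm
  · intro s; rfl
  · intro s; rfl
  · intro s m h1 h2
    ext x
    · exact congr($h2 x)
    · exact congr($h1 x)

open AlgebraicGeometry CategoryTheory Limits in
/-- Stacks Tag 0ET0: for a surjective ring map A' → A and any ring map B → A, the spectra of A, A', B and of the fibre product ring B ×_A A' form a pushout square of schemes. -/
theorem result {A A' B : Type u} [CommRing A] [CommRing A'] [CommRing B] (p : A' →+* A) (hp : Function.Surjective p) (q : B →+* A) :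
    IsPushout (Spec.map (CommRingCat.ofHom p)) (Spec.map (CommRingCat.ofHom q))
      (Spec.map (pullback.snd (CommRingCat.ofHom q) (CommRingCat.ofHom p)))
      (Spec.map (pullback.fst (CommRingCat.ofHom q) (CommRingCat.ofHom p))) := by
  have h := isPullback_eqL p q
  refine IsPushout.of_iso (FlatB.PushSpec.isPushout_Spec p q hp) (Iso.refl _) (Iso.refl _)
    (Iso.refl _) (Scheme.Spec.mapIso h.isoPullback.symm.op) (by simp) (by simp) ?_ ?_
  · simp only [Iso.refl_hom, Category.id_comp]
    change Spec.map _ ≫ Spec.map _ = _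
    rw [← Spec.map_comp]
    congr 1
    simp
  · simp only [Iso.refl_hom, Category.id_comp]
    change Spec.map _ ≫ Spec.map _ = _
    rw [← Spec.map_comp]
    congr 1
    simp

end Groth.Agent.S0433
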