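import Groth.Statements.S0438
import Groth.Agent.S0437
import Mathlib.RingTheory.Flat.TorsionFree
import Mathlib.RingTheory.Nakayama
import Mathlib.RingTheory.Ideal.Maps
import Mathlib.RingTheory.TensorProduct.Finite
import Mathlib.RingTheory.Flat.Stability
import Mathlib.RingTheory.TensorProduct.Quotient
import Mathlib.RingTheory.LocalRing.ResidueField.Fiber
import Mathlib.RingTheory.LocalRing.ResidueField.Ideal
import Mathlib.RingTheory.Localization.Ideal

set_option autoImplicit false
universe u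
open FlatMor

namespace Groth.Agent.S0438




variable {R B : Type u} [CommRing R] [IsDomain R] [CommRing B] [Algebra R B]

/-- saturation of the principal ideal `(b)` with respect to nonzero elements of `R`. -/
def sat (R : Type u) {B : Type u} [CommRing R] [IsDomain R] [CommRing B] [Algebra R B] (b : B) : Ideal B where
  carrier := {x | ∃ r : R, r ≠ 0 ∧ ∃ c, algebraMap R B r * x = c * b}
  add_mem' := by
    rintro x y ⟨r, hr, c, hc⟩ ⟨s, hs, d, hd⟩
    refine ⟨r * s, mul_ne_zero hr hs, algebraMap R B s * c + algebraMap R B r * d, ?_⟩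
    rw [map_mul]
    linear_combination (algebraMap R B s) * hc + (algebraMap R B r) * hd
  zero_mem' := ⟨1, one_ne_zero, 0, by simp⟩
  smul_mem' := by
    rintro a x ⟨r, hr, c, hc⟩
    refine ⟨r, hr, a * c, ?_⟩
    simp only [smul_eq_mul]
    linear_combination a * hc

theorem mem_sat {b x : B} : x ∈ sat R b ↔ ∃ r : R, r ≠ 0 ∧ ∃ c, algebraMap R B r * x = c * b := Iff.rfl

theorem self_mem_sat (b : B) : b ∈ sat R b := ⟨1, one_ne_zero, 1, by simp⟩

theorem sat_saturated {b x : B} {r : R} (hr : r ≠ 0) (h : algebraMap R B r * x ∈ sat R b) : x ∈ sat R b := by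
  obtain ⟨s, hs, c, hc⟩ := h
  refine ⟨s * r, mul_ne_zero hs hr, c, ?_⟩
  rw [map_mul, mul_assoc, hc]

theorem flat_quot_sat [ValuationRing R] (b : B) : Module.Flat R (B ⧸ sat R b) := by
  rw [Module.Flat.flat_iff_torsion_eq_bot_of_isBezout, eq_bot_iff]
  rintro x ⟨⟨r, hr⟩, hx⟩
  obtain ⟨x, rfl⟩ := Ideal.Quotient.mk_surjective x
  have hr' : r ≠ 0 := nonZeroDivisors.ne_zero hr
  have hx' : Ideal.Quotient.mk (sat R b) (algebraMap R B r * x) = 0 := by
    have : r • Ideal.Quotient.mk (sat R b) x = 0 := hx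
    rw [← this, Algebra.smul_def, map_mul]; rfl
  rw [Ideal.Quotient.eq_zero_iff_mem] at hx'
  exact Ideal.Quotient.eq_zero_iff_mem.mpr (sat_saturated hr' hx')

theorem nilpotent_of_mem_sat [Module.Flat R B] {b x : B} (hb : IsNilpotent b) (hx : x ∈ sat R b) : IsNilpotent x := by
  obtain ⟨n, hn⟩ := hb
  obtain ⟨r, hr, c, hc⟩ := hx
  refine ⟨n, ?_⟩
  have h1 : algebraMap R B (r ^ n) * x ^ n = 0 := by
    rw [map_pow, ← mul_pow, hc, mul_pow, hn, mul_zero]
  have h2 : IsSMulRegular B (r ^ n) := by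
    have := Module.Flat.isSMulRegular_of_nonZeroDivisors (M := B) (mem_nonZeroDivisors_of_ne_zero (pow_ne_zero n hr))
    exact this
  apply h2
  simp only [smul_zero]
  rw [Algebra.smul_def, h1]

/-- an element of `mB` is `m₀ b'` for a single `m₀ ∈ m` -/
theorem exists_of_mem_map [ValuationRing R] (I : Ideal R) {x : B} (hx : x ∈ I.map (algebraMap R B)) :
    ∃ r ∈ I, ∃ y : B, x = algebraMap R B r * y := by
  refine Submodule.span_induction (p := fun x _ => ∃ r ∈ I, ∃ y : B, x = algebraMap R B r * y) ?_ ?_ ?_ ?_ hx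
  · rintro _ ⟨r, hr, rfl⟩
    exact ⟨r, hr, 1, by simp⟩
  · exact ⟨0, zero_mem _, 0, by simp⟩
  · rintro _ _ _ _ ⟨r, hr, y, rfl⟩ ⟨s, hs, z, rfl⟩
    rcases ValuationRing.dvd_total r s with ⟨t, rfl⟩ | ⟨t, rfl⟩
    · exact ⟨r, hr, y + algebraMap R B t * z, by rw [map_mul]; ring⟩
    · exact ⟨s, hs, algebraMap R B t * y + z, by rw [map_mul]; ring⟩
  · rintro a _ _ ⟨r, hr, y, rfl⟩
    exact ⟨r, hr, a * y, by simp only [smul_eq_mul]; ring⟩

theorem key [ValuationRing R] [Algebra.FiniteType R B] [Module.Flat R B]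
    (hred : ((IsLocalRing.maximalIdeal R).map (algebraMap R B)).IsRadical) {b : B} (hb : IsNilpotent b) :
    ∃ e ∈ (IsLocalRing.maximalIdeal R).map (algebraMap R B), (1 + e) * b = 0 := by
  set m := (IsLocalRing.maximalIdeal R).map (algebraMap R B) with hm
  have hflat := flat_quot_sat (R := R) b
  have hfp : Module.FinitePresentation B (B ⧸ sat R b) := Groth.Agent.S0437.result (A := R)
  have hfg : (sat R b).FG := by
    have := Module.FinitePresentation.fg_ker (sat R b).mkQ (Submodule.mkQ_surjective _)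
    rwa [Submodule.ker_mkQ] at this
  have hle : sat R b ≤ m • sat R b := by
    intro x hx
    have hxm : x ∈ m := by
      obtain ⟨n, hn⟩ := nilpotent_of_mem_sat hb hx
      exact hred ⟨n, by rw [hn]; exact zero_mem _⟩
    obtain ⟨r, hr, y, rfl⟩ := exists_of_mem_map _ hxm
    by_cases hr0 : r = 0
    · subst hr0; simp
    · exact Submodule.smul_mem_smul (Ideal.mem_map_of_mem _ hr) (sat_saturated hr0 hx)
  obtain ⟨r, hr, hr'⟩ := Submodule.exists_sub_one_mem_and_smul_eq_zero_of_fg_of_le_smul m (sat R b) hfg hle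
  refine ⟨r - 1, hr, ?_⟩
  have := hr' b (self_mem_sat b)
  rw [add_sub_cancel]
  exact this


omit [IsDomain R] in
theorem valuationRing_quotient [IsDomain R] [ValuationRing R] (p : Ideal R) [p.IsPrime] : ValuationRing (R ⧸ p) where
  cond' a b := by
    obtain ⟨a, rfl⟩ := Ideal.Quotient.mk_surjective a
    obtain ⟨b, rfl⟩ := Ideal.Quotient.mk_surjective b
    obtain ⟨c, hc | hc⟩ := ValuationRing.cond a b
    · exact ⟨Ideal.Quotient.mk p c, Or.inl (by rw [← map_mul, hc])⟩
    · exact ⟨Ideal.Quotient.mk p c, Or.inr (by rw [← map_mul, hc])⟩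

theorem key2 [ValuationRing R] [Algebra.FiniteType R B] [Module.Flat R B]
    (hred : ((IsLocalRing.maximalIdeal R).map (algebraMap R B)).IsRadical) (p : Ideal R) [p.IsPrime]
    {b : B} {n : ℕ} (hb : b ^ n ∈ p.map (algebraMap R B)) :
    ∃ e ∈ (IsLocalRing.maximalIdeal R).map (algebraMap R B), (1 + e) * b ∈ p.map (algebraMap R B) := by
  have := valuationRing_quotient p
  have hflat : Module.Flat (R ⧸ p) (B ⧸ p.map (algebraMap R B)) :=
    Module.Flat.of_linearEquiv (Algebra.TensorProduct.quotIdealMapEquivQuotTensor B p).toLinearEquiv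
  have hft : Algebra.FiniteType (R ⧸ p) (B ⧸ p.map (algebraMap R B)) :=
    Algebra.FiniteType.of_restrictScalars_finiteType R _ _
  have hmap : (IsLocalRing.maximalIdeal (R ⧸ p)).map (algebraMap (R ⧸ p) (B ⧸ p.map (algebraMap R B))) =
      ((IsLocalRing.maximalIdeal R).map (algebraMap R B)).map (Ideal.Quotient.mk (p.map (algebraMap R B))) := by
    rw [← IsLocalRing.map_maximalIdeal_of_surjective (Ideal.Quotient.mk p) Ideal.Quotient.mk_surjective,
      Ideal.map_map, Ideal.map_map]
    rfl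
  have hle : p.map (algebraMap R B) ≤ (IsLocalRing.maximalIdeal R).map (algebraMap R B) :=
    Ideal.map_mono (IsLocalRing.le_maximalIdeal Ideal.IsPrime.ne_top')
  have hrad : ((IsLocalRing.maximalIdeal (R ⧸ p)).map (algebraMap (R ⧸ p) (B ⧸ p.map (algebraMap R B)))).IsRadical := by
    rw [hmap]
    have h1 := Ideal.map_radical_of_surjective (f := Ideal.Quotient.mk (p.map (algebraMap R B)))
      Ideal.Quotient.mk_surjective (I := (IsLocalRing.maximalIdeal R).map (algebraMap R B)) (by rwa [Ideal.mk_ker])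
    rw [hred.radical] at h1
    exact Ideal.radical_eq_iff.mp h1.symm
  obtain ⟨e, he, h⟩ := key (R := R ⧸ p) (B := B ⧸ p.map (algebraMap R B)) hrad
    (b := Ideal.Quotient.mk _ b) ⟨n, by rw [← map_pow, Ideal.Quotient.eq_zero_iff_mem]; exact hb⟩
  rw [hmap, Ideal.mem_map_iff_of_surjective _ Ideal.Quotient.mk_surjective] at he
  obtain ⟨e, he, rfl⟩ := he
  refine ⟨e, he, ?_⟩
  rw [← map_one (Ideal.Quotient.mk (p.map (algebraMap R B))), ← map_add, ← map_mul, Ideal.Quotient.eq_zero_iff_mem] at h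
  exact h


/-- `pB_q` is radical for every prime `p` of `R` when `q` lies over the maximal ideal -/
theorem radical_map_localization [ValuationRing R] [Algebra.FiniteType R B] [Module.Flat R B]
    (hred : ((IsLocalRing.maximalIdeal R).map (algebraMap R B)).IsRadical) (q : Ideal B) [q.IsPrime]
    (hq : (IsLocalRing.maximalIdeal R).map (algebraMap R B) ≤ q) (p : Ideal R) [p.IsPrime] :
    (p.map (algebraMap R (Localization.AtPrime q))).IsRadical := by
  rintro x ⟨n, hn⟩
  obtain ⟨c, t, rfl⟩ := IsLocalization.exists_mk'_eq q.primeCompl x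
  rw [IsScalarTower.algebraMap_eq R B (Localization.AtPrime q), ← Ideal.map_map] at hn ⊢
  rw [← IsLocalization.mk'_pow, IsLocalization.mk'_mem_map_algebraMap_iff q.primeCompl] at hn
  rw [IsLocalization.mk'_mem_map_algebraMap_iff q.primeCompl]
  obtain ⟨r, hr, h⟩ := hn
  by_cases hn0 : n = 0
  · subst hn0
    have h' : r ∈ p.map (algebraMap R B) := by simpa using h
    exact ⟨r, hr, Ideal.mul_mem_right _ _ h'⟩
  have h1 : (r * c) ^ n ∈ p.map (algebraMap R B) := by
    rw [mul_pow]
    obtain ⟨k, rfl⟩ := Nat.exists_eq_succ_of_ne_zero hn0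
    rw [pow_succ r, mul_assoc]
    exact Ideal.mul_mem_left _ _ h
  obtain ⟨e, he, h2⟩ := key2 hred p h1
  refine ⟨(1 + e) * r, ?_, by rw [mul_assoc]; exact h2⟩
  refine q.primeCompl.mul_mem ?_ hr
  intro h3
  exact (Ideal.ne_top_iff_one q).mp Ideal.IsPrime.ne_top' ((Submodule.add_mem_iff_left q (hq he)).mp h3)

section fiber
open TensorProduct
variable {R S : Type u} [CommRing R] [CommRing S] [Algebra R S]

theorem fiber_one_tmul_eq_zero_iff (p : Ideal R) [p.IsPrime] (s : S) :
    (1 ⊗ₜ[R] s : p.Fiber S) = 0 ↔ ∃ r ∉ p, algebraMap R S r * s ∈ p.map (algebraMap R S) := by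
  let : Algebra S (p.Fiber S) := Algebra.TensorProduct.rightAlgebra
  have h1 : (1 ⊗ₜ[R] s : p.Fiber S) = algebraMap S (p.Fiber S) s := rfl
  have h2 : (Ideal.Fiber.algEquivAux₁ (S := S) p) (algebraMap S (p.Fiber S) s) = 0 ↔ algebraMap S (p.Fiber S) s = 0 :=
    EmbeddingLike.map_eq_zero_iff
  rw [h1, ← h2, AlgEquiv.commutes,
    IsScalarTower.algebraMap_apply S (Localization (Algebra.algebraMapSubmonoid S p.primeCompl)) _ s,
    Ideal.Quotient.algebraMap_eq, Ideal.Quotient.eq_zero_iff_mem,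
    IsLocalization.algebraMap_mem_map_algebraMap_iff (Algebra.algebraMapSubmonoid S p.primeCompl)]
  constructor
  · rintro ⟨_, ⟨r, hr, rfl⟩, h⟩
    exact ⟨r, hr, h⟩
  · rintro ⟨r, hr, h⟩
    exact ⟨_, ⟨r, hr, rfl⟩, h⟩

theorem fiber_smul_eq_zero {p : Ideal R} [p.IsPrime] {r : R} (hr : r ∉ p) {x : p.Fiber S} (h : r • x = 0) : x = 0 := by
  have h1 : IsUnit (algebraMap R p.ResidueField r) := by
    rw [isUnit_iff_ne_zero]
    intro h0
    exact hr (by simpa using h0)
  have h2 : (algebraMap R p.ResidueField r) • x = 0 := by rw [algebraMap_smul]; exact h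
  exact (h1.smul_eq_zero).mp h2

theorem fiber_isReduced_of_radical (p : Ideal R) [p.IsPrime] (h : (p.map (algebraMap R S)).IsRadical) :
    _root_.IsReduced (p.Fiber S) := by
  refine ⟨fun x hx => ?_⟩
  obtain ⟨n, hn⟩ := hx
  by_cases hn0 : n = 0
  · subst hn0
    rw [← mul_one x, ← pow_zero x, hn, mul_zero]
  obtain ⟨k, rfl⟩ := Nat.exists_eq_succ_of_ne_zero hn0
  obtain ⟨r, hr, s, hs⟩ := Ideal.Fiber.exists_smul_eq_one_tmul p x
  have h1 : (1 ⊗ₜ[R] (s ^ (k + 1)) : p.Fiber S) = 0 := by
    have : (1 ⊗ₜ[R] s : p.Fiber S) ^ (k + 1) = 1 ⊗ₜ[R] (s ^ (k + 1)) := by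
      rw [Algebra.TensorProduct.tmul_pow, one_pow]
    rw [← this, ← hs, smul_pow, hn, smul_zero]
  rw [fiber_one_tmul_eq_zero_iff] at h1
  obtain ⟨t, ht, h1⟩ := h1
  have h2 : (1 ⊗ₜ[R] s : p.Fiber S) = 0 := by
    rw [fiber_one_tmul_eq_zero_iff]
    refine ⟨t, ht, h ⟨k + 1, ?_⟩⟩
    rw [mul_pow, pow_succ' (algebraMap R S t), mul_comm (algebraMap R S t), mul_assoc]
    exact Ideal.mul_mem_left _ _ h1
  exact fiber_smul_eq_zero hr (hs.trans h2)

theorem radical_of_fiber_isReduced (p : Ideal R) [p.IsMaximal] (h : _root_.IsReduced (p.Fiber S)) :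
    (p.map (algebraMap R S)).IsRadical := by
  rintro s ⟨n, hn⟩
  have h1 : (1 ⊗ₜ[R] s : p.Fiber S) = 0 := by
    apply IsReduced.eq_zero (1 ⊗ₜ[R] s : p.Fiber S)
    refine ⟨n, ?_⟩
    rw [Algebra.TensorProduct.tmul_pow, one_pow, fiber_one_tmul_eq_zero_iff]
    exact ⟨1, (Ideal.ne_top_iff_one p).mp Ideal.IsPrime.ne_top', by simpa using hn⟩
  rw [fiber_one_tmul_eq_zero_iff] at h1
  obtain ⟨r, hr, h1⟩ := h1
  obtain ⟨a, ha⟩ := Ideal.Quotient.exists_inv (I := p) (a := Ideal.Quotient.mk p r) (by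
    rwa [Ne, Ideal.Quotient.eq_zero_iff_mem])
  obtain ⟨a, rfl⟩ := Ideal.Quotient.mk_surjective a
  rw [← map_mul, ← map_one (Ideal.Quotient.mk p), Ideal.Quotient.eq] at ha
  have h2 : s = algebraMap R S a * (algebraMap R S r * s) - algebraMap R S (r * a - 1) * s := by
    rw [map_sub, map_mul, map_one]; ring
  rw [h2]
  exact sub_mem (Ideal.mul_mem_left _ _ h1) (Ideal.mul_mem_right _ _ (Ideal.mem_map_of_mem _ ha))

end fiber

section scheme

open AlgebraicGeometry CategoryTheory Limits

theorem isReduced_of_flat_cover {W : Scheme.{u}}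
    (h : ∀ w : W, ∃ (Z : Scheme.{u}) (g : Z ⟶ W) (z : Z), g z = w ∧ Flat g ∧ IsReduced Z) : IsReduced W := by
  have : ∀ x : W, _root_.IsReduced (W.presheaf.stalk x) := by
    intro x
    obtain ⟨Z, g, z, rfl, hg, hZ⟩ := h x
    have hinj : Function.Injective (g.stalkMap z).hom := by
      algebraize [(g.stalkMap z).hom]
      have : Module.FaithfullyFlat (W.presheaf.stalk (g z)) (Z.presheaf.stalk z) :=
        @Module.FaithfullyFlat.of_flat_of_isLocalHom _ _ _ _ _ _ _
          (Flat.stalkMap g z) (g.toLRSHom.prop z)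
      exact ‹RingHom.FaithfullyFlat _›.injective
    exact isReduced_of_injective (g.stalkMap z).hom hinj
  exact isReduced_of_isReduced_stalk W

theorem exists_local {R : Type u} [CommRing R] [IsDomain R] [ValuationRing R] {X : Scheme.{u}}
    (f : X ⟶ Spec (CommRingCat.of R)) [IsProper f] [Flat f]
    (hred : IsReduced (f.fiber (IsLocalRing.closedPoint R))) (x : X) :
    ∃ (B : Type u) (_ : CommRing B) (_ : Algebra R B) (g : Spec (CommRingCat.of B) ⟶ X), Flat g ∧ x ∈ Set.range g ∧
      g ≫ f = Spec.map (CommRingCat.ofHom (algebraMap R B)) ∧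
      ∀ (p : Ideal R) [p.IsPrime], (p.map (algebraMap R B)).IsRadical := by
  obtain ⟨x₀, hx₀, hfx₀⟩ : ∃ x₀ : X, x ⤳ x₀ ∧ f x₀ = IsLocalRing.closedPoint R := by
    have h1 : IsClosed (f '' closure {x}) := f.isClosedMap _ isClosed_closure
    have h2 : IsLocalRing.closedPoint R ∈ f '' closure {x} :=
      (IsLocalRing.specializes_closedPoint (f x)).mem_closed h1 ⟨x, subset_closure rfl, rfl⟩
    obtain ⟨x₀, h3, h4⟩ := h2
    exact ⟨x₀, specializes_iff_mem_closure.mpr h3, h4⟩
  have hcov := X.affineOpenCover.covers x₀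
  obtain ⟨B, g, hg, q, rfl⟩ : ∃ (B : CommRingCat.{u}) (g : Spec B ⟶ X) (_ : IsOpenImmersion g) (q : Spec B), g q = x₀ :=
    ⟨_, X.affineOpenCover.f (X.affineOpenCover.idx x₀), inferInstance, hcov⟩
  obtain ⟨φ, hφ⟩ := Spec.map_surjective (g ≫ f)
  have hflat : φ.hom.Flat := by
    rw [← HasRingHomProperty.Spec_iff (P := @Flat), hφ]
    infer_instance
  have hft : φ.hom.FiniteType := by
    rw [← HasRingHomProperty.Spec_iff (P := @LocallyOfFiniteType), hφ]
    infer_instance
  algebraize [φ.hom]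
  have hredB : IsReduced ((g ≫ f).fiber (IsLocalRing.closedPoint R)) := by
    have e := pullbackRightPullbackFstIso f ((Spec (CommRingCat.of R)).fromSpecResidueField (IsLocalRing.closedPoint R)) g
    have : IsReduced (pullback f ((Spec (CommRingCat.of R)).fromSpecResidueField (IsLocalRing.closedPoint R))) := hred
    have h1 : IsReduced (pullback g (pullback.fst f ((Spec (CommRingCat.of R)).fromSpecResidueField (IsLocalRing.closedPoint R)))) :=
      isReduced_of_isOpenImmersion (pullback.snd _ _)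
    exact isReduced_of_isOpenImmersion e.inv
  rw [← hφ] at hredB
  have hredB' : _root_.IsReduced ((IsLocalRing.maximalIdeal R).Fiber B) := by
    have e : (Spec.map (CommRingCat.ofHom (algebraMap R B))).fiber (IsLocalRing.closedPoint R) ≅
      Spec (CommRingCat.of ((IsLocalRing.maximalIdeal R).Fiber B)) :=
      Arrow.leftFunc.mapIso (Spec.fiberToSpecResidueFieldIso R B (IsLocalRing.closedPoint R))
    have : IsReduced ((Spec.map (CommRingCat.ofHom (algebraMap R B))).fiber (IsLocalRing.closedPoint R)) := hredB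
    have : IsReduced (Spec (CommRingCat.of ((IsLocalRing.maximalIdeal R).Fiber B))) :=
      isReduced_of_isOpenImmersion e.inv
    exact (affine_isReduced_iff _).mp this
  have hrad : ((IsLocalRing.maximalIdeal R).map (algebraMap R B)).IsRadical :=
    radical_of_fiber_isReduced _ hredB'
  have hfq : Spec.map φ q = IsLocalRing.closedPoint R := by
    rw [hφ]; exact hfx₀
  have hq : (IsLocalRing.maximalIdeal R).map (algebraMap R B) ≤ q.asIdeal := by
    rw [Ideal.map_le_iff_le_comap]
    exact (congrArg PrimeSpectrum.asIdeal hfq).ge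
  have hxr : x ∈ Set.range g := hx₀.mem_open g.isOpenEmbedding.isOpen_range ⟨q, rfl⟩
  obtain ⟨y, rfl⟩ := hxr
  have hyq : y ⤳ q := g.isOpenEmbedding.isInducing.specializes_iff.mp hx₀
  have hyq' : y.asIdeal ≤ q.asIdeal := (PrimeSpectrum.le_iff_specializes y q).mpr hyq
  have hy : y ∈ Set.range (PrimeSpectrum.comap (algebraMap B (Localization.AtPrime q.asIdeal))) := by
    rw [PrimeSpectrum.localization_comap_range _ q.asIdeal.primeCompl]
    exact Set.disjoint_left.mpr fun a ha hb => ha (hyq' hb)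
  obtain ⟨y', hy'⟩ := hy
  refine ⟨Localization.AtPrime q.asIdeal, inferInstance, inferInstance,
    Spec.map (CommRingCat.ofHom (algebraMap B (Localization.AtPrime q.asIdeal))) ≫ g, ?_, ⟨y', ?_⟩, ?_, ?_⟩
  · have : Flat (Spec.map (CommRingCat.ofHom (algebraMap B (Localization.AtPrime q.asIdeal)))) := by
      rw [HasRingHomProperty.Spec_iff (P := @Flat)]
      rw [CommRingCat.hom_ofHom, RingHom.flat_algebraMap_iff]
      exact IsLocalization.flat _ q.asIdeal.primeCompl
    infer_instance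
  · rw [Scheme.Hom.comp_apply]
    exact congrArg g hy'
  · rw [Category.assoc, ← hφ, ← Spec.map_comp]
    congr 1
  · intro p hp
    exact radical_map_localization hrad q.asIdeal hq p

end scheme

open AlgebraicGeometry CategoryTheory Limits in
/-- Stacks Tag 0H2T: for a proper flat morphism to the spectrum of a valuation ring whose special fibre is reduced, the total space and every fibre are reduced. -/
theorem result {R : Type u} [CommRing R] [IsDomain R] [ValuationRing R] {X : Scheme.{u}}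
    (f : X ⟶ Spec (CommRingCat.of R)) [IsProper f] [Flat f]
    (hred : IsReduced (f.fiber (IsLocalRing.closedPoint R))) :
    IsReduced X ∧ ∀ s : ↑(Spec (CommRingCat.of R)), IsReduced (f.fiber s) := by
  constructor
  · refine isReduced_of_flat_cover fun x => ?_
    obtain ⟨B, _, _, g, hg, ⟨z, hz⟩, hgf, hB⟩ := exists_local f hred x
    refine ⟨_, g, z, hz, hg, ?_⟩
    have h1 := hB ⊥
    rw [Ideal.map_bot] at h1
    have : _root_.IsReduced B := ⟨fun b hb => h1 (by
      obtain ⟨n, hn⟩ := hb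
      exact ⟨n, by simp [hn]⟩)⟩
    exact (affine_isReduced_iff (CommRingCat.of B)).mpr this
  · intro s
    refine isReduced_of_flat_cover fun w => ?_
    obtain ⟨B, _, _, g, hg, ⟨z, hz⟩, hgf, hB⟩ := exists_local f hred (f.fiberι s w)
    obtain ⟨v, hv1, hv2⟩ := Scheme.Pullback.exists_preimage_pullback (f := g) (g := f.fiberι s) z w hz
    refine ⟨_, pullback.snd g (f.fiberι s), v, hv2, inferInstance, ?_⟩
    have e : pullback g (f.fiberι s) ≅ Spec (CommRingCat.of (s.asIdeal.Fiber B)) :=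
      pullbackRightPullbackFstIso f ((Spec (CommRingCat.of R)).fromSpecResidueField s) g ≪≫
        pullback.congrHom hgf rfl ≪≫ Arrow.leftFunc.mapIso (Spec.fiberToSpecResidueFieldIso R B s)
    have h2 : _root_.IsReduced (s.asIdeal.Fiber B) := fiber_isReduced_of_radical _ (hB s.asIdeal)
    have h3 : IsReduced (Spec (CommRingCat.of (s.asIdeal.Fiber B))) := (affine_isReduced_iff _).mpr h2
    exact isReduced_of_isOpenImmersion e.hom

end Groth.Agent.S0438
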