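import Groth.Statements.S1331
import Groth.Agent.Flat2D.GeomRedSch

set_option autoImplicit false
universe u
open FlatMor

namespace Groth.Agent.S1331

open AlgebraicGeometry CategoryTheory Limits in
/-- Stacks Tag 0577: let f be of finite type with irreducible target. If the generic fibre is not geometrically reduced, then over some nonempty open of the target no fibre is geometrically reduced. -/
theorem result {X Y : Scheme.{u}} (f : X ⟶ Y) [IrreducibleSpace ↑Y] [LocallyOfFiniteType f] [QuasiCompact f]
    (h : ¬ GeometricallyReduced (f.fiberToSpecResidueField (genericPoint ↑Y))) :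
    ∃ V : Y.Opens, (V : Set ↑Y).Nonempty ∧ ∀ y ∈ V, ¬ GeometricallyReduced (f.fiberToSpecResidueField y) := by
  let P : MorphismProperty Scheme.{u} := fun S T g => ¬ GeometricallyReduced g
  have hP : P.RespectsIso := by
    apply MorphismProperty.RespectsIso.of_respects_arrow_iso
    intro a b e ha hb
    have : MorphismProperty.RespectsIso @GeometricallyReduced := inferInstance
    exact ha ((MorphismProperty.arrow_mk_iso_iff @GeometricallyReduced e).mpr hb)
  exact Flat2D.IrredBase.exists_opens_of_spec_domain P P
    (fun A _ X f _ _ h => Flat2D.GeomRedSch.exists_opens_spec f h) f h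

end Groth.Agent.S1331
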