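import Groth.Statements.S1301
import Groth.Agent.FlatB.GeomRed
import Groth.Agent.FlatB.ConstrAffine
import Groth.Agent.S0434
import Groth.Agent.S1331
import Mathlib.AlgebraicGeometry.FunctionField

set_option autoImplicit false
universe u
open FlatMor

namespace Groth.Agent.S1301

section

open AlgebraicGeometry CategoryTheory Limits Topology Groth.Agent.FlatB.GeomRed

/-- the predicate as a function -/
def N {X Y : Scheme.{u}} (f : X ⟶ Y) (y : Y) : Prop := GeometricallyReduced (f.fiberToSpecResidueField y)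

theorem N_bc {X Y X' Y' : Scheme.{u}} (f : X ⟶ Y) (f' : X' ⟶ Y') (g' : X' ⟶ X) (g : Y' ⟶ Y)
    (h : IsPullback g' f' f g) (y' : Y') : N f' y' = N f (g y') :=
  propext (geometricallyReduced_fiber_iff_of_isPullback f f' g' g h y')

theorem exists_generic {Y : Scheme.{u}} [IsAffine Y] (y : Y) :
    ∃ (Z : Scheme.{u}) (i : Z ⟶ Y), IsClosedImmersion i ∧ ∃ _ : IrreducibleSpace Z, i (genericPoint Z) = y := by
  let p : PrimeSpectrum Γ(Y, ⊤) := Y.isoSpec.hom y
  refine ⟨Spec (CommRingCat.of (Γ(Y, ⊤) ⧸ p.asIdeal)), Spec.map (CommRingCat.ofHom (Ideal.Quotient.mk p.asIdeal)) ≫ Y.isoSpec.inv,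
    ?_, inferInstance, ?_⟩
  · have := IsClosedImmersion.spec_of_surjective (CommRingCat.ofHom (Ideal.Quotient.mk p.asIdeal)) Ideal.Quotient.mk_surjective
    infer_instance
  have h1 : genericPoint (Spec (CommRingCat.of (Γ(Y, ⊤) ⧸ p.asIdeal))) = (⊥ : PrimeSpectrum (Γ(Y, ⊤) ⧸ p.asIdeal)) := by
    exact genericPoint_eq_bot_of_affine _
  rw [h1, Scheme.Hom.comp_apply]
  have h2 : Spec.map (CommRingCat.ofHom (Ideal.Quotient.mk p.asIdeal)) (⊥ : PrimeSpectrum (Γ(Y, ⊤) ⧸ p.asIdeal)) = p := by
    apply PrimeSpectrum.ext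
    exact (Ideal.mk_ker (I := p.asIdeal))
  rw [h2]
  simp [p]

theorem N_restrict {X Y : Scheme.{u}} (f : X ⟶ Y) (V : Y.Opens) (hV : GeometricallyReduced (f ∣_ V)) (y : Y) (hy : y ∈ V) :
    N f y := by
  have h := N_bc f (f ∣_ V) _ _ (isPullback_morphismRestrict f V).flip ⟨y, hy⟩
  have h2 : N (f ∣_ V) ⟨y, hy⟩ := by
    unfold N
    infer_instance
  rw [h] at h2
  exact h2

theorem N_gen {X Y : Scheme.{u}} (f : X ⟶ Y) [IsNoetherian Y] [IsAffine Y] [IsAffine X] [LocallyOfFinitePresentation f]
      (y : Y) :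
      ∃ V : Set ↑Y, V ⊆ closure {y} ∧ y ∈ V ∧ IsOpen (Subtype.val ⁻¹' V : Set ↑(closure ({y} : Set ↑Y))) ∧
        ∀ y' ∈ V, N f y' = N f y := by
  obtain ⟨Z, i, hi, hZ, rfl⟩ := exists_generic y
  obtain ⟨V, hV1, hV2⟩ : ∃ V : Z.Opens, (V : Set Z).Nonempty ∧ ∀ z ∈ V, N (pullback.snd f i) z = N (pullback.snd f i) (genericPoint Z) := by
    by_cases h : GeometricallyReduced ((pullback.snd f i).fiberToSpecResidueField (genericPoint Z))
    · obtain ⟨V, hV1, hV2⟩ := Groth.Agent.S0434.result (pullback.snd f i) h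
      refine ⟨V, hV1, fun z hz => ?_⟩
      have h1 : N (pullback.snd f i) z := N_restrict _ V hV2 z hz
      have h2 : N (pullback.snd f i) (genericPoint Z) := h
      simp only [h1, h2]
    · obtain ⟨V, hV1, hV2⟩ := Groth.Agent.S1331.result (pullback.snd f i) h
      refine ⟨V, hV1, fun z hz => ?_⟩
      have h1 : ¬ N (pullback.snd f i) z := hV2 z hz
      have h2 : ¬ N (pullback.snd f i) (genericPoint Z) := h
      simp only [h1, h2]
  have hcl : closure {i (genericPoint Z)} = Set.range i := by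
    have h1 := i.isClosedEmbedding.isClosedMap.closure_image_eq_of_continuous i.continuous {genericPoint Z}
    rw [genericPoint_closure, Set.image_univ, Set.image_singleton] at h1
    exact h1
  refine ⟨i '' V, ?_, ?_, ?_, ?_⟩
  · rw [hcl]; exact Set.image_subset_range _ _
  · exact ⟨genericPoint Z, ((genericPoint_spec Z).mem_open_set_iff V.2).mpr (by simpa using hV1), rfl⟩
  · rw [hcl]
    have h1 := i.isClosedEmbedding.isInducing.isOpen_iff.mp V.2
    obtain ⟨U, hU, hUV⟩ := h1
    rw [isOpen_induced_iff]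
    refine ⟨U, hU, ?_⟩
    ext ⟨_, z, rfl⟩
    change i z ∈ U ↔ i z ∈ i '' V
    rw [i.isClosedEmbedding.injective.mem_set_image]
    exact Set.ext_iff.mp hUV z
  · rintro _ ⟨z, hz, rfl⟩
    have h1 := hV2 z hz
    rw [N_bc f (pullback.snd f i) _ i (IsPullback.of_hasPullback f i),
      N_bc f (pullback.snd f i) _ i (IsPullback.of_hasPullback f i)] at h1
    exact h1

theorem main_affine {X Y : Scheme.{u}} (f : X ⟶ Y) [IsAffine Y] [QuasiCompact f] [LocallyOfFinitePresentation f] :
    IsLocallyConstructible {y : Y | N f y} := by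
  have hX : CompactSpace X := QuasiCompact.compactSpace_of_compactSpace f
  let 𝒰 := X.affineCover.finiteSubcover
  have h1 : {y : Y | N f y} = ⋂ i, {y : Y | N (𝒰.f i ≫ f) y} := by
    ext y
    simp only [Set.mem_ofPred_eq, Set.mem_iInter]
    exact geometricallyReduced_fiber_iff_of_cover f y 𝒰.X 𝒰.f (fun x => 𝒰.exists_eq x)
  rw [h1]
  refine IsLocallyConstructible.iInter fun i => ?_
  have : IsAffine (𝒰.X i) := inferInstance
  have h2 := (Groth.Agent.FlatB.ConstrAffine.finConstr_of_isAffine (α := Prop) @N (fun f f' g' g h y' => N_bc f f' g' g h y')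
    (fun f _ _ _ _ y => N_gen f y) (𝒰.f i ≫ f)).2 True
  exact (by simpa using h2 : IsConstructible _).isLocallyConstructible

theorem main {X Y : Scheme.{u}} (f : X ⟶ Y) [QuasiCompact f] [LocallyOfFinitePresentation f] :
    IsLocallyConstructible {y : Y | N f y} := by
  refine IsLocallyConstructible.of_isOpenCover (U := fun U : Y.affineOpens => U.1) ?_ ?_
  · rw [TopologicalSpace.IsOpenCover]
    exact iSup_affineOpens_eq_top Y
  · intro U
    have hU : IsAffine (U.1 : Scheme.{u}) := U.2
    have h := main_affine (f ∣_ U.1)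
    have heq : (Subtype.val ⁻¹' {y | N f y} : Set (U.1 : Set Y)) =
        {y : (U.1 : Scheme.{u}) | N (f ∣_ U.1) y} := by
      ext y
      have := N_bc f (f ∣_ U.1) _ _ (isPullback_morphismRestrict f U.1).flip y
      change N f _ ↔ N (f ∣_ U.1) y
      rw [this]
      rfl
    rw [heq]
    exact h

end

open AlgebraicGeometry CategoryTheory Limits in
/-- Stacks Tag 0579: for a quasi-compact morphism locally of finite presentation, the set of points of the target whose fibre is geometrically reduced is locally constructible. -/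
theorem result {X Y : Scheme.{u}} (f : X ⟶ Y) [QuasiCompact f] [LocallyOfFinitePresentation f] :
    Topology.IsLocallyConstructible {y : ↑Y | GeometricallyReduced (f.fiberToSpecResidueField y)} := by
  exact main f

end Groth.Agent.S1301
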