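import Groth.Statements.S0435
import Groth.Agent.S0438
import Groth.Agent.S1301
import Mathlib.AlgebraicGeometry.ValuativeCriterion
import Mathlib.RingTheory.Spectrum.Prime.ConstructibleSet
import Mathlib.RingTheory.Valuation.LocalSubring

set_option autoImplicit false
universe u
open FlatMor

namespace Groth.Agent.S0435

section

open AlgebraicGeometry CategoryTheory Limits TopologicalSpace Topology

/-- the special fibre of a base change along a map hitting `y` at the closed point -/
theorem fiber_isReduced {X Y S : Scheme.{u}} (f : X ⟶ Y) (g : S ⟶ Y) (s : S)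
    (h : GeometricallyReduced (f.fiberToSpecResidueField (g s))) :
    IsReduced ((pullback.snd f g).fiber s) := by
  have h1 := isPullback_fiberToSpecResidueField_of_isPullback (IsPullback.of_hasPullback f g) s
  have h2 : GeometricallyReduced ((pullback.snd f g).fiberToSpecResidueField s) :=
    MorphismProperty.of_isPullback h1 h
  exact self_of_isIntegral_of_geometrically h2.geometrically_isReduced

theorem bijective_of_isFractionRing {A K L : Type u} [CommRing A] [IsDomain A] [Field K] [Field L] [Algebra A K]
    [IsFractionRing A K] (j : A →+* L) (i : L →+* K) (h : i.comp j = algebraMap A K) :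
    Function.Bijective i := by
  refine ⟨i.injective, fun x => ?_⟩
  obtain ⟨a, b, hb, rfl⟩ := IsFractionRing.div_surjective (A := A) x
  refine ⟨j a / j b, ?_⟩
  rw [map_div₀, ← h]
  rfl

/-- The base change to the fraction field of a valuation ring is (isomorphic to) the generic fibre. -/
theorem isReduced_pullback_of_valuationRing {A K : Type u} [CommRing A] [IsDomain A] [ValuationRing A] [Field K]
    [Algebra A K] [IsFractionRing A K] {X : Scheme.{u}} (f : X ⟶ Spec (CommRingCat.of A)) [IsProper f] [Flat f]
    (hred : IsReduced (f.fiber (IsLocalRing.closedPoint A))) :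
    IsReduced (pullback f (Spec.map (CommRingCat.ofHom (algebraMap A K)))) := by
  obtain ⟨⟨s, φ⟩, hφ⟩ := (Scheme.SpecToEquivOfField K _).symm.surjective (Spec.map (CommRingCat.ofHom (algebraMap A K)))
  have hφ' : Spec.map φ ≫ (Spec (CommRingCat.of A)).fromSpecResidueField s = Spec.map (CommRingCat.ofHom (algebraMap A K)) := hφ
  have hbij : Function.Bijective φ.hom := by
    obtain ⟨j, hj⟩ := Spec.map_surjective ((Spec (CommRingCat.of A)).fromSpecResidueField s)
    refine bijective_of_isFractionRing j.hom φ.hom ?_
    rw [← hj, ← Spec.map_comp, Spec.map_inj] at hφ'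
    exact congrArg CommRingCat.Hom.hom hφ'
  have hiso : IsIso φ := (ConcreteCategory.isIso_iff_bijective φ).mpr hbij
  have h2 : IsReduced (pullback f ((Spec (CommRingCat.of A)).fromSpecResidueField s)) :=
    (Groth.Agent.S0438.result f hred).2 s
  rw [← hφ']
  have h3 : IsReduced (pullback (pullback.snd f ((Spec (CommRingCat.of A)).fromSpecResidueField s)) (Spec.map φ)) :=
    isReduced_of_isOpenImmersion (pullback.fst _ _)
  exact isReduced_of_isOpenImmersion (pullbackLeftPullbackSndIso f _ _).inv

/-- stability under generization -/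
theorem generization {X Y : Scheme.{u}} (f : X ⟶ Y) [Flat f] [IsProper f] {y' y : Y} (hy : y' ⤳ y)
    (h : GeometricallyReduced (f.fiberToSpecResidueField y)) : GeometricallyReduced (f.fiberToSpecResidueField y') := by
  refine ⟨?_⟩
  rw [geometrically_iff_of_isClosedUnderIsomorphisms]
  intro K _ t
  obtain ⟨φ, rfl⟩ := Spec.map_surjective t
  obtain ⟨A, hA, hA_local⟩ := IsLocalRing.exists_factor_valuationRing
    (Y.presheaf.stalkSpecializes hy ≫ Y.residue y' ≫ φ).hom
  let ψ : Y.presheaf.stalk y ⟶ CommRingCat.of A :=
    CommRingCat.ofHom ((Y.presheaf.stalkSpecializes hy ≫ Y.residue y' ≫ φ).hom.codRestrict _ hA)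
  let g : Spec (CommRingCat.of A) ⟶ Y := Spec.map ψ ≫ Y.fromSpecStalk y
  have hg : g (IsLocalRing.closedPoint A) = y := by
    have : Spec.map ψ (IsLocalRing.closedPoint A) = IsLocalRing.closedPoint (Y.presheaf.stalk y) :=
      IsLocalRing.comap_closedPoint (S := A) ((Y.presheaf.stalkSpecializes hy ≫ Y.residue y' ≫ φ).hom.codRestrict A.toSubring hA)
    rw [Scheme.Hom.comp_apply, this, Y.fromSpecStalk_closedPoint]
  have w : Spec.map φ ≫ Y.fromSpecResidueField y' = Spec.map (CommRingCat.ofHom (algebraMap A K)) ≫ g := by
    rw [Scheme.fromSpecResidueField, ← Scheme.SpecMap_stalkSpecializes_fromSpecStalk hy]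
    simp_rw [g, ← Spec.map_comp_assoc]
    rfl
  have hfib : IsReduced ((pullback.snd f g).fiber (IsLocalRing.closedPoint A)) := by
    apply fiber_isReduced
    rw [hg]
    exact h
  have h4 := isReduced_pullback_of_valuationRing (A := A) (K := K) (pullback.snd f g) hfib
  have h5 : IsReduced (pullback f (Spec.map φ ≫ Y.fromSpecResidueField y')) := by
    rw [w]
    exact isReduced_of_isOpenImmersion (pullbackLeftPullbackSndIso f _ _).inv
  exact isReduced_of_isOpenImmersion (pullbackLeftPullbackSndIso f (Y.fromSpecResidueField y') (Spec.map φ)).hom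

end

open AlgebraicGeometry CategoryTheory Limits in
/-- Stacks Tag 0C0E: for a flat proper morphism of finite presentation, the points of the target whose fibre is geometrically reduced form an open subset. -/
theorem result {X Y : Scheme.{u}} (f : X ⟶ Y) [Flat f] [IsProper f] [LocallyOfFinitePresentation f] :
    IsOpen {y : ↑Y | GeometricallyReduced (f.fiberToSpecResidueField y)} := by
  have hlc := Groth.Agent.S1301.result f
  have hgen : StableUnderGeneralization {y : ↑Y | GeometricallyReduced (f.fiberToSpecResidueField y)} :=
    fun y y' hy h => generization f hy h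
  rw [isOpen_iff_mem_nhds]
  intro y hy
  have hcov := Y.affineOpenCover.covers y
  set g := Y.affineOpenCover.f (Y.affineOpenCover.idx y) with hg
  have hoe := g.isOpenEmbedding
  have h1 := hlc.preimage_of_isOpenEmbedding hoe
  have h2 := h1.isConstructible
  have h3 : IsOpen (g ⁻¹' {y : ↑Y | GeometricallyReduced (f.fiberToSpecResidueField y)}) :=
    PrimeSpectrum.isOpen_of_stableUnderGeneralization_of_isConstructible
      (hgen.preimage g.continuous) h2
  have h4 := hoe.isOpenMap _ h3
  refine Filter.mem_of_superset (h4.mem_nhds ?_) (Set.image_preimage_subset _ _)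
  obtain ⟨z, hz⟩ := hcov
  exact ⟨z, by rw [Set.mem_preimage, hz]; exact hy, hz⟩

end Groth.Agent.S0435
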