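import Groth.Statements.S0436
import Groth.Agent.S0438

set_option autoImplicit false
universe u
open FlatMor

namespace Groth.Agent.S0436

open AlgebraicGeometry CategoryTheory Limits in
/-- Stacks Tag 0C0D: for a proper flat morphism to the spectrum of a discrete valuation ring whose special fibre is reduced, the total space and the generic fibre are reduced (the source only needs every irreducible component to dominate the base instead of flatness). -/
theorem result {R : Type u} [CommRing R] [IsDomain R] [IsDiscreteValuationRing R] {X : Scheme.{u}}
    (f : X ⟶ Spec (CommRingCat.of R)) [IsProper f] [Flat f]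
    (hred : IsReduced (f.fiber (IsLocalRing.closedPoint R))) :
    IsReduced X ∧ IsReduced (f.fiber (⟨⊥, Ideal.isPrime_bot⟩ : PrimeSpectrum R)) := by
  obtain ⟨h1, h2⟩ := Groth.Agent.S0438.result f hred
  exact ⟨h1, h2 _⟩

end Groth.Agent.S0436
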