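import Groth.Statements.S0439
import Mathlib.RingTheory.ZariskisMainTheorem
import Mathlib.AlgebraicGeometry.ZariskisMainTheorem
import Mathlib.RingTheory.LocalRing.Module
import Mathlib.RingTheory.LocalRing.ResidueField.Fiber
import Mathlib.RingTheory.Support

set_option autoImplicit false
universe u
open FlatMor

namespace Groth.Agent.S0439

open TensorProduct

lemma usc {A C : Type u} [CommRing A] [CommRing C] [Algebra A C] [Module.Finite A C]
    (p₀ : PrimeSpectrum A) :
    ∃ a : A, a ∉ p₀.asIdeal ∧ ∀ p : PrimeSpectrum A, a ∉ p.asIdeal →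
      Module.finrank p.asIdeal.ResidueField (p.asIdeal.ResidueField ⊗[A] C) ≤
        Module.finrank p₀.asIdeal.ResidueField (p₀.asIdeal.ResidueField ⊗[A] C) := by
  classical
  set n := Module.finrank p₀.asIdeal.ResidueField (p₀.asIdeal.ResidueField ⊗[A] C) with hn
  let b := Module.finBasis p₀.asIdeal.ResidueField (p₀.asIdeal.ResidueField ⊗[A] C)
  have h1 : ∀ i : Fin n, ∃ (r : A) (s : C), r ∉ p₀.asIdeal ∧ r • b i = 1 ⊗ₜ[A] s := by
    intro i
    obtain ⟨r, hr, s, e⟩ := Ideal.Fiber.exists_smul_eq_one_tmul _ (b i)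
    exact ⟨r, s, hr, e⟩
  choose r c hr hc using h1
  let N : Submodule A C := Submodule.span A (Set.range c)
  -- exactness
  have key : ∀ p : PrimeSpectrum A, p ∉ Module.support A (C ⧸ N) ↔
      Submodule.span p.asIdeal.ResidueField (Set.range fun i => (1 : p.asIdeal.ResidueField) ⊗ₜ[A] c i) = ⊤ := by
    intro p
    rw [Module.mem_support_iff_nontrivial_residueField_tensorProduct, not_nontrivial_iff_subsingleton]
    have hex := lTensor_exact p.asIdeal.ResidueField (f := N.subtype) (g := N.mkQ) (LinearMap.exact_subtype_mkQ N) N.mkQ_surjective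
    have hsurj := LinearMap.lTensor_surjective p.asIdeal.ResidueField N.mkQ_surjective
    have h2 : Submodule.span p.asIdeal.ResidueField (Set.range fun i => (1 : p.asIdeal.ResidueField) ⊗ₜ[A] c i) = N.baseChange _ := by
      rw [Submodule.baseChange_span, ← Set.range_comp]
      rfl
    rw [h2]
    show _ ↔ LinearMap.range (N.subtype.baseChange p.asIdeal.ResidueField) = ⊤
    rw [LinearMap.range_eq_top]
    show _ ↔ Function.Surjective (LinearMap.lTensor p.asIdeal.ResidueField N.subtype)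
    constructor
    · intro h x
      exact (hex x).1 (Subsingleton.elim _ _)
    · intro h
      refine ⟨fun x y => ?_⟩
      obtain ⟨x, rfl⟩ := hsurj x
      obtain ⟨y, rfl⟩ := hsurj y
      rw [(hex x).2 (h x), (hex y).2 (h y)]
  have h0 : p₀ ∉ Module.support A (C ⧸ N) := by
    rw [key, ← top_le_iff, ← b.span_eq, Submodule.span_le]
    rintro _ ⟨i, rfl⟩
    have h3 : (algebraMap A p₀.asIdeal.ResidueField (r i)) • b i = 1 ⊗ₜ[A] (c i) := by
      rw [algebraMap_smul]; exact hc i
    have h4 : algebraMap A p₀.asIdeal.ResidueField (r i) ≠ 0 := fun h =>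
      hr i (Ideal.algebraMap_residueField_eq_zero.1 h)
    rw [← inv_smul_smul₀ h4 (b i), h3]
    exact Submodule.smul_mem _ _ (Submodule.subset_span ⟨i, rfl⟩)
  rw [Module.support_eq_zeroLocus, PrimeSpectrum.mem_zeroLocus, Set.not_subset] at h0
  obtain ⟨a, ha, ha'⟩ := h0
  refine ⟨a, ha', fun p hp => ?_⟩
  have h5 : p ∉ Module.support A (C ⧸ N) := by
    rw [Module.support_eq_zeroLocus, PrimeSpectrum.mem_zeroLocus, Set.not_subset]
    exact ⟨a, ha, hp⟩
  rw [key] at h5
  rw [← finrank_top p.asIdeal.ResidueField (p.asIdeal.ResidueField ⊗[A] C), ← h5]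
  exact (finrank_range_le_card _).trans (by simp)

/-- If `J₀ ≤ J₁` and the ranks of the fibres at `p` agree then an element of `J₁` lies in all
primes above `J₀` and `p`. -/
lemma mem_of_finrank_eq {A B : Type u} [CommRing A] [CommRing B] [Algebra A B] [Module.Finite A B]
    (J₀ J₁ : Ideal B) (hJ : J₀ ≤ J₁) (q : PrimeSpectrum B) (hq : J₀ ≤ q.asIdeal)
    (h : Module.finrank (q.comap (algebraMap A B)).asIdeal.ResidueField
        ((q.comap (algebraMap A B)).asIdeal.ResidueField ⊗[A] (B ⧸ J₀)) ≤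
      Module.finrank (q.comap (algebraMap A B)).asIdeal.ResidueField
        ((q.comap (algebraMap A B)).asIdeal.ResidueField ⊗[A] (B ⧸ J₁))) : J₁ ≤ q.asIdeal := by
  set p := q.comap (algebraMap A B) with hp
  let f : (B ⧸ J₀) →ₐ[A] (B ⧸ J₁) := Ideal.Quotient.factorₐ A hJ
  have hf : Function.Surjective f := Ideal.Quotient.factor_surjective hJ
  let g := f.toLinearMap.baseChange p.asIdeal.ResidueField
  have hg : Function.Surjective g := LinearMap.lTensor_surjective _ hf
  have hfin : Module.finrank p.asIdeal.ResidueField (p.asIdeal.ResidueField ⊗[A] (B ⧸ J₀)) =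
      Module.finrank p.asIdeal.ResidueField (p.asIdeal.ResidueField ⊗[A] (B ⧸ J₁)) :=
    le_antisymm h (LinearMap.finrank_le_finrank_of_surjective hg)
  have hginj : Function.Injective g := (LinearMap.injective_iff_surjective_of_finrank_eq_finrank hfin).2 hg
  intro j hj
  -- 1 ⊗ j = 0
  have h1 : (1 : p.asIdeal.ResidueField) ⊗ₜ[A] (Ideal.Quotient.mk J₀ j) = 0 := by
    apply hginj
    rw [map_zero]
    show (1 : p.asIdeal.ResidueField) ⊗ₜ[A] (f (Ideal.Quotient.mk J₀ j)) = 0
    have : f (Ideal.Quotient.mk J₀ j) = 0 := by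
      show Ideal.Quotient.mk J₁ j = 0
      exact Ideal.Quotient.eq_zero_iff_mem.2 hj
    rw [this, tmul_zero]
  -- map to the residue field of q
  let φ₁ : p.asIdeal.ResidueField →ₐ[A] q.asIdeal.ResidueField :=
    Ideal.ResidueField.mapₐ p.asIdeal q.asIdeal (Algebra.ofId A B) rfl
  let φ₂ : (B ⧸ J₀) →ₐ[A] q.asIdeal.ResidueField :=
    Ideal.Quotient.liftₐ J₀ (IsScalarTower.toAlgHom A B q.asIdeal.ResidueField) (fun a ha => 
      Ideal.algebraMap_residueField_eq_zero.2 (hq ha))
  let φ := Algebra.TensorProduct.lift φ₁ φ₂ (fun _ _ => Commute.all _ _)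
  have h2 := congrArg φ h1
  rw [map_zero] at h2
  have h3 : φ ((1 : p.asIdeal.ResidueField) ⊗ₜ[A] (Ideal.Quotient.mk J₀ j)) = algebraMap B q.asIdeal.ResidueField j := by
    rw [Algebra.TensorProduct.lift_tmul, map_one, one_mul]
    rfl
  rw [h3] at h2
  exact Ideal.algebraMap_residueField_eq_zero.1 h2

theorem finite_case {A B : Type u} [CommRing A] [CommRing B] [Algebra A B] [Module.Finite A B]
    (Z : Set (PrimeSpectrum B)) (hZ : IsClosed Z) (hZ' : interior Z = ∅) :
    interior (PrimeSpectrum.comap (algebraMap A B) '' Z) = ∅ := by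
  classical
  by_contra hne
  obtain ⟨p₁, hp₁⟩ := Set.nonempty_iff_ne_empty.2 hne
  obtain ⟨_, ⟨a, rfl⟩, hp₁a, ha⟩ := PrimeSpectrum.isTopologicalBasis_basic_opens.exists_subset_of_mem_open hp₁ isOpen_interior
  replace ha := ha.trans interior_subset
  obtain ⟨J, rfl⟩ := (PrimeSpectrum.isClosed_iff_zeroLocus_ideal Z).1 hZ
  -- minimal rank
  have hex : ∃ n : ℕ, ∃ J₀ : Ideal B, J₀ ≤ J ∧ J₀.FG ∧ ∃ p : PrimeSpectrum A, a ∉ p.asIdeal ∧
      Module.finrank p.asIdeal.ResidueField (p.asIdeal.ResidueField ⊗[A] (B ⧸ J₀)) = n :=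
    ⟨_, ⊥, bot_le, Submodule.fg_bot, p₁, hp₁a, rfl⟩
  obtain ⟨J₀, hJ₀, hJ₀fg, p₀, hp₀, hn⟩ := Nat.find_spec hex
  have hmin : ∀ (J₁ : Ideal B) (_ : J₁ ≤ J) (_ : J₁.FG) (p : PrimeSpectrum A) (_ : a ∉ p.asIdeal),
      Nat.find hex ≤ Module.finrank p.asIdeal.ResidueField (p.asIdeal.ResidueField ⊗[A] (B ⧸ J₁)) :=
    fun J₁ h1 h2 p hp => Nat.find_min' hex ⟨J₁, h1, h2, p, hp, rfl⟩
  obtain ⟨a', ha', husc⟩ := usc (C := B ⧸ J₀) p₀
  -- J and J₀ have the same zero locus above D(a a')
  have hJJ₀ : ∀ q : PrimeSpectrum B, J₀ ≤ q.asIdeal → algebraMap A B a ∉ q.asIdeal →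
      algebraMap A B a' ∉ q.asIdeal → J ≤ q.asIdeal := by
    intro q hq haq ha'q j hj
    have h1 : J₀ ⊔ Ideal.span {j} ≤ J := sup_le hJ₀ ((Ideal.span_singleton_le_iff_mem _).2 hj)
    have h2 : (J₀ ⊔ Ideal.span {j}).FG := Submodule.FG.sup hJ₀fg (Submodule.fg_span_singleton j)
    have h3 := mem_of_finrank_eq (A := A) J₀ (J₀ ⊔ Ideal.span {j}) le_sup_left q hq
      (((husc (q.comap (algebraMap A B)) ha'q).trans_eq hn).trans (hmin _ h1 h2 _ haq))
    exact h3 (Ideal.mem_sup_right (Ideal.mem_span_singleton_self j))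
  -- minimal prime
  obtain ⟨p, hpmin, hpp₀⟩ := Ideal.exists_minimalPrimes_le (I := (⊥ : Ideal A)) (J := p₀.asIdeal) bot_le
  have hpprime : p.IsPrime := hpmin.1.1
  obtain ⟨q, hqZ, hqp⟩ := ha (show (⟨p, hpprime⟩ : PrimeSpectrum A) ∈ _ from fun h => hp₀ (hpp₀ h))
  have hqp' : q.asIdeal.comap (algebraMap A B) = p := congrArg PrimeSpectrum.asIdeal hqp
  have hJq : J ≤ q.asIdeal := hqZ
  -- q is a minimal prime
  have hqmin : ∀ q' : Ideal B, q'.IsPrime → q' ≤ q.asIdeal → q' = q.asIdeal := by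
    intro q' hq' hle
    refine Algebra.QuasiFinite.eq_of_le_of_under_eq (R := A) q' q.asIdeal hle ?_
    apply le_antisymm (Ideal.comap_mono hle)
    show q.asIdeal.comap (algebraMap A B) ≤ _
    rw [hqp']
    exact hpmin.2 ⟨inferInstance, bot_le⟩ (by
      have : q'.comap (algebraMap A B) ≤ q.asIdeal.comap (algebraMap A B) := Ideal.comap_mono hle
      rwa [hqp'] at this)
  -- find s ∉ q such that s J₀ is nil
  have hs : ∀ j ∈ q.asIdeal, ∃ s ∉ q.asIdeal, IsNilpotent (s * j) := by
    intro j hj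
    by_contra hcon
    push Not at hcon
    let M : Submonoid B := q.asIdeal.primeCompl ⊔ Submonoid.powers j
    have hdisj : Disjoint ((⊥ : Ideal B) : Set B) M := by
      rw [Set.disjoint_left]
      intro y hy hyM
      obtain ⟨s, hs, _, ⟨m, rfl⟩, rfl⟩ := Submonoid.mem_sup.1 hyM
      refine hcon s hs ⟨m + 1, ?_⟩
      have h1 : s * j ^ m = 0 := hy
      have : (s * j) ^ (m + 1) = (s * j ^ m) * (s ^ m * j) := by ring
      rw [this, h1, zero_mul]
    obtain ⟨Q, hQ, -, hQM⟩ := Ideal.exists_le_prime_disjoint _ _ hdisj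
    have hQq : Q ≤ q.asIdeal := by
      intro y hy
      by_contra hyq
      exact Set.disjoint_left.1 hQM hy (Submonoid.mem_sup_left hyq)
    have := hqmin Q hQ hQq
    rw [← this] at hj
    exact Set.disjoint_left.1 hQM hj (Submonoid.mem_sup_right (Submonoid.mem_powers j))
  obtain ⟨G, hG⟩ := hJ₀fg
  have hs' : ∀ F : Finset B, (∀ j ∈ F, j ∈ q.asIdeal) → ∃ s ∉ q.asIdeal, ∀ j ∈ F, IsNilpotent (s * j) := by
    intro F
    induction F using Finset.induction_on with
    | empty => exact fun _ => ⟨1, fun h => q.2.ne_top ((Ideal.eq_top_iff_one _).2 h), by simp⟩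
    | insert b s hb ih =>
      intro h
      obtain ⟨t, ht, ht'⟩ := ih (fun j hj => h j (Finset.mem_insert_of_mem hj))
      obtain ⟨u, hu, hu'⟩ := hs b (h b (Finset.mem_insert_self _ _))
      refine ⟨t * u, fun hmem => (q.2.mem_or_mem hmem).elim ht hu, fun j hj => ?_⟩
      rw [Finset.mem_insert] at hj
      rcases hj with rfl | hj
      · rw [mul_assoc]
        exact (Commute.all _ _).isNilpotent_mul_left hu'
      · rw [mul_comm t, mul_assoc]
        exact (Commute.all _ _).isNilpotent_mul_left (ht' j hj)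
  obtain ⟨s, hs1, hs2⟩ := hs' G (fun j hj => hJq (hJ₀ (hG ▸ Ideal.subset_span hj)))
  -- the open set D(s a a')
  have hopen : (PrimeSpectrum.basicOpen (s * algebraMap A B (a * a')) : Set (PrimeSpectrum B)) ⊆
      PrimeSpectrum.zeroLocus (J : Set B) := by
    intro Q hQ
    have hQ' : s * algebraMap A B (a * a') ∉ Q.asIdeal := hQ
    have h1 : s ∉ Q.asIdeal := fun h => hQ' (Ideal.mul_mem_right _ _ h)
    have h2 : algebraMap A B a ∉ Q.asIdeal := fun h => hQ' (by
      rw [map_mul, mul_left_comm]; exact Ideal.mul_mem_right _ _ h)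
    have h3 : algebraMap A B a' ∉ Q.asIdeal := fun h => hQ' (by
      rw [map_mul, ← mul_assoc]; exact Ideal.mul_mem_left _ _ h)
    refine hJJ₀ Q ?_ h2 h3
    rw [← hG, Ideal.span_le]
    intro j hj
    have h4 : s * j ∈ Q.asIdeal := by
      obtain ⟨n, hn⟩ := hs2 j hj
      exact Q.2.mem_of_pow_mem n (hn ▸ Q.asIdeal.zero_mem)
    exact (Q.2.mem_or_mem h4).resolve_left h1
  have hqin : q ∈ interior (PrimeSpectrum.zeroLocus (J : Set B)) := by
    refine interior_maximal hopen (PrimeSpectrum.basicOpen _).2 ?_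
    show s * algebraMap A B (a * a') ∉ q.asIdeal
    intro h
    rcases q.2.mem_or_mem h with h | h
    · exact hs1 h
    · have h5 : a * a' ∈ p := by rw [← hqp']; exact h
      rcases hpprime.mem_or_mem (hpprime.mem_or_mem h5 |>.elim (fun h => Ideal.mul_mem_right a' _ h) (fun h => Ideal.mul_mem_left _ a h)) with h6 | h6
      · exact hp₀ (hpp₀ h6)
      · exact ha' (hpp₀ h6)
  rw [hZ'] at hqin
  exact hqin


section Top

variable {X Y : Type*} [TopologicalSpace X] [TopologicalSpace Y]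

lemma nd_union {s t : Set X} (hs : IsNowhereDense s) (ht : IsNowhereDense t) : IsNowhereDense (s ∪ t) := by
  unfold IsNowhereDense at *
  rw [closure_union, interior_union_isClosed_of_interior_empty isClosed_closure ht, hs]

lemma nd_biUnion {ι : Type*} (s : Finset ι) (f : ι → Set X) (h : ∀ i ∈ s, IsNowhereDense (f i)) :
    IsNowhereDense (⋃ i ∈ s, f i) := by
  classical
  induction s using Finset.induction_on with
  | empty => simp [isNowhereDense_empty]
  | insert a s ha ih =>
    rw [Finset.set_biUnion_insert]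
    exact nd_union (h a (Finset.mem_insert_self _ _)) (ih fun i hi => h i (Finset.mem_insert_of_mem hi))

lemma nd_image {g : X → Y} (hg : Topology.IsOpenEmbedding g) {s : Set X} (hs : IsNowhereDense s) :
    IsNowhereDense (g '' s) := by
  unfold IsNowhereDense at *
  by_contra hne
  obtain ⟨y, hy⟩ := Set.nonempty_iff_ne_empty.2 hne
  have h1 : y ∈ closure (Set.range g) := closure_mono (Set.image_subset_range g s) (interior_subset hy)
  obtain ⟨_, hy1, ⟨x, rfl⟩⟩ := mem_closure_iff.1 h1 _ isOpen_interior hy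
  have h2 : x ∈ interior (g ⁻¹' (closure (g '' s))) := by
    rw [← hg.isOpenMap.preimage_interior_eq_interior_preimage hg.continuous]
    exact hy1
  rw [hg.isOpenMap.preimage_closure_eq_closure_preimage hg.continuous, Set.preimage_image_eq _ hg.injective, hs] at h2
  exact h2

lemma nd_preimage {g : X → Y} (hg : IsOpenMap g) (hg' : Continuous g) {s : Set Y} (hs : IsNowhereDense s) :
    IsNowhereDense (g ⁻¹' s) := by
  unfold IsNowhereDense at *
  rw [← hg.preimage_closure_eq_closure_preimage hg', ← hg.preimage_interior_eq_interior_preimage hg', hs,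
    Set.preimage_empty]

end Top

theorem ring_case {A B : Type u} [CommRing A] [CommRing B] [Algebra A B] [Algebra.FiniteType A B]
    [Algebra.QuasiFinite A B]
    (Z : Set (PrimeSpectrum B)) (hZ : IsNowhereDense Z) :
    IsNowhereDense (PrimeSpectrum.comap (algebraMap A B) '' Z) := by
  classical
  have h1 : ∀ q : PrimeSpectrum B, ∃ r : B, r ∉ q.asIdeal ∧
      IsNowhereDense (PrimeSpectrum.comap (algebraMap A B) '' (Z ∩ PrimeSpectrum.basicOpen r)) := by
    intro q
    obtain ⟨B', hB', r, hr, hbij⟩ :=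
      Algebra.QuasiFiniteAt.exists_fg_and_exists_notMem_and_awayMap_bijective (R := A) q.asIdeal
    refine ⟨r, hr, ?_⟩
    have : Module.Finite A B' := ⟨(Submodule.fg_top _).mpr hB'⟩
    let g : PrimeSpectrum B → PrimeSpectrum B' := PrimeSpectrum.comap (algebraMap B' B)
    -- h: Spec B_r → Spec B → Spec B' is an open embedding
    let i₁ := PrimeSpectrum.comap (algebraMap B (Localization.Away (r : B)))
    have hi₁ : Topology.IsOpenEmbedding i₁ := PrimeSpectrum.localization_away_isOpenEmbedding _ (r : B)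
    have hgi₁ : Topology.IsOpenEmbedding (g ∘ i₁) := by
      have e1 : g ∘ i₁ = PrimeSpectrum.comap (algebraMap B' (Localization.Away r)) ∘
          PrimeSpectrum.comap (Localization.awayMap B'.val.toRingHom r) := by
        rw [← PrimeSpectrum.comap_comp, ← PrimeSpectrum.comap_comp]
        congr 1
        ext x
        show algebraMap B (Localization.Away (r : B)) x =
          Localization.awayMap B'.val.toRingHom r (algebraMap B' _ x)
        exact (IsLocalization.map_eq (M := Submonoid.powers r) (T := Submonoid.powers (r : B)) (Q := Localization.Away (r : B)) (g := B'.val.toRingHom) (by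
          rw [Submonoid.powers_le]; exact Submonoid.mem_powers _) x).symm
      rw [e1]
      refine (PrimeSpectrum.localization_away_isOpenEmbedding _ r).comp ?_
      exact (PrimeSpectrum.isHomeomorph_comap_of_bijective hbij).isOpenEmbedding
    have h2 : IsNowhereDense ((g ∘ i₁) '' (i₁ ⁻¹' Z)) := nd_image hgi₁ (nd_preimage hi₁.isOpenMap hi₁.continuous hZ)
    have h3 := finite_case (A := A) (closure ((g ∘ i₁) '' (i₁ ⁻¹' Z))) isClosed_closure h2
    have h4 : IsNowhereDense (PrimeSpectrum.comap (algebraMap A B') '' (closure ((g ∘ i₁) '' (i₁ ⁻¹' Z)))) := by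
      unfold IsNowhereDense
      rw [IsClosed.closure_eq, h3]
      exact (PrimeSpectrum.isClosedMap_comap_of_isIntegral _ (algebraMap_isIntegral_iff.2 inferInstance)) _ isClosed_closure
    refine h4.mono ?_
    rintro _ ⟨x, ⟨hxZ, hxr⟩, rfl⟩
    have h5 : x ∈ Set.range i₁ := by
      rw [PrimeSpectrum.localization_away_comap_range (S := Localization.Away (r : B)) (r : B)]
      exact hxr
    obtain ⟨y, rfl⟩ := h5
    exact ⟨g (i₁ y), subset_closure ⟨y, hxZ, rfl⟩, rfl⟩
  choose r hr hrZ using h1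
  obtain ⟨t, ht⟩ := isCompact_univ.elim_finite_subcover (fun q : PrimeSpectrum B => (PrimeSpectrum.basicOpen (r q) : Set (PrimeSpectrum B)))
    (fun q => (PrimeSpectrum.basicOpen (r q)).2) (fun q _ => Set.mem_iUnion.2 ⟨q, hr q⟩)
  refine (nd_biUnion t (fun q => PrimeSpectrum.comap (algebraMap A B) '' (Z ∩ PrimeSpectrum.basicOpen (r q))) (fun q _ => hrZ q)).mono ?_
  rintro _ ⟨x, hxZ, rfl⟩
  obtain ⟨q, hq, hxq⟩ := Set.mem_iUnion₂.1 (ht (Set.mem_univ x))
  exact Set.mem_iUnion₂.2 ⟨q, hq, x, ⟨hxZ, hxq⟩, rfl⟩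

open AlgebraicGeometry CategoryTheory Limits in
/-- Stacks Tag 03J2: a quasi-finite morphism (locally of finite type, quasi-compact, with discrete fibres) maps closed nowhere dense subsets to nowhere dense subsets. -/
theorem result {Y X : Scheme.{u}} (f : Y ⟶ X) [LocallyQuasiFinite f] [LocallyOfFiniteType f] [QuasiCompact f]
    (T : Set ↑Y) (hT : IsClosed T) (hT' : IsNowhereDense T) : IsNowhereDense (f '' T) := by
  have h1 : ∀ (V : X.Opens) (hV : IsAffineOpen V) (U : Y.Opens) (hU : IsAffineOpen U) (e : U ≤ f ⁻¹ᵁ V),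
      IsNowhereDense (f '' (T ∩ U)) := by
    intro V hV U hU e
    have h2 := hV.SpecMap_appLE_fromSpec f hU e
    have h3 : (f.appLE V U e).hom.FiniteType := LocallyOfFiniteType.finiteType_appLE f hV hU e
    have h4 : (f.appLE V U e).hom.QuasiFinite := LocallyQuasiFinite.quasiFinite_appLE hV hU e
    algebraize [(f.appLE V U e).hom]
    have h5 := ring_case (A := Γ(X, V)) (B := Γ(Y, U)) (hU.fromSpec ⁻¹' T) 
      (nd_preimage hU.fromSpec.isOpenEmbedding.isOpenMap hU.fromSpec.continuous hT')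
    have h6 := nd_image hV.fromSpec.isOpenEmbedding h5
    refine h6.mono ?_
    rintro _ ⟨x, ⟨hxT, hxU⟩, rfl⟩
    have h7 : x ∈ Set.range hU.fromSpec := by
      rw [hU.range_fromSpec]
      exact hxU
    obtain ⟨y, rfl⟩ := h7
    refine ⟨_, ⟨y, hxT, rfl⟩, ?_⟩
    have h8 := congrArg (fun g : Spec Γ(Y, U) ⟶ X => g y) h2
    exact h8
  have h2 : ∀ (V : X.Opens) (hV : IsAffineOpen V), IsNowhereDense (f '' T ∩ V) := by
    intro V hV
    have hc : IsCompact ((f ⁻¹ᵁ V : Y.Opens) : Set Y) := QuasiCompact.isCompact_preimage _ V.2 hV.isCompact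
    have h3 : ∀ y : (f ⁻¹ᵁ V : Y.Opens), ∃ U : Y.Opens, IsAffineOpen U ∧ (y : Y) ∈ U ∧ U ≤ f ⁻¹ᵁ V := by
      intro y
      obtain ⟨U, hU, hyU, hUV⟩ := exists_isAffineOpen_mem_and_subset y.2
      exact ⟨U, hU, hyU, hUV⟩
    choose U hU hyU hUV using h3
    obtain ⟨t, ht⟩ := hc.elim_finite_subcover (fun y => (U y : Set Y)) (fun y => (U y).2)
      (fun y hy => Set.mem_iUnion.2 ⟨⟨y, hy⟩, hyU ⟨y, hy⟩⟩)
    refine (nd_biUnion t (fun y => f '' (T ∩ U y)) (fun y _ => h1 V hV (U y) (hU y) (hUV y))).mono ?_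
    rintro _ ⟨⟨x, hxT, rfl⟩, hxV⟩
    obtain ⟨y, hy, hxy⟩ := Set.mem_iUnion₂.1 (ht hxV)
    exact Set.mem_iUnion₂.2 ⟨y, hy, x, ⟨hxT, hxy⟩, rfl⟩
  unfold IsNowhereDense
  by_contra hne
  obtain ⟨x, hx⟩ := Set.nonempty_iff_ne_empty.2 hne
  obtain ⟨V, hV, hxV, hVW⟩ := exists_isAffineOpen_mem_and_subset (X := X) (U := ⟨_, isOpen_interior⟩) hx
  have h3 : x ∈ interior (closure (f '' T ∩ V)) := by
    refine interior_maximal ?_ V.2 hxV
    intro y hy
    rw [mem_closure_iff]
    intro O hO hyO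
    obtain ⟨z, ⟨hzO, hzV⟩, hzT⟩ := mem_closure_iff.1 (interior_subset (hVW hy)) _ (hO.inter V.2) ⟨hyO, hy⟩
    exact ⟨z, hzO, hzT, hzV⟩
  rw [h2 V hV] at h3
  exact h3

end Groth.Agent.S0439
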