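import Groth.Statements.S0441
import Groth.Agent.FlatB.FinCovGlobal
import Groth.Agent.S0590
import Groth.Agent.S0591
import Groth.Agent.S2075
import Groth.Agent.S2581

set_option autoImplicit false
universe u
open FlatMor

namespace Groth.Agent.S0441

section Aux

open AlgebraicGeometry CategoryTheory Limits Groth.Agent.FlatB.FinCovFac

/-- an affine scheme mapping to `U`, with surjective composite to `S` -/
lemma exists_affine_cover {U S : Scheme.{u}} (g : U ⟶ S) [Flat g] [LocallyOfFinitePresentation g]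
    [Surjective g] [CompactSpace S] :
    ∃ (U' : Scheme.{u}) (q : U' ⟶ U), IsAffine U' ∧ Flat (q ≫ g) ∧
      LocallyOfFinitePresentation (q ≫ g) ∧ Surjective (q ≫ g) := by
  have h : ∀ x : S, ∃ (u : U) (W : U.Opens), g u = x ∧ u ∈ W ∧ IsAffineOpen W := by
    intro x
    obtain ⟨u, hu⟩ := g.surjective x
    obtain ⟨W, hW, hxW, -⟩ := exists_isAffineOpen_mem_and_subset (X := U) (U := ⊤) (x := u) trivial
    exact ⟨u, W, hu, hxW, hW⟩
  choose w W hw hwW hW using h
  obtain ⟨t, ht⟩ := isCompact_univ.elim_finite_subcover (fun x : S => g '' (W x : Set U))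
    (fun x => g.isOpenMap _ (W x).2) (fun x _ => Set.mem_iUnion.2 ⟨x, w x, hwW x, hw x⟩)
  let Y : t → Scheme.{u} := fun x => (W x.1 : Scheme.{u})
  have hY : ∀ x, IsAffine (Y x) := fun x => hW x.1
  let q : (∐ Y) ⟶ U := Sigma.desc (fun x => (W x.1).ι)
  have hq1 : Flat q := IsZariskiLocalAtSource.sigmaDesc (P := (@Flat : MorphismProperty Scheme.{u})) fun x => inferInstance
  have hq2 : LocallyOfFinitePresentation q :=
    IsZariskiLocalAtSource.sigmaDesc (P := (@LocallyOfFinitePresentation : MorphismProperty Scheme.{u})) fun x => inferInstance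
  refine ⟨∐ Y, q, inferInstance, inferInstance, inferInstance, ⟨fun x => ?_⟩⟩
  obtain ⟨y, hy, hxy⟩ := Set.mem_iUnion₂.1 (ht (Set.mem_univ x))
  obtain ⟨u, hu, hux⟩ := hxy
  refine ⟨Sigma.ι Y ⟨y, hy⟩ ⟨u, hu⟩, ?_⟩
  have e : Sigma.ι Y ⟨y, hy⟩ ≫ q = (W y).ι := Sigma.ι_desc _ _
  have e' : (Sigma.ι Y ⟨y, hy⟩ ≫ q ≫ g) = (W y).ι ≫ g := by rw [← Category.assoc, e]
  have e'' := congrArg (fun z : (W y : Scheme.{u}) ⟶ S => z ⟨u, hu⟩) e'
  exact e''.trans hux

lemma descend {I : Type u} [SmallCategory I] (D : I ⥤ Scheme.{u}) (c : Cone D) {i i' : I} (φ : i' ⟶ i)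
    {X₀ X X' Y' : Scheme.{u}} {f₀ : X₀ ⟶ D.obj i} {f : X ⟶ c.pt} {q : X ⟶ X₀}
    (h : IsPullback q f f₀ (c.π.app i)) {f' : X' ⟶ Y'} {g' : Y' ⟶ D.obj i'} {pY : Y' ⟶ D.obj i}
    {pX : X' ⟶ X₀} (hpY : IsPullback pY g' (𝟙 _) (D.map φ)) (hpX : IsPullback pX f' f₀ pY) :
    IsIso g' ∧ ∃ a : X ⟶ X', IsPullback a f (f' ≫ g') (c.π.app i') ∧ IsPullback pX (f' ≫ g') f₀ (D.map φ) := by
  have h1 : IsPullback pX (f' ≫ g') f₀ (D.map φ) := by
    have := hpX.paste_vert hpY
    rwa [Category.comp_id] at this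
  have h2 : c.π.app i' ≫ D.map φ = c.π.app i := c.w φ
  let a : X ⟶ X' := h1.lift q (f ≫ c.π.app i') (by rw [h.w, Category.assoc, h2])
  refine ⟨?_, a, ?_, h1⟩
  · exact MorphismProperty.of_isPullback (P := MorphismProperty.isomorphisms _) hpY
      (inferInstanceAs (IsIso (𝟙 _)))
  · refine IsPullback.of_right ?_ (h1.lift_snd _ _ _) h1
    rw [h1.lift_fst, h2]
    exact h

end Aux

open AlgebraicGeometry CategoryTheory Limits in
/-- Stacks Tag 0CP0: for a surjective, flat morphism locally of finite presentation U → S (an fppf cover by one morphism) with S quasi-compact and quasi-separated, there is a surjective finite morphism of finite presentation S' → S that factors through U locally on S'. -/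
theorem result {U S : Scheme.{u}} (g : U ⟶ S) [Flat g] [LocallyOfFinitePresentation g] [Surjective g] [CompactSpace ↑S] [QuasiSeparatedSpace ↑S] :
    ∃ (S' : Scheme.{u}) (π : S' ⟶ S), Surjective π ∧ IsFinite π ∧ LocallyOfFinitePresentation π ∧
      ∀ y : ↑S', ∃ (V : S'.Opens) (h : ↑V ⟶ U), y ∈ V ∧ h ≫ g = V.ι ≫ π := by
  obtain ⟨U', q, hU', hqf, hqp, hqs⟩ := exists_affine_cover g
  obtain ⟨I, _, _, _, D, c, hc, hD, hD', ⟨e⟩⟩ := S0590.result S
  have hZ : IsNoetherianRing (ULift.{u} ℤ) :=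
    isNoetherianRing_of_ringEquiv ℤ (ULift.ringEquiv.symm : ℤ ≃+* ULift.{u} ℤ)
  have hZ' : IsNoetherianRing (CommRingCat.of (ULift.{u} ℤ)) := hZ
  have hnoeth : ∀ i, IsLocallyNoetherian (D.obj i) := fun i => by
    have := (hD' i).2
    exact LocallyOfFiniteType.isLocallyNoetherian (Limits.IsTerminal.from specULiftZIsTerminal (D.obj i))
  have hcomp : ∀ i, CompactSpace (D.obj i) := fun i => (hD' i).1
  have hqs' : ∀ i, QuasiSeparatedSpace (D.obj i) := fun i => inferInstance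
  let f : U' ⟶ c.pt := (q ≫ g) ≫ e.inv
  have hcpt : QuasiSeparatedSpace c.pt := quasiSeparatedSpace_of_quasiSeparated e.hom
  have hcpt' : CompactSpace c.pt := QuasiCompact.compactSpace_of_compactSpace e.hom
  have hf1 : QuasiCompact f := by
    rw [quasiCompact_iff_compactSpace]; infer_instance
  have hf2 : QuasiSeparated f := inferInstance
  have hf3 : Flat f := inferInstance
  have hf4 : LocallyOfFinitePresentation f := inferInstance
  have hf5 : Surjective f := inferInstance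
  obtain ⟨i₀, X₀, f₀, q₀, h01, h02, h03, hpb₀⟩ := S0591.result D c hc U' f
  have hX₀ : CompactSpace X₀ := QuasiCompact.compactSpace_of_compactSpace f₀
  have hX₀' : QuasiSeparatedSpace X₀ := quasiSeparatedSpace_of_quasiSeparated f₀
  -- flatness descends
  obtain ⟨i₁, φ₁, X₁', Y₁', f₁', g₁', pY, pX, hpY, hpX, hflat⟩ :=
    S2075.result D c hc i₀ f₀ (𝟙 (D.obj i₀)) f (𝟙 c.pt) (c.π.app i₀) q₀
      (IsPullback.of_vert_isIso ⟨by simp⟩) hpb₀
  obtain ⟨hg₁', a₁, ha₁, hb₁⟩ := descend D c φ₁ hpb₀ hpY hpX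
  have hl1 : Flat (f₁' ≫ g₁') := inferInstance
  have hl2 : LocallyOfFinitePresentation (f₁' ≫ g₁') := MorphismProperty.of_isPullback hb₁ h01
  have hl3 : QuasiCompact (f₁' ≫ g₁') := MorphismProperty.of_isPullback hb₁ h02
  have hl4 : QuasiSeparated (f₁' ≫ g₁') := MorphismProperty.of_isPullback hb₁ h03
  -- surjectivity descends
  have hl2' : LocallyOfFinitePresentation ((f₁' ≫ g₁') ≫ 𝟙 (D.obj i₁)) := by rwa [Category.comp_id]
  have hl3' : QuasiCompact ((f₁' ≫ g₁') ≫ 𝟙 (D.obj i₁)) := by rwa [Category.comp_id]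
  have hl4' : QuasiSeparated ((f₁' ≫ g₁') ≫ 𝟙 (D.obj i₁)) := by rwa [Category.comp_id]
  obtain ⟨i₂, φ₂, X₂', Y₂', f₂', g₂', pY₂, pX₂, hpY₂, hpX₂, hsurj⟩ :=
    S2581.result D c hc i₁ (f₁' ≫ g₁') (𝟙 (D.obj i₁)) f (𝟙 c.pt) (c.π.app i₁) a₁
      (IsPullback.of_vert_isIso ⟨by simp⟩) ha₁
  obtain ⟨hg₂', a₂, ha₂, hb₂⟩ := descend D c φ₂ ha₁ hpY₂ hpX₂
  have hm1 : Flat (f₂' ≫ g₂') := MorphismProperty.of_isPullback hb₂ hl1
  have hm2 : LocallyOfFinitePresentation (f₂' ≫ g₂') := MorphismProperty.of_isPullback hb₂ hl2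
  have hm3 : Surjective (f₂' ≫ g₂') := inferInstance
  obtain ⟨T₀, π₀, hT1, hT2, hT3⟩ := FlatB.FinCovGlobal.global_case (f₂' ≫ g₂')
  have hT4 : LocallyOfFinitePresentation π₀ := inferInstance
  refine ⟨pullback π₀ (c.π.app i₂), pullback.snd π₀ (c.π.app i₂) ≫ e.hom, inferInstance,
    inferInstance, inferInstance, fun y => ?_⟩
  have h1 := (hT3 (pullback.fst π₀ (c.π.app i₂) y)).baseChange pullback.condition ha₂
  have h2 := h1.postcomp e.hom
  have h3 : f ≫ e.hom = q ≫ g := by simp [f]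
  rw [h3] at h2
  exact h2.of_comp_right q

end Groth.Agent.S0441
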