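import Groth.Statements.S0442
import Groth.Agent.S0408
import Groth.Agent.FlatB.QfAffSpace
import Groth.Agent.FlatB.AffSpaceSmooth

set_option autoImplicit false
universe u
open FlatMor

namespace Groth.Agent.S0442

open AlgebraicGeometry CategoryTheory Limits in
/-- Stacks Tag 052E: local structure of a morphism locally of finite type at a point x whose fibre has local dimension n at x: after passing to an étale neighbourhood (X', x') of (X, x) with trivial residue field extension, X' is finite over a scheme Y smooth of relative dimension n over the base, and x' is the only point of X' over its image in Y (the source also makes the residue field of that image purely transcendental over the base point; not stated). -/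
theorem result {X S : Scheme.{u}} (f : X ⟶ S) [LocallyOfFiniteType f] (x : X) (n : ℕ) (hn : FlatMor.fibreDimAt f x = n) :
    ∃ (X' Y : Scheme.{u}) (g : X' ⟶ X) (π : X' ⟶ Y) (h : Y ⟶ S) (x' : X'), g ≫ f = π ≫ h ∧ Etale g ∧ g x' = x ∧
      Function.Surjective (g.residueFieldMap x') ∧ IsFinite π ∧ SmoothOfRelativeDimension n h ∧
      ∀ z : ↑X', π z = π x' → z = x' := by
  obtain ⟨V, U, hV, hU, e, φ, hxU, hφ, hC⟩ :=
    Groth.Agent.FlatB.QfAffSpace.exists_chart f x n hn
  let P := MvPolynomial (Fin n) Γ(S, V)
  let k : Spec Γ(X, U) ⟶ Spec (.of P) := Spec.map (CommRingCat.ofHom φ)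
  let c : Spec (.of P) ⟶ Spec Γ(S, V) :=
    Spec.map (CommRingCat.ofHom (algebraMap Γ(S, V) (MvPolynomial (Fin n) Γ(S, V))))
  have hkc : k ≫ c = Spec.map (f.appLE V U e) := by
    simp only [k, c, ← Spec.map_comp]
    congr 1
    ext1
    exact hC
  have hft : φ.FiniteType := by
    refine RingHom.FiniteType.of_comp_finiteType (f := MvPolynomial.C) ?_
    rw [hC]
    exact f.finiteType_appLE hV hU e
  have : LocallyOfFiniteType k := (HasRingHomProperty.Spec_iff (P := @LocallyOfFiniteType)).mpr hft
  have : LocallyQuasiFinite k := (HasRingHomProperty.Spec_iff (P := @LocallyQuasiFinite)).mpr hφ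
  let w : Spec Γ(X, U) := hU.primeIdealOf ⟨x, hxU⟩
  have hw : hU.fromSpec w = x := hU.fromSpec_primeIdealOf ⟨x, hxU⟩
  obtain ⟨U₁, g₁, u, hg₁, hu, hres, V₁, v, hclopen, hfin, hvV, hfst, hsnd, hsurj, huniq⟩ :=
    Groth.Agent.S0408.result k w (k.quasiFiniteAt w)
  have hsm : SmoothOfRelativeDimension n c :=
    Groth.Agent.FlatB.AffSpaceSmooth.smoothOfRelativeDimension_SpecMap Γ(S, V) n
  have hsm2 : SmoothOfRelativeDimension 0 g₁ := inferInstance
  refine ⟨V₁, U₁, V₁.ι ≫ pullback.fst k g₁ ≫ hU.fromSpec, V₁.ι ≫ pullback.snd k g₁,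
    g₁ ≫ c ≫ hV.fromSpec, ⟨v, hvV⟩, ?_, inferInstance, ?_, ?_, hfin, ?_, ?_⟩
  · simp only [Category.assoc]
    rw [← IsAffineOpen.SpecMap_appLE_fromSpec f hV hU e, ← hkc, ← pullback.condition_assoc,
      Category.assoc]
  · simp only [Scheme.Hom.comp_apply]
    change hU.fromSpec (pullback.fst k g₁ v) = x
    rw [hfst, hw]
  · rw [Scheme.residueFieldMap_comp, Scheme.residueFieldMap_comp]
    exact (Groth.Agent.S0408.residueFieldMap_surjective_of_surjectiveOnStalks V₁.ι _).comp
      (hsurj.comp (Groth.Agent.S0408.residueFieldMap_surjective_of_surjectiveOnStalks hU.fromSpec _))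
  · have h1 : SmoothOfRelativeDimension (n + 0) (c ≫ hV.fromSpec) := inferInstance
    have h2 : SmoothOfRelativeDimension (0 + (n + 0)) (g₁ ≫ c ≫ hV.fromSpec) := inferInstance
    simpa only [zero_add, add_zero] using h2
  · intro z hz
    have hz' : pullback.snd k g₁ z.1 = u := by
      have : pullback.snd k g₁ z.1 = pullback.snd k g₁ v := hz
      rw [this, hsnd]
    exact Subtype.ext (huniq z.1 hz' (Or.inl z.2))

end Groth.Agent.S0442
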