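import Groth.Statements.S0443
import Mathlib.RingTheory.Unramified.LocalRing
import Mathlib.AlgebraicGeometry.Morphisms.RingHomProperties

set_option autoImplicit false
universe u
open FlatMor

namespace Groth.Agent.S0443

open AlgebraicGeometry CategoryTheory Limits

theorem ring_finite {A B : Type u} [CommRing A] [CommRing B] (φ : A →+* B) (hφ : φ.Finite)
    (q : Ideal B) [q.IsPrime]
    (H : ∀ q' : Ideal B, q'.IsPrime → q'.comap φ = q.comap φ → q' = q) :
    (Localization.localRingHom (q.comap φ) q φ rfl).Finite := by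
  algebraize [φ]
  have hlo : q.LiesOver (q.comap φ) := ⟨rfl⟩
  let := Localization.AtPrime.algebraOfLiesOver (q.comap φ) q
  have hq : (q.comap φ).primesOver B = {q} := by
    ext q'
    constructor
    · rintro ⟨h1, h2⟩
      exact H q' h1 h2.over.symm
    · rintro rfl
      exact ⟨inferInstance, hlo⟩
  exact Localization.finite_of_primesOver_eq_singleton hq

set_option backward.isDefEq.respectTransparency false in
theorem aux {X Y : Scheme.{u}} (π : X ⟶ Y) [IsFinite π] (x : X)
    (hx : ∀ x' : ↑X, π x' = π x → x' = x) :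
    (π.stalkMap x).hom.Finite := by
  have hQ' := RingHom.finite_respectsIso
  wlog h : IsAffine Y generalizing X Y π
  · obtain ⟨U, hU, hfx, _⟩ := TopologicalSpace.Opens.isBasis_iff_nbhd.mp Y.isBasis_affineOpens
      (TopologicalSpace.Opens.mem_top <| π x)
    rw [← hQ'.arrow_mk_iso_iff (morphismRestrictStalkMap π U ⟨x, hfx⟩)]
    refine this (π ∣_ U) ⟨x, hfx⟩ ?_ hU
    intro x' hx'
    have h1 : π ((π ⁻¹ᵁ U).ι x') = π x := by
      have := congrArg (Scheme.Opens.ι U) hx'
      simpa using this
    exact Subtype.ext (hx _ h1)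
  have hX : IsAffine X := isAffine_of_isAffineHom π
  wlog hXY : ∃ R S, Y = Spec R ∧ X = Spec S generalizing X Y
  · have : ((X.isoSpec.inv ≫ π ≫ Y.isoSpec.hom).stalkMap (X.isoSpec.hom x)).hom.Finite := by
      refine this _ (X.isoSpec.hom x) ?_ inferInstance inferInstance ?_
      · intro x' hx'
        have h1 : π (X.isoSpec.inv x') = π x := by
          have := congrArg Y.isoSpec.inv hx'
          simpa using this
        have h2 := hx _ h1
        rw [← h2]
        simp
      · use Γ(Y, ⊤), Γ(X, ⊤)
    rw [Scheme.Hom.stalkMap_comp, Scheme.Hom.stalkMap_comp, CommRingCat.hom_comp,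
      hQ'.cancel_right_isIso, CommRingCat.hom_comp, hQ'.cancel_left_isIso] at this
    have heq : (X.isoSpec.inv (X.isoSpec.hom x)) = x := by simp
    rwa [hQ'.arrow_mk_iso_iff (π.arrowStalkMapIsoOfEq heq)] at this
  obtain ⟨R, S, rfl, rfl⟩ := hXY
  obtain ⟨φ, rfl⟩ := Spec.map_surjective π
  rw [hQ'.arrow_mk_iso_iff (Scheme.arrowStalkMapSpecIso φ _)]
  have hfin : φ.hom.Finite := (IsFinite.SpecMap_iff φ).mp inferInstance
  refine ring_finite φ.hom hfin x.asIdeal ?_
  intro q' hq' hq
  have := hx ⟨q', hq'⟩ (PrimeSpectrum.ext hq)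
  exact congrArg PrimeSpectrum.asIdeal this

open AlgebraicGeometry CategoryTheory Limits in
/-- Stacks Tag 05B8: for a finite morphism and a point x that is the only point in its fibre, the induced map of local rings from the target to the source at x is finite (this is one of four parts of the source lemma; the others are not stated). -/
theorem result {X Y : Scheme.{u}} (π : X ⟶ Y) [IsFinite π] (x : X) (hx : ∀ x' : ↑X, π x' = π x → x' = x) :
    (π.stalkMap x).hom.Finite :=
  aux π x hx

end Groth.Agent.S0443
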