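import Groth.Statements.S0444
import Groth.Agent.Ega4B.DimFT
import Mathlib.RingTheory.ZariskisMainTheorem
import Mathlib.RingTheory.NoetherNormalization
import Mathlib.RingTheory.KrullDimension.Polynomial
import Mathlib.RingTheory.KrullDimension.NonZeroDivisors
import Mathlib.RingTheory.KrullDimension.Field
import Mathlib.RingTheory.AlgebraicIndependent.TranscendenceBasis
import Mathlib.RingTheory.TensorProduct.Quotient
import Mathlib.RingTheory.Localization.BaseChange
import Mathlib.RingTheory.Ideal.GoingUp
import Mathlib.RingTheory.QuasiFinite.Weakly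

set_option autoImplicit false
universe u
open FlatMor

namespace Groth.Agent.S0444

open TensorProduct

/-- The dimension of an algebra which is finite over a polynomial ring contained in it. -/
theorem ringKrullDim_eq_of_finite_inj {k T : Type u} [Field k] [CommRing T] [Algebra k T] (r : ℕ)
    (g : MvPolynomial (Fin r) k →ₐ[k] T) (hg : Function.Injective g) (hgf : g.Finite) :
    ringKrullDim T = r := by
  apply le_antisymm
  · have h : ringKrullDim T ≤ ringKrullDim (MvPolynomial (Fin r) k) := by
      algebraize [g.toRingHom]
      have : Algebra.IsIntegral (MvPolynomial (Fin r) k) T :=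
        have : Module.Finite (MvPolynomial (Fin r) k) T := hgf
        inferInstance
      refine Order.krullDim_le_of_strictMono
        (PrimeSpectrum.comap (algebraMap (MvPolynomial (Fin r) k) T)) ?_
      intro p q hpq
      exact Ideal.IsIntegral.comap_lt_comap hpq
    rw [MvPolynomial.ringKrullDim_of_isNoetherianRing, ringKrullDim_eq_zero_of_field] at h
    simpa using h
  · algebraize [g.toRingHom]
    have : Algebra.IsIntegral (MvPolynomial (Fin r) k) T :=
      have : Module.Finite (MvPolynomial (Fin r) k) T := hgf
      inferInstance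
    obtain ⟨Q, -, hQ, hQ'⟩ := Ideal.exists_ideal_over_prime_of_isIntegral
      (S := T) (⊥ : Ideal (MvPolynomial (Fin r) k)) ⊥ (by
        intro x hx
        rw [Ideal.mem_comap, Ideal.mem_bot] at hx
        rw [Ideal.mem_bot]
        exact hg (hx.trans (map_zero g).symm))
    refine le_trans ?_ (ringKrullDim_quotient_le Q)
    have : Algebra.FiniteType k T := by
      refine RingHom.finiteType_algebraMap.mp ?_
      have h1 : (algebraMap k (MvPolynomial (Fin r) k)).FiniteType :=
        RingHom.finiteType_algebraMap.mpr inferInstance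
      have h2 := (RingHom.Finite.finiteType hgf).comp h1
      rwa [AlgHom.toRingHom_eq_coe, AlgHom.comp_algebraMap] at h2
    obtain ⟨n, hn1, hn2⟩ := Groth.Agent.Ega4B.DimFT.exists_dim k (T ⧸ Q)
    rw [hn2]
    have hinj : Function.Injective ((Ideal.Quotient.mkₐ k Q).comp g) := by
      rw [injective_iff_map_eq_zero]
      intro x hx
      rw [AlgHom.comp_apply, Ideal.Quotient.mkₐ_eq_mk, Ideal.Quotient.eq_zero_iff_mem] at hx
      have : x ∈ Q.comap (algebraMap (MvPolynomial (Fin r) k) T) := hx
      rwa [hQ', Ideal.mem_bot] at this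
    have h := trdeg_le_of_injective _ hinj
    rw [hn1, MvPolynomial.trdeg_of_isDomain] at h
    simp only [Cardinal.mk_fin, Cardinal.lift_natCast, Nat.cast_le] at h
    exact_mod_cast h

/-- Over a valuation ring, elements lifting algebraically independent elements of the special
fibre are algebraically independent. -/
theorem aeval_injective {R S T : Type u} [CommRing R] [IsDomain R] [ValuationRing R] [CommRing S]
    [IsDomain S] [Algebra R S] (hinj : Function.Injective (algebraMap R S))
    [CommRing T] [Algebra (IsLocalRing.ResidueField R) T] (r : ℕ)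
    (g : MvPolynomial (Fin r) (IsLocalRing.ResidueField R) →ₐ[IsLocalRing.ResidueField R] T)
    (hg : Function.Injective g) (π : S →+* T)
    (hπ : π.comp (algebraMap R S) =
      (algebraMap (IsLocalRing.ResidueField R) T).comp (IsLocalRing.residue R))
    (s : Fin r → S) (hs : ∀ i, π (s i) = g (MvPolynomial.X i)) :
    Function.Injective (MvPolynomial.aeval s : MvPolynomial (Fin r) R →ₐ[R] S) := by
  classical
  rw [injective_iff_map_eq_zero]
  intro p hp
  by_contra hp0
  obtain ⟨c, hc⟩ : ∃ c, Ideal.span (p.support.image p.coeff : Set R) = Ideal.span {c} := by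
    obtain ⟨a, ha⟩ : (Ideal.span ((p.support.image p.coeff : Finset R) : Set R)).IsPrincipal :=
      IsBezout.isPrincipal_of_FG _ ⟨_, rfl⟩
    exact ⟨a, by rw [ha, Ideal.submodule_span_eq]⟩
  have hdvd : ∀ m, c ∣ p.coeff m := by
    intro m
    by_cases hm : p.coeff m = 0
    · rw [hm]; exact dvd_zero _
    · rw [← Ideal.mem_span_singleton, ← hc]
      apply Ideal.subset_span
      simp only [Finset.coe_image, Set.mem_image, Finset.mem_coe, MvPolynomial.mem_support_iff]
      exact ⟨m, hm, rfl⟩
  have hc0 : c ≠ 0 := by
    rintro rfl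
    apply hp0
    ext m
    simpa using hdvd m
  obtain ⟨q, hq⟩ : ∃ q : MvPolynomial (Fin r) R, p = MvPolynomial.C c * q := by
    have := (MvPolynomial.C_dvd_iff_dvd_coeff c p).2 hdvd
    exact this
  -- some coefficient of `q` is a unit
  have hunit : ∃ m, IsUnit (q.coeff m) := by
    by_contra hcon
    push Not at hcon
    have hle : Ideal.span (p.support.image p.coeff : Set R) ≤
        Ideal.span {c} * IsLocalRing.maximalIdeal R := by
      rw [Ideal.span_le]
      intro x hx
      simp only [Finset.coe_image, Set.mem_image, Finset.mem_coe, MvPolynomial.mem_support_iff] at hx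
      obtain ⟨m, _, rfl⟩ := hx
      rw [hq, MvPolynomial.coeff_C_mul]
      exact Ideal.mul_mem_mul (Ideal.mem_span_singleton_self c)
        ((IsLocalRing.mem_maximalIdeal _).2 (hcon m))
    rw [hc, Ideal.span_singleton_le_iff_mem, Ideal.mem_span_singleton_mul] at hle
    obtain ⟨z, hz, hz'⟩ := hle
    have : z = 1 := mul_left_cancel₀ hc0 (by rw [hz', mul_one])
    rw [this] at hz
    exact (IsLocalRing.mem_maximalIdeal _).1 hz isUnit_one
  have hq0 : MvPolynomial.aeval s q = 0 := by
    rw [hq, map_mul] at hp
    refine (mul_eq_zero.1 hp).resolve_left ?_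
    rw [MvPolynomial.aeval_C]
    exact (map_ne_zero_iff _ hinj).2 hc0
  have hmap : g (MvPolynomial.map (IsLocalRing.residue R) q) = 0 := by
    have : (g.toRingHom.comp (MvPolynomial.map (IsLocalRing.residue R))) =
        π.comp (MvPolynomial.aeval s : MvPolynomial (Fin r) R →ₐ[R] S).toRingHom := by
      refine MvPolynomial.ringHom_ext ?_ ?_
      · intro a
        simp only [AlgHom.toRingHom_eq_coe, RingHom.comp_apply, RingHom.coe_coe,
          MvPolynomial.map_C, MvPolynomial.aeval_C]
        have h3 := RingHom.congr_fun hπ a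
        simp only [RingHom.comp_apply] at h3
        rw [h3, ← MvPolynomial.algebraMap_eq, AlgHom.commutes]
      · intro i
        simp [hs]
    have h2 := RingHom.congr_fun this q
    simp only [AlgHom.toRingHom_eq_coe, RingHom.comp_apply, RingHom.coe_coe] at h2
    rw [h2, hq0, map_zero]
  rw [map_eq_zero_iff _ hg] at hmap
  obtain ⟨m, hm⟩ := hunit
  have := congrArg (MvPolynomial.coeff m) hmap
  rw [MvPolynomial.coeff_map, MvPolynomial.coeff_zero, IsLocalRing.residue_eq_zero_iff,
    IsLocalRing.mem_maximalIdeal] at this
  exact this hm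

/-- A finite type extension of domains with a nonempty finite closed fibre is algebraic. -/
theorem isAlgebraic_of_finite_quotient {P S T : Type u} [CommRing P] [CommRing S] [IsDomain S]
    [Algebra P S] [FaithfulSMul P S] [Algebra.FiniteType P S] [CommRing T] [Nontrivial T]
    (π : S →+* T) (hπ : Function.Surjective π) (J : Ideal P)
    (hJ : RingHom.ker π = J.map (algebraMap P S))
    (hfin : (π.comp (algebraMap P S)).Finite) :
    Algebra.IsAlgebraic P S := by
  have : IsDomain P := (FaithfulSMul.algebraMap_injective P S).isDomain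
  obtain ⟨q, hq, hJq⟩ := Ideal.exists_le_maximal _ (RingHom.ker_ne_top π)
  have : q.IsPrime := hq.isPrime
  have hJq' : J ≤ q.under P := Ideal.map_le_iff_le_comap.1 (hJ ▸ hJq)
  have hle : RingHom.ker π ≤ (q.under P).map (algebraMap P S) := hJ ▸ Ideal.map_mono hJq'
  have : Module.Finite P (S ⧸ RingHom.ker π) := by
    rw [← RingHom.finite_algebraMap]
    have h2 := (RingHom.Finite.of_surjective
      (RingHom.quotientKerEquivOfSurjective hπ).symm.toRingHom
      (RingHom.quotientKerEquivOfSurjective hπ).symm.surjective).comp hfin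
    convert h2 using 1
    ext x
    simp only [RingEquiv.toRingHom_eq_coe, RingHom.comp_apply, RingHom.coe_coe]
    rw [RingEquiv.eq_symm_apply]
    rfl
  have : Module.Finite P (S ⧸ (q.under P).map (algebraMap P S)) :=
    Module.Finite.of_surjective (Ideal.Quotient.factorₐ P hle).toLinearMap
      (Ideal.Quotient.factor_surjective hle)
  have h1 : Algebra.WeaklyQuasiFiniteAt P q := by
    rw [Algebra.WeaklyQuasiFiniteAt]
    infer_instance
  have h2 : Algebra.QuasiFiniteAt P q := Algebra.QuasiFiniteAt.of_weaklyQuasiFiniteAt q
  have h3 : Algebra.QuasiFiniteAt P (⊥ : Ideal S) := Algebra.QuasiFiniteAt.of_le (bot_le (a := q))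
  obtain ⟨S', hS', r, hr, hb⟩ :=
    Algebra.QuasiFiniteAt.exists_fg_and_exists_notMem_and_awayMap_bijective (R := P) (⊥ : Ideal S)
  have hint : ∀ y : S', IsIntegral P (y : S) := by
    intro y
    have : Module.Finite P S' := ⟨(Submodule.fg_top _).mpr hS'⟩
    exact (Algebra.IsIntegral.isIntegral (R := P) y).map S'.val
  have hr0 : (r : S) ≠ 0 := fun h => hr (by rw [h]; exact zero_mem _)
  refine ⟨fun x => ?_⟩
  -- `r ^ n * x ∈ S'`
  obtain ⟨y, hy⟩ := hb.2 (algebraMap S (Localization.Away (S'.val.toRingHom r)) x)
  obtain ⟨z, ⟨_, n, rfl⟩, rfl⟩ := IsLocalization.exists_mk'_eq (.powers r) y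
  have hz : (z : S) = (r : S) ^ n * x := by
    have hinj : Function.Injective (algebraMap S (Localization.Away (S'.val.toRingHom r))) :=
      IsLocalization.injective (M := .powers (S'.val.toRingHom r)) _
        (powers_le_nonZeroDivisors_of_noZeroDivisors hr0)
    apply hinj
    rw [map_mul, ← hy, Localization.awayMap, IsLocalization.Away.map, IsLocalization.map_mk']
    have := IsLocalization.mk'_spec' (M := .powers (S'.val.toRingHom r))
      (Localization.Away (S'.val.toRingHom r)) (S'.val.toRingHom z)
      (⟨S'.val.toRingHom (r ^ n), by rw [map_pow]; exact ⟨n, rfl⟩⟩ : Submonoid.powers (S'.val.toRingHom r))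
    simp only [AlgHom.toRingHom_eq_coe, RingHom.coe_coe, Subalgebra.coe_val, SubmonoidClass.coe_pow] at this ⊢
    rw [← this]
  have hrn : (r : S) ^ n ∈ nonZeroDivisors S := mem_nonZeroDivisors_of_ne_zero (pow_ne_zero _ hr0)
  refine IsAlgebraic.of_mul hrn ((hint r).pow n).isAlgebraic ?_
  rw [← hz]
  exact (hint z).isAlgebraic

/-- Dimension of the special fibre = transcendence degree of `S` over `R`. -/
theorem exists_dims {R S : Type u} [CommRing R] [IsDomain R] [ValuationRing R] [CommRing S] [IsDomain S] [Algebra R S]
    (hinj : Function.Injective (algebraMap R S)) [Algebra.FiniteType R S]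
    [Nontrivial (IsLocalRing.ResidueField R ⊗[R] S)] :
    ∃ r : ℕ, ringKrullDim (IsLocalRing.ResidueField R ⊗[R] S) = r ∧ Algebra.trdeg R S = r := by
  obtain ⟨r, g, hg, hgf⟩ := exists_finite_inj_algHom_of_fg (IsLocalRing.ResidueField R)
    (IsLocalRing.ResidueField R ⊗[R] S)
  refine ⟨r, ringKrullDim_eq_of_finite_inj r g hg hgf, ?_⟩
  have hres : Function.Surjective (algebraMap R (IsLocalRing.ResidueField R)) :=
    IsLocalRing.residue_surjective
  have hsurj : Function.Surjective (Algebra.TensorProduct.includeRight :
      S →ₐ[R] IsLocalRing.ResidueField R ⊗[R] S) :=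
    Algebra.TensorProduct.includeRight_surjective _ hres
  choose s hs using fun i : Fin r => hsurj (g (MvPolynomial.X i))
  have hinj' := aeval_injective hinj r g hg
    (Algebra.TensorProduct.includeRight : S →ₐ[R] IsLocalRing.ResidueField R ⊗[R] S).toRingHom
    (by
      ext x
      simp only [AlgHom.toRingHom_eq_coe, RingHom.comp_apply, RingHom.coe_coe, AlgHom.commutes]
      rfl) s hs
  let P := MvPolynomial (Fin r) R
  let φ : P →ₐ[R] S := MvPolynomial.aeval s
  let : Algebra P S := φ.toRingHom.toAlgebra
  have hφ : ∀ x : P, algebraMap P S x = φ x := fun _ => rfl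
  have : IsScalarTower R P S := IsScalarTower.of_algebraMap_eq fun x => (φ.commutes x).symm
  have : FaithfulSMul P S := (faithfulSMul_iff_algebraMap_injective P S).2 hinj'
  have : FaithfulSMul R P := (faithfulSMul_iff_algebraMap_injective R P).2 (MvPolynomial.C_injective _ _)
  have : Algebra.FiniteType P S := Algebra.FiniteType.of_restrictScalars_finiteType R P S
  let π : S →+* IsLocalRing.ResidueField R ⊗[R] S :=
    (Algebra.TensorProduct.includeRight : S →ₐ[R] IsLocalRing.ResidueField R ⊗[R] S).toRingHom
  have hker : RingHom.ker π =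
      ((IsLocalRing.maximalIdeal R).map (algebraMap R P)).map (algebraMap P S) := by
    rw [Ideal.map_map, ← IsScalarTower.algebraMap_eq]
    apply le_antisymm
    · intro x hx
      rw [RingHom.mem_ker] at hx
      have hx' : x ⊗ₜ[R] (1 : R ⧸ IsLocalRing.maximalIdeal R) = 0 := by
        have := congrArg (TensorProduct.comm R (IsLocalRing.ResidueField R) S) hx
        rw [map_zero] at this
        exact this
      rw [← Ideal.Quotient.eq_zero_iff_mem]
      apply (Algebra.TensorProduct.quotIdealMapEquivTensorQuot S
        (IsLocalRing.maximalIdeal R)).injective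
      rw [map_zero]
      exact hx'
    · rw [Ideal.map_le_iff_le_comap]
      intro x hx
      rw [Ideal.mem_comap, RingHom.mem_ker]
      change (Algebra.TensorProduct.includeRight : S →ₐ[R] IsLocalRing.ResidueField R ⊗[R] S)
        (algebraMap R S x) = 0
      rw [AlgHom.commutes, IsScalarTower.algebraMap_apply R (IsLocalRing.ResidueField R)]
      have : algebraMap R (IsLocalRing.ResidueField R) x = 0 := Ideal.Quotient.eq_zero_iff_mem.2 hx
      rw [this, map_zero]
  have hfin : (π.comp (algebraMap P S)).Finite := by
    have h1 : (MvPolynomial.map (σ := Fin r) (IsLocalRing.residue R)).Finite :=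
      RingHom.Finite.of_surjective _ (MvPolynomial.map_surjective _ IsLocalRing.residue_surjective)
    have h3 := RingHom.Finite.comp hgf h1
    convert h3 using 1
    refine MvPolynomial.ringHom_ext ?_ ?_
    · intro a
      change π (MvPolynomial.aeval s (MvPolynomial.C a)) =
        g (MvPolynomial.map (IsLocalRing.residue R) (MvPolynomial.C a))
      rw [MvPolynomial.aeval_C, MvPolynomial.map_C, ← MvPolynomial.algebraMap_eq, AlgHom.commutes]
      exact (Algebra.TensorProduct.includeRight :
        S →ₐ[R] IsLocalRing.ResidueField R ⊗[R] S).commutes a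
    · intro i
      change π (MvPolynomial.aeval s (MvPolynomial.X i)) =
        g (MvPolynomial.map (IsLocalRing.residue R) (MvPolynomial.X i))
      rw [MvPolynomial.aeval_X, MvPolynomial.map_X]
      exact hs i
  have halg : Algebra.IsAlgebraic P S :=
    isAlgebraic_of_finite_quotient π hsurj _ hker hfin
  have h1 := trdeg_add_eq R P (A := S)
  rw [MvPolynomial.trdeg_of_isDomain, trdeg_eq_zero, add_zero] at h1
  rw [← h1]
  simp

/-- Stacks Tag 00QK: for a valuation ring R and a domain S of finite type over R containing R, if the special fibre of S is nonempty then it has the same dimension as the generic fibre (the source adds that the special fibre is equidimensional; not stated). -/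
theorem result {R S : Type u} [CommRing R] [IsDomain R] [ValuationRing R] [CommRing S] [IsDomain S] [Algebra R S]
    (hinj : Function.Injective (algebraMap R S)) [Algebra.FiniteType R S]
    [Nontrivial (IsLocalRing.ResidueField R ⊗[R] S)] :
    ringKrullDim (IsLocalRing.ResidueField R ⊗[R] S) = ringKrullDim (FractionRing R ⊗[R] S) := by
  obtain ⟨r, hr, hr'⟩ := exists_dims (R := R) (S := S) hinj
  rw [hr]
  have hM : Algebra.algebraMapSubmonoid S (nonZeroDivisors R) ≤ nonZeroDivisors S := by
    rintro _ ⟨x, hx, rfl⟩
    exact mem_nonZeroDivisors_of_ne_zero ((map_ne_zero_iff _ hinj).2 (nonZeroDivisors.ne_zero hx))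
  let L := FractionRing R ⊗[R] S
  let : Algebra S L := Algebra.TensorProduct.rightAlgebra
  have : IsLocalization (Algebra.algebraMapSubmonoid S (nonZeroDivisors R)) L := inferInstance
  have : IsDomain L := IsLocalization.isDomain_of_le_nonZeroDivisors _ hM
  obtain ⟨n, hn1, hn2⟩ := Groth.Agent.Ega4B.DimFT.exists_dim (FractionRing R) L
  rw [hn2]
  have : FaithfulSMul S L := (faithfulSMul_iff_algebraMap_injective S L).2
    (IsLocalization.injective L hM)
  have : FaithfulSMul R S := (faithfulSMul_iff_algebraMap_injective R S).2 hinj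
  have hRK : Algebra.IsAlgebraic R (FractionRing R) :=
    IsLocalization.isAlgebraic _ (nonZeroDivisors R)
  have hSL : Algebra.IsAlgebraic S L :=
    IsLocalization.isAlgebraic _ (Algebra.algebraMapSubmonoid S (nonZeroDivisors R))
  have h1 := trdeg_add_eq R (FractionRing R) (A := L)
  have h2 := trdeg_add_eq R S (A := L)
  rw [trdeg_eq_zero, zero_add, hn1] at h1
  rw [trdeg_eq_zero (R := S), add_zero, hr', ← h1] at h2
  exact_mod_cast h2

end Groth.Agent.S0444
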