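import Groth.Statements.S0445

set_option autoImplicit false
universe u
open FlatMor

namespace Groth.Agent.S0445

open AlgebraicGeometry CategoryTheory Limits in
theorem aux {X Y S : Scheme.{u}} (p : Y ⟶ S) [FormallyUnramified p] [LocallyOfFiniteType p] (f g : X ⟶ Y) (hfg : f ≫ p = g ≫ p)
    (x : X) (h : X.fromSpecResidueField x ≫ f = X.fromSpecResidueField x ≫ g) :
    ∃ U : X.Opens, x ∈ U ∧ U.ι ≫ f = U.ι ≫ g := by
  let F : X ⟶ pullback p p := pullback.lift f g hfg
  let U : X.Opens := F ⁻¹ᵁ (pullback.diagonal p).opensRange
  have hF1 : F ≫ pullback.fst p p = f := pullback.lift_fst _ _ _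
  have hF2 : F ≫ pullback.snd p p = g := pullback.lift_snd _ _ _
  refine ⟨U, ?_, ?_⟩
  · let pt : Spec (X.residueField x) := IsLocalRing.closedPoint _
    have e1 : X.fromSpecResidueField x ≫ F = (X.fromSpecResidueField x ≫ f) ≫ pullback.diagonal p := by
      apply pullback.hom_ext
      · rw [Category.assoc, Category.assoc, hF1, pullback.diagonal_fst, Category.comp_id]
      · rw [Category.assoc, Category.assoc, hF2, pullback.diagonal_snd, Category.comp_id, h]
    have e2 : F x = pullback.diagonal p (f x) := by
      have := congrArg (fun k => k pt) e1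
      simpa using this
    change F x ∈ (pullback.diagonal p).opensRange
    rw [e2]
    exact ⟨_, rfl⟩
  · have hr : Set.range (U.ι ≫ F) ⊆ Set.range (pullback.diagonal p) := by
      rintro _ ⟨y, rfl⟩
      have : F (U.ι y) ∈ (pullback.diagonal p).opensRange := y.2
      simpa using this
    let k := IsOpenImmersion.lift (pullback.diagonal p) (U.ι ≫ F) hr
    have hk : k ≫ pullback.diagonal p = U.ι ≫ F := IsOpenImmersion.lift_fac _ _ _
    have h1 : k = U.ι ≫ f := by
      have := congrArg (· ≫ pullback.fst p p) hk
      simpa only [Category.assoc, hF1, pullback.diagonal_fst, Category.comp_id] using this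
    have h2 : k = U.ι ≫ g := by
      have := congrArg (· ≫ pullback.snd p p) hk
      simpa only [Category.assoc, hF2, pullback.diagonal_snd, Category.comp_id] using this
    exact h1.symm.trans h2

open AlgebraicGeometry CategoryTheory Limits in
/-- Stacks Tag 04HB: two morphisms over S into an S-scheme unramified over S which agree at a point and induce the same map on residue fields there agree on an open neighbourhood of that point. -/
theorem result {X Y S : Scheme.{u}} (p : Y ⟶ S) [FormallyUnramified p] [LocallyOfFiniteType p] (f g : X ⟶ Y) (hfg : f ≫ p = g ≫ p)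
    (x : X) (h1 : f x = g x) (h2 : f.residueFieldMap x = (Y.residueFieldCongr h1).hom ≫ g.residueFieldMap x) :
    ∃ U : X.Opens, x ∈ U ∧ U.ι ≫ f = U.ι ≫ g := by
  apply aux p f g hfg x
  rw [← Scheme.Hom.SpecMap_residueFieldMap_fromSpecResidueField,
    ← Scheme.Hom.SpecMap_residueFieldMap_fromSpecResidueField, h2, Spec.map_comp, Category.assoc,
    Scheme.residueFieldCongr_fromSpecResidueField]

end Groth.Agent.S0445
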