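import Groth.Statements.S0446
import Groth.Agent.S1202
import Groth.Agent.S0408
import Groth.Agent.UnramA.NearPoint

set_option autoImplicit false
universe u
open FlatMor

namespace Groth.Agent.S0446

open TensorProduct in
/-- transport of projectivity from `S' ⊗[S] S` to `S'` -/
theorem projective_of_restrictScalars {S R' S' : Type u} [CommRing S] [CommRing R'] [CommRing S']
    [Algebra S S'] [Algebra R' S'] (h : Module.Projective R' (RestrictScalars R' S' (S' ⊗[S] S))) :
    Module.Projective R' S' := by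
  let e : S' ⊗[S] S ≃ₗ[S'] S' := AlgebraTensorModule.rid S S' S'
  let e' : RestrictScalars R' S' (S' ⊗[S] S) ≃ₗ[R'] S' :=
    { (RestrictScalars.addEquiv R' S' (S' ⊗[S] S)).trans e.toAddEquiv with
      map_smul' := by
        intro r x
        change e ((RestrictScalars.addEquiv R' S' (S' ⊗[S] S)) (r • x)) = r • e ((RestrictScalars.addEquiv R' S' (S' ⊗[S] S)) x)
        rw [RestrictScalars.addEquiv_map_smul, map_smul, algebraMap_smul] }
  exact Module.Projective.of_equiv e'

open AlgebraicGeometry CategoryTheory Limits in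
/-- transport of projectivity to global sections of spectra -/
theorem projective_global {R' S' : Type u} [CommRing R'] [CommRing S'] [Algebra R' S']
    (h : Module.Projective R' S') :
    @Module.Projective Γ(Spec (.of R'), ⊤) _ Γ(Spec (.of S'), ⊤) _
      ((Spec.map (CommRingCat.ofHom (algebraMap R' S'))).appTop).hom.toAlgebra.toModule := by
  let := ((Spec.map (CommRingCat.ofHom (algebraMap R' S'))).appTop).hom.toAlgebra
  let σ : R' ≃+* Γ(Spec (.of R'), ⊤) := (Scheme.ΓSpecIso (.of R')).symm.commRingCatIsoToRingEquiv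
  let τ : S' ≃+* Γ(Spec (.of S'), ⊤) := (Scheme.ΓSpecIso (.of S')).symm.commRingCatIsoToRingEquiv
  have hcomm : ∀ r : R', τ (algebraMap R' S' r) =
      ((Spec.map (CommRingCat.ofHom (algebraMap R' S'))).appTop).hom (σ r) := fun r =>
    congr($(Scheme.ΓSpecIso_inv_naturality (CommRingCat.ofHom (algebraMap R' S'))).hom r)
  have i1 : RingHomInvPair (σ : R' →+* Γ(Spec (.of R'), ⊤)) (σ.symm : Γ(Spec (.of R'), ⊤) →+* R') :=
    RingHomInvPair.of_ringEquiv σ
  have i2 : RingHomInvPair (σ.symm : Γ(Spec (.of R'), ⊤) →+* R') (σ : R' →+* Γ(Spec (.of R'), ⊤)) :=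
    RingHomInvPair.of_ringEquiv σ.symm
  let e : S' ≃ₛₗ[(σ : R' →+* Γ(Spec (.of R'), ⊤))] Γ(Spec (.of S'), ⊤) :=
    { τ.toAddEquiv with
      map_smul' := fun r s => by
        change τ (r • s) = ((Spec.map (CommRingCat.ofHom (algebraMap R' S'))).appTop).hom (σ r) * τ s
        rw [Algebra.smul_def, map_mul, hcomm] }
  exact Module.Projective.of_equiv e

open AlgebraicGeometry CategoryTheory Limits in
/-- Stacks Tag 05IE: for a morphism locally of finite presentation which is flat at a point x, there are affine étale neighbourhoods (X', x') of (X, x) and (S', s') of (S, f x) with trivial residue field extensions and a compatible morphism X' → S' such that the ring of global sections of X' is a projective module over that of S'. -/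
theorem result {X S : Scheme.{u}} (f : X ⟶ S) [LocallyOfFinitePresentation f] (x : X) (hx : (f.stalkMap x).hom.Flat) :
    ∃ (X' S' : Scheme.{u}) (g : X' ⟶ X) (e : S' ⟶ S) (f' : X' ⟶ S') (x' : X'),
      IsAffine X' ∧ IsAffine S' ∧ Etale g ∧ Etale e ∧ g ≫ f = f' ≫ e ∧ g x' = x ∧ e (f' x') = f x ∧
      Function.Surjective (g.residueFieldMap x') ∧ Function.Surjective (e.residueFieldMap (f' x')) ∧
      @Module.Projective Γ(S', ⊤) _ Γ(X', ⊤) _ (f'.appTop).hom.toAlgebra.toModule := by
  obtain ⟨V, hV, hxV, -⟩ := exists_isAffineOpen_mem_and_subset (U := ⊤) (x := f x) (by trivial)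
  obtain ⟨U, hU, hxU, hUV⟩ := exists_isAffineOpen_mem_and_subset (U := f ⁻¹ᵁ V) (x := x) hxV
  have e : U ≤ f ⁻¹ᵁ V := hUV
  have hfp : (f.appLE V U e).hom.FinitePresentation := f.finitePresentation_appLE hV hU e
  let := (f.appLE V U e).hom.toAlgebra
  have : Algebra.FinitePresentation Γ(S, V) Γ(X, U) := hfp
  let P := hV.primeIdealOf ⟨f x, e hxU⟩
  let Q := hU.primeIdealOf ⟨x, hxU⟩
  have hPQ : PrimeSpectrum.comap (algebraMap Γ(S, V) Γ(X, U)) Q = P :=
    IsAffineOpen.comap_primeIdealOf_appLE V hV U hU e hxU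
  have hlo : Q.asIdeal.LiesOver P.asIdeal := ⟨congr($(hPQ).1).symm⟩
  have hflat : FlatCA.FlatAt Γ(S, V) Q.asIdeal Γ(X, U) := by
    have h1 := (Groth.Agent.UnramA.NearPoint.flat_stalkMap_iff V hV U hU e hxU).mp hx
    let e1 : LocalizedModule Q.asIdeal.primeCompl Γ(X, U) ≃ₗ[Γ(X, U)] Localization.AtPrime Q.asIdeal :=
      IsLocalizedModule.iso Q.asIdeal.primeCompl (Algebra.linearMap Γ(X, U) (Localization.AtPrime Q.asIdeal))
    exact Module.Flat.of_linearEquiv (e1.restrictScalars Γ(S, V))
  obtain ⟨R', S', _, _, _, _, _, _, _, _, p', q', _, _, hR, hS, hlies, hproj⟩ :=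
    Groth.Agent.S1202.result (R := Γ(S, V)) (S := Γ(X, U)) Γ(X, U) P.asIdeal Q.asIdeal hflat
  obtain ⟨hetR, hp'P, hresR⟩ := hR
  obtain ⟨hetS, hq'Q, hresS⟩ := hS
  have hEt1 : Etale (Spec.map (CommRingCat.ofHom (algebraMap Γ(S, V) R'))) :=
    HasRingHomProperty.Spec_iff.mpr (RingHom.etale_algebraMap.mpr hetR)
  have hEt2 : Etale (Spec.map (CommRingCat.ofHom (algebraMap Γ(X, U) S'))) :=
    HasRingHomProperty.Spec_iff.mpr (RingHom.etale_algebraMap.mpr hetS)
  refine ⟨Spec (.of S'), Spec (.of R'), Spec.map (CommRingCat.ofHom (algebraMap Γ(X, U) S')) ≫ hU.fromSpec,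
    Spec.map (CommRingCat.ofHom (algebraMap Γ(S, V) R')) ≫ hV.fromSpec,
    Spec.map (CommRingCat.ofHom (algebraMap R' S')), (⟨q', inferInstance⟩ : PrimeSpectrum S'),
    inferInstance, inferInstance, inferInstance, inferInstance, ?_, ?_, ?_, ?_, ?_,
    projective_global (projective_of_restrictScalars hproj)⟩
  · rw [Category.assoc, ← IsAffineOpen.SpecMap_appLE_fromSpec f hV hU e, ← Category.assoc,
      ← Category.assoc]
    congr 1
    rw [← Spec.map_comp, ← Spec.map_comp]
    congr 1
    ext1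
    change (algebraMap Γ(X, U) S').comp (algebraMap Γ(S, V) Γ(X, U)) =
      (algebraMap R' S').comp (algebraMap Γ(S, V) R')
    rw [← IsScalarTower.algebraMap_eq, ← IsScalarTower.algebraMap_eq]
  · rw [Scheme.Hom.comp_apply]
    have h1 : Spec.map (CommRingCat.ofHom (algebraMap Γ(X, U) S')) (⟨q', inferInstance⟩ : PrimeSpectrum S') = Q :=
      PrimeSpectrum.ext (hq'Q.over).symm
    rw [h1]
    exact hU.fromSpec_primeIdealOf ⟨x, hxU⟩
  · rw [Scheme.Hom.comp_apply]
    have h1 : Spec.map (CommRingCat.ofHom (algebraMap R' S')) (⟨q', inferInstance⟩ : PrimeSpectrum S') =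
      (⟨p', inferInstance⟩ : PrimeSpectrum R') := PrimeSpectrum.ext (hlies.over).symm
    have h2 : Spec.map (CommRingCat.ofHom (algebraMap Γ(S, V) R')) (⟨p', inferInstance⟩ : PrimeSpectrum R') = P :=
      PrimeSpectrum.ext (hp'P.over).symm
    rw [h1, h2]
    exact hV.fromSpec_primeIdealOf ⟨f x, e hxU⟩
  · rw [Scheme.residueFieldMap_comp]
    exact (Groth.Agent.S0408.residueFieldMap_SpecMap_surjective Q.asIdeal q' hresS.2).comp
      (Groth.Agent.S0408.residueFieldMap_surjective_of_surjectiveOnStalks hU.fromSpec _)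
  · have h1 : Spec.map (CommRingCat.ofHom (algebraMap R' S')) (⟨q', inferInstance⟩ : PrimeSpectrum S') =
      (⟨p', inferInstance⟩ : PrimeSpectrum R') := PrimeSpectrum.ext (hlies.over).symm
    rw [h1, Scheme.residueFieldMap_comp]
    exact (Groth.Agent.S0408.residueFieldMap_SpecMap_surjective P.asIdeal p' hresR.2).comp
      (Groth.Agent.S0408.residueFieldMap_surjective_of_surjectiveOnStalks hV.fromSpec _)

end Groth.Agent.S0446
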