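import Groth.Statements.S0447
-- import your own Groth.Agent.* helpers here
import Groth.Agent.FlatB.GeomIntFinal
import Groth.Agent.FlatB.GeomIntSch
import Groth.Agent.FlatB.GenFibDom

set_option autoImplicit false
universe u
open FlatMor

namespace Groth.Agent.S0447

theorem spread : FlatB.GeomIntApprox.Spread.{u} := fun _ B _ _ _ _ _ _ h =>
  FlatB.GenFibDom.exists_isDomain' B h

open AlgebraicGeometry CategoryTheory Limits in
/-- Stacks Tag 05FT: for a flat morphism of finite presentation between affine schemes whose fibres are geometrically integral, the coordinate ring of the source is a projective module over that of the target. -/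
theorem result {X S : Scheme.{u}} (f : X ⟶ S) [IsAffine X] [IsAffine S] [Flat f] [LocallyOfFinitePresentation f] [GeometricallyIntegral f] :
    @Module.Projective Γ(S, ⊤) _ Γ(X, ⊤) _ (f.appTop).hom.toAlgebra.toModule := by
  have hGI := FlatB.GeomIntSch.geomIntegralFibres_appTop f
  have h1 := FlatB.GeomIntSch.flat_appTop f
  have h2 := FlatB.GeomIntSch.finitePresentation_appTop f
  let _ : Algebra Γ(S, ⊤) Γ(X, ⊤) := (f.appTop).hom.toAlgebra
  exact FlatB.GeomIntFinal.projective_of_spread spread (Flat2A.GeomInt.iff_isDomain.mp hGI)

end Groth.Agent.S0447
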