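import Groth.Statements.S0451
import Groth.Agent.FlatB.FpDenseAlg

set_option autoImplicit false
universe u
open FlatMor

namespace Groth.Agent.S0451

open AlgebraicGeometry CategoryTheory Limits in
theorem exists_cover {S : Scheme.{u}} (U W : S.Opens) (hW : IsAffineOpen W) [QuasiCompact U.ι] :
    ∃ (n : ℕ) (s : Fin n → Γ(S, W)), (⨆ i, S.basicOpen (s i)) = U ⊓ W := by
  have hc : IsCompact ((U ⊓ W : S.Opens) : Set S) := by
    have h1 : IsCompact ((U.ι ⁻¹ᵁ W : U.toScheme.Opens) : Set U) := U.ι.isCompact_preimage hW.isCompact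
    have h2 := h1.image U.ι.continuous
    convert h2 using 1
    ext x
    simp only [TopologicalSpace.Opens.coe_inf, Set.mem_inter_iff, Set.mem_image]
    constructor
    · rintro ⟨hx, hx'⟩
      exact ⟨⟨x, hx⟩, hx', rfl⟩
    · rintro ⟨y, hy, rfl⟩
      exact ⟨y.2, hy⟩
  have key : ∀ x : (U ⊓ W : S.Opens), ∃ g : Γ(S, W), S.basicOpen g ≤ U ⊓ W ∧ x.1 ∈ S.basicOpen g :=
    fun x => hW.exists_basicOpen_le x x.2.2
  choose g hg hxg using key
  obtain ⟨t, ht⟩ := hc.elim_finite_subcover (fun x => (S.basicOpen (g x) : Set S))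
    (fun x => (S.basicOpen (g x)).2) (fun x hx => Set.mem_iUnion.mpr ⟨⟨x, hx⟩, hxg ⟨x, hx⟩⟩)
  refine ⟨t.card, fun i => g (t.equivFin.symm i).1, le_antisymm (iSup_le fun i => hg _) ?_⟩
  intro x hx
  obtain ⟨y, hy, hxy⟩ := Set.mem_iUnion₂.mp (ht hx)
  refine TopologicalSpace.Opens.mem_iSup.mpr ⟨t.equivFin ⟨y, hy⟩, ?_⟩
  simpa using hxy

open AlgebraicGeometry CategoryTheory Limits in
theorem injective_aux {S : Scheme.{u}} (U W : S.Opens) [QuasiCompact U.ι]
    [IsSchemeTheoreticallyDominant U.ι] (a : Γ(S, W)) {ι : Type*} (s : ι → Γ(S, W))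
    (hs : (⨆ i, S.basicOpen (s i)) = U ⊓ W)
    (ha : ∀ i, S.presheaf.map (homOfLE (S.basicOpen_le (s i))).op a = 0) : a = 0 := by
  apply U.ι.app_injective W
  rw [map_zero]
  rw [Scheme.Opens.ι_app]
  have hle : U.ι ''ᵁ (U.ι ⁻¹ᵁ W) ≤ W := by
    rw [Scheme.Hom.image_preimage_eq_opensRange_inf]
    exact inf_le_right
  change S.presheaf.map (homOfLE hle).op a = 0
  refine S.IsSheaf.section_ext fun x hx => ?_
  have hx' : x ∈ (⨆ i, S.basicOpen (s i)) := by
    rw [hs]
    rw [Scheme.Hom.image_preimage_eq_opensRange_inf] at hx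
    simpa using hx
  obtain ⟨i, hi⟩ := TopologicalSpace.Opens.mem_iSup.mp hx'
  refine ⟨S.basicOpen (s i), ?_, hi, ?_⟩
  · rw [Scheme.Hom.image_preimage_eq_opensRange_inf]
    refine le_trans (le_iSup (fun i => S.basicOpen (s i)) i) ?_
    rw [hs]
    simp
  · rw [map_zero, ← ConcreteCategory.comp_apply, ← Functor.map_comp]
    exact ha i

open AlgebraicGeometry CategoryTheory Limits in
/-- Stacks Tag 081P: a flat morphism locally of finite type which is locally of finite presentation over a quasi-compact scheme-theoretically dense open of the target is locally of finite presentation. -/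
theorem result {X S : Scheme.{u}} (f : X ⟶ S) [LocallyOfFiniteType f] [Flat f] (U : S.Opens)
    [QuasiCompact U.ι] [IsSchemeTheoreticallyDominant U.ι] [LocallyOfFinitePresentation (f ∣_ U)] : LocallyOfFinitePresentation f := by
  rw [HasRingHomProperty.iff_appLE (P := @LocallyOfFinitePresentation)]
  rintro ⟨W, hW⟩ ⟨V, hV⟩ e
  dsimp only at e ⊢
  have hft : (f.appLE W V e).hom.FiniteType := f.finiteType_appLE hW hV e
  have hfl : (f.appLE W V e).hom.Flat := f.flat_appLE hW hV e
  -- a finite family of basic opens covering `U ⊓ W`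
  obtain ⟨n, s, hs⟩ := exists_cover U W hW
  have hdense : Function.Injective (RingHom.pi (fun i => algebraMap Γ(S, W) (Localization.Away (s i)))) := by
    rw [injective_iff_map_eq_zero]
    intro a ha
    refine injective_aux U W a s hs (fun i => ?_)
    have h1 : algebraMap Γ(S, W) (Localization.Away (s i)) a = 0 := congrFun ha i
    have := hW.isLocalization_basicOpen (s i)
    have h2 : algebraMap Γ(S, W) Γ(S, S.basicOpen (s i)) a = 0 := by
      rw [IsLocalization.map_eq_zero_iff (Submonoid.powers (s i))] at h1 ⊢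
      exact h1
    exact h2
  algebraize [(f.appLE W V e).hom]
  have : Module.Flat Γ(S, W) Γ(X, V) := hfl
  refine Groth.Agent.FlatB.FpDenseAlg.finitePresentation_of_dense s hdense (fun i => ?_)
  -- the basic open of `X`
  let D' := X.basicOpen ((f.appLE W V e) (s i))
  have hD' : IsAffineOpen D' := hV.basicOpen _
  have hle : D' ≤ f ⁻¹ᵁ U := by
    intro x hx
    have h1 : x ∈ f ⁻¹ᵁ (S.basicOpen (s i)) := by
      have : D' = V ⊓ f ⁻¹ᵁ (S.basicOpen (s i)) := by
        simp only [D', Scheme.basicOpen_appLE]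
      rw [this] at hx
      exact hx.2
    have h2 : f x ∈ (⨆ i, S.basicOpen (s i)) := TopologicalSpace.Opens.mem_iSup.mpr ⟨i, h1⟩
    rw [hs] at h2
    exact h2.1
  have hle' : D' ≤ f ⁻¹ᵁ W := (X.basicOpen_le _).trans e
  have hlfp : LocallyOfFinitePresentation ((f ⁻¹ᵁ U).ι ≫ f) := by
    rw [← morphismRestrict_ι]
    infer_instance
  have haff : IsAffineOpen ((f ⁻¹ᵁ U).ι ⁻¹ᵁ D') := hD'.preimage_of_isOpenImmersion _ (by simpa using hle)
  have hcomp : ((f ⁻¹ᵁ U).ι ≫ f).appLE W ((f ⁻¹ᵁ U).ι ⁻¹ᵁ D') ((f ⁻¹ᵁ U).ι.preimage_mono hle') =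
      f.appLE W D' hle' ≫ (f ⁻¹ᵁ U).ι.app D' := by
    rw [Scheme.Hom.app_eq_appLE, Scheme.Hom.appLE_comp_appLE]
  have hiso : IsIso ((f ⁻¹ᵁ U).ι.app D') := Scheme.Hom.isIso_app _ _ (by simpa using hle)
  have hfp : (f.appLE W D' hle').hom.FinitePresentation := by
    have h1 := ((f ⁻¹ᵁ U).ι ≫ f).finitePresentation_appLE hW haff ((f ⁻¹ᵁ U).ι.preimage_mono hle')
    rw [hcomp, CommRingCat.hom_comp, RingHom.finitePresentation_respectsIso.cancel_right_isIso] at h1
    exact h1
  have hlocD := hV.isLocalization_basicOpen ((f.appLE W V e) (s i))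
  let eq : Γ(X, D') ≃ₐ[Γ(X, V)] Localization.Away (algebraMap Γ(S, W) Γ(X, V) (s i)) :=
    IsLocalization.algEquiv (Submonoid.powers ((f.appLE W V e) (s i))) _ _
  have hfin : (eq.toRingEquiv.toRingHom.comp (f.appLE W D' hle').hom).FinitePresentation :=
    (RingHom.FinitePresentation.of_bijective eq.bijective).comp hfp
  have heq : algebraMap Γ(S, W) (Localization.Away (algebraMap Γ(S, W) Γ(X, V) (s i))) =
      eq.toRingEquiv.toRingHom.comp (f.appLE W D' hle').hom := by
    have h1 : f.appLE W D' hle' = f.appLE W V e ≫ X.presheaf.map (homOfLE (X.basicOpen_le _)).op := by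
      rw [Scheme.Hom.appLE_map]
    rw [h1, CommRingCat.hom_comp, ← RingHom.comp_assoc,
      IsScalarTower.algebraMap_eq Γ(S, W) Γ(X, V) (Localization.Away _)]
    congr 1
    exact eq.toAlgHom.comp_algebraMap.symm
  rw [← RingHom.finitePresentation_algebraMap, heq]
  exact hfin

end Groth.Agent.S0451
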