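import Groth.Statements.S0449
import Groth.Agent.S0451
import Mathlib.AlgebraicGeometry.Morphisms.FlatMono
import Mathlib.AlgebraicGeometry.Morphisms.ClosedImmersion

set_option autoImplicit false
universe u
open FlatMor

namespace Groth.Agent.S0449

open AlgebraicGeometry CategoryTheory Limits in
/-- A separated flat morphism which is an isomorphism over a quasi-compact schematically dense open
is a monomorphism. -/
theorem mono_aux {X S : Scheme.{u}} (f : X ⟶ S) [IsSeparated f] [Flat f] (U : S.Opens)
    [QuasiCompact U.ι] [IsSchemeTheoreticallyDominant U.ι] [IsIso (f ∣_ U)] : Mono f := by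
  rw [← pullback.isIso_diagonal_iff]
  let g : pullback f f ⟶ S := pullback.fst f f ≫ f
  let V := g ⁻¹ᵁ U
  have hV : IsSchemeTheoreticallyDominant V.ι :=
    .of_isPullback (isPullback_morphismRestrict g U).flip.flip
  have hg : g = pullback.snd f f ≫ f := pullback.condition
  have key : (V.ι ≫ pullback.fst f f) ≫ pullback.diagonal f = V.ι := by
    apply pullback.hom_ext
    · simp
    · simp only [Category.assoc, pullback.diagonal_snd, Category.comp_id]
      -- both maps land in f ⁻¹ᵁ U
      have h1 : Set.range (V.ι ≫ pullback.fst f f) ⊆ Set.range (f ⁻¹ᵁ U).ι := by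
        rintro _ ⟨x, rfl⟩
        simp only [Scheme.Opens.range_ι]
        have hx : g x.1 ∈ U := x.2
        change f (pullback.fst f f x.1) ∈ U
        simpa only [g, Scheme.Hom.comp_apply] using hx
      have h2 : Set.range (V.ι ≫ pullback.snd f f) ⊆ Set.range (f ⁻¹ᵁ U).ι := by
        rintro _ ⟨x, rfl⟩
        simp only [Scheme.Opens.range_ι]
        have hx : g x.1 ∈ U := x.2
        change f (pullback.snd f f x.1) ∈ U
        rw [hg] at hx
        simpa only [Scheme.Hom.comp_apply] using hx
      have e : IsOpenImmersion.lift (f ⁻¹ᵁ U).ι _ h1 = IsOpenImmersion.lift (f ⁻¹ᵁ U).ι _ h2 := by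
        rw [← cancel_mono (f ∣_ U), ← cancel_mono U.ι]
        simp only [Category.assoc, morphismRestrict_ι, IsOpenImmersion.lift_fac_assoc]
        rw [pullback.condition]
      rw [← IsOpenImmersion.lift_fac (f ⁻¹ᵁ U).ι _ h1, e, IsOpenImmersion.lift_fac]
  rw [IsClosedImmersion.isIso_iff_ker_eq_bot, ← le_bot_iff, ← V.ι.ker_eq_bot]
  conv_rhs => rw [← key]
  exact Scheme.Hom.le_ker_comp _ _

open AlgebraicGeometry CategoryTheory Limits in
/-- Stacks Tag 081M: a separated, flat morphism locally of finite type that is an isomorphism over a quasi-compact, scheme-theoretically dense open of the target is an open immersion. -/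
theorem result {X S : Scheme.{u}} (f : X ⟶ S) [IsSeparated f] [LocallyOfFiniteType f] [Flat f] (U : S.Opens)
    [QuasiCompact U.ι] [IsSchemeTheoreticallyDominant U.ι] [IsIso (f ∣_ U)] : IsOpenImmersion f := by
  have := mono_aux f U
  have : LocallyOfFinitePresentation (f ∣_ U) := inferInstance
  have := Groth.Agent.S0451.result f U
  exact IsOpenImmersion.of_flat_of_mono f

end Groth.Agent.S0449
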