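import Groth.Statements.S0450
import Groth.Agent.FlatB.QFDense

set_option autoImplicit false
universe u
open FlatMor

namespace Groth.Agent.S0450

open AlgebraicGeometry CategoryTheory Limits in
/-- Stacks Tag 0B48: a flat proper morphism locally of finite presentation that is finite over a dense open subset of the target is finite (the source alternatively allows the open to be retrocompact instead of assuming finite presentation; only this alternative is stated). -/
theorem result {X S : Scheme.{u}} (f : X ⟶ S) [Flat f] [IsProper f] [LocallyOfFinitePresentation f] (U : S.Opens)
    (hU : Dense (U : Set ↑S)) [IsFinite (f ∣_ U)] : IsFinite f := by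
  have h1 : LocallyQuasiFinite (f ∣_ U) := inferInstance
  have h2 : LocallyQuasiFinite f :=
    Groth.Agent.FlatB.QFDense.locallyQuasiFinite_of_dense f (U : Set ↑S) hU
      (fun x hx => Groth.Agent.FlatB.QFDense.quasiFiniteAt_of_restrict f U x hx)
  exact IsFinite.of_isProper_of_locallyQuasiFinite f

end Groth.Agent.S0450
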