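import Groth.Statements.S0455
import Groth.Agent.CohtopA.CechFlasque

set_option autoImplicit false
universe u
open CategoryTheory
open CohTop

namespace Groth.Agent.S0455

open TopologicalSpace CategoryTheory.Limits in
/-- Stacks Tag 09SZ: if F is a flasque abelian sheaf on X, then for any family of opens the Cech cohomology groups of F in positive degree are zero. -/
theorem result {X : TopCat.{u}} (F : CohTop.Ab X) [TopCat.Sheaf.IsFlasque F]
    {ι : Type u} (U : ι → Opens X) (p : ℕ) : IsZero (CohTop.cechH F.obj U (p + 1)) :=
  Groth.Agent.CohtopA.CechFlasque.isZero_cech_of_isFlasque U p F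

end Groth.Agent.S0455
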