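import Groth.Statements.S0460
import Groth.Agent.CohtopA.KillClass

set_option autoImplicit false
universe u
open CategoryTheory
open CohTop

namespace Groth.Agent.S0460

open TopologicalSpace in
/-- Stacks Tag 01E3: given an abelian sheaf F, an open U and a class ξ in H^(n+1)(U, F), there is an open covering of U on each member of which ξ restricts to zero. -/
theorem result {X : TopCat.{u}} (F : CohTop.Ab X) (U : Opens X) (n : ℕ)
    (ξ : CohTop.HU F (n + 1) U) :
    ∃ (ι : Type u) (V : ι → Opens X) (hV : ∀ i, V i ≤ U), iSup V = U ∧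
      ∀ i, CohTop.res F (n + 1) (hV i) ξ = 0 := by
  obtain ⟨S, hS⟩ := Groth.Agent.CohtopA.KillClass.exists_cover_res_eq_zero
    (J := Opens.grothendieckTopology X) F U n ξ
  refine ⟨S.Arrow, fun a => a.Y, fun a => leOfHom a.f, ?_, fun a => hS a⟩
  apply le_antisymm (iSup_le fun a => leOfHom a.f)
  intro x hx
  obtain ⟨V, f, hf, hxV⟩ := S.condition x hx
  exact Opens.mem_iSup.mpr ⟨⟨V, f, hf⟩, hxV⟩

end Groth.Agent.S0460
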