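import Groth.Statements.S0467
import Groth.Agent.CohtopA.ExtProd

set_option autoImplicit false
universe u
open CategoryTheory
open CohTop

namespace Groth.Agent.S0467

open TopologicalSpace CategoryTheory.Limits in
/-- Stacks Tag 0D0A (the degree-one part): for a family of abelian sheaves F_i and an open U, the map H^1(U, ∏ F_i) → ∏ H^1(U, F_i) induced by the projections is injective. -/
theorem result {X : TopCat.{u}} {I : Type u} (F : I → CohTop.Ab X) (U : Opens X) :
    Function.Injective (fun (x : CohTop.HU (∏ᶜ F) 1 U) (i : I) => CohTop.HUmap (Pi.π F i) 1 U x) := by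
  have hinj : ∀ x : CohTop.HU (∏ᶜ F) 1 U,
      (∀ i, CohTop.HUmap (Pi.π F i) 1 U x = 0) → x = 0 := by
    intro x hx
    exact Groth.Agent.CohtopA.ExtProd.ext_one_eq_zero F _ x (fun i => hx i)
  intro x y hxy
  rw [← sub_eq_zero]
  apply hinj
  intro i
  rw [map_sub, sub_eq_zero]
  exact congrFun hxy i

end Groth.Agent.S0467
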