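import Groth.Statements.S0477
import Groth.Agent.CohtopA.DerProd

set_option autoImplicit false
universe v u
open CategoryTheory
open CohDer

namespace Groth.Agent.S0477

open CategoryTheory.Limits in
/-- Stacks Tag 07D9, parts (1)-(2): for a Grothendieck abelian category A the derived category D(A) has all direct sums (indexed by small types); the source computes them termwise. -/
theorem result {A : Type u} [Category.{v} A] [Abelian A] [IsGrothendieckAbelian.{v} A]
    [HasDerivedCategory.{v} A] : HasCoproducts.{v} (DerivedCategory A) :=
  fun T ↦ Groth.Agent.CohtopA.DerProd.hasColimitsOfShape_discrete.{v, v} A T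

end Groth.Agent.S0477
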