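import Groth.Statements.S0478
import Groth.Agent.CohtopA.DerProd

set_option autoImplicit false
universe v u
open CategoryTheory
open CohDer

namespace Groth.Agent.S0478

open CategoryTheory.Limits in
/-- Stacks Tag 07D9, parts (1),(3): for a Grothendieck abelian category A the derived category D(A) has all products (indexed by small types); the source computes them as termwise products of K-injective replacements. -/
theorem result {A : Type u} [Category.{v} A] [Abelian A] [IsGrothendieckAbelian.{v} A]
    [HasDerivedCategory.{v} A] : HasProducts.{v} (DerivedCategory A) :=
  fun T ↦ Groth.Agent.CohtopA.DerProd.hasLimitsOfShape_discrete.{v, v} A T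

end Groth.Agent.S0478
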