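import Groth.Statements.S0479
import Groth.Agent.S0473
import Groth.Agent.CohtopA.ReprLoc
import Groth.Agent.CohtopA.ExactDer
import Groth.Agent.CohtopA.DModRing
import Mathlib.CategoryTheory.Abelian.GrothendieckCategory.ModuleEmbedding.GabrielPopescu

set_option autoImplicit false
universe v u
open CategoryTheory
open CohDer

namespace Groth.Agent.S0479

open CategoryTheory.Limits CategoryTheory.Pretriangulated.Opposite in
/-- Stacks Tag 0F5X: for A Grothendieck abelian, every cohomological functor from D(A)^op to abelian groups that turns coproducts into products is of the form Hom(-, X) for some object X of D(A). -/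
theorem result {A : Type u} [Category.{v} A] [Abelian A]
    [IsGrothendieckAbelian.{v} A] [HasDerivedCategory.{v} A]
    (H : (DerivedCategory A)ᵒᵖ ⥤ AddCommGrpCat.{v}) [H.IsHomological]
    [∀ (ι : Type v), PreservesLimitsOfShape (Discrete ι) H] :
    (H ⋙ forget AddCommGrpCat.{v}).IsRepresentable := by
  let G : A := separator A
  have hG : IsSeparator G := isSeparator_separator A
  let R := (End G)ᵐᵒᵖ
  let _ := Groth.Agent.CohtopA.DModRing.hasDerivedCategory R
  let F : ModuleCat.{v} R ⥤ A := IsGrothendieckAbelian.tensorObj G
  let adj : F ⊣ preadditiveCoyonedaObj G :=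
    IsGrothendieckAbelian.tensorObjPreadditiveCoyonedaObjAdjunction G
  have : (preadditiveCoyonedaObj G).Full := IsGrothendieckAbelian.GabrielPopescu.full G hG
  have : (preadditiveCoyonedaObj G).Faithful :=
    (isSeparator_iff_faithful_preadditiveCoyonedaObj G).1 hG
  have : PreservesFiniteLimits F := IsGrothendieckAbelian.GabrielPopescu.preservesFiniteLimits G hG
  have : F.Additive := adj.left_adjoint_additive
  have := adj.leftAdjoint_preservesColimits
  have : PreservesFiniteColimits F := inferInstance
  let L := F.mapDerivedCategory
  have hL : L.IsLocalization ((MorphismProperty.isomorphisms _).inverseImage L) :=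
    Groth.Agent.CohtopA.ExactDer.isLocalization_of_rightAdjoint F _ adj
  have : ∀ (ι : Type v), PreservesLimitsOfShape (Discrete ι) (L.op ⋙ H) := by
    intro ι
    have h1 : PreservesColimitsOfShape (Discrete ι) L :=
      Groth.Agent.CohtopA.ExactDer.preservesCoproducts_mapDerivedCategory F ι
    have : PreservesColimitsOfShape (Discrete ι)ᵒᵖ L :=
      preservesColimitsOfShape_of_equiv (Discrete.opposite ι).symm L
    have : PreservesLimitsOfShape (Discrete ι) L.op := preservesLimitsOfShape_op _ _
    infer_instance
  have hrep := Groth.Agent.S0473.result (Groth.Agent.CohtopA.DModRing.isCompactlyGenerated R)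
    (L.op ⋙ H)
  exact Groth.Agent.CohtopA.ReprLoc.isRepresentable_of_localization L
    ((MorphismProperty.isomorphisms _).inverseImage L)
    (H ⋙ forget AddCommGrpCat.{v}) hrep

end Groth.Agent.S0479
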