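import Groth.Statements.S0480
import Mathlib.Algebra.Homology.HomotopyCategory.KInjective
import Mathlib.Algebra.Homology.HomotopyCofiber

set_option autoImplicit false
universe v u
open CategoryTheory
open CohDer

namespace Groth.Agent.S0480

/-- A morphism of complexes is null-homotopic iff it extends to the cone of the identity. -/
theorem nullHomotopic_iff {A : Type u} [Category.{v} A] [Abelian A]
    {K L : CochainComplex A ℤ} (f : K ⟶ L) :
    Nonempty (Homotopy f 0) ↔
      ∃ g : HomologicalComplex.homotopyCofiber (𝟙 K) ⟶ L,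
        HomologicalComplex.homotopyCofiber.inr (𝟙 K) ≫ g = f := by
  constructor
  · rintro ⟨h⟩
    exact ⟨HomologicalComplex.homotopyCofiber.desc (𝟙 K) f
      ((Homotopy.ofEq (Category.id_comp f)).trans h),
      HomologicalComplex.homotopyCofiber.inr_desc _ _ _⟩
  · rintro ⟨g, rfl⟩
    have hc : ∀ j : ℤ, ∃ i, (ComplexShape.up ℤ).Rel i j := fun j => ⟨j - 1, by simp⟩
    have H := (HomologicalComplex.homotopyCofiber.inrCompHomotopy (𝟙 K) hc).compRight g
    exact ⟨(Homotopy.ofEq (by simp)).trans (H.trans (Homotopy.ofEq (by simp)))⟩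

open CategoryTheory.Limits in
/-- Stacks Tag 0BK6 (first part): in an abelian category, if the product of a family of K-injective cochain complexes exists (it is then the termwise product), it is again K-injective. -/
theorem result {A : Type u} [Category.{v} A] [Abelian A] {T : Type v} (I : T → CochainComplex A ℤ)
    [HasProduct I] (h : ∀ t, (I t).IsKInjective) : (∏ᶜ I).IsKInjective := by
  refine ⟨fun {K} f hK => ?_⟩
  rw [nullHomotopic_iff]
  have h' : ∀ t, ∃ g : HomologicalComplex.homotopyCofiber (𝟙 K) ⟶ I t,
        HomologicalComplex.homotopyCofiber.inr (𝟙 K) ≫ g = f ≫ Pi.π I t := fun t => by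
    rw [← nullHomotopic_iff]
    exact (h t).nonempty_homotopy_zero _ hK
  choose g hg using h'
  refine ⟨Pi.lift g, ?_⟩
  apply Pi.hom_ext
  intro t
  rw [Category.assoc, Pi.lift_π, hg]

end Groth.Agent.S0480
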