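import Groth.Statements.S0489
import Mathlib.Algebra.Homology.HomotopyCategory.KInjective
import Mathlib.Algebra.Homology.HomotopyCategory.MappingCone
import Mathlib.CategoryTheory.Functor.OfSequence

set_option autoImplicit false
universe v u
open CategoryTheory
open CohDer

namespace Groth.Agent.S0489

open CochainComplex CochainComplex.HomComplex

/-- One step: lift a null-homotopy along a degreewise split epimorphism. -/
theorem step {A : Type u} [Category.{v} A] [Abelian A] {K L M : CochainComplex A ℤ}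
    (hK : K.Acyclic) (hL : L.IsKInjective) (hM : M.IsKInjective) (p : L ⟶ M)
    (hp : ∀ m : ℤ, IsSplitEpi (p.f m)) (f : K ⟶ L) (h : Cochain K M (-1))
    (hh : δ (-1) 0 h = Cochain.ofHom (f ≫ p)) :
    ∃ h' : Cochain K L (-1), δ (-1) 0 h' = Cochain.ofHom f ∧
      h'.comp (Cochain.ofHom p) (add_zero (-1)) = h := by
  obtain ⟨h₁, hh₁⟩ := IsKInjective.eq_δ_of_cocycle (Cocycle.ofHom f) hK (-1) (by simp)
  simp only [Cocycle.ofHom_coe] at hh₁
  have hz : δ (-1) 0 (h₁.comp (Cochain.ofHom p) (add_zero (-1)) - h) = 0 := by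
    rw [δ_sub, hh, δ_comp_ofHom, hh₁]
    simp
  obtain ⟨e, he⟩ := IsKInjective.eq_δ_of_cocycle (Cocycle.mk _ 0 (by simp) hz) hK (-2) (by simp)
  simp only [Cocycle.mk_coe] at he
  let e' : Cochain K L (-2) := Cochain.mk (fun p₁ q hpq => e.v p₁ q hpq ≫ section_ (p.f q))
  have he' : e'.comp (Cochain.ofHom p) (add_zero (-2)) = e := by
    ext p₁ q hpq
    simp [e']
  refine ⟨h₁ - δ (-2) (-1) e', ?_, ?_⟩
  · rw [δ_sub, hh₁, δ_δ]
    simp
  · rw [Cochain.sub_comp, ← δ_comp_ofHom, he', he]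
    simp

open CategoryTheory.Limits Opposite in
/-- Stacks Tag 070L: let … → I_3 → I_2 → I_1 be an inverse system of K-injective cochain complexes in an abelian category with sequential limits, such that each transition map is a split epimorphism in each degree. Then the (termwise) limit complex is K-injective. -/
theorem result {A : Type u} [Category.{v} A] [Abelian A] [HasLimitsOfShape ℕᵒᵖ A]
    (I : ℕᵒᵖ ⥤ CochainComplex A ℤ) (h1 : ∀ n : ℕ, (I.obj (op n)).IsKInjective)
    (h2 : ∀ (n : ℕ) (m : ℤ), IsSplitEpi ((I.map (homOfLE (Nat.le_succ n)).op).f m)) :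
    (limit I).IsKInjective := by
  refine ⟨fun {K} f hK => ?_⟩
  let p : ∀ n : ℕ, I.obj (op (n + 1)) ⟶ I.obj (op n) :=
    fun n => I.map (homOfLE (Nat.le_succ n)).op
  let F : ∀ n : ℕ, K ⟶ I.obj (op n) := fun n => f ≫ limit.π I (op n)
  have hF : ∀ n, F (n + 1) ≫ p n = F n := fun n => by simp [F, p]
  -- the sequence of compatible null-homotopies
  let T : ℕ → Type v := fun n => { h : Cochain K (I.obj (op n)) (-1) // δ (-1) 0 h = Cochain.ofHom (F n) }
  have h0 : Nonempty (T 0) := by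
    have := h1 0
    obtain ⟨h₁, hh₁⟩ := IsKInjective.eq_δ_of_cocycle (Cocycle.ofHom (F 0)) hK (-1) (by simp)
    exact ⟨⟨h₁, hh₁⟩⟩
  have hs : ∀ (n : ℕ) (x : T n), ∃ y : T (n + 1),
      y.1.comp (Cochain.ofHom (p n)) (add_zero (-1)) = x.1 := by
    intro n x
    obtain ⟨y, hy, hy'⟩ := step hK (h1 (n + 1)) (h1 n) (p n) (h2 n) (F (n + 1)) x.1
      (by rw [hF]; exact x.2)
    exact ⟨⟨y, hy⟩, hy'⟩
  choose nxt hnxt using hs
  let s : ∀ n, T n := fun n => Nat.rec h0.some (fun n x => nxt n x) n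
  have hs : ∀ n, (s (n + 1)).1.comp (Cochain.ofHom (p n)) (add_zero (-1)) = (s n).1 :=
    fun n => hnxt n (s n)
  let g : ∀ n, mappingCone (𝟙 K) ⟶ I.obj (op n) := fun n =>
    mappingCone.desc (𝟙 K) (s n).1 (F n) (by rw [(s n).2, Category.id_comp])
  have hg : ∀ n, g n = g (n + 1) ≫ p n := by
    intro n
    ext m
    rw [mappingCone.ext_from_iff (𝟙 K) (m + 1) m rfl]
    constructor
    · have := Cochain.congr_v (hs n) (m + 1) m (by lia)
      simp [g, ← this]
    · have : (F n).f m = (F (n + 1) ≫ p n).f m := by rw [hF]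
      simp [g, this]
  let c : (Functor.const ℕᵒᵖ).obj (mappingCone (𝟙 K)) ⟶ I :=
    NatTrans.ofOpSequence (fun n => g n) (fun n => by
      simp only [Functor.const_obj_map, Functor.const_obj_obj, Category.id_comp]
      exact hg n)
  let G : mappingCone (𝟙 K) ⟶ limit I := limit.lift I ⟨_, c⟩
  have hG : f = mappingCone.inr (𝟙 K) ≫ G := by
    apply limit.hom_ext
    rintro ⟨n⟩
    simp only [G, Category.assoc, limit.lift_π]
    simp [c, g, F]
  have hc : ∀ j : ℤ, ∃ i, (ComplexShape.up ℤ).Rel i j := fun j => ⟨j - 1, by simp⟩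
  have H := (HomologicalComplex.homotopyCofiber.inrCompHomotopy (𝟙 K) hc).compRight G
  have hG' : f = (𝟙 K ≫ HomologicalComplex.homotopyCofiber.inr (𝟙 K)) ≫ G := by
    rw [Category.id_comp]
    exact hG
  exact ⟨(Homotopy.ofEq hG').trans (H.trans (Homotopy.ofEq (by simp)))⟩

end Groth.Agent.S0489
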