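import Groth.Statements.S0490
import Mathlib.CategoryTheory.Triangulated.Orthogonal

set_option autoImplicit false
universe v u
open CategoryTheory
open CohDer

namespace Groth.Agent.S0490

open CategoryTheory.Pretriangulated in
/-- Stacks Tag 0CQS: let A be a full triangulated subcategory of a pretriangulated category D (an object property containing zero, stable under shifts and closed under extensions). The inclusion A → D is a left adjoint (i.e. has a right adjoint) if and only if every object X of D fits in a distinguished triangle A → X → B → A[1] with A in the subcategory and B right orthogonal to it. (The source's further conclusions about saturation are not asserted.) -/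
theorem result {D : Type u} [Category.{v} D] [Preadditive D] [Limits.HasZeroObject D] [HasShift D ℤ]
    [∀ n : ℤ, (shiftFunctor D n).Additive] [Pretriangulated D]
    (P : ObjectProperty D) [P.IsTriangulated] :
    P.ι.IsLeftAdjoint ↔ ∀ X : D, ∃ (A B : D) (f : A ⟶ X) (g : X ⟶ B) (h : B ⟶ (shiftFunctor D (1 : ℤ)).obj A),
      Triangle.mk f g h ∈ distinguishedTriangles ∧ P A ∧ P.rightOrthogonal B := by
  constructor
  · intro hadj X
    let R := P.ι.rightAdjoint
    let adj : P.ι ⊣ R := Adjunction.ofIsLeftAdjoint P.ι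
    let A : D := (R.obj X).obj
    have hA : P A := (R.obj X).property
    let ε : A ⟶ X := adj.counit.app X
    obtain ⟨B, g, h, hT⟩ := distinguished_cocone_triangle ε
    refine ⟨A, B, ε, g, h, hT, hA, ?_⟩
    -- the counit induces bijections on maps out of objects of `P`
    have inj : ∀ (E : D) (_ : P E) (a : E ⟶ A), a ≫ ε = 0 → a = 0 := by
      intro E hE a ha
      let a' : (⟨E, hE⟩ : P.FullSubcategory) ⟶ R.obj X := ObjectProperty.homMk a
      have h1 : (adj.homEquiv ⟨E, hE⟩ X).symm a' = (adj.homEquiv ⟨E, hE⟩ X).symm (ObjectProperty.homMk 0) := by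
        rw [Adjunction.homEquiv_counit, Adjunction.homEquiv_counit]
        change a ≫ ε = 0 ≫ ε
        rw [ha, Limits.zero_comp]
      have h2 := (adj.homEquiv ⟨E, hE⟩ X).symm.injective h1
      have h3 : a'.hom = 0 := by rw [h2]; rfl
      exact h3
    have surj : ∀ (E : D) (_ : P E) (b : E ⟶ X), ∃ a : E ⟶ A, a ≫ ε = b := by
      intro E hE b
      refine ⟨((adj.homEquiv ⟨E, hE⟩ X) b).hom, ?_⟩
      have := (adj.homEquiv ⟨E, hE⟩ X).symm_apply_apply b
      rw [Adjunction.homEquiv_counit] at this
      exact this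
    clear_value ε A
    intro E φ hE
    have h1 : φ ≫ h = 0 := by
      apply (shiftFunctor D (-1 : ℤ)).map_injective
      let i := (shiftFunctorCompIsoId D (1 : ℤ) (-1) (by simp))
      have h2 : (shiftFunctor D (-1 : ℤ)).map (φ ≫ h) ≫ i.hom.app A = 0 := by
        apply inj _ (P.le_shift (-1 : ℤ) _ hE)
        have h3 := i.hom.naturality ε
        have h4 : h ≫ (shiftFunctor D (1 : ℤ)).map ε = 0 := comp_distTriang_mor_zero₃₁ _ hT
        dsimp at h3
        rw [Category.assoc, ← h3, ← Functor.map_comp_assoc, Category.assoc, h4]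
        simp
      rw [← cancel_mono (i.hom.app A), h2, Functor.map_zero, Limits.zero_comp]
    obtain ⟨ψ, hψ⟩ := Triangle.coyoneda_exact₃ _ hT φ h1
    obtain ⟨a, ha⟩ := surj E hE ψ
    have h2 : ε ≫ g = 0 := comp_distTriang_mor_zero₁₂ _ hT
    change φ = ψ ≫ g at hψ
    rw [hψ, ← ha]
    change (a ≫ ε) ≫ g = 0
    rw [Category.assoc, h2, Limits.comp_zero]
  · intro H
    choose A B f g h hT hA hB using H
    have inj : ∀ (X E : D) (_ : P E) (a : E ⟶ A X), a ≫ f X = 0 → a = 0 := by
      intro X E hE a ha
      obtain ⟨b, rfl⟩ := Triangle.coyoneda_exact₂ _ (inv_rot_of_distTriang _ (hT X)) a ha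
      have hb : b = 0 := P.rightOrthogonal.le_shift (-1) _ (hB X) b hE
      rw [hb, Limits.zero_comp]
      rfl
    have surj : ∀ (X E : D) (_ : P E) (b : E ⟶ X), ∃ a : E ⟶ A X, a ≫ f X = b := by
      intro X E hE b
      obtain ⟨a, ha⟩ := Triangle.coyoneda_exact₂ _ (hT X) b (hB X _ hE)
      exact ⟨a, ha.symm⟩
    let e : ∀ (E : P.FullSubcategory) (X : D), (P.ι.obj E ⟶ X) ≃ (E ⟶ (⟨A X, hA X⟩ : P.FullSubcategory)) :=
      fun E X => (Equiv.ofBijective (fun (φ : E ⟶ (⟨A X, hA X⟩ : P.FullSubcategory)) => φ.hom ≫ f X)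
        ⟨fun φ ψ hφψ => by
          ext
          rw [← sub_eq_zero]
          apply inj X _ E.property
          rw [Preadditive.sub_comp, sub_eq_zero]
          exact hφψ, fun b => by
          obtain ⟨a, ha⟩ := surj X _ E.property b
          exact ⟨ObjectProperty.homMk a, ha⟩⟩).symm
    refine ⟨⟨_, ⟨Adjunction.adjunctionOfEquivRight e ?_⟩⟩⟩
    intro E' E X φ b
    rw [Equiv.symm_apply_eq]
    have h1 : (e E X).symm (e E X b) = b := (e E X).symm_apply_apply b
    change (e E X b).hom ≫ f X = b at h1
    change _ = (φ ≫ e E X b).hom ≫ f X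
    rw [ObjectProperty.FullSubcategory.comp_hom, Category.assoc, h1]
    rfl

end Groth.Agent.S0490
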