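import Groth.Statements.S0492
import Mathlib.CategoryTheory.Sites.EpiMono

set_option autoImplicit false
universe u
open CategoryTheory
open CohSite

namespace Groth.Agent.S0492

open Limits Opposite

variable {C : Type u} [SmallCategory C] {J : GrothendieckTopology C}

/-- An epimorphism of abelian sheaves is surjective on sections over weakly contractible objects. -/
theorem surjective_of_epi {U : C} (hU : CohSite.IsWeaklyContractible J U)
    {F G : Sheaf J AddCommGrpCat.{u}} (φ : F ⟶ G) [Epi φ] :
    Function.Surjective (φ.hom.app (op U)) := by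
  have h1 : Sheaf.IsLocallySurjective φ := (Sheaf.isLocallySurjective_iff_epi' AddCommGrpCat.{u} φ).2 inferInstance
  have h2 : Epi ((sheafCompose J (forget AddCommGrpCat.{u})).map φ) := inferInstance
  exact hU _ _ _ h2

/-- Conversely, a morphism which is surjective on a covering family of objects is epi. -/
theorem epi_of_surjective (B : Set C)
    (hcov : ∀ V : C, ∃ (ι : Type u) (U : ι → C) (f : ∀ i, U i ⟶ V), (∀ i, U i ∈ B) ∧ Sieve.ofArrows U f ∈ J V)
    {F G : Sheaf J AddCommGrpCat.{u}} (φ : F ⟶ G)
    (h : ∀ U ∈ B, Function.Surjective (φ.hom.app (op U))) : Epi φ := by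
  rw [← Sheaf.isLocallySurjective_iff_epi']
  constructor
  intro V s
  obtain ⟨ι, U, f, hU, hJ⟩ := hcov V
  refine J.superset_covering ?_ hJ
  rw [Sieve.ofArrows, Sieve.generate_le_iff]
  rintro W g ⟨i⟩
  exact h _ (hU i) _

open CategoryTheory.Limits in
/-- Stacks Tag 0947, part (4), for sheaves of abelian groups: let B be a set of weakly contractible objects of a small site such that every object admits a covering family by members of B. Then products in the category of abelian sheaves are exact (Grothendieck's AB4*). -/
theorem result {C : Type u} [SmallCategory C] (J : GrothendieckTopology C)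
    (B : Set C) (hB : ∀ U ∈ B, CohSite.IsWeaklyContractible J U)
    (hcov : ∀ V : C, ∃ (ι : Type u) (U : ι → C) (f : ∀ i, U i ⟶ V), (∀ i, U i ∈ B) ∧ Sieve.ofArrows U f ∈ J V) :
    AB4Star (Sheaf J AddCommGrpCat.{u}) := by
  refine ⟨fun α => ?_⟩
  have : Functor.PreservesEpimorphisms (lim (J := Discrete α) (C := Sheaf J AddCommGrpCat.{u})) := by
    refine ⟨fun {F G} φ hφ => ?_⟩
    apply epi_of_surjective B hcov
    intro U hU y
    let E : Sheaf J AddCommGrpCat.{u} ⥤ Type u :=
      sheafToPresheaf J AddCommGrpCat.{u} ⋙ (evaluation _ _).obj (op U) ⋙ forget AddCommGrpCat.{u}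
    have hs : ∀ i : Discrete α, ∃ x : E.obj (F.obj i), E.map (φ.app i) x = E.map (limit.π G i) y :=
      fun i => surjective_of_epi (hB U hU) (φ.app i) _
    choose x hx using hs
    let s : (F ⋙ E).sections := ⟨x, by
      intro i j h
      obtain rfl := Discrete.ext (Discrete.eq_of_hom h)
      rw [show h = 𝟙 _ from Subsingleton.elim _ _, CategoryTheory.Functor.map_id]
      rfl⟩
    let z := (Types.isLimitEquivSections (isLimitOfPreserves E (limit.isLimit F))).symm s
    have hz : ∀ i, E.map (limit.π F i) z = x i := fun i =>
      Types.isLimitEquivSections_symm_apply (isLimitOfPreserves E (limit.isLimit F)) s i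
    refine ⟨z, ?_⟩
    apply (Types.isLimitEquivSections (isLimitOfPreserves E (limit.isLimit G))).injective
    apply Subtype.ext
    funext i
    change E.map (limit.π G i) (E.map (lim.map φ) z) = E.map (limit.π G i) y
    rw [← hx, ← hz, ← ConcreteCategory.comp_apply, ← ConcreteCategory.comp_apply, ← E.map_comp, ← E.map_comp]
    simp
  exact hasExactLimitsOfShape_of_preservesEpi _ _

end Groth.Agent.S0492
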