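import Groth.Statements.S0495
import Groth.Agent.S0527
import Mathlib.RingTheory.KrullDimension.Zero

set_option autoImplicit false
universe u
open Hensel

namespace Groth.Agent.S0495

/-- Stacks Tag 06RS: a local ring whose Krull dimension is zero is henselian. -/
theorem result (R : Type u) [CommRing R] [IsLocalRing R]
    (h : ringKrullDim R = 0) : HenselianLocalRing R := by
  haveI : Ring.KrullDimLE 0 R := by
    rw [Ring.krullDimLE_iff]
    exact h.le
  have hnil : ∀ x ∈ IsLocalRing.maximalIdeal R, IsNilpotent x := by
    intro x hx
    have := Ring.KrullDimLE.isNilpotent_iff_mem_maximalIdeal (R := R) (x := x)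
    exact this.mpr hx
  have H := Groth.Agent.S0527.result R (IsLocalRing.maximalIdeal R) hnil
  refine ⟨?_⟩
  intro f hf a₀ h₁ h₂
  exact H.is_henselian f hf a₀ h₁ (h₂.map _)

end Groth.Agent.S0495
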