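import Groth.Statements.S0496
import Mathlib.RingTheory.Nakayama
import Mathlib.RingTheory.AdjoinRoot
import Mathlib.RingTheory.Polynomial.Basic

set_option autoImplicit false
universe u
open Hensel

namespace Groth.Agent.S0496

open Polynomial IsLocalRing in
/-- If `g` divides a monic polynomial and reduces to `X - C a₀`, then `g` has a root lifting `a₀`. -/
theorem exists_root_of_dvd_monic {R : Type u} [CommRing R] [IsLocalRing R]
    {f g : R[X]} (hf : f.Monic) (hgf : g ∣ f) (a₀ : ResidueField R)
    (hg : g.map (residue R) = X - C a₀) :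
    ∃ a : R, g.eval a = 0 ∧ residue R a = a₀ := by
  have hfin : Module.Finite R (AdjoinRoot f) := hf.finite_adjoinRoot
  let φ : AdjoinRoot f →ₐ[R] AdjoinRoot g :=
    Ideal.Quotient.factorₐ R (Ideal.span_singleton_le_span_singleton.mpr hgf)
  have hφ : Function.Surjective φ :=
    Ideal.Quotient.factor_surjective (Ideal.span_singleton_le_span_singleton.mpr hgf)
  have hfin' : Module.Finite R (AdjoinRoot g) :=
    Module.Finite.of_surjective φ.toLinearMap hφ
  let N : Submodule R (AdjoinRoot g) := Submodule.span R {1}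
  have hN : (⊤ : Submodule R (AdjoinRoot g)) ≤ N := by
    apply Submodule.le_of_le_smul_of_le_jacobson_bot (I := maximalIdeal R) Module.Finite.fg_top
      (maximalIdeal_le_jacobson _)
    rintro x -
    obtain ⟨p, rfl⟩ := AdjoinRoot.mk_surjective x
    obtain ⟨r, hr⟩ := residue_surjective ((p.map (residue R)).eval a₀)
    obtain ⟨q, hq⟩ : (X - C a₀) ∣ p.map (residue R) - C ((p.map (residue R)).eval a₀) :=
      X_sub_C_dvd_sub_C_eval
    obtain ⟨q', rfl⟩ := Polynomial.map_surjective _ residue_surjective q
    have hmem : p - C r - g * q' ∈ Ideal.map C (maximalIdeal R) := by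
      rw [Ideal.mem_map_C_iff]
      intro n
      rw [← Ideal.Quotient.eq_zero_iff_mem]
      change residue R _ = 0
      rw [← coeff_map]
      simp only [Polynomial.map_sub, Polynomial.map_mul, map_C, hg, ← hq, hr, sub_self, coeff_zero]
    have h2 : AdjoinRoot.mk g (p - C r - g * q') ∈
        (maximalIdeal R • (⊤ : Submodule R (AdjoinRoot g))) := by
      rw [Ideal.smul_top_eq_map]
      have := Ideal.mem_map_of_mem (AdjoinRoot.mk g) hmem
      rw [Ideal.map_map] at this
      exact this
    have h3 : AdjoinRoot.mk g p = r • (1 : AdjoinRoot g) + AdjoinRoot.mk g (p - C r - g * q') := by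
      rw [map_sub, map_sub, map_mul, AdjoinRoot.mk_self, zero_mul, sub_zero, AdjoinRoot.mk_C,
        Algebra.smul_def, mul_one]
      simp
    rw [h3]
    exact Submodule.add_mem_sup (Submodule.smul_mem _ _ (Submodule.mem_span_singleton_self _)) h2
  have hX : AdjoinRoot.mk g X ∈ N := hN trivial
  obtain ⟨a, ha⟩ := Submodule.mem_span_singleton.mp hX
  have ha' : AdjoinRoot.mk g (X - C a) = 0 := by
    rw [map_sub, ← ha, AdjoinRoot.mk_C, Algebra.smul_def, mul_one]
    simp
  obtain ⟨u, hu⟩ := AdjoinRoot.mk_eq_zero.mp ha'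
  have hu' := congrArg (Polynomial.map (residue R)) hu
  simp only [Polynomial.map_sub, Polynomial.map_mul, map_X, map_C, hg] at hu'
  have hres : residue R a = a₀ := by
    have := congrArg (Polynomial.eval a₀) hu'
    simp only [eval_sub, eval_X, eval_C, eval_mul, sub_self, zero_mul] at this
    exact (sub_eq_zero.mp this).symm
  have hu1 : u.map (residue R) = 1 := by
    rw [hres] at hu'
    exact (mul_left_cancel₀ (X_sub_C_ne_zero a₀) (hu'.symm.trans (mul_one _).symm))
  have hunit : IsUnit (u.eval a) := by
    rw [← residue_ne_zero_iff_isUnit, ← Polynomial.eval_map_apply, hu1, eval_one]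
    exact one_ne_zero
  refine ⟨a, ?_, hres⟩
  have h0 := congrArg (Polynomial.eval a) hu
  simp only [eval_sub, eval_X, eval_C, eval_mul, sub_self] at h0
  exact (hunit.mul_left_eq_zero.mp h0.symm)

/-- Stacks Tag 04GG, (3) implies (1): if every factorization of the reduction of a monic
polynomial into two coprime factors over the residue field lifts to a factorization over the
local ring, then the local ring is henselian. -/
theorem result (R : Type u) [CommRing R] [IsLocalRing R]
    (h : ∀ f : Polynomial R, f.Monic →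
      ∀ g₀ h₀ : Polynomial (IsLocalRing.ResidueField R), IsCoprime g₀ h₀ →
      Polynomial.map (IsLocalRing.residue R) f = g₀ * h₀ →
      ∃ g h : Polynomial R, f = g * h ∧ Polynomial.map (IsLocalRing.residue R) g = g₀ ∧
        Polynomial.map (IsLocalRing.residue R) h = h₀) :
    HenselianLocalRing R := by
  refine ((HenselianLocalRing.TFAE R).out 0 1).mpr ?_
  intro f hf a₀ h₁ h₂
  rw [Polynomial.aeval_def, IsLocalRing.ResidueField.algebraMap_eq, ← Polynomial.eval_map] at h₁ h₂
  obtain ⟨q, hq⟩ : (Polynomial.X - Polynomial.C a₀) ∣ f.map (IsLocalRing.residue R) :=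
    Polynomial.dvd_iff_isRoot.mpr h₁
  have hqa : q.eval a₀ ≠ 0 := by
    rw [← Polynomial.derivative_map, hq] at h₂
    simpa using h₂
  have hcop : IsCoprime (Polynomial.X - Polynomial.C a₀) q := by
    rw [(Polynomial.irreducible_X_sub_C a₀).coprime_iff_not_dvd, Polynomial.dvd_iff_isRoot]
    exact hqa
  obtain ⟨g, k, hfgk, hg, hk⟩ := h f hf _ q hcop hq
  obtain ⟨a, ha, hres⟩ := exists_root_of_dvd_monic hf ⟨k, hfgk⟩ a₀ hg
  exact ⟨a, by rw [Polynomial.IsRoot, hfgk, Polynomial.eval_mul, ha, zero_mul], hres⟩

end Groth.Agent.S0496
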