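import Groth.Statements.S0498
import Groth.Agent.Hensel.FactorLift

set_option autoImplicit false
universe u
open Hensel

namespace Groth.Agent.S0498

/-- Stacks Tag 04GG, (1) implies (2): over a henselian local ring, a simple root in the residue
field of the reduction of an arbitrary polynomial (monic or not) lifts to a root in the ring. -/
theorem result (R : Type u) [CommRing R] [HenselianLocalRing R]
    (f : Polynomial R) (a₀ : IsLocalRing.ResidueField R)
    (h₁ : Polynomial.eval₂ (IsLocalRing.residue R) a₀ f = 0)
    (h₂ : Polynomial.eval₂ (IsLocalRing.residue R) a₀ (Polynomial.derivative f) ≠ 0) :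
    ∃ a : R, Polynomial.IsRoot f a ∧ IsLocalRing.residue R a = a₀ := by
  rw [← Polynomial.eval_map] at h₁ h₂
  obtain ⟨q, hq⟩ : (Polynomial.X - Polynomial.C a₀) ∣ f.map (IsLocalRing.residue R) :=
    Polynomial.dvd_iff_isRoot.mpr h₁
  have hqa : q.eval a₀ ≠ 0 := by
    rw [← Polynomial.derivative_map, hq] at h₂
    simpa using h₂
  have hcop : IsCoprime (Polynomial.X - Polynomial.C a₀) q := by
    rw [(Polynomial.irreducible_X_sub_C a₀).coprime_iff_not_dvd, Polynomial.dvd_iff_isRoot]
    exact hqa
  obtain ⟨g, h, hf, hg, hg', -⟩ := Groth.Agent.Hensel.FactorLift.exists_factor_lift f _ q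
    (Polynomial.monic_X_sub_C a₀) hcop hq
  have hdeg : g.natDegree = 1 := by
    rw [← hg.natDegree_map (IsLocalRing.residue R), hg', Polynomial.natDegree_X_sub_C]
  refine ⟨- g.coeff 0, ?_, ?_⟩
  · rw [Polynomial.IsRoot, hf, Polynomial.eval_mul]
    have hg1 : g = Polynomial.X + Polynomial.C (g.coeff 0) := by
      have := hg.as_sum
      rw [hdeg] at this
      simpa using this
    rw [hg1]
    simp
  · have := congrArg (fun p => Polynomial.coeff p 0) hg'
    simp only [Polynomial.coeff_map, Polynomial.coeff_sub, Polynomial.coeff_X_zero,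
      Polynomial.coeff_C_zero, zero_sub] at this
    rw [map_neg, this, neg_neg]

end Groth.Agent.S0498
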