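import Groth.Statements.S0500
import Groth.Agent.S0521
import Groth.Agent.Hensel.PairIdem

set_option autoImplicit false
universe u
open Hensel

namespace Groth.Agent.S0500

/-- Stacks Tag 04GG, (10) implies (1): if every algebra over a local ring that is finitely
generated as a module is ring-isomorphic to a finite product of local rings, then the local ring
is henselian. -/
theorem result (R : Type u) [CommRing R] [IsLocalRing R]
    (h : ∀ (S : Type u) [CommRing S] [Algebra R S], Module.Finite R S →
      ∃ (ι : Type u) (_ : Fintype ι) (A : ι → Type u) (_ : ∀ i, CommRing (A i)),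
        (∀ i, IsLocalRing (A i)) ∧ Nonempty (S ≃+* (∀ i, A i))) :
    HenselianLocalRing R := by
  have h5 : HenselianRing R (IsLocalRing.maximalIdeal R) := by
    rw [Groth.Agent.S0521.result]
    intro B _ _ hB
    have hJ : (IsLocalRing.maximalIdeal R).map (algebraMap R B) ≤ Ideal.jacobson ⊥ :=
      Hensel.PairIdem.map_le_jacobson_bot _ (IsLocalRing.maximalIdeal_le_jacobson _)
    refine ⟨fun e he ↦ he.map _, ?_, ?_⟩
    · intro e he f hf hef
      exact Hensel.PairIdem.eq_of_isIdempotentElem_of_sub_mem _ hJ e f he hf
        (Ideal.Quotient.eq.mp hef)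
    · intro b hb
      obtain ⟨b, rfl⟩ := Ideal.Quotient.mk_surjective b
      obtain ⟨ι, _, A, _, hA, ⟨ε⟩⟩ := h B hB
      have hi : ∀ i, ∃ e u : A i, e * e = e ∧ e - ε b i = u * (ε b i * ε b i - ε b i) := by
        intro i
        have := hA i
        rcases IsLocalRing.isUnit_or_isUnit_one_sub_self (ε b i) with hu | hu
        · obtain ⟨u, hu⟩ := isUnit_iff_exists_inv'.mp hu
          exact ⟨1, -u, by simp, by linear_combination (1 - ε b i) * (-hu)⟩
        · obtain ⟨u, hu⟩ := isUnit_iff_exists_inv'.mp hu
          exact ⟨0, u, by simp, by linear_combination (ε b i) * hu⟩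
      choose e u he hu using hi
      refine ⟨ε.symm e, ?_, ?_⟩
      · change ε.symm e * ε.symm e = ε.symm e
        rw [← map_mul]
        congr 1
        ext i
        exact he i
      · rw [Ideal.Quotient.eq]
        have h1 : ε.symm e - b = ε.symm u * (b * b - b) := by
          apply ε.injective
          ext i
          simpa using hu i
        rw [h1]
        refine Ideal.mul_mem_left _ _ ?_
        rw [← Ideal.Quotient.eq, map_mul]
        exact hb
  exact ⟨fun f hf a₀ h6 h7 ↦ h5.is_henselian f hf a₀ h6 (h7.map _)⟩

end Groth.Agent.S0500
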