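import Groth.Statements.S0502
import Mathlib.RingTheory.Etale.StandardEtale

set_option autoImplicit false
universe u
open Hensel

namespace Groth.Agent.S0502

open Polynomial in
theorem aux (R : Type u) [CommRing R] [IsLocalRing R]
    (h : ∀ (S : Type u) [CommRing S] [Algebra R S] [Algebra.Etale R S] (q : Ideal S) [q.IsPrime],
      q.LiesOver (IsLocalRing.maximalIdeal R) → Function.Surjective (algebraMap R q.ResidueField) →
      Nonempty (S →ₐ[R] R)) :
    HenselianLocalRing R := by
  refine ⟨fun f hf a₀ h0 h1 ↦ ?_⟩
  have hfm : (f.map (IsLocalRing.residue R)).IsRoot (IsLocalRing.residue R a₀) := by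
    rw [Polynomial.IsRoot.def, Polynomial.eval_map_apply]
    exact (IsLocalRing.residue_eq_zero_iff _).mpr h0
  obtain ⟨h₀, hh₀⟩ := Polynomial.dvd_iff_isRoot.mpr hfm
  obtain ⟨g, hg⟩ := Polynomial.map_surjective _ (IsLocalRing.residue_surjective (R := R)) h₀
  have hder : h₀.eval (IsLocalRing.residue R a₀) = IsLocalRing.residue R (f.derivative.eval a₀) := by
    rw [← Polynomial.eval_map_apply, ← Polynomial.derivative_map, hh₀]
    simp
  have hder0 : h₀.eval (IsLocalRing.residue R a₀) ≠ 0 := by
    rw [hder]
    exact (h1.map (IsLocalRing.residue R)).ne_zero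
  let P : StandardEtalePair R := ⟨f, hf, derivative f * g, g, 0, 1, by simp⟩
  have hae : ∀ p : Polynomial R, aeval (IsLocalRing.residue R a₀) p =
      IsLocalRing.residue R (p.eval a₀) := fun p ↦
    Polynomial.aeval_algebraMap_apply (IsLocalRing.ResidueField R) a₀ p
  have hP : P.HasMap (IsLocalRing.residue R a₀) := by
    constructor
    · change aeval (IsLocalRing.residue R a₀) f = 0
      rw [hae]
      exact (IsLocalRing.residue_eq_zero_iff _).mpr h0
    · change IsUnit (aeval (IsLocalRing.residue R a₀) (derivative f * g))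
      rw [map_mul]
      refine IsUnit.mul ?_ ?_
      · rw [hae]
        exact h1.map _
      · rw [hae, ← Polynomial.eval_map_apply, hg]
        exact hder0.isUnit
  let φ : P.Ring →ₐ[R] IsLocalRing.ResidueField R := P.lift _ hP
  let q : Ideal P.Ring := RingHom.ker φ.toRingHom
  have hq : q.IsPrime := RingHom.ker_isPrime _
  have hφs : Function.Surjective φ := by
    intro x
    obtain ⟨r, rfl⟩ := IsLocalRing.residue_surjective x
    exact ⟨algebraMap R _ r, φ.commutes r⟩
  have hqm : q.IsMaximal := RingHom.ker_isMaximal_of_surjective φ.toRingHom hφs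
  have hq1 : q.LiesOver (IsLocalRing.maximalIdeal R) := by
    constructor
    ext r
    rw [Ideal.under, Ideal.mem_comap, RingHom.mem_ker]
    change _ ↔ φ (algebraMap R _ r) = 0
    rw [φ.commutes]
    exact (IsLocalRing.residue_eq_zero_iff r).symm
  have hq2 : Function.Surjective (algebraMap R q.ResidueField) := by
    intro x
    obtain ⟨y, rfl⟩ := q.algebraMap_residueField_surjective x
    obtain ⟨r, hr⟩ := IsLocalRing.residue_surjective (φ y)
    refine ⟨r, ?_⟩
    rw [IsScalarTower.algebraMap_apply R P.Ring, ← sub_eq_zero, ← map_sub,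
      Ideal.algebraMap_residueField_eq_zero]
    change φ (_ - _) = 0
    rw [map_sub, φ.commutes, ← hr, sub_eq_zero]
    rfl
  obtain ⟨ψ⟩ := h P.Ring q hq1 hq2
  have hψ := P.hasMap_X.map ψ
  have h2 : aeval (ψ P.X) f = 0 := hψ.1
  have h3 : IsUnit (aeval (ψ P.X) (derivative f * g)) := hψ.2
  rw [Polynomial.coe_aeval_eq_eval] at h2 h3
  refine ⟨ψ P.X, h2, ?_⟩
  rw [← IsLocalRing.residue_eq_zero_iff, map_sub]
  have h4 : (f.map (IsLocalRing.residue R)).eval (IsLocalRing.residue R (ψ P.X)) = 0 := by
    rw [Polynomial.eval_map_apply, h2, map_zero]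
  rw [hh₀, eval_mul] at h4
  have h5 : h₀.eval (IsLocalRing.residue R (ψ P.X)) ≠ 0 := by
    rw [← hg, Polynomial.eval_map_apply]
    rw [eval_mul] at h3
    exact ((isUnit_of_mul_isUnit_right h3).map (IsLocalRing.residue R)).ne_zero
  simpa using (mul_eq_zero.mp h4).resolve_right h5

/-- Stacks Tag 04GG, (7) implies (1): a local ring `R` is henselian as soon as every étale
`R`-algebra having a prime over the maximal ideal with trivial residue field extension admits an
`R`-algebra retraction to `R`. -/
theorem result (R : Type u) [CommRing R] [IsLocalRing R]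
    (h : ∀ (S : Type u) [CommRing S] [Algebra R S] [Algebra.Etale R S] (q : Ideal S) [q.IsPrime],
      q.LiesOver (IsLocalRing.maximalIdeal R) → Function.Surjective (algebraMap R q.ResidueField) →
      Nonempty (S →ₐ[R] R)) :
    HenselianLocalRing R := by
  exact aux R h

end Groth.Agent.S0502
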