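import Groth.Statements.S0513
import Groth.Agent.Hensel.Exist
import Groth.Agent.Hensel.RegularPerm
import Groth.Agent.S0509

set_option autoImplicit false
universe u
open Hensel

namespace Groth.Agent.S0513

/-- Stacks Tag 06LN (henselization part): a Noetherian local ring is regular exactly when its
henselization is a regular local ring. -/
theorem result (R : Type u) [CommRing R] [IsLocalRing R] (S : Type u) [CommRing S] [IsLocalRing S]
    [Algebra R S] [IsLocalHom (algebraMap R S)] [Hensel.IsHenselization R S] [IsNoetherianRing R] :
    IsRegularLocalRing R ↔ IsRegularLocalRing S := by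
  have := Groth.Agent.S0509.result R S
  exact Groth.Agent.Hensel.RegularPerm.isRegularLocalRing_iff_of_isEtaleCovered
    (Groth.Agent.Hensel.Exist.isHull_of_isHenselization R S).exists_etale_finset

end Groth.Agent.S0513
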