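import Groth.Statements.S0516
import Groth.Agent.S0503
import Groth.Agent.S0499
import Mathlib.RingTheory.Unramified.LocalStructure
import Mathlib.RingTheory.Unramified.LocalRing

set_option autoImplicit false
universe u
open Hensel

namespace Groth.Agent.S0516

open IsLocalRing

/-- A finite unramified local algebra over a local ring with separably closed residue field is a
quotient of the base. -/
theorem surjective_of_finite_unramified_local (R : Type u) [CommRing R] [IsLocalRing R]
    [IsSepClosed (ResidueField R)] (A : Type u) [CommRing A] [IsLocalRing A] [Algebra R A]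
    [Module.Finite R A] [Algebra.FormallyUnramified R A] : Function.Surjective (algebraMap R A) := by
  have hloc : IsLocalHom (algebraMap R A) := by
    have hne : Ideal.map (algebraMap R A) (maximalIdeal R) ≠ ⊤ := by
      intro htop
      have h1 : (⊤ : Submodule R A) ≤ maximalIdeal R • (⊤ : Submodule R A) := by
        rw [Ideal.smul_top_eq_map, htop]
        exact fun x _ => trivial
      have h2 := Submodule.eq_bot_of_le_smul_of_le_jacobson_bot (maximalIdeal R)
        (⊤ : Submodule R A) Module.Finite.fg_top h1 (maximalIdeal_le_jacobson ⊥)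
      have : (1 : A) ∈ (⊤ : Submodule R A) := trivial
      rw [h2] at this
      exact one_ne_zero ((Submodule.mem_bot R).mp this)
    refine ((local_hom_TFAE (algebraMap R A)).out 0 2 rfl rfl).mpr ?_
    exact le_maximalIdeal hne
  have hmax := Algebra.FormallyUnramified.map_maximalIdeal (R := R) (S := A)
  have hres : Function.Surjective (algebraMap (ResidueField R) (ResidueField A)) :=
    IsSepClosed.algebraMap_surjective _ _
  have h3 : (⊤ : Submodule R A) ≤ LinearMap.range (Algebra.linearMap R A) ⊔
      maximalIdeal R • (⊤ : Submodule R A) := by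
    intro x _
    obtain ⟨c, hc⟩ := hres (residue A x)
    obtain ⟨r, rfl⟩ := residue_surjective c
    rw [Ideal.smul_top_eq_map, hmax]
    refine Submodule.mem_sup.mpr ⟨algebraMap R A r, ⟨r, rfl⟩, x - algebraMap R A r, ?_, by ring⟩
    have : residue A (x - algebraMap R A r) = 0 := by
      rw [map_sub, ← hc]
      exact sub_self _
    exact (residue_eq_zero_iff _).mp this
  have h4 := Submodule.le_of_le_smul_of_le_jacobson_bot
      (Module.finite_def.mp inferInstance) (maximalIdeal_le_jacobson ⊥) h3
  intro x
  exact h4 (Submodule.mem_top (x := x))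

/-- Stacks Tag 04GL: an unramified algebra `S` (formally unramified of finite type) over a
strictly henselian local ring `R` is isomorphic over `R` to a product of finitely many quotient
rings of `R` and an `R`-algebra in which the maximal ideal of `R` generates the unit ideal. -/
theorem result (R : Type u) [CommRing R]
    [HenselianLocalRing R] [IsSepClosed (IsLocalRing.ResidueField R)] (S : Type u) [CommRing S] [Algebra R S]
    [Algebra.Unramified R S] :
    ∃ (ι : Type u) (_ : Fintype ι) (A : ι → Type u) (_ : ∀ i, CommRing (A i))
      (_ : ∀ i, Algebra R (A i)) (B : Type u) (_ : CommRing B) (_ : Algebra R B),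
      (∀ i, Function.Surjective (algebraMap R (A i))) ∧
      Ideal.map (algebraMap R B) (IsLocalRing.maximalIdeal R) = ⊤ ∧
      Nonempty (S ≃ₐ[R] ((∀ i, A i) × B)) := by
  obtain ⟨e, he, hfin, htop⟩ := Groth.Agent.S0503.result R S
  obtain ⟨ι, hι, A, hA, hAloc, ⟨E⟩⟩ := Groth.Agent.S0499.result R (S ⧸ Ideal.span ({1 - e} : Set S))
  let alg : ∀ i, Algebra R (A i) := fun i =>
    (((Pi.evalRingHom A i).comp E.toRingHom).comp
      (algebraMap R (S ⧸ Ideal.span ({1 - e} : Set S)))).toAlgebra
  let E' : (S ⧸ Ideal.span ({1 - e} : Set S)) ≃ₐ[R] (∀ i, A i) :=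
    AlgEquiv.ofRingEquiv (f := E) (fun r => by
      funext i
      rfl)
  refine ⟨ι, hι, A, hA, alg, S ⧸ Ideal.span ({e} : Set S), inferInstance, inferInstance, ?_,
    htop, ?_⟩
  · intro i
    have := hAloc i
    let π : (S ⧸ Ideal.span ({1 - e} : Set S)) →ₐ[R] A i := (Pi.evalAlgHom R A i).comp E'.toAlgHom
    have hπ : Function.Surjective π :=
      (Function.surjective_eval i).comp E'.surjective
    have : Module.Finite R (A i) := Module.Finite.of_surjective π.toLinearMap hπ
    have : Algebra.FormallyUnramified R (A i) := .of_surjective π hπ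
    exact surjective_of_finite_unramified_local R (A i)
  · refine ⟨(AlgEquiv.prodQuotientOfIsIdempotentElem (R := R) he.one_sub he (by ring) ?_).trans
      (E'.prodCongr AlgEquiv.refl)⟩
    rw [sub_mul, one_mul, he.eq, sub_self]

end Groth.Agent.S0516
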