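import Groth.Statements.S0517
import Groth.Agent.Hensel.ResEtale
import Mathlib.RingTheory.Unramified.LocalRing

set_option autoImplicit false
universe u
open Hensel

namespace Groth.Agent.S0517

open IsLocalRing

/-- The algebra map attached to a solution. -/
noncomputable def homOf {R : Type u} [CommRing R] {n : ℕ} (P : Fin n → MvPolynomial (Fin n) R)
    {T : Type u} [CommRing T] [Algebra R T] (s : Fin n → T)
    (hs : ∀ i, MvPolynomial.aeval s (P i) = 0) :
    (MvPolynomial (Fin n) R ⧸ Ideal.span (Set.range P)) →ₐ[R] T :=
  Ideal.Quotient.liftₐ _ (MvPolynomial.aeval s) (by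
    intro a ha
    have : Ideal.span (Set.range P) ≤ RingHom.ker (MvPolynomial.aeval (R := R) s) := by
      rw [Ideal.span_le]
      rintro _ ⟨i, rfl⟩
      exact hs i
    exact this ha)

theorem homOf_X {R : Type u} [CommRing R] {n : ℕ} (P : Fin n → MvPolynomial (Fin n) R)
    {T : Type u} [CommRing T] [Algebra R T] (s : Fin n → T)
    (hs : ∀ i, MvPolynomial.aeval s (P i) = 0) (i : Fin n) :
    homOf P s hs (Ideal.Quotient.mk _ (MvPolynomial.X i)) = s i := by
  change MvPolynomial.aeval s (MvPolynomial.X i) = s i
  simp

theorem algHom_ext_X {R : Type u} [CommRing R] {n : ℕ} (P : Fin n → MvPolynomial (Fin n) R)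
    {T : Type u} [CommRing T] [Algebra R T]
    (f g : (MvPolynomial (Fin n) R ⧸ Ideal.span (Set.range P)) →ₐ[R] T)
    (h : ∀ i, f (Ideal.Quotient.mk _ (MvPolynomial.X i)) =
      g (Ideal.Quotient.mk _ (MvPolynomial.X i))) : f = g := by
  apply Ideal.Quotient.algHom_ext
  apply MvPolynomial.algHom_ext
  intro i
  exact h i

theorem aeval_of_hom {R : Type u} [CommRing R] {n : ℕ} (P : Fin n → MvPolynomial (Fin n) R)
    {T : Type u} [CommRing T] [Algebra R T]
    (f : (MvPolynomial (Fin n) R ⧸ Ideal.span (Set.range P)) →ₐ[R] T) (i : Fin n) :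
    MvPolynomial.aeval (fun j => f (Ideal.Quotient.mk _ (MvPolynomial.X j))) (P i) = 0 := by
  have h1 : MvPolynomial.aeval (fun j => f (Ideal.Quotient.mk _ (MvPolynomial.X j))) =
      f.comp (Ideal.Quotient.mkₐ R (Ideal.span (Set.range P))) := by
    apply MvPolynomial.algHom_ext
    intro j
    simp
  rw [h1]
  change f (Ideal.Quotient.mk _ (P i)) = 0
  have h2 : P i ∈ Ideal.span (Set.range P) := Ideal.subset_span ⟨i, rfl⟩
  rw [Ideal.Quotient.eq_zero_iff_mem.mpr h2, map_zero]

/-- Stacks Tag 04GX: given strictly henselian local rings `R` and `S`, a local ring map `φ` between them,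
and a square system of `n` polynomial equations in `n` unknowns over `R` whose quotient algebra is
étale over `R`, applying `φ` coordinatewise matches the solutions of the system in `Rⁿ` bijectively
with the solutions of the transported system in `Sⁿ`. -/
theorem result (R : Type u) [CommRing R]
    [HenselianLocalRing R] [IsSepClosed (IsLocalRing.ResidueField R)] (S : Type u) [CommRing S]
    [HenselianLocalRing S] [IsSepClosed (IsLocalRing.ResidueField S)] (φ : R →+* S) [IsLocalHom φ] (n : ℕ)
    (P : Fin n → MvPolynomial (Fin n) R)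
    [Algebra.Etale R (MvPolynomial (Fin n) R ⧸ Ideal.span (Set.range P))] :
    Set.BijOn (fun r : Fin n → R => φ ∘ r)
      {r : Fin n → R | ∀ i, MvPolynomial.eval r (P i) = 0}
      {s : Fin n → S | ∀ i, MvPolynomial.eval s (MvPolynomial.map φ (P i)) = 0} := by
  algebraize [φ]
  have hφ : ∀ r : R, algebraMap R S r = φ r := fun r => rfl
  have hevR : ∀ (r : Fin n → R) (p : MvPolynomial (Fin n) R),
      MvPolynomial.eval r p = MvPolynomial.aeval r p := fun r p => by
    rw [MvPolynomial.aeval_eq_eval]
  have hevS : ∀ (s : Fin n → S) (p : MvPolynomial (Fin n) R),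
      MvPolynomial.eval s (MvPolynomial.map φ p) = MvPolynomial.aeval s p := fun s p => by
    rw [MvPolynomial.eval_map, MvPolynomial.aeval_def]; rfl
  -- the local homomorphism on residue fields is injective
  have hinj : ∀ x y : R, residue S (φ x) = residue S (φ y) → residue R x = residue R y := by
    intro x y hxy
    rw [← sub_eq_zero, ← map_sub, ← map_sub, residue_eq_zero_iff] at hxy
    rw [← sub_eq_zero, ← map_sub, residue_eq_zero_iff]
    rw [mem_maximalIdeal, mem_nonunits_iff] at hxy ⊢
    exact fun h => hxy (h.map φ)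
  refine ⟨?_, ?_, ?_⟩
  · intro r hr i
    have := hr i
    change MvPolynomial.eval (φ ∘ r) (MvPolynomial.map φ (P i)) = 0
    rw [MvPolynomial.eval_map, ← MvPolynomial.eval₂_comp, this, map_zero]
  · intro r hr r' hr' hrr'
    have hr1 : ∀ i, MvPolynomial.aeval r (P i) = 0 := fun i => by rw [← hevR]; exact hr i
    have hr1' : ∀ i, MvPolynomial.aeval r' (P i) = 0 := fun i => by rw [← hevR]; exact hr' i
    obtain ⟨g, hg1, hg2⟩ := Hensel.ResEtale.existsUnique_lift_residue R R
      (MvPolynomial (Fin n) R ⧸ Ideal.span (Set.range P))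
      ((Algebra.ofId R (ResidueField R)).comp (homOf P r hr1))
    have h1 : homOf P r hr1 = g := hg2 _ (fun a => rfl)
    have h2 : homOf P r' hr1' = g := by
      apply hg2
      have h3 : (Algebra.ofId R S).comp (homOf P r' hr1') =
          (Algebra.ofId R S).comp (homOf P r hr1) := by
        apply algHom_ext_X
        intro i
        change algebraMap R S (homOf P r' hr1' _) = algebraMap R S (homOf P r hr1 _)
        rw [homOf_X, homOf_X]
        exact (congrFun hrr' i).symm
      intro a
      change residue R (homOf P r' hr1' a) = residue R (homOf P r hr1 a)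
      apply hinj
      exact congrArg (residue S) (DFunLike.congr_fun h3 a)
    funext i
    rw [← homOf_X P r hr1 i, h1, ← h2, homOf_X]
  · intro s hs
    have hs1 : ∀ i, MvPolynomial.aeval s (P i) = 0 := fun i => by rw [← hevS]; exact hs i
    let A := MvPolynomial (Fin n) R ⧸ Ideal.span (Set.range P)
    let K := ResidueField R
    let g : A →ₐ[R] S := homOf P s hs1
    let h0 : TensorProduct R K A →ₐ[K] ResidueField S :=
      Algebra.TensorProduct.lift (Algebra.ofId K (ResidueField S))
        ((IsScalarTower.toAlgHom R S (ResidueField S)).comp g) (fun _ _ => .all _ _)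
    have key : ∀ a : A, ∃ c : K, residue S (g a) = algebraMap K (ResidueField S) c := by
      intro a
      obtain ⟨c, hc⟩ := Hensel.ResEtale.mem_range_of_etale_of_isSepClosed K (TensorProduct R K A)
        (ResidueField S) h0 (1 ⊗ₜ a)
      refine ⟨c, ?_⟩
      rw [← hc]
      simp [h0]
    let ι : K →ₐ[R] ResidueField S := IsScalarTower.toAlgHom R K (ResidueField S)
    have hι : Function.Injective ι := (algebraMap K (ResidueField S)).injective
    let g' : A →ₐ[R] ResidueField S := (IsScalarTower.toAlgHom R S (ResidueField S)).comp g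
    let h : A →ₐ[R] K := (AlgEquiv.ofInjective ι hι).symm.toAlgHom.comp
      (g'.codRestrict ι.range (fun a => by
        obtain ⟨c, hc⟩ := key a
        exact ⟨c, hc.symm⟩))
    have hh : ∀ a, ι (h a) = residue S (g a) := by
      intro a
      have := congrArg Subtype.val ((AlgEquiv.ofInjective ι hι).apply_symm_apply
        ((g'.codRestrict ι.range (fun a => by
          obtain ⟨c, hc⟩ := key a
          exact ⟨c, hc.symm⟩)) a))
      exact this
    obtain ⟨f, hf, -⟩ := Hensel.ResEtale.existsUnique_lift_residue R R A h
    obtain ⟨g2, hg2, hg2'⟩ := Hensel.ResEtale.existsUnique_lift_residue R S A g'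
    have e1 : g = g2 := hg2' g (fun a => rfl)
    have e2 : (Algebra.ofId R S).comp f = g2 := by
      apply hg2'
      intro a
      change residue S (φ (f a)) = residue S (g a)
      rw [← hh, ← hf]
      rfl
    refine ⟨fun i => f (Ideal.Quotient.mk _ (MvPolynomial.X i)), ?_, ?_⟩
    · intro i
      change MvPolynomial.eval (fun i => f (Ideal.Quotient.mk _ (MvPolynomial.X i))) (P i) = 0
      rw [hevR]
      exact aeval_of_hom P f i
    · funext i
      have := DFunLike.congr_fun (e2.trans e1.symm) (Ideal.Quotient.mk _ (MvPolynomial.X i))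
      change φ (f (Ideal.Quotient.mk _ (MvPolynomial.X i))) = g _ at this
      change φ (f (Ideal.Quotient.mk _ (MvPolynomial.X i))) = s i
      rw [this]
      exact homOf_X P s hs1 i

end Groth.Agent.S0517
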