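import Groth.Statements.S0524
import Groth.Agent.Hensel.PairEtale

set_option autoImplicit false
universe u
open Hensel

namespace Groth.Agent.S0524

/-- Stacks Tag 09XI, (1) iff (5) with the uniqueness complement: `A` is Henselian at `I`
exactly when `I` lies in the Jacobson radical and, for every `n ≥ 1` and every polynomial `p` of
degree at most `n` with all coefficients in `I`, the polynomial `Tⁿ(T-1) + p` has exactly one
root congruent to `1` modulo `I`. -/
theorem result (A : Type u) [CommRing A] (I : Ideal A) :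
    HenselianRing A I ↔ (I ≤ Ideal.jacobson ⊥ ∧
      ∀ (n : ℕ), 0 < n → ∀ p : Polynomial A, p.natDegree ≤ n → (∀ i, p.coeff i ∈ I) →
        ∃! α : A, α - 1 ∈ I ∧
          Polynomial.IsRoot (Polynomial.X ^ n * (Polynomial.X - 1) + p) α) := by
  constructor
  · intro h
    refine ⟨HenselianRing.jac, fun n hn p hp hpI ↦ ?_⟩
    obtain ⟨α, hα, hr⟩ := (Hensel.PairGabber.isGabber_of_henselianRing (I := I)).2 n hn p hp hpI
    exact ⟨α, ⟨hα, hr⟩, fun β hβ ↦
      Hensel.PairGabber.gabber_root_unique HenselianRing.jac hpI hβ.1 hα hβ.2 hr⟩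
  · rintro ⟨h1, h2⟩
    refine Hensel.PairEtale.henselianRing_of_isGabber ⟨h1, fun n hn p hp hpI ↦ ?_⟩
    obtain ⟨α, hα, -⟩ := h2 n hn p hp hpI
    exact ⟨α, hα⟩

end Groth.Agent.S0524
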