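import Groth.Statements.S0529
import Mathlib.Algebra.Polynomial.Lifts
import Mathlib.Algebra.Polynomial.Monic
import Mathlib.Algebra.Ring.Pi
import Mathlib.Algebra.Group.Pi.Units
import Mathlib.Algebra.Polynomial.Degree.Lemmas

set_option autoImplicit false
universe u
open Hensel

namespace Groth.Agent.S0529

theorem eval_pi {J : Type u} (A : J → Type u) [∀ j, CommRing (A j)] (f : Polynomial (∀ j, A j))
    (a : ∀ j, A j) (j : J) :
    (f.eval a) j = (f.map (Pi.evalRingHom A j)).eval (a j) := by
  have := Polynomial.eval_map_apply (f := Pi.evalRingHom A j) (p := f) (x := a)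
  simpa using this.symm

theorem mem_iInf_comap_iff {J : Type u} (A : J → Type u) [∀ j, CommRing (A j)]
    (I : ∀ j, Ideal (A j)) (x : ∀ j, A j) :
    x ∈ (⨅ j, Ideal.comap (Pi.evalRingHom A j) (I j)) ↔ ∀ j, x j ∈ I j := by
  simp [Ideal.mem_comap]

theorem isUnit_mk_iff {R : Type u} [CommRing R] (I : Ideal R) (x : R) :
    IsUnit (Ideal.Quotient.mk I x) ↔ ∃ y, x * y - 1 ∈ I := by
  rw [isUnit_iff_exists_inv]
  constructor
  · rintro ⟨b, hb⟩
    obtain ⟨b, rfl⟩ := Ideal.Quotient.mk_surjective b
    refine ⟨b, ?_⟩
    rw [← Ideal.Quotient.eq, map_mul, map_one]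
    exact hb
  · rintro ⟨y, hy⟩
    refine ⟨Ideal.Quotient.mk I y, ?_⟩
    rw [← Ideal.Quotient.eq, map_mul, map_one] at hy
    exact hy

/-- Stacks Tag 0ATD: a product of rings, with the product ideal, is Henselian exactly when every
factor is Henselian at its ideal. -/
theorem result (J : Type u) (A : J → Type u) [∀ j, CommRing (A j)]
    (I : ∀ j, Ideal (A j)) :
    HenselianRing (∀ j, A j) (⨅ j, Ideal.comap (Pi.evalRingHom A j) (I j)) ↔
      ∀ j, HenselianRing (A j) (I j) := by
  classical
  constructor
  · intro H j
    have hjac : I j ≤ Ideal.jacobson ⊥ := by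
      intro x hx
      rw [Ideal.mem_jacobson_bot]
      intro y
      have h1 : Pi.single j x ∈ (⨅ j, Ideal.comap (Pi.evalRingHom A j) (I j)) := by
        rw [mem_iInf_comap_iff]
        intro i
        by_cases hij : i = j
        · subst hij
          simpa using hx
        · simp [Pi.single_eq_of_ne hij]
      have h2 := Ideal.mem_jacobson_bot.mp (H.jac h1) (Pi.single j y)
      have h3 := h2.map (Pi.evalRingHom A j)
      simpa using h3
    refine ⟨hjac, ?_⟩
    intro f hf a₀ h₁ h₂
    rcases subsingleton_or_nontrivial (A j) with hs | hn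
    · exact ⟨a₀, Subsingleton.elim _ _, by simp⟩
    have hdeg : 0 < f.natDegree := by
      rw [Nat.pos_iff_ne_zero]
      intro h0
      have hf1 : f = 1 := Polynomial.eq_one_of_monic_natDegree_zero hf h0
      rw [hf1, Polynomial.eval_one] at h₁
      have := Ideal.mem_jacobson_bot.mp (hjac h₁) (-1)
      simp at this
    have : Nontrivial (∀ j, A j) := Pi.nontrivial_at j
    have hlift : f ∈ Polynomial.lifts (Pi.evalRingHom A j) := by
      rw [Polynomial.mem_lifts]
      exact Polynomial.map_surjective _ (Function.surjective_eval j) f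
    obtain ⟨g, hg1, hg2, hg3⟩ := Polynomial.lifts_and_natDegree_eq_and_monic hlift hf
    let e : ∀ j, A j := Pi.single j 1
    let n := f.natDegree - 1
    have hn1 : f.natDegree = n + 1 := by omega
    let q : Polynomial (∀ j, A j) := Polynomial.X ^ (n + 1) - Polynomial.X ^ n
    have hq : q.Monic := by
      apply Polynomial.monic_X_pow_sub
      rw [Polynomial.degree_X_pow]
      exact_mod_cast Nat.lt_succ_self n
    have hqdeg : q.degree = ((n + 1 : ℕ) : WithBot ℕ) := by
      have h0 : (Polynomial.X ^ n : Polynomial (∀ j, A j)).degree <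
          (Polynomial.X ^ (n + 1) : Polynomial (∀ j, A j)).degree := by
        rw [Polynomial.degree_X_pow, Polynomial.degree_X_pow]
        exact_mod_cast Nat.lt_succ_self n
      rw [Polynomial.degree_sub_eq_left_of_degree_lt h0, Polynomial.degree_X_pow]
    have hgdeg : g.degree = q.degree := by
      rw [hqdeg, Polynomial.degree_eq_natDegree hg3.ne_zero, hg2, hn1]
    let P : Polynomial (∀ j, A j) := q + Polynomial.C e * (g - q)
    have hP : P.Monic := by
      apply Polynomial.Monic.add_of_left hq
      have h1 : (g - q).degree < q.degree := by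
        rw [← hgdeg]
        exact Polynomial.degree_sub_lt_left hgdeg hg3.ne_zero
          (hg3.leadingCoeff.trans hq.leadingCoeff.symm)
      refine lt_of_le_of_lt ?_ h1
      rw [← Polynomial.smul_eq_C_mul]
      exact Polynomial.degree_smul_le _ _
    have hPj : P.map (Pi.evalRingHom A j) = f := by
      simp [P, e, hg1]
    have hPi : ∀ i, i ≠ j → P.map (Pi.evalRingHom A i) = q.map (Pi.evalRingHom A i) := by
      intro i hij
      simp [P, e, Pi.single_eq_of_ne hij]
    obtain ⟨b, hb⟩ := (isUnit_mk_iff _ _).mp h₂
    obtain ⟨a, ha1, ha2⟩ := H.is_henselian P hP (Function.update 1 j a₀) (by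
      rw [mem_iInf_comap_iff]
      intro i
      rw [eval_pi]
      by_cases hij : i = j
      · subst hij
        rw [hPj]
        simpa using h₁
      · rw [hPi i hij]
        simp [q, Function.update_of_ne hij]) (by
      rw [isUnit_mk_iff]
      refine ⟨Function.update 1 j b, ?_⟩
      rw [mem_iInf_comap_iff]
      intro i
      rw [Pi.sub_apply, Pi.mul_apply, eval_pi, ← Polynomial.derivative_map]
      by_cases hij : i = j
      · subst hij
        rw [hPj]
        simpa using hb
      · rw [hPi i hij]
        have : (Polynomial.eval 1 (Polynomial.derivative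
            (Polynomial.map (Pi.evalRingHom A i) q))) = 1 := by
          simp only [q, Polynomial.map_sub, Polynomial.map_pow, Polynomial.map_X,
            Polynomial.derivative_sub, Polynomial.derivative_X_pow]
          simp
        rw [Function.update_of_ne hij, Function.update_of_ne hij, Pi.one_apply, this]
        simp)
    refine ⟨a j, ?_, ?_⟩
    · rw [Polynomial.IsRoot.def, ← hPj, ← eval_pi, ha1.eq_zero]
      rfl
    · rw [mem_iInf_comap_iff] at ha2
      have := ha2 j
      simpa using this
  · intro H
    have hjac : (⨅ j, Ideal.comap (Pi.evalRingHom A j) (I j)) ≤ Ideal.jacobson ⊥ := by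
      intro x hx
      rw [mem_iInf_comap_iff] at hx
      rw [Ideal.mem_jacobson_bot]
      intro y
      rw [Pi.isUnit_iff]
      intro j
      exact Ideal.mem_jacobson_bot.mp ((H j).jac (hx j)) (y j)
    refine ⟨hjac, ?_⟩
    intro f hf a₀ h₁ h₂
    rw [mem_iInf_comap_iff] at h₁
    rw [isUnit_mk_iff] at h₂
    obtain ⟨b, hb⟩ := h₂
    rw [mem_iInf_comap_iff] at hb
    have key : ∀ j, ∃ a : A j, (f.map (Pi.evalRingHom A j)).IsRoot a ∧ a - a₀ j ∈ I j := by
      intro j
      refine (H j).is_henselian _ (hf.map _) (a₀ j) ?_ ?_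
      · have := h₁ j
        rwa [eval_pi] at this
      · rw [isUnit_mk_iff]
        refine ⟨b j, ?_⟩
        have := hb j
        rw [Pi.sub_apply, Pi.mul_apply, eval_pi, ← Polynomial.derivative_map] at this
        exact this
    choose a ha1 ha2 using key
    refine ⟨a, ?_, ?_⟩
    · rw [Polynomial.IsRoot.def]
      funext j
      rw [eval_pi]
      exact ha1 j
    · rw [mem_iInf_comap_iff]
      exact ha2

end Groth.Agent.S0529
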