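import Groth.Statements.S0531
import Groth.Agent.S0524
import Groth.Agent.S0528

set_option autoImplicit false
universe u
open Hensel

namespace Groth.Agent.S0531

theorem eval_mem_of_coeff_mem {A : Type u} [CommRing A] (I : Ideal A) (p : Polynomial A)
    (hp : ∀ i, p.coeff i ∈ I) (a : A) : p.eval a ∈ I := by
  rw [Polynomial.eval_eq_sum_range]
  exact I.sum_mem fun i _ => I.mul_mem_right _ (hp i)

theorem monic_gabber {A : Type u} [CommRing A] (n : ℕ) (p : Polynomial A)
    (hp : p.natDegree ≤ n) : (Polynomial.X ^ n * (Polynomial.X - 1) + p).Monic := by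
  rcases subsingleton_or_nontrivial A with hs | hn
  · exact Subsingleton.elim _ _
  have h1 : (Polynomial.X ^ n * (Polynomial.X - 1) : Polynomial A).Monic :=
    (Polynomial.monic_X_pow n).mul (by simpa using Polynomial.monic_X_sub_C (1 : A))
  have h2 : (Polynomial.X ^ n * (Polynomial.X - 1) : Polynomial A).degree = ((n + 1 : ℕ) : WithBot ℕ) := by
    rw [← Polynomial.C_1, Polynomial.Monic.degree_mul (Polynomial.monic_X_sub_C (1 : A)),
      Polynomial.degree_X_pow, Polynomial.degree_X_sub_C]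
    rfl
  apply h1.add_of_left
  rw [h2]
  refine lt_of_le_of_lt Polynomial.degree_le_natDegree ?_
  exact_mod_cast Nat.lt_succ_of_le hp

theorem derivative_unit_gabber {A : Type u} [CommRing A] (I : Ideal A)
    (hI : I ≤ Ideal.jacobson ⊥) (n : ℕ) (p : Polynomial A)
    (hpI : ∀ i, p.coeff i ∈ I) (a : A) (ha : a - 1 ∈ I) :
    IsUnit ((Polynomial.X ^ n * (Polynomial.X - 1) + p).derivative.eval a) := by
  have := isLocalHom_of_le_jacobson_bot I hI
  apply IsUnit.of_map (Ideal.Quotient.mk I)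
  have h1 : Ideal.Quotient.mk I a = 1 := by
    rw [← map_one (Ideal.Quotient.mk I), Ideal.Quotient.eq]
    exact ha
  have hp0 : p.map (Ideal.Quotient.mk I) = 0 := by
    ext i
    rw [Polynomial.coeff_map, Polynomial.coeff_zero]
    exact Ideal.Quotient.eq_zero_iff_mem.mpr (hpI i)
  rw [← Polynomial.eval_map_apply, ← Polynomial.derivative_map, Polynomial.map_add, hp0, add_zero]
  simp [h1, Polynomial.derivative_mul]

theorem gabber_unique {A : Type u} [CommRing A] (I : Ideal A)
    (hI : I ≤ Ideal.jacobson ⊥) (n : ℕ) (p : Polynomial A)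
    (hpI : ∀ i, p.coeff i ∈ I) (a b : A) (ha : a - 1 ∈ I) (hb : b - 1 ∈ I)
    (ha' : (Polynomial.X ^ n * (Polynomial.X - 1) + p).IsRoot a)
    (hb' : (Polynomial.X ^ n * (Polynomial.X - 1) + p).IsRoot b) : a = b := by
  have h := Groth.Agent.S0528.sub_mem_of_root A ⊥ (Polynomial.X ^ n * (Polynomial.X - 1) + p) a b ha'
    (hI (by simpa using I.sub_mem ha hb)) (derivative_unit_gabber I hI n p hpI b hb)
    (by rw [hb'.eq_zero]; exact zero_mem _)
  exact sub_eq_zero.mp h

/-- If `A` is Henselian at `I` and at `J`, then it is Henselian at `I + J`. -/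
theorem henselianRing_sup (A : Type u) [CommRing A] (I J : Ideal A) (hI : HenselianRing A I)
    (hJ : HenselianRing A J) : HenselianRing A (I ⊔ J) := by
  have hjac : I ⊔ J ≤ Ideal.jacobson ⊥ := sup_le hI.jac hJ.jac
  rw [Groth.Agent.S0524.result]
  refine ⟨hjac, ?_⟩
  intro n hn p hp hpIJ
  apply existsUnique_of_exists_of_unique
  · have hc : ∀ i, ∃ y ∈ I, ∃ z ∈ J, y + z = p.coeff i := fun i => Submodule.mem_sup.mp (hpIJ i)
    choose y hy z hz hyz using hc
    let pJ : Polynomial A := ∑ i ∈ Finset.range (n + 1), Polynomial.monomial i (z i)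
    let pI : Polynomial A := ∑ i ∈ Finset.range (n + 1), Polynomial.monomial i (y i)
    have hsum : pI + pJ = p := by
      rw [← Finset.sum_add_distrib]
      conv_rhs => rw [Polynomial.as_sum_range' p (n + 1) (Nat.lt_succ_of_le hp)]
      refine Finset.sum_congr rfl fun i _ => ?_
      rw [← map_add, hyz]
    have hpJ1 : ∀ i, pJ.coeff i ∈ J := by
      intro i
      rw [Polynomial.finsetSum_coeff]
      refine J.sum_mem fun j _ => ?_
      rw [Polynomial.coeff_monomial]
      split_ifs
      · exact hz j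
      · exact J.zero_mem
    have hpI1 : ∀ i, pI.coeff i ∈ I := by
      intro i
      rw [Polynomial.finsetSum_coeff]
      refine I.sum_mem fun j _ => ?_
      rw [Polynomial.coeff_monomial]
      split_ifs
      · exact hy j
      · exact I.zero_mem
    have hpJ2 : pJ.natDegree ≤ n := by
      refine Polynomial.natDegree_sum_le_of_forall_le _ _ fun i hi => ?_
      refine (Polynomial.natDegree_monomial_le _).trans ?_
      exact Nat.lt_succ_iff.mp (Finset.mem_range.mp hi)
    obtain ⟨α, ⟨hα1, hα2⟩, -⟩ := ((Groth.Agent.S0524.result A J).mp hJ).2 n hn pJ hpJ2 hpJ1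
    obtain ⟨β, hβ1, hβ2⟩ := hI.is_henselian (Polynomial.X ^ n * (Polynomial.X - 1) + p)
      (monic_gabber n p hp) α (by
        rw [← hsum, add_comm pI pJ, ← add_assoc, Polynomial.eval_add, hα2.eq_zero, zero_add]
        exact eval_mem_of_coeff_mem I pI hpI1 α)
        ((derivative_unit_gabber (I ⊔ J) hjac n p hpIJ α (Ideal.mem_sup_right hα1)).map _)
    refine ⟨β, ?_, hβ1⟩
    have h := (I ⊔ J).add_mem (Ideal.mem_sup_left hβ2) (Ideal.mem_sup_right hα1)
    rwa [sub_add_sub_cancel] at h
  · rintro a b ⟨ha, ha'⟩ ⟨hb, hb'⟩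
    exact gabber_unique (I ⊔ J) hjac n p hpIJ a b ha hb ha' hb'

/-- Stacks Tag 0G1S: every ring has a largest ideal at which it is Henselian. -/
theorem result (A : Type u) [CommRing A] :
    ∃ I : Ideal A, HenselianRing A I ∧ ∀ J : Ideal A, HenselianRing A J → J ≤ I := by
  let S : Set (Ideal A) := {I | HenselianRing A I}
  have hS : S.Nonempty := by
    refine ⟨⊥, ⟨bot_le, ?_⟩⟩
    intro f _ a₀ h₁ _
    exact ⟨a₀, h₁, by simp⟩
  have hdir : DirectedOn (· ≤ ·) S := by
    intro I hI J hJ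
    exact ⟨I ⊔ J, henselianRing_sup A I J hI hJ, le_sup_left, le_sup_right⟩
  refine ⟨sSup S, ?_, fun J hJ => le_sSup hJ⟩
  have hjac : sSup S ≤ Ideal.jacobson ⊥ := sSup_le fun I hI => hI.jac
  have := isLocalHom_of_le_jacobson_bot _ hjac
  refine ⟨hjac, ?_⟩
  intro f hf a₀ h₁ h₂
  rw [Submodule.mem_sSup_of_directed hS hdir] at h₁
  obtain ⟨I, hI, hI'⟩ := h₁
  have hu : IsUnit (f.derivative.eval a₀) := IsUnit.of_map (Ideal.Quotient.mk (sSup S)) _ h₂
  obtain ⟨a, ha, ha'⟩ := (hI : HenselianRing A I).is_henselian f hf a₀ hI' (hu.map _)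
  exact ⟨a, ha, le_sSup hI ha'⟩

end Groth.Agent.S0531
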