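import Groth.Statements.S0534
import Mathlib.RingTheory.Finiteness.Projective
import Mathlib.LinearAlgebra.TensorProduct.Pi
import Groth.Agent.Hensel.IdemPoly
-- import your own Groth.Agent.* helpers here

set_option autoImplicit false
universe u
open Hensel

namespace Groth.Agent.S0534

/-- Stacks Tag 0D4A, surjectivity on isomorphism classes: if `R` is Henselian at `I`, every
finitely generated projective `R/I`-module is the base change of a finitely generated projective
`R`-module. -/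
theorem result (R : Type u) [CommRing R] (I : Ideal R)
    [HenselianRing R I] (Q : Type u) [AddCommGroup Q] [Module (R ⧸ I) Q] [Module.Finite (R ⧸ I) Q]
    [Module.Projective (R ⧸ I) Q] :
    ∃ (P : Type u) (_ : AddCommGroup P) (_ : Module R P), Module.Finite R P ∧ Module.Projective R P ∧
      Nonempty (TensorProduct R (R ⧸ I) P ≃ₗ[R ⧸ I] Q) := by
  classical
  obtain ⟨n, f, g, -, -, hfg⟩ := Module.Finite.exists_comp_eq_id_of_projective (R ⧸ I) Q
  -- the idempotent
  have hidem : (g ∘ₗ f) * (g ∘ₗ f) = g ∘ₗ f := by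
    apply LinearMap.ext
    intro x
    have := LinearMap.congr_fun hfg (f x)
    simp only [LinearMap.comp_apply, LinearMap.id_apply] at this
    simp only [Module.End.mul_apply, LinearMap.comp_apply, this]
  obtain ⟨p, hp, hpI⟩ := Groth.Agent.Hensel.IdemPoly.exists_idem_matrix R I
    (LinearMap.toMatrix' (g ∘ₗ f)) (by
      rw [← LinearMap.toMatrix'_mul, hidem])
  let π : (Fin n → R) →ₗ[R] (Fin n → R) := Matrix.toLin' p
  have hπ : π ∘ₗ π = π := by
    rw [← Matrix.toLin'_mul, hp]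
  let P := LinearMap.range π
  let r : (Fin n → R) →ₗ[R] P := π.rangeRestrict
  let s : P →ₗ[R] (Fin n → R) := P.subtype
  have hsr : s ∘ₗ r = π := rfl
  have hrs : r ∘ₗ s = LinearMap.id := by
    apply LinearMap.ext
    rintro ⟨_, y, rfl⟩
    apply Subtype.ext
    exact LinearMap.congr_fun hπ y
  have hproj : Module.Projective R P := Module.Projective.of_split s r hrs
  have hfin : Module.Finite R P := Module.Finite.range π
  refine ⟨P, inferInstance, inferInstance, hfin, hproj, ?_⟩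
  let e : TensorProduct R (R ⧸ I) (Fin n → R) ≃ₗ[R ⧸ I] (Fin n → R ⧸ I) :=
    TensorProduct.piScalarRight R (R ⧸ I) (R ⧸ I) (Fin n)
  have key'' : e.toLinearMap ∘ₗ (π.baseChange (R ⧸ I)) = (g ∘ₗ f) ∘ₗ e.toLinearMap := by
    have hgf : g ∘ₗ f = Matrix.toLin' (p.map (Ideal.Quotient.mk I)) := by
      rw [hpI, Matrix.toLin'_toMatrix']
    rw [hgf]
    ext i j
    simp only [LinearMap.comp_apply, TensorProduct.AlgebraTensorModule.curry_apply,
      TensorProduct.curry_apply, LinearMap.restrictScalars_apply, LinearMap.coe_single,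
      LinearMap.baseChange_tmul, LinearEquiv.coe_coe, e, π,
      TensorProduct.piScalarRight_apply, TensorProduct.piScalarRightHom_tmul, Matrix.toLin'_apply]
    have h3 : (fun j => (Pi.single i (1 : R) : Fin n → R) j • (1 : R ⧸ I)) = Pi.single i 1 := by
      ext k
      by_cases hk : k = i
      · subst hk; simp
      · simp [Pi.single_eq_of_ne hk]
    rw [h3, Matrix.mulVec_single_one, Matrix.mulVec_single_one]
    simp only [Matrix.col_apply, Matrix.map_apply, Algebra.smul_def, mul_one]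
    rfl
  have key : e.toLinearMap ∘ₗ (π.baseChange (R ⧸ I)) ∘ₗ e.symm.toLinearMap = g ∘ₗ f := by
    rw [← LinearMap.comp_assoc, key'', LinearMap.comp_assoc]
    simp
  have key' : (g ∘ₗ f) ∘ₗ e.toLinearMap = e.toLinearMap ∘ₗ π.baseChange (R ⧸ I) := by
    exact key''.symm
  have h1 : (r.baseChange (R ⧸ I)) ∘ₗ (s.baseChange (R ⧸ I)) = LinearMap.id := by
    rw [← LinearMap.baseChange_comp, hrs, LinearMap.baseChange_id]
  have h2 : (s.baseChange (R ⧸ I)) ∘ₗ (r.baseChange (R ⧸ I)) = π.baseChange (R ⧸ I) := by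
    rw [← LinearMap.baseChange_comp, hsr]
  refine ⟨LinearEquiv.ofLinearMap (f ∘ₗ e.toLinearMap ∘ₗ s.baseChange (R ⧸ I))
    (r.baseChange (R ⧸ I) ∘ₗ e.symm.toLinearMap ∘ₗ g) ?_ ?_⟩
  · calc (f ∘ₗ e.toLinearMap ∘ₗ s.baseChange (R ⧸ I)) ∘ₗ
          (r.baseChange (R ⧸ I) ∘ₗ e.symm.toLinearMap ∘ₗ g)
        = f ∘ₗ (e.toLinearMap ∘ₗ ((s.baseChange (R ⧸ I)) ∘ₗ (r.baseChange (R ⧸ I))) ∘ₗ
            e.symm.toLinearMap) ∘ₗ g := by simp only [LinearMap.comp_assoc]
      _ = (f ∘ₗ g) ∘ₗ (f ∘ₗ g) := by rw [h2, key]; simp only [LinearMap.comp_assoc]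
      _ = LinearMap.id := by rw [hfg]; rfl
  · calc (r.baseChange (R ⧸ I) ∘ₗ e.symm.toLinearMap ∘ₗ g) ∘ₗ
          (f ∘ₗ e.toLinearMap ∘ₗ s.baseChange (R ⧸ I))
        = r.baseChange (R ⧸ I) ∘ₗ e.symm.toLinearMap ∘ₗ ((g ∘ₗ f) ∘ₗ e.toLinearMap) ∘ₗ
            s.baseChange (R ⧸ I) := by simp only [LinearMap.comp_assoc]
      _ = r.baseChange (R ⧸ I) ∘ₗ (e.symm.toLinearMap ∘ₗ e.toLinearMap) ∘ₗ
            (π.baseChange (R ⧸ I)) ∘ₗ s.baseChange (R ⧸ I) := by
          rw [key']; simp only [LinearMap.comp_assoc]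
      _ = (r.baseChange (R ⧸ I) ∘ₗ s.baseChange (R ⧸ I)) ∘ₗ
            (r.baseChange (R ⧸ I) ∘ₗ s.baseChange (R ⧸ I)) := by
          rw [← h2]
          simp [LinearMap.comp_assoc]
      _ = LinearMap.id := by rw [h1]; rfl

end Groth.Agent.S0534
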