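import Groth.Statements.S0535
import Mathlib.LinearAlgebra.TensorProduct.Quotient
import Mathlib.LinearAlgebra.TensorProduct.RightExactness
import Mathlib.RingTheory.Nakayama
import Mathlib.RingTheory.FiniteType
import Mathlib.Algebra.Module.Projective

set_option autoImplicit false
universe u
open Hensel

namespace Groth.Agent.S0535

theorem exists_lift (R : Type u) [CommRing R] (I : Ideal R)
    (P₁ P₂ : Type u) [AddCommGroup P₁] [Module R P₁] [AddCommGroup P₂]
    [Module R P₂] [Module.Projective R P₁]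
    (e : TensorProduct R (R ⧸ I) P₁ →ₗ[R ⧸ I] TensorProduct R (R ⧸ I) P₂) :
    ∃ φ : P₁ →ₗ[R] P₂, ∀ x, TensorProduct.mk R (R ⧸ I) P₂ 1 (φ x) =
      e (TensorProduct.mk R (R ⧸ I) P₁ 1 x) := by
  obtain ⟨φ, hφ⟩ := Module.projective_lifting_property (TensorProduct.mk R (R ⧸ I) P₂ 1)
    ((e.restrictScalars R).comp (TensorProduct.mk R (R ⧸ I) P₁ 1))
    (TensorProduct.mk_surjective R P₂ (R ⧸ I) Ideal.Quotient.mk_surjective)
  exact ⟨φ, fun x => LinearMap.congr_fun hφ x⟩

theorem bijective_of_sub_mem (R : Type u) [CommRing R] (I : Ideal R) (hI : I ≤ Ideal.jacobson ⊥)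
    (P : Type u) [AddCommGroup P] [Module R P] [Module.Finite R P] (f : P →ₗ[R] P)
    (hf : ∀ x, TensorProduct.mk R (R ⧸ I) P 1 (f x) = TensorProduct.mk R (R ⧸ I) P 1 x) :
    Function.Bijective f := by
  apply OrzechProperty.bijective_of_surjective_endomorphism
  rw [← LinearMap.range_eq_top, eq_top_iff]
  apply Submodule.le_of_le_smul_of_le_jacobson_bot Module.Finite.fg_top hI
  intro x _
  have h1 : x - f x ∈ LinearMap.ker (TensorProduct.mk R (R ⧸ I) P 1) := by
    rw [LinearMap.mem_ker, map_sub, hf, sub_self]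
  rw [LinearMap.ker_tensorProductMk] at h1
  rw [← add_sub_cancel (f x) x]
  exact Submodule.add_mem_sup ⟨x, rfl⟩ h1

/-- Stacks Tag 0D4A, injectivity on isomorphism classes: if `R` is Henselian at `I` and two
finitely generated projective `R`-modules become isomorphic after base change to `R/I`, then they
are isomorphic. -/
theorem result (R : Type u) [CommRing R] (I : Ideal R)
    [HenselianRing R I] (P₁ P₂ : Type u) [AddCommGroup P₁] [Module R P₁] [AddCommGroup P₂]
    [Module R P₂] [Module.Finite R P₁] [Module.Projective R P₁] [Module.Finite R P₂]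
    [Module.Projective R P₂]
    (e : TensorProduct R (R ⧸ I) P₁ ≃ₗ[R ⧸ I] TensorProduct R (R ⧸ I) P₂) :
    Nonempty (P₁ ≃ₗ[R] P₂) := by
  have hI : HenselianRing R I := inferInstance
  obtain ⟨φ, hφ⟩ := exists_lift R I P₁ P₂ e.toLinearMap
  obtain ⟨ψ, hψ⟩ := exists_lift R I P₂ P₁ e.symm.toLinearMap
  have h1 : Function.Bijective (ψ ∘ₗ φ) := by
    apply bijective_of_sub_mem R I hI.jac
    intro x
    rw [LinearMap.comp_apply, hψ, hφ]
    simp
  have h2 : Function.Bijective (φ ∘ₗ ψ) := by
    apply bijective_of_sub_mem R I hI.jac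
    intro x
    rw [LinearMap.comp_apply, hφ, hψ]
    simp
  refine ⟨LinearEquiv.ofBijective φ ⟨?_, ?_⟩⟩
  · rw [LinearMap.coe_comp] at h1
    exact Function.Injective.of_comp h1.1
  · rw [LinearMap.coe_comp] at h2
    exact Function.Surjective.of_comp h2.2

end Groth.Agent.S0535
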