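import Groth.Statements.S0542
import Groth.Agent.Ega4A.CompleteNoeth

set_option autoImplicit false
universe u
open CAlg

namespace Groth.Agent.S0542

/-- Stacks Tag 05GH: if `I` is a finitely generated ideal of a ring `R` and `R/I` is Noetherian,
then the `I`-adic completion of `R` is a Noetherian ring. (The source also states completeness of the
completion along the extended ideal, which Mathlib already has; only Noetherianity is stated here.) -/
theorem result (R : Type u) [CommRing R] (I : Ideal R)
    (hI : I.FG) [IsNoetherianRing (R ⧸ I)] : IsNoetherianRing (AdicCompletion I R) :=
  Groth.Agent.Ega4A.CompleteNoeth.isNoetherianRing_adicCompletion_of_fg I hI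

end Groth.Agent.S0542
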