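import Groth.Statements.S0551
import Groth.Agent.CalgA.FlatLim2
import Groth.Agent.S0542

set_option autoImplicit false
universe u
open CAlg

namespace Groth.Agent.S0551

/-- Stacks Tag 0AGW: completing a module `M` along a finitely generated ideal `I` with Noetherian quotient
ring yields a module flat over the completed ring, provided `M/IM` is flat over `R/I` and the
multiplication map `I ⊗ M → M` is injective (the vanishing of the first Tor of `M` against `R/I`).
(The source also records that the completed ring is Noetherian; that is the row for Tag 05GH.) -/
theorem result (R : Type u) [CommRing R] (I : Ideal R) (hI : I.FG)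
    [IsNoetherianRing (R ⧸ I)] (M : Type u) [AddCommGroup M] [Module R M]
    [Module.Flat (R ⧸ I) (M ⧸ (I • ⊤ : Submodule R M))]
    (hT : Function.Injective (TensorProduct.lift ((LinearMap.lsmul R M).comp (Submodule.subtype I)))) :
    Module.Flat (AdicCompletion I R) (AdicCompletion I M) := by
  have h1 : IsNoetherianRing (AdicCompletion I R) := Groth.Agent.S0542.result R I hI
  have h2 : Module.Flat (R ⧸ I) (TensorProduct R (R ⧸ I) M) :=
    Module.Flat.of_linearEquiv ((TensorProduct.quotTensorEquivQuotSMul M I).extendScalarsOfSurjective
      Ideal.Quotient.mk_surjective)
  have h3 : Function.Injective (I.subtype.rTensor M) := by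
    intro x y hxy
    apply hT
    have h4 : TensorProduct.lift ((LinearMap.lsmul R M).comp (Submodule.subtype I)) =
        (TensorProduct.lid R M).toLinearMap ∘ₗ I.subtype.rTensor M := by
      ext x m
      simp
    rw [h4, LinearMap.comp_apply, LinearMap.comp_apply, hxy]
  exact CalgA.FlatLim2.flat_adicCompletion_of_torZ I hI M h3

end Groth.Agent.S0551
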