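import Groth.Statements.S0557
import Groth.Agent.VarietyB.KrullAkizuki

set_option autoImplicit false
universe u
open CAlg

namespace Groth.Agent.S0557

/-- Stacks Tag 00PE: let `R` be a Noetherian local domain of dimension one with fraction field `K`,
`M` an `R`-submodule of `K^r`, and `x` a nonzero element of `R`. Then `R/xR` has finite length
and the length of `M/xM` is at most `r` times the length of `R/xR`. -/
theorem result (R : Type u) [CommRing R] [IsDomain R]
    [IsNoetherianRing R] [IsLocalRing R] (hdim : ringKrullDim R = 1) (K : Type u) [Field K]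
    [Algebra R K] [IsFractionRing R K] (r : ℕ) (M : Submodule R (Fin r → K)) (x : R) (hx : x ≠ 0) :
    Module.length R (R ⧸ Ideal.span ({x} : Set R)) ≠ ⊤ ∧
      Module.length R (M ⧸ (Ideal.span ({x} : Set R) • (⊤ : Submodule R M))) ≤
        r * Module.length R (R ⧸ Ideal.span ({x} : Set R)) := by
  have : Ring.KrullDimLE 1 R := by
    rw [Ring.KrullDimLE, Order.krullDimLE_iff]
    exact hdim.le
  refine ⟨Ring.ord_ne_top (mem_nonZeroDivisors_of_ne_zero hx), ?_⟩
  rw [← Groth.Agent.VarietyB.KrullAkizuki.L_eq]
  exact Groth.Agent.VarietyB.KrullAkizuki.L_le x hx r M.subtype (Submodule.subtype_injective M)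

end Groth.Agent.S0557
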