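import Groth.Statements.S0574
import Groth.Agent.CalgA.NagataBasic

set_option autoImplicit false
universe u
open CAlg

namespace Groth.Agent.S0574

open Groth.Agent.CalgA.NagataBasic in
/-- Stacks Tag 032M: for Noetherian domains of characteristic zero the conditions N-1 and N-2 coincide. -/
theorem result (R : Type u) [CommRing R] [IsDomain R] [IsNoetherianRing R]
    [CharZero R] : CAlg.IsN1 R ↔ CAlg.IsN2 R := by
  refine ⟨fun h => ?_, isN1_of_isN2⟩
  intro L _ _ _ _ hfd
  have : CharZero (FractionRing R) := charZero_of_injective_algebraMap
    (IsFractionRing.injective R (FractionRing R))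
  exact finite_of_isN1_of_isSeparable h (FractionRing R) L

end Groth.Agent.S0574
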