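import Groth.Statements.S0577
import Groth.Agent.CalgA.NagataCompl
import Mathlib.FieldTheory.KummerPolynomial
import Mathlib.RingTheory.AdjoinRoot
import Mathlib.RingTheory.AdicCompletion.Noetherian
import Mathlib.Algebra.CharP.Algebra

set_option autoImplicit false
universe u
open CAlg

namespace Groth.Agent.S0577

open Polynomial TensorProduct

/-- In a commutative ring in which the prime `p` vanishes, `(x - y) ^ p = x ^ p - y ^ p`. -/
lemma sub_pow_prime {T : Type*} [CommRing T] {p : ℕ} (hp : p.Prime) (h0 : (p : T) = 0) (x y : T) :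
    (x - y) ^ p = x ^ p - y ^ p := by
  obtain ⟨r, hr⟩ := exists_add_pow_prime_eq hp (x - y) y
  rw [h0, sub_add_cancel, zero_mul, zero_mul, zero_mul, add_zero] at hr
  rw [hr, add_sub_cancel_right]

/-- If a monic polynomial over a domain `A` is prime over the fraction field, it is prime. -/
lemma prime_of_monic {A K : Type*} [CommRing A] [IsDomain A] [Field K] [Algebra A K]
    [IsFractionRing A K] {f : A[X]} (hf : f.Monic) (h : Prime (f.map (algebraMap A K))) :
    Prime f := by
  have hinj : Function.Injective (algebraMap A K) := IsFractionRing.injective A K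
  refine ⟨hf.ne_zero, fun hu => h.not_isUnit (hu.map (Polynomial.mapRingHom (algebraMap A K))), ?_⟩
  intro g k hgk
  have := (Polynomial.map_dvd_map (algebraMap A K) hinj hf).mpr hgk
  rw [Polynomial.map_mul] at this
  rcases h.dvd_or_dvd this with h1 | h1
  · exact Or.inl ((Polynomial.map_dvd_map (algebraMap A K) hinj hf).mp h1)
  · exact Or.inr ((Polynomial.map_dvd_map (algebraMap A K) hinj hf).mp h1)

/-- Stacks Tag 09E2: let `A` be a Noetherian local domain of prime characteristic `p` which is a Nagata
ring. If `a ∈ A` has a `p`-th root in the completion of `A`, then it has a `p`-th root in `A`. -/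
theorem result (A : Type u) [CommRing A] [IsDomain A]
    [IsLocalRing A] (hA : CAlg.IsNagata A) (p : ℕ) [Fact p.Prime] [CharP A p] (a : A)
    (h : ∃ α : AdicCompletion (IsLocalRing.maximalIdeal A) A,
      α ^ p = algebraMap A (AdicCompletion (IsLocalRing.maximalIdeal A) A) a) :
    ∃ b : A, b ^ p = a := by
  classical
  have hp : p.Prime := Fact.out
  have hN : IsNoetherianRing A := hA.1
  set I := IsLocalRing.maximalIdeal A with hI
  obtain ⟨α, hα⟩ := h
  have hred : IsReduced (AdicCompletion I A) :=
    Groth.Agent.CalgA.NagataCompl.isReduced_adicCompletion hA I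
  have hpA : (p : A) = 0 := CharP.cast_eq_zero A p
  have hpC : (p : AdicCompletion I A) = 0 := by
    rw [← map_natCast (algebraMap A (AdicCompletion I A)), hpA, map_zero]
  by_cases hK : ∃ b : FractionRing A, b ^ p = algebraMap A (FractionRing A) a
  · -- `a` is a `p`-th power in the fraction field
    obtain ⟨b, hb⟩ := hK
    obtain ⟨c, d, hd, rfl⟩ := IsFractionRing.div_surjective (A := A) b
    have hd0 : d ≠ 0 := nonZeroDivisors.ne_zero hd
    have hd' : algebraMap A (FractionRing A) d ≠ 0 := by
      rw [Ne, FaithfulSMul.algebraMap_eq_zero_iff]; exact hd0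
    have hcd : c ^ p = d ^ p * a := by
      apply FaithfulSMul.algebraMap_injective A (FractionRing A)
      rw [map_mul, map_pow, map_pow, ← hb, div_pow, mul_div_cancel₀ _ (pow_ne_zero p hd')]
    -- `c = d α`
    have hdα : algebraMap A (AdicCompletion I A) d * α = algebraMap A (AdicCompletion I A) c := by
      rw [← sub_eq_zero]
      refine pow_eq_zero_iff hp.ne_zero |>.mp ?_
      rw [sub_pow_prime hp hpC, mul_pow, hα, ← map_pow, ← map_pow, ← map_mul, hcd, sub_self]
    -- hence `c ∈ d A`
    have hcd' : c ∈ Ideal.span {d} := by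
      have hH : IsHausdorff I (A ⧸ Ideal.span {d}) := inferInstance
      rw [← Ideal.Quotient.eq_zero_iff_mem]
      refine hH.haus _ fun n => ?_
      rw [SModEq.zero]
      obtain ⟨e, he⟩ := Ideal.Quotient.mk_surjective (AdicCompletion.evalₐ I n α)
      have h1 : AdicCompletion.evalₐ I n (algebraMap A (AdicCompletion I A) d * α) =
          AdicCompletion.evalₐ I n (algebraMap A (AdicCompletion I A) c) := by rw [hdα]
      rw [map_mul, AlgHom.commutes, AlgHom.commutes, ← he, Ideal.Quotient.algebraMap_eq,
        ← map_mul, Ideal.Quotient.eq] at h1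
      have h2 : Ideal.Quotient.mk (Ideal.span {d}) c =
          (c - d * e) • (1 : A ⧸ Ideal.span {d}) := by
        rw [Algebra.smul_def, mul_one, Ideal.Quotient.algebraMap_eq, Ideal.Quotient.eq,
          Ideal.mem_span_singleton]
        exact ⟨e, by ring⟩
      rw [h2]
      refine Submodule.smul_mem_smul ?_ Submodule.mem_top
      rw [← neg_mem_iff, neg_sub]
      exact h1
    obtain ⟨b, rfl⟩ := Ideal.mem_span_singleton.mp hcd'
    refine ⟨b, ?_⟩
    rw [mul_pow] at hcd
    exact mul_left_cancel₀ (pow_ne_zero p hd0) hcd
  · -- otherwise `A[X] / (X ^ p - a)` is a domain with non-reduced completion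
    exfalso
    push Not at hK
    let f : A[X] := X ^ p - C a
    have hf : f.Monic := monic_X_pow_sub_C a hp.ne_zero
    have hprime : Prime f := by
      refine prime_of_monic (K := FractionRing A) hf ?_
      have : f.map (algebraMap A (FractionRing A)) = X ^ p - C (algebraMap A _ a) := by
        simp [f]
      rw [this]
      exact (X_pow_sub_C_irreducible_of_prime hp hK).prime
    have : IsDomain (AdjoinRoot f) := AdjoinRoot.isDomain_of_prime hprime
    have : Module.Finite A (AdjoinRoot f) := hf.finite_adjoinRoot
    have hT := Groth.Agent.CalgA.NagataCompl.isReduced_tensorProduct_adicCompletion hA I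
      (AdjoinRoot f)
    let T := AdjoinRoot f ⊗[A] AdicCompletion I A
    let ε : T := AdjoinRoot.root f ⊗ₜ 1 - 1 ⊗ₜ α
    have hpT : (p : T) = 0 := by
      rw [← map_natCast (algebraMap A T), hpA, map_zero]
    have hroot : AdjoinRoot.root f ^ p = algebraMap A (AdjoinRoot f) a := by
      have := AdjoinRoot.eval₂_root f
      simp only [f, eval₂_sub, eval₂_pow, eval₂_X, eval₂_C] at this
      rw [← sub_eq_zero]
      exact this
    have hε : ε = 0 := by
      refine pow_eq_zero_iff hp.ne_zero |>.mp ?_
      simp only [ε]
      rw [sub_pow_prime hp hpT, Algebra.TensorProduct.tmul_pow, Algebra.TensorProduct.tmul_pow,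
        one_pow, one_pow, hα, hroot, Algebra.algebraMap_eq_smul_one, Algebra.algebraMap_eq_smul_one,
        TensorProduct.smul_tmul, sub_self]
    -- a linear functional separating `1` and the root
    let pb := AdjoinRoot.powerBasis' hf
    have hdim : pb.dim = p := by
      simp only [pb, AdjoinRoot.powerBasis'_dim, f]
      exact natDegree_X_pow_sub_C
    let i0 : Fin pb.dim := ⟨0, by rw [hdim]; exact hp.pos⟩
    let i1 : Fin pb.dim := ⟨1, by rw [hdim]; exact hp.one_lt⟩
    have hb0 : pb.basis i0 = 1 := by rw [pb.basis_eq_pow]; simp [i0]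
    have hb1 : pb.basis i1 = AdjoinRoot.root f := by
      rw [pb.basis_eq_pow]; simp [i1, pb]
    let φ : AdjoinRoot f →ₗ[A] A := pb.basis.coord i1
    have hφ1 : φ 1 = 0 := by
      rw [← hb0]
      change pb.basis.repr (pb.basis i0) i1 = 0
      rw [Module.Basis.repr_self, Finsupp.single_apply, if_neg]
      intro h
      exact zero_ne_one (Fin.mk.inj_iff.mp h)
    have hφr : φ (AdjoinRoot.root f) = 1 := by
      rw [← hb1]
      change pb.basis.repr (pb.basis i1) i1 = 1
      rw [Module.Basis.repr_self, Finsupp.single_apply, if_pos rfl]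
    have h2 := congrArg (LinearMap.rTensor (AdicCompletion I A) φ) hε
    simp only [ε, map_sub, map_zero, LinearMap.rTensor_tmul, hφ1, hφr, TensorProduct.zero_tmul,
      sub_zero] at h2
    have h3 := congrArg (TensorProduct.lid A (AdicCompletion I A)) h2
    simp only [TensorProduct.lid_tmul, one_smul, map_zero] at h3
    have hinj : Function.Injective (algebraMap A (AdicCompletion I A)) := by
      have := AdicCompletion.of_injective I A
      intro x y hxy
      exact this hxy
    exact one_ne_zero (hinj ((map_one _).trans (h3.trans (map_zero _).symm)))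

end Groth.Agent.S0577
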