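import Groth.Statements.S0579
import Groth.Agent.CalgA.CharZeroFS

set_option autoImplicit false
universe u
open CAlg

namespace Groth.Agent.S0579

/-- Stacks Tag 032A (1), case of residue characteristic zero: a local ring complete with respect to its
maximal ideal whose residue field has characteristic zero admits a coefficient field, i.e. a ring
section of the residue map. -/
theorem result (R : Type u) [CommRing R] [IsLocalRing R]
    [IsAdicComplete (IsLocalRing.maximalIdeal R) R] [CharZero (IsLocalRing.ResidueField R)] :
    ∃ s : IsLocalRing.ResidueField R →+* R, (IsLocalRing.residue R).comp s = RingHom.id _ := by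
  obtain ⟨halg⟩ := Groth.Agent.CalgA.CharZeroFS.nonempty_algebraRat_of_charZero_residueField R
  have : Algebra.FormallySmooth ℚ (IsLocalRing.ResidueField R) :=
    Groth.Agent.CalgA.CharZeroFS.formallySmooth_of_charZero ℚ _
  obtain ⟨s, hs⟩ := Groth.Agent.CalgA.CharZeroFS.exists_section_of_formallySmooth ℚ R
  exact ⟨s.toRingHom, RingHom.ext hs⟩

end Groth.Agent.S0579
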