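import Groth.Statements.S0587
import Groth.Agent.CalgA.MLBasic

set_option autoImplicit false
universe u
open CAlg

namespace Groth.Agent.S0587

/-- Stacks Tag 059J: a module `M` is finitely generated exactly when for every family of modules
`(Qᵢ)` the natural map from `M ⊗ ∏ Qᵢ` to `∏ (M ⊗ Qᵢ)` is surjective. -/
theorem result (R : Type u) [CommRing R] (M : Type u)
    [AddCommGroup M] [Module R M] :
    Module.Finite R M ↔ ∀ (ι : Type u) (Q : ι → Type u) [∀ i, AddCommGroup (Q i)]
      [∀ i, Module R (Q i)], Function.Surjective (TensorProduct.piRightHom R R M Q) := by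
  constructor
  · intro h ι Q _ _
    exact Groth.Agent.CalgA.MLBasic.piRightHom_surjective_of_finite Q
  · intro h
    exact Groth.Agent.CalgA.MLBasic.finite_of_piRightHom_eq (h M (fun _ => R) _)

end Groth.Agent.S0587
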