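import Groth.Statements.S0589
import Groth.Agent.CalgA.ML8
import Groth.Agent.S0497

set_option autoImplicit false
universe u
open scoped Classical
open CAlg

namespace Groth.Agent.S0589

/-- Stacks Tag 05D6: over a henselian local ring, a countably generated Mittag-Leffler module is an internal
direct sum of finitely presented submodules. -/
theorem result (R : Type u) [CommRing R]
    [HenselianLocalRing R] (M : Type u) [AddCommGroup M] [Module R M] (hc : CAlg.IsCountablyGenerated R M)
    (hML : CAlg.IsMittagLeffler R M) :
    ∃ (ι : Type u) (N : ι → Submodule R M), DirectSum.IsInternal N ∧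
      ∀ i, Module.FinitePresentation R (N i) := by
  obtain ⟨N, hN, hsup, hfp⟩ := Groth.Agent.CalgA.ML8.exists_decomposition
    (fun f g₀ h₀ hg hc hf => Groth.Agent.S0497.result R f g₀ h₀ hg hc hf) hML hc
  refine ⟨ULift.{u} ℕ, fun i => N i.down, ?_, fun i => hfp i.down⟩
  have h1 : iSupIndep (fun i : ULift.{u} ℕ => N i.down) := hN.comp ULift.down_injective
  have h2 : ⨆ i : ULift.{u} ℕ, N i.down = ⊤ := by
    rw [← hsup]
    exact Equiv.ulift.iSup_comp (g := N)
  convert DirectSum.isInternal_submodule_of_iSupIndep_of_iSup_eq_top h1 h2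

end Groth.Agent.S0589
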