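import Groth.Statements.S0592
-- import your own Groth.Agent.* helpers here
import Groth.Agent.CalgA.LimSep

set_option autoImplicit false
universe u
open CategoryTheory AlgebraicGeometry
open Lim

namespace Groth.Agent.S0592

/-- Stacks Tag 086Q: let `S` be the limit of a cofiltered system of quasi-compact quasi-separated schemes
with affine transition morphisms. If `S` is separated, then there is an index `i₀` such that every
stage mapping to `i₀` is separated. -/
theorem result {I : Type u} [SmallCategory I] [IsCofiltered I]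
    (D : I ⥤ Scheme.{u}) (c : Limits.Cone D) (hc : Limits.IsLimit c)
    [∀ (i j : I) (f : i ⟶ j), IsAffineHom (D.map f)] [∀ i, CompactSpace (D.obj i)]
    [∀ i, QuasiSeparatedSpace (D.obj i)]
    [IsSeparated (Limits.IsTerminal.from specULiftZIsTerminal c.pt)] :
    ∃ i₀ : I, ∀ (i : I) (_ : i ⟶ i₀),
      IsSeparated (Limits.IsTerminal.from specULiftZIsTerminal (D.obj i)) := by
  let T : Scheme.{u} := Spec (CommRingCat.of (ULift.{u} ℤ))
  let Y : I ⥤ Scheme.{u} := (Functor.const I).obj T
  let f : D ⟶ Y := { app i := Limits.IsTerminal.from specULiftZIsTerminal (D.obj i)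
                     naturality _ _ _ := specULiftZIsTerminal.hom_ext _ _ }
  let cY : Limits.Cone Y := ⟨T, { app i := 𝟙 T, naturality _ _ _ := specULiftZIsTerminal.hom_ext _ _ }⟩
  have hcY : Limits.IsLimit cY :=
    { lift s := Limits.IsTerminal.from specULiftZIsTerminal s.pt
      fac s i := specULiftZIsTerminal.hom_ext _ _
      uniq s m hm := specULiftZIsTerminal.hom_ext _ _ }
  have : ∀ i, QuasiSeparatedSpace (Y.obj i) := fun i ↦
    inferInstanceAs (QuasiSeparatedSpace (Spec (CommRingCat.of (ULift.{u} ℤ))))
  have : ∀ {i j : I} (φ : i ⟶ j), IsSeparated (Y.map φ) := fun {i j} φ ↦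
    inferInstanceAs (IsSeparated (𝟙 T))
  have : ∀ {i j : I} (φ : i ⟶ j), IsAffineHom (D.map φ) := fun {i j} φ ↦ inferInstance
  exact CalgA.LimSep.exists_forall_isSeparated_of_isLimit f c cY
    (Limits.IsTerminal.from specULiftZIsTerminal c.pt) hc hcY
    (fun i ↦ specULiftZIsTerminal.hom_ext _ _)

end Groth.Agent.S0592
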