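import Groth.Statements.S2120
import Mathlib.AlgebraicGeometry.Morphisms.Immersion

set_option autoImplicit false
universe u
open CategoryTheory AlgebraicGeometry
open Mor

namespace Groth.Agent.S2120

/-- Stacks Tag 09MQ, (1) and (2): let `f : X → Y` be surjective and universally closed. If `X` is quasi-separated then so is `Y`; if `X` is separated then
so is `Y`. -/
theorem result {X Y : Scheme.{u}} (f : X ⟶ Y) [Surjective f] [UniversallyClosed f] :
    (QuasiSeparatedSpace X → QuasiSeparatedSpace Y) ∧ (X.IsSeparated → Y.IsSeparated) := by
  have hqc : QuasiCompact f := inferInstance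
  constructor
  · intro hX
    constructor
    intro U V hU hUc hV hVc
    have h1 : IsCompact (f ⁻¹' (U ∩ V)) := by
      rw [Set.preimage_inter]
      exact hX.inter_isCompact _ _ (hU.preimage f.continuous) (QuasiCompact.isCompact_preimage _ hU hUc)
        (hV.preimage f.continuous) (QuasiCompact.isCompact_preimage _ hV hVc)
    have h2 := h1.image f.continuous
    rwa [Set.image_preimage_eq _ f.surjective] at h2
  · intro hX
    constructor
    constructor
    refine .of_isPreimmersion _ ?_
    let tX := Limits.terminal.from X
    let tY := Limits.terminal.from Y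
    have hcl : IsClosed (Set.range (Limits.pullback.diagonal tX)) :=
      (Limits.pullback.diagonal tX).isClosedEmbedding.isClosed_range
    let F : Limits.pullback tX tX ⟶ Limits.pullback tY tY :=
      Limits.pullback.map tX tX tY tY f f (𝟙 _) (by simp [tX, tY]) (by simp [tX, tY])
    have hF : UniversallyClosed F := MorphismProperty.pullbackMap (P := @UniversallyClosed)
      (f := tX) (g := tX) (f' := tY) (g' := tY) (i₁ := f) (i₂ := f)
      ‹_› ‹_› (by simp [tX, tY]) (by simp [tX, tY])
    have h1 : IsClosed (F '' Set.range (Limits.pullback.diagonal tX)) := F.isClosedMap _ hcl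
    have h2 : Limits.pullback.diagonal tX ≫ F = f ≫ Limits.pullback.diagonal tY := by
      have e1 : F ≫ Limits.pullback.fst tY tY = Limits.pullback.fst tX tX ≫ f :=
        Limits.pullback.lift_fst _ _ _
      have e2 : F ≫ Limits.pullback.snd tY tY = Limits.pullback.snd tX tX ≫ f :=
        Limits.pullback.lift_snd _ _ _
      apply Limits.pullback.hom_ext
      · rw [Category.assoc, e1]; simp
      · rw [Category.assoc, e2]; simp
    have h3 : F '' Set.range (Limits.pullback.diagonal tX) = Set.range (Limits.pullback.diagonal tY) := by
      rw [← Set.range_comp, ← TopCat.coe_comp, ← Scheme.Hom.comp_base, h2, Scheme.Hom.comp_base,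
        TopCat.coe_comp, Set.range_comp, f.surjective.range_eq, Set.image_univ]
    rwa [h3] at h1

end Groth.Agent.S2120
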