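import Groth.Statements.S2147
import Groth.Agent.S0590
import Groth.Agent.S2079
import Groth.Agent.FlatA.ProperApprox

set_option autoImplicit false
universe u
open CategoryTheory AlgebraicGeometry
open Lim

namespace Groth.Agent.S2147

/-- Stacks Tag 0A0P: let `f : X → S` be proper with `S` quasi-compact and quasi-separated. Then `f` is a limit of proper morphisms `f_i : X_i → S_i` with `S_i` of finite type
over `ℤ`: there are cofiltered diagrams of schemes `X_i`, `S_i` with affine transition morphisms, a natural transformation with proper components, and limit cones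
identified with `X` and `S` compatibly with `f`. -/
theorem result {X S : Scheme.{u}} (f : X ⟶ S) [IsProper f] [CompactSpace S]
    [QuasiSeparatedSpace S] :
    ∃ (I : Type u) (_ : SmallCategory I) (_ : IsCofiltered I) (DX DS : I ⥤ Scheme.{u}) (φ : DX ⟶ DS)
      (cX : Limits.Cone DX) (cS : Limits.Cone DS) (_ : Limits.IsLimit cX) (_ : Limits.IsLimit cS)
      (eX : cX.pt ≅ X) (eS : cS.pt ≅ S),
      (∀ (i j : I) (a : i ⟶ j), IsAffineHom (DX.map a) ∧ IsAffineHom (DS.map a)) ∧
      (∀ i, IsProper (φ.app i) ∧ CompactSpace (DS.obj i) ∧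
        LocallyOfFiniteType (Limits.IsTerminal.from specULiftZIsTerminal (DS.obj i))) ∧
      (∀ i, cX.π.app i ≫ φ.app i = eX.hom ≫ f ≫ eS.inv ≫ cS.π.app i) := by
  obtain ⟨P, _, _, _, D, c, hc, haff, hD, ⟨e⟩⟩ := Groth.Agent.S0590.result S
  obtain ⟨K, _, _, E, cE, hcE, eE, hE1, hE2⟩ := Groth.Agent.S2079.result f
  obtain ⟨k⟩ := IsCofiltered.nonempty (C := K)
  obtain ⟨h1, h2, h3⟩ := hE2 k
  have hcomp : ∀ i, CompactSpace (D.obj i) := fun i => (hD i).1
  have hZ : IsNoetherianRing (ULift.{u} ℤ) :=
    isNoetherianRing_of_ringEquiv ℤ ULift.ringEquiv.symm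
  have hZ' : IsLocallyNoetherian (Spec (CommRingCat.of (ULift.{u} ℤ))) := by
    have : IsNoetherianRing (CommRingCat.of (ULift.{u} ℤ)) := hZ
    infer_instance
  have hqs : ∀ i, QuasiSeparatedSpace (D.obj i) := fun i => by
    have := (hD i).2
    have : IsLocallyNoetherian (D.obj i) := LocallyOfFiniteType.isLocallyNoetherian
      (Limits.IsTerminal.from specULiftZIsTerminal (D.obj i))
    infer_instance
  let h : X ⟶ (E.obj k).left := eE.inv.left ≫ (cE.π.app k).left
  have hh : h ≫ (E.obj k).hom = f := by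
    have h4 := Over.w (eE.inv ≫ cE.π.app k)
    exact h4
  have hcl : IsClosedImmersion h := inferInstance
  let g : (E.obj k).left ⟶ c.pt := (E.obj k).hom ≫ e.inv
  have hg1 : IsProper g := inferInstance
  have hg2 : LocallyOfFinitePresentation g := inferInstance
  obtain ⟨j, DX, φ, cX, hcX, eX, hX1, hX2, hX3⟩ :=
    Groth.Agent.FlatA.ProperApprox.exists_diagram D c hc h g
  refine ⟨Over j, inferInstance, inferInstance, DX, Over.forget j ⋙ D, φ, cX,
    c.whisker (Over.forget j), hcX, (Functor.Initial.isLimitWhiskerEquiv (Over.forget j) c).symm hc,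
    eX, e, ?_, ?_, ?_⟩
  · intro a b t
    exact ⟨hX1 t, haff _ _ _⟩
  · intro a
    exact ⟨hX2 a, (hD a.left).1, (hD a.left).2⟩
  · intro a
    rw [hX3 a]
    simp only [g, reassoc_of% hh, Category.assoc]
    rfl

end Groth.Agent.S2147
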