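import Groth.Statements.S0593
import Groth.Agent.CalgA.FiniteFactor
import Groth.Agent.S2147
import Groth.Agent.S0021
import Groth.Agent.S2120

set_option autoImplicit false
universe u
open CategoryTheory AlgebraicGeometry
open Lim

namespace Groth.Agent.S0593

theorem isAffineHom_of_isSeparated {X Y : Scheme.{u}} (f : X ⟶ Y) [IsAffine X] [Y.IsSeparated] :
    IsAffineHom f := by
  have h1 : IsAffineHom (f ≫ Limits.terminal.from Y) := inferInstance
  exact IsAffineHom.of_comp f (Limits.terminal.from Y)

theorem isNoetherian_of_lft (Y : Scheme.{u}) [CompactSpace Y]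
    [LocallyOfFiniteType (Limits.IsTerminal.from specULiftZIsTerminal Y)] : IsNoetherian Y := by
  have : IsNoetherianRing (ULift.{u} ℤ) := isNoetherianRing_of_ringEquiv ℤ ULift.ringEquiv.symm
  have h1 : IsLocallyNoetherian (Spec (.of (ULift.{u} ℤ))) := inferInstance
  have : IsLocallyNoetherian Y :=
    LocallyOfFiniteType.isLocallyNoetherian (Limits.IsTerminal.from specULiftZIsTerminal Y)
  exact { }

/-- The finite case. -/
theorem isAffine_of_isFinite {Z S : Scheme.{u}} (g : Z ⟶ S) [IsAffine Z] [IsFinite g] [Surjective g]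
    [CompactSpace S] [QuasiSeparatedSpace S] : IsAffine S := by
  obtain ⟨I, _, _, DX, DS, φ, cX, cS, hX, hS, eX, eS, haff, hφ, hcomp⟩ := S2147.result g
  have hX1 : ∀ {i j : I} (a : i ⟶ j), IsAffineHom (DX.map a) := fun {i j} a => (haff i j a).1
  have hS1 : ∀ {i j : I} (a : i ⟶ j), IsAffineHom (DS.map a) := fun {i j} a => (haff i j a).2
  have hp : ∀ i, IsProper (φ.app i) := fun i => (hφ i).1
  have hc1 : ∀ i, CompactSpace (DS.obj i) := fun i => (hφ i).2.1
  have hlft : ∀ i, LocallyOfFiniteType (Limits.IsTerminal.from specULiftZIsTerminal (DS.obj i)) :=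
    fun i => (hφ i).2.2
  have hN : ∀ i, IsNoetherian (DS.obj i) := fun i => isNoetherian_of_lft _
  have hc2 : ∀ i, CompactSpace (DX.obj i) := fun i =>
    QuasiCompact.compactSpace_of_compactSpace (φ.app i)
  have hq2 : ∀ i, QuasiSeparatedSpace (DX.obj i) := fun i =>
    quasiSeparatedSpace_of_quasiSeparated (φ.app i)
  have haffX : IsAffine cX.pt := .of_isIso eX.hom
  obtain ⟨i, hi⟩ := Scheme.exists_isAffine_of_isLimit DX cX hX
  -- the morphism `S ⟶ DS i`
  let π : S ⟶ DS.obj i := eS.inv ≫ cS.π.app i
  have hπaff : IsAffineHom (cS.π.app i) := isAffineHom_π_app _ _ hS i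
  have hπ : IsAffineHom π := inferInstance
  -- its scheme theoretic image
  let T := π.image
  have hT : IsAffineHom (π.toImage ≫ π.imageι) := by rw [Scheme.Hom.toImage_imageι]; infer_instance
  have hT' : IsAffineHom π.toImage :=
    MorphismProperty.of_postcomp @IsAffineHom (W' := @IsSeparated) _ π.imageι inferInstance hT
  suffices h : IsAffine T from isAffine_of_isAffineHom π.toImage
  -- the set theoretic image of `S` is contained in the image of `DX i`
  have hrange : Set.range π.imageι ⊆ Set.range (φ.app i) := by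
    have h1 : IsClosed (Set.range (φ.app i)) := (φ.app i).isClosedMap.isClosed_range
    have h2 : Set.range π ⊆ Set.range (φ.app i) := by
      rintro _ ⟨s, rfl⟩
      obtain ⟨z, rfl⟩ := g.surjective s
      refine ⟨cX.π.app i (eX.inv z), ?_⟩
      rw [← Scheme.Hom.comp_apply, ← Scheme.Hom.comp_apply, ← Scheme.Hom.comp_apply]
      congr 2
      rw [hcomp i]
      simp [π]
    have h3 : Set.range π.imageι = closure (Set.range π) := by
      rw [Scheme.IdealSheafData.range_subschemeι, Scheme.Hom.support_ker]
    rw [h3]
    exact closure_minimal h2 h1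
  let Y := Limits.pullback (φ.app i) π.imageι
  let ψ : Y ⟶ T := Limits.pullback.snd _ _
  have hψ : Surjective ψ := by
    refine ⟨fun t => ?_⟩
    obtain ⟨x, hx⟩ := hrange ⟨t, rfl⟩
    obtain ⟨y, _, hy⟩ := Scheme.Pullback.exists_preimage_pullback x t hx
    exact ⟨y, hy⟩
  have hYaff : IsAffine Y := isAffine_of_isAffineHom (Limits.pullback.fst (φ.app i) π.imageι)
  have hψp : IsProper ψ := inferInstance
  have hTc : CompactSpace T := QuasiCompact.compactSpace_of_compactSpace π.imageι
  have hTN : IsNoetherian T := by
    have : IsLocallyNoetherian T := LocallyOfFiniteType.isLocallyNoetherian π.imageι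
    exact { }
  have hTs : T.IsSeparated := (S2120.result ψ).2 inferInstance
  have hψa : IsAffineHom ψ := isAffineHom_of_isSeparated ψ
  have hψi : IsIntegralHom ψ :=
    IsIntegralHom.iff_universallyClosed_and_isAffineHom.2 ⟨inferInstance, hψa⟩
  have hψf : IsFinite ψ := (IsFinite.iff_isIntegralHom_and_locallyOfFiniteType ψ).2
    ⟨hψi, inferInstance⟩
  exact S0021.result ψ

/-- Stacks Tag 05YU: if `f : X → S` is surjective and universally closed with `X` affine, then `S` is
affine. -/
theorem result (X S : Scheme.{u}) (f : X ⟶ S)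
    [IsAffine X] [Surjective f] [UniversallyClosed f] : IsAffine S := by
  have hS : S.IsSeparated := (S2120.result f).2 inferInstance
  have hc : CompactSpace S := by
    have := isCompact_range f.continuous
    rw [f.surjective.range_eq] at this
    exact ⟨this⟩
  have haff : IsAffineHom f := isAffineHom_of_isSeparated f
  have hint : IsIntegralHom f :=
    IsIntegralHom.iff_universallyClosed_and_isAffineHom.2 ⟨inferInstance, haff⟩
  obtain ⟨Z, h, g, hZ, hg, hg', -, -⟩ := CalgA.FiniteFactor.exists_finite_factor f
  exact isAffine_of_isFinite g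

end Groth.Agent.S0593
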