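import Groth.Statements.S0608
import Groth.Agent.MiscA.LinearType

set_option autoImplicit false
universe u
open RRAlg

namespace Groth.Agent.S0608

/-- RRA Ch. IV Thm. 2.2: for a regular sequence the Rees algebra is the polynomial ring modulo the
obvious 2×2 minors; stated as: the kernel of X_i ↦ a_i·T from A[X_1,…,X_n] to A[T] is generated by
the a_i X_j − a_j X_i.  Hypothesis: weakly regular (each a_i a non-zero-divisor modulo the previous ones;
the unit ideal is allowed — the source's proof uses only this). -/
theorem result {A : Type u} [CommRing A] {n : ℕ} (a : Fin n → A)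
    (ha : RingTheory.Sequence.IsWeaklyRegular A (List.ofFn a)) :
    RingHom.ker (MvPolynomial.aeval (R := A)
      (fun i : Fin n => Polynomial.C (a i) * (Polynomial.X : Polynomial A))) =
      Ideal.span {q : MvPolynomial (Fin n) A | ∃ i j : Fin n,
        q = MvPolynomial.C (a i) * MvPolynomial.X j - MvPolynomial.C (a j) * MvPolynomial.X i} := by
  apply le_antisymm
  · exact Groth.Agent.MiscA.LinearType.linType_of_isWeaklyRegular a ha
  · exact Groth.Agent.MiscA.LinearType.J_le_ker a

end Groth.Agent.S0608
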