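import Groth.Statements.S0610
import Groth.Agent.MiscA.WCBridge
import Groth.Agent.MiscA.WCMain
import Groth.Agent.MiscA.WCCount
import Groth.Agent.MiscA.CurveConst
import Groth.Agent.MiscA.CurveH1E
import Groth.Agent.MiscA.WCSep
import Groth.Agent.Cohder.HWMain

set_option autoImplicit false
universe u
open AlgebraicGeometry CategoryTheory
open Zeta

namespace Groth.Agent.S0610

open Groth.Agent.MiscA Groth.Agent.MiscA.WCPlace Groth.Agent.MiscA.WCPlaceCrv

/-- CS2 Thm. 26.173 with its reformulation 26.174 (Weil conjectures for curves: rationality with P of degree 2g, functional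
equation, Riemann hypothesis), in elementary form.  The genus g is pinned down by
#H^1(C, O_C) = q^g (equivalent to dim_k H^1 = g over the finite field k). -/
theorem result {k : Type u} [Field k] [Finite k] {C : Scheme.{u}}
    (f : C ⟶ Spec (CommRingCat.of k)) (hC : Curve.IsSmoothProperCurve k C f)
    [GeometricallyIrreducible f] (g : ℕ)
    (hg : Nat.card (Coh.HH C (Coh.structureModule C) 1) = Nat.card k ^ g) :
    ∃ α : Fin (2 * g) → ℂ, (∀ i, IsIntegral ℤ (α i)) ∧ (∀ i, ‖α i‖ ^ 2 = Nat.card k) ∧
      (∃ σ : Equiv.Perm (Fin (2 * g)), ∀ i, α (σ i) * α i = Nat.card k) ∧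
      ∀ (k' : Type u) [Field k'] [Algebra k k'] [Finite k'],
        (SgaExt.pointCount f k' : ℂ) =
          (Nat.card k : ℂ) ^ Module.finrank k k' + 1 - ∑ i, α i ^ Module.finrank k k' := by
  obtain ⟨hpr, hsm, hint, hdim⟩ := id hC
  let := (Spec.preimage (CurvePlaces.genericPt C ≫ f)).hom.toAlgebra
  have hk : CurvePlaces.genericPt C ≫ f =
      Spec.map (CommRingCat.ofHom (algebraMap k C.functionField)) :=
    (Spec.map_preimage _).symm
  -- separating element
  have hsep : ∃ t : C.functionField, IsSep k C.functionField t := WCSep.exists_isSep f hdim hk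
  -- constants
  have hconst : ∀ x : C.functionField, IsAlgebraic k x →
      x ∈ (algebraMap k C.functionField).range :=
    fun x hx => CurveConst.mem_range_of_isAlgebraic k f hk x hx
  -- growth
  have hgrowth : ∃ c : ℝ, ∀ n : ℕ, 1 ≤ n →
      |(ZetaAbsCount.N (crv hsep).dg0 n : ℝ) - (Nat.card k : ℝ) ^ n| ≤
        c * Real.sqrt (Nat.card k) ^ n :=
    Groth.Agent.Cohder.HWMain.main hconst hsep
  -- genus
  have hgenus : Nat.card k ^ g = Nat.card k ^ (crv hsep).i 0 := by
    have hX : CurveH1C.DimOne C := CurveH1E.dimOne_of_isSmoothProperCurve f hC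
    let e0 : {x : C // IsClosed ({x} : Set C)} ≃ CurveH1D.Pt C :=
      Equiv.subtypeEquivRight fun x => by
        constructor
        · rintro hx rfl
          exact WCBridge.not_isClosed_genericPoint hdim hx
        · intro hx
          exact Groth.Agent.Picfga.CurvePts.isClosed_singleton_of_dim_le_one hdim.le hx
    have h1 : (crv hsep).h1 0 = g := by
      refine CurveH1E.h1_zero_eq_of_equiv hX (crv hsep)
        ((WCBridge.placeEquiv f hk hdim).symm.trans e0) ?_ g hg
      intro P x
      obtain ⟨t, ht⟩ := hsep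
      rw [crv_v, ht.val_le_one_iff]
      conv_lhs => rw [← (WCBridge.placeEquiv f hk hdim).apply_symm_apply P]
      exact Iff.rfl
    unfold Groth.Agent.Models.FFRR.Crv.i
    rw [h1]
    rfl
  obtain ⟨α, h1, h2, h3, h4⟩ := WCMain.exists_alphas hsep hconst hgrowth g hgenus
  refine ⟨α, h1, h2, h3, ?_⟩
  intro k' _ _ _
  have h5 : SgaExt.pointCount f k' = ZetaAbsCount.N (crv hsep).dg0 (Module.finrank k k') := by
    refine WCCount.pointCount_eq_N f (WCBridge.placeEquiv f hk hdim).symm _ ?_ k'
    intro P
    rw [WCPlaceRes.dg0_eq_finrank]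
    unfold PointCount.degree
    have h6 := WCBridge.finrank_residueField f hk hdim ((WCBridge.placeEquiv f hk hdim).symm P)
    have h7 : WCBridge.placeOf f hk hdim ((WCBridge.placeEquiv f hk hdim).symm P) = P :=
      (WCBridge.placeEquiv f hk hdim).apply_symm_apply P
    rw [h7] at h6
    exact h6.symm
  rw [h5]
  have : Module.Finite k k' := inferInstance
  exact h4 _ Module.finrank_pos

end Groth.Agent.S0610
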