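import Groth.Statements.S0611
import Groth.Agent.MiscA.RegSeq

set_option autoImplicit false
universe u
open RRAlg

namespace Groth.Agent.S0611

/-- RRA Ch. IV Lemma 2.6 (the quasi-regularity facts giving a second proof are Stacks 00LN, 066A, 061S): in a Noetherian local ring, any minimal generating set of an ideal generated
by a regular sequence is again a regular sequence (a regular sequence of length n generating I is a
minimal generating set, so "minimal" = "of length n"). -/
theorem result {A : Type u} [CommRing A] [IsLocalRing A] [IsNoetherianRing A]
    {n : ℕ} (a b : Fin n → A) (ha : RingTheory.Sequence.IsRegular A (List.ofFn a))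
    (hab : Ideal.span (Set.range a) = Ideal.span (Set.range b)) :
    RingTheory.Sequence.IsRegular A (List.ofFn b) := by
  have h : ∀ c : Fin n → A, Ideal.ofList (List.ofFn c) = Ideal.span (Set.range c) := by
    intro c
    unfold Ideal.ofList
    congr 1
    ext x
    simp [List.mem_ofFn]
  exact Groth.Agent.MiscA.RegSeq.isRegular_of_ofList_eq n (List.ofFn a) (List.ofFn b)
    (List.length_ofFn) (List.length_ofFn) ha (by rw [h, h, hab])

end Groth.Agent.S0611
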