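import Groth.Statements.S0614
import Mathlib.AlgebraicGeometry.EllipticCurve.IsomOfJ
import Mathlib.FieldTheory.IsAlgClosed.AlgebraicClosure
import Mathlib.FieldTheory.IntermediateField.Adjoin.Basic
import Mathlib.Tactic.ComputeDegree
import Groth.Agent.MiscA.DVRExt

set_option autoImplicit false
universe u
open Neron

namespace Groth.Agent.S0614

open WeierstrassCurve

/-- A Weierstrass curve having an integral model with unit discriminant has good reduction. -/
theorem hasGoodReduction_minimal {R : Type u} [CommRing R] [IsDomain R]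
    [IsDiscreteValuationRing R] {K : Type u} [Field K] [Algebra R K] [IsFractionRing R K]
    (W : WeierstrassCurve K) (C : WeierstrassCurve.VariableChange K) (W₀ : WeierstrassCurve R)
    (h : C • W = W₀.baseChange K) (hΔ : IsUnit W₀.Δ) : (W.minimal R).HasGoodReduction R := by
  have hmin : (W.minimal R).IsMinimal R := inferInstance
  have hmax := hmin.val_Δ_maximal
  obtain ⟨C₀, hC₀⟩ : ∃ C₀ : VariableChange K, W.minimal R = C₀ • W := ⟨_, rfl⟩
  have hint : IsIntegral R (C • W) := ⟨⟨W₀, h⟩⟩
  have hW : (C * C₀⁻¹) • W.minimal R = C • W := by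
    rw [hC₀, ← mul_smul, mul_assoc, inv_mul_cancel, mul_one]
  have hint' : IsIntegral R ((C * C₀⁻¹) • W.minimal R) := by rw [hW]; exact hint
  have hone : IsDedekindDomain.HeightOneSpectrum.valuation K
      (IsDiscreteValuationRing.maximalIdeal R) (C • W).Δ = 1 := by
    rw [h, WeierstrassCurve.baseChange, map_Δ]
    refine le_antisymm (IsDedekindDomain.HeightOneSpectrum.valuation_le_one _ _) ?_
    rw [← not_lt, IsDedekindDomain.HeightOneSpectrum.valuation_lt_one_iff_mem]
    intro hmem
    exact (IsLocalRing.mem_maximalIdeal _).mp hmem hΔ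
  have h1 : ∀ v : { v : WithZero (Multiplicative ℤ) // v ≤ 1 },
      v ≤ valuation_Δ_aux R ((C * C₀⁻¹) • W.minimal R) := by
    intro v
    rw [← Subtype.coe_le_coe, valuation_Δ_aux_eq_of_isIntegral, hW, hone]
    exact v.2
  have h2 := hmax.2 hint' (h1 _)
  have h3 : valuation_Δ_aux R ((C * C₀⁻¹) • W.minimal R) ≤ valuation_Δ_aux R (W.minimal R) := by
    simpa using h2
  rw [← Subtype.coe_le_coe, valuation_Δ_aux_eq_of_isIntegral, valuation_Δ_aux_eq_of_isIntegral,
    hW, hone] at h3
  have h4 : IsDedekindDomain.HeightOneSpectrum.valuation K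
      (IsDiscreteValuationRing.maximalIdeal R) (W.minimal R).Δ ≤ 1 := by
    rw [← valuation_Δ_aux_eq_of_isIntegral]
    exact (valuation_Δ_aux R (W.minimal R)).2
  exact { toIsMinimal := hmin, goodReduction := le_antisymm h4 h3 }

/-- If the minimal model has good reduction, the `j`-invariant is integral. -/
theorem exists_j_of_hasGoodReduction {R : Type u} [CommRing R] [IsDomain R]
    [IsDiscreteValuationRing R] {K : Type u} [Field K] [Algebra R K] [IsFractionRing R K]
    (W : WeierstrassCurve K) [W.IsElliptic] (h : (W.minimal R).HasGoodReduction R) :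
    ∃ r : R, algebraMap R K r = W.j := by
  obtain ⟨C₀, hC₀⟩ : ∃ C₀ : VariableChange K, W.minimal R = C₀ • W := ⟨_, rfl⟩
  have hg := h.goodReduction
  have hu : IsUnit (integralModel R (W.minimal R)).Δ := by
    by_contra hnu
    have hmem : (integralModel R (W.minimal R)).Δ ∈
      (IsDiscreteValuationRing.maximalIdeal R).asIdeal := (IsLocalRing.mem_maximalIdeal _).mpr hnu
    have hlt := (IsDedekindDomain.HeightOneSpectrum.valuation_lt_one_iff_mem (K := K) _ _).mpr hmem
    change IsDedekindDomain.HeightOneSpectrum.valuation K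
      (IsDiscreteValuationRing.maximalIdeal R)
        (algebraMap R K (integralModel R (W.minimal R)).Δ) < 1 at hlt
    rw [integralModel_Δ_eq, hg] at hlt
    exact lt_irrefl _ hlt
  obtain ⟨d, hd⟩ := hu
  refine ⟨(d⁻¹ : Rˣ) * (integralModel R (W.minimal R)).c₄ ^ 3, ?_⟩
  have hΔ : algebraMap R K (d : R) = (W.minimal R).Δ := by rw [hd, integralModel_Δ_eq]
  have hc : algebraMap R K (integralModel R (W.minimal R)).c₄ = (W.minimal R).c₄ :=
    integralModel_c₄_eq _ _
  have hj : W.j = (C₀ • W).j := (variableChange_j W C₀).symm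
  have hΔ0 : (W.minimal R).Δ ≠ 0 := by
    rw [← hΔ]; exact (d.isUnit.map _).ne_zero
  rw [hj, WeierstrassCurve.j, map_mul, map_pow, hc, hC₀]
  congr 1
  rw [Units.val_inv_eq_inv_val, coe_Δ', ← hC₀, ← hΔ]
  apply eq_inv_of_mul_eq_one_left
  rw [← map_mul]
  simp

/-- Descent of a good model over the algebraic closure to a finite extension. -/
theorem exists_good {R : Type u} [CommRing R] [IsDomain R]
    [IsDiscreteValuationRing R] {K : Type u} [Field K] [Algebra R K] [IsFractionRing R K]
    (W : WeierstrassCurve K) [W.IsElliptic] (E : WeierstrassCurve (AlgebraicClosure K))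
    (w : AlgebraicClosure K)
    (h₁ : ((algebraMap K (AlgebraicClosure K)).comp (algebraMap R K)).IsIntegralElem E.a₁)
    (h₂ : ((algebraMap K (AlgebraicClosure K)).comp (algebraMap R K)).IsIntegralElem E.a₂)
    (h₃ : ((algebraMap K (AlgebraicClosure K)).comp (algebraMap R K)).IsIntegralElem E.a₃)
    (h₄ : ((algebraMap K (AlgebraicClosure K)).comp (algebraMap R K)).IsIntegralElem E.a₄)
    (h₆ : ((algebraMap K (AlgebraicClosure K)).comp (algebraMap R K)).IsIntegralElem E.a₆)
    (hw : ((algebraMap K (AlgebraicClosure K)).comp (algebraMap R K)).IsIntegralElem w)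
    (hΔ : E.Δ * w = 1) (hj : E.c₄ ^ 3 = algebraMap K _ W.j * E.Δ) :
    ∃ (L : Type u) (_ : Field L) (_ : Algebra K L) (_ : FiniteDimensional K L) (RL : Type u)
        (_ : CommRing RL) (_ : IsDomain RL) (_ : IsDiscreteValuationRing RL) (_ : Algebra RL L)
        (_ : IsFractionRing RL L) (φ : R →+* RL), IsLocalHom φ ∧
        (∀ r : R, algebraMap K L (algebraMap R K r) = algebraMap RL L (φ r)) ∧
        ((W.baseChange L).minimal RL).HasGoodReduction RL := by
  have hEell : E.IsElliptic := ⟨IsUnit.of_mul_eq_one _ hΔ⟩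
  have hWell : (W.baseChange (AlgebraicClosure K)).IsElliptic :=
    inferInstanceAs (W.map (algebraMap K (AlgebraicClosure K))).IsElliptic
  have hjE : (W.baseChange (AlgebraicClosure K)).j = E.j := by
    have h0 : (W.baseChange (AlgebraicClosure K)).j = algebraMap K _ W.j :=
      map_j W (algebraMap K (AlgebraicClosure K))
    rw [h0, WeierstrassCurve.j.eq_1 E, hj, ← coe_Δ',
      mul_comm, mul_assoc, Units.mul_inv, mul_one]
  obtain ⟨C, hC⟩ := exists_variableChange_of_j_eq (W.baseChange (AlgebraicClosure K)) E hjE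
  -- the finite extension
  let S : Set (AlgebraicClosure K) :=
    {E.a₁, E.a₂, E.a₃, E.a₄, E.a₆, w, (C.u : AlgebraicClosure K),
      ((C.u⁻¹ : (AlgebraicClosure K)ˣ) : AlgebraicClosure K), C.r, C.s, C.t}
  have hSfin : Finite S := Set.Finite.to_subtype (by simp [S])
  let L := IntermediateField.adjoin K S
  have hfd : FiniteDimensional K L := IntermediateField.finiteDimensional_adjoin
    fun x _ => Algebra.IsIntegral.isIntegral x
  have hS : ∀ x ∈ S, x ∈ L := fun x hx => IntermediateField.subset_adjoin K S hx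
  let a₁ : L := ⟨E.a₁, hS _ (by simp [S])⟩
  let a₂ : L := ⟨E.a₂, hS _ (by simp [S])⟩
  let a₃ : L := ⟨E.a₃, hS _ (by simp [S])⟩
  let a₄ : L := ⟨E.a₄, hS _ (by simp [S])⟩
  let a₆ : L := ⟨E.a₆, hS _ (by simp [S])⟩
  let w' : L := ⟨w, hS _ (by simp [S])⟩
  let u : L := ⟨C.u, hS _ (by simp [S])⟩
  let ui : L := ⟨((C.u⁻¹ : (AlgebraicClosure K)ˣ) : AlgebraicClosure K), hS _ (by simp [S])⟩
  let r' : L := ⟨C.r, hS _ (by simp [S])⟩
  let s' : L := ⟨C.s, hS _ (by simp [S])⟩
  let t' : L := ⟨C.t, hS _ (by simp [S])⟩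
  let CL : VariableChange L := ⟨⟨u, ui, by ext; simp [u, ui], by ext; simp [u, ui]⟩, r', s', t'⟩
  let EL : WeierstrassCurve L := ⟨a₁, a₂, a₃, a₄, a₆⟩
  have hinj : Function.Injective (algebraMap L (AlgebraicClosure K)) :=
    (algebraMap L (AlgebraicClosure K)).injective
  have hCL : CL.map (algebraMap L (AlgebraicClosure K)) = C := by
    ext <;> rfl
  have hEL : EL.map (algebraMap L (AlgebraicClosure K)) = E := by
    ext <;> rfl
  have hWL : CL • (W.baseChange L) = EL := by
    apply WeierstrassCurve.map_injective hinj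
    change (CL • (W.baseChange L)).map (algebraMap L (AlgebraicClosure K)) =
      EL.map (algebraMap L (AlgebraicClosure K))
    rw [← map_variableChange, hCL, hEL, ← hC]
    congr 1
  obtain ⟨RL, i1, i2, i3, i4, i5, φ, hφ, hφ', hint⟩ :=
    MiscA.DVRExt.exists_dvr_of_finite_extension R K L
  have hlift : ∀ x : L, ((algebraMap K (AlgebraicClosure K)).comp
      (algebraMap R K)).IsIntegralElem (x : AlgebraicClosure K) →
        ∃ y : RL, algebraMap RL L y = x := by
    intro x hx
    apply hint
    obtain ⟨p, hp, hpx⟩ := hx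
    refine ⟨p, hp, hinj ?_⟩
    rw [Polynomial.hom_eval₂, map_zero]
    exact hpx
  obtain ⟨b₁, hb₁⟩ := hlift a₁ h₁
  obtain ⟨b₂, hb₂⟩ := hlift a₂ h₂
  obtain ⟨b₃, hb₃⟩ := hlift a₃ h₃
  obtain ⟨b₄, hb₄⟩ := hlift a₄ h₄
  obtain ⟨b₆, hb₆⟩ := hlift a₆ h₆
  obtain ⟨v, hv⟩ := hlift w' hw
  let W₀ : WeierstrassCurve RL := ⟨b₁, b₂, b₃, b₄, b₆⟩
  have hW₀ : W₀.baseChange L = EL := by
    ext
    · exact congrArg _ hb₁
    · exact congrArg _ hb₂
    · exact congrArg _ hb₃
    · exact congrArg _ hb₄
    · exact congrArg _ hb₆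
  have hunit : IsUnit W₀.Δ := by
    refine IsUnit.of_mul_eq_one v ?_
    apply IsFractionRing.injective RL L
    rw [map_mul, map_one, hv, ← map_Δ]
    change (W₀.baseChange L).Δ * w' = 1
    rw [hW₀]
    apply hinj
    rw [map_mul, map_one, ← map_Δ, hEL]
    exact hΔ
  refine ⟨L, inferInstance, inferInstance, hfd, RL, i1, i2, i3, i4, i5, φ, hφ, hφ', ?_⟩
  exact hasGoodReduction_minimal _ CL W₀ (hWL.trans hW₀.symm) hunit


/-- AGAC Prop. 10.2.33 (a),(c) (the base Dedekind scheme taken local): an elliptic curve E over the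
fraction field K of a discrete valuation ring R has integral j-invariant if and only if it has
potential good reduction (stated here with a finite extension: there are a finite extension L of K and a discrete valuation ring
R_L of L dominating R over which a minimal Weierstrass equation of E_L has good reduction). -/
theorem result {R : Type u} [CommRing R] [IsDomain R]
    [IsDiscreteValuationRing R] {K : Type u} [Field K] [Algebra R K] [IsFractionRing R K]
    (W : WeierstrassCurve K) [W.IsElliptic] :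
    (∃ r : R, algebraMap R K r = W.j) ↔
      ∃ (L : Type u) (_ : Field L) (_ : Algebra K L) (_ : FiniteDimensional K L) (RL : Type u)
        (_ : CommRing RL) (_ : IsDomain RL) (_ : IsDiscreteValuationRing RL) (_ : Algebra RL L)
        (_ : IsFractionRing RL L) (φ : R →+* RL), IsLocalHom φ ∧
        (∀ r : R, algebraMap K L (algebraMap R K r) = algebraMap RL L (φ r)) ∧
        ((W.baseChange L).minimal RL).HasGoodReduction RL := by
  constructor
  · rintro ⟨r, hr⟩
    set ψ : R →+* AlgebraicClosure K := (algebraMap K (AlgebraicClosure K)).comp (algebraMap R K)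
      with hψ
    have hψr : ψ r = algebraMap K _ W.j := by rw [← hr]; rfl
    let : Algebra R (AlgebraicClosure K) := ψ.toAlgebra
    have hint : ∀ x, ψ.IsIntegralElem x ↔ x ∈ integralClosure R (AlgebraicClosure K) := fun x =>
      Iff.rfl
    have hψmem : ∀ x, ψ x ∈ integralClosure R (AlgebraicClosure K) := fun x =>
      (integralClosure R (AlgebraicClosure K)).algebraMap_mem x
    have h23 : IsUnit (3 : R) ∨ IsUnit (2 : R) := by
      by_contra hcon
      push Not at hcon
      obtain ⟨h3, h2⟩ := hcon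
      have h3' : (3 : R) ∈ IsLocalRing.maximalIdeal R := h3
      have h2' : (2 : R) ∈ IsLocalRing.maximalIdeal R := h2
      have h1 := Ideal.sub_mem _ h3' h2'
      have : (3 : R) - 2 = 1 := by norm_num
      rw [this] at h1
      exact h1 isUnit_one
    rcases h23 with h3 | h2
    · -- Deuring normal form
      obtain ⟨d, hd⟩ := h3.exists_right_inv
      let P : Polynomial R := Polynomial.X ^ 3 * (Polynomial.X ^ 3 - Polynomial.C 24) ^ 3 -
        Polynomial.C r * (Polynomial.X ^ 3 - Polynomial.C 27)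
      have hP : P.Monic := by
        simp only [P]
        monicity!
      have hdeg : P.degree = 12 := by
        simp only [P]
        compute_degree!
      obtain ⟨α, hα⟩ := IsAlgClosed.exists_root (P.map ψ)
        (by rw [hP.degree_map, hdeg]; norm_num)
      rw [Polynomial.IsRoot, ← Polynomial.eval₂_eq_eval_map] at hα
      have hαint : ψ.IsIntegralElem α := ⟨P, hP, hα⟩
      have hα' : α ^ 3 * (α ^ 3 - 24) ^ 3 - ψ r * (α ^ 3 - 27) = 0 := by
        have h24 : ψ 24 = 24 := map_ofNat ψ 24
        have h27 : ψ 27 = 27 := map_ofNat ψ 27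
        simpa [P, Polynomial.eval₂_pow, h24, h27] using hα
      have hd' : (3 : AlgebraicClosure K) * ψ d = 1 := by
        have h3' : ψ 3 = 3 := map_ofNat ψ 3
        rw [← h3', ← map_mul, hd, map_one]
      have hαmem : α ∈ integralClosure R (AlgebraicClosure K) := hαint
      refine exists_good W ⟨α, 0, 1, 0, 0⟩
        ((ψ r - ((α ^ 3) ^ 3 - 45 * (α ^ 3) ^ 2 + 513 * α ^ 3 + 27)) * ψ d ^ 6)
        hαint ((hint _).mpr (Subalgebra.zero_mem _)) ((hint _).mpr (Subalgebra.one_mem _))
        ((hint _).mpr (Subalgebra.zero_mem _)) ((hint _).mpr (Subalgebra.zero_mem _)) ?_ ?_ ?_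
      · rw [hint]
        have h45 : (45 : AlgebraicClosure K) ∈ integralClosure R (AlgebraicClosure K) :=
          Subalgebra.natCast_mem _ 45
        have h513 : (513 : AlgebraicClosure K) ∈ integralClosure R (AlgebraicClosure K) :=
          Subalgebra.natCast_mem _ 513
        have h27 : (27 : AlgebraicClosure K) ∈ integralClosure R (AlgebraicClosure K) :=
          Subalgebra.natCast_mem _ 27
        have hα3 := Subalgebra.pow_mem _ hαmem 3
        exact Subalgebra.mul_mem _ (Subalgebra.sub_mem _ (hψmem r)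
          (Subalgebra.add_mem _ (Subalgebra.add_mem _ (Subalgebra.sub_mem _
            (Subalgebra.pow_mem _ hα3 3) (Subalgebra.mul_mem _ h45 (Subalgebra.pow_mem _ hα3 2)))
            (Subalgebra.mul_mem _ h513 hα3)) h27)) (Subalgebra.pow_mem _ (hψmem d) 6)
      · simp only [WeierstrassCurve.Δ, WeierstrassCurve.b₂, WeierstrassCurve.b₄,
          WeierstrassCurve.b₆, WeierstrassCurve.b₈]
        have hd6 : (729 : AlgebraicClosure K) * ψ d ^ 6 = 1 := by
          have : (729 : AlgebraicClosure K) * ψ d ^ 6 = (3 * ψ d) ^ 6 := by ring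
          rw [this, hd', one_pow]
        linear_combination (-(ψ d ^ 6)) * hα' + hd6
      · rw [← hψr]
        simp only [WeierstrassCurve.Δ, WeierstrassCurve.c₄, WeierstrassCurve.b₂,
          WeierstrassCurve.b₄, WeierstrassCurve.b₆, WeierstrassCurve.b₈]
        linear_combination hα'
    · -- Legendre normal form
      obtain ⟨d, hd⟩ := h2.exists_right_inv
      let P : Polynomial R := (Polynomial.X ^ 2 - Polynomial.X + 1) ^ 3 -
        Polynomial.C (r * d ^ 8) * (Polynomial.X ^ 2 * (Polynomial.X - 1) ^ 2)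
      have hP : P.Monic := by
        simp only [P]
        monicity!
      have hdeg : P.degree = 6 := by
        simp only [P]
        compute_degree!
      obtain ⟨l, hl⟩ := IsAlgClosed.exists_root (P.map ψ)
        (by rw [hP.degree_map, hdeg]; norm_num)
      rw [Polynomial.IsRoot, ← Polynomial.eval₂_eq_eval_map] at hl
      have hlint : ψ.IsIntegralElem l := ⟨P, hP, hl⟩
      have hl' : (l ^ 2 - l + 1) ^ 3 - ψ r * ψ d ^ 8 * (l ^ 2 * (l - 1) ^ 2) = 0 := by
        simpa [P, Polynomial.eval₂_pow] using hl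
      have hd' : (2 : AlgebraicClosure K) * ψ d = 1 := by
        have h2' : ψ 2 = 2 := map_ofNat ψ 2
        rw [← h2', ← map_mul, hd, map_one]
      have hlmem : l ∈ integralClosure R (AlgebraicClosure K) := hlint
      have hm : (l ^ 2 - l) * (ψ r * ψ d ^ 8 * (l ^ 2 - l) - (l ^ 2 - l) ^ 2 - 3 * (l ^ 2 - l) - 3)
          = 1 := by
        linear_combination -hl'
      have h3 : (3 : AlgebraicClosure K) ∈ integralClosure R (AlgebraicClosure K) :=
        Subalgebra.natCast_mem _ 3
      have hmmem : l ^ 2 - l ∈ integralClosure R (AlgebraicClosure K) :=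
        Subalgebra.sub_mem _ (Subalgebra.pow_mem _ hlmem 2) hlmem
      refine exists_good W ⟨0, -(1 + l), 0, l, 0⟩
        ((ψ r * ψ d ^ 8 * (l ^ 2 - l) - (l ^ 2 - l) ^ 2 - 3 * (l ^ 2 - l) - 3) ^ 2 * ψ d ^ 4)
        ((hint _).mpr (Subalgebra.zero_mem _))
        ((hint _).mpr (Subalgebra.neg_mem _ (Subalgebra.add_mem _ (Subalgebra.one_mem _) hlmem)))
        ((hint _).mpr (Subalgebra.zero_mem _)) hlint
        ((hint _).mpr (Subalgebra.zero_mem _)) ?_ ?_ ?_
      · rw [hint]
        exact Subalgebra.mul_mem _ (Subalgebra.pow_mem _ (Subalgebra.sub_mem _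
          (Subalgebra.sub_mem _ (Subalgebra.sub_mem _ (Subalgebra.mul_mem _
            (Subalgebra.mul_mem _ (hψmem r) (Subalgebra.pow_mem _ (hψmem d) 8)) hmmem)
            (Subalgebra.pow_mem _ hmmem 2)) (Subalgebra.mul_mem _ h3 hmmem)) h3) 2)
          (Subalgebra.pow_mem _ (hψmem d) 4)
      · simp only [WeierstrassCurve.Δ, WeierstrassCurve.b₂, WeierstrassCurve.b₄,
          WeierstrassCurve.b₆, WeierstrassCurve.b₈]
        have hd4 : (16 : AlgebraicClosure K) * ψ d ^ 4 = 1 := by
          have : (16 : AlgebraicClosure K) * ψ d ^ 4 = (2 * ψ d) ^ 4 := by ring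
          rw [this, hd', one_pow]
        generalize hw : (ψ r * ψ d ^ 8 * (l ^ 2 - l) - (l ^ 2 - l) ^ 2 - 3 * (l ^ 2 - l) - 3) = w
          at hm ⊢
        have hm2 : (l ^ 2 - l) ^ 2 * w ^ 2 = 1 := by
          rw [← mul_pow, hm, one_pow]
        linear_combination (16 * ψ d ^ 4) * hm2 + hd4
      · rw [← hψr]
        simp only [WeierstrassCurve.Δ, WeierstrassCurve.c₄, WeierstrassCurve.b₂,
          WeierstrassCurve.b₄, WeierstrassCurve.b₆, WeierstrassCurve.b₈]
        have hd8 : (256 : AlgebraicClosure K) * ψ d ^ 8 = 1 := by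
          have : (256 : AlgebraicClosure K) * ψ d ^ 8 = (2 * ψ d) ^ 8 := by ring
          rw [this, hd', one_pow]
        linear_combination 4096 * hl' + (16 * ψ r * (l ^ 2 * (l - 1) ^ 2)) * hd8
  · rintro ⟨L, _, _, _, RL, _, _, _, _, _, φ, hφ, hφ', hgood⟩
    have hWell : (W.baseChange L).IsElliptic :=
      inferInstanceAs (W.map (algebraMap K L)).IsElliptic
    obtain ⟨y, hy⟩ := exists_j_of_hasGoodReduction (R := RL) (W.baseChange L) hgood
    have hj : (W.baseChange L).j = algebraMap K L W.j :=
      map_j W (algebraMap K L)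
    rw [hj] at hy
    rcases ValuationRing.isInteger_or_isInteger R W.j with ⟨r, hr⟩ | ⟨r, hr⟩
    · exact ⟨r, hr⟩
    · by_cases h0 : W.j = 0
      · exact ⟨0, by rw [h0, map_zero]⟩
      have h1 : φ r * y = 1 := by
        apply IsFractionRing.injective RL L
        rw [map_mul, ← hφ', hr, hy, map_one, ← map_mul, inv_mul_cancel₀ h0, map_one]
      have h2 : IsUnit (φ r) := IsUnit.of_mul_eq_one _ h1
      obtain ⟨v, hv⟩ := hφ.map_nonunit r h2
      refine ⟨(v⁻¹ : Rˣ), ?_⟩
      have h3 : algebraMap R K (v : R) = W.j⁻¹ := by rw [hv, hr]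
      have h4 : algebraMap R K ((v⁻¹ : Rˣ) : R) * algebraMap R K (v : R) = 1 := by
        rw [← map_mul]; simp
      rw [h3] at h4
      field_simp at h4
      exact h4

end Groth.Agent.S0614
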