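import Groth.Statements.S0615
import Groth.Agent.MiscA.AffineBlowup

set_option autoImplicit false
universe u
open RRAlg

namespace Groth.Agent.S0615

/-- RRA Ch. IV Cor. 2.5 (Stacks 0BIQ proves it for H₁-regular sequences): for a regular sequence a_0, a_1, …, a_n (indexed here by Fin (n+1)), the
kernel of the A-algebra map A[T_1,…,T_n] → A[1/a_0], T_i ↦ a_i/a_0, is generated by the elements
a_0 T_i − a_i (presentation of the affine blow-up algebra). -/
theorem result {A : Type u} [CommRing A] {n : ℕ}
    (a : Fin (n + 1) → A) (ha : RingTheory.Sequence.IsWeaklyRegular A (List.ofFn a)) :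
    RingHom.ker (MvPolynomial.aeval (R := A) (S₁ := Localization.Away (a 0))
      (fun i : Fin n => IsLocalization.mk' (Localization.Away (a 0)) (a i.succ)
        (⟨a 0, Submonoid.mem_powers (a 0)⟩ : Submonoid.powers (a 0)))) =
      Ideal.span (Set.range fun i : Fin n =>
        MvPolynomial.C (a 0) * MvPolynomial.X i - MvPolynomial.C (a i.succ)) := by
  have ht : ∀ i : Fin n, algebraMap A (Localization.Away (a 0)) (a 0) *
      IsLocalization.mk' (Localization.Away (a 0)) (a i.succ)
        (⟨a 0, Submonoid.mem_powers (a 0)⟩ : Submonoid.powers (a 0)) =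
      algebraMap A (Localization.Away (a 0)) (a i.succ) := fun i =>
    IsLocalization.mk'_spec' (Localization.Away (a 0)) (a i.succ)
      (⟨a 0, Submonoid.mem_powers (a 0)⟩ : Submonoid.powers (a 0))
  apply le_antisymm
  · refine Groth.Agent.MiscA.AffineBlowup.ker_le a _ ht ?_
      (Groth.Agent.MiscA.LinearType.linType_of_isWeaklyRegular a ha)
    have h0 : IsSMulRegular A (a 0) := by
      rw [List.ofFn_succ, RingTheory.Sequence.isWeaklyRegular_cons_iff] at ha
      exact ha.1
    refine IsLocalization.injective (Localization.Away (a 0)) (M := Submonoid.powers (a 0)) ?_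
    rw [Submonoid.powers_le]
    rw [mem_nonZeroDivisors_iff_right]
    intro x hx
    exact h0 (by simpa [mul_comm] using hx)
  · rw [Ideal.span_le]
    rintro _ ⟨i, rfl⟩
    simp only [SetLike.mem_coe, RingHom.mem_ker, map_sub, map_mul, MvPolynomial.aeval_X,
      MvPolynomial.algHom_C, ht, sub_self]

end Groth.Agent.S0615
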