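import Groth.Statements.S0619
-- import your own Groth.Agent.* helpers here
import Groth.Agent.S0610
set_option autoImplicit false
universe u
open AlgebraicGeometry CategoryTheory
open Zeta

namespace Groth.Agent.S0619

/-- CS2 Cor. 26.175 (Hasse–Weil bound, a consequence of Thm. 26.173): for a geometrically connected
smooth proper curve of genus g over a finite field k with q elements and a finite extension k' of
degree n, |#C(k') − (qⁿ + 1)| ≤ 2g·q^(n/2). -/
theorem result {k : Type u} [Field k] [Finite k] {C : Scheme.{u}}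
    (f : C ⟶ Spec (CommRingCat.of k)) (hC : Curve.IsSmoothProperCurve k C f)
    [GeometricallyIrreducible f] (g : ℕ)
    (hg : Nat.card (Coh.HH C (Coh.structureModule C) 1) = Nat.card k ^ g)
    (k' : Type u) [Field k'] [Algebra k k'] [Finite k'] :
    |(SgaExt.pointCount f k' : ℝ) - ((Nat.card k : ℝ) ^ Module.finrank k k' + 1)| ≤
      2 * g * (Nat.card k : ℝ) ^ ((Module.finrank k k' : ℝ) / 2) := by
  obtain ⟨α, -, hα, -, hN⟩ := Groth.Agent.S0610.result f hC g hg
  have h1 := hN k'
  set n := Module.finrank k k' with hn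
  have hq : (0 : ℝ) ≤ (Nat.card k : ℝ) := Nat.cast_nonneg _
  have hnorm : ∀ i, ‖α i‖ = (Nat.card k : ℝ) ^ ((1 : ℝ) / 2) := by
    intro i
    rw [← hα i, ← Real.sqrt_eq_rpow, Real.sqrt_sq (norm_nonneg _)]
  have h2 : |(SgaExt.pointCount f k' : ℝ) - ((Nat.card k : ℝ) ^ n + 1)| = ‖∑ i, α i ^ n‖ := by
    rw [← Real.norm_eq_abs, ← Complex.norm_real]
    push_cast
    rw [h1, ← norm_neg]
    congr 1
    ring
  rw [h2]
  refine (norm_sum_le _ _).trans ?_
  have h3 : ∀ i, ‖α i ^ n‖ = (Nat.card k : ℝ) ^ ((n : ℝ) / 2) := by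
    intro i
    rw [norm_pow, hnorm i, ← Real.rpow_natCast, ← Real.rpow_mul hq]
    congr 1
    ring
  rw [Finset.sum_congr rfl fun i _ => h3 i, Finset.sum_const, nsmul_eq_mul, Finset.card_univ,
    Fintype.card_fin]
  push_cast
  exact le_rfl

end Groth.Agent.S0619

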