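import Groth.Statements.S0623
import Groth.Agent.S0101
import Groth.Agent.Sga4h.EtaleRes2
import Groth.Agent.Etcore.ShriekExact

set_option autoImplicit false
open CategoryTheory CategoryTheory.Limits AlgebraicGeometry Opposite
universe u
open EtCore

namespace Groth.Agent.S0623

/-- The direct image of an injective sheaf is injective. -/
theorem injective_push {X Y : Scheme.{u}} (f : X ⟶ Y) (I : EtCoh.Ab X) [Injective I] :
    Injective ((EtCoh.push f).obj I) := by
  have h1 : PreservesFiniteLimits (EtCoh.pull f) := Groth.Agent.S0101.result f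
  have h2 : (EtCoh.pull f).PreservesMonomorphisms := inferInstance
  exact Injective.injective_of_adjoint (EtCoh.pullPushAdj f) I

/-- The restriction of an injective sheaf along an etale morphism is injective. -/
theorem injective_pull {U X : Scheme.{u}} (j : U ⟶ X) [Etale j] (I : EtCoh.Ab X) [Injective I] :
    Injective ((EtCoh.pull j).obj I) := by
  haveI := Groth.Agent.Sga4h.EtaleRes.jCont j
  have h2 : (EtShriek.extZero j).PreservesMonomorphisms := inferInstance
  have h3 : Injective ((EtShriek.restrAlong j).obj I) :=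
    Injective.injective_of_adjoint (EtShriek.extZeroAdj j) I
  exact Injective.of_iso ((Groth.Agent.Etcore.ShriekBasic.pullIsoRestr j).app I).symm h3

theorem result {X Y Z : Scheme.{u}} (f : X ⟶ Y) (g : Y ⟶ Z) (I : EtCoh.Ab X)
    [Injective I] (q : ℕ) (hq : 1 ≤ q) :
    (∀ V : Y.Etale, Subsingleton (EtCoh.H V.left ((EtCoh.pull V.hom).obj ((EtCoh.push f).obj I)) q)) ∧
    IsZero ((EtCoh.Rpush g q).obj ((EtCoh.push f).obj I)) := by
  obtain ⟨q, rfl⟩ : ∃ q', q = q' + 1 := ⟨q - 1, by omega⟩
  have hJ : Injective ((EtCoh.push f).obj I) := injective_push f I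
  refine ⟨fun V => ?_, ?_⟩
  · haveI : Etale V.hom := V.prop
    have hV : Injective ((EtCoh.pull V.hom).obj ((EtCoh.push f).obj I)) := injective_pull _ _
    exact ⟨fun a b => (Abelian.Ext.eq_zero_of_injective a).trans
      (Abelian.Ext.eq_zero_of_injective b).symm⟩
  · exact (EtCoh.push g).isZero_rightDerived_obj_injective_succ q _

end Groth.Agent.S0623
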