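import Groth.Statements.S0626
import Groth.Agent.Etcore.LCPull

set_option autoImplicit false
open CategoryTheory CategoryTheory.Limits AlgebraicGeometry Opposite
universe u
open EtCore

namespace Groth.Agent.S0626

/-- Stacks Tag 09Z5 (1), abelian constant sheaf: for an integral normal scheme X with generic point η and g the canonical morphism from Spec of the local ring at η to X, the adjunction unit from the constant sheaf with value M to g_* of its pullback is an isomorphism (the pullback of a constant sheaf being constant, this says g_* of the constant sheaf on Spec of the function field is the constant sheaf on X). -/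
theorem result (X : Scheme.{u}) [IsIntegral X]
    (hN : ∀ x : X, IsIntegrallyClosed (X.presheaf.stalk x)) (M : Type) [AddCommGroup M] :
    IsIso ((EtCoh.pullPushAdj (X.fromSpecStalk (genericPoint X))).unit.app (EtCoh.const X M)) := by
  refine Groth.Agent.Etcore.LCPull.isIso_unit_const_generic hN _ ?_ M
  rw [Scheme.range_fromSpecStalk]
  ext y
  simp only [Set.mem_setOf_eq, Set.mem_singleton_iff]
  exact ⟨fun h => (h.antisymm (genericPoint_specializes y)).eq, fun h => h ▸ specializes_rfl⟩

end Groth.Agent.S0626
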