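import Groth.Statements.S0628
import Groth.Agent.Etcore.NormalAcyclic

set_option autoImplicit false
open CategoryTheory CategoryTheory.Limits AlgebraicGeometry Opposite
universe u
open EtCore

namespace Groth.Agent.S0628

/-- Stacks Tag 0EZP: let f : X -> Y be a morphism of schemes with X integral and normal and with separably closed function field. Then the higher direct images R^q f_* of a constant sheaf vanish for q > 0. -/
theorem result {X Y : Scheme.{u}} (f : X ⟶ Y) [IsIntegral X]
    (hN : ∀ x : X, IsIntegrallyClosed (X.presheaf.stalk x)) [IsSepClosed X.functionField]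
    (M : Type) [AddCommGroup M] (q : ℕ) (hq : 1 ≤ q) :
    IsZero ((EtCoh.Rpush f q).obj (EtCoh.const X M)) := by
  let g : Spec (CommRingCat.of X.functionField) ⟶ X := X.fromSpecStalk (genericPoint X)
  have hpre : IsPreimmersion g := inferInstanceAs (IsPreimmersion (X.fromSpecStalk (genericPoint X)))
  have hr : Set.range g = {genericPoint X} := by
    have h1 : Set.range g = {y | y ⤳ genericPoint X} := Scheme.range_fromSpecStalk
    rw [h1]
    ext y
    exact ⟨fun h => (h.antisymm (genericPoint_specializes y)).eq,
      fun h => (Set.mem_singleton_iff.1 h) ▸ specializes_rfl⟩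
  have hiso := Groth.Agent.Etcore.LCPull.isIso_unit_const_generic hN g hr M
  refine (Groth.Agent.Etcore.NormalAcyclic.isZero_Rpush_push_point g f
    ((EtCoh.pull g).obj (EtCoh.const X M)) q hq).of_iso ?_
  exact (EtCoh.Rpush f q).mapIso (asIso ((EtCoh.pullPushAdj g).unit.app (EtCoh.const X M)))

end Groth.Agent.S0628
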