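import Groth.Statements.S0632
import Groth.Agent.EtpbcB.ClosedImmEtale

set_option autoImplicit false
open CategoryTheory CategoryTheory.Limits AlgebraicGeometry Opposite
universe u
open EtCore

namespace Groth.Agent.S0632

/-- Stacks Tag 04E4 (etale case): let X -> Y be a closed immersion and U_i -> X (i in ι) a jointly surjective family of etale morphisms. Then one can find a jointly surjective family of etale Y-schemes V_j each of which either has empty preimage over X or, after base change to X, maps into one of the U_i over X. -/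
theorem result {X Y : Scheme.{u}} (f : X ⟶ Y) [IsClosedImmersion f]
    {ι : Type u} (U : ι → X.Etale) (hU : EtCoh.Covers U) :
    ∃ (κ : Type u) (V : κ → Y.Etale), EtCoh.Covers V ∧
      ∀ j, IsEmpty ↥(pullback (V j).hom f) ∨
        ∃ (i : ι) (h : pullback (V j).hom f ⟶ (U i).left), h ≫ (U i).hom = pullback.snd (V j).hom f := by
  classical
  choose V h h1 h2 using fun x : (Σ i, (U i).left) => EtpbcB.ClosedImmEtale.exists_bc_lift f (U x.1) x.2
  let O : Y.Opens := ⟨(Set.range f.base)ᶜ, f.isClosedEmbedding.isClosed_range.isOpen_compl⟩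
  refine ⟨(Σ i, (U i).left) ⊕ PUnit, Sum.elim V (fun _ => Scheme.Etale.mk O.ι), ?_, ?_⟩
  · intro y
    by_cases hy : y ∈ Set.range f.base
    · obtain ⟨x, rfl⟩ := hy
      obtain ⟨i, u, hu⟩ := hU x
      obtain ⟨w, hw⟩ := h2 ⟨i, u⟩
      refine ⟨Sum.inl ⟨i, u⟩, (pullback.fst (V ⟨i, u⟩).hom f).base w, ?_⟩
      have e1 : (h ⟨i, u⟩).left ≫ (U i).hom = pullback.snd (V ⟨i, u⟩).hom f :=
        MorphismProperty.Over.w (h ⟨i, u⟩)
      have c := congrArg (fun (m : pullback (V ⟨i, u⟩).hom f ⟶ Y) => m w)
        (pullback.condition (f := (V ⟨i, u⟩).hom) (g := f))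
      have c2 := congrArg (fun (m : pullback (V ⟨i, u⟩).hom f ⟶ X) => m w) e1
      refine Eq.trans c ?_
      change f (pullback.snd (V ⟨i, u⟩).hom f w) = f x
      refine congrArg f ?_
      refine Eq.trans c2.symm ?_
      rw [← hu]
      exact congrArg (fun z => (U i).hom z) hw
    · exact ⟨Sum.inr PUnit.unit, ⟨y, hy⟩, rfl⟩
  · rintro (x | x)
    · exact Or.inr ⟨x.1, (h x).left, MorphismProperty.Over.w (h x)⟩
    · refine Or.inl ⟨fun (w : ↥(pullback O.ι f)) => ?_⟩
      have c := congrArg (fun (m : pullback O.ι f ⟶ Y) => m w)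
        (pullback.condition (f := O.ι) (g := f))
      have h3 : O.ι (pullback.fst O.ι f w) ∈ O := (pullback.fst O.ι f w).2
      exact h3 ⟨pullback.snd O.ι f w, c.symm⟩

end Groth.Agent.S0632
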