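import Groth.Statements.S0634
import Groth.Agent.Etcore.StalkUnit
import Mathlib.AlgebraicGeometry.Morphisms.UniversallyOpen

set_option autoImplicit false
open CategoryTheory CategoryTheory.Limits AlgebraicGeometry Opposite
universe u
open EtCore

namespace Groth.Agent.S0634

open Groth.Agent.Etcore.Stalks Groth.Agent.Etcore.StalkUnit Groth.Agent.Etbase.StalkPull

/-- Two elements of the fibre of the final étale scheme are equal. -/
theorem fiber_top_ext {S : Scheme.{u}} {Ω : Type u} [Field Ω] [IsSepClosed Ω]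
    (ξ : Spec (CommRingCat.of Ω) ⟶ S)
    (a b : (Scheme.pointSmallEtale ξ).fiber.obj (EtCoh.top S)) : a = b := by
  have ha : a.left ≫ 𝟙 S = ξ := Over.w a
  have hb : b.left ≫ 𝟙 S = ξ := Over.w b
  apply Over.OverMorphism.ext
  exact ((Category.comp_id _).symm.trans ha).trans ((Category.comp_id _).symm.trans hb).symm

/-- If `x` has an étale neighbourhood on which `s` and `t` agree then they have the same germs. -/
theorem germ_eq_of {S : Scheme.{u}} (F : EtCoh.Ab S) (s t : EtCoh.sect F (EtCoh.top S))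
    (x : S) (h : ∃ (V : S.Etale) (g : V ⟶ EtCoh.top S) (v : V.left), V.hom v = x ∧
      F.obj.map g.op s = F.obj.map g.op t)
    {Ω : Type u} [Field Ω] [IsSepClosed Ω] (ξ : Spec (CommRingCat.of Ω) ⟶ S) (hξ : ξ default = x)
    (v : (Scheme.pointSmallEtale ξ).fiber.obj (EtCoh.top S)) :
    germ ξ F v s = germ ξ F v t := by
  obtain ⟨V, g, v', hv', hg⟩ := h
  obtain ⟨v'', -⟩ := Scheme.pointSmallEtaleFiberObjToPreimage_surjective ξ hξ V ⟨v', hv'⟩
  have h1 : v = (Scheme.pointSmallEtale ξ).fiber.map g v'' := fiber_top_ext ξ _ _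
  rw [h1, ← germ_res, ← germ_res, hg]

theorem of_germ_eq {S : Scheme.{u}} (F : EtCoh.Ab S) (s t : EtCoh.sect F (EtCoh.top S))
    (x : S) {Ω : Type u} [Field Ω] [IsSepClosed Ω] (ξ : Spec (CommRingCat.of Ω) ⟶ S)
    (hξ : ξ default = x) (v : (Scheme.pointSmallEtale ξ).fiber.obj (EtCoh.top S))
    (h : germ ξ F v s = germ ξ F v t) :
    ∃ (V : S.Etale) (g : V ⟶ EtCoh.top S) (v : V.left), V.hom v = x ∧
      F.obj.map g.op s = F.obj.map g.op t := by
  obtain ⟨V, g, v', -, hg⟩ := (germ_eq_iff ξ F v s t).1 h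
  exact ⟨V, g, (Scheme.pointSmallEtaleFiberObjToPreimage ξ hξ v').1,
    (Scheme.pointSmallEtaleFiberObjToPreimage ξ hξ v').2, hg⟩

/-- Stacks Tag 09XM (abelian sheaves): for an abelian sheaf F on the small etale site of S and two global sections s, t there is an open W of S such that a morphism f : T -> S has image inside W if and only if the pullbacks of s and t along f (images under the adjunction unit, as sections of the pullback sheaf over T) coincide. -/
theorem result {S : Scheme.{u}} (F : EtCoh.Ab S) (s t : EtCoh.sect F (EtCoh.top S)) :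
    ∃ W : S.Opens, ∀ (T : Scheme.{u}) (f : T ⟶ S),
      Set.range f.base ⊆ (W : Set S) ↔
        ((EtCoh.pullPushAdj f).unit.app F).hom.app (op (EtCoh.top S)) s =
          ((EtCoh.pullPushAdj f).unit.app F).hom.app (op (EtCoh.top S)) t := by
  have hopen : IsOpen {x : S | ∃ (V : S.Etale) (g : V ⟶ EtCoh.top S) (v : V.left), V.hom v = x ∧
      F.obj.map g.op s = F.obj.map g.op t} := by
    rw [isOpen_iff_forall_mem_open]
    rintro x ⟨V, g, v, rfl, hg⟩
    have : AlgebraicGeometry.Etale V.hom := V.prop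
    refine ⟨Set.range (V.hom : V.left ⟶ S), ?_,
      (AlgebraicGeometry.Scheme.Hom.isOpenMap (V.hom : V.left ⟶ S)).isOpen_range, ⟨v, rfl⟩⟩
    rintro _ ⟨v', rfl⟩
    exact ⟨V, g, v', rfl, hg⟩
  refine ⟨⟨_, hopen⟩, fun T f => ⟨fun h => ?_, fun h => ?_⟩⟩
  · refine unit_eq_of_germs f F s t fun x => ?_
    obtain ⟨Ω, _, _, ξ, hξ⟩ := exists_geom x
    refine ⟨Ω, inferInstance, inferInstance, ξ, hξ, fun v => ?_⟩
    exact germ_eq_of F s t (f x) (h ⟨x, rfl⟩) (ξ ≫ f) (by rw [← hξ]; rfl) v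
  · rintro _ ⟨x, rfl⟩
    obtain ⟨Ω, _, _, ξ, hξ⟩ := exists_geom x
    let v : (Scheme.pointSmallEtale (ξ ≫ f)).fiber.obj (EtCoh.top S) :=
      Over.homMk (ξ ≫ f) (Category.comp_id _)
    refine of_germ_eq F s t (f x) (ξ ≫ f) (by rw [← hξ]; rfl) v ?_
    exact (germ_unit_eq_iff f ξ F v s t).1 (congrArg _ h)

end Groth.Agent.S0634
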