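import Groth.Statements.S0644
import Groth.Agent.Etcore.Cover

set_option autoImplicit false
open CategoryTheory CategoryTheory.Limits AlgebraicGeometry Opposite
universe u
open EtCore

namespace Groth.Agent.S0644

/-- The set of points in the image of some étale `U → S` with `F(U) ≠ ∅`. -/
noncomputable def locus (S : Scheme.{u}) (F : S.Etaleᵒᵖ ⥤ Type u) : S.Opens where
  carrier := {x | ∃ (U : S.Etale) (u : U.left), U.hom u = x ∧ Nonempty (F.obj (op U))}
  is_open' := by
    rw [isOpen_iff_forall_mem_open]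
    rintro x ⟨U, w, rfl, hU⟩
    refine ⟨Set.range U.hom, ?_, (Etcore.Cover.isOpenMap_hom U).isOpen_range, ⟨w, rfl⟩⟩
    rintro _ ⟨w', rfl⟩
    exact ⟨U, w', rfl, hU⟩

lemma nonempty_iff (S : Scheme.{u}) (F : Sheaf S.smallEtaleTopology (Type u))
    (hF : ∀ U : S.Etale, Subsingleton (F.obj.obj (op U))) (V : S.Etale) :
    Nonempty (F.obj.obj (op V)) ↔ ∀ v : V.left, V.hom v ∈ locus S F.obj := by
  constructor
  · intro h v
    exact ⟨V, v, rfl, h⟩
  · intro h
    let R : Sieve V :=
      { arrows := fun Y f ↦ Nonempty (F.obj.obj (op Y))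
        downward_closed := fun {Y Z f} h g ↦ h.map (F.obj.map g.op) }
    have hR : R ∈ S.smallEtaleTopology V := by
      rw [Etcore.Cover.mem_iff]
      intro x
      obtain ⟨U, w, hw, hU⟩ := h x
      obtain ⟨W, a, b, z, hz1, hz2⟩ := Etcore.Cover.exists_common V U x w hw.symm
      exact ⟨W, a, z, hU.map (F.obj.map b.op), hz1⟩
    have hs : Presieve.IsSheafFor F.obj R.arrows :=
      (isSheaf_iff_isSheaf_of_type _ _).mp F.property _ hR
    obtain ⟨t, -, -⟩ := hs (fun Y f hf ↦ Nonempty.some hf) (by
      intro Y₁ Y₂ Z g₁ g₂ f₁ f₂ h₁ h₂ _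
      exact (hF Z).elim _ _)
    exact ⟨t⟩

/-- Stacks Tag 04HV: let F be a sheaf of sets on the small etale site of S which is a subsheaf of the final sheaf, i.e. every set of sections has at most one element. Then there is exactly one open W of S such that F is isomorphic to the sheaf represented by W (viewed as a scheme etale over S). -/
theorem result (S : Scheme.{u}) (F : Sheaf S.smallEtaleTopology (Type u))
    (hF : ∀ U : S.Etale, Subsingleton (F.obj.obj (op U))) :
    ∃! W : S.Opens, Nonempty (F.obj ≅ yoneda.obj (Scheme.Etale.mk W.ι)) := by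
  refine ⟨locus S F.obj, ?_, ?_⟩
  · have key (V : S.Etale) : Nonempty (F.obj.obj (op V)) ↔
        Nonempty (V ⟶ Scheme.Etale.mk (locus S F.obj).ι) := by
      rw [nonempty_iff S F hF, Etcore.Cover.hom_nonempty_iff]
    refine ⟨NatIso.ofComponents (fun V ↦ ?_) ?_⟩
    · exact
        { hom := TypeCat.ofHom fun x ↦ ((key V.unop).mp ⟨x⟩).some
          inv := TypeCat.ofHom fun x ↦ ((key V.unop).mpr ⟨x⟩).some
          hom_inv_id := by
            ext x
            exact (hF V.unop).elim _ _
          inv_hom_id := by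
            ext x
            exact (Etcore.Cover.hom_subsingleton _ V.unop).elim _ _ }
    · intro V V' f
      ext x
      exact (Etcore.Cover.hom_subsingleton _ V'.unop).elim _ _
  · rintro W ⟨e⟩
    have key (V : S.Etale) : (∀ v : V.left, V.hom v ∈ locus S F.obj) ↔ ∀ v : V.left, V.hom v ∈ W := by
      rw [← nonempty_iff S F hF, ← Etcore.Cover.hom_nonempty_iff]
      exact ⟨fun h ↦ h.map (e.hom.app (op V)), fun h ↦ h.map (e.inv.app (op V))⟩
    apply le_antisymm
    · intro x hx
      exact (key (Scheme.Etale.mk W.ι)).mpr (fun v ↦ v.2) ⟨x, hx⟩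
    · intro x hx
      exact (key (Scheme.Etale.mk (locus S F.obj).ι)).mp (fun v ↦ v.2) ⟨x, hx⟩

end Groth.Agent.S0644
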