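import Groth.Statements.S0649
import Groth.Agent.Etcore.ShriekBaseChange

set_option autoImplicit false
open CategoryTheory CategoryTheory.Limits AlgebraicGeometry Opposite
universe u
open EtCore

namespace Groth.Agent.S0649

/-- Stacks Tag 03S6 (abelian sheaves): let f : Y -> X be a morphism and j : V -> X etale, and let V' = Y x_X V with projections j' : V' -> Y and f' : V' -> V. Then the functors j'_! ∘ f'^{-1} and f^{-1} ∘ j_! from abelian sheaves on V to abelian sheaves on Y are isomorphic (existence of an isomorphism of functors; the source's is the canonical one). (Continuity of the composition functor of etale sites, which always holds, is carried as an instance hypothesis.) -/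
theorem result {V' V Y X : Scheme.{u}} (j : V ⟶ X) [AlgebraicGeometry.Etale j] [EtShriek.JCont j]
    (f : Y ⟶ X) (j' : V' ⟶ Y) [AlgebraicGeometry.Etale j'] [EtShriek.JCont j'] (f' : V' ⟶ V)
    (h : IsPullback j' f' f j) :
    Nonempty (EtCoh.pull f' ⋙ EtShriek.extZero j' ≅ EtShriek.extZero j ⋙ EtCoh.pull f) := by
  exact ⟨Groth.Agent.Etcore.ShriekBaseChange.extZeroBaseChange j f j' f' h⟩

end Groth.Agent.S0649
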