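import Groth.Statements.S0656
import Groth.Agent.Etcore.PointB
import Mathlib.RingTheory.Unramified.LocalStructure
import Mathlib.AlgebraicGeometry.Morphisms.Etale

set_option autoImplicit false
open CategoryTheory CategoryTheory.Limits AlgebraicGeometry Opposite
universe u
open EtCore

namespace Groth.Agent.S0656

section helpers

open Groth.Agent.Etcore.PointA Groth.Agent.Etcore.PointB

variable {S : Scheme.{u}} (p : GrothendieckTopology.Point.{u} S.smallEtaleTopology)

noncomputable def topTerm (S : Scheme.{u}) : IsTerminal (EtCoh.top S) :=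
  IsTerminal.isTerminalOfObj (Scheme.Etale.forget S) (EtCoh.top S) Over.mkIdTerminal

lemma exists_star : Nonempty (p.fiber.obj (EtCoh.top S)) := by
  obtain ⟨V, y, -, -⟩ := germ_jointly_surjective p 0
  exact ⟨p.fiber.map ((topTerm S).from V) y⟩

noncomputable def star : p.fiber.obj (EtCoh.top S) := (exists_star p).some

lemma subsingleton_top : Subsingleton (p.fiber.obj (EtCoh.top S)) := by
  have := p.uniqueFiberObj _ (topTerm S)
  infer_instance

/-- The geometric point attached to a point of the site. -/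
noncomputable def xi : Spec (CommRingCat.of (Om p)) ⟶ S :=
  Spec.map (CommRingCat.ofHom (IsLocalRing.residue (A p))) ≫ q p (EtCoh.top S) (star p)

lemma q_comp_hom (U : S.Etale) (x : p.fiber.obj U) :
    q p U x ≫ U.hom = q p (EtCoh.top S) (star p) := by
  have h := q_w p ((topTerm S).from U) x
  have h1 : ((topTerm S).from U).left = U.hom := by
    have := MorphismProperty.Over.w ((topTerm S).from U)
    exact (Category.comp_id _).symm.trans this
  have h2 : p.fiber.map ((topTerm S).from U) x = star p :=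
    (subsingleton_top p).elim _ _
  rw [h2, h1] at h
  exact h

noncomputable def qO (U : S.Etale) (x : p.fiber.obj U) : Spec (CommRingCat.of (Om p)) ⟶ U.left :=
  Spec.map (CommRingCat.ofHom (IsLocalRing.residue (A p))) ≫ q p U x

lemma qO_comp_hom (U : S.Etale) (x : p.fiber.obj U) : qO p U x ≫ U.hom = xi p := by
  rw [qO, Category.assoc, q_comp_hom, xi]

lemma qO_w {V W : S.Etale} (f : V ⟶ W) (y : p.fiber.obj V) :
    qO p V y ≫ f.left = qO p W (p.fiber.map f y) := by
  rw [qO, qO, Category.assoc, q_w]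

lemma qO_eq (V : S.Etale) [IsAffine V.left] (y : p.fiber.obj V) :
    qO p V y = Spec.map (CommRingCat.ofHom (ev p V y)) ≫ V.left.isoSpec.inv := by
  rw [qO, q_eq_qaff, qaff, ev, CommRingCat.ofHom_comp, Spec.map_comp, Category.assoc]
  rfl

lemma qO_apply (U : S.Etale) (x : p.fiber.obj U) :
    qO p U x (IsLocalRing.closedPoint (Om p)) = pt p U x := by
  rw [qO, pt, Scheme.Hom.comp_apply]
  congr 1
  exact IsLocalRing.comap_closedPoint (IsLocalRing.residue (A p))

/-- The locus where two maps to a scheme unramified over the base agree is open. -/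
lemma exists_open_eq {V U S : Scheme.{u}} (h : U ⟶ S) [AlgebraicGeometry.Etale h] (f g : V ⟶ U)
    (hfg : f ≫ h = g ≫ h) : ∃ W : V.Opens, W.ι ≫ f = W.ι ≫ g ∧
      ∀ (T : Scheme.{u}) (t : T ⟶ V) (_ : t ≫ f = t ≫ g) (x : T), t x ∈ W := by
  let d : V ⟶ pullback h h := pullback.lift f g hfg
  let W := d ⁻¹ᵁ (pullback.diagonal h).opensRange
  refine ⟨W, ?_, ?_⟩
  · have hr : Set.range (W.ι ≫ d) ⊆ Set.range (pullback.diagonal h) := by
      rintro _ ⟨a, rfl⟩
      exact a.2
    have h1 := IsOpenImmersion.lift_fac (pullback.diagonal h) (W.ι ≫ d) hr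
    set k := IsOpenImmersion.lift (pullback.diagonal h) (W.ι ≫ d) hr
    have h2 := congrArg (· ≫ pullback.fst _ _) h1
    have h3 := congrArg (· ≫ pullback.snd _ _) h1
    simp only [Category.assoc, pullback.diagonal_fst, pullback.diagonal_snd, Category.comp_id,
      pullback.lift_fst, pullback.lift_snd, d] at h2 h3
    rw [← h2, ← h3]
  · intro T t ht x
    have hd : t ≫ d = (t ≫ f) ≫ pullback.diagonal h := by
      apply pullback.hom_ext
      · rw [Category.assoc, Category.assoc, pullback.lift_fst, pullback.diagonal_fst,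
          Category.comp_id]
      · rw [Category.assoc, Category.assoc, pullback.lift_snd, pullback.diagonal_snd,
          Category.comp_id, ht]
    change d (t x) ∈ Set.range (pullback.diagonal h)
    rw [← Scheme.Hom.comp_apply, hd]
    exact ⟨_, rfl⟩

lemma qO_injective (U : S.Etale) (x y : p.fiber.obj U) (h : qO p U x = qO p U y) : x = y := by
  obtain ⟨V, z, f, g, rfl, rfl⟩ := exists_refine₂ p x y
  have hfg : f.left ≫ U.hom = g.left ≫ U.hom :=
    (MorphismProperty.Over.w f).trans (MorphismProperty.Over.w g).symm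
  obtain ⟨W, hW, hW'⟩ := exists_open_eq U.hom f.left g.left hfg
  rw [← qO_w, ← qO_w] at h
  have hmem : pt p V z ∈ W := by
    rw [← qO_apply]
    exact hW' _ _ h _
  obtain ⟨w, hw⟩ := exists_lift_opens p z _ hmem
  have hW : opnι V W ≫ f = opnι V W ≫ g := by
    apply MorphismProperty.Over.Hom.ext
    exact hW
  rw [← hw, ← Functor.map_comp_apply, ← Functor.map_comp_apply, hW]

/-- Morphisms from the spectrum of a ring to an affine scheme. -/
lemma exists_ringHom {X : Scheme.{u}} [IsAffine X] {K : Type u} [CommRing K]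
    (t : Spec (CommRingCat.of K) ⟶ X) :
    ∃ ψ : Γ(X, ⊤) →+* K, t = Spec.map (CommRingCat.ofHom ψ) ≫ X.isoSpec.inv := by
  refine ⟨(Spec.preimage (t ≫ X.isoSpec.hom)).hom, ?_⟩
  rw [CommRingCat.ofHom_hom, Spec.map_preimage, Category.assoc, Iso.hom_inv_id, Category.comp_id]

lemma exists_standard {X Y : Scheme.{u}} [IsAffine X] [IsAffine Y] (h : X ⟶ Y)
    [AlgebraicGeometry.Etale h] (x : X) :
    ∃ (P : StandardEtalePair Γ(Y, ⊤)) (g : Γ(X, ⊤)) (θ : Γ(X, ⊤) →+* P.Ring)
      (_ : x ∈ X.basicOpen g),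
      θ.comp h.appTop.hom = algebraMap _ _ ∧
      ∀ (K : Type u) [Field K] (ψ : Γ(X, ⊤) →+* K), ψ g ≠ 0 →
        ∃ ψ' : P.Ring →+* K, ψ'.comp θ = ψ := by
  have het : h.appTop.hom.Etale := by
    rw [← HasRingHomProperty.iff_of_isAffine (P := @AlgebraicGeometry.Etale)]
    infer_instance
  algebraize [h.appTop.hom]
  let Q : Ideal Γ(X, ⊤) := (X.isoSpec.hom x).asIdeal
  obtain ⟨g, hg, hst⟩ := Algebra.IsEtaleAt.exists_isStandardEtale (R := Γ(Y, ⊤)) Q
  obtain ⟨P⟩ := hst.nonempty_standardEtalePresentation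
  refine ⟨P.P, g, (P.equivRing : Localization.Away g →+* P.Ring).comp
    (algebraMap _ _), ?_, ?_, ?_⟩
  · rw [← Scheme.map_PrimeSpectrum_basicOpen_of_affine]
    exact hg
  · rw [RingHom.comp_assoc]
    change RingHom.comp _ ((algebraMap _ _).comp (algebraMap Γ(Y, ⊤) Γ(X, ⊤))) = _
    rw [← IsScalarTower.algebraMap_eq]
    exact P.equivRing.toAlgHom.comp_algebraMap
  · intro K _ ψ hψ
    refine ⟨(IsLocalization.Away.lift g (g := ψ) hψ.isUnit : Localization.Away g →+* K).comp
      (P.equivRing.symm : P.Ring →+* Localization.Away g), ?_⟩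
    ext a
    simp

lemma fac {T X V U S : Scheme.{u}} [IsAffine T] [IsAffine X] [IsAffine V] (h : X ⟶ V)
    (f : T ⟶ V) (j : V ⟶ S) (i : X ⟶ U) (r : U ⟶ S) (hhj : h ≫ j = i ≫ r)
    (κ : Γ(X, ⊤) →+* Γ(T, ⊤)) (hk : κ.comp h.appTop.hom = f.appTop.hom) :
    (T.isoSpec.hom ≫ Spec.map (CommRingCat.ofHom κ) ≫ X.isoSpec.inv ≫ i) ≫ r = f ≫ j := by
  have hk' : h.appTop ≫ CommRingCat.ofHom κ = f.appTop := by
    ext1
    exact hk
  rw [Category.assoc, Category.assoc, Category.assoc, ← hhj, ← Scheme.isoSpec_inv_naturality_assoc,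
      ← Spec.map_comp_assoc, hk', Scheme.isoSpec_hom_naturality_assoc, Iso.hom_inv_id_assoc]

lemma qO_surjective (U : S.Etale) (t : Spec (CommRingCat.of (Om p)) ⟶ U.left)
    (ht : t ≫ U.hom = xi p) : ∃ x : p.fiber.obj U, qO p U x = t := by
  let u₀ : U.left := t (IsLocalRing.closedPoint (Om p))
  let s₀ : S := U.hom u₀
  obtain ⟨_, ⟨S', hS', rfl⟩, hs₀, -⟩ :=
    S.isBasis_affineOpens.exists_subset_of_mem_open (Set.mem_univ s₀) isOpen_univ
  obtain ⟨_, ⟨U', hU', rfl⟩, hu₀, hUS⟩ :=
    U.left.isBasis_affineOpens.exists_subset_of_mem_open (a := u₀)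
      (show u₀ ∈ ((U.hom ⁻¹ᵁ S' : U.left.Opens) : Set U.left) from hs₀) (U.hom ⁻¹ᵁ S').isOpen
  let V : S.Etale := opn (EtCoh.top S) S'
  have hVaff : IsAffine V.left := hS'
  have hpt : pt p (EtCoh.top S) (star p) ∈ S' := by
    rw [← qO_apply]
    have : qO p (EtCoh.top S) (star p) = xi p := rfl
    rw [this, ← ht]
    exact hs₀
  obtain ⟨y, hy⟩ := exists_lift_opens p (star p) S' hpt
  let h : (U' : Scheme.{u}) ⟶ V.left := U.hom.resLE S' U' hUS
  have : AlgebraicGeometry.Etale h := inferInstanceAs (AlgebraicGeometry.Etale (U.hom.resLE S' U' hUS))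
  have hh : h ≫ Scheme.Opens.ι S' = Scheme.Opens.ι U' ≫ U.hom := Scheme.Hom.resLE_comp_ι _ _
  have : IsAffine U' := hU'
  let x₀ : (U' : Scheme.{u}) := ⟨u₀, hu₀⟩
  obtain ⟨P, g, θ, hxg, hθ, hP⟩ := exists_standard h x₀
  -- the lift of the geometric point to the affine open
  have hrange : Set.range t ⊆ Set.range (Scheme.Opens.ι U') := by
    rintro _ ⟨a, rfl⟩
    rw [Scheme.Opens.range_ι]
    have : a = IsLocalRing.closedPoint (Om p) := Subsingleton.elim _ _
    rw [this]
    exact hu₀
  let t' : Spec (CommRingCat.of (Om p)) ⟶ (U' : Scheme.{u}) :=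
    IsOpenImmersion.lift (Scheme.Opens.ι U') t hrange
  have ht' : t' ≫ Scheme.Opens.ι U' = t := IsOpenImmersion.lift_fac _ _ _
  obtain ⟨ψ₀, hψ₀⟩ := exists_ringHom t'
  have hψ₀g : ψ₀ g ≠ 0 := by
    have h1 : t' (IsLocalRing.closedPoint (Om p)) = x₀ := by
      apply (Scheme.Opens.ι U').isOpenEmbedding.injective
      rw [← Scheme.Hom.comp_apply, ht']
      rfl
    rw [← h1, ← Scheme.map_PrimeSpectrum_basicOpen_of_affine, hψ₀] at hxg
    change (U' : Scheme.{u}).isoSpec.hom ((Spec.map (CommRingCat.ofHom ψ₀) ≫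
      (U' : Scheme.{u}).isoSpec.inv) _) ∈ PrimeSpectrum.basicOpen g at hxg
    rw [← Scheme.Hom.comp_apply, Category.assoc, Iso.inv_hom_id, Category.comp_id] at hxg
    intro h0
    apply hxg
    change ψ₀ g ∈ IsLocalRing.maximalIdeal (Om p)
    rw [h0]
    exact Submodule.zero_mem _
  obtain ⟨ψ, hψ⟩ := hP _ ψ₀ hψ₀g
  let j : V.left ⟶ S := Scheme.Opens.ι S'
  have hmono : Mono j := inferInstanceAs (Mono (Scheme.Opens.ι S'))
  have hj : V.hom = j := Category.comp_id _
  have hhj : h ≫ j = Scheme.Opens.ι U' ≫ U.hom := hh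
  have hcomp : t' ≫ h = qO p V y := by
    apply (cancel_mono j).1
    rw [Category.assoc, hhj, reassoc_of% ht', ht, ← qO_comp_hom p V y, hj]
  have hψy : ψ.comp (algebraMap _ _) = ev p V y := by
    rw [← hθ, ← RingHom.comp_assoc, hψ]
    have h1 : Spec.map (CommRingCat.ofHom (ψ₀.comp h.appTop.hom)) =
        Spec.map (CommRingCat.ofHom (ev p V y)) := by
      rw [← cancel_mono V.left.isoSpec.inv, ← qO_eq, ← hcomp, hψ₀, Category.assoc,
        ← Scheme.isoSpec_inv_naturality, CommRingCat.ofHom_comp, Spec.map_comp, Category.assoc]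
      rfl
    exact congrArg (·.hom) (Spec.map_injective h1)
  obtain ⟨T, hT, z, f, k, rfl, hk, hkψ⟩ := exists_lift_standard p V y P ψ hψy
  let m : T.left ⟶ U.left := T.left.isoSpec.hom ≫ Spec.map (CommRingCat.ofHom (k.comp θ)) ≫
    (U' : Scheme.{u}).isoSpec.inv ≫ Scheme.Opens.ι U'
  have hm : m ≫ U.hom = T.hom := by
    have h1 : T.hom = f.left ≫ V.hom := (MorphismProperty.Over.w f).symm
    refine (fac h f.left j (Scheme.Opens.ι U') U.hom hhj (k.comp θ) ?_).trans ?_
    · rw [RingHom.comp_assoc, hθ, hk]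
    · exact (congrArg (fun a ↦ f.left ≫ a) hj.symm).trans h1.symm
  let M : T ⟶ U := MorphismProperty.Over.homMk m hm trivial
  refine ⟨p.fiber.map M z, ?_⟩
  rw [← qO_w, qO_eq]
  change (_ ≫ _) ≫ (T.left.isoSpec.hom ≫ Spec.map (CommRingCat.ofHom (k.comp θ)) ≫
    (U' : Scheme.{u}).isoSpec.inv ≫ Scheme.Opens.ι U') = t
  rw [Category.assoc, Iso.inv_hom_id_assoc, ← Spec.map_comp_assoc, ← CommRingCat.ofHom_comp,
    ← RingHom.comp_assoc, hkψ, hψ, ← Category.assoc, ← hψ₀, ht']

end helpers

/-- Stacks Tag 04HU (1): let p be a point, in the sense of a fibre functor on etale S-schemes, of the site S_etale (Mathlib's notion of point of a site: cofiltered category of elements, jointly surjective on coverings). Then there is a geometric point ξ of S such that the fibre functor of p is isomorphic to the fibre functor of the point attached to ξ (etale neighbourhoods of ξ). -/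
theorem result (S : Scheme.{u}) (p : GrothendieckTopology.Point.{u} S.smallEtaleTopology) :
    ∃ (Ω : Type u) (_ : Field Ω) (_ : IsSepClosed Ω) (ξ : Spec (CommRingCat.of Ω) ⟶ S),
      Nonempty (p.fiber ≅ (Scheme.pointSmallEtale ξ).fiber) := by
  let ξ := Groth.Agent.S0656.xi p
  refine ⟨_, inferInstance, inferInstance, ξ, ⟨?_⟩⟩
  let α (U : S.Etale) : p.fiber.obj U → (Scheme.pointSmallEtale ξ).fiber.obj U :=
    fun x ↦ Over.homMk (qO p U x) (qO_comp_hom p U x)
  have hα (U : S.Etale) : Function.Bijective (α U) := by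
    constructor
    · intro x y h
      exact qO_injective p U x y (congrArg (·.left) h)
    · intro t
      obtain ⟨x, hx⟩ := qO_surjective p U t.left (Over.w t)
      refine ⟨x, ?_⟩
      apply Over.OverMorphism.ext
      exact hx
  refine NatIso.ofComponents (fun U ↦ (Equiv.ofBijective _ (hα U)).toIso) ?_
  intro U V f
  ext x
  apply Over.OverMorphism.ext
  exact (qO_w p f x).symm

end Groth.Agent.S0656
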