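import Groth.Statements.S0657
import Groth.Agent.Etcore.PrimeFilt
import Groth.Agent.S0105
import Mathlib.GroupTheory.PGroup

set_option autoImplicit false
open CategoryTheory CategoryTheory.Limits AlgebraicGeometry Opposite
universe u
open EtCore

namespace Groth.Agent.S0657

open Groth.Agent.Etcore.Stalks Groth.Agent.Etcore.ReprStalk Groth.Agent.Etcore.SectionCompl
  Groth.Agent.Etcore.FiltAb

/-- On a connected scheme all stalks of a finite locally constant sheaf killed by `ℓ` have order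
`ℓ ^ r`. -/
theorem exists_rank (S : Scheme.{u}) [ConnectedSpace S] (ℓ : ℕ) [Fact ℓ.Prime]
    (F : EtCoh.Ab S) (hF : EtCoh.IsFiniteLocallyConstant F) (hℓ : EtCoh.KilledBy ℓ F) :
    ∃ r : ℕ, ∀ (Ω : Type u) [Field Ω] [IsSepClosed Ω] (ξ : Spec (CommRingCat.of Ω) ⟶ S),
      Nat.card ((EtCoh.stalk ξ).obj F : AddCommGrpCat.{u + 1}) = ℓ ^ r := by
  obtain ⟨M, _, _, ι, U, hU, e⟩ := Groth.Agent.S0105.result F hF
  -- all stalks are isomorphic to `M`
  have key : ∀ (Ω : Type u) [Field Ω] [IsSepClosed Ω] (ξ : Spec (CommRingCat.of Ω) ⟶ S),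
      Nonempty (((EtCoh.stalk ξ).obj F : AddCommGrpCat.{u + 1}) ≃+ M) := by
    intro Ω _ _ ξ
    obtain ⟨i, y, hy⟩ := hU (ξ default)
    obtain ⟨s, -⟩ := Scheme.pointSmallEtaleFiberObjToPreimage_surjective ξ rfl (U i) ⟨y, hy⟩
    obtain ⟨e⟩ := e i
    exact ⟨Groth.Agent.S0105.stalkEquiv F (U i) M e (Scheme.pointSmallEtale ξ) s⟩
  obtain ⟨x⟩ := (inferInstance : Nonempty S)
  obtain ⟨Ω, _, _, ξ, -⟩ := exists_geom x
  obtain ⟨e₀⟩ := key Ω ξ
  -- `M` is killed by `ℓ`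
  have hM : ∀ m : M, ℓ • m = 0 := by
    intro m
    obtain ⟨c, rfl⟩ := e₀.surjective m
    obtain ⟨V, v, s, rfl⟩ := exists_germ ξ F c
    rw [← map_nsmul]
    have h : ℓ • (germ ξ F v s) = germ ξ F v (ℓ • s) :=
      (map_nsmul (germ ξ F v).hom ℓ s).symm
    rw [h, hℓ V s]
    exact (congrArg _ (map_zero (germ ξ F v).hom)).trans (map_zero e₀)
  obtain ⟨r, hr⟩ : ∃ r : ℕ, Nat.card M = ℓ ^ r := by
    have hp : IsPGroup ℓ (Multiplicative M) := fun m => ⟨1, by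
      rw [pow_one]
      exact congrArg Multiplicative.ofAdd (hM m.toAdd)⟩
    obtain ⟨r, hr⟩ := IsPGroup.iff_card.1 hp
    exact ⟨r, hr⟩
  refine ⟨r, fun Ω _ _ ξ => ?_⟩
  obtain ⟨e⟩ := key Ω ξ
  rw [← hr]
  exact Nat.card_congr e.toEquiv

/-- Stacks Tag 0A3R: let S be a connected scheme, ℓ a prime and F a finite locally constant abelian sheaf on the small etale site of S killed by ℓ. Then there are a finite etale morphism f : T -> S whose geometric fibres all have the same cardinality d prime to ℓ, and a finite filtration of f^{-1} F by subsheaves whose successive quotients are isomorphic to the constant sheaf Z/ℓ. The filtration is given as a chain G_0 -> G_1 -> ... -> G_n of monomorphisms with G_0 = 0, G_n isomorphic to f^{-1} F and cokernels constant. -/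
theorem result (S : Scheme.{u}) [ConnectedSpace S] (ℓ : ℕ) [Fact ℓ.Prime]
    (F : EtCoh.Ab S) (hF : EtCoh.IsFiniteLocallyConstant F) (hℓ : EtCoh.KilledBy ℓ F) :
    ∃ (T : Scheme.{u}) (f : T ⟶ S) (_ : IsFinite f) (_ : AlgebraicGeometry.Etale f) (d : ℕ), ℓ.Coprime d ∧
      (∀ (Ω : Type u) [Field Ω] [IsAlgClosed Ω] (η : Spec (CommRingCat.of Ω) ⟶ S),
        Nat.card {t : Spec (CommRingCat.of Ω) ⟶ T // t ≫ f = η} = d) ∧
      ∃ (n : ℕ) (G : ℕ → EtCoh.Ab T) (φ : ∀ i, G i ⟶ G (i + 1)),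
        IsZero (G 0) ∧ Nonempty (G n ≅ (EtCoh.pull f).obj F) ∧
        ∀ i, i < n → Mono (φ i) ∧ Nonempty (cokernel (φ i) ≅ EtCoh.const T (ZMod ℓ)) := by
  obtain ⟨r, hr⟩ := exists_rank S ℓ F hF hℓ
  obtain ⟨T, f, hf1, hf2, d, hd, hc, G, φ, m, h0, hn, -, hG⟩ :=
    Groth.Agent.Etcore.PrimeFilt.main ℓ r S F hF hℓ hr
  exact ⟨T, f, hf1, hf2, d, hd, fun Ω _ _ η => hc Ω η, r, G, φ, h0, ⟨asIso (m r)⟩, hG⟩

end Groth.Agent.S0657
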