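import Groth.Statements.S0660
import Groth.Agent.EtpbcB.ClosedImmEtale

set_option autoImplicit false
open CategoryTheory CategoryTheory.Limits AlgebraicGeometry Opposite
universe u
open EtCore

namespace Groth.Agent.S0660

/-- Stacks Tag 04FV: let i : Z -> X be a closed immersion, U and U' schemes etale over X, and h a Z-morphism from U x_X Z to U' x_X Z. Then there are an etale X-scheme W and X-morphisms a : W -> U, b : W -> U' such that the base change of a to Z is an isomorphism and h is the base change of b composed with the inverse of the base change of a. -/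
theorem result {Z X : Scheme.{u}} (i : Z ⟶ X) [IsClosedImmersion i] (U U' : X.Etale)
    (h : (EtCoh.bc i).obj U ⟶ (EtCoh.bc i).obj U') :
    ∃ (W : X.Etale) (a : W ⟶ U) (b : W ⟶ U'), IsIso ((EtCoh.bc i).map a) ∧ (EtCoh.bc i).map a ≫ h = (EtCoh.bc i).map b := by
  exact EtpbcB.ClosedImmEtale.exists_almost_full i U U' h

end Groth.Agent.S0660
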