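import Groth.Statements.S0661
import Groth.Agent.Etbase.GabMV
import Groth.Agent.Etbase.ZarDense
import Groth.Agent.Etbase.QuotHens

set_option autoImplicit false
open CategoryTheory CategoryTheory.Limits AlgebraicGeometry Opposite
universe u
open EtCore

namespace Groth.Agent.S0661

/-- Stacks Tag 0GY0: let R be a ring such that the localization at every prime is strictly henselian, and F an abelian sheaf on the small etale site of X = Spec R. Suppose that for all global functions f, g on X the map from H^1 of the basic open D(f+g) (with coefficients in the restriction of F) to the product of H^1 of D(f(f+g)) and H^1 of D(g(f+g)) has zero kernel. Then H^q(X, F) vanishes for all q > 0. (Global functions on Spec R are used in place of elements of R; the two rings are canonically isomorphic.) (Exactness of pullback of abelian sheaves, which always holds, is carried as an instance hypothesis.) -/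
theorem result (R : Type u) [CommRing R]
    (hR : ∀ p : PrimeSpectrum R, EtCoh.IsStrictlyHenselianLocalRing (Localization.AtPrime p.asIdeal))
    (F : EtCoh.Ab (Spec (CommRingCat.of R)))
    (hker : ∀ (f g : Γ((Spec (CommRingCat.of R)), ⊤))
      [PreservesFiniteLimits (EtCoh.pull ((Spec (CommRingCat.of R)).homOfLE (((Spec (CommRingCat.of R)).basicOpen_mul f (f + g)).trans_le inf_le_right)))]
      [PreservesFiniteLimits (EtCoh.pull ((Spec (CommRingCat.of R)).homOfLE (((Spec (CommRingCat.of R)).basicOpen_mul g (f + g)).trans_le inf_le_right)))]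
      (ξ : EtCoh.H ↑((Spec (CommRingCat.of R)).basicOpen (f + g)) ((EtCoh.pull ((Spec (CommRingCat.of R)).basicOpen (f + g)).ι).obj F) 1),
      EtCore.HpullVia ((Spec (CommRingCat.of R)).homOfLE (((Spec (CommRingCat.of R)).basicOpen_mul f (f + g)).trans_le inf_le_right)) ((Spec (CommRingCat.of R)).basicOpen (f + g)).ι ((Spec (CommRingCat.of R)).basicOpen (f * (f + g))).ι ((Spec (CommRingCat.of R)).homOfLE_ι (((Spec (CommRingCat.of R)).basicOpen_mul f (f + g)).trans_le inf_le_right)) F 1 ξ = 0 →
      EtCore.HpullVia ((Spec (CommRingCat.of R)).homOfLE (((Spec (CommRingCat.of R)).basicOpen_mul g (f + g)).trans_le inf_le_right)) ((Spec (CommRingCat.of R)).basicOpen (f + g)).ι ((Spec (CommRingCat.of R)).basicOpen (g * (f + g))).ι ((Spec (CommRingCat.of R)).homOfLE_ι (((Spec (CommRingCat.of R)).basicOpen_mul g (f + g)).trans_le inf_le_right)) F 1 ξ = 0 →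
      ξ = 0)
    (q : ℕ) (hq : 1 ≤ q) : Subsingleton (EtCoh.H (Spec (CommRingCat.of R)) F q) := by
  have hst : ∀ x : Spec (CommRingCat.of R),
      EtCoh.IsStrictlyHenselianLocalRing ((Spec (CommRingCat.of R)).presheaf.stalk x) := by
    intro x
    have e := (Spec.stalkIso (CommRingCat.of R) x).symm.commRingCatIsoToRingEquiv
    exact Groth.Agent.Etbase.QuotHens.isStrictlyHenselian_of_surjective e.toRingHom e.surjective
      (hR x)
  refine Groth.Agent.Etbase.StrictHensVanish.H_subsingleton_of_mv _ (fun V v => ?_) F
    (Groth.Agent.Etbase.GabMV.mv_of_HKer F ?_) q hq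
  · obtain ⟨W, hW, σ, h1, -⟩ := Groth.Agent.Etbase.ZarDense.exists_nhd_section V.hom v (hst _)
    exact ⟨W, hW, ⟨MorphismProperty.Over.homMk σ h1 trivial⟩⟩
  · intro f g _ _ ξ h1 h2
    exact hker f g ξ h1 h2

end Groth.Agent.S0661
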