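import Groth.Statements.S0666
import Groth.Agent.Etcore.CechDerived
import Mathlib.CategoryTheory.Preadditive.Yoneda.Limits
import Mathlib.Algebra.Homology.DerivedCategory.Ext.EnoughInjectives
-- import your own Groth.Agent.* helpers here

set_option autoImplicit false
open CategoryTheory CategoryTheory.Limits Opposite
universe w v
open EtCore

namespace Groth.Agent.S0666

/-- Stacks Tag 03OS: with C, U and the family (U_i -> U) as in the definition of the Cech complex, on the abelian category of abelian presheaves on C the p-th Cech cohomology functor is isomorphic to the p-th right derived functor of the zeroth Cech cohomology functor (assuming, as binders, that the latter is additive and that abelian presheaves have injective resolutions, which hold because C is taken essentially small relative to the coefficient universe). -/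
theorem result {C : Type w} [Category.{v} C] [EssentiallySmall.{w} C] {U : C} [HasFiniteProducts (Over U)]
    {ι : Type w} (Uf : ι → Over U) [(EtCech.cechHFunctor (C := C) Uf 0).Additive]
    [HasInjectiveResolutions (Cᵒᵖ ⥤ AddCommGrpCat.{w})] (p : ℕ) :
    Nonempty (EtCech.cechHFunctor (C := C) Uf p ≅ (EtCech.cechHFunctor (C := C) Uf 0).rightDerived p) := by
  have hEI : EnoughInjectives (Cᵒᵖ ⥤ AddCommGrpCat.{w}) := ⟨fun X => ⟨{
    J := (injectiveResolution X).cocomplex.X 0
    f := (injectiveResolution X).ι.f 0
    mono := inferInstanceAs (Mono ((injectiveResolution X).ι.f 0)) }⟩⟩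
  have : LocallySmall.{w} C := locallySmall_of_essentiallySmall C
  have hExt : HasExt.{w} (Cᵒᵖ ⥤ AddCommGrpCat.{w}) := hasExt_of_enoughInjectives _
  obtain ⟨e, he⟩ := Groth.Agent.Etcore.CechDerived.exists_equiv_zero (C := C) Uf
  rcases p with _ | n
  · -- degree zero
    let i : EtCech.cechHFunctor (C := C) Uf 0 ≅
        preadditiveCoyoneda.obj (op (Groth.Agent.Etcore.CechDerived.S Uf)) :=
      NatIso.ofComponents (fun P => (e P).toAddCommGrpIso) (fun {P Q} g => by
        ext x
        exact he P Q g x)
    have : PreservesFiniteLimits (EtCech.cechHFunctor (C := C) Uf 0) :=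
      have : PreservesFiniteLimits (preadditiveCoyoneda.obj (op (Groth.Agent.Etcore.CechDerived.S Uf))) := 
        PreservesLimitsOfSize.preservesFiniteLimits _
      preservesFiniteLimits_of_natIso i.symm
    exact ⟨(Functor.rightDerivedZeroIsoSelf _).symm⟩
  · obtain ⟨f, hf⟩ := Groth.Agent.Etcore.ExtRes.exists_rightDerived_equiv_ext
      (EtCech.cechHFunctor (C := C) Uf 0) (Groth.Agent.Etcore.CechDerived.S Uf) e he n
    obtain ⟨e', he'⟩ := Groth.Agent.Etcore.CechDerived.exists_equiv_succ (C := C) Uf n
    exact ⟨NatIso.ofComponents (fun P => ((e' P).trans (f P).symm).toAddCommGrpIso) (fun {P Q} g => by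
      ext x
      change (f Q).symm (e' Q _) = _
      rw [AddEquiv.symm_apply_eq]
      refine (he' P Q g x).trans ?_
      refine Eq.trans ?_ (hf P Q g _).symm
      congr 1
      exact ((f P).apply_symm_apply _).symm)⟩

end Groth.Agent.S0666
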