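import Groth.Statements.S0670
import Groth.Agent.Etbase.ZarDense
import Groth.Agent.CohtopA.FreeYo
import Groth.Agent.Etbase.ExactSections

set_option autoImplicit false
open CategoryTheory CategoryTheory.Limits AlgebraicGeometry Opposite
universe u
open EtCore

namespace Groth.Agent.S0670

/-- Transport of `Ext` along an equivalence with a comparison of the first variable. -/
theorem extEquiv {C D : Type (u + 2)} [Category.{u + 1} C] [Category.{u + 1} D] [Abelian C] [Abelian D]
    [EnoughInjectives C] [EnoughInjectives D] [HasExt.{u + 1} C] [HasExt.{u + 1} D]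
    (R : D ⥤ C) [R.IsEquivalence] [R.Additive] (A : C) (A' : D) (e : A ≅ R.obj A') (B : D) (n : ℕ) :
    Nonempty (Abelian.Ext.{u + 1} A' B n ≃+ Abelian.Ext.{u + 1} A (R.obj B) n) := by
  let E := R.asEquivalence
  have adj : E.inverse ⊣ R := E.symm.toAdjunction
  have : E.inverse.Additive := adj.left_adjoint_additive
  have : PreservesFiniteLimits R := inferInstance
  have : PreservesFiniteColimits R := inferInstance
  have : PreservesFiniteLimits E.inverse := inferInstance
  have : PreservesFiniteColimits E.inverse := inferInstance
  let a := Etcore.ExtAdj.extAdj (L := E.inverse) (R := R) adj (R.obj A') B n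
  let e1 : E.inverse.obj (R.obj A') ≅ A' := E.unitIso.symm.app A'
  exact ⟨(CohtopA.FreeYo.extCongrLeft e1 B n).trans
    (a.trans (CohtopA.FreeYo.extCongrLeft e (R.obj B) n))⟩

set_option backward.isDefEq.respectTransparency.types false in
noncomputable def zarTop (S : Scheme.{u}) : IsTerminal ((EtZar.zarToEt S).obj ⊤) :=
  (Etbase.ExactSections.topIsTerminal S).ofIso
    { hom := MorphismProperty.Over.homMk S.topIso.inv S.topIso.inv_hom_id
      inv := MorphismProperty.Over.homMk S.topIso.hom (Category.comp_id _)
      hom_inv_id := MorphismProperty.Over.Hom.ext S.topIso.inv_hom_id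
      inv_hom_id := MorphismProperty.Over.Hom.ext S.topIso.hom_inv_id }

/-- Stacks Tag 09AX: let S be a scheme whose local rings are all strictly henselian. Then for every abelian sheaf F on the small etale site of S and every i, the etale cohomology H^i(S, F) is isomorphic to the Zariski cohomology of S with coefficients in the restriction of F to the site of opens. (Continuity of the opens-to-etale-schemes functor is carried as an instance binder; existence of an isomorphism is stated, the source's is canonical.) -/
theorem result (S : Scheme.{u})
    (hS : ∀ s : S, EtCoh.IsStrictlyHenselianLocalRing (S.presheaf.stalk s)) [EtZar.ZarCont S]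
    (F : EtCoh.Ab S) (i : ℕ) :
    Nonempty (EtCoh.H S F i ≃+ EtZar.H ((EtZar.resZar S).obj F) i) := by
  have := Etbase.ZarDense.isDenseSubsite S hS
  have hl : ∀ X, HasLimitsOfShape (StructuredArrow X (EtZar.zarToEt S).op) AddCommGrpCat.{u + 1} := by
    intro X
    have := hasLimitsOfSizeShrink.{u, u, u + 1, u + 1} AddCommGrpCat.{u + 1}
    infer_instance
  have h1 : (EtZar.resZar S).IsEquivalence := inferInstance
  have h2 : (EtZar.resZar S).Additive := { }
  let e := (equivCommuteConstant' (Opens.grothendieckTopology S) AddCommGrpCat.{u + 1}
    S.smallEtaleTopology (EtZar.zarToEt S) (T := (⊤ : S.Opens)) isTerminalTop (zarTop S)).app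
      (AddCommGrpCat.of (ULift.{u + 1} ℤ))
  exact extEquiv (EtZar.resZar S) _ _ e F i

end Groth.Agent.S0670
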