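import Groth.Statements.S0671
import Groth.Agent.Etcore.StalkSec

set_option autoImplicit false
open CategoryTheory CategoryTheory.Limits AlgebraicGeometry Opposite
universe u
open EtCore

namespace Groth.Agent.S0671
open Etcore.StalkSec Etcore.Cover

theorem isClosed_sectSupp {S : Scheme.{u}} (F : EtCoh.Ab S) (U : S.Etale) (σ : EtCoh.sect F U) :
    IsClosed (EtShriek.sectSupp F U σ) := by
  rw [← isOpen_compl_iff, isOpen_iff_forall_mem_open]
  intro x hx
  simp only [EtShriek.sectSupp, Set.mem_compl_iff, Set.mem_setOf_eq, not_forall, ne_eq,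
    not_not] at hx
  obtain ⟨W, g, ⟨w, hw⟩, h0⟩ := hx
  refine ⟨Set.range g.left, ?_, (isOpenMap_left g).isOpen_range, ⟨w, hw⟩⟩
  rintro _ ⟨w', rfl⟩ h
  exact h W g ⟨w', rfl⟩ h0

theorem germ_ne_zero {S : Scheme.{u}} {Ω : Type u} [Field Ω] [IsSepClosed Ω]
    (ξ : Spec (CommRingCat.of Ω) ⟶ S) (F : EtCoh.Ab S) (U : S.Etale) (σ : EtCoh.sect F U)
    (x : (Scheme.pointSmallEtale ξ).fiber.obj U) :
    germ ξ F U x σ ≠ 0 ↔ pt ξ x ∈ EtShriek.sectSupp F U σ := by
  rw [ne_eq, germ_eq_zero_iff]
  simp only [EtShriek.sectSupp, Set.mem_setOf_eq, ne_eq]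
  constructor
  · intro h W g ⟨w, hw⟩ h0
    exact h ⟨W, g, w, hw, h0⟩
  · rintro h ⟨W, g, w, hw, h0⟩
    exact h W g ⟨w, hw⟩ h0

/-- Stacks Tag 04FT (1) and (4): for an abelian sheaf F on the small etale site of S and a section σ over an etale S-scheme U, the support of σ is a closed subset of U; and a point of S has a nonzero geometric stalk exactly when it is the image of a point lying in the support of some section over some etale S-scheme. -/
theorem result {S : Scheme.{u}} (F : EtCoh.Ab S) :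
    (∀ (U : S.Etale) (σ : EtCoh.sect F U), IsClosed (EtShriek.sectSupp F U σ)) ∧
    EtPBC.supp F = ⋃ (U : S.Etale) (σ : EtCoh.sect F U), U.hom.base '' EtShriek.sectSupp F U σ := by
  refine ⟨isClosed_sectSupp F, ?_⟩
  ext x
  simp only [Set.mem_iUnion]
  constructor
  · rintro ⟨Ω, _, _, ξ, hξ, hne⟩
    have hx : ξ default = x := by
      have : ξ default ∈ Set.range ξ := ⟨_, rfl⟩
      rw [hξ] at this
      exact this
    have h1 : ∃ t : (EtCoh.stalk ξ).obj F, t ≠ 0 := by
      by_contra hcon
      push Not at hcon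
      apply hne
      have : Subsingleton ((EtCoh.stalk ξ).obj F) := ⟨fun a b ↦ (hcon a).trans (hcon b).symm⟩
      exact AddCommGrpCat.isZero_of_subsingleton _
    obtain ⟨t, ht⟩ := h1
    obtain ⟨U, y, σ, rfl⟩ := germ_surj ξ F t
    refine ⟨U, σ, pt ξ y, (germ_ne_zero ξ F U σ y).mp ht, ?_⟩
    exact (hom_pt ξ y).trans hx
  · rintro ⟨U, σ, w, hw, rfl⟩
    let s : S := U.hom w
    let ξ : Spec (CommRingCat.of (SeparableClosure (S.residueField s))) ⟶ S :=
      (Scheme.SpecToEquivOfField (SeparableClosure (S.residueField s)) _).2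
        ⟨s, CommRingCat.ofHom (algebraMap (S.residueField s) _)⟩
    have hξ : ξ default = s := by simp [ξ, Scheme.SpecToEquivOfField]
    refine ⟨SeparableClosure (S.residueField s), inferInstance, inferInstance, ξ, ?_, ?_⟩
    · ext z
      simp only [Set.mem_range, Set.mem_singleton_iff]
      constructor
      · rintro ⟨a, rfl⟩
        rw [Subsingleton.elim a default]
        exact hξ
      · rintro rfl
        exact ⟨default, hξ⟩
    · intro hz
      obtain ⟨y, hy⟩ := exists_pt ξ w hξ.symm
      have h2 : germ ξ F U y σ ≠ 0 := (germ_ne_zero ξ F U σ y).mpr (hy ▸ hw)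
      have : Subsingleton ((EtCoh.stalk ξ).obj F) := AddCommGrpCat.subsingleton_of_isZero hz
      exact h2 (Subsingleton.elim _ _)

end Groth.Agent.S0671
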