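import Groth.Statements.S0676
import Groth.Agent.Proet.EtaleLift

set_option autoImplicit false
open CategoryTheory CategoryTheory.Limits AlgebraicGeometry Opposite Topology
universe u
open ProEtW

namespace Groth.Agent.S0676

open TensorProduct in

/-- Stacks Tag 097U: if every faithfully flat etale A-algebra has an A-algebra retraction, then the same holds for the quotient ring A/I for every ideal I. -/
theorem result (A : Type u) [CommRing A]
    (h : ProEtW.HasEtaleRetractions A) (I : Ideal A) :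
    ProEtW.HasEtaleRetractions (A ⧸ I) := by
  intro Bb _ _ hff het
  obtain ⟨B, _, _, hB, ⟨e⟩⟩ := Proet.EtaleLift.exists_etale_lift A (A ⧸ I) Bb Ideal.Quotient.mk_surjective
  have hV : PrimeSpectrum.zeroLocus (I : Set A) ⊆ Set.range (PrimeSpectrum.comap (algebraMap A B)) := by
    intro p hp
    rw [← Ideal.mk_ker (I := I)] at hp
    rw [← range_comap_of_surjective _ (Ideal.Quotient.mk I)
      Ideal.Quotient.mk_surjective] at hp
    obtain ⟨q, rfl⟩ := hp
    obtain ⟨r, rfl⟩ := PrimeSpectrum.comap_surjective_of_faithfullyFlat (A := A ⧸ I) (B := Bb) q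
    let g : B →+* Bb := e.toRingHom.comp
      (Algebra.TensorProduct.includeRight (R := A) (A := A ⧸ I) (B := B)).toRingHom
    refine ⟨PrimeSpectrum.comap g r, ?_⟩
    rw [← PrimeSpectrum.comap_comp_apply, ← PrimeSpectrum.comap_comp_apply]
    congr 1
    ext a
    have h1 : (algebraMap (A ⧸ I) Bb) (Ideal.Quotient.mk I a) = e (algebraMap (A ⧸ I) _ (Ideal.Quotient.mk I a)) :=
      (e.commutes _).symm
    simp only [RingHom.comp_apply, g]
    rw [h1]
    change e ((1 : A ⧸ I) ⊗ₜ[A] (algebraMap A B a)) = e _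
    congr 1
    rw [Algebra.TensorProduct.algebraMap_apply, Algebra.algebraMap_self_apply,
      Algebra.algebraMap_eq_smul_one (R := A) (A := B) a, ← TensorProduct.smul_tmul,
      Algebra.smul_def, mul_one]
    rfl
  obtain ⟨f, hfI, hE, hF⟩ := Proet.EtaleLift.exists_faithfullyFlat_prod I hV
  obtain ⟨ρ⟩ := h (B × Localization.Away f) hF hE
  obtain ⟨ψ, -⟩ := Proet.EtaleLift.exists_algHom_of_prod (R := A ⧸ I) f
    (Ideal.Quotient.eq_zero_iff_mem.mpr hfI) ((IsScalarTower.toAlgHom A A (A ⧸ I)).comp ρ)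
  let Φ : (A ⧸ I) ⊗[A] B →ₐ[A ⧸ I] A ⧸ I :=
    Algebra.TensorProduct.lift (AlgHom.id (A ⧸ I) (A ⧸ I)) ψ (fun _ _ => Commute.all _ _)
  exact ⟨Φ.comp e.symm.toAlgHom⟩

end Groth.Agent.S0676
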