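import Groth.Statements.S0679
import Groth.Agent.S0677
import Groth.Agent.Proet.FinWLocal
import Groth.Agent.Proet.QFExtr
import Groth.Agent.Proet.WLocalTop

set_option autoImplicit false
open CategoryTheory CategoryTheory.Limits AlgebraicGeometry Opposite Topology
universe u
open ProEtW

namespace Groth.Agent.S0679

open TensorProduct Groth.Agent.Proet in
/-- The part of the statement on connected components. -/
theorem extr (A B : Type u) [CommRing A] [CommRing B]
    [Algebra A B] [Module.Finite A B] [Algebra.FinitePresentation A B]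
    (hA : ProEtW.IsWLocal (PrimeSpectrum A)) (hB : ProEtW.IsWLocal (PrimeSpectrum B))
    (hcl : ProEtW.closedPoints (PrimeSpectrum B) =
      PrimeSpectrum.comap (algebraMap A B) ⁻¹' ProEtW.closedPoints (PrimeSpectrum A))
    (hed : ExtremallyDisconnected (ConnectedComponents (PrimeSpectrum A)))
    (hres : ∀ (m : Ideal A) [m.IsMaximal], IsSepClosed m.ResidueField) :
    ExtremallyDisconnected (ConnectedComponents (PrimeSpectrum B)) := by
  set I : Ideal A := PrimeSpectrum.vanishingIdeal (ProEtW.closedPoints (PrimeSpectrum A))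
  have hI : PrimeSpectrum.zeroLocus (I : Set A) = ProEtW.closedPoints (PrimeSpectrum A) := by
    rw [PrimeSpectrum.zeroLocus_vanishingIdeal_eq_closure]
    exact (WLocalTop.isClosed_closedPoints hA).closure_eq
  have hemb := PrimeSpectrum.isClosedEmbedding_comap_of_surjective _ (Ideal.Quotient.mk I)
    Ideal.Quotient.mk_surjective
  have hrange : Set.range (PrimeSpectrum.comap (Ideal.Quotient.mk I)) =
      ProEtW.closedPoints (PrimeSpectrum A) := by
    rw [_root_.range_comap_of_surjective _ _ Ideal.Quotient.mk_surjective, Ideal.mk_ker, hI]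
  let e1 : PrimeSpectrum (A ⧸ I) ≃ₜ ConnectedComponents (PrimeSpectrum A) :=
    (hemb.isEmbedding.toHomeomorph.trans (Homeomorph.setCongr hrange)).trans
      (WLocalTop.closedPointsHomeo hA)
  have h1 : ExtremallyDisconnected (PrimeSpectrum (A ⧸ I)) := extremallyDisconnected_of_homeo e1.symm
  have h2 : T2Space (PrimeSpectrum (A ⧸ I)) := by
    have : T2Space (ProEtW.closedPoints (PrimeSpectrum A)) := WLocalTop.t2Space_closedPoints hA
    exact (hemb.isEmbedding.toHomeomorph.trans (Homeomorph.setCongr hrange)).isEmbedding.t2Space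
  have h3 : ∀ p : PrimeSpectrum (A ⧸ I), IsSepClosed p.asIdeal.ResidueField := by
    intro p
    have hp : PrimeSpectrum.comap (Ideal.Quotient.mk I) p ∈ ProEtW.closedPoints (PrimeSpectrum A) :=
      hrange ▸ ⟨p, rfl⟩
    have hm : (p.asIdeal.comap (Ideal.Quotient.mk I)).IsMaximal :=
      (PrimeSpectrum.isClosed_singleton_iff_isMaximal _).1 hp
    have h4 := hres (p.asIdeal.comap (Ideal.Quotient.mk I))
    have hb : Function.Bijective (Ideal.ResidueField.map (p.asIdeal.comap (Ideal.Quotient.mk I))
        p.asIdeal (Ideal.Quotient.mk I) rfl) := by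
      exact (RingHom.surjectiveOnStalks_of_surjective Ideal.Quotient.mk_surjective).residueFieldMap_bijective _ _ _
    let := (Ideal.ResidueField.map (p.asIdeal.comap (Ideal.Quotient.mk I))
        p.asIdeal (Ideal.Quotient.mk I) rfl).toAlgebra
    have halg : Algebra.IsAlgebraic (p.asIdeal.comap (Ideal.Quotient.mk I)).ResidueField
        p.asIdeal.ResidueField := by
      refine ⟨fun x => ?_⟩
      obtain ⟨y, rfl⟩ := hb.2 x
      exact isAlgebraic_algebraMap y
    exact Algebra.IsAlgebraic.isSepClosed (F := (p.asIdeal.comap (Ideal.Quotient.mk I)).ResidueField)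
  let D := (A ⧸ I) ⊗[A] B
  have h5 : ExtremallyDisconnected (PrimeSpectrum D) :=
    QFExtr.extremallyDisconnected_of_quasiFinite (A ⧸ I) D h3
  let r : B →+* D := (Algebra.TensorProduct.includeRight : B →ₐ[A] D).toRingHom
  have hr : Function.Surjective r := by
    intro x
    induction x using TensorProduct.induction_on with
    | zero => exact ⟨0, map_zero _⟩
    | add x y hx hy =>
      obtain ⟨a, rfl⟩ := hx
      obtain ⟨b, rfl⟩ := hy
      exact ⟨a + b, map_add _ _ _⟩
    | tmul a b =>
      obtain ⟨a, rfl⟩ := Ideal.Quotient.mk_surjective a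
      refine ⟨algebraMap A B a * b, ?_⟩
      change (1 : A ⧸ I) ⊗ₜ[A] (algebraMap A B a * b) = _
      rw [← Algebra.smul_def, ← TensorProduct.smul_tmul, Algebra.smul_def, mul_one]
      rfl
  have hemb' := PrimeSpectrum.isClosedEmbedding_comap_of_surjective _ r hr
  have hrange' : Set.range (PrimeSpectrum.comap r) = ProEtW.closedPoints (PrimeSpectrum B) := by
    rw [hcl]
    ext y
    constructor
    · rintro ⟨z, rfl⟩
      change PrimeSpectrum.comap (algebraMap A B) (PrimeSpectrum.comap r z) ∈
        ProEtW.closedPoints (PrimeSpectrum A)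
      rw [← hrange]
      refine ⟨PrimeSpectrum.comap (algebraMap (A ⧸ I) D) z, ?_⟩
      rw [← PrimeSpectrum.comap_comp_apply, ← PrimeSpectrum.comap_comp_apply]
      have : (algebraMap (A ⧸ I) D).comp (Ideal.Quotient.mk I) = r.comp (algebraMap A B) := by
        have h6 : r.comp (algebraMap A B) = algebraMap A D :=
          (Algebra.TensorProduct.includeRight : B →ₐ[A] D).comp_algebraMap
        rw [h6, ← Ideal.Quotient.algebraMap_eq, ← IsScalarTower.algebraMap_eq A (A ⧸ I) D]
      rw [this]
    · intro hy
      have hy' : PrimeSpectrum.comap (algebraMap A B) y ∈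
          Set.range (PrimeSpectrum.comap (Ideal.Quotient.mk I)) := by
        rw [hrange]; exact hy
      obtain ⟨z, hz⟩ := hy'
      obtain ⟨w, -, hw⟩ := QFExtr.exists_comap_tensorProduct (R := A) z y hz
      exact ⟨w, hw⟩
  let e2 : PrimeSpectrum D ≃ₜ ConnectedComponents (PrimeSpectrum B) :=
    (hemb'.isEmbedding.toHomeomorph.trans (Homeomorph.setCongr hrange')).trans
      (WLocalTop.closedPointsHomeo hB)
  exact extremallyDisconnected_of_homeo e2

/-- Stacks Tag 0986: if A → B is a finite ring map of finite presentation and A is w-contractible, then B is w-contractible. -/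
theorem result (A B : Type u) [CommRing A] [CommRing B]
    [Algebra A B] [Module.Finite A B] [Algebra.FinitePresentation A B]
    (h : EtPBC.IsWContractible A) : EtPBC.IsWContractible B := by
  rw [Groth.Agent.S0677.result] at h ⊢
  obtain ⟨hw, hed, hsh⟩ := h
  let f := PrimeSpectrum.comap (algebraMap A B)
  have hf : Continuous f := PrimeSpectrum.continuous_comap _
  have hcl : ProEtW.closedPoints (PrimeSpectrum B) = f ⁻¹' ProEtW.closedPoints (PrimeSpectrum A) := by
    ext y
    change IsClosed {y} ↔ IsClosed {f y}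
    rw [PrimeSpectrum.isClosed_singleton_iff_isMaximal, PrimeSpectrum.isClosed_singleton_iff_isMaximal]
    constructor
    · intro h
      exact Ideal.isMaximal_comap_of_isIntegral_of_isMaximal (R := A) y.asIdeal
    · intro h
      exact Ideal.isMaximal_of_isIntegral_of_isMaximal_comap (R := A) y.asIdeal h
  have hwB : ProEtW.IsWLocal (PrimeSpectrum B) := by
    refine ⟨inferInstance, ?_, ?_⟩
    · change IsClosed (ProEtW.closedPoints (PrimeSpectrum B))
      rw [hcl]
      exact hw.2.1.preimage hf
    · intro y
      obtain ⟨n, hn, hyn⟩ := Ideal.exists_le_maximal y.asIdeal y.2.ne_top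
      let z : PrimeSpectrum B := ⟨n, hn.isPrime⟩
      refine ⟨z, ⟨(PrimeSpectrum.isClosed_singleton_iff_isMaximal _).2 hn,
        (PrimeSpectrum.le_iff_specializes _ _).1 hyn⟩, ?_⟩
      rintro w ⟨hw1, hw2⟩
      have hwn : w.asIdeal.IsMaximal := (PrimeSpectrum.isClosed_singleton_iff_isMaximal _).1 hw1
      have hwm : w ∈ f ⁻¹' ProEtW.closedPoints (PrimeSpectrum A) := hcl ▸ hw1
      have hzm : z ∈ f ⁻¹' ProEtW.closedPoints (PrimeSpectrum A) :=
        hcl ▸ (PrimeSpectrum.isClosed_singleton_iff_isMaximal z).2 hn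
      have hyz : y ⤳ z := (PrimeSpectrum.le_iff_specializes _ _).1 hyn
      have hfw : f w = f z := by
        rw [← Groth.Agent.Proet.WLocalTop.retr_unique hw hwm (hw2.map hf),
          ← Groth.Agent.Proet.WLocalTop.retr_unique hw hzm (hyz.map hf)]
      have hmax : (z.asIdeal.comap (algebraMap A B)).IsMaximal :=
        Ideal.isMaximal_comap_of_isIntegral_of_isMaximal (R := A) z.asIdeal
      apply PrimeSpectrum.ext
      exact Groth.Agent.Proet.FinWLocal.eq_of_le_of_le (z.asIdeal.comap (algebraMap A B))
        (hsh _).1 y.asIdeal w.asIdeal z.asIdeal (congrArg PrimeSpectrum.asIdeal hfw) rfl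
        ((PrimeSpectrum.le_iff_specializes _ _).2 hw2) hyn
  refine ⟨hwB, extr A B hw hwB hcl hed fun m _ => (hsh m).2, fun n _ => ?_⟩
  have hmax : (n.comap (algebraMap A B)).IsMaximal :=
    Ideal.isMaximal_comap_of_isIntegral_of_isMaximal (R := A) n
  exact Groth.Agent.Proet.FinWLocal.isStrictlyHenselian _ (hsh _) n rfl

end Groth.Agent.S0679
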