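import Groth.Statements.S0683
import Groth.Agent.Etrest.LqfNat

set_option autoImplicit false
open CategoryTheory CategoryTheory.Limits AlgebraicGeometry Opposite
universe u
open EtShriek

namespace Groth.Agent.S0683

/-- Stacks Tag 0F57, part (1): f : X -> Y separated and locally quasi-finite, F an abelian sheaf on X_et, ybar a geometric point of Y with algebraically closed field: the stalk (f_! F)_ybar is isomorphic to the direct sum of the stalks F_xbar over the geometric points xbar of X (same field) mapping to ybar. (Existence of an isomorphism; the source's is canonical and functorial.) -/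
theorem result {X Y : Scheme.{u}} (f : X ⟶ Y) [IsSeparated f]
    [LocallyOfFiniteType f] [LocallyQuasiFinite f] (F : EtCoh.Ab X) {Ω : Type u} [Field Ω] [IsAlgClosed Ω]
    (η : Spec (CommRingCat.of Ω) ⟶ Y) :
    Nonempty ((EtCoh.stalk η).obj ((EtShriek.lowerShriek f).obj F) ≅
      ∐ fun ξ : {ξ : Spec (CommRingCat.of Ω) ⟶ X // ξ ≫ f = η} => (EtCoh.stalk ξ.1).obj F) := by
  exact ⟨(EtCoh.stalk η).mapIso ((Groth.Agent.Etrest.ShriekSheaf.lowerShriekIso f).app F) ≪≫
    (Groth.Agent.Etrest.LqfNat.isSum f η F).isColimit.coconePointUniqueUpToIso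
      (colimit.isColimit _)⟩

end Groth.Agent.S0683
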