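import Groth.Statements.S0685
import Groth.Agent.Etrest.ShriekComp

set_option autoImplicit false
open CategoryTheory CategoryTheory.Limits AlgebraicGeometry Opposite
universe u
open EtShriek

namespace Groth.Agent.S0685

/-- Stacks Tag 0F50: for f : X -> Y and g : Y -> Z separated and locally of finite type there is an isomorphism of functors (g o f)_! = g_! o f_! on abelian etale sheaves. (In the source the two agree as subsheaves of (g o f)_*; here existence of a natural isomorphism.) -/
theorem result {X Y Z : Scheme.{u}} (f : X ⟶ Y) (g : Y ⟶ Z) [IsSeparated f]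
    [LocallyOfFiniteType f] [IsSeparated g] [LocallyOfFiniteType g] :
    Nonempty (EtShriek.lowerShriek (f ≫ g) ≅ EtShriek.lowerShriek f ⋙ EtShriek.lowerShriek g) := by
  exact ⟨Groth.Agent.Etrest.ShriekComp.lowerShriekComp f g⟩

end Groth.Agent.S0685
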