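import Groth.Statements.S0687
import Groth.Agent.Etrest.ShriekProper
import Groth.Agent.Etrest.ShriekH0c

set_option autoImplicit false
open CategoryTheory CategoryTheory.Limits AlgebraicGeometry Opposite
universe u
open EtShriek

namespace Groth.Agent.S0687

/-- Stacks Tag 0F75: over a field k, if j : X -> Xbar is an open immersion into a scheme Xbar proper over k, then for every abelian sheaf F on X_et the compactly supported sections H^0_c(X, F) form a group isomorphic to H^0(Xbar, j_! F). (Existence of an isomorphism of groups; canonical in the source.) -/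
theorem result {k : Type u} [Field k] {X Xb : Scheme.{u}} (j : X ⟶ Xb)
    [IsOpenImmersion j] (pb : Xb ⟶ Spec (CommRingCat.of k)) [IsProper pb]
    (p : X ⟶ Spec (CommRingCat.of k)) (hp : p = j ≫ pb) [IsSeparated p] [LocallyOfFiniteType p]
    [EtShriek.JCont j] (F : EtCoh.Ab X) :
    Nonempty ((EtShriek.H0c p F) ≃+ EtCoh.sect ((EtShriek.extZero j).obj F) (EtCoh.top Xb)) := by
  subst hp
  obtain ⟨e⟩ := Groth.Agent.Etrest.ShriekProper.lowerShriek_compactification j pb
  exact ⟨(Groth.Agent.Etrest.ShriekH0c.h0cEquivLowerShriek (j ≫ pb) F).trans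
    ((Groth.Agent.Etrest.ShriekH0c.sectEquivOfIso (e.app F) _).trans
      (Groth.Agent.Etrest.ShriekH0c.topEquiv pb ((EtShriek.extZero j).obj F)).symm)⟩

end Groth.Agent.S0687
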