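import Groth.Statements.S0689
import Groth.Agent.Etrest.LqfExact

set_option autoImplicit false
open CategoryTheory CategoryTheory.Limits AlgebraicGeometry Opposite
universe u
open EtShriek

namespace Groth.Agent.S0689

/-- Stacks Tag 0F59, part (1), in the separated case (where the direct image with proper support is the subsheaf of the direct image, Tag 0F6N): for f : X -> Y separated and locally quasi-finite, the functor f_! on abelian etale sheaves has a right adjoint. -/
theorem result {X Y : Scheme.{u}} (f : X ⟶ Y) [IsSeparated f]
    [LocallyOfFiniteType f] [LocallyQuasiFinite f] :
    (EtShriek.lowerShriek f).IsLeftAdjoint := by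
  exact Groth.Agent.Etrest.LqfExact.isLeftAdjoint_lowerShriek f

end Groth.Agent.S0689
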