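import Groth.Statements.S0696
import Groth.Agent.S0678
import Groth.Agent.S0704
import Groth.Agent.Proet.ProfRing
import Groth.Agent.Proet.FacInd
import Groth.Agent.Proet.WLocalMap
-- import your own Groth.Agent.* helpers here

set_option autoImplicit false
open CategoryTheory CategoryTheory.Limits AlgebraicGeometry Opposite Topology
universe u
open ProEtW

namespace Groth.Agent.S0696

/-- Stacks Tag 09B0: every ring A admits a faithfully flat ind-Zariski extension B whose spectrum is w-local with extremally disconnected space of connected components (condition (3) of Tag 09AZ). -/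
theorem result (A : Type u) [CommRing A] :
    ∃ (B : Type u) (_ : CommRing B) (_ : Algebra A B),
      Module.FaithfullyFlat A B ∧ EtPBC.IsIndZariski A B ∧ ProEtW.IsWLocal (PrimeSpectrum B) ∧
        ExtremallyDisconnected (ConnectedComponents (PrimeSpectrum B)) := by
  obtain ⟨Aw, _, _, hff, hind, hW, -⟩ := Groth.Agent.S0694.result A
  have hT2 : T2Space (ConnectedComponents (PrimeSpectrum Aw)) :=
    Groth.Agent.Proet.SpectralPi0.t2Space_connectedComponents
  obtain ⟨T, _, _, _, _, g, hTproj, hgs⟩ :=
    Groth.Agent.S0678.exists_gleason (ConnectedComponents (PrimeSpectrum Aw))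
  have hWP : ProEtW.IsWLocal (PrimeSpectrum (Groth.Agent.Proet.ProfRing.PR g)) :=
    Groth.Agent.Proet.WLocalMap.isWLocal_of_homeo (Groth.Agent.S0704.result _ T hW g).1
      (Groth.Agent.Proet.ProfRing.specHomeo g)
  have hT2' : T2Space (ConnectedComponents (PrimeSpectrum (Groth.Agent.Proet.ProfRing.PR g))) :=
    Groth.Agent.Proet.SpectralPi0.t2Space_connectedComponents
  have hindP : EtPBC.IsIndZariski A (Groth.Agent.Proet.ProfRing.PR g) :=
    (Groth.Agent.Proet.FacInd.isIndZariski_iff_fac _).2
      (Groth.Agent.Proet.ProfRing.fac_PR g ((Groth.Agent.Proet.FacInd.isIndZariski_iff_fac _).1 hind))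
  have hindP' : EtPBC.IsIndZariski Aw (Groth.Agent.Proet.ProfRing.PR g) :=
    (Groth.Agent.Proet.FacInd.isIndZariski_iff_fac _).2 (Groth.Agent.Proet.ProfRing.fac_PR_self g)
  have hflat : Module.Flat Aw (Groth.Agent.Proet.ProfRing.PR g) :=
    Groth.Agent.Proet.IndZariski.flat_of_isIndZariski _ _ hindP'
  have hffP : Module.FaithfullyFlat Aw (Groth.Agent.Proet.ProfRing.PR g) :=
    Module.FaithfullyFlat.of_comap_surjective (Groth.Agent.Proet.ProfRing.comap_surjective g hgs)
  have htower : IsScalarTower A Aw (Groth.Agent.Proet.ProfRing.PR g) := by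
    apply IsScalarTower.of_algebraMap_eq'
    rw [IsScalarTower.algebraMap_eq A (LocallyConstant T Aw) (Groth.Agent.Proet.ProfRing.PR g),
      IsScalarTower.algebraMap_eq Aw (LocallyConstant T Aw) (Groth.Agent.Proet.ProfRing.PR g),
      RingHom.comp_assoc]
    rfl
  refine ⟨Groth.Agent.Proet.ProfRing.PR g, inferInstance, inferInstance,
    Module.FaithfullyFlat.trans A Aw _, hindP, hWP, ?_⟩
  have hproj : CompactT2.Projective
      (ConnectedComponents (PrimeSpectrum (Groth.Agent.Proet.ProfRing.PR g))) :=
    Groth.Agent.S0678.projective_of_retract hTproj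
      (Groth.Agent.Proet.ProfRing.pi0Homeo g).symm
      (Groth.Agent.Proet.ProfRing.pi0Homeo g).symm.continuous
      (Groth.Agent.Proet.ProfRing.pi0Homeo g) (Groth.Agent.Proet.ProfRing.pi0Homeo g).continuous
      (Groth.Agent.Proet.ProfRing.pi0Homeo g).symm_apply_apply
  exact hproj.extremallyDisconnected

end Groth.Agent.S0696
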