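import Groth.Statements.S0702
import Groth.Agent.S0701

set_option autoImplicit false
open CategoryTheory CategoryTheory.Limits AlgebraicGeometry Opposite Topology
universe u
open ProEtW

namespace Groth.Agent.S0702

/-- Stacks Tag 0978, case (2): let Spec A be profinite and A -> B induce algebraic extensions of residue fields at all primes. Then Spec B is profinite. -/
theorem result (A B : Type u) [CommRing A] [CommRing B]
    [Algebra A B] [T2Space (PrimeSpectrum A)] [TotallyDisconnectedSpace (PrimeSpectrum A)]
    (h : ProEtW.AlgebraicResidueExtensions A B) :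
    ProEtW.IsProfinite (PrimeSpectrum B) := by
  refine Groth.Agent.S0701.result A B ?_
  intro q q' hqq hle
  have halg := h q.asIdeal
  have hmax : (q.asIdeal.comap (algebraMap A B)).IsMaximal := by
    exact (PrimeSpectrum.isClosed_singleton_iff_isMaximal
      (PrimeSpectrum.comap (algebraMap A B) q)).1 isClosed_singleton
  have hq : q.asIdeal.IsMaximal := by
    let _ := Ideal.Quotient.field (q.asIdeal.comap (algebraMap A B))
    rw [Ideal.Quotient.maximal_ideal_iff_isField_quotient]
    have : Algebra.IsIntegral (A ⧸ q.asIdeal.comap (algebraMap A B)) (B ⧸ q.asIdeal) :=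
      Algebra.isAlgebraic_iff_isIntegral.1 halg
    exact isField_of_isIntegral_of_isField' (R := A ⧸ q.asIdeal.comap (algebraMap A B))
      (Field.toIsField _)
  exact PrimeSpectrum.ext (hq.eq_of_le q'.isPrime.ne_top hle)

end Groth.Agent.S0702
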