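import Groth.Statements.S0708
import Groth.Agent.Proet.LocZ
import Groth.Agent.Proet.EtaleLift
import Groth.Agent.Proet.EtaleLiftLoc

set_option autoImplicit false
open CategoryTheory CategoryTheory.Limits AlgebraicGeometry Opposite Topology
universe u
open ProEtW

namespace Groth.Agent.S0708

/-- Stacks Tag 097W: let A be a ring all of whose faithfully flat etale algebras have retractions, I an ideal with zero set Z, and B a localization of A at a multiplicative subset whose spectrum maps onto precisely the points of Spec A having a specialization in Z (the ring A_Z of Tag 096V). Then every faithfully flat etale B-algebra has a retraction. -/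
theorem result (A B : Type u) [CommRing A] [CommRing B]
    [Algebra A B] (S : Submonoid A) [IsLocalization S B] (I : Ideal A)
    (hB : Set.range (PrimeSpectrum.comap (algebraMap A B)) =
      {x | ∃ z : PrimeSpectrum A, z ∈ PrimeSpectrum.zeroLocus (R := A) I ∧ x ⤳ z})
    (hA : ProEtW.HasEtaleRetractions A) : ProEtW.HasEtaleRetractions B := by
  intro C' _ _ hff het
  obtain ⟨C, _, _, hC, ⟨e⟩⟩ :=
    Groth.Agent.Proet.EtaleLiftLoc.exists_etale_lift_of_isLocalization A B C' S
  have hIC : PrimeSpectrum.zeroLocus (I : Set A) ⊆ Set.range (PrimeSpectrum.comap (algebraMap A C)) := by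
    intro p hp
    have hp' : p ∈ Set.range (PrimeSpectrum.comap (algebraMap A B)) := by
      rw [hB]
      exact ⟨p, hp, specializes_rfl⟩
    obtain ⟨q, rfl⟩ := hp'
    obtain ⟨r, rfl⟩ := PrimeSpectrum.comap_surjective_of_faithfullyFlat (A := B) (B := C') q
    refine ⟨PrimeSpectrum.comap ((e : TensorProduct A B C →+* C').comp
      (Algebra.TensorProduct.includeRight : C →ₐ[A] TensorProduct A B C).toRingHom) r, ?_⟩
    rw [← PrimeSpectrum.comap_comp_apply, ← PrimeSpectrum.comap_comp_apply]
    have key : ((e : TensorProduct A B C →+* C').comp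
        (Algebra.TensorProduct.includeRight : C →ₐ[A] TensorProduct A B C).toRingHom).comp
          (algebraMap A C) = (algebraMap B C').comp (algebraMap A B) := by
      ext a
      simp only [RingHom.comp_apply, AlgHom.toRingHom_eq_coe, RingHom.coe_coe, AlgHom.commutes]
      rw [IsScalarTower.algebraMap_apply A B (TensorProduct A B C)]
      exact e.commutes _
    rw [key]
  obtain ⟨f, hf, h1, h2⟩ := Groth.Agent.Proet.EtaleLift.exists_faithfullyFlat_prod (B := C) I hIC
  obtain ⟨ρ⟩ := hA _ h2 h1
  obtain ⟨g⟩ := Groth.Agent.Proet.LocZ.exists_algHom_away (B := B) f C _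
    (fun m hm => Groth.Agent.Proet.LocZ.mem_maximal S _ hB f (fun z hz => hz hf) m hm) ρ
  exact ⟨(Algebra.TensorProduct.lift (AlgHom.id B B) g (fun _ _ => Commute.all _ _)).comp
    e.symm.toAlgHom⟩

end Groth.Agent.S0708
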