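import Groth.Statements.S0714
import Groth.Agent.Proet.WCExist
import Groth.Agent.S0177
import Groth.Agent.S0736

set_option autoImplicit false
open CategoryTheory CategoryTheory.Limits AlgebraicGeometry Opposite
universe u
open ProEtS

namespace Groth.Agent.S0714

/-- Stacks Tag 0F4P (for the small pro-etale site X_proet), second assertion: every object U of X_proet whose underlying scheme is quasi-compact admits a covering {V -> U} by a single object V which is affine and weakly contractible. -/
theorem result {X : Scheme.{u}} (U : X.ProEt)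
    [CompactSpace ↥U.left] :
    ∃ (V : X.ProEt) (g : V ⟶ U),
      Sieve.generate (Presieve.singleton g) ∈ Scheme.ProEt.topology X U ∧ IsAffine V.left ∧
        ProEtS.IsWC V := by
  have hwc : Groth.Agent.Proet.WCExist.HasWCCover.{u} := fun A _ => by
    obtain ⟨D, i1, i2, h1, h2, h3⟩ := Groth.Agent.S0177.result A
    exact ⟨D, i1, i2, h1, Groth.Agent.S0736.result A D h2, h3⟩
  obtain ⟨Us, hUs, hUf, hUc⟩ := U.left.isBasis_affineOpens.exists_finite_of_isCompact
    (U := ⊤) isCompact_univ
  have : Finite Us := hUf
  obtain ⟨V, g, h1, h2, h3⟩ := Groth.Agent.Proet.WCExist.exists_wc_cover_of_opens hwc U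
    (ι := Us) (fun T => T.1) (fun T => hUs T.2) (fun x => by
      have hx : x ∈ sSup Us := by rw [← hUc]; trivial
      obtain ⟨T, hT, hx⟩ := TopologicalSpace.Opens.mem_sSup.1 hx
      exact ⟨⟨T, hT⟩, hx⟩)
  exact ⟨V, g, h1, h2 this, h3⟩

end Groth.Agent.S0714
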