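import Groth.Statements.S0716
import Groth.Agent.Proet.EpsUnit
import Groth.Agent.Proet.EpsBasic

set_option autoImplicit false
open CategoryTheory CategoryTheory.Limits AlgebraicGeometry Opposite
universe u
open ProEtS

namespace Groth.Agent.S0716

/-- Stacks Tag 099U: on an affine scheme X, the pullback to X_proet of any injective abelian sheaf I of the small etale site has vanishing pro-etale cohomology in every positive degree p (assuming, as a binder, the continuity of X_et -> X_proet). -/
theorem result (X : Scheme.{u}) [IsAffine X] [ProEtS.EpsCont X]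
    (I : EtCoh.Ab X) [Injective I] (p : ℕ) (hp : 0 < p) :
    Subsingleton (ProEtS.HP X ((ProEtS.epsPull X).obj I) p) := by
  obtain ⟨q, rfl⟩ := Nat.exists_eq_succ_of_ne_zero hp.ne'
  have hB : Groth.Agent.Proet.BZero.B0 (ProEtS.topP X) :=
    Groth.Agent.Proet.BZero.B0.of_etale (V := ProEtS.topP X) (inferInstanceAs (IsAffine X))
      (inferInstanceAs (Etale (𝟙 X)))
  have h0 : ∀ x : Groth.Agent.Proet.ZU.HU ((ProEtS.epsPull X).obj I) (q + 1) (ProEtS.topP X),
      x = 0 := fun x => Groth.Agent.Proet.EpsUnit.ext_eq_zero I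
        (Groth.Agent.Proet.EpsUnit.etExact_of_injective I) hB q x
  let e := Groth.Agent.Proet.ZU.HTop (Groth.Agent.Proet.EpsBasic.topPIsTerminal X)
    ((ProEtS.epsPull X).obj I) (q + 1)
  refine ⟨fun a b => e.symm.injective ?_⟩
  rw [h0 (e.symm a), h0 (e.symm b)]

end Groth.Agent.S0716
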