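import Groth.Statements.S0718
import Groth.Agent.Proet.EpsAcyc
import Groth.Agent.Proet.EpsUnit
import Groth.Agent.S0717

set_option autoImplicit false
open CategoryTheory CategoryTheory.Limits AlgebraicGeometry Opposite
universe u
open ProEtS

namespace Groth.Agent.S0718

/-- Stacks Tag 099V, part (1), in positive degrees: for an abelian sheaf F on X_et and q > 0 we have R^q eps_* (eps^{-1} F) = 0 (assuming, as a binder, the continuity of X_et -> X_proet). -/
theorem result (X : Scheme.{u}) [ProEtS.EpsCont X] (F : EtCoh.Ab X) (q : ℕ)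
    (hq : 0 < q) : IsZero ((ProEtS.RepsPush X q).obj ((ProEtS.epsPull X).obj F)) := by
  obtain ⟨q, rfl⟩ := Nat.exists_eq_succ_of_ne_zero hq.ne'
  refine Groth.Agent.Proet.EpsAcyc.acyc_epsPull (X := X) ?_
    (fun F => Groth.Agent.S0717.result X F) F q
  intro I hI
  refine Groth.Agent.Proet.EpsAcyc.acyc_of_ext _ fun U hU q x => ?_
  exact Groth.Agent.Proet.EpsUnit.ext_eq_zero I
    (Groth.Agent.Proet.EpsUnit.etExact_of_injective I)
    (Groth.Agent.Proet.BZero.B0.of_etale (V := (ProEtS.eps X).obj U) hU U.prop) q x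

end Groth.Agent.S0718
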