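import Groth.Statements.S0719
import Groth.Agent.S0717
import Groth.Agent.S0718
import Groth.Agent.Proet.EpsBasic

set_option autoImplicit false
open CategoryTheory CategoryTheory.Limits AlgebraicGeometry Opposite
universe u
open ProEtS

namespace Groth.Agent.S0719

open Groth.Agent.Proet.EpsBasic

/-- Stacks Tag 099W, part (1): for an abelian sheaf F on X_et and every i, H^i(X_et, F) and H^i(X_proet, eps^{-1} F) are isomorphic (assuming, as a binder, the continuity of X_et -> X_proet). -/
theorem result (X : Scheme.{u}) [ProEtS.EpsCont X] (F : EtCoh.Ab X) (i : ℕ) :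
    Nonempty (EtCoh.H X F i ≃+ ProEtS.HP X ((ProEtS.epsPull X).obj F) i) := by
  have h1 := preservesFiniteLimits_epsPush X
  have h2 := Groth.Agent.S0717.result X F
  have e1 : EtCoh.H X F i ≃+ EtCoh.H X ((ProEtS.epsPush X).obj ((ProEtS.epsPull X).obj F)) i :=
    extPostcompIso _ (asIso ((ProEtS.epsAdj X).unit.app F)) i
  obtain ⟨e2⟩ := Groth.Agent.Etrest.RAcyc.nonempty_extAddEquiv (ProEtS.epsAdj X)
    (fun J hJ => injective_epsPush X J)
    (G := (ProEtS.epsPull X).obj F) (fun q hq => Groth.Agent.S0718.result X F q hq)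
    ((constantSheaf X.smallEtaleTopology AddCommGrpCat.{u + 1}).obj
      (AddCommGrpCat.of (ULift ℤ))) i
  exact ⟨(e1.trans e2).trans (extPrecompIso ((constEpsPullIso X).symm.app _) _ i)⟩


end Groth.Agent.S0719
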