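import Groth.Statements.S0721
import Groth.Agent.Proet.PushExact
import Groth.Agent.S0177
import Groth.Agent.S0736
import Groth.Agent.S0679

set_option autoImplicit false
open CategoryTheory CategoryTheory.Limits AlgebraicGeometry Opposite
universe u
open ProEtS

namespace Groth.Agent.S0721

/-- Stacks Tag 09A8: for f : Z -> X finite and locally of finite presentation, f_{proet,*} on abelian sheaves is exact (preserves finite limits and colimits; continuity of base change assumed as a binder). -/
theorem result {Z X : Scheme.{u}} (f : Z ⟶ X) [IsFinite f]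
    [LocallyOfFinitePresentation f] [ProEtS.PCont f] :
    PreservesFiniteLimits (ProEtS.pushP f) ∧ PreservesFiniteColimits (ProEtS.pushP f) := by
  have hwc : Groth.Agent.Proet.WCExist.HasWCCover.{u} := fun A _ => by
    obtain ⟨D, i1, i2, h1, h2, h3⟩ := Groth.Agent.S0177.result A
    exact ⟨D, i1, i2, h1, Groth.Agent.S0736.result A D h2, h3⟩
  refine Groth.Agent.Proet.PushExact.exact_pushP_of_affine hwc f fun W hW hWC => ?_
  let p : ((ProEtS.bcP f).obj W).left ⟶ W.left := pullback.fst W.hom f
  have h1 : IsFinite p := inferInstanceAs (IsFinite (pullback.fst W.hom f))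
  have h2 : LocallyOfFinitePresentation p :=
    inferInstanceAs (LocallyOfFinitePresentation (pullback.fst W.hom f))
  have h3 : IsAffine ((ProEtS.bcP f).obj W).left := isAffine_of_isAffineHom p
  have h4 : p.appTop.hom.Finite := p.finite_appTop
  have h5 : p.appTop.hom.FinitePresentation :=
    HasRingHomProperty.appTop @LocallyOfFinitePresentation p h2
  rw [← Groth.Agent.Proet.WC.isWContractible_iff_isWC]
  let _ : Algebra ↥(Γ(W.left, ⊤)) ↥(Γ(((ProEtS.bcP f).obj W).left, ⊤)) := p.appTop.hom.toAlgebra
  have h6 : Module.Finite ↥(Γ(W.left, ⊤)) ↥(Γ(((ProEtS.bcP f).obj W).left, ⊤)) := h4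
  have h7 : Algebra.FinitePresentation ↥(Γ(W.left, ⊤)) ↥(Γ(((ProEtS.bcP f).obj W).left, ⊤)) := h5
  exact Groth.Agent.S0679.result _ _ hWC

end Groth.Agent.S0721
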