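import Groth.Statements.S0722
import Groth.Agent.Proet.PushClosed
import Groth.Agent.S0177
import Groth.Agent.S0736

set_option autoImplicit false
open CategoryTheory CategoryTheory.Limits AlgebraicGeometry Opposite
universe u
open ProEtS

namespace Groth.Agent.S0722

/-- Stacks Tag 09BM: let i : Z -> X be a closed immersion such that the complement of i(Z) is a retrocompact open subset of X. Then i_{proet,*} on abelian sheaves is exact (continuity of base change assumed as a binder). -/
theorem result {Z X : Scheme.{u}} (i : Z ⟶ X)
    [IsClosedImmersion i] (hr : IsRetrocompact (Set.range i.base)ᶜ) [ProEtS.PCont i] :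
    PreservesFiniteLimits (ProEtS.pushP i) ∧ PreservesFiniteColimits (ProEtS.pushP i) := by
  have hwc : Groth.Agent.Proet.WCExist.HasWCCover.{u} := fun A _ => by
    obtain ⟨D, i1, i2, h1, h2, h3⟩ := Groth.Agent.S0177.result A
    exact ⟨D, i1, i2, h1, Groth.Agent.S0736.result A D h2, h3⟩
  refine Groth.Agent.Proet.PushExact.exact_pushP_of_affine hwc i fun W hW hWC => ?_
  let p : ((ProEtS.bcP i).obj W).left ⟶ W.left := pullback.fst W.hom i
  have h1 : IsClosedImmersion p := inferInstanceAs (IsClosedImmersion (pullback.fst W.hom i))
  have h3 : IsAffine ((ProEtS.bcP i).obj W).left := isAffine_of_isAffineHom p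
  rw [← Groth.Agent.Proet.WC.isWContractible_iff_isWC]
  refine Groth.Agent.Proet.PushClosed.isWContractible_of_closedImmersion p ?_ hWC
  have h4 : Set.range p = W.hom ⁻¹' (Set.range i.base) := Scheme.Pullback.range_fst W.hom i
  rw [h4, ← Set.preimage_compl]
  have h5 : CompactSpace ↥W.left := inferInstance
  exact Groth.Agent.Proet.PushClosed.isCompact_preimage (W := W.left) W.hom
    i.isClosedEmbedding.isClosed_range.isOpen_compl hr

end Groth.Agent.S0722
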