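import Groth.Statements.S0724
import Groth.Agent.Proet.EtColimP

set_option autoImplicit false
open CategoryTheory CategoryTheory.Limits AlgebraicGeometry Opposite
universe u
open ProEtS

namespace Groth.Agent.S0724

/-- Stacks Tag 09A3, applied to abelian sheaves (complexes in degree 0) and read on cohomology groups: for X quasi-compact and quasi-separated and every n, the functor F |-> H^n(X_proet, F) commutes with direct sums indexed by any small type. -/
theorem result (X : Scheme.{u}) [CompactSpace ↥X]
    [QuasiSeparatedSpace ↥X] (n : ℕ) (ι : Type u) :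
    PreservesColimitsOfShape (Discrete ι) (ProEtS.HPF X n) := by
  have hadd : (ProEtS.HPF X n).Additive :=
    inferInstanceAs ((Abelian.extFunctorObj ((constantSheaf (Scheme.ProEt.topology X) AddCommGrpCat.{u + 1}).obj
        (AddCommGrpCat.of (ULift.{u + 1} ℤ))) n).Additive)
  have h1 : HasExactColimitsOfShape (Finset (Discrete ι)) (ProEtS.AbP X) :=
    Proet.EtColimP.exact_small X _
  have h3 : PreservesColimitsOfShape (Finset (Discrete ι)) (forget AddCommGrpCat.{u + 1}) :=
    Etbase.EtColim.forget_small _
  have h2 : PreservesColimitsOfShape (Finset (Discrete ι)) (ProEtS.HPF X n) :=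
    Proet.EtColimP.preservesColimits_HPF X (Finset (Discrete ι)) n
  have h4 : PreservesFiniteCoproducts (ProEtS.HPF X n) := by
    have : PreservesFiniteBiproducts (ProEtS.HPF X n) := inferInstance
    infer_instance
  exact Proet.PresCoprod.preservesColimitsOfShape_discrete (ProEtS.HPF X n)

end Groth.Agent.S0724
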