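import Groth.Statements.S0726
import Groth.Agent.Proet.JointExact
import Groth.Agent.S0741

set_option autoImplicit false
open CategoryTheory CategoryTheory.Limits AlgebraicGeometry Opposite
universe u
open ProEtS

namespace Groth.Agent.S0726

theorem isIso_map_unit {A B : Type*} [Category A] [Category B] {L : A ⥤ B} {R : B ⥤ A} (adj : L ⊣ R)
    (X : A) (h : IsIso (adj.counit.app (L.obj X))) : IsIso (L.map (adj.unit.app X)) := by
  have e := adj.left_triangle_components X
  have h3 : IsIso (𝟙 (L.obj X)) := IsIso.id _
  rw [← e] at h3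
  exact IsIso.of_isIso_comp_right _ (adj.counit.app (L.obj X))

theorem isIso_map_counit {A B : Type*} [Category A] [Category B] {L : A ⥤ B} {R : B ⥤ A} (adj : L ⊣ R)
    (Y : B) (h : IsIso (adj.unit.app (R.obj Y))) : IsIso (R.map (adj.counit.app Y)) := by
  have e := adj.right_triangle_components Y
  have h3 : IsIso (𝟙 (R.obj Y)) := IsIso.id _
  rw [← e] at h3
  exact IsIso.of_isIso_comp_left (adj.unit.app (R.obj Y)) _

set_option backward.isDefEq.respectTransparency.types false in
/-- Stacks Tag 09AH: let i : Z -> X be a closed immersion and j : U -> X an open immersion with image the complement of i(Z), j quasi-compact. For every abelian sheaf F on X_proet the sequence 0 -> j_! j^{-1} F -> F -> i_* i^{-1} F -> 0 (counit of j_! -| j^{-1}, unit of i^{-1} -| i_*) is short exact (continuity of the site functors assumed as binders). -/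
theorem result {X Z U : Scheme.{u}} (i : Z ⟶ X) [IsClosedImmersion i]
    (j : U ⟶ X) [IsOpenImmersion j] [QuasiCompact j]
    (hc : Set.range j.base = (Set.range i.base)ᶜ) [ProEtS.JPCont j] [ProEtS.PCont i]
    (F : ProEtS.AbP X) :
    ∃ h : (ProEtS.extZeroPAdj j).counit.app F ≫ (ProEtS.pullPushAdjP i).unit.app F = 0,
      (ShortComplex.mk _ _ h).ShortExact := by
  have hdis : Disjoint (Set.range j) (Set.range i) := by
    rw [show Set.range j = (Set.range i)ᶜ from hc]
    exact disjoint_compl_left
  have hz : ∀ (A : ProEtS.AbP U) (B : ProEtS.AbP Z)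
      (f : (ProEtS.extZeroP j).obj A ⟶ (ProEtS.pushP i).obj B), f = 0 := by
    intro A B f
    apply ((ProEtS.extZeroPAdj j).homEquiv _ _).injective
    exact (Proet.SuppZ2.isZero_restr_push j i hdis _).eq_of_tgt _ _
  refine ⟨hz _ _ _, ?_⟩
  have := Proet.JointExact.preservesHomology_pullP i
  have := Proet.JointExact.preservesHomology_restrP j
  refine Proet.JointExact.shortExact_of_jointly (ProEtS.pullP i) (ProEtS.restrP j)
    (fun G => Proet.JointCons.isZero_of_pull_of_restr i j hc G) _ ?_ ?_
  · apply Proet.JointExact.shortExact_of_isIso_g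
    · exact isIso_map_unit (ProEtS.pullPushAdjP i) F (S0741.result i ((ProEtS.pullP i).obj F))
    · exact Proet.SuppZ2.isZero_pull_extZero j i hdis _
  · apply Proet.JointExact.shortExact_of_isIso_f
    · have h2 : IsIso (ProEtS.extZeroPAdj j).unit := Proet.RestrPush.isIso_unit_extZeroPAdj j
      exact isIso_map_counit (ProEtS.extZeroPAdj j) F inferInstance
    · exact Proet.SuppZ2.isZero_restr_push j i hdis _

end Groth.Agent.S0726
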