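import Groth.Statements.S0729
import Groth.Agent.Proet.Cont

set_option autoImplicit false
open CategoryTheory CategoryTheory.Limits AlgebraicGeometry Opposite
universe u
open ProEtS

namespace Groth.Agent.S0729

/-- Stacks Tag 098B (etale coverings are pro-etale coverings), in the form used to define the comparison morphism of sites eps : X_proet -> X_et: the inclusion functor from the small etale site to the small pro-etale site is continuous. -/
theorem result (X : Scheme.{u}) : ProEtS.EpsCont X := by
  exact Groth.Agent.Proet.Cont.epsCont X

end Groth.Agent.S0729
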