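import Groth.Statements.S0730
import Groth.Agent.Proet.Cont

set_option autoImplicit false
open CategoryTheory CategoryTheory.Limits AlgebraicGeometry Opposite
universe u
open ProEtS

namespace Groth.Agent.S0730

/-- Stacks Tag 098C, part (3) (base changes of pro-etale coverings are pro-etale coverings), in the form used to define the morphism of sites f_proet : X_proet -> Y_proet: the base change functor from the small pro-etale site of Y to that of X is continuous. -/
theorem result {X Y : Scheme.{u}} (f : X ⟶ Y) : ProEtS.PCont f := by
  exact Groth.Agent.Proet.Cont.pCont f

end Groth.Agent.S0730
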