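import Groth.Statements.S0740
import Groth.Agent.Proet.ClosedImm3

set_option autoImplicit false
open CategoryTheory CategoryTheory.Limits AlgebraicGeometry Opposite
universe u
open ProEtS

namespace Groth.Agent.S0740

/-- Stacks Tag 09AA, part (1), for abelian sheaves: for a closed immersion i : Z -> X the functor i^{-1} on abelian pro-etale sheaves commutes with (small) limits (continuity of base change assumed as a binder). -/
theorem result {Z X : Scheme.{u}} (i : Z ⟶ X) [IsClosedImmersion i]
    [ProEtS.PCont i] (J : Type u) [SmallCategory J] :
    PreservesLimitsOfShape J (ProEtS.pullP i) := by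
  have h : (ProEtS.pullP i).IsRightAdjoint :=
    Groth.Agent.Proet.PartialAdj.isRightAdjoint_sheafPullback
      (Groth.Agent.Proet.ClosedImm.good_bcP i)
  infer_instance

end Groth.Agent.S0740
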