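import Groth.Statements.S0731
import Groth.Agent.Proet.KernelLim
import Groth.Agent.S0740
import Groth.Agent.S0726

set_option autoImplicit false
open CategoryTheory CategoryTheory.Limits AlgebraicGeometry Opposite
universe u
open ProEtS

namespace Groth.Agent.S0731

set_option backward.isDefEq.respectTransparency.types false in
/-- Stacks Tag 09BP: for a quasi-compact open immersion j : U -> X the functor j_! on abelian pro-etale sheaves commutes with (small) limits (continuity of the site functor of j assumed as a binder). -/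
theorem result {U X : Scheme.{u}} (j : U ⟶ X)
    [IsOpenImmersion j] [QuasiCompact j] [ProEtS.JPCont j] (J : Type u) [SmallCategory J] :
    PreservesLimitsOfShape J (ProEtS.extZeroP j) := by
  obtain ⟨Z, i, hi, hr⟩ := Proet.KernelLim.exists_closedImmersion X (Set.range j)ᶜ
    (isClosed_compl_iff.2 j.isOpenEmbedding.isOpen_range)
  have hc : Set.range j.base = (Set.range i.base)ᶜ := by
    change Set.range j = (Set.range i)ᶜ
    rw [hr, compl_compl]
  have := Proet.Cont.pCont i
  have := Proet.Cont.pCont j
  let α : ProEtS.pushP j ⋙ ProEtS.restrP j ⋙ ProEtS.extZeroP j ⟶ ProEtS.pushP j :=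
    Functor.whiskerLeft (ProEtS.pushP j) (ProEtS.extZeroPAdj j).counit
  let β : ProEtS.pushP j ⟶ ProEtS.pushP j ⋙ ProEtS.pullP i ⋙ ProEtS.pushP i :=
    Functor.whiskerLeft (ProEtS.pushP j) (ProEtS.pullPushAdjP i).unit
  have hS := fun F : ProEtS.AbP U => S0726.result i j hc ((ProEtS.pushP j).obj F)
  have p1 : PreservesLimitsOfShape J (ProEtS.pushP j) := by
    have : PreservesLimitsOfSize.{u, u} (ProEtS.pushP j) := (ProEtS.pullPushAdjP j).rightAdjoint_preservesLimits
    infer_instance
  have p2 : PreservesLimitsOfShape J (ProEtS.pushP i) := by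
    have : PreservesLimitsOfSize.{u, u} (ProEtS.pushP i) := (ProEtS.pullPushAdjP i).rightAdjoint_preservesLimits
    infer_instance
  have p3 : PreservesLimitsOfShape J (ProEtS.pullP i) := S0740.result i J
  have p4 : PreservesLimitsOfShape J (ProEtS.pushP j ⋙ ProEtS.pullP i ⋙ ProEtS.pushP i) :=
    inferInstance
  have p5 : PreservesLimitsOfShape J (ProEtS.pushP j ⋙ ProEtS.restrP j ⋙ ProEtS.extZeroP j) :=
    Proet.KernelLim.preservesLimitsOfShape_of_kernel α β (fun F => (hS F).choose)
      (fun F => ⟨by
        have h := (hS F).choose_spec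
        have := h.mono_f
        exact h.exact.fIsKernel⟩) J
  let e : ProEtS.pushP j ⋙ ProEtS.restrP j ⋙ ProEtS.extZeroP j ≅ ProEtS.extZeroP j :=
    (Functor.associator _ _ _).symm ≪≫
      Functor.isoWhiskerRight (asIso (Proet.RestrPush.restrPushAdj j).counit) (ProEtS.extZeroP j) ≪≫
      Functor.leftUnitor _
  exact preservesLimitsOfShape_of_natIso e

end Groth.Agent.S0731
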