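import Groth.Statements.S0733
import Groth.Agent.Proet.IndEtale

set_option autoImplicit false
open CategoryTheory CategoryTheory.Limits AlgebraicGeometry Opposite Topology
universe u
open scoped TensorProduct
open ProEtW

namespace Groth.Agent.S0733

/-- Stacks Tag 097J: if A -> B is ind-etale (a filtered colimit of etale A-algebras) and A -> A' is any ring map, then A' -> A' (x)_A B is ind-etale. -/
theorem result (A B A' : Type u) [CommRing A] [CommRing B] [CommRing A']
    [Algebra A B] [Algebra A A'] (h : EtPBC.IsIndEtale A B) :
    EtPBC.IsIndEtale A' (A' ⊗[A] B) :=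
  Proet.IndEtale.isIndEtale_baseChange A B A' h

end Groth.Agent.S0733
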