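import Groth.Statements.S0739
import Groth.Agent.Proet.WEtaleScheme

set_option autoImplicit false
open CategoryTheory CategoryTheory.Limits AlgebraicGeometry Opposite
universe u
open ProEtS

namespace Groth.Agent.S0739

set_option backward.isDefEq.respectTransparency.types false in
/-- Stacks Tag 0F6C (for the small pro-etale site): let U be an object of X_proet, R a covering sieve on U, and xi : Spec k -> U a geometric point (k separably closed). Then there is a morphism V -> U in R and a geometric point of V with the same field mapping to xi. -/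
theorem result {X : Scheme.{u}} (U : X.ProEt) (R : Sieve U)
    (hR : R ∈ Scheme.ProEt.topology X U) {k : Type u} [Field k] [IsSepClosed k]
    (ξ : Spec (CommRingCat.of k) ⟶ U.left) :
    ∃ (V : X.ProEt) (g : V ⟶ U) (ξ' : Spec (CommRingCat.of k) ⟶ V.left), R g ∧ ξ' ≫ g.left = ξ := by
  obtain ⟨P, hP, hle⟩ := (Proet.Cont.mem_topology_iff R).1 hR
  obtain ⟨ι, V, g, rfl⟩ := P.exists_eq_ofArrows
  rw [Proet.Cont.ofArrows_mem_precoverage_iff] at hP
  have hP' : _ ∈ (Scheme.precoverage @WeaklyEtale).coverings _ := hP.2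
  rw [Scheme.ofArrows_mem_precoverage_iff] at hP'
  obtain ⟨p⟩ : Nonempty ↥(Spec (CommRingCat.of k)) := inferInstance
  obtain ⟨i, v, hv⟩ := hP'.1 (ξ p)
  have : WeaklyEtale (g i).left := hP'.2 i
  obtain ⟨ξ', h'⟩ := Proet.WEtaleScheme.exists_lift_geometricPoint (g i).left ξ v p hv
  exact ⟨V i, g i, ξ', hle _ _ ⟨i⟩, h'⟩

end Groth.Agent.S0739
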