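import Groth.Statements.S0743

set_option autoImplicit false
open CategoryTheory CategoryTheory.Limits AlgebraicGeometry Opposite
universe u
open ProEtS

namespace Groth.Agent.S0743

/-- The square of site functors commutes. -/
theorem eps_comp_eq {U X : Scheme.{u}} (j : U ⟶ X) [Etale j] :
    EtShriek.compEtale j ⋙ ProEtS.eps X = ProEtS.eps U ⋙ ProEtS.compP j := rfl

/-- Stacks Tag 09AF: for an etale morphism j : U -> X and an abelian sheaf G on U_et, eps^{-1} (j_! G) and j_! (eps^{-1} G) are isomorphic as abelian sheaves on X_proet (existence of an isomorphism; continuity binders assumed). -/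
theorem result {U X : Scheme.{u}} (j : U ⟶ X) [Etale j] [EtShriek.JCont j]
    [ProEtS.JPCont j] [ProEtS.EpsCont U] [ProEtS.EpsCont X] (G : EtCoh.Ab U) :
    Nonempty ((ProEtS.epsPull X).obj ((EtShriek.extZero j).obj G) ≅
      (ProEtS.extZeroP j).obj ((ProEtS.epsPull U).obj G)) := by
  have adj₁ : EtShriek.extZero j ⋙ ProEtS.epsPull X ⊣ ProEtS.epsPush X ⋙ EtShriek.restrAlong j :=
    (EtShriek.extZeroAdj j).comp (ProEtS.epsAdj X)
  have adj₂ : ProEtS.epsPull U ⋙ ProEtS.extZeroP j ⊣ ProEtS.restrP j ⋙ ProEtS.epsPush U :=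
    (ProEtS.epsAdj U).comp (ProEtS.extZeroPAdj j)
  have e : ProEtS.epsPush X ⋙ EtShriek.restrAlong j ≅ ProEtS.restrP j ⋙ ProEtS.epsPush U :=
    Iso.refl _
  exact ⟨((adj₁.ofNatIsoRight e).leftAdjointUniq adj₂).app G⟩

end Groth.Agent.S0743
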