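import Groth.Statements.S0748
import Groth.Agent.S0747
import Groth.Agent.Etrest.FppfExact

set_option autoImplicit false
open CategoryTheory CategoryTheory.Limits AlgebraicGeometry Opposite
universe u
open EtFppf

namespace Groth.Agent.S0748

/-- Stacks Tag 0DDU, part (1): for an abelian sheaf F on X_et and every q, H^q(X_et, F) and H^q_fppf(X, a^{-1} F) are isomorphic (continuity binder assumed). -/
theorem result (X : Scheme.{u}) [EtFppf.ACont X] (F : EtCoh.Ab X) (q : ℕ) :
    Nonempty (EtCoh.H X F q ≃+ EtFppf.HF X ((EtFppf.aPull X).obj F) q) := by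
  obtain ⟨hu, hR⟩ := Groth.Agent.S0747.result X F
  obtain ⟨e⟩ := Groth.Agent.Etrest.RAcyc.nonempty_extAddEquiv (EtFppf.aAdj X)
    (Groth.Agent.Etrest.FppfExact.aPush_injective X) (G := (EtFppf.aPull X).obj F) hR
    ((constantSheaf X.smallEtaleTopology AddCommGrpCat.{u + 1}).obj (AddCommGrpCat.of (ULift ℤ))) q
  have e1 : EtCoh.H X F q ≃+ EtCoh.H X ((EtFppf.aPush X).obj ((EtFppf.aPull X).obj F)) q :=
    ((Abelian.extFunctorObj _ q).mapIso (@asIso _ _ _ _ _ hu)).addCommGroupIsoToAddEquiv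
  have e2 : Abelian.Ext ((EtFppf.aPull X).obj ((constantSheaf X.smallEtaleTopology AddCommGrpCat.{u + 1}).obj
      (AddCommGrpCat.of (ULift ℤ)))) ((EtFppf.aPull X).obj F) q ≃+ EtFppf.HF X ((EtFppf.aPull X).obj F) q :=
    (((Abelian.extFunctor q).mapIso
      (Groth.Agent.Etrest.FppfExact.constIso X (AddCommGrpCat.of (ULift ℤ))).symm.op).app
        ((EtFppf.aPull X).obj F)).addCommGroupIsoToAddEquiv
  exact ⟨e1.trans (e.trans e2)⟩

end Groth.Agent.S0748
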