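import Groth.Statements.S0749
import Groth.Agent.Etrest.Punct
import Groth.Agent.Etrest.Site0
import Groth.Agent.CohtopB.TestSysSheaf
import Groth.Agent.CohtopA.DerProd
import Groth.Agent.Sga4h.BidGlobFin

set_option autoImplicit false
open CategoryTheory CategoryTheory.Limits AlgebraicGeometry Opposite
open scoped TensorProduct
universe u
attribute [local instance] HasDerivedCategory.standard
open EtRest

namespace Groth.Agent.S0749

open Groth.Agent.CohtopB Groth.Agent.CurvesA.PushAcyclic

/-- Quasi-compact etale schemes form a basis. -/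
theorem gen_mem (X : Scheme.{u}) (U : X.Etale) :
    TestSys.gen (⊤ : Sieve U) (fun V => CompactSpace V.left) ∈ X.smallEtaleTopology U := by
  rw [Etrest.Site0.mem_iff]
  intro x
  obtain ⟨W, hW, hxW, -⟩ := exists_isAffineOpen_mem_and_subset
    (x := x) (U := (⊤ : U.left.Opens)) trivial
  exact ⟨CurvesA.SkyPoint.openSub U W, CurvesA.SkyPoint.openSubι U W,
    ⟨_, 𝟙 _, _, Category.id_comp _, trivial, isCompact_iff_compactSpace.1 hW.isCompact⟩, ⟨x, hxW⟩, rfl⟩

/-- Stacks Tag 0F1G: let K be a separably closed field, X of finite type over K and Q an object of D(X_et) whose cohomology sheaves have zero stalks at every geometric point lying over a non-closed point of X. Then Q = 0 if and only if H^i(X, Q) = Hom(Z, Q[i]) vanishes for all integers i. -/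
theorem result {K : Type u} [Field K] [IsSepClosed K]
    {X : Scheme.{u}} (a : X ⟶ Spec (CommRingCat.of K)) [LocallyOfFiniteType a] [QuasiCompact a]
    (Q : DCoh.DEt X)
    (hQ : ∀ (x : ↥X), ¬ IsClosed ({x} : Set ↥X) → ∀ (Ω : Type u) [Field Ω] [IsSepClosed Ω]
      (ξ : Spec (CommRingCat.of Ω) ⟶ X), Set.range ξ.base = {x} →
        ∀ i : ℤ, IsZero ((EtCoh.stalk ξ).obj (DCoh.HDEt Q i))) :
    IsZero Q ↔ ∀ i : ℤ, Subsingleton
      ((DerivedCategory.singleFunctor (EtCoh.Ab X) 0).obj (EtCoh.const X ℤ) ⟶ (shiftFunctor (DCoh.DEt X) i).obj Q) := by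
  constructor
  · intro h i
    have h1 : IsZero ((shiftFunctor (DCoh.DEt X) i).obj Q) := Functor.map_isZero _ h
    exact ⟨fun f g => h1.eq_of_tgt f g⟩
  · intro h
    have hF : ∀ (q : ℤ), ∀ x ∈ EtPBC.supp (DCoh.HDEt Q q), IsClosed ({x} : Set X) := by
      intro q x hx
      by_contra hc
      obtain ⟨Ω, _, _, ξ, h1, h2⟩ := hx
      exact h2 (hQ x hc Ω ξ h1 q)
    have : HasLimitsOfShape (Discrete ℕ) (DerivedCategory (EtCoh.Ab X)) :=
      CohtopA.DerProd.hasLimitsOfShape_discrete (EtCoh.Ab X) ℕ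
    have hcpt : CompactSpace X := QuasiCompact.compactSpace_of_compactSpace a
    refine Sga4h.BidGlobFin.isZero_of_homology Q fun q => ?_
    refine Etrest.Punct.isZero_of_sections a (DCoh.HDEt Q q) (hF q) fun f => ?_
    have hb := TestSys.can_bijective (TestSystem.zu.{u + 1} X.smallEtaleTopology) Q
      (fun V => CompactSpace V.left) (gen_mem X)
      (fun U hU p q => Etrest.Punct.subsingleton_ext a _ (hF q) U hU (p + 1) (Nat.succ_pos p))
      (EtCoh.top X) hcpt q
    let e := CurvesA.SiteZU.constIso.{u + 1} X.smallEtaleTopology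
      (Groth.Agent.Etbase.ExactSections.topIsTerminal X)
    have h1 : Subsingleton ((DerivedCategory.singleFunctor (EtCoh.Ab X) 0).obj
        ((Z X).obj (EtCoh.top X)) ⟶ (shiftFunctor (DCoh.DEt X) q).obj Q) := by
      have := h q
      refine ⟨fun f g => ?_⟩
      rw [← cancel_epi ((DerivedCategory.singleFunctor (EtCoh.Ab X) 0).map e.inv)]
      exact Subsingleton.elim (α := (DerivedCategory.singleFunctor (EtCoh.Ab X) 0).obj
        (EtCoh.const X ℤ) ⟶ (shiftFunctor (DCoh.DEt X) q).obj Q) _ _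
    obtain ⟨f', hf'⟩ := hb.2 f
    obtain ⟨g', hg'⟩ := hb.2 0
    rw [← hf', ← hg', Subsingleton.elim f' g']

end Groth.Agent.S0749
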