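import Groth.Statements.S0755
import Groth.Agent.Proet.IndEtaleLift

set_option autoImplicit false
open CategoryTheory CategoryTheory.Limits AlgebraicGeometry Opposite Topology
universe u
open ProEtW

namespace Groth.Agent.S0755

/-- Stacks Tag 097P, final assertion: let I be an ideal of a ring A. For every ind-etale (A/I)-algebra Cbar there is an ind-etale A-algebra C with C/IC isomorphic to Cbar as (A/I)-algebras. -/
theorem result (A : Type u) [CommRing A] (I : Ideal A) (Cb : Type u)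
    [CommRing Cb] [Algebra (A ⧸ I) Cb] (h : EtPBC.IsIndEtale (A ⧸ I) Cb) :
    ∃ (C : Type u) (_ : CommRing C) (_ : Algebra A C),
      EtPBC.IsIndEtale A C ∧ Nonempty ((C ⧸ I.map (algebraMap A C)) ≃ₐ[A ⧸ I] Cb) := by
  let : Algebra A Cb := ((algebraMap (A ⧸ I) Cb).comp (algebraMap A (A ⧸ I))).toAlgebra
  have : IsScalarTower A (A ⧸ I) Cb := IsScalarTower.of_algebraMap_eq' rfl
  obtain ⟨C, _, _, π, hC, hπ, hk, -⟩ := Proet.IndEtaleLift.exists_indEtale_lift (A := A) (R := A ⧸ I) (Cb := Cb)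
    Ideal.Quotient.mk_surjective h
  have hk' : RingHom.ker π = I.map (algebraMap A C) := by
    rw [hk]
    congr 1
    exact Ideal.mk_ker
  refine ⟨C, _, _, hC, ⟨?_⟩⟩
  let e1 : (C ⧸ RingHom.ker π) ≃+* Cb := RingHom.quotientKerEquivOfSurjective (f := π.toRingHom) hπ
  let e2 : (C ⧸ I.map (algebraMap A C)) ≃+* (C ⧸ RingHom.ker π) := Ideal.quotEquivOfEq hk'.symm
  refine AlgEquiv.ofRingEquiv (f := e2.trans e1) ?_
  intro r
  obtain ⟨a, rfl⟩ := Ideal.Quotient.mk_surjective r
  exact π.commutes a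

end Groth.Agent.S0755
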