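import Groth.Statements.S0758
import Groth.Agent.S0176
import Groth.Agent.Etrest.IndEtLim

set_option autoImplicit false
open CategoryTheory CategoryTheory.Limits AlgebraicGeometry Opposite
open scoped TensorProduct
universe u
open EtModW

namespace Groth.Agent.S0758

open Groth.Agent.Etrest Groth.Agent.Etrest.LCMod Groth.Agent.Etrest.EpsLoc Groth.Agent.Etrest.LCHom
  Groth.Agent.Etrest.Frame Groth.Agent.Etrest.ProLim Groth.Agent.Etrest.FrameLim
  Groth.Agent.Etrest.IndEtLim Groth.Agent.Proet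

section

variable {Λ : Type (u + 1)} [CommRing Λ] {X : Scheme.{u}} {G : EtModW.ModP Λ X}
  {M : Type (u + 1)} [AddCommGroup M] [Module Λ M]

/-- A trivialization gives a frame. -/
theorem exists_frame_of_iso [Module.Finite Λ M] {S : X.ProEt} (e : G.over S ≅ LCP Λ S M) :
    ∃ a : ModuleCat.of Λ M ⟶ G.obj.obj (op S), IsIso (ev G a) := by
  obtain ⟨a, ha⟩ := coord_surjective (M := M) e (𝟙 S) (LocallyConstant.const _ LinearMap.id)
  refine ⟨a, (isIso_ev_iff e (𝟙 S) a).2 fun y => ?_⟩
  rw [ha]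
  exact Function.bijective_id

/-- A frame gives a trivialization. -/
theorem nonempty_iso_const {Y : X.ProEt} (b : ModuleCat.of Λ M ⟶ G.obj.obj (op Y))
    (hb : IsIso (ev G b)) : Nonempty (G.over Y ≅
      (constantSheaf ((Scheme.ProEt.topology X).over Y) (ModuleCat.{u + 1} Λ)).obj
        (ModuleCat.of Λ M)) :=
  ⟨(asIso (ev G b)).symm ≪≫ (constPIso Λ M Y).symm⟩

/-- Trivializations restrict. -/
theorem nonempty_iso_restrict {S Y : X.ProEt} (g : Y ⟶ S) (h : Nonempty (G.over S ≅
      (constantSheaf ((Scheme.ProEt.topology X).over S) (ModuleCat.{u + 1} Λ)).obj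
        (ModuleCat.of Λ M))) : Nonempty (G.over Y ≅ LCP Λ Y M) := by
  obtain ⟨e⟩ := h
  exact ⟨((Scheme.ProEt.topology X).overMapPullback (ModuleCat.{u + 1} Λ) g).mapIso
    (e ≪≫ constPIso Λ M S)⟩

/-- Refinement of weakly etale affine morphisms by ind-etale algebras. -/
theorem exists_indEtale_refinement (A : CommRingCat.{u}) {S : Scheme.{u}} [IsAffine S]
    (f : S ⟶ Spec A) [WeaklyEtale f] :
    ∃ (J : Type u) (_ : SmallCategory J) (_ : IsFiltered J) (D : J ⥤ Under A) (c : Cocone D)
      (_ : IsColimit c) (g : Spec c.pt.right ⟶ S), (∀ j, Etale (Spec.map (D.obj j).hom)) ∧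
      WeaklyEtale (Spec.map c.pt.hom) ∧ g ≫ f = Spec.map c.pt.hom ∧ Function.Surjective g := by
  let φ : A ⟶ Γ(S, ⊤) := Spec.preimage (S.isoSpec.inv ≫ f)
  have hφ : Spec.map φ = S.isoSpec.inv ≫ f := Spec.map_preimage _
  have hw : WeaklyEtale (Spec.map φ) := by rw [hφ]; infer_instance
  rw [WEtaleScheme.weaklyEtale_Spec_map_iff] at hw
  let := φ.hom.toAlgebra
  have : Algebra.WeaklyEtale A Γ(S, ⊤) := hw
  obtain ⟨B', _, _, _, _, hff, -, hind⟩ := Groth.Agent.S0176.result A Γ(S, ⊤)
  have hwB := IndFlat.weaklyEtale_of_isIndEtale A B' hind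
  obtain ⟨J, _, _, D, c, hc, hD, ⟨e⟩⟩ := hind
  have hwB' : WeaklyEtale (Spec.map (CommRingCat.ofHom (algebraMap A B'))) :=
    (WEtaleScheme.weaklyEtale_Spec_iff A B').2 hwB
  have h1 : (CommRingCat.ofHom (algebraMap A B')) ≫ e.inv.right = c.pt.hom := Under.w e.inv
  have h2 : φ ≫ CommRingCat.ofHom (algebraMap Γ(S, ⊤) B') = CommRingCat.ofHom (algebraMap A B') := by
    ext x
    exact (IsScalarTower.algebraMap_apply A Γ(S, ⊤) B' x).symm
  have he : IsIso e.inv.right := inferInstanceAs (IsIso ((Under.forget _).map e.inv))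
  refine ⟨J, _, inferInstance, D, c, hc, Spec.map e.inv.right ≫
    Spec.map (CommRingCat.ofHom (algebraMap Γ(S, ⊤) B')) ≫ S.isoSpec.inv, fun j => ?_, ?_, ?_, ?_⟩
  · rw [HasRingHomProperty.Spec_iff (P := @Etale)]
    exact hD j
  · rw [← h1, Spec.map_comp]
    infer_instance
  · rw [Category.assoc, Category.assoc, ← hφ, ← Spec.map_comp, h2, ← Spec.map_comp, h1]
  · have : Surjective (Spec.map (CommRingCat.ofHom (algebraMap Γ(S, ⊤) B'))) :=
      ⟨PrimeSpectrum.comap_surjective_of_faithfullyFlat⟩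
    exact (inferInstance : Surjective (Spec.map e.inv.right ≫
      Spec.map (CommRingCat.ofHom (algebraMap Γ(S, ⊤) B')) ≫ S.isoSpec.inv)).surj

/-- A locally constant sheaf of modules of finite presentation on the pro-etale site is constant on an etale
neighbourhood of every point. -/
theorem exists_etale (G : EtModW.ModP Λ X) (hG : EtModW.IsFPLocConstP Λ G) (x : X) :
    ∃ V : X.Etale, (∃ v : V.left, V.hom v = x) ∧ ∃ (M : Type (u + 1)) (_ : AddCommGroup M)
      (_ : Module Λ M) (_ : Module.FinitePresentation Λ M),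
      Nonempty (G.over ((ProEtS.eps X).obj V) ≅
        (constantSheaf ((Scheme.ProEt.topology X).over ((ProEtS.eps X).obj V))
          (ModuleCat.{u + 1} Λ)).obj (ModuleCat.of Λ M)) := by
  obtain ⟨ι, U, hU, hM⟩ := hG
  obtain ⟨W, hW, hxW, -⟩ := exists_isAffineOpen_mem_and_subset (x := x) (U := ⊤) trivial
  let h : Spec Γ(X, W) ⟶ X := hW.fromSpec
  let T : X.ProEt := Scheme.ProEt.mk h
  have hT : IsAffine T.left := inferInstanceAs (IsAffine (Spec _))
  have hTc : CompactSpace T.left := inferInstance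
  let t : T ⟶ ProEtS.topP X := MorphismProperty.Over.homMk T.hom
  obtain ⟨n, S, f, hS, hsurj, hfac⟩ := CoverFin.exists_finite_affine_refinement
    ((Scheme.ProEt.topology X).pullback_stable t hU)
  have hcov : Sieve.ofArrows S f ∈ Scheme.ProEt.topology X T :=
    CoverFin.sieve_mem_of_finite S f (fun i => inferInstance) hsurj
  have hN : ∀ j, ∃ (M : Type (u + 1)) (_ : AddCommGroup M)
      (_ : Module Λ M) (_ : Module.FinitePresentation Λ M), Nonempty (G.over (S j) ≅ LCP Λ (S j) M) := by
    intro j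
    obtain ⟨_, k, _, ⟨i⟩, hk⟩ := hfac j
    obtain ⟨M, h1, h2, h3, h4⟩ := hM i
    exact ⟨M, h1, h2, h3, nonempty_iso_restrict k h4⟩
  choose N hN1 hN2 hN3 hN4 using hN
  have e := fun j => (hN4 j).some
  obtain ⟨y, hy⟩ : ∃ y : Spec Γ(X, W), h y = x := by
    have : x ∈ Set.range hW.fromSpec := by rw [hW.range_fromSpec]; exact hxW
    exact this
  obtain ⟨j, s, hs⟩ := hsurj y
  have hSj : IsAffine (S j).left := hS j
  obtain ⟨J, _, _, D, c, hc, g, hD, hwc, hg, hgs⟩ :=
    @exists_indEtale_refinement Γ(X, W) (S j).left (hS j) (f j).left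
      (CoverFin.weaklyEtale_left (f j))
  obtain ⟨w, hw⟩ := hgs s
  have hD' : ∀ j, WeaklyEtale (Spec.map (D.obj j).hom) := fun j => by
    have := hD j
    infer_instance
  obtain ⟨a, ha⟩ := exists_frame_of_iso (e j)
  let γ : (specCone h D hD' c hwc).pt ⟶ S j := MorphismProperty.Over.homMk g (by
    change g ≫ (S j).hom = Spec.map c.pt.hom ≫ h
    have hw : (f j).left ≫ h = (S j).hom := Over.w (f j).hom
    rw [← hw, ← Category.assoc]
    exact congrArg (· ≫ h) hg)
  obtain ⟨i, b, hb⟩ := exists_frame S f hcov N e (specD h D hD') (specCone h D hD' c hwc)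
    (adm_specCone h D hD' c hwc hc) (fun i => specP h _ (hD' i.unop))
    (fun i j φ => specMap_P h _ _ _) (a ≫ G.obj.map γ.op) (isIso_ev_map G γ a ha)
  have hDi := hD i.unop
  have hhe : Etale h := inferInstance
  refine ⟨MorphismProperty.Over.mk ⊤ (Spec.map (D.obj i.unop).hom ≫ h)
    (show Etale _ from inferInstance), ?_, N j, hN1 j, hN2 j, hN3 j, nonempty_iso_const b hb⟩
  refine ⟨Spec.map (c.ι.app i.unop).right w, ?_⟩
  change (Spec.map (D.obj i.unop).hom ≫ h) (Spec.map (c.ι.app i.unop).right w) = x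
  rw [← Scheme.Hom.comp_apply, ← Category.assoc, ← Spec.map_comp, Under.w, Scheme.Hom.comp_apply,
    ← hy, ← hs, ← hw]
  change h (Spec.map c.pt.hom w) = h ((f j).left (g w))
  rw [← hg]
  rfl

end

/-- Stacks Tag 099Y: for a ring L (in the value universe) the functor eps^{-1} sends locally constant sheaves of L-modules of finite presentation on X_et to such sheaves on X_proet, and every locally constant sheaf of L-modules of finite presentation on X_proet is isomorphic to eps^{-1} of one on X_et (so eps^{-1}, which is fully faithful, is an equivalence between these categories; continuity of the comparison functor assumed as a binder). -/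
theorem result (X : Scheme.{u}) [ProEtS.EpsCont X]
    (Λ : Type (u + 1)) [CommRing Λ] :
    (∀ F : EtModW.Mod Λ X, EtModW.IsFPLocConst Λ F →
      EtModW.IsFPLocConstP Λ ((EtModW.epsPullMod Λ X).obj F)) ∧
    ∀ G : EtModW.ModP Λ X, EtModW.IsFPLocConstP Λ G →
      ∃ F : EtModW.Mod Λ X, EtModW.IsFPLocConst Λ F ∧ Nonempty ((EtModW.epsPullMod Λ X).obj F ≅ G) := by
  refine ⟨fun F hF => isFPLocConstP_epsPull Λ F hF, fun G hG => ?_⟩
  choose V hV hM using fun x : X => exists_etale G hG x
  exact exists_of_etale_covers Λ G (ι := X) V (fun x => ⟨x, hV x⟩) hM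

end Groth.Agent.S0758
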