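import Groth.Statements.S0760
import Groth.Agent.Etrest.HpullTors2

set_option autoImplicit false
open CategoryTheory CategoryTheory.Limits AlgebraicGeometry Opposite
open scoped TensorProduct
universe u
open EtRest

namespace Groth.Agent.S0760

open Groth.Agent.Etrest

/-- Stacks Tag 0GJR: let f : X -> S be locally acyclic and F a locally constant abelian sheaf on X_et all of whose geometric stalks are torsion groups whose elements have order prime to the residue characteristic. Then f is locally acyclic relative to F: for every point x, strict henselizations R_S -> R_X of the local rings at f(x) and x (compatible with f), separably closed field Om under R_S, and every q, pulling back along the variety of vanishing cycles Spec(R_X (x)_{R_S} Om) -> Spec R_X induces a bijection H^q(Spec R_X, F|) -> H^q(Spec(R_X (x) Om), F|). (Left exactness of the pullback functor carried as a binder.) -/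
theorem result {X S : Scheme.{u}} (f : X ⟶ S)
    (hf : EtRest.IsLocallyAcyclic f) (F : EtCoh.Ab X) (hF : EtRest.IsLocallyConstant F)
    (htor : ∀ (Ω : Type u) [Field Ω] [IsSepClosed Ω] (ξ : Spec (CommRingCat.of Ω) ⟶ X)
      (s : (EtCoh.stalk ξ).obj F), ∃ n : ℕ, 0 < n ∧ (n : Ω) ≠ 0 ∧ n • s = 0)
    (x : ↥X) (RS RX : Type u) [CommRing RS] [CommRing RX] [IsLocalRing RS] [IsLocalRing RX]
    [Algebra (S.presheaf.stalk (f.base x)) RS] [IsLocalHom (algebraMap (S.presheaf.stalk (f.base x)) RS)]
    [Hensel.IsStrictHenselization (S.presheaf.stalk (f.base x)) RS]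
    [Algebra (X.presheaf.stalk x) RX] [IsLocalHom (algebraMap (X.presheaf.stalk x) RX)]
    [Hensel.IsStrictHenselization (X.presheaf.stalk x) RX]
    [Algebra RS RX] [IsLocalHom (algebraMap RS RX)]
    (hc : (algebraMap RS RX).comp (algebraMap (S.presheaf.stalk (f.base x)) RS) =
      (algebraMap (X.presheaf.stalk x) RX).comp (f.stalkMap x).hom)
    (Ω : Type u) [Field Ω] [IsSepClosed Ω] [Algebra RS Ω]
    [PreservesFiniteLimits (EtCoh.pull
      (Spec.map (CommRingCat.ofHom (algebraMap RX (EtRest.vcRing RS RX Ω)))))] (q : ℕ) :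
    Function.Bijective (EtCore.HpullVia
      (Spec.map (CommRingCat.ofHom (algebraMap RX (EtRest.vcRing RS RX Ω)))) (Hens2.specOf X x RX)
      (Spec.map (CommRingCat.ofHom (algebraMap RX (EtRest.vcRing RS RX Ω))) ≫ Hens2.specOf X x RX)
      rfl F q) := by
  have hH : HenselianLocalRing RX :=
    Hensel.IsStrictHenselization.henselian (R := X.presheaf.stalk x)
  have hsc : IsSepClosure (IsLocalRing.ResidueField (X.presheaf.stalk x))
      (IsLocalRing.ResidueField RX) :=
    Hensel.IsStrictHenselization.isSepClosure (R := X.presheaf.stalk x) (S := RX)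
  have hsep : IsSepClosed (IsLocalRing.ResidueField RX) := hsc.1
  apply HpullConst.bijective_HpullVia
  refine HpullTors2.bijective_Hpull RX _ (fun n => (n : X.residueField x) ≠ 0) ?_ ?_ _
    (LCConst.isLocallyConstant_pull _ F hF) ?_ q
  · rintro a b ⟨c, rfl⟩ hb h0
    apply hb
    rw [Nat.cast_mul, h0, zero_mul]
  · intro n hn
    exact hf x RS RX hc Ω n hn
  · intro s
    let e := (Etbase.StalkPull.stalkPullIso (Hens2.specOf X x RX)
      (Etbase.StrictHensPoint.pt RX)).app F
    obtain ⟨n, hn, hnΩ, hns⟩ := htor _ (Etbase.StrictHensPoint.pt RX ≫ Hens2.specOf X x RX) (e.inv s)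
    refine ⟨n, hn, fun h0 => hnΩ ?_, ?_⟩
    · let φ : (X.residueField x : Type u) →+* IsLocalRing.ResidueField RX :=
        IsLocalRing.ResidueField.map (algebraMap (X.presheaf.stalk x) RX)
      exact ((map_natCast φ n).symm.trans (congrArg φ h0)).trans (map_zero φ)
    · rw [← map_nsmul] at hns
      have h1 := congrArg e.hom hns
      rw [map_zero, ← ConcreteCategory.comp_apply, e.inv_hom_id] at h1
      exact h1

end Groth.Agent.S0760
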