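import Groth.Statements.S0769
import Groth.Agent.Etrest.RCoprod2
import Groth.Agent.Etrest.EtAB4
import Groth.Agent.Etrest.CechQC
import Groth.Agent.Etrest.ShriekProper
import Groth.Agent.Dcoh.MapDer
import Groth.Agent.S0476

set_option autoImplicit false
open CategoryTheory CategoryTheory.Limits AlgebraicGeometry Opposite
universe u
attribute [local instance] HasDerivedCategory.standard
open EtRest

namespace Groth.Agent.S0769

open Groth.Agent.Etrest

theorem hasKInj (X : Scheme.{u}) : Groth.Agent.Dcoh.DerHo.HasKInj (EtCoh.Ab X) := fun K => by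
  obtain ⟨I, f, h1, h2, -⟩ := Groth.Agent.S0476.result K
  exact ⟨I, f, h1, h2⟩

/-- Coproducts of injective sheaves are acyclic for direct images. -/
theorem isAcyc_sigma {X Y : Scheme.{u}} (f : X ⟶ Y) [QuasiCompact f] [QuasiSeparated f] {ι : Type u}
    (I : ι → EtCoh.Ab X) (hI : ∀ j, Injective (I j)) : RDer2.IsAcyc (EtCoh.push f) (∐ I) := by
  intro n
  refine CechQC.isZero_Rpush f ?_ (n + 1) (Nat.succ_pos n)
  exact CechQC.cechAcyc_of_isColimit_cofan (coproductIsCoproduct I) (fun i => by
    have := hI i
    exact CechQC.cechAcyc_of_injective (I i))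

/-- Stacks Tag 0G29, part (1): let f : X -> Y be separated of finite type with X, Y quasi-compact quasi-separated and c a compactification. For a family K_i of objects of D(X_et) with torsion cohomology sheaves, all vanishing below a common degree a, Rf_! (computed through c) preserves the direct sum of the K_i. (The left exactness of j_! and the existence of the unbounded derived direct image along the compactification are assumed as hypotheses.) -/
theorem result {X Y : Scheme.{u}} [CompactSpace ↥X] [QuasiSeparatedSpace ↥X] [CompactSpace ↥Y] [QuasiSeparatedSpace ↥Y]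
    (f : X ⟶ Y) [IsSeparated f] [LocallyOfFiniteType f] [QuasiCompact f] (c : DEt.Compactification f)
    [PreservesFiniteLimits (EtShriek.extZero c.j)] [DCoh.HasRpushEt c.Xbar c.fbar]
    {ι : Type u} (K : ι → DCoh.DEt X) (a : ℤ) (hb : ∀ i, ∀ n : ℤ, n < a → IsZero (DCoh.HDEt (K i) n))
    (ht : ∀ i, ∀ n : ℤ, EtCoh.IsTorsion (DCoh.HDEt (K i) n)) :
    PreservesColimit (Discrete.functor K) (DEt.Rshriek c) := by
  have h1 : PreservesColimitsOfShape (Discrete ι) (EtCoh.push c.fbar) := by
    have := Groth.Agent.S0682.result c.fbar ι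
    exact preservesColimitsOfShape_of_natIso (ShriekProper.lowerShriekIsoPush c.fbar)
  have h2 : PreservesColimitsOfShape (Discrete ι) (EtShriek.extZero c.j) :=
    (EtShriek.extZeroAdj c.j).leftAdjoint_preservesColimits.preservesColimitsOfShape
  have h3 : PreservesColimit (Discrete.functor K) (DEt.extZeroD c.j) :=
    RCoprod.preservesCoproduct_mapDerivedCategory (EtShriek.extZero c.j) K
  have h4 : PreservesColimit (Discrete.functor fun i => (DEt.extZeroD c.j).obj (K i))
      (DCoh.RpushEt c.Xbar c.fbar) := by
    refine RCoprod.preservesCoproduct (hasKInj c.Xbar) (DCoh.RpushEt c.Xbar c.fbar)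
      ((DCoh.pushEtKh c.Xbar c.fbar).totalRightDerivedUnit DerivedCategory.Qh
        (HomotopyCategory.quasiIso (EtCoh.Ab c.Xbar) (ComplexShape.up ℤ)))
      (fun I hI => isAcyc_sigma c.fbar I hI) _ a ?_
    intro i
    rw [DerivedCategory.isGE_iff]
    intro n hn
    exact IsZero.of_iso (Functor.map_isZero _ (hb i n hn))
      (Groth.Agent.Dcoh.MapDer.homologyMapDerApp (EtShriek.extZero c.j) n (K i))
  have h5 : PreservesColimit (Discrete.functor K ⋙ DEt.extZeroD c.j)
      (DCoh.RpushEt c.Xbar c.fbar) :=
    preservesColimit_of_iso_diagram (K₁ := Discrete.functor fun i => (DEt.extZeroD c.j).obj (K i)) _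
      (Discrete.natIso fun i => Iso.refl _)
  exact comp_preservesColimit _ _

end Groth.Agent.S0769
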