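import Groth.Statements.S0776
import Groth.Agent.Proet.DCConst
-- import your own Groth.Agent.* helpers here

set_option autoImplicit false
open CategoryTheory CategoryTheory.Limits AlgebraicGeometry Opposite
universe u
open ProEtDC

namespace Groth.Agent.S0776

/-- Stacks Tag 099Q, part (3), for the site X_proet: for a Noetherian ring L (value universe) and an ideal I, the sheaf L^ = lim_n L/I^n (limit of constant sheaves) on X_proet is derived complete with respect to I. -/
theorem result (X : Scheme.{u}) (Λ : Type (u + 1)) [CommRing Λ]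
    [IsNoetherianRing Λ] (I : Ideal Λ) : ProEtDC.IsDCSheaf Λ I (ProEtDC.lambdaHat Λ X I) := by
  rw [Groth.Agent.Proet.DCCrit.isDCSheaf_iff_fc]
  intro f hf
  refine Groth.Agent.Proet.DCProd.FC.of_isLimit (limit.isLimit (quotTower Λ I ⋙
    constantSheaf (Scheme.ProEt.topology X) (ModuleCat.{u + 1} Λ))) (fun j => ?_)
  refine Groth.Agent.Proet.DCConst.fc_const f _ j.unop (fun m => ?_)
  obtain ⟨m, rfl⟩ := Submodule.Quotient.mk_surjective _ m
  have h : f ^ j.unop • m ∈ (I ^ j.unop • ⊤ : Submodule Λ Λ) :=
    Submodule.smul_mem_smul (Ideal.pow_mem_pow hf _) Submodule.mem_top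
  exact (Submodule.Quotient.mk_eq_zero _).2 h

end Groth.Agent.S0776
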