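import Groth.Statements.S0777
import Groth.Agent.Proet.DCGen
import Groth.Agent.Proet.LocGen
import Groth.Agent.Proet.DCTel
import Groth.Agent.S0177
import Groth.Agent.S0736

set_option autoImplicit false
open CategoryTheory CategoryTheory.Limits AlgebraicGeometry Opposite
universe u
open ProEtDC

namespace Groth.Agent.S0777

open Groth.Agent.Proet ConstSec

/-- Stacks Tag 09BZ: let X be an affine scheme whose ring of functions is w-contractible (a weakly contractible affine), L a Noetherian ring (value universe), I an ideal generated by a_1, ..., a_r, and F a sheaf of L-modules on X_proet which is derived complete with respect to I and such that F/IF (the cokernel of F^r -> F, (s_k) |-> sum a_k s_k) is a locally constant sheaf of finite presentation. Then for some t there is an epimorphism (L^)^t -> F from a finite direct sum of copies of the completed constant sheaf. -/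
theorem result (X : Scheme.{u}) [IsAffine X]
    (hX : EtPBC.IsWContractible ↥(Γ(X, ⊤))) (Λ : Type (u + 1)) [CommRing Λ] [IsNoetherianRing Λ]
    {r : ℕ} (a : Fin r → Λ) (F : EtModW.ModP Λ X)
    (hF : ProEtDC.IsDCSheaf Λ (Ideal.span (Set.range a)) F)
    (hq : EtModW.IsFPLocConstP Λ (cokernel (ProEtDC.gensMap Λ a F))) :
    ∃ (t : ℕ) (φ : (⨁ fun _ : Fin t => ProEtDC.lambdaHat Λ X (Ideal.span (Set.range a))) ⟶ F), Epi φ := by
  have hwc : Groth.Agent.Proet.WCExist.HasWCCover.{u} := fun A _ => by
    obtain ⟨D, i1, i2, h1, h2, h3⟩ := Groth.Agent.S0177.result A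
    exact ⟨D, i1, i2, h1, Groth.Agent.S0736.result A D h2, h3⟩
  have hT : IsAffine (ProEtS.topP X).left := inferInstanceAs (IsAffine X)
  have hwcT : ProEtS.IsWC (ProEtS.topP X) := (WC.isWContractible_iff_isWC (ProEtS.topP X)).1 hX
  -- the sections of `F` are derived complete
  have hTB : ∀ (U : X.ProEt) (i : Fin r), DCNak.TB (a i) (F.obj.obj (op U)) := fun U i =>
    DCTel.TB_of_isDCSheaf Λ hF (Ideal.subset_span (Set.mem_range_self i)) U
  -- generators
  obtain ⟨ι, _, q, hgen⟩ := LocGen.exists_generators hT hwcT _ hq
  let e := Fintype.equivFin ι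
  have hsurj : Function.Surjective ((cokernel.π (ProEtDC.gensMap Λ a F)).hom.app
      (op (ProEtS.topP X))) := WCExact.surjective_of_epi _ hwcT
  choose s hs using fun j => hsurj (q j)
  choose σ hσ using fun j => DCGen.exists_hom_of_section F (s j)
  choose κ ψ hψ using fun j => DCExt.exists_extension a hwc (F := F) hTB (σ j)
  refine ⟨Fintype.card ι, biproduct.desc fun k => ψ (e.symm k), ?_⟩
  -- the cokernel vanishes
  let φ : (⨁ fun _ : Fin (Fintype.card ι) =>
    ProEtDC.lambdaHat Λ X (Ideal.span (Set.range a))) ⟶ F := biproduct.desc fun k => ψ (e.symm k)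
  have hψφ : ∀ j, ψ j ≫ cokernel.π φ = 0 := by
    intro j
    have h1 : ψ j = biproduct.ι (fun _ : Fin (Fintype.card ι) =>
        ProEtDC.lambdaHat Λ X (Ideal.span (Set.range a))) (e j) ≫ φ := by
      rw [biproduct.ι_desc, Equiv.symm_apply_apply]
    rw [h1, Category.assoc, cokernel.condition, comp_zero]
  have hzero : IsZero (cokernel φ) := by
    refine DCZero.isZero_of_TB Λ hwc a (cokernel φ) (fun U hU k => ?_) ?_
    · refine DCGen.TB_cokernel φ (a k) hU ?_ (hTB U k)
      exact DCGen.TB_biproduct _ _ _ fun _ =>
        DCGen.TB_lambdaHat _ (Ideal.subset_span (Set.mem_range_self k)) U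
    · -- `C = I C`
      change Epi (ProEtDC.gensMap Λ a (cokernel φ))
      refine Preadditive.epi_of_cancel_zero _ fun {Z} h hh => ?_
      have h1 : ProEtDC.gensMap Λ a F ≫ cokernel.π φ ≫ h = 0 := by
        apply biproduct.hom_ext'
        intro k
        have h2 : ProEtDC.smulHom Λ F (a k) ≫ cokernel.π φ =
            cokernel.π φ ≫ ProEtDC.smulHom Λ (cokernel φ) (a k) := by
          apply Sheaf.hom_ext
          ext V x
          exact map_smul ((cokernel.π φ).hom.app V).hom (a k) x
        have h3 : ProEtDC.smulHom Λ (cokernel φ) (a k) ≫ h = 0 := by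
          have h4 := congrArg (fun t => biproduct.ι (fun _ : Fin r => cokernel φ) k ≫ t) hh
          simpa using h4
        rw [biproduct.ι_desc_assoc, reassoc_of% h2, h3, comp_zero, comp_zero]
      have h5 : cokernel.π φ ≫ h = cokernel.π (ProEtDC.gensMap Λ a F) ≫
          cokernel.desc _ (cokernel.π φ ≫ h) h1 := (cokernel.π_desc _ _ _).symm
      have h6 : cokernel.desc _ (cokernel.π φ ≫ h) h1 = 0 := by
        apply Sheaf.hom_ext
        ext V x
        obtain ⟨V⟩ := V
        obtain ⟨R, hR, hR'⟩ := hgen V (EpsBasic.topPIsTerminal X |>.from V) x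
        refine DCExt.sections_ext Z hR fun W g hg => ?_
        obtain ⟨c, hc⟩ := hR' W g hg
        have h8 : ∀ j, (cokernel.desc _ (cokernel.π φ ≫ h) h1).hom.app (op W)
            ((cokernel (ProEtDC.gensMap Λ a F)).obj.map
              (g ≫ (EpsBasic.topPIsTerminal X).from V).op (q j)) = 0 := by
          intro j
          have e1 : (cokernel (ProEtDC.gensMap Λ a F)).obj.map
              (g ≫ (EpsBasic.topPIsTerminal X).from V).op (q j) =
              (cokernel.π (ProEtDC.gensMap Λ a F)).hom.app (op W)
                ((ψ j).hom.app (op W) ((κ j).hom.app (op W) (eta (Lam Λ) W (1 : Λ)))) := by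
            rw [← hs j, ← NatTrans.naturality_apply, ← hσ j W]
            have e2 := ConcreteCategory.congr_hom
              (congrArg (fun t => t.hom.app (op W)) (hψ j)) (eta (Lam Λ) W (1 : Λ))
            exact congrArg _ e2.symm
          rw [e1]
          have e3 : ψ j ≫ cokernel.π (ProEtDC.gensMap Λ a F) ≫
              cokernel.desc _ (cokernel.π φ ≫ h) h1 = 0 := by
            rw [← h5, reassoc_of% (hψφ j), zero_comp]
          exact ConcreteCategory.congr_hom (congrArg (fun t => t.hom.app (op W)) e3)
            ((κ j).hom.app (op W) (eta (Lam Λ) W (1 : Λ)))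
        have h9 : (cokernel.desc _ (cokernel.π φ ≫ h) h1).hom.app (op W)
            ((cokernel (ProEtDC.gensMap Λ a F)).obj.map g.op x) = 0 := by
          rw [hc, map_sum]
          refine Finset.sum_eq_zero fun j _ => ?_
          rw [map_smul, h8, smul_zero]
        have h10 := NatTrans.naturality_apply
          (cokernel.desc _ (cokernel.π φ ≫ h) h1).hom g.op x
        rw [h9] at h10
        refine h10.symm.trans ?_
        exact (map_zero (Z.obj.map g.op).hom).symm
      have h7 : cokernel.π φ ≫ h = 0 := by rw [h5, h6, comp_zero]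
      exact (cancel_epi (cokernel.π φ)).1 (h7.trans comp_zero.symm)
  exact Abelian.epi_of_cokernel_π_eq_zero _ (hzero.eq_of_tgt _ _)

end Groth.Agent.S0777
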