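import Groth.Statements.S0780
import Groth.Agent.Etrest.ProjForm
import Groth.Agent.Etrest.LqfStalk

set_option autoImplicit false
open CategoryTheory CategoryTheory.Limits AlgebraicGeometry Opposite
universe u
open EtShriek

namespace Groth.Agent.S0780

open Groth.Agent.Etrest.ProjForm Groth.Agent.Etrest

theorem gShrE_germ {X Y : Scheme.{u}} (f : X ⟶ Y) (F : EtCoh.Ab X) {Ω : Type u} [Field Ω]
    [IsAlgClosed Ω] (ξ : Spec (CommRingCat.of Ω) ⟶ X) {η : Spec (CommRingCat.of Ω) ⟶ Y}
    (h : ξ ≫ f = η) (V : Y.Etale)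
    (v : (Scheme.pointSmallEtale η).fiber.obj V) (s : EtShriek.shriekSubgroup f F V) :
    gShrE f F ξ h (gm η (EtShriek.lowerShriekPre f F) v s) = LqfStalk.germ f F ξ h V v s.1 := by
  subst h
  exact gShr_germ f F ξ V v s

theorem gm_map {Y : Scheme.{u}} {Ω : Type u} [Field Ω]
    [IsAlgClosed Ω] (η : Spec (CommRingCat.of Ω) ⟶ Y) (P : Y.Etaleᵒᵖ ⥤ AddCommGrpCat.{u + 1})
    {V V' : Y.Etale} (φ : V' ⟶ V) (v : (Scheme.pointSmallEtale η).fiber.obj V')
    (s : P.obj (op V)) :
    gm η P v (P.map φ.op s) = gm η P ((Scheme.pointSmallEtale η).fiber.map φ v) s :=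
  GrothendieckTopology.Point.toPresheafFiber_w_apply _ _ _ _ _

theorem stalkFormula {X Y : Scheme.{u}} (f : X ⟶ Y) [IsSeparated f]
    [LocallyOfFiniteType f] [LocallyQuasiFinite f] : StalkFormula f where
  inj {Ω} _ _ η F a h := by
    obtain ⟨V, v, s, rfl⟩ := (Scheme.pointSmallEtale η).toPresheafFiber_jointly_surjective
      (P := EtShriek.lowerShriekPre f F) a
    obtain ⟨V', φ, v', hv, h0⟩ := LqfStalk.exists_map_eq_zero f F V v s.1 s.2 (fun ξ hξ => by
      rw [← gShrE_germ f F ξ hξ V v s]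
      exact h ⟨ξ, hξ⟩)
    have h1 : (EtShriek.lowerShriekPre f F).map φ.op s = 0 := Subtype.ext h0
    have h2 := gm_map η (EtShriek.lowerShriekPre f F) φ v' s
    rw [h1, hv] at h2
    exact h2.symm.trans (map_zero (gm η (EtShriek.lowerShriekPre f F) v').hom)
  fin {Ω} _ _ η F a := by
    obtain ⟨V, v, s, rfl⟩ := (Scheme.pointSmallEtale η).toPresheafFiber_jointly_surjective
      (P := EtShriek.lowerShriekPre f F) a
    refine (LqfStalk.finite_germ_ne_zero f F V v s.1 s.2).subset ?_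
    rintro ⟨ξ, hξ⟩ h1 h2
    exact h1 ((gShrE_germ f F ξ hξ V v s).trans h2)
  surj {Ω} _ _ η F ξ b := by
    obtain ⟨V, v, s, hs, h1, h2⟩ := LqfStalk.exists_germ_eq f F ξ.1 ξ.2 b
    refine ⟨gm η (EtShriek.lowerShriekPre f F) v ⟨s, hs⟩, ?_, ?_⟩
    · exact (gShrE_germ f F ξ.1 ξ.2 V v ⟨s, hs⟩).trans h1
    · intro ξ' h'
      exact (gShrE_germ f F ξ'.1 ξ'.2 V v ⟨s, hs⟩).trans
        (h2 ξ'.1 ξ'.2 (fun h => h' (Subtype.ext h)))

/-- Stacks Tag 0GKF, for abelian sheaves (coefficient ring Z) and f separated, locally of finite type and locally quasi-finite (where the direct image with proper support is the subsheaf of the direct image, Tag 0F6N): for an abelian sheaf F on X_et and G on Y_et, f_! F tensor G and f_!(F tensor f^{-1} G) are isomorphic (existence of an isomorphism; the source's is canonical). -/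
theorem result {X Y : Scheme.{u}} (f : X ⟶ Y) [IsSeparated f]
    [LocallyOfFiniteType f] [LocallyQuasiFinite f] (F : EtCoh.Ab X) (G : EtCoh.Ab Y) :
    Nonempty ((EtTens.tensorBi.obj ((EtShriek.lowerShriek f).obj F)).obj G ≅
      (EtShriek.lowerShriek f).obj ((EtTens.tensorBi.obj F).obj ((EtCoh.pull f).obj G))) :=
  projection_formula F G (stalkFormula f)

end Groth.Agent.S0780
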