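import Groth.Statements.S0781
import Groth.Agent.Desc.EtToDD

set_option autoImplicit false
open CategoryTheory CategoryTheory.Limits AlgebraicGeometry Opposite
universe u
open Desc

namespace Groth.Agent.S0781

/-- Stacks Tag 0BTJ. If p : X ⟶ S is surjective, then for schemes U₁, U₂ etale over S, two S-morphisms U₁ ⟶ U₂ whose base changes to X agree (as morphisms of canonical descent data relative to p) are equal. (Descent data are taken in functor-of-points form, equivalent by the Yoneda lemma to the source's isomorphism over X ×_S X with the cocycle condition.) -/
theorem result {X S : Scheme.{u}} (p : X ⟶ S) [Surjective p] (U₁ U₂ : Over S)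
    [Etale U₁.hom] [Etale U₂.hom] : Function.Injective ((Desc.toDD p).map : (U₁ ⟶ U₂) → _) := by
  exact Groth.Agent.Desc.EtToDD.map_injective_of_etale p U₁ U₂

end Groth.Agent.S0781
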