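import Groth.Statements.S0782
import Groth.Agent.Desc.EtToDD

set_option autoImplicit false
open CategoryTheory CategoryTheory.Limits AlgebraicGeometry Opposite
universe u
open Desc

namespace Groth.Agent.S0782

/-- Stacks Tag 0BTK. Let p : X ⟶ S be such that for every scheme U etale over S the projection X ×_S U ⟶ U is a quotient map of topological spaces (submersive; U = S is allowed). Then for U₁, U₂ etale over S, every morphism between their canonical descent data relative to p comes from an S-morphism U₁ ⟶ U₂ (injectivity of this assignment is the companion statement for Tag 0BTJ). (Descent data are taken in functor-of-points form, equivalent by the Yoneda lemma to the source's isomorphism over X ×_S X with the cocycle condition.) -/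
theorem result {X S : Scheme.{u}} (p : X ⟶ S)
    (hp : ∀ U : Over S, Etale U.hom → Topology.IsQuotientMap (pullback.snd p U.hom).base) (U₁ U₂ : Over S)
    [Etale U₁.hom] [Etale U₂.hom] : Function.Surjective ((Desc.toDD p).map : (U₁ ⟶ U₂) → _) := by
  exact Groth.Agent.Desc.EtToDD.map_surjective_of_etale p hp U₁ U₂

end Groth.Agent.S0782
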