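import Groth.Statements.S0783
import Groth.Agent.Desc.IntEff
import Groth.Agent.Desc.EtSection

set_option autoImplicit false
open CategoryTheory CategoryTheory.Limits AlgebraicGeometry Opposite
universe u
open Desc

namespace Groth.Agent.S0783

/-- Stacks Tag 0BTP (effectivity). Let p : X ⟶ S be surjective and integral. Every descent datum relative to p whose underlying scheme is quasi-compact, separated and etale over X is isomorphic to the canonical descent datum of a scheme quasi-compact, separated and etale over S. (Descent data are taken in functor-of-points form, equivalent by the Yoneda lemma to the source's isomorphism over X ×_S X with the cocycle condition.) -/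
theorem result {X S : Scheme.{u}} (p : X ⟶ S) [Surjective p] [IsIntegralHom p]
    (D : Desc.SchDD p) [QuasiCompact D.obj.hom] [IsSeparated D.obj.hom] [Etale D.obj.hom] :
    ∃ U : Over S, QuasiCompact U.hom ∧ IsSeparated U.hom ∧ Etale U.hom ∧ Nonempty ((Desc.toDD p).obj U ≅ D) :=
  Groth.Agent.Desc.IntEff.effective_of_localSections
    (fun p _ _ D _ _ _ Ω _ s a => Groth.Agent.Desc.EtSection.exists_etale_section p D Ω s a) p D

end Groth.Agent.S0783
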