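import Groth.Statements.S0784
import Groth.Agent.Desc.HenselSplit
import Groth.Agent.Desc.LQF
import Groth.Agent.S0522

set_option autoImplicit false
open CategoryTheory CategoryTheory.Limits AlgebraicGeometry Opposite
universe u
open Desc

namespace Groth.Agent.S0784

/-- Stacks Tag 0BTN. Let (A, I) be a henselian pair and g : U ⟶ Spec A quasi-compact, separated and etale such that the base change of U to Spec(A/I) is finite over Spec(A/I). Then U is the disjoint union of an open and closed subscheme finite over Spec A and an open and closed subscheme with no points lying over V(I). -/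
theorem result (A : Type u) [CommRing A] (I : Ideal A) [HenselianRing A I]
    {U : Scheme.{u}} (g : U ⟶ Spec (CommRingCat.of A)) [QuasiCompact g] [IsSeparated g] [Etale g]
    (hfin : IsFinite (pullback.snd g (Spec.map (CommRingCat.ofHom (Ideal.Quotient.mk I))))) :
    ∃ W : U.Opens, IsClosed (W : Set U) ∧ IsFinite (W.ι ≫ g) ∧
      ∀ u : U, u ∉ W → ¬ I ≤ (g.base u : PrimeSpectrum A).asIdeal := by
  have := Groth.Agent.Desc.LQF.of_etale g
  refine Groth.Agent.Desc.HenselSplit.split_of_idempotent_lift A I HenselianRing.jac ?_ g hfin
  intro B _ _ hB e₀ he₀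
  obtain ⟨e, he, h⟩ := ((Groth.Agent.S0522.result A I).mp inferInstance B hB).surjOn he₀
  exact ⟨e, he, h⟩

end Groth.Agent.S0784
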