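import Groth.Statements.S0785
import Groth.Agent.UnramA.FieldFibre
import Mathlib.RingTheory.Smooth.Flat
import Mathlib.RingTheory.Etale.Basic

set_option autoImplicit false
universe u
open Desc

namespace Groth.Agent.S0785

/-- Stacks Tag 039T. Let A → B be a local homomorphism of Noetherian local rings which is etale in the sense that B is the localization at a prime of an etale A-algebra. Then A and B have the same depth. -/
theorem result (A B : Type u) [CommRing A] [CommRing B] [IsLocalRing A] [IsLocalRing B]
    [IsNoetherianRing A] [IsNoetherianRing B] [Algebra A B] [IsLocalHom (algebraMap A B)]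
    (E : Type u) [CommRing E] [Algebra A E] [Algebra.Etale A E] (P : Ideal E) [P.IsPrime]
    [Algebra E B] [IsScalarTower A E B] [IsLocalization.AtPrime B P] :
    LocCoh.depth A A = LocCoh.depth B B := by
  have hflat : Module.Flat A B := by
    have : Module.Flat A E := inferInstance
    have : Module.Flat E B := IsLocalization.flat B P.primeCompl
    exact Module.Flat.trans A E B
  have hft : Algebra.EssFiniteType A B := by
    have : Algebra.EssFiniteType E B := Algebra.EssFiniteType.of_isLocalization B P.primeCompl
    exact Algebra.EssFiniteType.comp A E B
  have hfu : Algebra.FormallyUnramified A B := by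
    have : Algebra.FormallyUnramified E B := Algebra.FormallyUnramified.of_isLocalization P.primeCompl
    exact Algebra.FormallyUnramified.comp A E B
  exact (Groth.Agent.UnramA.FieldFibre.depth_eq A B
    (Algebra.FormallyUnramified.map_maximalIdeal (R := A) (S := B))).symm

end Groth.Agent.S0785
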