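import Groth.Statements.S0787
import Groth.Agent.FormalA.ProperOver

set_option autoImplicit false
universe u
open Coherent

namespace Groth.Agent.S0787

open CategoryTheory AlgebraicGeometry in
/-- Stacks Tag 0CYL. Let f : X → S be locally of finite type and Z ⊆ X a closed subset. Then Z with its reduced induced structure is proper over S if and only if some closed subscheme of X with underlying set Z is proper over S, if and only if every closed subscheme of X with underlying set Z is proper over S. -/
theorem result {X S : Scheme.{u}} (f : X ⟶ S) [LocallyOfFiniteType f]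
    (Z : Set X) (hZ : IsClosed Z) :
    (ClSub.IsProperOver f Z ↔ ∃ (T : Scheme.{u}) (i : T ⟶ X), IsClosedImmersion i ∧
        Set.range ⇑i = Z ∧ IsProper (i ≫ f)) ∧
    (ClSub.IsProperOver f Z ↔ ∀ (T : Scheme.{u}) (i : T ⟶ X), IsClosedImmersion i →
        Set.range ⇑i = Z → IsProper (i ≫ f)) := by
  constructor
  · constructor
    · rintro ⟨hc, hp⟩
      exact ⟨_, FormalA.ProperOver.redι Z hc, inferInstance, FormalA.ProperOver.range_redι Z hc, hp⟩
    · rintro ⟨T, i, _, hi, _⟩
      exact FormalA.ProperOver.isProperOver_of_closedImmersion f Z hZ i hi.ge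
  · constructor
    · intro h T i _ hi
      exact FormalA.ProperOver.isProper_closedImmersion f Z h i hi
    · intro h
      exact ⟨hZ, h _ (FormalA.ProperOver.redι Z hZ) inferInstance (FormalA.ProperOver.range_redι Z hZ)⟩

end Groth.Agent.S0787
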