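import Groth.Statements.S0797
import Groth.Agent.FormalA.AdicFin

set_option autoImplicit false
universe u
open Formal2

namespace Groth.Agent.S0797

/-- Stacks Tag 087W, the module-theoretic heart, over a base that is already complete (so that the completion of A is A). Let A be Noetherian and I-adically complete, and let (M_n, f_n : M_{n+1} → M_n) be an inverse system of finite A-modules with M_n annihilated by I^(n+1) and f_n surjective with kernel I^(n+1) M_{n+1} (indices shifted by one). Then the A-module of compatible sequences is finitely generated, each projection to M_n is surjective, and its kernel is I^(n+1) times the module of compatible sequences. -/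
theorem result (A : Type u) [CommRing A] [IsNoetherianRing A] (I : Ideal A)
    [IsAdicComplete I A] (M : ℕ → Type u) [∀ n, AddCommGroup (M n)] [∀ n, Module A (M n)]
    [∀ n, Module.Finite A (M n)] (f : ∀ n, M (n + 1) →ₗ[A] M n) (hf : ∀ n, Function.Surjective (f n))
    (hk : ∀ n, I ^ (n + 1) • (⊤ : Submodule A (M n)) = ⊥)
    (hker : ∀ n, LinearMap.ker (f n) = I ^ (n + 1) • (⊤ : Submodule A (M (n + 1))))
    (L : Submodule A (∀ n, M n)) (hL : ∀ x : ∀ n, M n, x ∈ L ↔ ∀ n, f n (x (n + 1)) = x n) :
    Module.Finite A L ∧ ∀ n, Function.Surjective ((LinearMap.proj n).comp L.subtype : L →ₗ[A] M n) ∧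
      LinearMap.ker ((LinearMap.proj n).comp L.subtype : L →ₗ[A] M n) = I ^ (n + 1) • (⊤ : Submodule A L) := by
  haveI : IsPrecomplete I A := inferInstance
  refine FormalA.AdicFin.limit_finite I M f hf hk hker
    (fun n => (LinearMap.proj n).comp L.subtype) ?_ ?_ ?_
  · intro n x
    exact (hL x.1).1 x.2 n
  · intro x hx
    exact Subtype.ext (funext hx)
  · intro x hx
    exact ⟨⟨x, (hL x).2 hx⟩, fun n => rfl⟩

end Groth.Agent.S0797
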