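import Groth.Statements.S0855
import Groth.Agent.CohtopB.ColimCover
import Groth.Agent.CohtopB.RPushExt
import Groth.Agent.CohtopB.BasisCover

set_option autoImplicit false
universe u
open CategoryTheory
open CohTop

namespace Groth.Agent.S0855

open TopologicalSpace Opposite CategoryTheory.Limits in
/-- Stacks Tag 0H7A: for a continuous map f : X -> Y, a diagram (F_i) of abelian sheaves on X and p ≥ 0: if the opens V of Y for which the canonical map colim_i H^p(f^{-1}V, F_i) -> H^p(f^{-1}V, colim F_i) is an isomorphism form a basis of the topology of Y, then colim_i R^p f_* F_i -> R^p f_* (colim F_i) is an isomorphism. Both commutations are phrased as preservation of the colimit by the functor in question. -/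
theorem result {X Y : TopCat.{u}} (f : X ⟶ Y)
    {ι : Type u} [SmallCategory ι] (F : ι ⥤ CohTop.Ab X) (p : ℕ)
    (h : Opens.IsBasis {V : Opens Y | PreservesColimit F
        ((Sheaf.cohomologyPresheafFunctor (Opens.grothendieckTopology X) p).flip.obj
          (op ((Opens.map f).obj V)))}) :
    PreservesColimit F (CohTop.Rpush f p) := by
  let B : Set (Opens Y) := {V : Opens Y | PreservesColimit F
        ((Sheaf.cohomologyPresheafFunctor (Opens.grothendieckTopology X) p).flip.obj
          (op ((Opens.map f).obj V)))}
  have hB : Groth.Agent.CohtopB.SectHomology.IsCovering (Opens.grothendieckTopology Y) B :=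
    fun V => Groth.Agent.CohtopB.BasisCover.isCovering_of_isBasis h V
  have h1 : PreservesColimit F ((Sheaf.cohomologyPresheafFunctor.{u} (Opens.grothendieckTopology X) p ⋙
      (Functor.whiskeringLeft (Opens Y)ᵒᵖ (Opens X)ᵒᵖ AddCommGrpCat.{u}).obj (Opens.map f).op) ⋙
        presheafToSheaf (Opens.grothendieckTopology Y) AddCommGrpCat.{u}) := by
    refine Groth.Agent.CohtopB.ColimCover.preservesColimit_of_isCovering
      (Opens.grothendieckTopology Y) F _ B hB ?_
    intro V hV
    have hV' : PreservesColimit F
        ((Sheaf.cohomologyPresheafFunctor (Opens.grothendieckTopology X) p).flip.obj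
      (op ((Opens.map f).obj V))) := hV
    exact preservesColimit_of_natIso F (NatIso.ofComponents (fun _ => Iso.refl _) :
      (Sheaf.cohomologyPresheafFunctor.{u} (Opens.grothendieckTopology X) p).flip.obj
        (op ((Opens.map f).obj V)) ≅
      (Sheaf.cohomologyPresheafFunctor.{u} (Opens.grothendieckTopology X) p ⋙
        (Functor.whiskeringLeft (Opens Y)ᵒᵖ (Opens X)ᵒᵖ AddCommGrpCat.{u}).obj (Opens.map f).op) ⋙
          (evaluation _ _).obj (op V))
  have : ((Opens.map f).sheafPushforwardContinuous AddCommGrpCat.{u}
      (Opens.grothendieckTopology Y) (Opens.grothendieckTopology X)).Additive :=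
    inferInstanceAs (CohTop.push f).Additive
  exact preservesColimit_of_natIso F
    (Groth.Agent.CohtopB.RPushExt.siteIso (Opens.grothendieckTopology X)
      (Opens.grothendieckTopology Y) (Opens.map f) p ≪≫ (Functor.associator _ _ _).symm).symm

end Groth.Agent.S0855
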