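import Groth.Statements.S0800
-- import your own Groth.Agent.* helpers here
import Groth.Agent.FormalA.ColimOpen
import Groth.Agent.S0855

set_option autoImplicit false
universe u
open Coherent

namespace Groth.Agent.S0800

open CategoryTheory CategoryTheory.Limits AlgebraicGeometry TopologicalSpace

theorem prespectral (X : Scheme.{u}) : PrespectralSpace X := inferInstance

theorem isBasis_affine {X S : Scheme.{u}} (f : X ⟶ S) [QuasiCompact f] [QuasiSeparated f]
    (p : ℕ) (J : Type u) [SmallCategory J] [IsFiltered J]
    (F : J ⥤ CohTop.Ab (X : TopCat.{u})) :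
    Opens.IsBasis {V : Opens S | PreservesColimit F
        ((Sheaf.cohomologyPresheafFunctor (Opens.grothendieckTopology (X : TopCat.{u})) p).flip.obj
          (Opposite.op ((Opens.map f.base).obj V)))} := by
  refine Opens.isBasis_iff_nbhd.2 ?_
  intro U x hx
  obtain ⟨V, hV, hxV, hVU⟩ := (Opens.isBasis_iff_nbhd.1 S.isBasis_affineOpens) hx
  refine ⟨V, ?_, hxV, hVU⟩
  change PreservesColimit F _
  let W : X.Opens := f ⁻¹ᵁ V
  have hc : IsCompact (W : Set X) := f.isCompact_preimage (IsAffineOpen.isCompact hV)
  have h1 : PrespectralSpace W := prespectral W.toScheme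
  have h2 : QuasiSeparatedSpace W :=
    (isQuasiSeparated_iff_quasiSeparatedSpace _ W.2).mp
      (f.isQuasiSeparated_preimage (IsAffineOpen.isQuasiSeparated hV))
  have := @Groth.Agent.FormalA.ColimOpen.preservesColimitsOfShape_cohomology
    (X : TopCat.{u}) W J _ _ _ _ h1 h2 _ hc p
  exact this.preservesColimit

open CategoryTheory CategoryTheory.Limits AlgebraicGeometry in
/-- Stacks Tag 07TB. Let f : X → S be quasi-compact and quasi-separated. Then for every p the higher direct image functor R^p f_* on abelian sheaves (on the underlying spaces) preserves filtered colimits. -/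
theorem result {X S : Scheme.{u}} (f : X ⟶ S) [QuasiCompact f]
    [QuasiSeparated f] (p : ℕ) (J : Type u) [SmallCategory J] [IsFiltered J] :
    PreservesColimitsOfShape J (Coh.RpushAb f p) := by
  refine ⟨fun {F} => ?_⟩
  exact Groth.Agent.S0855.result f.base F p (isBasis_affine f p J F)

end Groth.Agent.S0800
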