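import Groth.Statements.S0803
import Groth.Agent.FormalA.HVKillLC

set_option autoImplicit false
universe u
open Formal2

namespace Groth.Agent.S0803

open AlgebraicGeometry in
/-- Stacks Tag 0EKM. Let A be a Noetherian ring that is complete for the f-adic topology, where f lies in an ideal 𝔞, let M be a finite A-module and s ≥ 0, and assume H^i_𝔞(M) is annihilated by a power of f for every i ≤ s + 1. Then, with U the complement of V(𝔞), the canonical map H^i(U, M~) → lim_n H^i(U, (M/f^nM)~) is bijective for every i < s. -/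
theorem result (A : Type u) [CommRing A]
    [IsNoetherianRing A] (𝔞 : Ideal A) (f : A) (hf : f ∈ 𝔞) [IsAdicComplete (Ideal.span {f}) A]
    (M : Type u) [AddCommGroup M] [Module A M] [Module.Finite A M] (s : ℕ)
    (h : ∀ i : ℕ, i ≤ s + 1 → ∃ n : ℕ, ∀ x : LocCoh.H 𝔞 i M, f ^ n • x = 0) (i : ℕ) (hi : i < s) :
    Formal2.FormalCohBijective A (Ideal.span {f}) M i (LocCoh.puncturedOpen A 𝔞) := by
  cases i with
  | zero =>
    obtain ⟨a, ha⟩ := h 1 (by omega)
    obtain ⟨b, hb⟩ := h 2 (by omega)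
    exact Groth.Agent.FormalA.TowerLim.formalCohBijective_zero f M
      (Groth.Agent.FormalA.HVKillLC.exists_of_kill_one 𝔞 M (f ^ a) ha)
      (Groth.Agent.FormalA.HVKillLC.kill_succ 𝔞 M (f ^ b) 0 hb)
  | succ j =>
    obtain ⟨a, ha⟩ := h (j + 2) (by omega)
    obtain ⟨b, hb⟩ := h (j + 3) (by omega)
    exact Groth.Agent.FormalA.TowerLim.formalCohBijective_pos f M
      (Groth.Agent.FormalA.HVKillLC.kill_succ 𝔞 M (f ^ a) j ha)
      (Groth.Agent.FormalA.HVKillLC.kill_succ 𝔞 M (f ^ b) (j + 1) hb)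

end Groth.Agent.S0803
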