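import Groth.Statements.S0805
-- import your own Groth.Agent.* helpers here
import Groth.Agent.FormalA.Hartogs
import Groth.Agent.S0804

set_option autoImplicit false
universe u
open CategoryTheory
attribute [local instance] HasDerivedCategory.standard
open Formal2

namespace Groth.Agent.S0805

open AlgebraicGeometry TopologicalSpace Groth.Agent.FormalA.HVSec Groth.Agent.FormalA.Hartogs

theorem HVres_HVmap (A : Type u) [CommRing A] {M N : Type u} [AddCommGroup M] [Module A M]
    [AddCommGroup N] [Module A N] (φ : M →ₗ[A] N) {U V : (Spec (CommRingCat.of A)).Opens}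
    (h : V ≤ U) (x : Formal2.HV A M 0 U) :
    Formal2.HVres A N 0 h (Formal2.HVmap A φ 0 U x) =
      Formal2.HVmap A φ 0 V (Formal2.HVres A M 0 h x) := by
  apply (toSec A N V).injective
  refine ext_val fun p hp => ?_
  rw [val_res]
  obtain ⟨⟨a, b⟩, hab⟩ : ∃ q : M × p.asIdeal.primeCompl,
      val (toSec A M U x) p (h hp) = LocalizedModule.mk q.1 q.2 := by
    induction (val (toSec A M U x) p (h hp)) using LocalizedModule.induction_on with
    | h a b => exact ⟨(a, b), rfl⟩
  rw [val_map φ U x p (h hp) a b hab]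
  rw [val_map φ V (Formal2.HVres A M 0 h x) p hp a b (by rw [val_res]; exact hab)]

theorem quotPow_not_assoc (A : Type u) [CommRing A] [IsNoetherianRing A] (I : Ideal A) (M : Type u)
    [AddCommGroup M] [Module A M] (n : ℕ) (p : Ideal A)
    (hp : p ∈ associatedPrimes A (Formal2.quotPow A I M n)) : I ≤ p := by
  have hpp : p.IsPrime := IsAssociatedPrime.isPrime hp
  obtain ⟨_, x, hx⟩ := isAssociatedPrime_iff.1 hp
  have : I ^ (n + 1) ≤ p := by
    intro a ha
    rw [hx, mem_colon_bot]
    obtain ⟨m, rfl⟩ := Submodule.mkQ_surjective _ x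
    rw [← map_smul, Submodule.mkQ_apply, Submodule.Quotient.mk_eq_zero]
    exact Submodule.smul_mem_smul ha trivial
  exact (hpp.pow_le_iff (Nat.succ_ne_zero n)).1 this

open AlgebraicGeometry in
/-- Stacks Tag 0EIG, for the coherent module on U attached to a finite A-module M. Let I ⊆ 𝔞 be ideals of a Noetherian ring A which is complete for the I-adic topology and admits a dualizing complex, let d bound the cohomological dimension of I, and let U = Spec A ∖ V(𝔞). Assume the dimension condition of Tag 0EG2 on the associated primes of M, and moreover that M_𝔭 has depth at least 2 for every prime 𝔭 in U such that V(𝔭) ∩ V(I) ⊆ V(𝔞). Then the canonical map from the sections of M~ over U to the limit of the sections of (M/I^nM)~ over U is bijective. -/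
theorem result (A : Type u) [CommRing A] [IsNoetherianRing A]
    (I 𝔞 : Ideal A) (hI : I ≤ 𝔞) [IsAdicComplete I A] (hω : ∃ ω : Dual.D A, Dual.IsDualizing A ω)
    (d : ℕ) (hd : LocCoh.CdLE A I d) (M : Type u) [AddCommGroup M] [Module A M] [Module.Finite A M]
    (h₂ : ∀ p ∈ associatedPrimes A M, ¬ 𝔞 ≤ p → ¬ I ≤ p →
      (∃ r : Ideal A, r.IsPrime ∧ p ≤ r ∧ I ≤ r ∧ ¬ 𝔞 ≤ r) →
        ∀ (q : Ideal A) [q.IsPrime], p ≤ q → 𝔞 ≤ q → ((d + 1 : ℕ) : WithBot ℕ∞) < Formal2.dimBetween A p q)
    (h₃ : ∀ (p : Ideal A) [p.IsPrime], ¬ 𝔞 ≤ p →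
      (∀ (r : Ideal A), r.IsPrime → p ≤ r → I ≤ r → 𝔞 ≤ r) →
        (2 : ℕ∞) ≤ LocCoh.depth (Localization.AtPrime p) (LocalizedModule p.primeCompl M)) :
    Formal2.FormalCohBijective A I M 0 (LocCoh.puncturedOpen A 𝔞) := by
  obtain ⟨h1, h2⟩ := Groth.Agent.S0804.result A I 𝔞 hI hω d hd M h₂
  have hadm : ∀ {V : (Spec (CommRingCat.of A)).Opens},
      Formal2.Admissible A I (LocCoh.puncturedOpen A 𝔞) V → ∀ p : PrimeSpectrum A,
        p ∈ LocCoh.puncturedOpen A 𝔞 → p ∉ V → (2 : ℕ∞) ≤
          LocCoh.depth (Localization.AtPrime p.asIdeal)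
            (LocalizedModule p.asIdeal.primeCompl M) := by
    intro V hV p hp hpV
    refine h₃ p.asIdeal hp ?_
    intro r hr hpr hIr
    by_contra har
    exact hpV (mem_of_le (p := ⟨r, hr⟩) hpr (hV.2 ⟨r, hr⟩ har hIr))
  constructor
  · intro x x' hxx
    obtain ⟨V', hV', h⟩ := h1 _ ⟨le_refl _, fun p hp _ => hp⟩ (x - x') (fun n => by
      rw [map_sub, hxx n, sub_self])
    have := (HVres_bijective hV'.2 (hadm hV'.1)).1 (h.trans (map_zero _).symm)
    exact sub_eq_zero.1 this
  · intro y hy
    obtain ⟨V, hV, x, hx⟩ := h2 y hy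
    obtain ⟨z, rfl⟩ := (HVres_bijective hV.1 (hadm hV)).2 x
    refine ⟨z, fun n => ?_⟩
    apply HVres_injective (M := Formal2.quotPow A I M n) hV.1
    · intro p hp hpV hass
      exact hpV (hV.2 p hp (quotPow_not_assoc A I M n _ hass))
    · rw [hx n]
      exact HVres_HVmap A _ hV.1 z

end Groth.Agent.S0805
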