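import Groth.Statements.S0809
import Groth.Agent.FormalA.PicPunctData

set_option autoImplicit false
universe u
open Formal2

namespace Groth.Agent.S0809

open CategoryTheory AlgebraicGeometry in
/-- Stacks Tag 0F2A. Let (A, 𝔪) be a Noetherian local ring, f ∈ 𝔪 a nonzerodivisor, and assume depth A ≥ 3. Let U be the punctured spectrum of A and U₀ its closed subscheme cut out by f. If L is an invertible O_U-module some positive tensor power of which is trivial, and the pullback of L to U₀ is trivial, then L is trivial. -/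
theorem result (A : Type u) [CommRing A] [IsNoetherianRing A] [IsLocalRing A]
    (f : A) (hf : f ∈ IsLocalRing.maximalIdeal A) (hnzd : f ∈ nonZeroDivisors A)
    (hdepth : (3 : ℕ∞) ≤ LocCoh.depth A A)
    (L : (↑(FEt.puncturedSpec A) : Scheme.{u}).Modules) (hL : PicF.IsInvertible L) (n : ℕ)
    (htors : Nonempty (CohB1.tensorPow L (n + 1) ≅ Coh.structureModule _))
    (h₀ : Nonempty ((Scheme.Modules.pullback (Formal2.specQuotMap A f ∣_ FEt.puncturedSpec A)).obj L ≅
      Coh.structureModule _)) :
    Nonempty (L ≅ Coh.structureModule _) := by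
  have hreg : ∀ a : A, f * a = 0 → a = 0 := fun a ha => by
    rw [mul_comm] at ha
    exact (mem_nonZeroDivisors_iff.mp hnzd).2 a ha
  obtain ⟨ρ, C, ⟨G⟩⟩ := Groth.Agent.FormalA.PicPunct.exists_gdata hf hreg hdepth hL h₀
  obtain ⟨g, hg, g', hg', hgg⟩ := C.exists_of_tensorPow (n + 1) htors
  obtain ⟨s, hs, t, ht, hst⟩ := G.exists_mul_eq_one_of_torsion n (g := g) (g' := g')
    (by exact_mod_cast hg) (by exact_mod_cast hg') hgg
  exact C.nonempty_iso hs hst

end Groth.Agent.S0809
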