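import Groth.Statements.S0814
import Groth.Agent.FormalA.HVSec
import Groth.Agent.S0804

set_option autoImplicit false
universe u
open CategoryTheory
attribute [local instance] HasDerivedCategory.standard
open Formal2

namespace Groth.Agent.S0814

open PrimeSpectrum Groth.Agent.FormalA.HVSec

section Alg

variable {A : Type u} [CommRing A]

theorem mk_eq_zero_iff {M : Type u} [AddCommGroup M] [Module A M] (S : Submonoid A) (a : M) (b : S) :
    LocalizedModule.mk a b = 0 ↔ ∃ c : S, c • a = 0 := by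
  rw [← LocalizedModule.zero_mk b, LocalizedModule.mk_eq]
  constructor
  · rintro ⟨c, hc⟩
    refine ⟨c * b, ?_⟩
    rw [smul_zero, smul_zero] at hc
    rw [mul_smul]
    exact hc
  · rintro ⟨c, hc⟩
    refine ⟨c, ?_⟩
    rw [smul_zero, smul_zero, smul_comm, hc, smul_zero]

theorem mul_self_sub {B : Type u} [CommRing B] [Algebra A B] (S : Submonoid A) (a : B) (b : S) :
    LocalizedModule.mk a b * LocalizedModule.mk a b - LocalizedModule.mk a b =
      (LocalizedModule.mk (a * a - (b : A) • a) (b * b) : LocalizedModule S B) := by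
  rw [LocalizedModule.mk_mul_mk, sub_eq_iff_eq_add]
  rw [← LocalizedModule.mk_cancel_common_left b b a, LocalizedModule.mk_add_mk, LocalizedModule.mk_eq]
  refine ⟨1, ?_⟩
  simp only [one_smul, Submonoid.smul_def, Submonoid.coe_mul, smul_sub, ← mul_smul, smul_add]
  rw [sub_add_cancel]

/-- The key computation for idempotents. -/
theorem sq_sub_mem {B : Type u} [CommRing B] [Algebra A B] (S : Submonoid A) (T : Submodule A B)
    (hT : ∀ t a : B, t ∈ T → t * a ∈ T) (a : B) (b : S)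
    (h : LocalizedModule.mk (T.mkQ a) b = 0 ∨ LocalizedModule.mk (T.mkQ a) b =
      (LocalizedModule.mk (T.mkQ 1) 1 : LocalizedModule S (B ⧸ T))) :
    (LocalizedModule.mk (T.mkQ (a * a - (b : A) • a)) (b * b) : LocalizedModule S (B ⧸ T)) = 0 := by
  rw [mk_eq_zero_iff]
  rcases h with h | h
  · rw [mk_eq_zero_iff] at h
    obtain ⟨c, hc⟩ := h
    refine ⟨c, ?_⟩
    rw [Submonoid.smul_def, ← map_smul, Submodule.mkQ_apply, Submodule.Quotient.mk_eq_zero] at hc ⊢
    have : (c : A) • (a * a - (b : A) • a) = ((c : A) • a) * a - (b : A) • ((c : A) • a) := by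
      rw [smul_sub, smul_mul_assoc, smul_comm (b : A)]
    rw [this]
    exact T.sub_mem (hT _ _ hc) (T.smul_mem _ hc)
  · rw [LocalizedModule.mk_eq] at h
    obtain ⟨c, hc⟩ := h
    refine ⟨c, ?_⟩
    rw [one_smul, Submonoid.smul_def, Submonoid.smul_def, Submonoid.smul_def, ← map_smul, ← map_smul,
      ← map_smul, ← sub_eq_zero, ← map_sub, Submodule.mkQ_apply, Submodule.Quotient.mk_eq_zero] at hc
    rw [Submonoid.smul_def, ← map_smul, Submodule.mkQ_apply, Submodule.Quotient.mk_eq_zero]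
    have : (c : A) • (a * a - (b : A) • a) = ((c : A) • a - (c : A) • (b : A) • (1 : B)) * a := by
      rw [smul_sub, sub_mul, smul_mul_assoc, smul_mul_assoc, smul_mul_assoc, one_mul]
    rw [this]
    exact hT _ _ hc

/-- An idempotent fraction at a prime is `0` or `1`. -/
theorem zero_or_one (p : PrimeSpectrum A) (a : A ⧸ nilradical A) (b : p.asIdeal.primeCompl)
    (h : (LocalizedModule.mk (a * a - (b : A) • a) (b * b) :
      LocalizedModule p.asIdeal.primeCompl (A ⧸ nilradical A)) = 0) :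
    (LocalizedModule.mk a b : LocalizedModule p.asIdeal.primeCompl (A ⧸ nilradical A)) = 0 ∨
    (LocalizedModule.mk a b : LocalizedModule p.asIdeal.primeCompl (A ⧸ nilradical A)) =
      LocalizedModule.mk 1 1 := by
  obtain ⟨a, rfl⟩ := Ideal.Quotient.mk_surjective a
  rw [mk_eq_zero_iff] at h
  obtain ⟨c, hc⟩ := h
  have hsm : ∀ (r x : A), r • Ideal.Quotient.mk (nilradical A) x = Ideal.Quotient.mk (nilradical A) (r * x) :=
    fun r x => rfl
  rw [Submonoid.smul_def, hsm, ← map_mul, ← map_sub, hsm] at hc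
  have hmem : (c : A) * (a * a - (b : A) * a) ∈ p.asIdeal :=
    nilradical_le_prime p.asIdeal (Ideal.Quotient.eq_zero_iff_mem.1 hc)
  by_cases ha : a ∈ p.asIdeal
  · left
    rw [mk_eq_zero_iff]
    have hab : a - b ∉ p.asIdeal := fun h' => b.2 (by
      have := p.asIdeal.sub_mem ha h'
      rwa [sub_sub_cancel] at this)
    refine ⟨c * ⟨a - b, hab⟩, ?_⟩
    rw [Submonoid.smul_def, hsm, Submonoid.coe_mul, ← hc]
    congr 1
    ring
  · right
    rw [LocalizedModule.mk_eq]
    refine ⟨c * ⟨a, ha⟩, ?_⟩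
    rw [one_smul, ← sub_eq_zero, ← smul_sub]
    have h1 : (b : A) • (1 : A ⧸ nilradical A) = Ideal.Quotient.mk (nilradical A) b := by
      rw [Algebra.smul_def, mul_one]; rfl
    rw [Submonoid.smul_def, Submonoid.smul_def, h1, ← map_sub, hsm, Submonoid.coe_mul, ← hc]
    congr 1
    ring

theorem mem_minimalPrimes_of_mem_associatedPrimes (p : Ideal A)
    (hp : p ∈ associatedPrimes A (A ⧸ nilradical A)) : p ∈ minimalPrimes A := by
  obtain ⟨hpp, x, hx⟩ := hp
  obtain ⟨x, rfl⟩ := Ideal.Quotient.mk_surjective x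
  have hxn : x ∉ nilradical A := by
    intro h
    apply hpp.ne_top
    rw [hx, Ideal.Quotient.eq_zero_iff_mem.2 h, Ideal.eq_top_iff_one]
    apply Ideal.le_radical
    rw [Submodule.mem_colon_singleton]
    simp
  obtain ⟨q, hq, hxq⟩ : ∃ q ∈ minimalPrimes A, x ∉ q := by
    by_contra h
    push Not at h
    apply hxn
    rw [nilradical, ← Ideal.sInf_minimalPrimes, Submodule.mem_sInf]
    exact h
  have hqp : q.IsPrime := hq.1.1
  have hle : p ≤ q := by
    intro a ha
    rw [hx] at ha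
    obtain ⟨n, hn⟩ := ha
    rw [Submodule.mem_colon_singleton, Submodule.mem_bot] at hn
    have h1 : Ideal.Quotient.mk (nilradical A) (a ^ n * x) = 0 := by
      rw [map_mul]
      exact hn
    have h2 : a ^ n * x ∈ q := by
      have : nilradical A ≤ q := nilradical_le_prime q
      exact this (Ideal.Quotient.eq_zero_iff_mem.1 h1)
    rcases hqp.mem_or_mem h2 with h3 | h3
    · exact hqp.mem_of_pow_mem n h3
    · exact absurd h3 hxq
  have : p = q := le_antisymm hle (hq.2 ⟨hpp, bot_le⟩ hle)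
  exact this ▸ hq

theorem mul_mem_smul_top (I : Ideal A) (t a : A ⧸ nilradical A)
    (ht : t ∈ (I • (⊤ : Submodule A (A ⧸ nilradical A)))) :
    t * a ∈ (I • (⊤ : Submodule A (A ⧸ nilradical A))) := by
  obtain ⟨a, rfl⟩ := Ideal.Quotient.mk_surjective a
  have : t * Ideal.Quotient.mk _ a = a • t := by
    rw [Algebra.smul_def, mul_comm]; rfl
  rw [this]
  exact Submodule.smul_mem _ _ ht

end Alg

open AlgebraicGeometry in
/-- Stacks Tag 0EG5. Let I ⊆ 𝔞 be ideals of a Noetherian ring A which is complete for the I-adic topology and admits a dualizing complex, and let d bound the cohomological dimension of I. Assume that for every minimal prime 𝔭 of A not containing I and every prime 𝔮 ⊇ 𝔭 + 𝔞 the dimension of (A/𝔭)_𝔮 exceeds d + 1, and that every nonempty open subset of Spec A containing V(I) ∖ V(𝔞) is connected. Then V(I) ∖ V(𝔞) is empty or connected. -/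
theorem result (A : Type u) [CommRing A] [IsNoetherianRing A]
    (I 𝔞 : Ideal A) (hI : I ≤ 𝔞) [IsAdicComplete I A] (hω : ∃ ω : Dual.D A, Dual.IsDualizing A ω)
    (d : ℕ) (hd : LocCoh.CdLE A I d)
    (h₂ : ∀ p ∈ minimalPrimes A, ¬ I ≤ p →
      ∀ (q : Ideal A) [q.IsPrime], p ≤ q → 𝔞 ≤ q → ((d + 1 : ℕ) : WithBot ℕ∞) < Formal2.dimBetween A p q)
    (h₃ : ∀ V : Set (PrimeSpectrum A), IsOpen V → V.Nonempty →
      PrimeSpectrum.zeroLocus (I : Set A) \ PrimeSpectrum.zeroLocus (𝔞 : Set A) ⊆ V → _root_.IsConnected V) :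
    _root_.IsPreconnected (PrimeSpectrum.zeroLocus (I : Set A) \ PrimeSpectrum.zeroLocus (𝔞 : Set A)) := by
  classical
  rw [isPreconnected_closed_iff]
  intro t1 t2 ht1 ht2 hcov hne1 hne2
  by_contra hemp
  rw [Set.not_nonempty_iff_eq_empty] at hemp
  set C : Set (PrimeSpectrum A) := zeroLocus (I : Set A) \ zeroLocus (𝔞 : Set A) with hC
  let B : Type u := A ⧸ nilradical A
  let T : ℕ → Submodule A B := fun n => I ^ (n + 1) • (⊤ : Submodule A B)
  have hTmul : ∀ n (t a : B), t ∈ T n → t * a ∈ T n := fun n t a ht => mul_mem_smul_top _ t a ht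
  have hone : ∀ (n : ℕ) (p : PrimeSpectrum A) (c : A), p ∈ zeroLocus (I : Set A) →
      c • (1 : B) ∈ T n → c ∈ p.asIdeal := by
    intro n p c hp hc
    let φ : B →ₗ[A] (A ⧸ p.asIdeal) := Submodule.factor (nilradical_le_prime p.asIdeal)
    have h1 : Submodule.map φ (T n) ≤ ⊥ := by
      rw [Submodule.map_smul'', Submodule.smul_le]
      intro r hr m _
      obtain ⟨m, rfl⟩ := Submodule.Quotient.mk_surjective _ m
      rw [Submodule.mem_bot, ← Submodule.Quotient.mk_smul, Submodule.Quotient.mk_eq_zero]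
      have : r ∈ p.asIdeal := hp (Ideal.pow_le_self (Nat.succ_ne_zero n) hr)
      exact Ideal.mul_mem_right _ _ this
    have h2 : φ (c • (1 : B)) = 0 := h1 (Submodule.mem_map_of_mem hc)
    have h3 : φ (c • (1 : B)) = Ideal.Quotient.mk p.asIdeal c := by
      have : c • (1 : B) = Submodule.Quotient.mk c := by
        rw [Algebra.smul_def, mul_one]; rfl
      rw [this]; rfl
    rw [h3] at h2
    exact Ideal.Quotient.eq_zero_iff_mem.1 h2
  have h804 := Groth.Agent.S0804.result A I 𝔞 hI hω d hd B (by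
    intro p hp _ hIp _ q _ hpq haq
    exact h₂ p (mem_minimalPrimes_of_mem_associatedPrimes p hp) hIp q hpq haq)
  set U := LocCoh.puncturedOpen A 𝔞 with hU
  have hmemU : ∀ p : PrimeSpectrum A, p ∈ U ↔ p ∉ zeroLocus (𝔞 : Set A) := fun p => Iff.rfl
  -- the sections `y n`
  have hy : ∀ n : ℕ, ∃ s : Sec A (Formal2.quotPow A I B n) U, ∀ (p : PrimeSpectrum A) (hp : p ∈ U),
      val s p hp = if p ∈ zeroLocus (I : Set A) ∩ t1 then
        LocalizedModule.mk (Formal2.quotPowπ A I B n 1) 1 else 0 := by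
    intro n
    refine exists_sec U _ ?_
    intro p hp
    by_cases hp2 : p ∈ zeroLocus (I : Set A) ∩ t2
    · have hcl : IsClosed (zeroLocus (I : Set A) ∩ t1) := (isClosed_zeroLocus _).inter ht1
      refine ⟨⟨_, hcl.isOpen_compl⟩, ?_, 0, 1, ?_⟩
      · intro hp1
        have : p ∈ (∅ : Set (PrimeSpectrum A)) := hemp ▸ ⟨⟨hp2.1, hp⟩, hp1.2, hp2.2⟩
        exact this
      · intro q hq hq'
        refine ⟨fun h => q.2.ne_top ((Ideal.eq_top_iff_one _).2 h), ?_⟩
        rw [if_neg hq, LocalizedModule.zero_mk]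
    · have hcl : IsClosed (zeroLocus (I : Set A) ∩ t2) := (isClosed_zeroLocus _).inter ht2
      refine ⟨⟨_, hcl.isOpen_compl⟩, hp2, Formal2.quotPowπ A I B n 1, 1, ?_⟩
      intro q hq hq'
      refine ⟨fun h => q.2.ne_top ((Ideal.eq_top_iff_one _).2 h), ?_⟩
      by_cases hq1 : q ∈ zeroLocus (I : Set A) ∩ t1
      · rw [if_pos hq1]; rfl
      · rw [if_neg hq1]
        symm
        have hqI : q ∉ zeroLocus (I : Set A) := by
          intro hqI
          rcases hcov ⟨hqI, hq'⟩ with h | h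
          · exact hq1 ⟨hqI, h⟩
          · exact hq ⟨hqI, h⟩
        obtain ⟨c, hcI, hcq⟩ := Set.not_subset.1 hqI
        rw [mk_eq_zero_iff]
        refine ⟨⟨c ^ (n + 1), q.asIdeal.primeCompl.pow_mem hcq _⟩, ?_⟩
        change c ^ (n + 1) • Submodule.Quotient.mk (1 : B) = (0 : Formal2.quotPow A I B n)
        rw [← Submodule.Quotient.mk_smul, Submodule.Quotient.mk_eq_zero]
        exact Submodule.smul_mem_smul (Ideal.pow_mem_pow hcI _) trivial
  choose ys hys using hy
  let y : ∀ n, Formal2.HV A (Formal2.quotPow A I B n) 0 U := fun n => (toSec A _ U).symm (ys n)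
  have hyv : ∀ n (p : PrimeSpectrum A) (hp : p ∈ U),
      val (toSec A _ U (y n)) p hp = if p ∈ zeroLocus (I : Set A) ∩ t1 then
        LocalizedModule.mk (Formal2.quotPowπ A I B n 1) 1 else 0 := by
    intro n p hp
    rw [← hys n p hp]
    exact congrArg (fun s => val s p hp) ((toSec A _ U).apply_symm_apply (ys n))
  have hcomp : ∀ n, Formal2.HVmap A (Formal2.quotPowTrans A I B n) 0 U (y (n + 1)) = y n := by
    intro n
    apply (toSec A _ U).injective
    apply ext_val
    intro p hp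
    rw [hyv n p hp]
    by_cases h : p ∈ zeroLocus (I : Set A) ∩ t1
    · rw [if_pos h]
      exact val_map (Formal2.quotPowTrans A I B n) U (y (n + 1)) p hp _ _
        (by rw [hyv (n + 1) p hp, if_pos h])
    · rw [if_neg h, ← LocalizedModule.zero_mk 1]
      refine (val_map (Formal2.quotPowTrans A I B n) U (y (n + 1)) p hp 0 1
        (by rw [hyv (n + 1) p hp, if_neg h, LocalizedModule.zero_mk])).trans ?_
      rw [map_zero]
  obtain ⟨V, hV, x, hx⟩ := h804.2 y hcomp
  -- the section `x ^ 2 - x`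
  let s : Sec A B V := toSec A B V x
  have hxval : ∀ n (p : PrimeSpectrum A) (hp : p ∈ V) (a : B) (b : p.asIdeal.primeCompl),
      val s p hp = LocalizedModule.mk a b →
      LocalizedModule.mk (Formal2.quotPowπ A I B n a) b = if p ∈ zeroLocus (I : Set A) ∩ t1 then
        LocalizedModule.mk (Formal2.quotPowπ A I B n 1) 1 else 0 := by
    intro n p hp a b hab
    rw [← hyv n p (hV.1 hp), ← val_res hV.1 (y n) p hp, hx n]
    exact (val_map _ V x p hp a b hab).symm
  let z : Formal2.HV A B 0 V := (toSec A B V).symm (s * s - s)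
  have hz : toSec A B V z = s * s - s := (toSec A B V).apply_symm_apply _
  have hzval : ∀ (p : PrimeSpectrum A) (hp : p ∈ V) (a : B) (b : p.asIdeal.primeCompl),
      val s p hp = LocalizedModule.mk a b →
      val (toSec A B V z) p hp = LocalizedModule.mk (a * a - (b : A) • a) (b * b) := by
    intro p hp a b hab
    rw [hz]
    have h1 : val (s * s - s) p hp = val s p hp * val s p hp - val s p hp := rfl
    rw [h1, hab]
    exact mul_self_sub _ a b
  have hz0 : ∀ n, Formal2.HVmap A (Formal2.quotPowπ A I B n) 0 V z = 0 := by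
    intro n
    apply (toSec A _ V).injective
    rw [toSec_zero]
    apply ext_val
    intro p hp
    obtain ⟨W, hpW, -, a, b, hab⟩ := exists_fraction s p hp
    obtain ⟨hb, hab⟩ := hab p hpW hp
    have h1 := hxval n p hp a ⟨b, hb⟩ hab
    refine (val_map (Formal2.quotPowπ A I B n) V z p hp _ _ (hzval p hp a ⟨b, hb⟩ hab)).trans ?_
    refine sq_sub_mem _ (T n) (hTmul n) a ⟨b, hb⟩ ?_
    by_cases h : p ∈ zeroLocus (I : Set A) ∩ t1
    · rw [if_pos h] at h1
      exact Or.inr h1
    · rw [if_neg h] at h1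
      exact Or.inl h1
  obtain ⟨V', ⟨hV', hV'V⟩, hres⟩ := h804.1 V hV z hz0
  have hidem : ∀ (p : PrimeSpectrum A) (hp : p ∈ V') (a : B) (b : p.asIdeal.primeCompl),
      val s p (hV'V hp) = LocalizedModule.mk a b → LocalizedModule.mk (a * a - (b : A) • a) (b * b) = 0 := by
    intro p hp a b hab
    rw [← hzval p (hV'V hp) a b hab, ← val_res hV'V z p hp, hres, toSec_zero]
    rfl
  have h01 : ∀ (p : PrimeSpectrum A) (hp : p ∈ V'), val s p (hV'V hp) = 0 ∨
      val s p (hV'V hp) = LocalizedModule.mk 1 1 := by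
    intro p hp
    obtain ⟨W, hpW, -, a, b, hab⟩ := exists_fraction s p (hV'V hp)
    obtain ⟨hb, hab⟩ := hab p hpW (hV'V hp)
    rw [hab]
    exact zero_or_one p a ⟨b, hb⟩ (hidem p hp a ⟨b, hb⟩ hab)
  -- openness
  have hopen : ∀ e : B, IsOpen {p : PrimeSpectrum A | ∃ hp : p ∈ V', val s p (hV'V hp) =
      LocalizedModule.mk e 1} := by
    intro e
    rw [isOpen_iff_mem_nhds]
    rintro p ⟨hp, hpe⟩
    obtain ⟨W, hpW, -, a, b, hab⟩ := exists_fraction s p (hV'V hp)
    obtain ⟨hb, hab'⟩ := hab p hpW (hV'V hp)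
    rw [hab', LocalizedModule.mk_eq] at hpe
    obtain ⟨c, hc⟩ := hpe
    refine Filter.mem_of_superset (((W ⊓ V' ⊓ basicOpen (c : A)).isOpen).mem_nhds ⟨⟨hpW, hp⟩, c.2⟩) ?_
    rintro q ⟨⟨hqW, hqV'⟩, hqc⟩
    refine ⟨hqV', ?_⟩
    obtain ⟨hbq, habq⟩ := hab q hqW (hV'V hqV')
    rw [habq, LocalizedModule.mk_eq]
    exact ⟨⟨c, hqc⟩, hc⟩
  have hcon : _root_.IsConnected {p : PrimeSpectrum A | p ∈ V'} := by
    refine h₃ _ V'.2 ?_ ?_
    · obtain ⟨p, hp, -⟩ := hne1
      exact ⟨p, hV'.2 p hp.2 hp.1⟩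
    · intro p hp
      exact hV'.2 p hp.2 hp.1
  obtain ⟨p1, hp1, hp1t⟩ := hne1
  obtain ⟨p2, hp2, hp2t⟩ := hne2
  have hp1V : p1 ∈ V' := hV'.2 p1 hp1.2 hp1.1
  have hp2V : p2 ∈ V' := hV'.2 p2 hp2.2 hp2.1
  have hne0 : ∀ p ∈ zeroLocus (I : Set A), (LocalizedModule.mk (Formal2.quotPowπ A I B 0 1) 1 :
      LocalizedModule p.asIdeal.primeCompl (Formal2.quotPow A I B 0)) ≠ 0 := by
    intro p hp h
    rw [mk_eq_zero_iff] at h
    obtain ⟨c, hc⟩ := h
    rw [Submonoid.smul_def, ← map_smul, Submodule.mkQ_apply, Submodule.Quotient.mk_eq_zero] at hc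
    exact c.2 (hone 0 p c hp hc)
  have hv1 : val s p1 (hV'V hp1V) = LocalizedModule.mk 1 1 := by
    refine (h01 p1 hp1V).resolve_left (fun h => ?_)
    have h2 := hxval 0 p1 (hV'V hp1V) 0 1 (by rw [h, LocalizedModule.zero_mk])
    rw [if_pos ⟨hp1.1, hp1t⟩, map_zero, LocalizedModule.zero_mk] at h2
    exact hne0 p1 hp1.1 h2.symm
  have hv2 : val s p2 (hV'V hp2V) = LocalizedModule.mk 0 1 := by
    rw [LocalizedModule.zero_mk]
    refine (h01 p2 hp2V).resolve_right (fun h => ?_)
    have h2 := hxval 0 p2 (hV'V hp2V) 1 1 h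
    rw [if_neg (fun h => by
      have : p2 ∈ (∅ : Set (PrimeSpectrum A)) := hemp ▸ ⟨hp2, h.2, hp2t⟩
      exact this)] at h2
    exact hne0 p2 hp2.1 h2
  obtain ⟨q, hqV, ⟨hq1, hq1'⟩, ⟨hq2, hq2'⟩⟩ := hcon.isPreconnected _ _ (hopen 1) (hopen 0) (by
      intro p hp
      rcases h01 p hp with h | h
      · exact Or.inr ⟨hp, by rw [h, LocalizedModule.zero_mk]⟩
      · exact Or.inl ⟨hp, h⟩) ⟨p1, hp1V, hp1V, hv1⟩ ⟨p2, hp2V, hp2V, hv2⟩
  rw [hq1', LocalizedModule.mk_eq] at hq2'
  obtain ⟨c, hc⟩ := hq2'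
  rw [one_smul, smul_zero, smul_zero] at hc
  have : c.1 • (1 : B) = Ideal.Quotient.mk (nilradical A) c.1 := by
    rw [Algebra.smul_def, mul_one]; rfl
  rw [Submonoid.smul_def, this] at hc
  exact c.2 (nilradical_le_prime q.asIdeal (Ideal.Quotient.eq_zero_iff_mem.1 hc))

end Groth.Agent.S0814
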