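import Groth.Statements.S0820
-- import your own Groth.Agent.* helpers here
import Groth.Agent.S0019
import Groth.Agent.Ega1.ReducedSub
import Groth.Agent.Fdesc.QCohStalk
import Groth.Agent.Fdesc.StructMod

set_option autoImplicit false
universe u
open Coherent

namespace Groth.Agent.S0820

section

open CategoryTheory AlgebraicGeometry Opposite TopologicalSpace

/-- `g : W ⟶ X` with `W` reduced, `w ∈ W` in every nonempty open: functions non-invertible at `g w` pull back
to zero. -/
theorem app_eq_zero {W X : Scheme.{u}} [IsReduced W] (g : W ⟶ X) (w : W)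
    (hw : ∀ V : W.Opens, (V : Set W).Nonempty → w ∈ V) (V : X.Opens) (hV : g w ∈ V)
    (a : Γ(X, V)) (ha : X.presheaf.germ V (g w) hV a ∈ IsLocalRing.maximalIdeal (X.presheaf.stalk (g w))) :
    g.app V a = 0 := by
  rw [← basicOpen_eq_bot_iff, ← Scheme.preimage_basicOpen]
  by_contra hne
  have h1 : w ∈ g ⁻¹ᵁ X.basicOpen a := hw _ (by
    rw [Set.nonempty_iff_ne_empty]
    intro h
    exact hne (Opens.ext h))
  have h2 : g w ∈ X.basicOpen a := h1
  rw [X.mem_basicOpen a (g w) hV] at h2
  exact ha h2

/-- The stalk of `g_* O_W` at `g w` is killed by the maximal ideal. -/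
theorem smul_eq_zero {W X : Scheme.{u}} [IsReduced W] (g : W ⟶ X) (w : W)
    (hw : ∀ V : W.Opens, (V : Set W).Nonempty → w ∈ V)
    (a : X.presheaf.stalk (g w)) (ha : a ∈ IsLocalRing.maximalIdeal (X.presheaf.stalk (g w)))
    (m : ↑(((Coh.push g).obj (Coh.structureModule W)).presheaf.stalk (g w))) : a • m = 0 := by
  obtain ⟨V, hV, a', rfl⟩ := X.presheaf.exists_germ_eq a
  obtain ⟨V', hV', m', rfl⟩ := TopCat.Presheaf.exists_germ_eq
    ((Coh.push g).obj (Coh.structureModule W)).presheaf m
  have hx : g w ∈ V ⊓ V' := ⟨hV, hV'⟩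
  have e1 := Fdesc.QCohStalk.ring_germ_map (X := X) (inf_le_left : V ⊓ V' ≤ V) (g w) hx a'
  have e2 := Fdesc.QCohStalk.germ_map ((Coh.push g).obj (Coh.structureModule W))
    (inf_le_right : V ⊓ V' ≤ V') (g w) hx m'
  rw [← e1, ← e2, ← Fdesc.QCohStalk.germ_smul']
  have e3 : g.app (V ⊓ V') (X.presheaf.map (homOfLE (inf_le_left : V ⊓ V' ≤ V)).op a') = 0 := by
    refine app_eq_zero g w hw _ hx _ ?_
    rw [e1]
    exact ha
  have e4 : (X.presheaf.map (homOfLE (inf_le_left : V ⊓ V' ≤ V)).op a') •
      (((Coh.push g).obj (Coh.structureModule W)).presheaf.map (homOfLE (inf_le_right : V ⊓ V' ≤ V')).op m') =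
      0 := by
    change (show Γ(W, g ⁻¹ᵁ (V ⊓ V')) from
      g.app (V ⊓ V') (X.presheaf.map (homOfLE (inf_le_left : V ⊓ V' ≤ V)).op a')) •
      (show Γ(Coh.structureModule W, g ⁻¹ᵁ (V ⊓ V')) from
        ((Coh.push g).obj (Coh.structureModule W)).presheaf.map (homOfLE (inf_le_right : V ⊓ V' ≤ V')).op m') = 0
    rw [e3]
    exact zero_smul _ _
  rw [e4]
  exact map_zero _

/-- The support of `g_* O_W` is the image of `g` if this is closed. -/
theorem support_eq {W X : Scheme.{u}} (g : W ⟶ X) (hg : IsClosed (Set.range g)) :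
    CohB1.support ((Coh.push g).obj (Coh.structureModule W)) = Set.range g := by
  ext x
  constructor
  · intro hx
    by_contra hne
    apply hx
    let V : X.Opens := ⟨(Set.range g)ᶜ, hg.isOpen_compl⟩
    refine ⟨fun s t => ?_⟩
    have key : ∀ s : ↑(((Coh.push g).obj (Coh.structureModule W)).presheaf.stalk x), s = 0 := by
      intro s
      obtain ⟨V', hV', m', rfl⟩ := TopCat.Presheaf.exists_germ_eq
        ((Coh.push g).obj (Coh.structureModule W)).presheaf s
      have hx' : x ∈ V ⊓ V' := ⟨hne, hV'⟩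
      have e2 := Fdesc.QCohStalk.germ_map ((Coh.push g).obj (Coh.structureModule W))
        (inf_le_right : V ⊓ V' ≤ V') x hx' m'
      rw [← e2]
      have hb : g ⁻¹ᵁ (V ⊓ V') = ⊥ := by
        ext z
        simp only [Opens.coe_bot, Set.mem_empty_iff_false, iff_false]
        intro hz
        exact hz.1 ⟨z, rfl⟩
      have hs : Subsingleton Γ(W, g ⁻¹ᵁ (V ⊓ V')) := by
        rw [hb]
        infer_instance
      have e5 : ((Coh.push g).obj (Coh.structureModule W)).presheaf.map
          (homOfLE (inf_le_right : V ⊓ V' ≤ V')).op m' = 0 := hs.elim _ _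
      rw [e5]
      exact map_zero _
    rw [key s, key t]
  · rintro ⟨z, rfl⟩ hs
    have h1 : ((Coh.push g).obj (Coh.structureModule W)).presheaf.germ ⊤ (g z) trivial
        (show Γ(W, g ⁻¹ᵁ ⊤) from 1) = ((Coh.push g).obj (Coh.structureModule W)).presheaf.germ ⊤ (g z) trivial 0 :=
      hs.elim _ _
    obtain ⟨V, hV, i1, i2, h2⟩ := TopCat.Presheaf.germ_eq _ _ _ _ _ _ h1
    have h3 : (1 : Γ(W, g ⁻¹ᵁ V)) = 0 := by
      have h4 : (W.presheaf.map ((Opens.map g.base).map i1).op) (1 : Γ(W, g ⁻¹ᵁ ⊤)) =
        (W.presheaf.map ((Opens.map g.base).map i2).op) (0 : Γ(W, g ⁻¹ᵁ ⊤)) := h2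
      rwa [map_one, map_zero] at h4
    have h5 : W.basicOpen (1 : Γ(W, g ⁻¹ᵁ V)) = ⊥ := by
      rw [h3]
      simp
    have h6 : z ∈ W.basicOpen (1 : Γ(W, g ⁻¹ᵁ V)) := by
      rw [Scheme.basicOpen_of_isUnit _ isUnit_one]
      exact hV
    rw [h5] at h6
    exact h6

end

open CategoryTheory AlgebraicGeometry in
/-- Stacks Tag 01YO. Let f : Y → X be finite and surjective with X locally Noetherian, and let i : Z → X be a closed immersion from an integral scheme, ξ the image of the generic point of Z. Then some coherent O_Y-module F has f_* F supported exactly on i(Z), with the stalk of f_* F at ξ annihilated by the maximal ideal of the local ring of X at ξ. -/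
theorem result {Y X : Scheme.{u}} (f : Y ⟶ X) [IsFinite f]
    [Surjective f] [IsLocallyNoetherian X] (Z : Scheme.{u}) (i : Z ⟶ X) [IsClosedImmersion i] [IsIntegral Z] :
    ∃ F : Y.Modules, Coh.IsCoh F ∧ CohB1.support ((Coh.push f).obj F) = Set.range ⇑i ∧
      ∀ a ∈ IsLocalRing.maximalIdeal (X.presheaf.stalk (i (genericPoint Z))),
        ∀ m : ↑(((Coh.push f).obj F).presheaf.stalk (i (genericPoint Z))), a • m = 0 := by
  obtain ⟨y, hy⟩ := f.surjective (i (genericPoint Z))
  let C : TopologicalSpace.Closeds Y := ⟨closure {y}, isClosed_closure⟩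
  let I := Scheme.IdealSheafData.vanishingIdeal C
  have hred : IsReduced I.subscheme := Groth.Agent.Ega1.ReducedSub.isReduced_subscheme_vanishingIdeal C
  let j := I.subschemeι
  have hj : Set.range j = closure {y} := by
    rw [Scheme.IdealSheafData.range_subschemeι, Scheme.IdealSheafData.coe_support_vanishingIdeal]
    rfl
  obtain ⟨w, hw⟩ : y ∈ Set.range j := by
    rw [hj]
    exact subset_closure rfl
  have hwV : ∀ V : I.subscheme.Opens, (V : Set I.subscheme).Nonempty → w ∈ V := by
    rintro V ⟨z, hz⟩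
    obtain ⟨V', hV', hVV'⟩ := j.isClosedEmbedding.isEmbedding.isOpen_iff.mp V.2
    have hz' : j z ∈ V' := by
      have hz3 : z ∈ V.carrier := hz
      rw [← hVV'] at hz3
      exact hz3
    have hz2 : j z ∈ closure {y} := hj ▸ ⟨z, rfl⟩
    have hyV : y ∈ V' := by
      obtain ⟨y', hy', hyy⟩ := mem_closure_iff.mp hz2 V' hV' hz'
      rw [Set.mem_singleton_iff] at hyy
      exact hyy ▸ hy'
    change w ∈ V.carrier
    rw [← hVV']
    change j w ∈ V'
    rw [hw]
    exact hyV
  have hY : IsLocallyNoetherian Y := LocallyOfFiniteType.isLocallyNoetherian f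
  have hgw : i (genericPoint Z) = (j ≫ f) w := by
    rw [Scheme.Hom.comp_apply, hw, hy]
  have hrange : Set.range (j ≫ f) = Set.range i := by
    have h1 : Set.range (j ≫ f) = f '' Set.range j := by
      rw [← Set.range_comp]
      rfl
    have h2 : closure (f '' {y}) = f '' closure {y} :=
      f.isClosedMap.closure_image_eq_of_continuous f.continuous {y}
    have h3 : closure (i '' {genericPoint Z}) = i '' closure {genericPoint Z} :=
      i.isClosedEmbedding.isClosedMap.closure_image_eq_of_continuous i.continuous {genericPoint Z}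
    rw [h1, hj, ← h2, Set.image_singleton, hy, ← Set.image_singleton (f := i), h3, genericPoint_closure,
      Set.image_univ]
  refine ⟨(Coh.push j).obj (Coh.structureModule I.subscheme),
    Groth.Agent.S0019.result j _ (Groth.Agent.Fdesc.StructMod.isCoh_structureModule _), ?_, ?_⟩
  · refine Eq.trans ?_ hrange
    exact support_eq (j ≫ f) (by rw [hrange]; exact i.isClosedEmbedding.isClosed_range)
  · have key : ∀ x : X, x = (j ≫ f) w → ∀ a ∈ IsLocalRing.maximalIdeal (X.presheaf.stalk x),
        ∀ m : ↑(((Coh.push f).obj ((Coh.push j).obj (Coh.structureModule I.subscheme))).presheaf.stalk x),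
          a • m = 0 := by
      rintro _ rfl a ha m
      exact smul_eq_zero (j ≫ f) w hwV a ha m
    exact key _ hgw

end Groth.Agent.S0820
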