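import Groth.Statements.S0822
import Groth.Agent.FormalB.PuncAlg
import Groth.Agent.FormalB.PuncDelta
import Groth.Agent.FormalB.LocFreeTheta
import Groth.Agent.FormalB.MonoMu

set_option autoImplicit false
universe u
open Formal2

namespace Groth.Agent.S0822

section Aux

open CategoryTheory CategoryTheory.Limits AlgebraicGeometry Opposite TopologicalSpace
open Groth.Agent.FormalB.ModPow Groth.Agent.FormalB.PuncTheta Groth.Agent.FormalB.PuncTheta2
open Groth.Agent.FormalB.FreeUpTo Groth.Agent.FormalB.HMod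

variable {A : Type u} [CommRing A]

/-- A finite cover adapted to a module which is locally free. -/
theorem exists_cover (U : (Spec (CommRingCat.of A)).Opens)
    (hU : IsCompact (U : Set (Spec (CommRingCat.of A)))) (P : A → ℕ → Prop)
    (h : ∀ x ∈ U, ∃ g : A, x ∈ D g ∧ D g ≤ U ∧ ∃ r : ℕ, P g r) :
    ∃ (m : ℕ) (g : Fin m → A) (r : Fin m → ℕ), (∀ x ∈ U, ∃ i, x ∈ D (g i)) ∧
      ∀ i, P (g i) (r i) := by
  classical
  have h1 : ∀ x : (U : Set (Spec (CommRingCat.of A))), ∃ (g : A) (r : ℕ), x.1 ∈ D g ∧ P g r :=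
    fun x => by
      obtain ⟨g, hxg, -, r, hr⟩ := h x.1 x.2
      exact ⟨g, r, hxg, hr⟩
  choose g r hxg hr using h1
  obtain ⟨t, ht⟩ := hU.elim_finite_subcover (fun x => (D (g x) : Set (Spec (CommRingCat.of A))))
    (fun x => (D (g x)).2) (fun x hx => Set.mem_iUnion.2 ⟨⟨x, hx⟩, hxg ⟨x, hx⟩⟩)
  refine ⟨t.card, fun i => g (t.equivFin.symm i), fun i => r (t.equivFin.symm i), ?_,
    fun i => hr _⟩
  intro x hx
  obtain ⟨y, hy, hxy⟩ := Set.mem_iUnion₂.1 (ht hx)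
  refine ⟨t.equivFin ⟨y, hy⟩, ?_⟩
  dsimp only
  rw [Equiv.symm_apply_apply]
  exact hxy

/-- Finiteness of `H^0` and `H^1` of a finite locally free module over `O_U/f`. -/
theorem finite_of_locFree [IsNoetherianRing A] (𝔞 : Ideal A) (I : Ideal A)
    (h₁ : Module.Finite A (LocCoh.H 𝔞 1 (A ⧸ I))) (h₂ : Module.Finite A (LocCoh.H 𝔞 2 (A ⧸ I)))
    (G : (↑(LocCoh.puncturedOpen A 𝔞) : Scheme.{u}).Modules) (hG : Coh.IsCoh G)
    (hfree : Formal2.IsFinLocFreeMod I 1 G) :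
    Module.Finite A ((HM A (LocCoh.puncturedOpen A 𝔞 : Scheme.{u}) 0).obj G) ∧
      Module.Finite A ((HM A (LocCoh.puncturedOpen A 𝔞 : Scheme.{u}) 1).obj G) := by
  have hU : IsCompact (LocCoh.puncturedOpen A 𝔞 : Set (Spec (CommRingCat.of A))) :=
    Groth.Agent.FormalA.InjSec.isCompact_opens _
  obtain ⟨N, _, _, hN, ⟨e⟩⟩ := exists_finite_iso _ hU G hG
  have hNp : Module.FinitePresentation A N := Module.finitePresentation_of_finite A N
  have hB : Module.FinitePresentation A (A ⧸ I ^ 1) := Module.finitePresentation_of_finite A _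
  obtain ⟨m, g, r, hg, hfr⟩ := exists_cover (LocCoh.puncturedOpen A 𝔞) hU
    (fun g r => IsFreeUpTo g (A ⧸ I ^ 1) N (Fin r))
    (FormalB.LocFreeTheta.exists_isFreeUpTo _ I 1 G hfree e)
  have hfr' : ∀ i, IsFreeUpTo (g i) (A ⧸ I) N (Fin (r i)) := by
    rw [pow_one] at hfr
    exact hfr
  have hB0 := FormalB.PuncDelta.finite_HH_zero 𝔞 (A ⧸ I) h₁
  have hB1 := FormalB.PuncDelta.finite_HH_one 𝔞 (A ⧸ I) h₂
  have h0 := FormalB.DeltaFin.finite_zero (LocCoh.puncturedOpen A 𝔞)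
    (FormalB.HHDelta.hhDelta (LocCoh.puncturedOpen A 𝔞 : Scheme.{u}) A)
    (fun φ _ => FormalB.GamZero.hh_zero_injective (LocCoh.puncturedOpen A 𝔞) φ)
    g hg (fun i => Fin (r i)) (fun i => inferInstance) hfr' hB0
  have h1 := FormalB.DeltaFin.finite_one (LocCoh.puncturedOpen A 𝔞)
    (FormalB.HHDelta.hhDelta (LocCoh.puncturedOpen A 𝔞 : Scheme.{u}) A)
    (fun φ _ => FormalB.GamZero.hh_zero_injective (LocCoh.puncturedOpen A 𝔞) φ)
    g hg (fun i => Fin (r i)) (fun i => inferInstance) hfr' hB0 hB1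
  refine ⟨?_, ?_⟩
  · exact @Module.Finite.equiv A ((HM A (LocCoh.puncturedOpen A 𝔞 : Scheme.{u}) 0).obj
      ((Theta (LocCoh.puncturedOpen A 𝔞)).obj (ModuleCat.of A N))) _ _ _ _ _ _ h0
      ((HM A (LocCoh.puncturedOpen A 𝔞 : Scheme.{u}) 0).mapIso e).toLinearEquiv
  · exact @Module.Finite.equiv A ((HM A (LocCoh.puncturedOpen A 𝔞 : Scheme.{u}) 1).obj
      ((Theta (LocCoh.puncturedOpen A 𝔞)).obj (ModuleCat.of A N))) _ _ _ _ _ _ h1
      ((HM A (LocCoh.puncturedOpen A 𝔞 : Scheme.{u}) 1).mapIso e).toLinearEquiv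

/-- `H^1(U, G)` is `𝔞`-power torsion. -/
theorem torsion_of_coh [IsNoetherianRing A] (𝔞 : Ideal A)
    (G : (↑(LocCoh.puncturedOpen A 𝔞) : Scheme.{u}).Modules) (hG : Coh.IsCoh G)
    (x : (HM A (LocCoh.puncturedOpen A 𝔞 : Scheme.{u}) 1).obj G) :
    ∃ k : ℕ, ∀ a ∈ 𝔞 ^ k, a • x = 0 := by
  have hU : IsCompact (LocCoh.puncturedOpen A 𝔞 : Set (Spec (CommRingCat.of A))) :=
    Groth.Agent.FormalA.InjSec.isCompact_opens _
  obtain ⟨N, _, _, hN, ⟨e⟩⟩ := exists_finite_iso _ hU G hG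
  let E := ((HM A (LocCoh.puncturedOpen A 𝔞 : Scheme.{u}) 1).mapIso e).toLinearEquiv
  obtain ⟨k, hk⟩ := FormalB.PuncDelta.torsion_HH_one 𝔞 N (E.symm x)
  refine ⟨k, fun a ha => ?_⟩
  have h1 : a • E.symm x = 0 := hk a ha
  rw [← E.apply_symm_apply x, ← map_smul, h1, map_zero]

theorem not_le (𝔞 : Ideal A) (x : Spec (CommRingCat.of A))
    (hx : x ∈ LocCoh.puncturedOpen A 𝔞) : ¬ 𝔞 ≤ (show PrimeSpectrum A from x).asIdeal := by
  intro h
  exact hx h

end Aux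

open CategoryTheory AlgebraicGeometry Opposite in
/-- Stacks Tag 0DXW, in the form of its final sentence (A complete). Let A be a Noetherian ring, 𝔞 an ideal, f ∈ 𝔞 a nonzerodivisor with A f-adically complete, and suppose H^1_𝔞(A/fA) and H^2_𝔞(A/fA) are finite A-modules. Let U = Spec A ∖ V(𝔞) and let (F_n) be a coherent formal module on U for the ideal (f) (indices shifted by one) with each F_n finite locally free over O_U/f^nO_U. Then (F_n) is isomorphic to the system (F/f^nF) of a coherent O_U-module F. -/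
theorem result (A : Type u) [CommRing A] [IsNoetherianRing A]
    (𝔞 : Ideal A) (f : A) (hf : f ∈ 𝔞) (hnzd : f ∈ nonZeroDivisors A) [IsAdicComplete (Ideal.span {f}) A]
    (h₁ : Module.Finite A (LocCoh.H 𝔞 1 (A ⧸ Ideal.span {f})))
    (h₂ : Module.Finite A (LocCoh.H 𝔞 2 (A ⧸ Ideal.span {f})))
    (G : ℕᵒᵖ ⥤ (↑(LocCoh.puncturedOpen A 𝔞) : Scheme.{u}).Modules) (hG : Formal.IsCohFormal (Ideal.span {f}) G)
    (hfree : ∀ n : ℕ, Formal2.IsFinLocFreeMod (Ideal.span {f}) (n + 1) (G.obj (op n))) :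
    ∃ F : (↑(LocCoh.puncturedOpen A 𝔞) : Scheme.{u}).Modules, Coh.IsCoh F ∧
      Nonempty (Formal.completion (Ideal.span {f}) F ≅ G) := by
  obtain ⟨hcoh, hfor⟩ := (Groth.Agent.FormalB.ModPow.isCohFormal_iff _ G).1 hG
  obtain ⟨h0, h1⟩ := finite_of_locFree 𝔞 (Ideal.span {f}) h₁ h₂ (G.obj (op 0)) (hcoh 0) (hfree 0)
  have hU : IsCompact (LocCoh.puncturedOpen A 𝔞 : Set (Spec (CommRingCat.of A))) :=
    Groth.Agent.FormalA.InjSec.isCompact_opens _
  refine Groth.Agent.FormalB.PuncAlg.algebraize A _ f 𝔞 (not_le 𝔞) hU G hfor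
    (fun n => (hcoh n).1) (Groth.Agent.FormalB.MonoMu.mono_mu _ hnzd hfor hfree) h0
    (fun n x => torsion_of_coh 𝔞 (G.obj (op n)) (hcoh n) x) 0 ?_
  have : IsNoetherian A ((Groth.Agent.FormalB.HMod.HM A (LocCoh.puncturedOpen A 𝔞 : Scheme.{u}) 1).obj
      (G.obj (op 0))) := isNoetherian_of_isNoetherianRing_of_finite A _
  exact IsNoetherian.noetherian _

end Groth.Agent.S0822
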