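import Groth.Statements.S0821
import Groth.Agent.S0822
import Groth.Agent.FormalB.H01
import Groth.Agent.FormalB.KillImage567

set_option autoImplicit false
universe u
open CategoryTheory
attribute [local instance] HasDerivedCategory.standard
open Formal2

namespace Groth.Agent.S0821

section Aux

open CategoryTheory CategoryTheory.Limits AlgebraicGeometry Opposite TopologicalSpace
open Groth.Agent.FormalB.ModPow Groth.Agent.FormalB.PuncTheta Groth.Agent.FormalB.PuncTheta2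
open Groth.Agent.FormalB.FreeUpTo Groth.Agent.FormalB.HMod Groth.Agent.FormalB.KillImage567

variable {A : Type u} [CommRing A]

/-- A finite cover adapted to a locally free module. -/
theorem exists_free_cover [IsNoetherianRing A] (𝔞 I : Ideal A) (n : ℕ)
    (G : (↑(LocCoh.puncturedOpen A 𝔞) : Scheme.{u}).Modules)
    (hfree : Formal2.IsFinLocFreeMod I n G) {N : Type u} [AddCommGroup N] [Module A N]
    [Module.Finite A N] (e : (Theta (LocCoh.puncturedOpen A 𝔞)).obj (ModuleCat.of A N) ≅ G) :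
    ∃ (m : ℕ) (g : Fin m → A) (r : Fin m → ℕ),
      (∀ x ∈ LocCoh.puncturedOpen A 𝔞, ∃ i, x ∈ D (g i)) ∧
      (∀ i, g i ∈ 𝔞.radical) ∧ ∀ i, IsFreeUpTo (g i) (A ⧸ I ^ n) N (Fin (r i)) := by
  have hNp : Module.FinitePresentation A N := Module.finitePresentation_of_finite A N
  have hB : Module.FinitePresentation A (A ⧸ I ^ n) := Module.finitePresentation_of_finite A _
  obtain ⟨m, g, r, hg, hfr⟩ := Groth.Agent.S0822.exists_cover (LocCoh.puncturedOpen A 𝔞)
    (Groth.Agent.FormalA.InjSec.isCompact_opens _)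
    (fun g r => g ∈ 𝔞.radical ∧ IsFreeUpTo g (A ⧸ I ^ n) N (Fin r)) (by
      intro x hx
      obtain ⟨g, h1, h2, r, h3⟩ := FormalB.LocFreeTheta.exists_isFreeUpTo _ I n G hfree e x hx
      exact ⟨g, h1, h2, r, (FormalB.PuncDelta.D_le_puncturedOpen 𝔞 g).1 h2, h3⟩)
  exact ⟨m, g, r, hg, fun i => (hfr i).1, fun i => (hfr i).2⟩

/-- The ideal generated by powers of the `g i` contains a power of `𝔞`. -/
theorem exists_pow_le [IsNoetherianRing A] (𝔞 : Ideal A) {m : ℕ} (g : Fin m → A)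
    (hg : ∀ x ∈ LocCoh.puncturedOpen A 𝔞, ∃ i, x ∈ D (g i)) (k : Fin m → ℕ) :
    ∃ l : ℕ, 𝔞 ^ l ≤ Ideal.span (Set.range fun i => g i ^ k i) := by
  refine Ideal.exists_pow_le_of_le_radical_of_fg ?_ (IsNoetherian.noetherian 𝔞)
  rw [Ideal.radical_eq_sInf]
  refine le_sInf ?_
  rintro q ⟨hq1, hq2⟩
  by_contra h
  obtain ⟨i, hi⟩ := hg (⟨q, hq2⟩ : PrimeSpectrum A) h
  exact hi (hq2.mem_of_pow_mem (k i) (hq1 (Ideal.subset_span ⟨i, rfl⟩)))

theorem range_fg [IsNoetherianRing A] (𝔞 I : Ideal A) (n : ℕ)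
    {G0 Gn : (↑(LocCoh.puncturedOpen A 𝔞) : Scheme.{u}).Modules} (hG0 : Coh.IsCoh G0)
    (hGn : Coh.IsCoh Gn) (φ : Gn ⟶ G0) (hk0 : Formal.KilledBy I G0)
    (hfree0 : Formal2.IsFinLocFreeMod I 1 G0) (hfreen : Formal2.IsFinLocFreeMod I n Gn)
    (hfin : Module.Finite A (LocCoh.H 𝔞 1 (A ⧸ I)))
    (π : (A ⧸ I ^ n) →ₗ[A] (A ⧸ I))
    (hπ : ∀ a : A, π (Ideal.Quotient.mk _ a) = Ideal.Quotient.mk _ a) (c : ℕ)
    (hc : ∀ a ∈ 𝔞 ^ c, ∀ x : LocCoh.H 𝔞 2 (A ⧸ I ^ n),
      a • ((localCohomology 𝔞 2).map (ModuleCat.ofHom π)).hom x = 0) :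
    (LinearMap.range ((FormalB.HHDelta.hh (LocCoh.puncturedOpen A 𝔞 : Scheme.{u}) A 1).map
      φ).hom).FG := by
  classical
  set F := FormalB.HHDelta.hh (LocCoh.puncturedOpen A 𝔞 : Scheme.{u}) A 1 with hF
  have hU : IsCompact (LocCoh.puncturedOpen A 𝔞 : Set (Spec (CommRingCat.of A))) :=
    Groth.Agent.FormalA.InjSec.isCompact_opens _
  have hlin : ∀ (M : (LocCoh.puncturedOpen A 𝔞 : Scheme.{u}).Modules) (a : A) (x : F.obj M),
      (F.map (Formal.smulMod A M a)).hom x = a • x := fun M a x => rfl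
  obtain ⟨N, _, _, hN, ⟨e⟩⟩ := exists_finite_iso _ hU Gn hGn
  obtain ⟨m, g, r, hg, -, hfr⟩ := exists_free_cover 𝔞 I n Gn hfreen e
  choose k hk using fun i => kill_piece (LocCoh.puncturedOpen A 𝔞) F hlin I (I ^ n) (r i) (g i)
    (hfr i) hk0 (e.hom ≫ φ) π hπ
  obtain ⟨l, hl⟩ := exists_pow_le 𝔞 g hg k
  -- `𝔞 ^ (l + c)` kills the image
  have h1 : ∀ b ∈ 𝔞 ^ (l + c), ∀ x : F.obj Gn, b • (F.map φ).hom x = 0 := by
    intro b hb x
    have h2 : ∀ y, ∀ a ∈ 𝔞 ^ c, ∀ b ∈ Ideal.span (Set.range fun i => g i ^ k i),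
        (b * a) • (F.map (e.hom ≫ φ)).hom y = 0 := by
      intro y a ha b hb
      refine Submodule.span_induction (p := fun b _ => (b * a) • (F.map (e.hom ≫ φ)).hom y = 0)
        ?_ ?_ ?_ ?_ hb
      · rintro _ ⟨i, rfl⟩
        exact hk i a (fun z => kill_HH_one 𝔞 π a (hc a ha) z) y
      · rw [zero_mul, zero_smul]
      · intro b b' _ _ h h'
        rw [add_mul, add_smul, h, h', add_zero]
      · intro s b _ h
        rw [smul_eq_mul, mul_assoc, mul_smul, h, smul_zero]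
    have h3 : 𝔞 ^ (l + c) ≤ Module.annihilator A (LinearMap.range (F.map (e.hom ≫ φ)).hom) := by
      rw [pow_add]
      refine Ideal.mul_le.2 fun b hb a ha => ?_
      rw [Module.mem_annihilator]
      rintro ⟨_, y, rfl⟩
      exact Subtype.ext (h2 y a ha b (hl hb))
    have h4 := Module.mem_annihilator.1 (h3 hb) ⟨_, (F.map e.inv).hom x, rfl⟩
    have h5 : b • (F.map (e.hom ≫ φ)).hom ((F.map e.inv).hom x) = 0 := congrArg Subtype.val h4
    have h6 : (F.map (e.hom ≫ φ)).hom ((F.map e.inv).hom x) = (F.map φ).hom x := by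
      change ((F.map e.inv) ≫ F.map (e.hom ≫ φ)).hom x = _
      rw [← Functor.map_comp, Iso.inv_hom_id_assoc]
    rwa [h6] at h5
  obtain ⟨N0, _, _, hN0, ⟨e0⟩⟩ := exists_finite_iso _ hU G0 hG0
  obtain ⟨m', g', r', hg', hrad, hfr'⟩ := exists_free_cover 𝔞 I 1 G0 hfree0 e0
  have hfr'' : ∀ i, IsFreeUpTo (g' i) (A ⧸ I) N0 (Fin (r' i)) := by
    rw [pow_one] at hfr'
    exact hfr'
  -- uniform exponent
  have hexp : ∃ E : ℕ, ∀ i, g' i ^ E ∈ 𝔞 ^ (l + c) := by
    choose t ht using fun i => hrad i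
    refine ⟨(∑ i, t i) * (l + c), fun i => ?_⟩
    rw [pow_mul]
    refine Ideal.pow_mem_pow ?_ _
    have hti : t i ≤ ∑ i, t i := Finset.single_le_sum (f := t) (fun _ _ => Nat.zero_le _)
      (Finset.mem_univ i)
    obtain ⟨d, hd⟩ := Nat.exists_eq_add_of_le hti
    rw [hd, pow_add]
    exact Ideal.mul_mem_right _ _ (ht i)
  obtain ⟨E, hE⟩ := hexp
  have hB0 := FormalB.PuncDelta.finite_HH_zero 𝔞 (A ⧸ I) hfin
  have h7 := FormalB.DeltaFin.fg_kill_one (LocCoh.puncturedOpen A 𝔞)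
    (FormalB.HHDelta.hhDelta (LocCoh.puncturedOpen A 𝔞 : Scheme.{u}) A)
    (fun φ _ => FormalB.GamZero.hh_zero_injective (LocCoh.puncturedOpen A 𝔞) φ)
    g' hg' hlin (fun i => Fin (r' i)) (fun i => inferInstance) hfr'' hB0 (𝔞 ^ (l + c)) E hE
  have h8 : IsNoetherian A (FormalB.DeltaFin.kill (𝔞 ^ (l + c))
      (F.obj ((Theta (LocCoh.puncturedOpen A 𝔞)).obj (ModuleCat.of A N0)))) :=
    isNoetherian_of_fg_of_noetherian _ h7
  have h9 : (LinearMap.range (F.map (φ ≫ e0.inv)).hom).FG := by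
    refine isNoetherian_submodule.1 h8 _ ?_
    rintro _ ⟨x, rfl⟩ b hb
    have h10 : (F.map (φ ≫ e0.inv)).hom x = (F.map e0.inv).hom ((F.map φ).hom x) := by
      rw [Functor.map_comp]
      rfl
    rw [h10, ← map_smul, h1 b hb, map_zero]
  have h11 : LinearMap.range (F.map φ).hom =
      (LinearMap.range (F.map (φ ≫ e0.inv)).hom).map (F.map e0.hom).hom := by
    rw [← LinearMap.range_comp]
    congr 1
    change _ = (F.map (φ ≫ e0.inv) ≫ F.map e0.hom).hom
    rw [← Functor.map_comp, Category.assoc, Iso.inv_hom_id, Category.comp_id]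
  rw [h11]
  exact h9.map _

theorem main (A : Type u) [CommRing A]
    [IsNoetherianRing A] [IsLocalRing A] (hω : ∃ ω : Dual.D A, Dual.IsDualizing A ω) (f : A)
    (hf : f ∈ IsLocalRing.maximalIdeal A) (hnzd : f ∈ nonZeroDivisors A)
    [IsAdicComplete (Ideal.span {f}) A] (U : (Spec (CommRingCat.of A)).Opens)
    (hU : U = LocCoh.puncturedOpen A (IsLocalRing.maximalIdeal A))
    (G : ℕᵒᵖ ⥤ (↑U : Scheme.{u}).Modules) (hG : Formal.IsCohFormal (Ideal.span {f}) G)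
    (hfree : ∀ n : ℕ, Formal2.IsFinLocFreeMod (Ideal.span {f}) (n + 1) (G.obj (op n)))
    (h₅ : ∀ (p : Ideal A) [p.IsPrime], f ∈ p → p ≠ IsLocalRing.maximalIdeal A →
      (1 : WithBot ℕ∞) < ((LocCoh.depth (Localization.AtPrime p)
          (LocalizedModule p.primeCompl (A ⧸ Ideal.span {f})) : ℕ∞) : WithBot ℕ∞) + ringKrullDim (A ⧸ p))
    (h₆ : ∀ (p : Ideal A) [p.IsPrime], f ∉ p →
      (∃ r : Ideal A, r.IsPrime ∧ p ≤ r ∧ f ∈ r ∧ r ≠ IsLocalRing.maximalIdeal A) →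
      (3 : WithBot ℕ∞) < ((LocCoh.depth (Localization.AtPrime p) (Localization.AtPrime p) : ℕ∞) : WithBot ℕ∞) +
        ringKrullDim (A ⧸ p)) :
    ∃ F : (↑U : Scheme.{u}).Modules, Coh.IsCoh F ∧
      Nonempty (Formal.completion (Ideal.span {f}) F ≅ G) := by
  subst hU
  have hH0 := FormalB.H01.finite_H1 f h₅ hω
  obtain ⟨n0, c, hH1⟩ := FormalB.H01.exists_H1_pow' f hf hnzd h₅ h₆ hω
  obtain ⟨hcoh, hfor⟩ := (Groth.Agent.FormalB.ModPow.isCohFormal_iff _ G).1 hG
  have hle : Ideal.span {f} ^ (n0 + 1) ≤ Ideal.span {f} := Ideal.pow_le_self (by omega)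
  let π : (A ⧸ Ideal.span {f} ^ (n0 + 1)) →ₗ[A] (A ⧸ Ideal.span {f}) :=
    Submodule.mapQ _ _ LinearMap.id hle
  have hπ : ∀ a : A, π (Ideal.Quotient.mk _ a) = Ideal.Quotient.mk _ a := fun a => rfl
  have hk0 : Formal.KilledBy (Ideal.span {f}) (G.obj (op 0)) := by
    have := hfor.killed 0
    rwa [zero_add, pow_one] at this
  have h1 := range_fg (IsLocalRing.maximalIdeal A) (Ideal.span {f}) (n0 + 1) (hcoh 0) (hcoh n0)
    (FormalB.PrincTower.t0 G n0) hk0 (hfree 0) (hfree n0) hH0 π hπ c (hH1 π hπ)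
  -- finiteness of `H^0(G_0)`
  have hUc : IsCompact (LocCoh.puncturedOpen A (IsLocalRing.maximalIdeal A) :
      Set (Spec (CommRingCat.of A))) := Groth.Agent.FormalA.InjSec.isCompact_opens _
  obtain ⟨N, _, _, hN, ⟨e⟩⟩ := exists_finite_iso _ hUc (G.obj (op 0)) (hcoh 0)
  obtain ⟨m, g, r, hg, -, hfr⟩ := exists_free_cover (IsLocalRing.maximalIdeal A)
    (Ideal.span {f}) 1 (G.obj (op 0)) (hfree 0) e
  have hfr' : ∀ i, IsFreeUpTo (g i) (A ⧸ Ideal.span {f}) N (Fin (r i)) := by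
    rw [pow_one] at hfr
    exact hfr
  have hB0 := FormalB.PuncDelta.finite_HH_zero (IsLocalRing.maximalIdeal A) (A ⧸ Ideal.span {f}) hH0
  have h0 := FormalB.DeltaFin.finite_zero (LocCoh.puncturedOpen A (IsLocalRing.maximalIdeal A))
    (FormalB.HHDelta.hhDelta (LocCoh.puncturedOpen A (IsLocalRing.maximalIdeal A) : Scheme.{u}) A)
    (fun φ _ => FormalB.GamZero.hh_zero_injective _ φ)
    g hg (fun i => Fin (r i)) (fun i => inferInstance) hfr' hB0
  have h0' : Module.Finite A ((HM A (LocCoh.puncturedOpen A (IsLocalRing.maximalIdeal A) :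
      Scheme.{u}) 0).obj (G.obj (op 0))) :=
    @Module.Finite.equiv A ((HM A (LocCoh.puncturedOpen A (IsLocalRing.maximalIdeal A) :
      Scheme.{u}) 0).obj
      ((Theta (LocCoh.puncturedOpen A (IsLocalRing.maximalIdeal A))).obj (ModuleCat.of A N)))
      _ _ _ _ _ _ h0
      ((HM A (LocCoh.puncturedOpen A (IsLocalRing.maximalIdeal A) : Scheme.{u}) 0).mapIso
        e).toLinearEquiv
  exact Groth.Agent.FormalB.PuncAlg.algebraize A _ f (IsLocalRing.maximalIdeal A)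
    (Groth.Agent.S0822.not_le _) hUc G hfor
    (fun n => (hcoh n).1) (Groth.Agent.FormalB.MonoMu.mono_mu _ hnzd hfor hfree) h0'
    (fun n x => Groth.Agent.S0822.torsion_of_coh _ (G.obj (op n)) (hcoh n) x) n0 h1

end Aux

open AlgebraicGeometry Opposite in
/-- Stacks Tag 0DXU, in the form of its final sentence (A complete). Let (A, 𝔪) be a Noetherian local ring with a dualizing complex, f ∈ 𝔪 a nonzerodivisor with A f-adically complete, and U the punctured spectrum. Let (F_n) be a coherent formal module on U for the ideal (f) (indices shifted by one) with each F_n finite locally free over O_U/f^nO_U. Assume depth (A/fA)_𝔭 + dim A/𝔭 > 1 for every non-maximal prime 𝔭 containing f, and depth A_𝔭 + dim A/𝔭 > 3 for every prime 𝔭 not containing f such that some non-maximal prime contains 𝔭 and f. Then (F_n) is isomorphic to the system (F/f^nF) of a coherent O_U-module F. -/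
theorem result (A : Type u) [CommRing A]
    [IsNoetherianRing A] [IsLocalRing A] (hω : ∃ ω : Dual.D A, Dual.IsDualizing A ω) (f : A)
    (hf : f ∈ IsLocalRing.maximalIdeal A) (hnzd : f ∈ nonZeroDivisors A) [IsAdicComplete (Ideal.span {f}) A]
    (G : ℕᵒᵖ ⥤ (↑(FEt.puncturedSpec A) : Scheme.{u}).Modules) (hG : Formal.IsCohFormal (Ideal.span {f}) G)
    (hfree : ∀ n : ℕ, Formal2.IsFinLocFreeMod (Ideal.span {f}) (n + 1) (G.obj (op n)))
    (h₅ : ∀ (p : Ideal A) [p.IsPrime], f ∈ p → p ≠ IsLocalRing.maximalIdeal A →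
      (1 : WithBot ℕ∞) < ((LocCoh.depth (Localization.AtPrime p)
          (LocalizedModule p.primeCompl (A ⧸ Ideal.span {f})) : ℕ∞) : WithBot ℕ∞) + ringKrullDim (A ⧸ p))
    (h₆ : ∀ (p : Ideal A) [p.IsPrime], f ∉ p →
      (∃ r : Ideal A, r.IsPrime ∧ p ≤ r ∧ f ∈ r ∧ r ≠ IsLocalRing.maximalIdeal A) →
      (3 : WithBot ℕ∞) < ((LocCoh.depth (Localization.AtPrime p) (Localization.AtPrime p) : ℕ∞) : WithBot ℕ∞) +
        ringKrullDim (A ⧸ p)) :
    ∃ F : (↑(FEt.puncturedSpec A) : Scheme.{u}).Modules, Coh.IsCoh F ∧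
      Nonempty (Formal.completion (Ideal.span {f}) F ≅ G) := by
  refine main A hω f hf hnzd (FEt.puncturedSpec A) ?_ G hG hfree h₅ h₆
  apply TopologicalSpace.Opens.ext
  change ({IsLocalRing.closedPoint A}ᶜ : Set (PrimeSpectrum A)) =
    (PrimeSpectrum.zeroLocus (R := A) (IsLocalRing.maximalIdeal A : Set A))ᶜ
  rw [Groth.Agent.FormalB.H01.zeroLocus_maximalIdeal]

end Groth.Agent.S0821
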