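import Groth.Statements.S0823
-- import your own Groth.Agent.* helpers here
import Groth.Agent.FormalB.ProHH

set_option autoImplicit false
universe u
open Formal2

namespace Groth.Agent.S0823

open CategoryTheory AlgebraicGeometry in
/-- Stacks Tag 0A0M, the short exact sequences in positive degrees (the degree-0 statement H^0(X, F)^ ≅ lim H^0(X, F/I^nF) and the vanishing of the R^1 lim term for proper X are not restated). Let A be a Noetherian ring, I an ideal, X a Noetherian scheme over Spec A and F a coherent O_X-module such that every H^p(X, F) is a finite A-module. Then for every p there is a short exact sequence 0 → R^1 lim_n H^p(X, F/I^nF) → H^(p+1)(X, F)^ → lim_n H^(p+1)(X, F/I^nF) → 0 of abelian groups, where ^ is I-adic completion; the second map is the one induced by the maps H^(p+1)(X, F) → H^(p+1)(X, F/I^(n+1)F), and the first map is only asserted to exist. -/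
theorem result (A : Type u) [CommRing A] [IsNoetherianRing A] (I : Ideal A)
    (X : Scheme.{u}) [X.Over (Spec (CommRingCat.of A))] [IsNoetherian X] (F : X.Modules) (hF : Coh.IsCoh F)
    (hfin : ∀ p : ℕ, Module.Finite A (Coh.HH X F p)) (p : ℕ) :
    ∃ (α : Formal2.limOne (fun n => Formal.HHmodPow I F p n) (fun n => Formal.HHmodPowTrans I F p n) →+
        AdicCompletion I (Coh.HH X F (p + 1)))
      (β : AdicCompletion I (Coh.HH X F (p + 1)) →+ Formal.HHlim I F (p + 1)),
      Function.Injective α ∧ Function.Surjective β ∧ α.range = β.ker ∧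
      ∀ (x : AdicCompletion I (Coh.HH X F (p + 1))) (n : ℕ) (h : Coh.HH X F (p + 1)),
        AdicCompletion.eval I (Coh.HH X F (p + 1)) (n + 1) x = Submodule.Quotient.mk h →
          (β x : ∀ n, Formal.HHmodPow I F (p + 1) n) n = Formal.toHHmodPow I F (p + 1) n h := by
  have hsurj := Groth.Agent.FormalB.ProHH.surjective_towerDiff_HH I F hF hfin p
  have : Subsingleton (Formal2.limOne (fun n => Formal.HHmodPow I F p n)
      (fun n => Formal.HHmodPowTrans I F p n)) := by
    refine ⟨fun a b => ?_⟩
    obtain ⟨a, rfl⟩ := QuotientAddGroup.mk_surjective a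
    obtain ⟨b, rfl⟩ := QuotientAddGroup.mk_surjective b
    rw [QuotientAddGroup.eq]
    exact hsurj _
  obtain ⟨β, hβ, h⟩ := Groth.Agent.FormalB.ProHH.exists_bijective_HH I F hF hfin (p + 1)
  refine ⟨0, β, fun a b _ => Subsingleton.elim a b, hβ.2, ?_, h⟩
  rw [(AddMonoidHom.ker_eq_bot_iff β).2 hβ.1]
  ext x
  simp

end Groth.Agent.S0823
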