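import Groth.Statements.S0824
import Groth.Agent.VarietyA.AmpleNegPow
import Groth.Agent.Ega2.VeryAmpleAmple

set_option autoImplicit false
universe u
open Coherent

namespace Groth.Agent.VarietyA.AmpleNegPow

open CategoryTheory CategoryTheory.Limits AlgebraicGeometry

attribute [local instance] Abelian.hasFiniteBiproducts

variable {X : Scheme.{u}}

/-- An inverse of an invertible module is invertible. -/
theorem isInvertible_of_inv {L L' : X.Modules} (hL : PicF.IsInvertible L)
    (e : CohB1.tensorMod L L' ≅ Coh.structureModule X) : PicF.IsInvertible L' := by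
  obtain ⟨L'', hL'', ⟨e'⟩⟩ := Grpsch.PicGrp.exists_inverse hL
  let i : L'' ≅ L' := (Ega2.Tens.runit L'').symm ≪≫ Ega2.Tens.mapTIso (Iso.refl _) e.symm ≪≫
    (Ega2.Tens.assoc _ _ _).symm ≪≫
    Ega2.Tens.mapTIso (Ega2.Tens.swap _ _ ≪≫ e') (Iso.refl _) ≪≫ Ega2.Tens.lunit _
  exact Ega2.VeryAmpleAmple.isInvertible_of_iso i hL''

/-- Vanishing of cohomology of a finite coproduct. -/
theorem subsingleton_HH_coprod {κ : Type u} [Finite κ] (A : κ → X.Modules) (p : ℕ)
    (h : ∀ k, Subsingleton (Coh.HH X (A k) p)) : Subsingleton (Coh.HH X (∐ A) p) := by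
  cases nonempty_fintype κ
  refine Flat2F.HHSeq.subsingleton_HH_of_iso (biproduct.isoCoproduct A) p
    (subsingleton_of_forall_eq 0 fun x => ?_)
  have h2 : ∑ k, biproduct.π A k ≫ biproduct.ι A k = 𝟙 (⨁ A) := by
    classical
    refine biproduct.hom_ext' _ _ fun j => ?_
    rw [Preadditive.comp_sum, Finset.sum_eq_single j, biproduct.ι_π_self_assoc, Category.comp_id]
    · intro k _ hk
      rw [biproduct.ι_π_ne_assoc A hk.symm, zero_comp]
    · intro hj
      exact absurd (Finset.mem_univ j) hj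
  have h1 : x = CohqB.HSeqMod.hmap (∑ k, biproduct.π A k ≫ biproduct.ι A k) p x := by
    rw [h2, CohqB.HSeqMod.hmap_id_apply]
  rw [h1, CohqB.HSeqMod.hmap_sum_apply]
  refine Finset.sum_eq_zero fun k _ => ?_
  rw [CohqB.HSeqMod.hmap_comp_apply, @Subsingleton.elim _ (h k) (CohqB.HSeqMod.hmap _ p x) 0, map_zero]

theorem isQCoh_coprod {κ : Type u} [Finite κ] (A : κ → X.Modules)
    (h : ∀ k, Coh.IsQCoh (A k)) : Coh.IsQCoh (∐ A) :=
  Sga67.CohBasic.isQCoh_of_iso (biproduct.isoCoproduct A)
    (Sga67.CohBasic.isQCoh_of_iso (biproduct.isoProduct A).symm (Sga67.CohBasic.isQCoh_pi A h))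

/-- The descending induction. -/
theorem subsingleton_HH {L L' : X.Modules} (hL : CohB1.IsAmple L)
    (e : CohB1.tensorMod L L' ≅ Coh.structureModule X) (n₀ : ℕ)
    (h : ∀ n : ℕ, n₀ ≤ n → ∀ p : ℕ, 0 < p → Subsingleton (Coh.HH X (CohB1.tensorPow L' n) p))
    (p : ℕ) (hp : 0 < p) {M : X.Modules} (hM : Coh.IsQCoh M) : Subsingleton (Coh.HH X M p) := by
  have hc : CompactSpace X := hL.2.1
  have hqs : QuasiSeparatedSpace X := Flat2H.FamOpen.quasiSeparatedSpace_of_isAmple hL
  obtain ⟨d, hd⟩ := S0016.result X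
  have hL' : PicF.IsInvertible L' := isInvertible_of_inv hL.1 e
  have key : ∀ (r p : ℕ), 0 < p → d ≤ p + r → ∀ (M : X.Modules), Coh.IsQCoh M →
      Subsingleton (Coh.HH X M p) := by
    intro r
    induction r with
    | zero => intro p _ hp M hM; exact hd M hM p hp
    | succ r ih =>
      intro p hp hpr M hM
      refine subsingleton_of_forall_eq 0 fun x => ?_
      obtain ⟨G, i, y, hi, hG, hG', hy⟩ := Flat2F.FtSub.exists_ft_sub hM p x
      obtain ⟨N, hN, κ, _, φ, hφ⟩ := exists_epi hL e n₀ hG hG'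
      have hS : (ShortComplex.mk (kernel.ι (Sigma.desc φ)) (Sigma.desc φ)
          (kernel.condition _)).ShortExact :=
        { exact := ShortComplex.exact_kernel _
          mono_f := inferInstance
          epi_g := hφ }
      have hE : Coh.IsQCoh (∐ fun _ : κ => CohB1.tensorPow L' N) :=
        isQCoh_coprod _ fun _ => PerfB.TensInv.isQCoh_of_isInvertible
          (Fdesc.LocGen.isInvertible_tensorPow hL' N)
      have hK := Sga67.CohBasic.isQCoh_X₁ hS hE hG
      have h3 : Subsingleton (Coh.HH X G p) := Flat2F.HHSeq.subsingleton_HH_right hS p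
        (subsingleton_HH_coprod _ p fun _ => h N hN p hp)
        (ih (p + 1) (Nat.succ_pos p) (by omega) _ hK)
      rw [← hy, @Subsingleton.elim _ h3 y 0, map_zero]
  exact key d p hp (Nat.le_add_left d p) M hM

end Groth.Agent.VarietyA.AmpleNegPow

namespace Groth.Agent.S0824

open CategoryTheory AlgebraicGeometry in
/-- Stacks Tag 0EBD. Let X be a scheme with an ample invertible module L, and let L' be an inverse of L (L ⊗ L' ≅ O_X). If there is n₀ such that H^p(X, L'^n) = 0 for all n ≥ n₀ and all p > 0, then X is affine. -/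
theorem result (X : Scheme.{u}) (L L' : X.Modules)
    (hL : CohB1.IsAmple L) (hinv : Nonempty (CohB1.tensorMod L L' ≅ Coh.structureModule X)) (n₀ : ℕ)
    (h : ∀ n : ℕ, n₀ ≤ n → ∀ p : ℕ, 0 < p → Subsingleton (Coh.HH X (CohB1.tensorPow L' n) p)) :
    IsAffine X := by
  have hc : CompactSpace X := hL.2.1
  have hqs : QuasiSeparatedSpace X := Flat2H.FamOpen.quasiSeparatedSpace_of_isAmple hL
  obtain ⟨e⟩ := hinv
  exact S0014.result X fun I _ _ hI _ =>
    VarietyA.AmpleNegPow.subsingleton_HH hL e n₀ h 1 Nat.one_pos hI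

end Groth.Agent.S0824
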