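import Groth.Statements.S0825
import Groth.Agent.FormalB.LocCohCol

set_option autoImplicit false
universe u
open scoped BigOperators
open LocCoh

namespace Groth.Agent.S0825

open Groth.Agent.FormalB.LocCohCol

open CategoryTheory Limits Opposite in
theorem main (A : Type u) [CommRing A] (r : ℕ) (f : Fin r → A) (J : Ideal A) (hJ : J = Ideal.span (Set.range f))
    (h₁ : LocCoh.CdLE A J 1) :
    ∃ (c : ℕ) (_ : 1 ≤ c) (φ : (↥(J ^ c) →ₗ[A] (Fin r → A))),
      ∀ x : ↥(J ^ c), (x : A) = ∑ j, f j * φ x j := by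
  classical
  let π : (Fin r → A) →ₗ[A] A := Fintype.linearCombination A f
  have hπ : ∀ v, π v = ∑ j, v j * f j := fun v => by
    simp [π, Fintype.linearCombination_apply, smul_eq_mul]
  have hrange : ∀ x ∈ J, ∃ v, π v = x := by
    intro x hx
    rw [hJ] at hx
    have : x ∈ LinearMap.range π := by
      rw [Fintype.range_linearCombination]; exact hx
    exact this
  let K : Submodule A (Fin r → A) := LinearMap.ker π
  let X := ModuleCat.of A (A ⧸ (J ^ 1))
  let P : ProjectiveResolution X := projectiveResolution X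
  have hPr : ∀ n, Module.Projective A (P.complex.X n) := fun n =>
    (IsProjective.iff_projective _).mpr (P.projective n)
  let ε : P.complex.X 0 →ₗ[A] (A ⧸ (J ^ 1)) := (P.π.f 0).hom
  have hε : Function.Surjective ε := (ModuleCat.epi_iff_surjective _).mp (inferInstance : Epi (P.π.f 0))
  obtain ⟨s₀, hs₀⟩ := Module.projective_lifting_property (J ^ 1).mkQ ε (Submodule.mkQ_surjective _)
  have hεd : ∀ (p : P.complex.X 1), ε ((P.complex.d 1 0).hom p) = 0 := fun p =>
    congrArg (fun g => g.hom p) P.complex_d_comp_π_f_zero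
  have hs₁ : ∀ p : P.complex.X 1, s₀ ((P.complex.d 1 0).hom p) ∈ J := by
    intro p
    have h1 := hεd p
    rw [← hs₀] at h1
    have h2 := (Submodule.Quotient.mk_eq_zero (J ^ 1)).mp h1
    rwa [pow_one] at h2
  -- lift to `A^r`
  obtain ⟨t, ht⟩ := Module.projective_lifting_property (π.codRestrict (LinearMap.range π) (fun v => ⟨v, rfl⟩))
    ((s₀.comp (P.complex.d 1 0).hom).codRestrict (LinearMap.range π) (fun p => hrange _ (hs₁ p)))
    (by rintro ⟨_, v, rfl⟩; exact ⟨v, rfl⟩)
  have ht' : ∀ p, π (t p) = s₀ ((P.complex.d 1 0).hom p) := fun p =>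
    congrArg Subtype.val (LinearMap.congr_fun ht p)
  have hdd : ∀ (L : ChainComplex (ModuleCat.{u} A) ℕ) (i j k : ℕ) (p : L.X i),
      (L.d j k).hom ((L.d i j).hom p) = 0 := fun L i j k p =>
    congrArg (fun g => g.hom p) (L.d_comp_d i j k)
  have hzK : ∀ p : P.complex.X 2, t ((P.complex.d 2 1).hom p) ∈ K := by
    intro p
    rw [LinearMap.mem_ker, ht', hdd, map_zero]
  let z : P.complex.X 2 ⟶ ModuleCat.of A K :=
    ModuleCat.ofHom ((t.comp (P.complex.d 2 1).hom).codRestrict K hzK)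
  have hz : ((P.complex.linearYonedaObj A (ModuleCat.of A K)).d 2 3).hom z = 0 := by
    change P.complex.d 3 2 ≫ z = 0
    ext1
    refine LinearMap.ext fun p => ?_
    apply Subtype.ext
    change t ((P.complex.d 2 1).hom ((P.complex.d 3 2).hom p)) = 0
    rw [hdd, map_zero]
  obtain ⟨c, hc⟩ := exists_cycle (P.complex.linearYonedaObj A (ModuleCat.of A K)) 2 z hz
  let x : ((Ext A (ModuleCat.{u} A) 2).obj (op X)).obj (ModuleCat.of A K) :=
    (P.isoExt 2 (ModuleCat.of A K)).inv.hom (((P.complex.linearYonedaObj A (ModuleCat.of A K)).homologyπ 2).hom c)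
  obtain ⟨m', hm, hx⟩ := colim_zero J 2 (ModuleCat.of A K) (h₁ K 2 (by norm_num)) 1 x
  let X' := ModuleCat.of A (A ⧸ (J ^ m'))
  let P' : ProjectiveResolution X' := projectiveResolution X'
  let F : X' ⟶ X := ModuleCat.ofHom (Submodule.mapQ (J ^ m') (J ^ 1) LinearMap.id 
        (Ideal.pow_le_pow_right hm))
  let φ := ProjectiveResolution.lift F P' P
  have hφ : φ.f 0 ≫ P.π.f 0 = P'.π.f 0 ≫ F := ProjectiveResolution.lift_commutes_zero F P' P
  have nat := isoExt_naturality (R := A) F P' P φ hφ (ModuleCat.of A K) 2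
  have h2 : (HomologicalComplex.homologyMap (linMap (R := A) φ (ModuleCat.of A K)) 2).hom
      (((P.complex.linearYonedaObj A (ModuleCat.of A K)).homologyπ 2).hom c) = 0 := by
    have h3 : (HomologicalComplex.homologyMap (linMap (R := A) φ (ModuleCat.of A K)) 2).hom
      ((P.isoExt 2 (ModuleCat.of A K)).hom.hom x) = 
      (P'.isoExt 2 (ModuleCat.of A K)).hom.hom ((((Ext A (ModuleCat.{u} A) 2).map F.op).app (ModuleCat.of A K)).hom x) :=
        (congrArg (fun g => g.hom x) nat).symm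
    have h4 : (P.isoExt 2 (ModuleCat.of A K)).hom.hom x =
      ((P.complex.linearYonedaObj A (ModuleCat.of A K)).homologyπ 2).hom c := 
        congrArg (fun g => g.hom (((P.complex.linearYonedaObj A (ModuleCat.of A K)).homologyπ 2).hom c)) 
          (P.isoExt 2 (ModuleCat.of A K)).inv_hom_id
    rw [h4] at h3
    rw [h3]
    have h5 : (((Ext A (ModuleCat.{u} A) 2).map F.op).app (ModuleCat.of A K)).hom x = 0 := hx
    rw [h5, map_zero]
  have h6 : ((P'.complex.linearYonedaObj A (ModuleCat.of A K)).homologyπ 2).hom 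
      ((HomologicalComplex.cyclesMap (linMap (R := A) φ (ModuleCat.of A K)) 2).hom c) = 0 := by
    rw [← h2]
    exact (congrArg (fun g => g.hom c) (HomologicalComplex.homologyπ_naturality (linMap (R := A) φ (ModuleCat.of A K)) 2)).symm
  obtain ⟨w, hw⟩ := exists_of_homologyπ_eq_zero (P'.complex.linearYonedaObj A (ModuleCat.of A K)) 1 _ h6
  have hw' : P'.complex.d 2 1 ≫ w = φ.f 2 ≫ z := by
    have h7 : ((P'.complex.linearYonedaObj A (ModuleCat.of A K)).iCycles 2).hom 
      ((HomologicalComplex.cyclesMap (linMap (R := A) φ (ModuleCat.of A K)) 2).hom c) = 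
      ((linMap (R := A) φ (ModuleCat.of A K)).f 2).hom (((P.complex.linearYonedaObj A (ModuleCat.of A K)).iCycles 2).hom c) :=
        congrArg (fun g => g.hom c) (HomologicalComplex.cyclesMap_i (linMap (R := A) φ (ModuleCat.of A K)) 2)
    rw [hc] at h7
    exact hw.trans h7
  let w' : P'.complex.X 1 →ₗ[A] (Fin r → A) := K.subtype.comp (ModuleCat.Hom.hom w)
  have hw2 : ∀ p : P'.complex.X 2, w' ((P'.complex.d 2 1).hom p) = t ((P.complex.d 2 1).hom ((φ.f 2).hom p)) := by
    intro p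
    exact congrArg (fun g => (g.hom p).1) hw'
  have hcomm : ∀ (i j : ℕ) (p : P'.complex.X i), (P.complex.d i j).hom ((φ.f i).hom p) = (φ.f j).hom ((P'.complex.d i j).hom p) := 
    fun i j p => congrArg (fun g => g.hom p) (φ.comm i j)
  let τ : P'.complex.X 1 →ₗ[A] (Fin r → A) := t.comp (φ.f 1).hom - w'
  have hτ : ∀ p : P'.complex.X 2, τ ((P'.complex.d 2 1).hom p) = 0 := by
    intro p
    change t ((φ.f 1).hom ((P'.complex.d 2 1).hom p)) - w' ((P'.complex.d 2 1).hom p) = 0
    rw [hw2, hcomm, sub_self]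
  have hex1 : ∀ p : P'.complex.X 1, (P'.complex.d 1 0).hom p = 0 → τ p = 0 := by
    intro p hp
    have := P'.exact_succ 0
    rw [ShortComplex.moduleCat_exact_iff] at this
    obtain ⟨q, hq⟩ := this p hp
    change (P'.complex.d 2 1).hom q = p at hq
    rw [← hq, hτ]
  have hex0 : ∀ p : P'.complex.X 0, (P'.π.f 0).hom p = 0 → ∃ q : P'.complex.X 1, (P'.complex.d 1 0).hom q = p := by
    intro p hp
    have := P'.exact₀
    rw [ShortComplex.moduleCat_exact_iff] at this
    exact this p hp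
  obtain ⟨e, he⟩ : ∃ e : P'.complex.X 0, (P'.π.f 0).hom e = (J ^ m').mkQ 1 := 
    (ModuleCat.epi_iff_surjective _).mp (inferInstance : Epi (P'.π.f 0)) _
  let D : P'.complex.X 1 →ₗ[A] P'.complex.X 0 := (P'.complex.d 1 0).hom
  have hle : LinearMap.ker D ≤ LinearMap.ker τ := fun p hp => hex1 p hp
  let g : LinearMap.range D →ₗ[A] (Fin r → A) :=
    ((LinearMap.ker D).liftQ τ hle).comp D.quotKerEquivRange.symm.toLinearMap
  have hg : ∀ q, g ⟨D q, ⟨q, rfl⟩⟩ = τ q := by
    intro q
    have : D.quotKerEquivRange.symm ⟨D q, ⟨q, rfl⟩⟩ = (LinearMap.ker D).mkQ q := by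
      rw [LinearEquiv.symm_apply_eq]
      rfl
    change (LinearMap.ker D).liftQ τ hle (D.quotKerEquivRange.symm ⟨D q, ⟨q, rfl⟩⟩) = τ q
    rw [this]
    exact Submodule.liftQ_apply _ _ _
  let v : ↥(J ^ m') →ₗ[A] LinearMap.range D := 
    ((LinearMap.toSpanSingleton A _ e).comp (J ^ m').subtype).codRestrict _ (by
      intro x
      refine hex0 _ ?_
      change (P'.π.f 0).hom ((x : A) • e) = 0
      rw [map_smul, he]
      change (x : A) • (J ^ m').mkQ 1 = 0
      rw [← map_smul, smul_eq_mul, mul_one]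
      exact (Submodule.Quotient.mk_eq_zero (J ^ m')).mpr x.2)
  let a : A := s₀ ((φ.f 0).hom e)
  have ha : 1 - a ∈ J := by
    have h8 : (J ^ 1).mkQ a = (J ^ 1).mkQ 1 := by
      have h9 : (J ^ 1).mkQ (s₀ ((φ.f 0).hom e)) = ε ((φ.f 0).hom e) := LinearMap.congr_fun hs₀ _
      have h10 : ε ((φ.f 0).hom e) = F.hom ((P'.π.f 0).hom e) := congrArg (fun g => g.hom e) hφ
      have h11 : F.hom ((J ^ m').mkQ 1) = (J ^ 1).mkQ 1 := rfl
      rw [h9, h10, he]
      exact h11
    have h12 : (J ^ 1).mkQ (1 - a) = 0 := by rw [map_sub, h8, sub_self]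
    have h13 := (Submodule.Quotient.mk_eq_zero (J ^ 1)).mp h12
    rwa [pow_one] at h13
  obtain ⟨b, hb⟩ := hrange _ ha
  refine ⟨m', hm, g.comp v + (LinearMap.toSpanSingleton A _ b).comp (J ^ m').subtype, fun x => ?_⟩
  have h14 : π (g (v x)) = x * a := by
    obtain ⟨q, hq⟩ := (v x).2
    have h15 : v x = ⟨D q, ⟨q, rfl⟩⟩ := Subtype.ext hq.symm
    rw [h15, hg]
    change π (t ((φ.f 1).hom q) - K.subtype (w.hom q)) = _
    have h16 : π (K.subtype (w.hom q)) = 0 := (w.hom q).2
    rw [map_sub, h16, sub_zero, ht', hcomm]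
    have h17 : (P'.complex.d 1 0).hom q = (x : A) • e := hq
    rw [h17, map_smul, map_smul, smul_eq_mul]
  have h18 : (x : A) = π (g (v x) + (x : A) • b) := by
    rw [map_add, h14, map_smul, hb, smul_eq_mul]; ring
  conv_lhs => rw [h18, hπ]
  refine Finset.sum_congr rfl fun j _ => mul_comm _ _

/-- Stacks Tag 0EIA. Let A be a Noetherian ring and I the ideal generated by f_1, …, f_r, with cohomological dimension exactly 1. Then there are c ≥ 1 and A-linear maps φ_j : I^c → A such that x = Σ_j f_j φ_j(x) for every x ∈ I^c. -/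
theorem result (A : Type u) [CommRing A] [IsNoetherianRing A] (r : ℕ) (f : Fin r → A)
    (h₁ : LocCoh.CdLE A (Ideal.span (Set.range f)) 1) (h₀ : ¬ LocCoh.CdLE A (Ideal.span (Set.range f)) 0) :
    ∃ (c : ℕ) (φ : Fin r → (↥(Ideal.span (Set.range f) ^ (c + 1)) →ₗ[A] A)),
      ∀ x : ↥(Ideal.span (Set.range f) ^ (c + 1)), (x : A) = ∑ j, f j * φ j x := by
  obtain ⟨c, hc, φ, hφ⟩ := main A r f _ rfl h₁
  obtain ⟨c, rfl⟩ : ∃ k, c = k + 1 := ⟨c - 1, by omega⟩
  exact ⟨c, fun j => (LinearMap.proj j).comp φ, hφ⟩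

end Groth.Agent.S0825
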