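import Groth.Statements.S0826
import Groth.Agent.FormalB.QCohTower
import Groth.Agent.CohqA.HOpen

set_option autoImplicit false
universe u
open Formal2

namespace Groth.Agent.S0826

open CategoryTheory CategoryTheory.Limits AlgebraicGeometry in
/-- Stacks Tag 0EI8, part (2), for the ideal sheaf generated by an ideal I of a base ring A. Let X be a scheme over Spec A and (G_n) an inverse system of quasi-coherent O_X-modules with G_n killed by I^(n+1) and G_n = G_{n+1}/I^(n+1)G_{n+1} (indices shifted by one). Then the limit O_X-module lim G_n has vanishing cohomology in positive degrees over every affine open of X. -/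
theorem result (A : Type u) [CommRing A] (I : Ideal A) (X : Scheme.{u})
    [X.Over (Spec (CommRingCat.of A))] (G : ℕᵒᵖ ⥤ X.Modules) (hG : Formal2.IsQCohFormal I G)
    (U : X.Opens) (hU : IsAffineOpen U) (p : ℕ) (hp : 0 < p) :
    Subsingleton (Coh.HHon X (limit G) U p) := by
  obtain ⟨q, rfl⟩ : ∃ q, p = q + 1 := ⟨p - 1, by omega⟩
  obtain ⟨hL⟩ := Groth.Agent.FormalB.ToSheafLimits.nonempty_isLimit_toSheaf G
  have key : Subsingleton (Abelian.Ext (Groth.Agent.FormalB.SectHom.Zsh (Opens.grothendieckTopology X) U)
      (Coh.toAb (limit G)) (q + 1)) :=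
    Groth.Agent.FormalB.Milnor.subsingleton_ext_limit
      (C := Sheaf (Opens.grothendieckTopology X) AddCommGrpCat.{u})
      (Groth.Agent.FormalB.MilnorSheaf.freeOn (X := X.toTopCat)
        (Groth.Agent.FormalB.QCohTower.affs X))
      (fun K W h hh => Groth.Agent.FormalB.QCohTower.separating_affs X h hh)
      (G ⋙ SheafOfModules.toSheaf X.ringCatSheaf) _ hL
      (fun n Z hZ q => Groth.Agent.FormalB.QCohTower.subsingleton_ext_tower hG n Z hZ q)
      (fun n Z hZ z => Groth.Agent.FormalB.QCohTower.exists_lift_tr hG n Z hZ z) _ ⟨U, hU, rfl⟩ q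
  have key' : Subsingleton
      (CohTop.HU (X := X.toTopCat) (Coh.toAb (limit G)) (q + 1) U) := key
  exact (Groth.Agent.CohqA.HOpen.HHonEquiv (limit G) U (q + 1)).symm.toEquiv.subsingleton

end Groth.Agent.S0826
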