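import Groth.Statements.S0828
import Groth.Agent.S0605
import Groth.Agent.CalgA.RegAB
import Groth.Agent.Ega4A.RegCM
import Groth.Agent.Divis.StalkMod
import Groth.Agent.Dcoh.StalkFF
import Groth.Agent.CycB.StalkLoc
import Groth.Agent.CycB.LocQuot
import Groth.Agent.CycB.StalkExact

set_option autoImplicit false
universe u
open Coherent

namespace Groth.Agent.S0828

open CategoryTheory CategoryTheory.Limits AlgebraicGeometry in
theorem nontrivial_structureModule {X : Scheme.{u}} (x : X) :
    Nontrivial ((Coh.structureModule X).presheaf.stalk x) :=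
  (Groth.Agent.CycB.PushStalk.unitStalk X x).symm.toEquiv.nontrivial

open CategoryTheory CategoryTheory.Limits AlgebraicGeometry in
theorem nontrivial_freeMod_iff {X : Scheme.{u}} (n : ℕ) (x : X) :
    Nontrivial ((FlatMod.freeMod X n).presheaf.stalk x) ↔ n ≠ 0 := by
  constructor
  · rintro h rfl
    have h0 : IsZero ((Groth.Agent.CycB.StalkExact.stalkFun x).obj (FlatMod.freeMod X 0)) :=
      (Groth.Agent.CycB.StalkExact.stalkFun x).map_isZero
        Groth.Agent.Dcoh.ResFree.freeMod_zero_isZero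
    have h1 : Subsingleton ((Groth.Agent.CycB.StalkExact.stalkFun x).obj (FlatMod.freeMod X 0)) :=
      AddCommGrpCat.subsingleton_of_isZero h0
    have h2 : Nontrivial ((Groth.Agent.CycB.StalkExact.stalkFun x).obj (FlatMod.freeMod X 0)) := h
    exact not_subsingleton _ h1
  · intro h
    obtain ⟨m, rfl⟩ := Nat.exists_eq_succ_of_ne_zero h
    have := nontrivial_structureModule x
    exact (Groth.Agent.CycB.StalkExact.stalkLin_injective
      (Sigma.ι (fun _ : Fin (m + 1) => Coh.structureModule X) 0) x).nontrivial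

open CategoryTheory AlgebraicGeometry in
theorem nontrivial_iff_of_iso {X : Scheme.{u}} {F : X.Modules} (U : X.Opens) {n : ℕ}
    (e : F.restrict U.ι ≅ FlatMod.freeMod (↑U) n) (x : X) (hx : x ∈ U) :
    Nontrivial (F.presheaf.stalk x) ↔ n ≠ 0 := by
  rw [← nontrivial_freeMod_iff (X := ↑U) n ⟨x, hx⟩]
  have e1 : (F.restrict U.ι).presheaf.stalk (⟨x, hx⟩ : ↑U) ≃ F.presheaf.stalk x :=
    (Groth.Agent.Dcoh.StalkRes.addIso U.ι F ⟨x, hx⟩).toEquiv
  have e2 := (Groth.Agent.CycB.StalkExact.stalkLinEquiv e (⟨x, hx⟩ : ↑U)).toEquiv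
  exact ⟨fun h => ((e1.symm.trans e2).symm).nontrivial, fun h => (e1.symm.trans e2).nontrivial⟩

open CategoryTheory AlgebraicGeometry in
theorem support_eq_univ {X : Scheme.{u}} (F : X.Modules) (hF : Coh.IsQCoh F)
    (hne : ∀ y : X, Nontrivial (F.presheaf.stalk y)) (x : X) :
    Module.support (X.presheaf.stalk x) (F.presheaf.stalk x) = Set.univ := by
  refine Set.eq_univ_of_forall fun p => ?_
  obtain ⟨z, hz, hp⟩ := Groth.Agent.CycB.LocQuot.exists_eq_ker p.asIdeal
  rw [Module.mem_support_iff']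
  let _ := Groth.Agent.CycB.StalkLoc.specMod F hz
  have hloc := Groth.Agent.CycB.StalkLoc.isLocalizedModule_specLin F hF hz
  have hmem : ∀ r, r ∉ p.asIdeal → r ∈ (RingHom.ker (Cyc.specMap x z hz)).primeCompl :=
    fun r hr hr' => hr (hp ▸ hr')
  have := hne z
  obtain ⟨t, ht⟩ := exists_ne (0 : F.presheaf.stalk z)
  obtain ⟨⟨m, s⟩, hm⟩ := hloc.surj t
  have hinj : ∀ r : X.presheaf.stalk x, r ∉ p.asIdeal → ∀ w : F.presheaf.stalk z,
      r • w = 0 → w = 0 := by
    intro r hr w hw
    have hu := hloc.map_units ⟨r, hmem r hr⟩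
    rw [Module.End.isUnit_iff] at hu
    refine hu.1 ?_
    rw [map_zero]
    exact hw
  refine ⟨m, fun r hr h0 => ?_⟩
  have h1 : r • Groth.Agent.CycB.StalkLoc.specLin F hz m = 0 := by
    rw [← map_smul, h0, map_zero]
  have h2 := hinj r hr _ h1
  rw [← hm] at h2
  exact ht (hinj s.1 (fun h => s.2 (hp.le h)) _ h2)

theorem isCohenMacaulayModule_of_free (R : Type u) [CommRing R] [IsRegularLocalRing R]
    (M : Type u) [AddCommGroup M] [Module R M] [Module.Free R M] [Module.Finite R M]
    [Nontrivial M] : LocCoh.IsCohenMacaulayModule R M := by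
  have hdom : IsDomain R := Groth.Agent.CalgA.RegBasic.isDomain R
  have h1 := Groth.Agent.CalgA.RegAB.depth_eq M 0
    ⟨Groth.Agent.CalgA.RegProjDim.PD.of_projective (R := R) (M := M) le_rfl, fun h =>
      not_subsingleton M ((Groth.Agent.CalgA.RegProjDim.PD.zero_iff (R := R) (M := M)).1 h)⟩
  rw [Nat.cast_zero, zero_add] at h1
  have h2 := (Groth.Agent.Ega4A.RegCM.isCohenMacaulayLocalRing_of_isRegularLocalRing R).supportDim_eq_depth
  rw [LocCoh.IsCohenMacaulayModule, ← h1, ← h2, Module.supportDim, Module.supportDim,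
    Module.support_of_noZeroSMulDivisors, Module.support_of_noZeroSMulDivisors]

open CategoryTheory AlgebraicGeometry in
/-- Stacks Tag 0B3K. Let X be a regular scheme (locally Noetherian with regular local rings) and F a coherent O_X-module. Then F has support all of X and Cohen–Macaulay stalks if and only if F is finite locally free of positive rank near every point. -/
theorem result (X : Scheme.{u}) [IsLocallyNoetherian X]
    (hreg : ∀ x : X, IsRegularLocalRing (X.presheaf.stalk x)) (F : X.Modules) (hF : Coh.IsCoh F) :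
    (CohB1.support F = Set.univ ∧
        ∀ x : X, LocCoh.IsCohenMacaulayModule (X.presheaf.stalk x) ↑(F.presheaf.stalk x)) ↔
      ∀ x : X, ∃ (U : X.Opens) (n : ℕ), x ∈ U ∧ 0 < n ∧
        Nonempty (F.restrict U.ι ≅ FlatMod.freeMod (↑U) n) := by
  refine ⟨fun ⟨hs, hcm⟩ x => ?_, fun h => ?_⟩
  · have := hreg x
    have hne : ∀ y : X, Nontrivial (F.presheaf.stalk y) := fun y =>
      not_subsingleton_iff_nontrivial.1 (show y ∈ CohB1.support F by rw [hs]; trivial)
    have hfin := Groth.Agent.Divis.StalkMod.finite_stalk hF x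
    have hsupp : Module.support (X.presheaf.stalk x) (F.presheaf.stalk x) = Set.univ :=
      support_eq_univ F hF.1 hne x
    have hdim : Module.supportDim (X.presheaf.stalk x) (F.presheaf.stalk x) =
        ringKrullDim (X.presheaf.stalk x) := by
      rw [Module.supportDim, hsupp]
      exact Order.krullDim_eq_of_orderIso OrderIso.Set.univ
    have hfree : Module.Free (X.presheaf.stalk x) (F.presheaf.stalk x) :=
      Groth.Agent.S0605.result _ _ ((hcm x).symm.trans hdim)
    obtain ⟨V, n, hxV, ⟨e⟩⟩ := Groth.Agent.Divis.StalkMod.exists_free_nhd hF x hfree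
    refine ⟨V, n, hxV, Nat.pos_of_ne_zero fun h0 => ?_, ⟨e⟩⟩
    subst h0
    have h1 := (nontrivial_iff_of_iso V e x hxV).1 (hne x)
    exact h1 rfl
  · refine ⟨Set.eq_univ_of_forall fun x => ?_, fun x => ?_⟩
    · obtain ⟨U, n, hx, hn, ⟨e⟩⟩ := h x
      exact not_subsingleton_iff_nontrivial.2 ((nontrivial_iff_of_iso U e x hx).2 hn.ne')
    · obtain ⟨U, n, hx, hn, ⟨e⟩⟩ := h x
      have := hreg x
      have hne : Nontrivial (F.presheaf.stalk x) := (nontrivial_iff_of_iso U e x hx).2 hn.ne'
      have hff : Groth.Agent.Dcoh.StalkFF.FF F x :=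
        (Groth.Agent.Dcoh.StalkFF.FF_restrict_iff U.ι F ⟨x, hx⟩).1
          (Groth.Agent.Dcoh.StalkFF.FF.of_iso e.symm (Groth.Agent.Dcoh.StalkFF.FF_freeMod n _))
      have h1 := hff.1
      have h2 := hff.2
      exact isCohenMacaulayModule_of_free _ _

end Groth.Agent.S0828
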