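import Groth.Statements.S0833
import Groth.Agent.FormalB.ArtinReesMod

set_option autoImplicit false
universe u
open Formal2

namespace Groth.Agent.S0833

open CategoryTheory AlgebraicGeometry Opposite in
/-- Stacks Tag 0EHP, the assertion on homomorphisms, for the ideal sheaf I·O_X of an ideal I of a base ring A. Let X be a Noetherian scheme over Spec A and F, G coherent O_X-modules one of which is annihilated by a power of I. Then every map of systems (F/I^nF) → (G/I^nG) is induced by exactly one map F → G. (The assertion on Ext groups is not stated.) -/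
theorem result (A : Type u) [CommRing A] (I : Ideal A) (X : Scheme.{u})
    [X.Over (Spec (CommRingCat.of A))] [IsNoetherian X] (F G : X.Modules) (hF : Coh.IsCoh F) (hG : Coh.IsCoh G)
    (hc : ∃ c : ℕ, Formal.KilledBy (I ^ c) F ∨ Formal.KilledBy (I ^ c) G)
    (ψ : Formal.completion I F ⟶ Formal.completion I G) :
    ∃! φ : F ⟶ G, ∀ n : ℕ, Formal.modPowπ I (n + 1) F ≫ ψ.app (op n) = φ ≫ Formal.modPowπ I (n + 1) G := by
  obtain ⟨c, h | h⟩ := hc
  · -- `F` is killed by `I^c`
    have hg : ∀ n : ℕ, (Groth.Agent.FormalB.ModPow.cπ I F (n + 1) ≫ ψ.app (op (n + 1))) ≫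
        (Formal.completion I G).map (homOfLE (Nat.le_succ n)).op =
        Groth.Agent.FormalB.ModPow.cπ I F n ≫ ψ.app (op n) := by
      intro n
      rw [Category.assoc, ← Groth.Agent.FormalB.ModPow.nat_succ, ← Category.assoc,
        Groth.Agent.FormalB.ModPow.cπ_map_succ]
    obtain ⟨φ, h1, h2⟩ := Groth.Agent.FormalB.ArtinReesMod.exists_lift_of_killed I hF.1 hG c h
      (fun n => Groth.Agent.FormalB.ModPow.cπ I F n ≫ ψ.app (op n)) hg
    exact ⟨φ, fun n => (h1 n).symm, fun φ' h' => h2 φ' (fun n => (h' n).symm)⟩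
  · -- `G` is killed by `I^c`
    have hiso : ∀ n, c ≤ n + 1 → IsIso (Groth.Agent.FormalB.ModPow.cπ I G n) := fun n hn =>
      (Groth.Agent.FormalB.ModPow.isModPow_cπ I G n).isIso_of_killedBy
        (Groth.Agent.FormalB.ModPow.killedBy_of_le (Ideal.pow_le_pow_right hn) h)
    have := hiso c (Nat.le_succ c)
    have nat : ∀ {a b : ℕ} (hab : a ≤ b), (Formal.completion I F).map (homOfLE hab).op ≫ ψ.app (op a) =
        ψ.app (op b) ≫ (Formal.completion I G).map (homOfLE hab).op := fun hab => ψ.naturality _
    refine ⟨Groth.Agent.FormalB.ModPow.cπ I F c ≫ ψ.app (op c) ≫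
      inv (Groth.Agent.FormalB.ModPow.cπ I G c), fun n => ?_, fun φ' h' => ?_⟩
    · change Groth.Agent.FormalB.ModPow.cπ I F n ≫ ψ.app (op n) = _ ≫ Groth.Agent.FormalB.ModPow.cπ I G n
      rcases le_total n c with hn | hn
      · rw [← Groth.Agent.FormalB.ModPow.cπ_map I F hn, Category.assoc, nat hn, Category.assoc,
          Category.assoc, ← Groth.Agent.FormalB.ModPow.cπ_map I G hn, IsIso.inv_hom_id_assoc]
      · have := hiso n (by omega)
        have h2 : Groth.Agent.FormalB.ModPow.cπ I F c ≫ ψ.app (op c) =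
            Groth.Agent.FormalB.ModPow.cπ I F n ≫ ψ.app (op n) ≫
              (Formal.completion I G).map (homOfLE hn).op := by
          rw [← Groth.Agent.FormalB.ModPow.cπ_map I F hn, Category.assoc, nat hn]
        have h3 : (Formal.completion I G).map (homOfLE hn).op ≫
            inv (Groth.Agent.FormalB.ModPow.cπ I G c) = inv (Groth.Agent.FormalB.ModPow.cπ I G n) := by
          rw [← cancel_epi (Groth.Agent.FormalB.ModPow.cπ I G n), ← Category.assoc,
            Groth.Agent.FormalB.ModPow.cπ_map, IsIso.hom_inv_id, IsIso.hom_inv_id]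
        rw [reassoc_of% h2, h3, Category.assoc, Category.assoc, IsIso.inv_hom_id, Category.comp_id]
    · have h1 : Groth.Agent.FormalB.ModPow.cπ I F c ≫ ψ.app (op c) =
        φ' ≫ Groth.Agent.FormalB.ModPow.cπ I G c := h' c
      rw [← cancel_mono (Groth.Agent.FormalB.ModPow.cπ I G c), ← h1]
      simp

end Groth.Agent.S0833
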