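import Groth.Statements.S0834
import Groth.Agent.FormalB.FormalKer

set_option autoImplicit false
universe u
open Formal2

namespace Groth.Agent.S0834

open CategoryTheory CategoryTheory.Limits AlgebraicGeometry in
/-- Stacks Tag 087X, part (1), the kernel half of the source's abelianness statement, for the ideal sheaf I·O_X of an ideal I of a base ring A. Let X be a Noetherian scheme over Spec A. Then the full subcategory of inverse systems of O_X-modules formed by the coherent formal modules for I has kernels. (Cokernels are componentwise; abelianness itself is not asserted here.) -/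
theorem result (A : Type u) [CommRing A] (I : Ideal A) (X : Scheme.{u})
    [X.Over (Spec (CommRingCat.of A))] [IsNoetherian X] : HasKernels (Formal2.CohFormalCat I X) := by
  open Groth.Agent.FormalB.FormalKer Groth.Agent.FormalB.FormalLift Groth.Agent.FormalB.ModPow in
  refine ⟨fun {F G} f => ?_⟩
  obtain ⟨c, hc⟩ := exists_cohFormal_core_kernel F.2 G.2 f.hom
  have hF := ((isCohFormal_iff _ _).1 F.2).2
  have hK : ∀ n, Formal.KilledBy (I ^ (n + 1)) ((kernel f.hom).obj (Opposite.op n)) :=
    killedBy_kernel_obj hF f.hom
  let K : Formal2.CohFormalCat I X := ⟨core I (kernel f.hom) c, hc⟩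
  let ι : K ⟶ F := ObjectProperty.homMk (coreι hK c ≫ kernel.ι f.hom)
  have hι : ι ≫ f = 0 := by
    ext1
    change (coreι hK c ≫ kernel.ι f.hom) ≫ f.hom = 0
    rw [Category.assoc, kernel.condition, comp_zero]
  have hex : ∀ {W : Formal2.CohFormalCat I X} (g : W ⟶ F), g ≫ f = 0 →
      ∃! h : W.obj ⟶ core I (kernel f.hom) c, h ≫ (coreι hK c ≫ kernel.ι f.hom) = g.hom := by
    intro W g hg
    have hg' : g.hom ≫ f.hom = 0 := congrArg (fun h => h.hom) hg
    obtain ⟨h, hh, hu⟩ := existsUnique_lift_core ((isCohFormal_iff _ _).1 W.2).2 hK c (kernel.lift f.hom g.hom hg')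
    refine ⟨h, ?_, fun h' hh' => hu h' ?_⟩
    · dsimp only
      rw [← Category.assoc, hh, kernel.lift_ι]
    · dsimp only
      rw [← cancel_mono (kernel.ι f.hom), kernel.lift_ι, Category.assoc]
      exact hh'
  refine HasLimit.mk ⟨KernelFork.ofι ι hι, KernelFork.IsLimit.ofι _ _
    (fun {W} g hg => ObjectProperty.homMk (hex g hg).choose) (fun {W} g hg => ?_) (fun {W} g hg m hm => ?_)⟩
  · ext1
    exact (hex g hg).choose_spec.1
  · ext1
    exact (hex g hg).choose_spec.2 m.hom (congrArg (fun h => h.hom) hm)

end Groth.Agent.S0834
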