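import Groth.Statements.S0835
import Groth.Agent.FormalB.PullSys
import Groth.Agent.FormalB.PullCoh

set_option autoImplicit false
universe u
open Formal2

namespace Groth.Agent.S0835

open CategoryTheory AlgebraicGeometry in
/-- Stacks Tag 0887, first assertion, for ideal sheaves generated by an ideal I of a base ring A. Let f : X → Y be a morphism of Noetherian schemes over Spec A and (G_n) a coherent formal module for I on Y. Then the componentwise pullback (f^* G_n) is a coherent formal module for I on X. (Exactness properties of this functor are not stated.) -/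
theorem result (A : Type u) [CommRing A] (I : Ideal A) (X Y : Scheme.{u})
    [X.Over (Spec (CommRingCat.of A))] [Y.Over (Spec (CommRingCat.of A))] [IsNoetherian X] [IsNoetherian Y]
    (f : X ⟶ Y) (hf : f ≫ (Y ↘ Spec (CommRingCat.of A)) = X ↘ Spec (CommRingCat.of A))
    (G : ℕᵒᵖ ⥤ Y.Modules) (hG : Formal.IsCohFormal I G) :
    Formal.IsCohFormal I (G ⋙ Scheme.Modules.pullback f) := by
  obtain ⟨h1, h2⟩ := (Groth.Agent.FormalB.ModPow.isCohFormal_iff I G).1 hG
  rw [Groth.Agent.FormalB.ModPow.isCohFormal_iff]
  exact ⟨fun n => Groth.Agent.FormalB.PullCoh.isCoh_pullback f (h1 n),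
    Groth.Agent.FormalB.PullSys.pullback_isFormal f hf h2⟩

end Groth.Agent.S0835
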