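import Groth.Statements.S0836
import Groth.Agent.FormalB.PushCoh
import Groth.Agent.FormalB.PullCoh

set_option autoImplicit false
universe u
open Formal2

namespace Groth.Agent.S0836

open CategoryTheory CategoryTheory.Limits AlgebraicGeometry in
/-- Stacks Tag 0EHQ, for the ideal sheaf generated by an ideal I of a base ring A (so Z = X ×_A Spec(A/I)). Let f : X' → X be a flat morphism of Noetherian schemes over Spec A such that the induced morphism X' ×_A Spec(A/I) → X ×_A Spec(A/I) is an isomorphism. Then componentwise pullback along f is fully faithful and essentially surjective from coherent formal modules for I on X to those on X'. -/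
theorem result (A : Type u) [CommRing A] (I : Ideal A) (X X' : Scheme.{u})
    [X.Over (Spec (CommRingCat.of A))] [X'.Over (Spec (CommRingCat.of A))] [IsNoetherian X] [IsNoetherian X']
    (f : X' ⟶ X) [Flat f] (hf : f ≫ (X ↘ Spec (CommRingCat.of A)) = X' ↘ Spec (CommRingCat.of A))
    (hZ : IsIso (pullback.map (X' ↘ Spec (CommRingCat.of A)) (CohB1.specQuot I 0)
      (X ↘ Spec (CommRingCat.of A)) (CohB1.specQuot I 0) f (𝟙 _) (𝟙 _)
      ((Category.comp_id _).trans hf.symm) ((Category.comp_id _).trans (Category.id_comp _).symm))) :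
    (∀ G₁ G₂ : ℕᵒᵖ ⥤ X.Modules, Formal.IsCohFormal I G₁ → Formal.IsCohFormal I G₂ →
      Function.Bijective (fun φ : G₁ ⟶ G₂ => Functor.whiskerRight φ (Scheme.Modules.pullback f))) ∧
    (∀ G' : ℕᵒᵖ ⥤ X'.Modules, Formal.IsCohFormal I G' →
      ∃ G : ℕᵒᵖ ⥤ X.Modules, Formal.IsCohFormal I G ∧ Nonempty (G ⋙ Scheme.Modules.pullback f ≅ G')) := by
  have h := Groth.Agent.FormalB.IsoAlong.isIsoAlong_of_isIso f hf I hZ
  have : QuasiCompact f := inferInstance
  have : QuasiSeparated f := inferInstance
  refine ⟨fun G₁ G₂ h₁ h₂ => ?_, fun G' hG' => ?_⟩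
  · exact Groth.Agent.FormalB.PushCoh.whiskerRight_pullback_bijective h hf _
      ((Groth.Agent.FormalB.ModPow.isCohFormal_iff I G₂).1 h₂).2.killed
  · obtain ⟨h1, h2⟩ := (Groth.Agent.FormalB.ModPow.isCohFormal_iff I G').1 hG'
    refine ⟨G' ⋙ Scheme.Modules.pushforward f, ?_,
      Groth.Agent.FormalB.PushCoh.exists_pullback_iso h hf h2⟩
    rw [Groth.Agent.FormalB.ModPow.isCohFormal_iff]
    exact ⟨fun n => Groth.Agent.FormalB.PushCoh.isCoh_pushforward h hf (h2.killed n) (h1 n),
      Groth.Agent.FormalB.KilledEquiv.pushforward_isFormal h hf h2⟩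

end Groth.Agent.S0836
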