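import Groth.Statements.S0840
import Groth.Agent.CohqB.HomPost
import Groth.Agent.CohqB.LimZero

set_option autoImplicit false
universe u
open Formal2

namespace Groth.Agent.S0840

open CategoryTheory AlgebraicGeometry Opposite in
/-- Stacks Tag 0EKP, implication (3) ⇒ (4), for the closed subscheme cut out by an ideal I of a base ring A (the converse, asserted in the source, is not stated). Let X be a Noetherian scheme over Spec A such that H^0(X, E) → lim_n H^0(X, E/I^nE) is bijective for every finite locally free O_X-module E. Then for all finite locally free E, E' every map of systems (E/I^nE) → (E'/I^nE') is induced by exactly one map E → E'. -/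
theorem result (A : Type u) [CommRing A] (I : Ideal A) (X : Scheme.{u})
    [X.Over (Spec (CommRingCat.of A))] [IsNoetherian X]
    (h : ∀ E : X.Modules, FlatMod.IsFinLocFree E → Function.Bijective (Formal.toHHlim I E 0))
    (E E' : X.Modules) (hE : FlatMod.IsFinLocFree E) (hE' : FlatMod.IsFinLocFree E')
    (ψ : Formal.completion I E ⟶ Formal.completion I E') :
    ∃! φ : E ⟶ E', ∀ n : ℕ, Formal.modPowπ I (n + 1) E ≫ ψ.app (op n) = φ ≫ Formal.modPowπ I (n + 1) E' := by
  have hq := Groth.Agent.Ega4dA.FrameQC.isQCoh_of_isFinLocFree hE'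
  have h1 := (Groth.Agent.CohqB.LimZero.bijective_toHHlim_zero_iff I _).1
    (h _ (Groth.Agent.CohqB.HomPost.isFinLocFree_homSheaf hE hE'))
  have h2 := (Groth.Agent.CohqB.LimZero.secComplete_iff_of_isModPow
    (fun n => Groth.Agent.CohqB.HomSheaf.homSheaf E (Formal.modPow I (n + 1) E'))
    (fun n => Groth.Agent.CohqB.HomPost.post E (Formal.modPowπ I (n + 1) E'))
    (fun n => Groth.Agent.CohqB.HomPost.isModPow_post hE hq (Groth.Agent.FormalB.ModPow.isModPow_modPowπ I (n + 1) E'))
    (fun n => Groth.Agent.CohqB.HomPost.post E (Formal.modPowTrans I (n + 1) E'))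
    (fun n => by rw [Groth.Agent.CohqB.HomPost.post_comp, Formal.modPowπ_trans])).1 h1
  let T := fun N : X.Modules => Groth.Agent.CohqB.HomSheaf.topEquiv E N
  obtain ⟨s, hs, hs'⟩ := h2 (fun n => (T _).symm (Formal.modPowπ I (n + 1) E ≫ ψ.app (op n))) fun n => by
    apply (T _).injective
    refine (Groth.Agent.CohqB.HomPost.topEquiv_post _ _).trans ?_
    rw [AddEquiv.apply_symm_apply, AddEquiv.apply_symm_apply]
    have h3 := Groth.Agent.FormalB.ModPow.nat_succ ψ n
    rw [Groth.Agent.FormalB.ModPow.completion_map_succ] at h3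
    have h4 := Groth.Agent.FormalB.ModPow.completion_map_succ I E' n
    refine (Category.assoc _ _ _).trans ?_
    rw [← h4]
    refine (congrArg (fun z => Formal.modPowπ I (n + 1 + 1) E ≫ z) h3.symm).trans ?_
    refine (Category.assoc _ _ _).symm.trans ?_
    exact congrArg (fun z => z ≫ ψ.app (op n)) (Formal.modPowπ_trans I (n + 1) E)
  refine ⟨T _ s, fun n => ?_, fun φ hφ => ?_⟩
  · have h3 := congrArg (T _) (hs n)
    rw [AddEquiv.apply_symm_apply] at h3
    exact h3.symm.trans (Groth.Agent.CohqB.HomPost.topEquiv_post _ _)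
  · have h3 := hs' ((T _).symm φ) fun n => by
      apply (T _).injective
      refine (Groth.Agent.CohqB.HomPost.topEquiv_post _ _).trans ?_
      rw [AddEquiv.apply_symm_apply, AddEquiv.apply_symm_apply]
      exact (hφ n).symm
    rw [← h3, AddEquiv.apply_symm_apply]

end Groth.Agent.S0840
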