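import Groth.Statements.S0841
-- import your own Groth.Agent.* helpers here
import Groth.Agent.FormalB.PuncSys

set_option autoImplicit false
universe u
open Formal2

namespace Groth.Agent.S0841

open CategoryTheory AlgebraicGeometry Opposite in
/-- Stacks Tag 0DXT, the direction proved in the source ('conversely, every object arises in this manner'; the verification of the first direction is omitted there and not stated here). Indexing: position n here is the source's index n+1. Let A be a Noetherian ring, I ⊆ 𝔞 ideals, U = Spec A ∖ V(𝔞). For every coherent formal module (F_n) for I on U there are finite A-modules M_n with I^(n+1) M_n = 0 and linear maps M_{n+1} → M_n such that the kernel and cokernel of the induced maps M_{n+1}/I^(n+1)M_{n+1} → M_n are 𝔞-power torsion, together with an isomorphism between (F_n) and the system of restrictions to U of the modules M_n~. -/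
theorem result (A : Type u) [CommRing A] [IsNoetherianRing A]
    (I 𝔞 : Ideal A) (hI : I ≤ 𝔞) (F : ℕᵒᵖ ⥤ (↑(LocCoh.puncturedOpen A 𝔞) : Scheme.{u}).Modules)
    (hF : Formal.IsCohFormal I F) :
    ∃ (M : ℕ → Type u) (_ : ∀ n, AddCommGroup (M n)) (_ : ∀ n, Module A (M n)) (g : ∀ n, M (n + 1) →ₗ[A] M n),
      (∀ n, Module.Finite A (M n)) ∧ (∀ n, I ^ (n + 1) • (⊤ : Submodule A (M n)) = ⊥) ∧
      (∀ n (x : M (n + 1)), g n x = 0 → ∃ m : ℕ, ∀ a ∈ 𝔞 ^ m, a • x ∈ I ^ (n + 1) • (⊤ : Submodule A (M (n + 1)))) ∧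
      (∀ n (y : M n), ∃ m : ℕ, ∀ a ∈ 𝔞 ^ m, a • y ∈ LinearMap.range (g n)) ∧
      Nonempty (F ≅ Functor.ofOpSequence
        (X := fun n => (Scheme.Modules.restrictFunctor (LocCoh.puncturedOpen A 𝔞).ι).obj (Formal2.tmod A (M n)))
        (fun n => (Scheme.Modules.restrictFunctor (LocCoh.puncturedOpen A 𝔞).ι).map (Formal2.tmodMap A (g n)))) := by
  have hU := Groth.Agent.FormalB.PuncSys.isCompact_puncturedOpen 𝔞
  obtain ⟨P, hP, hPP⟩ := Groth.Agent.FormalB.PuncSys.exists_sys (LocCoh.puncturedOpen A 𝔞) hU F hF.1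
  have hiso : ∀ n, IsIso (Groth.Agent.FormalB.PuncTheta2.subToMod (LocCoh.puncturedOpen A 𝔞) (P n)) := fun n =>
    Groth.Agent.FormalB.PuncTheta2.isIso_subToMod _ hU (hF.1 n).1 (P n) (hP n).2
  have hnat := fun n => Groth.Agent.FormalB.PuncSys.subToMod_naturality (LocCoh.puncturedOpen A 𝔞)
    (F.map (homOfLE (Nat.le_succ n)).op) (P (n + 1)) (P n) (hPP n)
  have hmp : ∀ n, Groth.Agent.FormalB.ModPow.IsModPow (I ^ (n + 1))
      (Groth.Agent.FormalB.PuncTheta.thetaMap (LocCoh.puncturedOpen A 𝔞)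
        ((((Groth.Agent.FormalB.PuncTheta.Gam (LocCoh.puncturedOpen A 𝔞)).map
          (F.map (homOfLE (Nat.le_succ n)).op)).hom).restrict (hPP n))) := by
    intro n
    have h1 := (Groth.Agent.FormalB.ModPow.isModPow_iff _).2 (hF.2.2 n)
    have := hiso n
    have := hiso (n + 1)
    have h2 := (h1.iso_comp (Groth.Agent.FormalB.PuncTheta2.subToMod (LocCoh.puncturedOpen A 𝔞) (P (n + 1)))).comp_iso
      (inv (Groth.Agent.FormalB.PuncTheta2.subToMod (LocCoh.puncturedOpen A 𝔞) (P n)))
    rw [← hnat n, Category.assoc, IsIso.hom_inv_id, Category.comp_id] at h2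
    exact h2
  have hkill : ∀ n, I ^ (n + 1) • (⊤ : Submodule A (P n)) = ⊥ := by
    intro n
    rw [eq_bot_iff, Submodule.smul_le]
    intro a ha x _
    rw [Submodule.mem_bot]
    exact Subtype.ext (Groth.Agent.FormalB.PuncSys.smul_eq_zero_of_killedBy _ (hF.2.1 n) ha x.1)
  have htors := fun n => Groth.Agent.FormalB.PuncSys.isTorsOn_of_isModPow (LocCoh.puncturedOpen A 𝔞) (I ^ (n + 1))
    ((((Groth.Agent.FormalB.PuncTheta.Gam (LocCoh.puncturedOpen A 𝔞)).map
          (F.map (homOfLE (Nat.le_succ n)).op)).hom).restrict (hPP n)) (by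
      rw [Submodule.smul_le]
      intro a ha x _
      rw [LinearMap.mem_ker, map_smul]
      exact Subtype.ext (Groth.Agent.FormalB.PuncSys.smul_eq_zero_of_killedBy _ (hF.2.1 n) ha _)) (hmp n)
  refine ⟨fun n => P n, inferInstance, inferInstance,
    fun n => (((Groth.Agent.FormalB.PuncTheta.Gam (LocCoh.puncturedOpen A 𝔞)).map
          (F.map (homOfLE (Nat.le_succ n)).op)).hom).restrict (hPP n), ?_, hkill, ?_, ?_, ?_⟩
  · intro n
    exact Module.Finite.iff_fg.2 (hP n).1
  · intro n x hx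
    exact Groth.Agent.FormalB.PuncSys.exists_pow_of_forall 𝔞 (IsNoetherian.noetherian 𝔞) _ x fun a ha =>
      (htors n).1 a (Groth.Agent.FormalB.PuncSys.D_le_puncturedOpen 𝔞 ha) x hx
  · intro n y
    exact Groth.Agent.FormalB.PuncSys.exists_pow_of_forall 𝔞 (IsNoetherian.noetherian 𝔞) _ y fun a ha =>
      (htors n).2 a (Groth.Agent.FormalB.PuncSys.D_le_puncturedOpen 𝔞 ha) y
  · have key : ∀ (Z : ℕ → (↑(LocCoh.puncturedOpen A 𝔞) : Scheme.{u}).Modules) (z : ∀ n, Z (n + 1) ⟶ Z n)
        (e : ∀ n, Z n ⟶ F.obj (op n)) (_ : ∀ n, IsIso (e n))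
        (_ : ∀ n, z n ≫ e n = e (n + 1) ≫ F.map (homOfLE (Nat.le_succ n)).op),
        Nonempty (F ≅ Functor.ofOpSequence z) := by
      intro Z z e he hz
      let β : Functor.ofOpSequence z ⟶ F := NatTrans.ofOpSequence (F := Functor.ofOpSequence z) (G := F)
        (fun n => e n) (fun n => by
          rw [Functor.ofOpSequence_map_homOfLE_succ]
          exact hz n)
      have hβ : ∀ n : ℕᵒᵖ, IsIso (β.app n) := fun n => he n.unop
      have : IsIso β := NatIso.isIso_of_isIso_app _
      exact ⟨(asIso β).symm⟩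
    exact key _ _ (fun n => Groth.Agent.FormalB.PuncTheta2.subToMod (LocCoh.puncturedOpen A 𝔞) (P n)) hiso hnat

end Groth.Agent.S0841
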