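import Groth.Statements.S0842
import Groth.Agent.FormalB.SplitLim
import Groth.Agent.FormalB.SplitH
import Groth.Agent.CohqB.HSeqMod
import Groth.Agent.S0825
import Groth.Agent.S0827

set_option autoImplicit false
universe u
open scoped BigOperators
open Formal2

namespace Groth.Agent.S0842

section Helpers

open CategoryTheory CategoryTheory.Limits AlgebraicGeometry Opposite
open Groth.Agent.FormalB Groth.Agent.CohqB.HSeqMod

variable {A : Type u} [CommRing A] {X : Scheme.{u}} [X.Over (Spec (CommRingCat.of A))]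

theorem hmap_smulMod (M : X.Modules) (a : A) (p : ℕ) (x : Coh.HH X M p) :
    hmap (Formal.smulMod A M a) p x = a • x := rfl

theorem hmap_smul {M N : X.Modules} (φ : M ⟶ N) (p : ℕ) (a : A) (x : Coh.HH X M p) :
    hmap φ p (a • x) = a • hmap φ p x := by
  rw [← hmap_smulMod, ← hmap_smulMod, ← hmap_comp_apply, ← hmap_comp_apply, ModPow.smulMod_naturality]

theorem hsys_π (G : ℕᵒᵖ ⥤ X.Modules) (p n : ℕ) (x : Coh.HH X (limit G) p) :
    Formal2.HHsysMap G p n (hmap (limit.π G (op (n + 1))) p x) = hmap (limit.π G (op n)) p x := by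
  have h1 := hmap_comp_apply (limit.π G (op (n + 1))) (G.map (homOfLE (Nat.le_succ n)).op) p x
  rw [limit.w] at h1
  exact h1.symm

/-- One step: classes of `lim G` dying deep in the system are `∑ f_j y_j`. -/
theorem step {r : ℕ} {f : Fin r → A} [AlgebraicGeometry.IsNoetherian X] {G : ℕᵒᵖ ⥤ X.Modules}
    (hG : Formal.IsCohFormal (Ideal.span (Set.range f)) G) {c n q : ℕ} (hq : q + c ≤ n)
    (Ψ : Fin r → (kernel (limit.π G (op n)) ⟶ limit G))
    (h1 : ∑ j, Ψ j ≫ Formal.smulMod A _ (f j) = kernel.ι _)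
    (h2 : ∀ j q, q + c ≤ n → Ψ j ≫ limit.π G (op q) = 0) (p : ℕ)
    (x : Coh.HH X (limit G) p) (hx : hmap (limit.π G (op n)) p x = 0) :
    ∃ y : Fin r → Coh.HH X (limit G) p, x = ∑ j, f j • y j ∧ ∀ j, hmap (limit.π G (op q)) p (y j) = 0 := by
  have hepi : Epi (limit.π G (op n)) := SysSect.epi_of_affine _ fun U hU =>
    LimAff.π_app_surjective (LimAff.isQCohFormal_of_isCohFormal hG) hU n
  have hS : (ShortComplex.mk (kernel.ι (limit.π G (op n))) (limit.π G (op n)) (kernel.condition _)).ShortExact :=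
    { exact := ShortComplex.exact_kernel _
      mono_f := inferInstance
      epi_g := hepi }
  obtain ⟨z, hz⟩ := exact₂ hS p x hx
  refine ⟨fun j => hmap (Ψ j) p z, ?_, fun j => ?_⟩
  · rw [← hz]
    change hmap (kernel.ι (limit.π G (op n))) p z = _
    rw [← h1, hmap_sum_apply]
    exact Finset.sum_congr rfl fun j _ => hmap_comp_apply _ _ _ _
  · rw [← hmap_comp_apply, h2 j q hq, hmap_zero_apply]

theorem step' {r : ℕ} {f : Fin r → A} [AlgebraicGeometry.IsNoetherian X] (hI : (Ideal.span (Set.range f)).FG)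
    {G : ℕᵒᵖ ⥤ X.Modules} (hG : Formal.IsCohFormal (Ideal.span (Set.range f)) G) {c : ℕ}
    (φ : Fin r → (↥(Ideal.span (Set.range f) ^ c) →ₗ[A] A))
    (hφ : ∀ x : ↥(Ideal.span (Set.range f) ^ c), (x : A) = ∑ j, f j * φ j x) (p k : ℕ) :
    ∃ n, ∀ x : Coh.HH X (limit G) p, hmap (limit.π G (op n)) p x = 0 →
      ∃ y : Fin r → Coh.HH X (limit G) p, x = ∑ j, f j • y j ∧
        ∀ j, hmap (limit.π G (op k)) p (y j) = 0 := by
  obtain ⟨d, hd⟩ := SplitLim.exists_splitting hI hG c φ hφ
  obtain ⟨Ψ, h1, h2⟩ := hd (c + d + k) (by omega)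
  exact ⟨c + d + k, fun x hx => step hG (c := c) (q := k) (by omega) Ψ h1 h2 p x hx⟩

/-- Lifting compatible families to `H^p(X, lim G)`. -/
theorem exists_lift {I : Ideal A} {G : ℕᵒᵖ ⥤ X.Modules} (hG : Formal.IsCohFormal I G) (p : ℕ)
    (x : ∀ n, Coh.HH X (G.obj (op n)) p) (hx : ∀ n, Formal2.HHsysMap G p n (x (n + 1)) = x n) :
    ∃ y : Coh.HH X (limit G) p, ∀ n, hmap (limit.π G (op n)) p y = x n := by
  cases p with
  | zero =>
    obtain ⟨hL⟩ := ToSheafLimits.nonempty_isLimit_toSheaf G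
    exact SplitH.exists_lift_ext_zero hL _ x hx
  | succ p =>
    obtain ⟨α, β, -, hβ, -, h⟩ := Groth.Agent.S0827.result A I X G
      (LimAff.isQCohFormal_of_isCohFormal hG) p
    have hmem : x ∈ Formal2.limZero (fun n => Coh.HH X (G.obj (op n)) (p + 1)) (Formal2.HHsysMap G (p + 1)) :=
      funext fun n => sub_eq_zero.2 (hx n).symm
    obtain ⟨y, hy⟩ := hβ ⟨x, hmem⟩
    refine ⟨y, fun n => ?_⟩
    have h1 := h y n
    rw [hy] at h1
    exact h1.symm

end Helpers

open CategoryTheory AlgebraicGeometry Opposite in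
/-- Stacks Tag 0EH7, the nontrivial inclusion. Let A be a Noetherian ring and I an ideal of cohomological dimension exactly 1, X a Noetherian scheme over Spec A, and (F_n) a coherent formal module for I (coherent terms with F_n = F_{n+1}/I^nF_{n+1}; indices shifted by one). Then for every p and m there is c such that every compatible family x = (x_n) in the product of the H^p(X, F_n) whose component x_c vanishes is a finite sum of products a · y with a ∈ I^m and y a compatible family. (The reverse inclusion, that I^m times the limit dies in H^p(X, F_n) for n small, is immediate and not stated.) -/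
theorem result (A : Type u) [CommRing A] [IsNoetherianRing A] (I : Ideal A)
    (h₁ : LocCoh.CdLE A I 1) (h₀ : ¬ LocCoh.CdLE A I 0) (X : Scheme.{u}) [X.Over (Spec (CommRingCat.of A))]
    [IsNoetherian X] (G : ℕᵒᵖ ⥤ X.Modules) (hG : Formal.IsCohFormal I G) (p m : ℕ) :
    ∃ c : ℕ, ∀ x : ∀ n, Coh.HH X (G.obj (op n)) p,
      (∀ n, Formal2.HHsysMap G p n (x (n + 1)) = x n) → x c = 0 →
        ∃ (k : ℕ) (a : Fin k → A) (y : Fin k → ∀ n, Coh.HH X (G.obj (op n)) p),
          (∀ i, a i ∈ I ^ m ∧ ∀ n, Formal2.HHsysMap G p n (y i (n + 1)) = y i n) ∧ x = ∑ i, a i • y i := by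
  have hIfg : I.FG := IsNoetherian.noetherian I
  obtain ⟨r, f, hf⟩ := Submodule.fg_iff_exists_fin_generating_family.1 hIfg
  have hf' : Ideal.span (Set.range f) = I := hf
  subst hf'
  obtain ⟨c₀, φ, hφ⟩ := Groth.Agent.S0825.result A r f h₁ h₀
  obtain ⟨c, hc⟩ := Groth.Agent.FormalB.SplitH.exists_bound_pow f
    (H := Coh.HH X (CategoryTheory.Limits.limit G) p)
    (fun n x => Groth.Agent.CohqB.HSeqMod.hmap (CategoryTheory.Limits.limit.π G (op n)) p x = 0)
    (fun k => step' hIfg hG φ hφ p k) m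
  exact ⟨c, Groth.Agent.FormalB.SplitH.exists_bound_families (H := Coh.HH X (CategoryTheory.Limits.limit G) p) m
    (Formal2.HHsysMap G p) (fun n => Groth.Agent.CohqB.HSeqMod.hmap (CategoryTheory.Limits.limit.π G (op n)) p)
    (fun n x => hsys_π G p n x)
    (fun n a x => hmap_smul _ p a x)
    (fun x hx => exists_lift hG p x hx) c hc⟩

end Groth.Agent.S0842
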