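import Groth.Statements.S0849
-- import your own Groth.Agent.* helpers here
import Groth.Agent.Ega3B.GrSec

set_option autoImplicit false
universe u
open Coherent

namespace Groth.Agent.S0849

open CategoryTheory AlgebraicGeometry Opposite in
/-- Stacks Tag 0AG7. Let A be a Noetherian graded ring generated by its degree-one part over its degree-zero part (graded by ℕ as an R-algebra), M a finite graded A-module, and X = Proj A. Then the natural map from M_n to the global sections of the sheaf M(n)~ (m ↦ m/1) is bijective for all sufficiently large n. -/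
theorem result {R A : Type u} [CommRing R] [CommRing A] [Algebra R A]
    (𝒜 : ℕ → Submodule R A) [GradedAlgebra 𝒜] [IsNoetherianRing A] (hgen : ∀ i : ℕ, 𝒜 (i + 1) = 𝒜 1 * 𝒜 i)
    (M : Type u) [AddCommGroup M] [Module R M] [Module A M] [IsScalarTower R A M] [Module.Finite A M]
    (ℳ : ℕ → Submodule R M) [DirectSum.Decomposition ℳ] [SetLike.GradedSMul 𝒜 ℳ] :
    ∃ n₀ : ℕ, ∀ n : ℕ, n₀ ≤ n → Function.Bijective (fun m : ℳ n => GrTilde.globalOf 𝒜 ℳ m) := by
  obtain ⟨r, g, hg, hD⟩ := Groth.Agent.Ega3B.GrSec.exists_generators 𝒜 hgen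
  exact Groth.Agent.Ega3B.GrSec.bijective 𝒜 ℳ g hD hg

end Groth.Agent.S0849
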