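import Groth.Statements.S0852
-- import your own Groth.Agent.* helpers here
import Groth.Agent.FormalB.SysSect

set_option autoImplicit false
universe u
open Formal2

namespace Groth.Agent.S0852

section

open CategoryTheory CategoryTheory.Limits AlgebraicGeometry Opposite Groth.Agent.FormalB

variable {A : Type u} [CommRing A] {I : Ideal A} {X : Scheme.{u}}
    [X.Over (Spec (CommRingCat.of A))] {G : ℕᵒᵖ ⥤ X.Modules}

/-- Transition maps on sections, as `A`-linear maps. -/
noncomputable def transL (A : Type u) [CommRing A] {X : Scheme.{u}}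
    [X.Over (Spec (CommRingCat.of A))] (G : ℕᵒᵖ ⥤ X.Modules) (U : X.Opens) (k : ℕ) :
    letI := SysSect.modA A (G.obj (op (k + 1))) U
    letI := SysSect.modA A (G.obj (op k)) U
    Γ(G.obj (op (k + 1)), U) →ₗ[A] Γ(G.obj (op k), U) :=
  letI := SysSect.modA A (G.obj (op (k + 1))) U
  letI := SysSect.modA A (G.obj (op k)) U
  { toFun := (G.map (homOfLE (Nat.le_succ k)).op).app U
    map_add' := map_add _
    map_smul' := fun a m => (G.map (homOfLE (Nat.le_succ k)).op).app_smul (SysSect.toSect A X U a) m }

theorem smulFamily_π (hG : Formal2.IsQCohFormal I G) (n : ℕ) :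
    Formal.smulFamily (I ^ (n + 1)) (limit G) ≫ limit.π G (op n) = 0 := by
  apply Sigma.hom_ext
  intro a
  have h1 := SysSect.smulMod_comp (limit.π G (op n)) (a : A)
  have h2 : Formal.smulMod A (G.obj (op n)) (a : A) = 0 := hG.2.1 n a a.2
  rw [Formal.smulFamily, Sigma.ι_desc_assoc, h1, h2, comp_zero, comp_zero]

theorem trans_smul_eq_zero (hG : Formal2.IsQCohFormal I G) (k : ℕ) (a : A) (ha : a ∈ I ^ (k + 1)) :
    Formal.smulMod A (G.obj (op (k + 1))) a ≫ G.map (homOfLE (Nat.le_succ k)).op = 0 := by
  obtain ⟨h, -⟩ := hG.2.2 k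
  have e : Formal.smulMod A (G.obj (op (k + 1))) a =
      Sigma.ι (fun _ : ↥(I ^ (k + 1)) => (G.obj (op (k + 1)))) ⟨a, ha⟩ ≫ Formal.smulFamily (I ^ (k + 1)) _ := by
    simp [Formal.smulFamily]
  rw [e, Category.assoc, h, comp_zero]

theorem ker_transL (hG : Formal2.IsQCohFormal I G) {U : X.Opens} (hU : IsAffineOpen U) (k : ℕ) :
    letI := SysSect.modA A (G.obj (op (k + 1))) U
    letI := SysSect.modA A (G.obj (op k)) U
    LinearMap.ker (transL A G U k) = I ^ (k + 1) • (⊤ : Submodule A Γ(G.obj (op (k + 1)), U)) := by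
  let _ := SysSect.modA A (G.obj (op (k + 1))) U
  let _ := SysSect.modA A (G.obj (op k)) U
  apply le_antisymm
  · intro s hs
    have h := SysSect.mem_closure_of_trans_eq_zero hG hU k s hs
    refine AddSubgroup.closure_induction
      (p := fun x _ => x ∈ I ^ (k + 1) • (⊤ : Submodule A Γ(G.obj (op (k + 1)), U))) ?_ ?_ ?_ ?_ h
    · rintro _ ⟨a, m, rfl⟩
      exact Submodule.smul_mem_smul a.2 (Submodule.mem_top (x := m))
    · exact Submodule.zero_mem _
    · intro x y _ _ hx hy
      exact Submodule.add_mem _ hx hy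
    · intro x _ hx
      exact Submodule.neg_mem _ hx
  · rw [Submodule.smul_le]
    intro a ha m _
    exact congr(($(trans_smul_eq_zero hG k a ha)).app U m)

theorem surjective_π (hG : Formal2.IsQCohFormal I G) {U : X.Opens} (hU : IsAffineOpen U) (n : ℕ) :
    Function.Surjective ((limit.π G (op n)).app U) := by
  intro m
  let _ : ∀ k, Module A Γ(G.obj (op k), U) := fun k => SysSect.modA A (G.obj (op k)) U
  obtain ⟨x, hx, hm⟩ := LimSys.exists_lift (A := A) n (fun k => Γ(G.obj (op k), U)) (transL A G U)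
    (fun k => SysSect.surjective_trans hG hU k) m
  obtain ⟨y, hy⟩ := SysSect.exists_limit_section G U x hx
  exact ⟨y, (hy n).trans hm⟩

theorem mem_closure_π (hG : Formal2.IsQCohFormal I G) (hI : I.FG) {U : X.Opens} (hU : IsAffineOpen U) (n : ℕ)
    (s : Γ(limit G, U)) (hs : (limit.π G (op n)).app U s = 0) :
    s ∈ AddSubgroup.closure {x : Γ(limit G, U) | ∃ (a : ↥(I ^ (n + 1))) (m : Γ(limit G, U)),
      (Formal.smulMod A _ (a : A)).app U m = x} := by
  let _ : ∀ k, Module A Γ(G.obj (op k), U) := fun k => SysSect.modA A (G.obj (op k)) U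
  obtain ⟨r, g, hg⟩ := Submodule.fg_iff_exists_fin_generating_family.mp (Ideal.FG.pow (n := n + 1) hI)
  have hg' : Ideal.span (Set.range g) = I ^ (n + 1) := hg
  have hgm : ∀ j, g j ∈ I ^ (n + 1) := fun j => hg' ▸ Ideal.subset_span ⟨j, rfl⟩
  have hx : (fun k => (limit.π G (op k)).app U s) ∈ LimSys.lim (A := A) (fun k => Γ(G.obj (op k), U)) (transL A G U) := by
    intro k
    have := limit.w G (homOfLE (Nat.le_succ k)).op
    exact congr(($this).app U s)
  obtain ⟨y, hy, hxy⟩ := LimSys.mem_smul_lim I (M := fun k => Γ(G.obj (op k), U)) (f := transL A G U)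
    (fun k => SysSect.surjective_trans hG hU k) (fun k => ker_transL hG hU k) g hg'
    (fun k => (limit.π G (op k)).app U s) hx hs
  have hz : ∀ j, ∃ z : Γ(limit G, U), ∀ k, (limit.π G (op k)).app U z = y j k := fun j =>
    SysSect.exists_limit_section G U (y j) (hy j)
  choose z hz using hz
  have key : s = ∑ j, (Formal.smulMod A (limit G) (g j)).app U (z j) := by
    apply SysSect.limit_section_ext
    intro k
    rw [map_sum]
    refine (congr_fun hxy k).trans ?_
    rw [Finset.sum_apply]
    refine Finset.sum_congr rfl fun j _ => ?_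
    have e := congr(($(SysSect.smulMod_comp (limit.π G (op k)) (g j))).app U (z j))
    refine Eq.trans ?_ e.symm
    change SysSect.toSect A X U (g j) • y j k = SysSect.toSect A X U (g j) • (limit.π G (op k)).app U (z j)
    rw [hz]
  rw [key]
  exact AddSubgroup.sum_mem _ fun j _ => AddSubgroup.subset_closure ⟨⟨g j, hgm j⟩, z j, rfl⟩

end

open CategoryTheory CategoryTheory.Limits AlgebraicGeometry Opposite in
/-- Stacks Tag 0EI8, part (4), for the ideal sheaf generated by a finitely generated ideal I of a base ring A. Let X be a scheme over Spec A and (G_n) an inverse system of quasi-coherent O_X-modules with G_n killed by I^(n+1) and G_n = G_{n+1}/I^(n+1)G_{n+1} (indices shifted by one), and let F = lim G_n in the category of O_X-modules. Then each projection F → G_n identifies G_n with F/I^(n+1)F. -/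
theorem result (A : Type u) [CommRing A] (I : Ideal A) (hI : I.FG) (X : Scheme.{u})
    [X.Over (Spec (CommRingCat.of A))] (G : ℕᵒᵖ ⥤ X.Modules) (hG : Formal2.IsQCohFormal I G) (n : ℕ) :
    ∃ h : Formal.smulFamily (I ^ (n + 1)) (limit G) ≫ limit.π G (op n) = 0,
      IsIso (cokernel.desc _ _ h) := by
  refine ⟨smulFamily_π hG n, ?_⟩
  have : Epi (limit.π G (op n)) := Groth.Agent.FormalB.SysSect.epi_of_affine _ fun U hU => surjective_π hG hU n
  exact Groth.Agent.FormalB.SysSect.isIso_desc_of _ _ fun T t ht =>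
    Groth.Agent.FormalB.SysSect.exists_factor_of_affine (limit.π G (op n)) (fun a : ↥(I ^ (n + 1)) => Formal.smulMod A (limit G) (a : A))
      (fun U hU => surjective_π hG hU n) (fun U hU m hm => mem_closure_π hG hI hU n m hm) t ht

end Groth.Agent.S0852
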