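import Groth.Statements.S0857
import Groth.Agent.CohtopB.ExtProd

set_option autoImplicit false
universe u
open CategoryTheory
open CohSite

namespace Groth.Agent.S0857

open Opposite CategoryTheory.Limits in
/-- Stacks Tag 060L (the degree-one part): for a family of abelian sheaves F_i on a site and an object U, the map H^1(U, ∏ F_i) -> ∏ H^1(U, F_i) induced by the projections is injective. (The degree-zero part of the tag, that sections of a product are the product of sections, is not restated.) -/
theorem result {C : Type u} [SmallCategory C] {J : GrothendieckTopology C}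
    {I : Type u} (F : I → Sheaf J AddCommGrpCat.{u}) (U : C) :
    Function.Injective (fun (x : CohSite.HU (∏ᶜ F) 1 U) (i : I) =>
      (((Sheaf.cohomologyPresheafFunctor J 1).map (Pi.π F i)).app (op U)).hom x) := by
  intro x y hxy
  have key : ∀ z : Abelian.Ext ((presheafToSheaf J AddCommGrpCat.{u}).obj (yoneda.obj U ⋙ AddCommGrpCat.free.{u}))
      (∏ᶜ F) 1, (∀ i, (((Sheaf.cohomologyPresheafFunctor J 1).map (Pi.π F i)).app (op U)).hom z = 0) → z = 0 :=
    fun z hz => CohtopB.ExtProd.eq_zero_of_comp_π F z hz
  have h : x - y = 0 := by
    apply key
    intro i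
    have h1 := congrFun hxy i
    dsimp only at h1
    have h2 := map_sub (((Sheaf.cohomologyPresheafFunctor J 1).map (Pi.π F i)).app (op U)).hom x y
    rw [h1, sub_self] at h2
    exact h2
  exact sub_eq_zero.1 h

end Groth.Agent.S0857
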