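import Groth.Statements.S0862
import Groth.Agent.CohtopB.CechColim
import Groth.Agent.CohtopB.FreeSheafColim
import Groth.Agent.S0858
import Groth.Agent.S0861

set_option autoImplicit false
universe u
open CategoryTheory
open CohSite

namespace Groth.Agent.S0862

open Opposite CategoryTheory.Limits Groth.Agent.CohtopB.ExtColim Groth.Agent.CohtopB.SheafColim
  Groth.Agent.CohtopB.SectColim Groth.Agent.CohtopB.CechColim Groth.Agent.CohtopB.FreeSheafColim

theorem isCohClass {C : Type u} [SmallCategory C] [HasPullbacks C]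
    (J : GrothendieckTopology C) (B : Set C) (Cov : ∀ (U : C) (ι : Type u), (ι → Over U) → Prop)
    (h1 : ∀ (U : C) (ι : Type u) (Y : ι → Over U), Cov U ι Y → Finite ι ∧ U ∈ B ∧
      Sieve.ofArrows (fun i => (Y i).left) (fun i => (Y i).hom) ∈ J U ∧
      ∀ (p : ℕ) (a : Fin (p + 1) → ι), (∏ᶜ fun k => Y (a k)).left ∈ B)
    (h2 : ∀ U ∈ B, ∀ T ∈ J U, ∃ (ι : Type u) (Y : ι → Over U), Cov U ι Y ∧ ∀ i, T.arrows (Y i).hom) :
    IsCohClass.{u, u, u} J B := by
  intro U hU T hT
  obtain ⟨ι, Y, hY, hYT⟩ := h2 U hU T hT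
  obtain ⟨hfin, -, hcov, hB⟩ := h1 U ι Y hY
  refine ⟨ι, hfin, fun a => (Y a).left, fun a => (Y a).hom, hcov, hYT, fun a b => ?_⟩
  refine ⟨(∏ᶜ fun k : Fin 2 => Y (![a, b] k)).left,
    (Pi.π (fun k : Fin 2 => Y (![a, b] k)) 0).left, (Pi.π (fun k : Fin 2 => Y (![a, b] k)) 1).left,
    hB 1 ![a, b], ?_, ?_⟩
  · exact (Over.w (Pi.π (fun k : Fin 2 => Y (![a, b] k)) 0)).trans
      (Over.w (Pi.π (fun k : Fin 2 => Y (![a, b] k)) 1)).symm
  · intro Z p' q' h
    let W : Over U := Over.mk (p' ≫ (Y a).hom)
    let pa : W ⟶ Y a := Over.homMk p' rfl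
    let qb : W ⟶ Y b := Over.homMk q' h.symm
    let l : ∀ k : Fin 2, W ⟶ Y (![a, b] k) := Fin.cons pa (Fin.cons qb (fun k => k.elim0))
    refine ⟨(Pi.lift l).left, ?_, ?_⟩
    · exact congrArg CommaMorphism.left (Pi.lift_π l 0)
    · exact congrArg CommaMorphism.left (Pi.lift_π l 1)

open Opposite CategoryTheory.Limits in
/-- Stacks Tag 0739: let C be a site with fibre products, B a class of objects and Cov a class of finite covering families such that (1) for a family in Cov over U, U and all iterated fibre products of its members lie in B, and (2) every covering sieve of a member of B contains a family from Cov. Then for every U in B, every p and every filtered diagram of abelian sheaves, colim_i H^p(U, F_i) -> H^p(U, colim_i F_i) is an isomorphism (phrased: H^p(U, -) preserves the colimit). -/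
theorem result {C : Type u} [SmallCategory C] [HasPullbacks C]
    (J : GrothendieckTopology C) (B : Set C) (Cov : ∀ (U : C) (ι : Type u), (ι → Over U) → Prop)
    (h1 : ∀ (U : C) (ι : Type u) (Y : ι → Over U), Cov U ι Y → Finite ι ∧ U ∈ B ∧
      Sieve.ofArrows (fun i => (Y i).left) (fun i => (Y i).hom) ∈ J U ∧
      ∀ (p : ℕ) (a : Fin (p + 1) → ι), (∏ᶜ fun k => Y (a k)).left ∈ B)
    (h2 : ∀ U ∈ B, ∀ T ∈ J U, ∃ (ι : Type u) (Y : ι → Over U), Cov U ι Y ∧ ∀ i, T.arrows (Y i).hom)
    (U : C) (hU : U ∈ B) (p : ℕ) (I : Type u) [SmallCategory I] [IsFiltered I]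
    (F : I ⥤ Sheaf J AddCommGrpCat.{u}) :
    PreservesColimit F ((Sheaf.cohomologyPresheafFunctor J p).flip.obj (op U)) := by
  have hB := isCohClass J B Cov h1 h2
  have hext : ExtCommutes I (CohCx.freeSheaf J U) p := by
    refine extCommutes_of_injectives _ (extCommutes_zero_freeSheaf hB hU) (fun G hG q x => ?_) p
    have key := Groth.Agent.S0861.result J B Cov
      (fun U ι Y hY => (h1 U ι Y hY).2) h2 (colimit G)
      (fun V ι Y hY q => by
        have : Finite ι := (h1 V ι Y hY).1
        refine isZero_cechH_of_locElem (locElem_of_isColimit (colimit.isColimit G)) hB Y q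
          (fun n a => (h1 V ι Y hY).2.2.2 n a) (fun i => ?_)
        have := hG i
        exact Groth.Agent.S0858.result J (G.obj i) Y (h1 V ι Y hY).2.2.1 q)
      U hU q
    exact @Subsingleton.elim _ key x 0
  have := hext.preserves
  change PreservesColimit F (Abelian.extFunctorObj (CohCx.freeSheaf J U) p)
  infer_instance

end Groth.Agent.S0862
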