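import Groth.Statements.S0863
import Groth.Agent.CohtopB.ModPush
import Mathlib.CategoryTheory.Functor.Flat

set_option autoImplicit false
universe u
open CategoryTheory
open CohSite

namespace Groth.Agent.S0863

open CategoryTheory.Limits in
/-- Stacks Tag 072Z (special case O_D = f_* O_C, with f a morphism of sites given by a continuous functor u : D -> C that preserves finite limits, D having finite limits, and sends coverings to coverings): for an injective sheaf of O_C-modules I, the abelian sheaf V ↦ I(u(V)) on D underlying f_* I is totally acyclic, i.e. its cohomology with respect to every sheaf of sets on D vanishes in positive degrees. -/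
theorem result {C D : Type u} [SmallCategory C] [SmallCategory D]
    [HasFiniteLimits D] (J : GrothendieckTopology C) (K : GrothendieckTopology D) (u : D ⥤ C)
    (hu : CoverPreserving K J u) [PreservesFiniteLimits u] [u.IsContinuous K J]
    (R : Sheaf J RingCat.{u}) (I : SheafOfModules.{u} R) [Injective I] :
    CohCx.IsTotallyAcyclic ((CohSite.push J K u).obj ((SheafOfModules.toSheaf R).obj I)) := by
  have : RepresentablyFlat u := flat_of_preservesFiniteLimits u
  intro L p
  exact Groth.Agent.CohtopB.NerveHK.subsingleton_HK_of_cech K (fun _ => True) (fun _ _ f => Epi f)
    (fun _ _ _ h => h) (fun _ _ _ _ _ _ => trivial)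
    (fun L _ {M N} g _ b => Groth.Agent.CohtopB.EpiSheaf.exists_cover_lift K g b) _
    (fun L' L f _ _ n => Groth.Agent.CohtopB.ModPush.isZero_homology_cechNerveCx_push u R I f n) L trivial p

end Groth.Agent.S0863
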