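import Groth.Statements.S0864
import Mathlib.CategoryTheory.Sites.Adjunction

set_option autoImplicit false
universe u
open CategoryTheory
open CohSite

namespace Groth.Agent.S0864

/-- Stacks Tag 0731, part (1): a totally acyclic abelian sheaf F on a site satisfies H^p(U, F) = 0 for every object U and every p > 0. -/
theorem result {C : Type u} [SmallCategory C] {J : GrothendieckTopology C}
    (F : Sheaf J AddCommGrpCat.{u}) (hF : CohCx.IsTotallyAcyclic F) (U : C) (p : ℕ) :
    Subsingleton (CohSite.HU F (p + 1) U) := by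
  have hps : J.PreservesSheafification AddCommGrpCat.free.{u} :=
    Sheaf.preservesSheafification_of_adjunction J AddCommGrpCat.adj.{u}
  have hiso : IsIso ((toPresheafToSheafCompComposeAndSheafify J AddCommGrpCat.free.{u}).app (yoneda.obj U)) :=
    inferInstance
  let g : (presheafToSheaf J AddCommGrpCat.{u}).obj (yoneda.obj U ⋙ AddCommGrpCat.free.{u}) ⟶
      (presheafToSheaf J AddCommGrpCat.{u}).obj
        (((presheafToSheaf J (Type u)).obj (yoneda.obj U)).obj ⋙ AddCommGrpCat.free.{u}) :=
    (toPresheafToSheafCompComposeAndSheafify J AddCommGrpCat.free.{u}).app (yoneda.obj U)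
  have hg : IsIso g := hiso
  have h := hF ((presheafToSheaf J (Type u)).obj (yoneda.obj U)) p
  have hx : ∀ z : Abelian.Ext ((presheafToSheaf J AddCommGrpCat.{u}).obj
      (yoneda.obj U ⋙ AddCommGrpCat.free.{u})) F (p + 1), z = 0 := by
    intro z
    have h1 : (Abelian.Ext.mk₀ (inv g)).comp z (zero_add _) = 0 := Subsingleton.elim _ _
    have h2 : z = (Abelian.Ext.mk₀ g).comp ((Abelian.Ext.mk₀ (inv g)).comp z (zero_add _)) (zero_add _) := by
      rw [Abelian.Ext.mk₀_comp_mk₀_assoc, IsIso.hom_inv_id, Abelian.Ext.mk₀_id_comp]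
    rw [h2, h1, Abelian.Ext.comp_zero]
  exact ⟨fun x y => (hx x).trans (hx y).symm⟩

end Groth.Agent.S0864
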