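import Groth.Statements.S0866
import Groth.Agent.CohtopB.Godement

set_option autoImplicit false
universe u
open CategoryTheory
open CohTop

namespace Groth.Agent.S0866

/-- Stacks Tag 0FKS (the first step of the Godement resolution, for abelian sheaves): let f : X_disc -> X be the identity map from X with the discrete topology. For an abelian sheaf F on X, the adjunction unit F -> f_* f^{-1} F is a monomorphism and f_* f^{-1} F is a flasque sheaf. (The source builds the whole functorial flasque resolution by iterating f_* f^{-1} and proves it is a stalkwise homotopy equivalence; only this first step is asserted here.) -/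
theorem result {X : TopCat.{u}} (F : CohTop.Ab X) :
    Mono ((TopCat.Sheaf.pullbackPushforwardAdjunction AddCommGrpCat.{u}
      (TopCat.adj₁.counit.app X)).unit.app F) ∧
    TopCat.Sheaf.IsFlasque ((CohTop.push (TopCat.adj₁.counit.app X)).obj
      ((CohTop.pull (TopCat.adj₁.counit.app X)).obj F)) := by
  refine ⟨Groth.Agent.CohtopB.Godement.mono_unit_of_surjective (TopCat.adj₁.counit.app X)
    (fun x => ⟨x, rfl⟩) F, ?_⟩
  have : DiscreteTopology (((forget TopCat) ⋙ TopCat.discrete).obj X) := ⟨rfl⟩
  exact @Groth.Agent.CohtopB.Godement.isFlasque_push_of_discrete
    (((forget TopCat) ⋙ TopCat.discrete).obj X) X this (TopCat.adj₁.counit.app X) _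

end Groth.Agent.S0866
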