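import Groth.Statements.S0867
import Groth.Agent.CohtopB.StalkQuasiIso
import Groth.Agent.CohtopB.RelRes2
import Groth.Agent.CohtopB.Godement

set_option autoImplicit false
universe u
open CategoryTheory
open CohTop

namespace Groth.Agent.S0867

open Groth.Agent.CohtopB.TopPull Groth.Agent.CohtopB.TopStalk Groth.Agent.CohtopB.Godement
open Groth.Agent.CohtopB.StalkQuasiIso Groth.Agent.CohtopB.RelRes CategoryTheory.Limits

/-- The identity from the discrete space. -/
abbrev disc (X : TopCat.{u}) : (TopCat.discrete.obj ((forget TopCat).obj X)) ⟶ X :=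
  TopCat.adj₁.counit.app X

theorem exists_retraction {X : TopCat.{u}} (x : X) (F : CohTop.Ab X) :
    ∃ ρ : (stalkF x).obj ((CohTop.push (disc X)).obj ((CohTop.pull (disc X)).obj F)) ⟶
      (stalkF x).obj F, (stalkF x).map ((adj (disc X)).unit.app F) ≫ ρ = 𝟙 _ := by
  obtain ⟨c, hc⟩ : ∃ c, (stalkComp (disc X) x).app F ≫ c = 𝟙 _ :=
    (isIso_stalkComp_app (disc X) x F).out.imp (fun _ h => h.1)
  refine ⟨(stalkPush (disc X) x).app _ ≫ c, ?_⟩
  have h1 : (stalkF x).map ((adj (disc X)).unit.app F) ≫ (stalkPush (disc X) x).app _ =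
      (stalkComp (disc X) x).app F := rfl
  exact (Category.assoc _ _ _).symm.trans ((congrArg (fun t => t ≫ c) h1).trans hc)

theorem exists_homotopyEquiv_stalk {X : TopCat.{u}} (F : CochainComplex (CohTop.Ab X) ℤ)
    (D : ResData (fun A => (CohTop.push (disc X)).obj ((CohTop.pull (disc X)).obj A))
      (fun A => (adj (disc X)).unit.app A) F) (x : X) :
    ∃ e : HomotopyEquiv ((CohCx.stalkCx x).obj F) ((CohCx.stalkCx x).obj D.G),
        e.hom = (CohCx.stalkCx x).map D.φ := by
  choose ρ hρ using fun n => exists_retraction x (D.P n)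
  refine exists_homotopyEquiv ((CohCx.stalkCx x).map D.φ) (fun n => (stalkF x).obj (D.P n))
    (fun n => (stalkF x).map (D.u n)) (fun n => (stalkF x).map (D.e n))
    (fun n => (stalkF x).map ((adj (disc X)).unit.app (D.P n)))
    (fun n => (stalkF x).map (D.v n)) ρ ?_ ?_ ?_ ?_ hρ ?_
  · intro n
    exact ((stalkF x).map_comp (D.u n) (D.e n)).symm.trans (congrArg (stalkF x).map (D.ue n))
  · intro n
    exact ((stalkF x).map_comp (D.v n) (D.e (n + 1))).symm.trans
      ((congrArg (stalkF x).map (D.ve n)).trans ((stalkF x).map_zero _ _))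
  · intro n
    exact (D.sq n).map (stalkF x)
  · intro n
    exact (congrArg (stalkF x).map (D.G_d n)).trans ((stalkF x).map_comp (D.v n) _)
  · intro n
    exact (stalkF x).map_comp (D.u n) _

/-- Stacks Tag 0FKT (abelian sheaves): for a complex F of abelian sheaves on X with F^n = 0 for n < a there are a complex G with G^n = 0 for n < a whose terms are all flasque and a morphism F -> G which is a quasi-isomorphism and which induces, at every point x, a homotopy equivalence between the complexes of stalks F_x -> G_x. -/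
theorem result {X : TopCat.{u}} (F : CochainComplex (CohTop.Ab X) ℤ)
    (a : ℤ) (hF : F.IsStrictlyGE a) :
    ∃ (G : CochainComplex (CohTop.Ab X) ℤ) (φ : F ⟶ G), G.IsStrictlyGE a ∧ QuasiIso φ ∧
      (∀ n : ℤ, TopCat.Sheaf.IsFlasque (G.X n)) ∧
      ∀ x : X, ∃ e : HomotopyEquiv ((CohCx.stalkCx x).obj F) ((CohCx.stalkCx x).obj G),
        e.hom = (CohCx.stalkCx x).map φ := by
  obtain ⟨D, hD⟩ := exists_resData
    (fun A => (CohTop.push (disc X)).obj ((CohTop.pull (disc X)).obj A))
    (fun A => (adj (disc X)).unit.app A) F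
    (fun A hA => (CohTop.push (disc X)).map_isZero ((CohTop.pull (disc X)).map_isZero hA)) a
    (fun n hn => F.isZero_of_isStrictlyGE a n hn)
  have h := exists_homotopyEquiv_stalk F D
  refine ⟨D.G, D.φ, ?_, ?_, ?_, h⟩
  · rw [CochainComplex.isStrictlyGE_iff]
    intro n hn
    exact (CohTop.push (disc X)).map_isZero ((CohTop.pull (disc X)).map_isZero (hD n hn))
  · refine quasiIso_of_stalks _ (fun x => ?_)
    obtain ⟨e, he⟩ := h x
    have : QuasiIso e.hom := inferInstance
    rw [he] at this
    exact this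
  · intro n
    have : DiscreteTopology (TopCat.discrete.obj ((forget TopCat).obj X)) := ⟨rfl⟩
    exact isFlasque_push_of_discrete (disc X) _

end Groth.Agent.S0867
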