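import Groth.Statements.S0868
import Groth.Agent.S0877
import Groth.Agent.CohtopB.BasisCover

set_option autoImplicit false
universe u
open CategoryTheory
open CohTop

namespace Groth.Agent.S0868

open TopologicalSpace Opposite in
/-- Stacks Tag 0BKT (abelian sheaves): let K be an object of the derived category of abelian sheaves on X and B a basis of opens such that H^p(U, H^q(K)) = 0 for all p > 0, all q and all U in B. Then for U in B and every q, H^q(U, K) (maps from the free abelian sheaf on U to K[q]) is isomorphic to the sections of the cohomology sheaf H^q(K) over U. -/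
theorem result {X : TopCat.{u}}
    [HasDerivedCategory.{u} (CohTop.Ab X)] (K : DerivedCategory (CohTop.Ab X))
    (B : Set (Opens X)) (hB : Opens.IsBasis B)
    (h : ∀ U ∈ B, ∀ (p : ℕ) (q : ℤ), Subsingleton (CohTop.HU (CohCx.HD K q) (p + 1) U))
    (U : Opens X) (hU : U ∈ B) (q : ℤ) :
    Nonempty (CohCx.HDU K q U ≃+ (CohCx.HD K q).obj.obj (op U)) := by
  exact Groth.Agent.S0877.result K B (Groth.Agent.CohtopB.BasisCover.isCovering_of_isBasis hB) h U hU q

end Groth.Agent.S0868
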