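import Groth.Statements.S0878
import Groth.Agent.CohtopB.TestSysRlim
import Groth.Agent.CohtopB.TestSysSheaf
import Groth.Agent.CohtopB.RlimSingle
import Groth.Agent.S0478
-- import your own Groth.Agent.* helpers here

set_option autoImplicit false
universe u
open CategoryTheory
open CohSite

namespace Groth.Agent.S0878

open Opposite CategoryTheory.Limits in
/-- Stacks Tag 0A09 (abelian sheaves): let (K_n) be an inverse system in the derived category of abelian sheaves on a site with a derived limit L, and B a class of objects such that every object is covered by members of B and, for U in B and all q, H^p(U, H^q(K_n)) = 0 for p > 0 and the system of sections H^q(K_n)(U) has vanishing R^1 lim. Then H^q(L) is isomorphic to lim_n H^q(K_n) for every q. -/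
theorem result {C : Type u} [SmallCategory C]
    {J : GrothendieckTopology C} [HasDerivedCategory.{u} (Sheaf J AddCommGrpCat.{u})]
    (K : ℕ → DerivedCategory (Sheaf J AddCommGrpCat.{u})) (t : ∀ n, K (n + 1) ⟶ K n) [HasProduct K]
    (L : DerivedCategory (Sheaf J AddCommGrpCat.{u})) (hL : DCoh.IsRlim K t L) (B : Set C)
    (hB : ∀ U : C, ∃ (ι : Type u) (Y : ι → C) (f : ∀ i, Y i ⟶ U), Sieve.ofArrows Y f ∈ J U ∧ ∀ i, Y i ∈ B)
    (h1 : ∀ U ∈ B, ∀ (p : ℕ) (q : ℤ) (n : ℕ), Subsingleton (CohSite.HU (CohCx.HD (K n) q) (p + 1) U))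
    (h2 : ∀ U ∈ B, ∀ (q : ℤ), CohCx.LimOneIsZero (fun n => (CohCx.HD (K n) q).obj.obj (op U))
      (fun n => (((DerivedCategory.homologyFunctor _ q).map (t n)).hom.app (op U)).hom))
    (q : ℤ) :
    Nonempty (CohCx.HD L q ≅ limit (CohCx.opSequence (fun n => CohCx.HD (K n) q)
      (fun n => (DerivedCategory.homologyFunctor _ q).map (t n)))) := by
  have hprod : HasProducts.{u} (DerivedCategory (Sheaf J AddCommGrpCat.{u})) := Groth.Agent.S0478.result
  have hprodN : HasProductsOfShape ℕ (DerivedCategory (Sheaf J AddCommGrpCat.{u})) :=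
    hasLimitsOfShape_of_equivalence (Discrete.equivalence (Equiv.ulift.{u} : ULift.{u} ℕ ≃ ℕ))
  obtain ⟨a, ha⟩ := CohtopB.RlimSingle.exists_isRlimVia_of_isRlim hL
  have hB' : ∀ U : C, CohtopB.TestSys.gen (⊤ : Sieve U) (· ∈ B) ∈ J U := by
    intro U
    obtain ⟨ι, Y, f, hf, hY⟩ := hB U
    exact CohtopB.TestSys.gen_mem_of_ofArrows ⊤ _ Y f (fun _ => trivial) hf hY
  have hiso := CohtopB.TestSys.isIso_homologyToLim (CohtopB.TestSystem.free J) ha (· ∈ B) hB'
    (fun U hU n q => CohtopB.TestSys.can_bijective (CohtopB.TestSystem.free J) (K n) (· ∈ B) hB'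
      (fun U hU p q => h1 U hU p q n) U hU q)
    (fun U hU q x => by
      obtain ⟨y, hy⟩ := h2 U hU q (fun n => CohtopB.FreeSheafHom.homEquivSections U _ (x n))
      refine ⟨fun n => (CohtopB.FreeSheafHom.homEquivSections U _).symm (y n), funext fun n => ?_⟩
      apply (CohtopB.FreeSheafHom.homEquivSections U _).injective
      rw [map_sub, AddEquiv.apply_symm_apply]
      refine Eq.trans ?_ (congrFun hy n)
      refine congrArg (fun z => y n - z) ?_
      change (((DerivedCategory.homologyFunctor _ q).map (t n)).hom.app (op U)).hom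
        (((CohtopB.FreeSheafHom.homMk (y (n + 1))).hom.app (op U)).hom (CohtopB.FreeSheafHom.gen J U)) = _
      rw [CohtopB.FreeSheafHom.homMk_app_gen]) q
  exact ⟨asIso (CohtopB.TestSys.homologyToLim (CohtopB.TestSys.rlimVia_comp ha) q)⟩

end Groth.Agent.S0878
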