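import Groth.Statements.S0871
import Groth.Agent.CohtopB.ExactDerAdj
import Groth.Agent.CohtopA.OpenShriek
import Groth.Agent.CohtopB.FreeSheafHom

set_option autoImplicit false
universe u
open CategoryTheory
open CohTop

namespace Groth.Agent.S0871

/-- The functor of opens `V ↦ image of V` for an open `U`, applied to the top open. -/
abbrev imTop {X : TopCat.{u}} (U : TopologicalSpace.Opens X) : TopologicalSpace.Opens X :=
  U.isOpenEmbedding.functor.obj ⊤

lemma imTop_eq {X : TopCat.{u}} (U : TopologicalSpace.Opens X) : imTop U = U := by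
  ext x
  constructor
  · rintro ⟨y, -, rfl⟩
    exact y.2
  · intro hx
    exact ⟨⟨x, hx⟩, trivial, rfl⟩

open Groth.Agent.CohtopB.FreeSheafHom Opposite in
lemma nonempty_iso {X : TopCat.{u}} (U : TopologicalSpace.Opens X)
    (L : CohTop.Ab (TopCat.of U) ⥤ CohTop.Ab X) (adj : L ⊣ CohTop.restrFunctor U) :
    Nonempty (L.obj (CohCx.freeSheaf _ ⊤) ≅ CohCx.freeSheaf _ (imTop U)) := by
  let a (F : CohTop.Ab X) : (L.obj (CohCx.freeSheaf _ ⊤) ⟶ F) ≃
      (CohCx.freeSheaf (Opens.grothendieckTopology X) (imTop U) ⟶ F) :=
    (adj.homEquiv _ _).trans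
      ((homEquivSections (J := Opens.grothendieckTopology (TopCat.of U)) ⊤
        ((CohTop.restrFunctor U).obj F)).toEquiv.trans
        (homEquivSections (J := Opens.grothendieckTopology X)
          (imTop U) F).symm.toEquiv)
  have ha : ∀ {F F' : CohTop.Ab X} (φ : F ⟶ F') (f : L.obj (CohCx.freeSheaf _ ⊤) ⟶ F),
      a F' (f ≫ φ) = a F f ≫ φ := by
    intro F F' φ f
    apply hom_ext
    change ((homMk (U := imTop U) (F := F') _).hom.app (op (imTop U))).hom (gen _ (imTop U)) =
      (φ.hom.app (op (imTop U))).hom
        (((homMk (U := imTop U) (F := F) _).hom.app (op (imTop U))).hom (gen _ (imTop U)))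
    rw [homMk_app_gen, homMk_app_gen]
    change (((adj.homEquiv _ _) (f ≫ φ)).hom.app (op ⊤)).hom (gen _ ⊤) =
      (φ.hom.app (op (imTop U))).hom ((((adj.homEquiv _ _) f).hom.app (op ⊤)).hom (gen _ ⊤))
    rw [Adjunction.homEquiv_naturality_right]
    rfl
  refine ⟨Coyoneda.ext _ _ (fun {F} f => a F f) (fun {F} f => (a F).symm f) (fun f => by simp)
    (fun f => by simp) ?_⟩
  intro F F' f φ
  apply (a F').injective
  rw [ha, Equiv.apply_symm_apply, Equiv.apply_symm_apply]

open TopologicalSpace CategoryTheory.Limits in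
/-- Stacks Tag 0D5V (abelian sheaves): for an object K of the derived category of abelian sheaves on X and an open U, H^p(U, K) is isomorphic to H^p(U, K|_U), where K|_U is the image of K under the functor on derived categories induced by the (exact) restriction to U. Exactness of restriction is assumed through instance arguments (true, but not recorded by Mathlib in this generality). -/
theorem result {X : TopCat.{u}} (U : Opens X)
    [HasDerivedCategory.{u} (CohTop.Ab X)] [HasDerivedCategory.{u} (CohTop.Ab (TopCat.of U))]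
    [PreservesFiniteLimits (CohTop.restrFunctor U)] [PreservesFiniteColimits (CohTop.restrFunctor U)]
    (K : DerivedCategory (CohTop.Ab X)) (p : ℤ) :
    Nonempty (CohCx.HDU K p U ≃+ CohCx.HDU ((CohTop.restrFunctor U).mapDerivedCategory.obj K) p ⊤) := by

  obtain ⟨L, ⟨adj⟩, hL⟩ := Groth.Agent.CohtopA.OpenShriek.exists_leftAdjoint U
  have : L.Additive := adj.left_adjoint_additive
  have : PreservesFiniteColimits L :=
    have := adj.leftAdjoint_preservesColimits
    PreservesColimits.preservesFiniteColimits L
  obtain ⟨e⟩ := nonempty_iso U L adj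
  have key : Nonempty (CohCx.HDU K p (imTop U) ≃+
      CohCx.HDU ((CohTop.restrFunctor U).mapDerivedCategory.obj K) p ⊤) := by
    let e' := (DerivedCategory.singleFunctor (CohTop.Ab X) 0).mapIso e
    let b : CohCx.HDU K p (imTop U) ≃+
      ((DerivedCategory.singleFunctor (CohTop.Ab X) 0).obj (L.obj (CohCx.freeSheaf _ ⊤)) ⟶
        (shiftFunctor _ p).obj K) :=
      { toFun := fun x => e'.hom ≫ x
        invFun := fun x => e'.inv ≫ x
        left_inv := fun x => by simp
        right_inv := fun x => by simp
        map_add' := fun x y => Preadditive.comp_add _ _ _ _ _ _ }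
    exact ⟨b.trans (Groth.Agent.CohtopB.ExactDerAdj.homEquivSingle adj _ K p)⟩
  rwa [imTop_eq] at key

end Groth.Agent.S0871
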