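import Groth.Statements.S0874
import Groth.Agent.CohtopB.RlimLocal

set_option autoImplicit false
universe u
open CategoryTheory
open CohTop

namespace Groth.Agent.S0874

open TopologicalSpace CategoryTheory.Limits in
/-- Stacks Tag 0D61 (abelian sheaves): let (K_n) be an inverse system in the derived category of abelian sheaves on X with derived limit L (through maps a_n : L -> K_n), x a point and m an integer. Suppose there are an index n(x) and a fundamental system of open neighbourhoods U of x such that (1) the inverse system H^{m-1}(U, K_n) has vanishing R^1 lim and (2) H^m(U, K_n) -> H^m(U, K_{n(x)}) is injective for n >= n(x). Then the map on stalks at x from H^m(L) to H^m(K_{n(x)}) is injective. -/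
theorem result {X : TopCat.{u}} [HasDerivedCategory.{u} (CohTop.Ab X)]
    (K : ℕ → DerivedCategory (CohTop.Ab X)) (t : ∀ n, K (n + 1) ⟶ K n) [HasProduct K]
    (L : DerivedCategory (CohTop.Ab X)) (a : ∀ n, L ⟶ K n) (hL : CohCx.IsRlimVia K t L a)
    (x : X) (m : ℤ) (nx : ℕ)
    (h : ∀ V : Opens X, x ∈ V → ∃ U : Opens X, x ∈ U ∧ U ≤ V ∧
      CohCx.LimOneIsZero (fun n => CohCx.HDU (K n) (m - 1) U)
        (fun n => Preadditive.rightComp _ ((shiftFunctor _ (m - 1)).map (t n))) ∧
      ∀ k : ℕ, Function.Injective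
        (Preadditive.rightComp _ ((shiftFunctor _ m).map (CohCx.transition K t nx k)) :
          CohCx.HDU (K (nx + k)) m U → CohCx.HDU (K nx) m U)) :
    Function.Injective ((TopCat.Presheaf.stalkFunctor AddCommGrpCat.{u} x).map
      ((DerivedCategory.homologyFunctor (CohTop.Ab X) m).map (a nx)).hom) := by
  let F : (Opens X)ᵒᵖ ⥤ AddCommGrpCat.{u} := (CohCx.HD L m).obj
  let G : (Opens X)ᵒᵖ ⥤ AddCommGrpCat.{u} := (CohCx.HD (K nx) m).obj
  let f : F ⟶ G := ((DerivedCategory.homologyFunctor (CohTop.Ab X) m).map (a nx)).hom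
  change Function.Injective (((TopCat.Presheaf.stalkFunctor AddCommGrpCat.{u} x).map f).hom)
  refine (injective_iff_map_eq_zero _).2 (fun e he => ?_)
  obtain ⟨V, hxV, s, rfl⟩ := TopCat.Presheaf.exists_germ_eq F e
  have he' : TopCat.Presheaf.germ G V x hxV (f.app (Opposite.op V) s) =
      TopCat.Presheaf.germ G V x hxV 0 := by
    refine Eq.trans (TopCat.Presheaf.stalkFunctor_map_germ_apply V x hxV f s).symm ?_
    rw [map_zero]
    exact he
  obtain ⟨W, hxW, iU, iV, hW⟩ := TopCat.Presheaf.germ_eq G x hxV hxV _ _ he'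
  have hnat : (f.app (Opposite.op W)).hom ((F.map iU.op).hom s) = 0 := by
    have h1 := ConcreteCategory.congr_hom (f.naturality iU.op) s
    refine Eq.trans h1 (Eq.trans hW ?_)
    exact map_zero (G.map iV.op).hom
  obtain ⟨T, hT, hT'⟩ := Groth.Agent.CohtopB.RlimLocal.exists_cover_class (a nx) m
    (V := W) ((F.map iU.op).hom s) hnat
  obtain ⟨W₁, g₁, hg₁, hxW₁⟩ := hT x hxW
  obtain ⟨U, hxU, hU, h1, h2⟩ := h W₁ hxW₁
  obtain ⟨y, hy, hy'⟩ := hT' ((homOfLE hU) ≫ g₁) (T.downward_closed hg₁ _)
  have hy0 : y = 0 := by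
    refine Groth.Agent.CohtopB.RlimLocal.eq_zero_of_injective hL _ m nx (fun z => ?_)
      (fun k z hz => ?_) y hy'
    · obtain ⟨z', hz'⟩ := h1 z
      exact ⟨z', fun n => congr_fun hz' n⟩
    · exact h2 k (hz.trans (zero_comp (f := (shiftFunctor _ m).map (CohCx.transition K t nx k))).symm)
  rw [hy0, map_zero] at hy
  have hy2 : (F.map (((homOfLE hU) ≫ g₁) ≫ iU).op).hom s = 0 := by
    rw [op_comp, Functor.map_comp]
    exact hy.symm
  have := TopCat.Presheaf.germ_res_apply F (((homOfLE hU) ≫ g₁) ≫ iU) x hxU s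
  rw [← this]
  refine Eq.trans (congrArg _ hy2) (map_zero _)

end Groth.Agent.S0874
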