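import Groth.Statements.S0875
import Groth.Agent.S0874
import Groth.Agent.CohtopB.TruncTower

set_option autoImplicit false
universe u
open CategoryTheory
open CohTop

namespace Groth.Agent.S0875

open TopologicalSpace CategoryTheory.Limits in
/-- Stacks Tag 0D62 (abelian sheaves): let E be an object of the derived category of abelian sheaves on X. Assume every point x has a function p(x, -) and a fundamental system of open neighbourhoods U with H^p(U, H^{m-p}(E)) = 0 for all m and all p > p(x, m). Then E is a derived limit of the tower of its truncations τ_{≥ -n} E through the canonical maps E -> τ_{≥ -n} E (equivalently, E -> R lim τ_{≥ -n} E is an isomorphism). The existence of the countable product of the truncations is assumed. -/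
theorem result {X : TopCat.{u}}
    [HasDerivedCategory.{u} (CohTop.Ab X)] (E : DerivedCategory (CohTop.Ab X))
    [HasProduct (CohCx.truncTower E)]
    (h : ∀ x : X, ∃ p : ℤ → ℤ, ∀ V : Opens X, x ∈ V → ∃ U : Opens X, x ∈ U ∧ U ≤ V ∧
      ∀ (m : ℤ) (k : ℕ), p m < k → Subsingleton (CohTop.HU (CohCx.HD E (m - k)) k U)) :
    CohCx.IsRlimVia (CohCx.truncTower E) (CohCx.truncTowerMap E) E (CohCx.toTruncTower E) := by
  obtain ⟨L, a, f, hL, hfa, hiso⟩ := Groth.Agent.CohtopB.TruncTower.exists_fibre_comparison E
  refine hiso ?_
  rw [DerivedCategory.isIso_iff]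
  intro m
  have key : ∀ x : X, IsIso ((TopCat.Presheaf.stalkFunctor AddCommGrpCat.{u} x).map
      ((DerivedCategory.homologyFunctor (CohTop.Ab X) m).map f).hom) := by
    intro x
    obtain ⟨p, hp⟩ := h x
    obtain ⟨N, hN1, hN2⟩ : ∃ N : ℕ, -(N : ℤ) ≤ m ∧ p m < m + N := by
      refine ⟨(p m - m + 1).toNat + (-m).toNat, ?_, ?_⟩ <;> omega
    have hinj := Groth.Agent.S0874.result (CohCx.truncTower E) (CohCx.truncTowerMap E) L a hL x m N (by
      intro V hxV
      obtain ⟨U, hxU, hUV, hU⟩ := hp V hxV
      refine ⟨U, hxU, hUV, ?_, ?_⟩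
      · refine Groth.Agent.CohtopB.TruncTower.limOneIsZero_of_eventually_surjective _ _ N ?_
        intro n hn
        refine Groth.Agent.CohtopB.TruncTower.surjective_step
          (CohCx.freeSheaf (Opens.grothendieckTopology X) U) E n (m - 1) ?_
        intro k hk
        have h1 := hU m k (by omega)
        have e : m - (k : ℤ) = -((n + 1 : ℕ) : ℤ) := by omega
        rw [e] at h1
        exact h1
      · intro k
        refine Groth.Agent.CohtopB.TruncTower.injective_transition _ (CohCx.truncTower E)
          (CohCx.truncTowerMap E) m N ?_ k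
        intro n hn
        refine Groth.Agent.CohtopB.TruncTower.injective_step
          (CohCx.freeSheaf (Opens.grothendieckTopology X) U) E n m ?_
        intro k hk
        have h1 := hU m k (by omega)
        have e : m - (k : ℤ) = -((n + 1 : ℕ) : ℤ) := by omega
        rw [e] at h1
        exact h1)
    have hmono : Mono ((TopCat.Presheaf.stalkFunctor AddCommGrpCat.{u} x).map
      ((DerivedCategory.homologyFunctor (CohTop.Ab X) m).map (a N)).hom) :=
      ConcreteCategory.mono_of_injective _ hinj
    have h2 := Groth.Agent.CohtopB.TruncTower.isIso_homology_map_toTruncTower E N m hN1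
    have h3 : IsIso ((TopCat.Presheaf.stalkFunctor AddCommGrpCat.{u} x).map
        ((DerivedCategory.homologyFunctor (CohTop.Ab X) m).map (CohCx.toTruncTower E N)).hom) := by
      have : IsIso ((sheafToPresheaf (Opens.grothendieckTopology X) AddCommGrpCat.{u}).map
        ((DerivedCategory.homologyFunctor (CohTop.Ab X) m).map (CohCx.toTruncTower E N))) := inferInstance
      exact @Functor.map_isIso _ _ _ _ _ _ (TopCat.Presheaf.stalkFunctor AddCommGrpCat.{u} x) _ this
    have hcomp : (TopCat.Presheaf.stalkFunctor AddCommGrpCat.{u} x).map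
        ((DerivedCategory.homologyFunctor (CohTop.Ab X) m).map f).hom ≫
        (TopCat.Presheaf.stalkFunctor AddCommGrpCat.{u} x).map
        ((DerivedCategory.homologyFunctor (CohTop.Ab X) m).map (a N)).hom =
        (TopCat.Presheaf.stalkFunctor AddCommGrpCat.{u} x).map
        ((DerivedCategory.homologyFunctor (CohTop.Ab X) m).map (CohCx.toTruncTower E N)).hom := by
      rw [← hfa N, Functor.map_comp (DerivedCategory.homologyFunctor (CohTop.Ab X) m) f (a N)]
      exact (Functor.map_comp _ _ _).symm
    have hepi : IsSplitEpi ((TopCat.Presheaf.stalkFunctor AddCommGrpCat.{u} x).map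
      ((DerivedCategory.homologyFunctor (CohTop.Ab X) m).map (a N)).hom) :=
      ⟨⟨inv ((TopCat.Presheaf.stalkFunctor AddCommGrpCat.{u} x).map
        ((DerivedCategory.homologyFunctor (CohTop.Ab X) m).map (CohCx.toTruncTower E N)).hom) ≫
        (TopCat.Presheaf.stalkFunctor AddCommGrpCat.{u} x).map
        ((DerivedCategory.homologyFunctor (CohTop.Ab X) m).map f).hom, by
          rw [Category.assoc, hcomp, IsIso.inv_hom_id]⟩⟩
    have hi : IsIso ((TopCat.Presheaf.stalkFunctor AddCommGrpCat.{u} x).map
      ((DerivedCategory.homologyFunctor (CohTop.Ab X) m).map (a N)).hom) :=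
      isIso_of_mono_of_isSplitEpi _
    exact @IsIso.of_isIso_fac_right _ _ _ _ _ _ _ _ hi h3 hcomp
  exact @TopCat.Presheaf.isIso_of_stalkFunctor_map_iso _ _ _ _ _ _ _ _ _ _ _ _ _ _ _ key

end Groth.Agent.S0875
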