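import Groth.Statements.S0876
import Mathlib.CategoryTheory.Sites.SheafCohomology.MayerVietoris

set_option autoImplicit false
universe u
open CategoryTheory
open CohSite

namespace Groth.Agent.S0876

section

open CategoryTheory.Limits CategoryTheory.Pretriangulated

lemma exact_mk₂ {A B C : Type u} [AddCommGroup A] [AddCommGroup B] [AddCommGroup C]
    (f : A →+ B) (g : B →+ C) (h : Function.Exact f g) :
    (ComposableArrows.mk₂ (AddCommGrpCat.ofHom f) (AddCommGrpCat.ofHom g)).Exact := by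
  have w : AddCommGrpCat.ofHom f ≫ AddCommGrpCat.ofHom g = 0 := by
    ext x
    exact (h (f x)).2 ⟨x, rfl⟩
  refine ComposableArrows.exact₂_mk _ w ?_
  rw [ShortComplex.ab_exact_iff_function_exact]
  exact h

variable {D : Type*} [Category.{u} D] [Preadditive D] [HasZeroObject D] [HasShift D ℤ]
  [∀ n : ℤ, (shiftFunctor D n).Additive] [Pretriangulated D]

/-- The connecting map. -/
noncomputable def conn {A C : D} (r : C ⟶ A⟦(1 : ℤ)⟧) (K : D) (n : ℤ) :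
    (A ⟶ K⟦n⟧) →+ (C ⟶ K⟦n + 1⟧) where
  toFun x := r ≫ x⟦(1 : ℤ)⟧' ≫ (shiftFunctorAdd D n 1).inv.app K
  map_zero' := by simp
  map_add' x y := by simp

omit [HasZeroObject D] [Pretriangulated D] in
lemma conn_apply {A C : D} (r : C ⟶ A⟦(1 : ℤ)⟧) (K : D) (n : ℤ) (x : A ⟶ K⟦n⟧) :
    conn r K n x = r ≫ x⟦(1 : ℤ)⟧' ≫ (shiftFunctorAdd D n 1).inv.app K := rfl

omit [HasZeroObject D] [Pretriangulated D] in
lemma conn_eq_zero_iff {A C : D} (r : C ⟶ A⟦(1 : ℤ)⟧) (K : D) (n : ℤ) (x : A ⟶ K⟦n⟧) :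
    conn r K n x = 0 ↔ r ≫ x⟦(1 : ℤ)⟧' = 0 := by
  rw [conn_apply, ← Category.assoc]
  constructor
  · intro h
    rw [← cancel_mono ((shiftFunctorAdd D n 1).inv.app K), h, zero_comp]
  · intro h
    rw [h, zero_comp]

lemma yoneda_exact₁' (T : Triangle D) (hT : T ∈ distTriang D) {X : D} (x : T.obj₁ ⟶ X)
    (h : T.mor₃ ≫ x⟦(1 : ℤ)⟧' = 0) : ∃ y : T.obj₂ ⟶ X, x = T.mor₁ ≫ y := by
  obtain ⟨g, hg⟩ := Triangle.yoneda_exact₃ _ (rot_of_distTriang _ hT) (x⟦(1 : ℤ)⟧') h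
  obtain ⟨y, rfl⟩ : ∃ y : T.obj₂ ⟶ X, y⟦(1 : ℤ)⟧' = g :=
    (shiftFunctor D (1 : ℤ)).map_surjective g
  refine ⟨-y, (shiftFunctor D (1 : ℤ)).map_injective ?_⟩
  rw [hg]
  change (-(T.mor₁⟦(1 : ℤ)⟧')) ≫ _ = _
  simp

variable {A B B₂ B₃ C : D} (p : A ⟶ B) (q : B ⟶ C) (r : C ⟶ A⟦(1 : ℤ)⟧)
  (hT : Triangle.mk p q r ∈ distTriang D)
  (inl : B₂ ⟶ B) (inr : B₃ ⟶ B) (fst : B ⟶ B₂) (snd : B ⟶ B₃)
  (h₁ : inl ≫ fst = 𝟙 _) (h₂ : inl ≫ snd = 0) (h₃ : inr ≫ fst = 0) (h₄ : inr ≫ snd = 𝟙 _)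
  (h₅ : fst ≫ inl + snd ≫ inr = 𝟙 _)
  (a₂ : B₂ ⟶ C) (a₃ : B₃ ⟶ C) (c₂ : A ⟶ B₂) (c₃ : A ⟶ B₃)
  (e₁ : inl ≫ q = a₂) (e₂ : inr ≫ q = a₃) (e₃ : p ≫ fst = c₂) (e₄ : p ≫ snd = -c₃) (K : D)

include e₄ in
omit [HasZeroObject D] [HasShift D ℤ]
  [∀ n : ℤ, (shiftFunctor D n).Additive] [Pretriangulated D] in
lemma leftComp_neg : -(Preadditive.leftComp K c₃) = Preadditive.leftComp K (p ≫ snd) := by
  ext x
  change -(c₃ ≫ x) = (p ≫ snd) ≫ x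
  rw [e₄, Preadditive.neg_comp]

include hT h₁ h₂ h₃ h₄ h₅ e₁ e₂ e₃ e₄ in
lemma exact_one :
    Function.Exact
      (((Preadditive.leftComp K a₂).prod (Preadditive.leftComp K a₃)))
      (((Preadditive.leftComp K c₂).coprod (-(Preadditive.leftComp K c₃)))) := by
  rw [leftComp_neg p snd c₃ e₄, ← e₁, ← e₂, ← e₃]
  have hpq : p ≫ q = 0 := comp_distTriang_mor_zero₁₂ _ hT
  rintro ⟨x₂, x₃⟩
  simp only [AddMonoidHom.coprod_apply, Set.mem_range, AddMonoidHom.prod_apply, Prod.mk.injEq]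
  constructor
  · intro h
    change (p ≫ fst) ≫ x₂ + (p ≫ snd) ≫ x₃ = 0 at h
    obtain ⟨z, hz⟩ : ∃ z : C ⟶ K, fst ≫ x₂ + snd ≫ x₃ = q ≫ z :=
      Triangle.yoneda_exact₂ _ hT _ (by
        change p ≫ (fst ≫ x₂ + snd ≫ x₃) = 0
        rw [← h]; simp)
    refine ⟨z, ?_, ?_⟩
    · change (inl ≫ q) ≫ z = x₂
      rw [Category.assoc, ← hz, Preadditive.comp_add, reassoc_of% h₁, reassoc_of% h₂]
      simp
    · change (inr ≫ q) ≫ z = x₃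
      rw [Category.assoc, ← hz, Preadditive.comp_add, reassoc_of% h₃, reassoc_of% h₄]
      simp
  · rintro ⟨z, rfl, rfl⟩
    change (p ≫ fst) ≫ (inl ≫ q) ≫ z + (p ≫ snd) ≫ (inr ≫ q) ≫ z = 0
    have : (p ≫ fst) ≫ (inl ≫ q) ≫ z + (p ≫ snd) ≫ (inr ≫ q) ≫ z =
      p ≫ (fst ≫ inl + snd ≫ inr) ≫ q ≫ z := by simp
    rw [this, h₅, Category.id_comp, reassoc_of% hpq, zero_comp]

include hT h₅ e₃ e₄ in
lemma exact_two (n : ℤ) :
    Function.Exact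
      (((Preadditive.leftComp (K⟦n⟧) c₂).coprod (-(Preadditive.leftComp (K⟦n⟧) c₃))))
      (conn r K n) := by
  rw [leftComp_neg p snd c₃ e₄, ← e₃]
  have hrp : r ≫ p⟦(1 : ℤ)⟧' = 0 := comp_distTriang_mor_zero₃₁ _ hT
  intro x
  rw [conn_eq_zero_iff]
  constructor
  · intro h
    obtain ⟨y, rfl⟩ : ∃ y : B ⟶ K⟦n⟧, x = p ≫ y := yoneda_exact₁' _ hT x h
    refine ⟨⟨inl ≫ y, inr ≫ y⟩, ?_⟩
    change (p ≫ fst) ≫ inl ≫ y + (p ≫ snd) ≫ inr ≫ y = p ≫ y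
    have : (p ≫ fst) ≫ inl ≫ y + (p ≫ snd) ≫ inr ≫ y =
      p ≫ (fst ≫ inl + snd ≫ inr) ≫ y := by simp
    rw [this, h₅, Category.id_comp]
  · rintro ⟨⟨x₂, x₃⟩, rfl⟩
    change r ≫ ((p ≫ fst) ≫ x₂ + (p ≫ snd) ≫ x₃)⟦(1 : ℤ)⟧' = 0
    simp [reassoc_of% hrp]

include hT h₅ e₁ e₂ in
lemma exact_three (n : ℤ) :
    Function.Exact (conn r K n)
      (((Preadditive.leftComp (K⟦n + 1⟧) a₂).prod
        (Preadditive.leftComp (K⟦n + 1⟧) a₃))) := by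
  rw [← e₁, ← e₂]
  have hqr : q ≫ r = 0 := comp_distTriang_mor_zero₂₃ _ hT
  intro z
  simp only [AddMonoidHom.prod_apply]
  constructor
  · intro h
    have h1 : (inl ≫ q) ≫ z = 0 := congrArg Prod.fst h
    have h2 : (inr ≫ q) ≫ z = 0 := congrArg Prod.snd h
    have h3 : q ≫ z = 0 := by
      have : q ≫ z = fst ≫ (inl ≫ q) ≫ z + snd ≫ (inr ≫ q) ≫ z := by
        have : fst ≫ (inl ≫ q) ≫ z + snd ≫ (inr ≫ q) ≫ z = (fst ≫ inl + snd ≫ inr) ≫ q ≫ z := by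
          simp
        rw [this, h₅, Category.id_comp]
      rw [this, h1, h2]
      simp
    obtain ⟨w, hw⟩ : ∃ w : A⟦(1 : ℤ)⟧ ⟶ K⟦n + 1⟧, z = r ≫ w := Triangle.yoneda_exact₃ _ hT z h3
    obtain ⟨x, hx⟩ := (shiftFunctor D (1 : ℤ)).map_surjective (w ≫ (shiftFunctorAdd D n 1).hom.app K)
    refine ⟨x, ?_⟩
    rw [conn_apply, hx, hw, Category.assoc, Iso.hom_inv_id_app, Category.comp_id]
  · rintro ⟨x, rfl⟩
    have h1 : (inl ≫ q) ≫ conn r K n x = 0 := by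
      rw [conn_apply, Category.assoc, reassoc_of% hqr, zero_comp, comp_zero]
    have h2 : (inr ≫ q) ≫ conn r K n x = 0 := by
      rw [conn_apply, Category.assoc, reassoc_of% hqr, zero_comp, comp_zero]
    exact Prod.ext h1 h2

end

section

open CategoryTheory.Limits CategoryTheory.Pretriangulated

variable {𝒜 : Type*} [Category* 𝒜] [Abelian 𝒜] [HasDerivedCategory.{u} 𝒜]

/-- The functor placing an object in degree `0`. -/
noncomputable abbrev Γ (𝒜 : Type*) [Category* 𝒜] [Abelian 𝒜] [HasDerivedCategory.{u} 𝒜] :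
    𝒜 ⥤ DerivedCategory 𝒜 :=
  DerivedCategory.singleFunctor 𝒜 0

variable {A B₂ B₃ C : 𝒜} (c₂ : A ⟶ B₂) (c₃ : A ⟶ B₃) (a₂ : B₂ ⟶ C) (a₃ : B₃ ⟶ C)
  (w : biprod.lift c₂ (-c₃) ≫ biprod.desc a₂ a₃ = 0)
  (hS : (ShortComplex.mk _ _ w).ShortExact)

include hS in
theorem main (K : DerivedCategory 𝒜) :
    ∃ δ : ∀ n : ℤ, ((Γ 𝒜).obj A ⟶ K⟦n⟧) →+ ((Γ 𝒜).obj C ⟶ K⟦n + 1⟧),
      ∀ n : ℤ,
        (ComposableArrows.mk₂
          (AddCommGrpCat.ofHom ((Preadditive.leftComp (K⟦n⟧) ((Γ 𝒜).map a₂)).prod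
            (Preadditive.leftComp (K⟦n⟧) ((Γ 𝒜).map a₃))))
          (AddCommGrpCat.ofHom ((Preadditive.leftComp (K⟦n⟧) ((Γ 𝒜).map c₂)).coprod
            (-(Preadditive.leftComp (K⟦n⟧) ((Γ 𝒜).map c₃)))))).Exact ∧
        (ComposableArrows.mk₂
          (AddCommGrpCat.ofHom ((Preadditive.leftComp (K⟦n⟧) ((Γ 𝒜).map c₂)).coprod
            (-(Preadditive.leftComp (K⟦n⟧) ((Γ 𝒜).map c₃)))))
          (AddCommGrpCat.ofHom (δ n))).Exact ∧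
        (ComposableArrows.mk₂ (AddCommGrpCat.ofHom (δ n))
          (AddCommGrpCat.ofHom ((Preadditive.leftComp (K⟦n + 1⟧) ((Γ 𝒜).map a₂)).prod
            (Preadditive.leftComp (K⟦n + 1⟧) ((Γ 𝒜).map a₃))))).Exact := by
  have hT : Triangle.mk ((Γ 𝒜).map (biprod.lift c₂ (-c₃))) ((Γ 𝒜).map (biprod.desc a₂ a₃))
      hS.singleδ ∈ distTriang _ := hS.singleTriangle_distinguished
  have hh₁ : (Γ 𝒜).map (biprod.inl : B₂ ⟶ B₂ ⊞ B₃) ≫ (Γ 𝒜).map biprod.fst = 𝟙 _ := by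
    rw [← Functor.map_comp, biprod.inl_fst, CategoryTheory.Functor.map_id]
  have hh₂ : (Γ 𝒜).map (biprod.inl : B₂ ⟶ B₂ ⊞ B₃) ≫ (Γ 𝒜).map biprod.snd = 0 := by
    rw [← Functor.map_comp, biprod.inl_snd, Functor.map_zero]
  have hh₃ : (Γ 𝒜).map (biprod.inr : B₃ ⟶ B₂ ⊞ B₃) ≫ (Γ 𝒜).map biprod.fst = 0 := by
    rw [← Functor.map_comp, biprod.inr_fst, Functor.map_zero]
  have hh₄ : (Γ 𝒜).map (biprod.inr : B₃ ⟶ B₂ ⊞ B₃) ≫ (Γ 𝒜).map biprod.snd = 𝟙 _ := by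
    rw [← Functor.map_comp, biprod.inr_snd, CategoryTheory.Functor.map_id]
  have hh₅ : (Γ 𝒜).map (biprod.fst : B₂ ⊞ B₃ ⟶ B₂) ≫ (Γ 𝒜).map biprod.inl +
      (Γ 𝒜).map biprod.snd ≫ (Γ 𝒜).map biprod.inr = 𝟙 _ := by
    rw [← Functor.map_comp, ← Functor.map_comp, ← Functor.map_add, biprod.total,
      CategoryTheory.Functor.map_id]
  have ee₁ : (Γ 𝒜).map biprod.inl ≫ (Γ 𝒜).map (biprod.desc a₂ a₃) = (Γ 𝒜).map a₂ := by
    rw [← Functor.map_comp, biprod.inl_desc]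
  have ee₂ : (Γ 𝒜).map biprod.inr ≫ (Γ 𝒜).map (biprod.desc a₂ a₃) = (Γ 𝒜).map a₃ := by
    rw [← Functor.map_comp, biprod.inr_desc]
  have ee₃ : (Γ 𝒜).map (biprod.lift c₂ (-c₃)) ≫ (Γ 𝒜).map biprod.fst = (Γ 𝒜).map c₂ := by
    rw [← Functor.map_comp, biprod.lift_fst]
  have ee₄ : (Γ 𝒜).map (biprod.lift c₂ (-c₃)) ≫ (Γ 𝒜).map biprod.snd = -(Γ 𝒜).map c₃ := by
    rw [← Functor.map_comp, biprod.lift_snd, Functor.map_neg]
  refine ⟨fun n => conn hS.singleδ K n,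
    fun n => ⟨exact_mk₂ _ _ ?_, exact_mk₂ _ _ ?_, exact_mk₂ _ _ ?_⟩⟩
  · exact exact_one _ _ _ hT _ _ _ _ hh₁ hh₂ hh₃ hh₄ hh₅ _ _ _ _ ee₁ ee₂ ee₃ ee₄ _
  · exact exact_two _ _ _ hT _ _ _ _ hh₅ _ _ ee₃ ee₄ K n
  · exact exact_three _ _ _ hT _ _ _ _ hh₅ _ _ ee₁ ee₂ K n

end

open CategoryTheory.Limits in
/-- Stacks Tag 0EVY (as a long exact sequence of cohomology groups rather than a triangle of complexes): let S be a Mayer-Vietoris square of a site, with corners X₁ (playing the role of the intersection), X₂, X₃ and X₄ (the union). For every object K of the derived category of abelian sheaves there are connecting homomorphisms H^n(X₁, K) -> H^{n+1}(X₄, K) which together with the restriction maps (sum into H^n(X₂, K) ⊕ H^n(X₃, K), difference out of it) form a long exact sequence ... -> H^n(X₄, K) -> H^n(X₂, K) ⊕ H^n(X₃, K) -> H^n(X₁, K) -> H^{n+1}(X₄, K) ->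 .... Here H^n(U, K) is the group of maps from the free abelian sheaf on U to K[n]. -/
theorem result {C : Type u} [SmallCategory C] {J : GrothendieckTopology C}
    [HasWeakSheafify J (Type u)] [HasDerivedCategory.{u} (Sheaf J AddCommGrpCat.{u})]
    (S : J.MayerVietorisSquare) (K : DerivedCategory (Sheaf J AddCommGrpCat.{u})) :
    ∃ δ : ∀ n : ℤ, CohCx.HDU K n S.X₁ →+ CohCx.HDU K (n + 1) S.X₄,
      ∀ n : ℤ,
        (ComposableArrows.mk₂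
          (AddCommGrpCat.ofHom ((CohCx.HDUres K n S.f₂₄).prod (CohCx.HDUres K n S.f₃₄)))
          (AddCommGrpCat.ofHom ((CohCx.HDUres K n S.f₁₂).coprod (-(CohCx.HDUres K n S.f₁₃))))).Exact ∧
        (ComposableArrows.mk₂
          (AddCommGrpCat.ofHom ((CohCx.HDUres K n S.f₁₂).coprod (-(CohCx.HDUres K n S.f₁₃))))
          (AddCommGrpCat.ofHom (δ n))).Exact ∧
        (ComposableArrows.mk₂ (AddCommGrpCat.ofHom (δ n))
          (AddCommGrpCat.ofHom ((CohCx.HDUres K (n + 1) S.f₂₄).prod (CohCx.HDUres K (n + 1) S.f₃₄)))).Exact := by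
  exact main _ _ _ _ _ S.shortComplex_shortExact K

end Groth.Agent.S0876
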