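import Groth.Statements.S0881
import Groth.Agent.S0880
import Groth.Agent.CohtopB.TruncTower
import Groth.Agent.CohtopB.SheafCover

set_option autoImplicit false
universe u
open CategoryTheory
open CohSite

namespace Groth.Agent.S0881

open CategoryTheory.Limits in
/-- Stacks Tag 0D6M (abelian sheaves): take an object E of the derived category of abelian sheaves on a site together with a class B of objects covering every object, and suppose every V in B has a function p(V, -) such that every covering sieve of V contains a covering family {V_i -> V} with H^p(V_i, H^{m-p}(E)) = 0 for all m and all p > p(V, m). Then E is a derived limit of the tower τ_{≥ -n} E through the canonical maps (the existence of the product of the truncations is assumed). -/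
theorem result {C : Type u} [SmallCategory C]
    {J : GrothendieckTopology C} [HasDerivedCategory.{u} (Sheaf J AddCommGrpCat.{u})]
    (E : DerivedCategory (Sheaf J AddCommGrpCat.{u})) [HasProduct (CohCx.truncTower E)] (B : Set C)
    (hB : ∀ U : C, ∃ (ι : Type u) (Y : ι → C) (f : ∀ i, Y i ⟶ U), Sieve.ofArrows Y f ∈ J U ∧ ∀ i, Y i ∈ B)
    (h : ∀ V ∈ B, ∃ p : ℤ → ℤ, ∀ T ∈ J V, ∃ (ι : Type u) (Y : ι → C) (f : ∀ i, Y i ⟶ V),
      (∀ i, T.arrows (f i)) ∧ Sieve.ofArrows Y f ∈ J V ∧
      ∀ (i : ι) (m : ℤ) (k : ℕ), p m < k → Subsingleton (CohSite.HU (CohCx.HD E (m - k)) k (Y i))) :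
    CohCx.IsRlimVia (CohCx.truncTower E) (CohCx.truncTowerMap E) E (CohCx.toTruncTower E) := by
  obtain ⟨L, a, f, hL, hfa, hiso⟩ := Groth.Agent.CohtopB.TruncTower.exists_fibre_comparison E
  refine hiso ?_
  rw [DerivedCategory.isIso_iff]
  intro m
  refine Groth.Agent.CohtopB.SheafCover.isIso_of_bijective
    ((DerivedCategory.homologyFunctor (Sheaf J AddCommGrpCat.{u}) m).map f) B hB ?_
  intro V hV
  obtain ⟨p, hp⟩ := h V hV
  -- an index beyond which everything is stable
  obtain ⟨N, hN1, hN2⟩ : ∃ N : ℕ, -(N : ℤ) ≤ m ∧ p m < m + N := by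
    refine ⟨(p m - m + 1).toNat + (-m).toNat, ?_, ?_⟩ <;> omega
  have hinj : Function.Injective
      (((DerivedCategory.homologyFunctor (Sheaf J AddCommGrpCat.{u}) m).map (a N)).hom.app
        (Opposite.op V)) := by
    refine Groth.Agent.S0880.result (CohCx.truncTower E) (CohCx.truncTowerMap E) L a hL V m N ?_
    intro T hT
    obtain ⟨ι, Y, g, hg1, hg2, hg3⟩ := hp T hT
    refine ⟨ι, Y, g, hg1, hg2, fun i => ⟨?_, ?_⟩⟩
    · refine Groth.Agent.CohtopB.TruncTower.limOneIsZero_of_eventually_surjective _ _ N ?_
      intro n hn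
      refine Groth.Agent.CohtopB.TruncTower.surjective_step (CohCx.freeSheaf J (Y i)) E n (m - 1) ?_
      intro k hk
      have h1 := hg3 i m k (by omega)
      have e : m - (k : ℤ) = -((n + 1 : ℕ) : ℤ) := by omega
      rw [e] at h1
      exact h1
    · intro k
      refine Groth.Agent.CohtopB.TruncTower.injective_transition _ (CohCx.truncTower E)
        (CohCx.truncTowerMap E) m N ?_ k
      intro n hn
      refine Groth.Agent.CohtopB.TruncTower.injective_step (CohCx.freeSheaf J (Y i)) E n m ?_
      intro k hk
      have h1 := hg3 i m k (by omega)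
      have e : m - (k : ℤ) = -((n + 1 : ℕ) : ℤ) := by omega
      rw [e] at h1
      exact h1
  have hbij : Function.Bijective
      (((DerivedCategory.homologyFunctor (Sheaf J AddCommGrpCat.{u}) m).map
        (CohCx.toTruncTower E N)).hom.app (Opposite.op V)) := by
    have := Groth.Agent.CohtopB.TruncTower.isIso_homology_map_toTruncTower E N m hN1
    have h2 : IsIso (((DerivedCategory.homologyFunctor (Sheaf J AddCommGrpCat.{u}) m).map
        (CohCx.toTruncTower E N)).hom.app (Opposite.op V)) := by
      have h3 : IsIso ((sheafToPresheaf J AddCommGrpCat.{u}).map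
        ((DerivedCategory.homologyFunctor (Sheaf J AddCommGrpCat.{u}) m).map
        (CohCx.toTruncTower E N))) := inferInstance
      exact inferInstanceAs (IsIso (((sheafToPresheaf J AddCommGrpCat.{u}).map
        ((DerivedCategory.homologyFunctor (Sheaf J AddCommGrpCat.{u}) m).map
        (CohCx.toTruncTower E N))).app (Opposite.op V)))
    exact ConcreteCategory.bijective_of_isIso _
  have hcomp : ∀ x, (((DerivedCategory.homologyFunctor (Sheaf J AddCommGrpCat.{u}) m).map (a N)).hom.app
        (Opposite.op V)) ((((DerivedCategory.homologyFunctor (Sheaf J AddCommGrpCat.{u}) m).map f).hom.app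
        (Opposite.op V)) x) = (((DerivedCategory.homologyFunctor (Sheaf J AddCommGrpCat.{u}) m).map
        (CohCx.toTruncTower E N)).hom.app (Opposite.op V)) x := by
    intro x
    rw [← ConcreteCategory.comp_apply, ← hfa N, Functor.map_comp]
    rfl
  constructor
  · intro x y hxy
    apply hbij.1
    rw [← hcomp, ← hcomp, hxy]
  · intro y
    obtain ⟨x, hx⟩ := hbij.2 ((((DerivedCategory.homologyFunctor (Sheaf J AddCommGrpCat.{u}) m).map (a N)).hom.app
        (Opposite.op V)) y)
    refine ⟨x, hinj ?_⟩
    rw [hcomp, hx]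

end Groth.Agent.S0881
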