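import Groth.Statements.S0882
import Groth.Agent.CohtopB.ColimCover
import Groth.Agent.CohtopB.RPushExt

set_option autoImplicit false
universe u
open CategoryTheory
open CohSite

namespace Groth.Agent.S0882

open Opposite CategoryTheory.Limits in
/-- Stacks Tag 0H7B: let u : D -> C be a continuous functor underlying a morphism of sites f : C -> D, (F_i) a diagram of abelian sheaves on C indexed by a small category and p >= 0. Let B be the class of objects V of D such that colim_i H^p(u(V), F_i) -> H^p(u(V), colim F_i) is an isomorphism. If every object of D has a covering by members of B, then colim_i R^p f_* F_i -> R^p f_* (colim F_i) is an isomorphism (both phrased as preservation of the colimit). -/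
theorem result {C D : Type u} [SmallCategory C]
    [SmallCategory D] (J : GrothendieckTopology C) (K : GrothendieckTopology D) (u : D ⥤ C)
    [u.IsContinuous K J]
    {ι : Type u} [SmallCategory ι] (F : ι ⥤ Sheaf J AddCommGrpCat.{u})
    (p : ℕ)
    (h : ∀ V : D, ∃ (κ : Type u) (Y : κ → D) (g : ∀ k, Y k ⟶ V), Sieve.ofArrows Y g ∈ K V ∧
      ∀ k, PreservesColimit F ((Sheaf.cohomologyPresheafFunctor J p).flip.obj (op (u.obj (Y k))))) :
    PreservesColimit F (CohSite.Rpush J K u p) := by
  let B : Set D := { V : D | PreservesColimit F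
    ((Sheaf.cohomologyPresheafFunctor J p).flip.obj (op (u.obj V))) }
  have hB : Groth.Agent.CohtopB.SectHomology.IsCovering K B := by
    intro V
    obtain ⟨κ, Y, g, hg, hY⟩ := h V
    exact ⟨κ, Y, g, hg, hY⟩
  have h1 : PreservesColimit F ((Sheaf.cohomologyPresheafFunctor.{u} J p ⋙
      (Functor.whiskeringLeft Dᵒᵖ Cᵒᵖ AddCommGrpCat.{u}).obj u.op) ⋙
        presheafToSheaf K AddCommGrpCat.{u}) := by
    refine Groth.Agent.CohtopB.ColimCover.preservesColimit_of_isCovering K F _ B hB ?_
    intro V hV
    have hV' : PreservesColimit F ((Sheaf.cohomologyPresheafFunctor J p).flip.obj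
      (op (u.obj V))) := hV
    exact preservesColimit_of_natIso F (NatIso.ofComponents (fun _ => Iso.refl _) :
      (Sheaf.cohomologyPresheafFunctor.{u} J p).flip.obj (op (u.obj V)) ≅
      (Sheaf.cohomologyPresheafFunctor.{u} J p ⋙
        (Functor.whiskeringLeft Dᵒᵖ Cᵒᵖ AddCommGrpCat.{u}).obj u.op) ⋙
          (evaluation _ _).obj (op V))
  exact preservesColimit_of_natIso F
    (Groth.Agent.CohtopB.RPushExt.siteIso J K u p ≪≫ (Functor.associator _ _ _).symm).symm

end Groth.Agent.S0882
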