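import Groth.Statements.S0884
-- import your own Groth.Agent.* helpers here
import Groth.Agent.CohtopB.ProOpen2
import Groth.Agent.CohtopB.StalkShift

set_option autoImplicit false
universe u
open CategoryTheory
open CohTop

namespace Groth.Agent.S0884

section Helper
open TopologicalSpace Opposite CategoryTheory.Limits Topology

variable {X Y : TopCat.{u}} [SpectralSpace Y] (f : X ⟶ Y) (y : Y)

theorem exists_compact_nhds (V : Opens Y) (hy : y ∈ V) :
    ∃ W : Opens Y, y ∈ W ∧ IsCompact (W : Set Y) ∧ W ≤ V := by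
  obtain ⟨W, ⟨hW, hW'⟩, hyW, hWV⟩ :=
    (PrespectralSpace.isTopologicalBasis (X := Y)).exists_subset_of_mem_open
      (show y ∈ (V : Set Y) from hy) V.isOpen
  exact ⟨⟨W, hW⟩, hyW, hW', hWV⟩

theorem fibre_eq :
    {x : X | y ∈ closure {f x}} =
      ⋂ k : {V : Opens Y // y ∈ V ∧ IsCompact (V : Set Y)},
        (((Opens.map f).obj k.1 : Opens X) : Set X) := by
  ext x
  simp only [Set.mem_ofPred_eq, Set.mem_iInter]
  constructor
  · rintro hx ⟨V, hV, -⟩
    obtain ⟨z, hz, hz'⟩ := mem_closure_iff.1 hx V V.isOpen hV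
    rw [Set.mem_singleton_iff.1 hz'] at hz
    exact hz
  · intro h
    by_contra hx
    obtain ⟨W, hyW, hW, hW'⟩ := exists_compact_nhds y
      ⟨(closure {f x})ᶜ, isClosed_closure.isOpen_compl⟩ hx
    exact hW' (h ⟨W, hyW, hW⟩) (subset_closure rfl)

end Helper


open TopologicalSpace in
/-- Stacks Tag 0A3E: let f : X -> Y be a spectral map of spectral spaces, y a point of Y, E ⊆ Y the set of points specializing to y, and F an abelian sheaf on X. Then the stalk (R^p f_* F)_y is isomorphic to H^p(f^{-1}(E), F|_{f^{-1}(E)}), the cohomology of the pullback of F to the subspace f^{-1}(E). -/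
theorem result {X Y : TopCat.{u}} [SpectralSpace X] [SpectralSpace Y]
    (f : X ⟶ Y) (hf : IsSpectralMap f) (y : Y) (F : CohTop.Ab X) (p : ℕ) :
    Nonempty (CohTop.stalk ((CohTop.Rpush f p).obj F) y ≃+
      CohTop.H ((CohTop.pull (TopCat.ofHom ⟨Subtype.val, continuous_subtype_val⟩ :
          TopCat.of {x : X | y ∈ closure {f x}} ⟶ X)).obj F) p) := by
  let κ := {V : Opens Y // y ∈ V ∧ IsCompact (V : Set Y)}
  have hκ : Nonempty κ := ⟨⟨⊤, trivial, isCompact_univ⟩⟩
  let i : TopCat.of {x : X | y ∈ closure {f x}} ⟶ X :=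
    TopCat.ofHom ⟨Subtype.val, continuous_subtype_val⟩
  have hr : Set.range i = ⋂ k : κ, (((Opens.map f).obj k.1 : Opens X) : Set X) :=
    (Subtype.range_coe (s := {x : X | y ∈ closure {f x}})).trans (fibre_eq f y)
  refine Groth.Agent.CohtopB.ProOpen2.nonempty_addEquiv (fun k : κ => (Opens.map f).obj k.1)
    (fun k => hf.isCompact_preimage_of_isOpen k.1.isOpen k.2.2) ?_ i
    Topology.IsInducing.subtypeVal hr (Groth.Agent.CohtopB.StalkShift.nhdsQ f y) ?_ ?_ ?_
    (Groth.Agent.CohtopB.StalkShift.isShift_stalk f y) F p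
  · intro a b
    exact ⟨⟨a.1 ⊓ b.1, ⟨a.2.1, b.2.1⟩, QuasiSeparatedSpace.inter_isCompact _ _
      a.1.isOpen a.2.2 b.1.isOpen b.2.2⟩, fun x hx => hx.1, fun x hx => hx.2⟩
  · intro j x _
    have : y ∈ closure {f x.1} := x.2
    obtain ⟨z, hz, hz'⟩ := mem_closure_iff.1 this j.unop.1 j.unop.1.isOpen j.unop.2
    rw [Set.mem_singleton_iff.1 hz'] at hz
    exact hz
  · intro k
    exact ⟨Opposite.op ⟨k.1, k.2.1⟩, le_rfl⟩
  · intro j
    obtain ⟨W, hyW, hW, hWV⟩ := exists_compact_nhds y j.unop.1 j.unop.2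
    exact ⟨⟨W, hyW, hW⟩, fun x hx => hWV hx⟩

end Groth.Agent.S0884
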