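import Groth.Statements.S0885
import Groth.Agent.CohtopB.ExtraCodeg

set_option autoImplicit false
universe u
open CategoryTheory
open CohTop

namespace Groth.Agent.S0885

open TopologicalSpace Opposite CategoryTheory.Limits in
/-- Stacks Tag 0G6S (in the form: the Cech complex is homotopy equivalent to the presheaf value in degree zero; the source phrases this as contractibility of the extended Cech complex): let F be a presheaf of abelian groups on X and U_i a family of opens with union U such that U_i = U for some i. Then the Cech complex of F with respect to the family (all ordered tuples) is homotopy equivalent to the complex F(U) placed in degree 0. -/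
theorem result {X : TopCat.{u}} (F : (Opens X)ᵒᵖ ⥤ AddCommGrpCat.{u})
    {ι : Type u} (U : ι → Opens X) (i : ι) (hi : U i = iSup U) :
    Nonempty (HomotopyEquiv ((CochainComplex.single₀ AddCommGrpCat.{u}).obj (F.obj (op (iSup U))))
      ((cechComplexFunctor U).obj F)) := by
  let G := (FormalCoproduct.evalOp.{u} (Opens X) AddCommGrpCat.{u}).obj F
  let e := (Groth.Agent.CohtopB.ExtraCodeg.thinExtra (FormalCoproduct.mk ι U) (iSup U)
    (fun j => homOfLE (le_iSup U j)) i (homOfLE hi.ge)).homotopyEquiv G
  let e₀ : F.obj (op (iSup U)) ≅
      G.obj (op ((FormalCoproduct.incl (Opens X)).obj (iSup U))) :=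
    ((FormalCoproduct.evalOpCompInlIsoId (Opens X) AddCommGrpCat.{u}).app F).symm.app (op (iSup U))
  exact ⟨(HomotopyEquiv.ofIso ((CochainComplex.single₀ AddCommGrpCat.{u}).mapIso e₀)).trans e⟩

end Groth.Agent.S0885
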