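import Groth.Statements.S0886
import Groth.Agent.CohtopB.SlicePush

set_option autoImplicit false
universe u
open CategoryTheory
open CohSite

namespace Groth.Agent.S0886

open CategoryTheory.Limits in
/-- Stacks Tag 03YU (cohomology groups; abelian sheaves): let u : C -> D be a functor between sites which is cocontinuous, continuous (sends coverings to coverings and commutes with fibre products, which exist in C), fully faithful, and sends a final object of C to a final object of D. For an abelian sheaf F on D let g^{-1}F be the sheaf U ↦ F(u(U)) on C. Then H^p(C, g^{-1}F) ≅ H^p(D, F) for all p (global cohomology; the per-object comparison holds under weaker hypotheses, Tag 0DD8). -/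
theorem result {C D : Type u} [SmallCategory C] [SmallCategory D]
    (J : GrothendieckTopology C) (K : GrothendieckTopology D) (u : C ⥤ D)
    [u.IsCocontinuous J K] [u.IsContinuous J K] (hu : CoverPreserving J K u) [u.Full] [u.Faithful]
    [HasPullbacks C] [PreservesLimitsOfShape WalkingCospan u]
    [HasTerminal C] [PreservesLimit (Functor.empty.{0} C) u]
    (F : Sheaf K AddCommGrpCat.{u}) (p : ℕ) :
    Nonempty (Sheaf.H ((CohSite.push K J u).obj F) p ≃+ Sheaf.H F p) := by
  have h1 : HasFiniteLimits C := hasFiniteLimits_of_hasTerminal_and_pullbacks
  have h4 : PreservesLimitsOfShape (Discrete PEmpty.{1}) u := preservesLimitsOfShape_pempty_of_preservesTerminal _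
  have h5 : PreservesFiniteLimits u := preservesFiniteLimits_of_preservesTerminal_and_pullbacks _
  have h6 : RepresentablyFlat u := flat_of_preservesFiniteLimits _
  exact ⟨(Groth.Agent.CohtopB.SlicePush.pushGlobalEquiv J K u terminalIsTerminal
    (IsTerminal.isTerminalObj u _ terminalIsTerminal) F p).symm⟩

end Groth.Agent.S0886
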