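import Groth.Statements.S0891
import Groth.Agent.Dcoh.ProjFLF

set_option autoImplicit false
universe u
open CategoryTheory
open Coh

namespace Groth.Agent.S0891

open AlgebraicGeometry in
/-- Stacks Tag 01E7 (schemes; the source treats ringed spaces): let I be an injective O_X-module and E a finite locally free O_X-module. Then E ⊗ I is an injective O_X-module. -/
theorem result {X : Scheme.{u}} (I E : X.Modules) [Injective I]
    (hE : FlatMod.IsFinLocFree E) : Injective (CohB1.tensorMod E I) := by
  exact Groth.Agent.Dcoh.ProjFLF.injective_tensor I E hE

end Groth.Agent.S0891
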