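import Groth.Statements.S0892
import Groth.Agent.Dcoh.FreeLocus

set_option autoImplicit false
universe u
open CategoryTheory
attribute [local instance] HasDerivedCategory.standard
open DCoh

namespace Groth.Agent.S0892

open AlgebraicGeometry in
/-- Stacks Tag 0GT1 (schemes, where all stalks of the structure sheaf are local rings as the source requires): let E be a perfect object of D(O_X). Then the set U of points x such that the stalk H^i(E)_x is a finite free O_{X,x}-module for every i is open, all H^i(E) are finite locally free over U, and every open W over which all H^i(E) are finite locally free is contained in U. -/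
theorem result {X : Scheme.{u}} (E : DCoh.D X) (hE : DCoh.IsPerfect E) :
    ∃ U : X.Opens,
      (U : Set X) = {x : X | ∀ i : ℤ, Module.Free (X.presheaf.stalk x) ((DCoh.HD E i).presheaf.stalk x) ∧
        Module.Finite (X.presheaf.stalk x) ((DCoh.HD E i).presheaf.stalk x)} ∧
      (∀ i : ℤ, FlatMod.IsFinLocFree ((DCoh.HD E i).restrict U.ι)) ∧
      ∀ W : X.Opens, (∀ i : ℤ, FlatMod.IsFinLocFree ((DCoh.HD E i).restrict W.ι)) → W ≤ U := by
  exact Groth.Agent.Dcoh.FreeLocus.main E hE

end Groth.Agent.S0892
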