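import Groth.Statements.S0894
-- import your own Groth.Agent.* helpers here

set_option autoImplicit false
universe u
open CategoryTheory
open Hyper

namespace Groth.Agent.S0894

open Opposite in
/-- Stacks Tag 0DEQ: for a hypercovering K of an object X of a site with fibre products (a simplicial semi-representable object over X; coskeleta are assumed to exist): (1) for each n the family K_n is a covering of X, and (2) every face map d_i : K_{n+1} -> K_n is a covering morphism of semi-representable objects. -/
theorem result {C : Type u} [SmallCategory C] [Limits.HasPullbacks C]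
    (J : GrothendieckTopology C) (X : C) (K : SimplicialObject (Limits.FormalCoproduct.{u} (Over X)))
    [∀ (n : ℕ) (F : (SimplexCategory.Truncated n)ᵒᵖ ⥤ Limits.FormalCoproduct.{u} (Over X)),
      (SimplexCategory.Truncated.inclusion n).op.HasRightKanExtension F]
    (hK : Hyper.IsHypercovering J X K) :
    (∀ n : ℕ, Sieve.ofArrows (fun i => ((K.obj (op (SimplexCategory.mk n))).obj i).left)
      (fun i => ((K.obj (op (SimplexCategory.mk n))).obj i).hom) ∈ J X) ∧
    ∀ (n : ℕ) (i : Fin (n + 2)), Hyper.IsSRCovering (J.over X) (K.δ i) := by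
  refine ⟨fun n => ?_, fun n i => ?_⟩
  · refine J.superset_covering ?_ hK.1
    rw [Sieve.ofArrows, Sieve.generate_le_iff]
    rintro _ _ ⟨i⟩
    let s := K.map ((SimplexCategory.const (SimplexCategory.mk n) (SimplexCategory.mk 0) 0).op)
    refine ⟨_, (s.φ i).left, _, ⟨s.f i⟩, ?_⟩
    exact Over.w (s.φ i)
  · intro j
    have h : ∃ s : K.obj (op (SimplexCategory.mk n)) ⟶ K.obj (op (SimplexCategory.mk (n + 1))),
        s ≫ K.δ i = 𝟙 _ := by
      induction i using Fin.lastCases with
      | last => exact ⟨K.σ (Fin.last n), by rw [← Fin.succ_last, SimplicialObject.δ_comp_σ_succ]⟩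
      | cast i => exact ⟨K.σ i, by rw [SimplicialObject.δ_comp_σ_self]⟩
    obtain ⟨s, hs⟩ := h
    rw [Limits.FormalCoproduct.hom_ext_iff'] at hs
    obtain ⟨h1, h2⟩ := hs j
    refine (J.over X).superset_covering ?_ ((J.over X).top_mem _)
    rw [top_le_iff, ← Sieve.id_mem_iff_eq_top]
    refine ⟨_, s.φ j, _, Presieve.ofArrows.mk (⟨s.f j, h1⟩ : {a : (K.obj (op (SimplexCategory.mk (n + 1)))).I // (K.δ i).f a = j}), ?_⟩
    simpa using h2

end Groth.Agent.S0894
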