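import Groth.Statements.S0895
import Groth.Agent.CohtopB.HypGlue
import Groth.Agent.CohtopB.HypInj

set_option autoImplicit false
universe u
open CategoryTheory
open Hyper

namespace Groth.Agent.S0895

open Opposite in
lemma sheaf_sep {C : Type u} [SmallCategory C] {J : GrothendieckTopology C}
    (I : Sheaf J AddCommGrpCat.{u}) ⦃V : C⦄ (x : I.obj.obj (op V))
    (h : Groth.Agent.CohtopB.LocTriv.Loc J V (fun _ g => I.obj.map g.op x = 0)) : x = 0 := by
  obtain ⟨S, hS, h⟩ := h
  have hI := (Presheaf.isSheaf_iff_isSheaf_forget J I.obj (forget AddCommGrpCat.{u})).1 I.2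
  rw [isSheaf_iff_isSheaf_of_type] at hI
  refine (hI.isSeparated S hS).ext fun W g hg => ?_
  change I.obj.map g.op x = I.obj.map g.op 0
  rw [h g hg, map_zero]


open Opposite CategoryTheory.Limits in
/-- Stacks Tag 01GW: let C be a site with fibre products, X an object, K a hypercovering of X and I an injective abelian sheaf. Then the Cech cohomology groups of I with respect to K vanish in positive degrees (degree zero is Tag 01GV). -/
theorem result {C : Type u} [SmallCategory C] [HasPullbacks C]
    (J : GrothendieckTopology C) (X : C) (K : SimplicialObject (FormalCoproduct.{u} (Over X)))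
    [∀ (n : ℕ) (F : (SimplexCategory.Truncated n)ᵒᵖ ⥤ Limits.FormalCoproduct.{u} (Over X)),
      (SimplexCategory.Truncated.inclusion n).op.HasRightKanExtension F]
    (hK : Hyper.IsHypercovering J X K) (I : Sheaf J AddCommGrpCat.{u}) [Injective I] :
    ∀ p : ℕ, IsZero (Hyper.cechH X K I.obj (p + 1)) := by
  intro p
  have : Injective I.obj := Injective.injective_of_adjoint
    (sheafificationAdjunction J AddCommGrpCat.{u}) I
  exact Groth.Agent.CohtopB.HypInj.isZero_homology
    (Groth.Agent.CohtopB.HypGlue.isLocHyp_augOver K
      (Groth.Agent.CohtopB.HypGlue.isLocHyp_of_isHypercovering K hK)) (P := I.obj)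
    (sheaf_sep I) p

end Groth.Agent.S0895
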