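import Groth.Statements.S0896
import Groth.Agent.CohtopB.HyperExist
import Mathlib.CategoryTheory.Limits.Constructions.Over.Basic
import Mathlib.CategoryTheory.Limits.Constructions.LimitsOfProductsAndEqualizers

set_option autoImplicit false
universe u
open CategoryTheory
open Hyper

namespace Groth.Agent.S0896

open Opposite CategoryTheory.Limits in
/-- Stacks Tag 094K: let C be a site with fibre products and B a class of objects such that (2) every object X has a finite covering {U_i -> X} with all U_i in B, and (3) adding one more morphism U -> X with U in B to such a finite covering again gives a covering. Then every object X has a hypercovering K such that each K_n is a finite family of objects of B over X. -/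
theorem result {C : Type u} [SmallCategory C] [HasPullbacks C]
    (J : GrothendieckTopology C) (B : Set C)
    (h2 : ∀ X : C, ∃ (ι : Type u) (_ : Finite ι) (U : ι → C) (f : ∀ i, U i ⟶ X),
      Sieve.ofArrows U f ∈ J X ∧ ∀ i, U i ∈ B)
    (h3 : ∀ (X : C) (ι : Type u) [Finite ι] (U : ι → C) (f : ∀ i, U i ⟶ X),
      Sieve.ofArrows U f ∈ J X → (∀ i, U i ∈ B) → ∀ (V : C) (g : V ⟶ X), V ∈ B →
      Sieve.ofArrows (Option.elim' V U) (fun o => Option.rec g f o) ∈ J X)
    (X : C) [∀ (n : ℕ) (F : (SimplexCategory.Truncated n)ᵒᵖ ⥤ Limits.FormalCoproduct.{u} (Over X)),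
      (SimplexCategory.Truncated.inclusion n).op.HasRightKanExtension F] :
    ∃ K : SimplicialObject (FormalCoproduct.{u} (Over X)), Hyper.IsHypercovering J X K ∧
      ∀ n : ℕ, Finite (K.obj (op (SimplexCategory.mk n))).I ∧
        ∀ i, ((K.obj (op (SimplexCategory.mk n))).obj i).left ∈ B := by
  have : HasFiniteLimits (Over X) := by
    have : HasTerminal (Over X) := Over.mkIdTerminal.hasTerminal
    exact hasFiniteLimits_of_hasTerminal_and_pullbacks
  have hlim : ∀ (n : SimplexCategory), HasLimitsOfShape (Groth.Agent.CohtopB.HyperExist.PF n)ᵒᵖ (Over X) := by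
    intro n
    have : Fintype (Groth.Agent.CohtopB.HyperExist.PF n) := Fintype.ofFinite _
    infer_instance
  choose ι hι U f hf hU using h2
  let Ch : ∀ (n : SimplexCategory) (r : (Groth.Agent.CohtopB.HyperExist.PF n)ᵒᵖ ⥤ Over X), Set (Cone r) :=
    fun n r => Set.range fun j : ι (limit r).left =>
      (limit.cone r).extend (Over.homMk (f _ j) : Over.mk (f _ j ≫ (limit r).hom) ⟶ limit r)
  refine ⟨Groth.Agent.CohtopB.HyperExist.KK Ch,
    Groth.Agent.CohtopB.HyperExist.isHypercovering_KK _ _ ?_, fun n => ⟨?_, ?_⟩⟩
  · intro n r c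
    rw [GrothendieckTopology.mem_over_iff]
    refine J.superset_covering ?_ (J.pullback_stable (limit.lift r c).left (hf (limit r).left))
    rintro Z g ⟨_, a, _, ⟨j⟩, h⟩
    rw [Sieve.overEquiv_iff]
    have h' : a ≫ f _ j = g ≫ (limit.lift r c).left := h
    refine ⟨_, ⟨j, rfl⟩, Over.homMk a ?_, ?_⟩
    · have := Over.w (limit.lift r c)
      change a ≫ (f _ j ≫ (limit r).hom) = g ≫ c.pt.hom
      rw [reassoc_of% h', this]
    · intro F
      apply Over.OverMorphism.ext
      change a ≫ (f _ j ≫ (limit.π r F).left) = g ≫ (c.π.app F).left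
      rw [reassoc_of% h', ← Over.comp_left, limit.lift_π]
  · exact Groth.Agent.CohtopB.HyperExist.finite_KK (fun n r => Set.finite_range _) _
  · intro i
    refine Groth.Agent.CohtopB.HyperExist.topv_property (Ch := Ch) (fun T => T.left ∈ B) ?_ i.1 i.2
    rintro n r _ ⟨j, rfl⟩
    exact hU _ j

end Groth.Agent.S0896
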