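import Groth.Statements.S0899
import Groth.Agent.CohtopB.SectHomology
import Groth.Agent.CohtopB.LimHomology
-- import your own Groth.Agent.* helpers here

set_option autoImplicit false
universe u
open CategoryTheory
open CohSite

namespace Groth.Agent.S0899

open Opposite CategoryTheory.Limits in
/-- Stacks Tag 08CT (abelian sheaves; conclusion stated as: H^m of the limit complex maps isomorphically onto H^m(F_{n₀})): let (F_n) be an inverse system of complexes of abelian sheaves on a site, m an integer, B a class of objects such that every object is covered by members of B, and n₀ an index such that for every U in B: (a) the systems of sections F_n^{m-2}(U), F_n^{m-1}(U) have vanishing R^1 lim, (b) the system H^{m-1}(F_n(U)) has vanishing R^1 lim, (c) H^m(F_n(U)) -> H^m(F_{n₀}(U)) is an isomorphism for n ≥ n₀. Then for the termwise limit F = lim F_n the map H^m(F) -> H^m(F_{n₀}) is an isomorphism of sheaves. -/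
theorem result {C : Type u} [SmallCategory C] (J : GrothendieckTopology C)
    (F : ℕ → CochainComplex (Sheaf J AddCommGrpCat.{u}) ℤ) (t : ∀ n, F (n + 1) ⟶ F n) (m : ℤ)
    (B : Set C)
    (hB : ∀ U : C, ∃ (ι : Type u) (Y : ι → C) (f : ∀ i, Y i ⟶ U), Sieve.ofArrows Y f ∈ J U ∧ ∀ i, Y i ∈ B)
    (n₀ : ℕ)
    (ha : ∀ U ∈ B, ∀ j : ℤ, (j = m - 2 ∨ j = m - 1) →
      CohCx.LimOneIsZero (fun n => ((F n).X j).obj.obj (op U)) (fun n => (((t n).f j).hom.app (op U)).hom))
    (hb : ∀ U ∈ B, CohCx.LimOneIsZero
      (fun n => ((CohCx.sectCx J U).obj (F n)).homology (m - 1))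
      (fun n => (HomologicalComplex.homologyMap ((CohCx.sectCx J U).map (t n)) (m - 1)).hom))
    (hc : ∀ U ∈ B, ∀ k : ℕ, IsIso (HomologicalComplex.homologyMap
      ((CohCx.sectCx J U).map (CohCx.transition F t n₀ k)) m)) :
    IsIso (HomologicalComplex.homologyMap (limit.π (CohCx.opSequence F t) (op n₀)) m) := by
  refine CohtopB.SectHomology.isIso_homologyMap_of_sections J hB _ m fun U hU => ?_
  refine CohtopB.LimHomology.isIso_homologyMap_of_lim (fun n => (CohCx.sectCx J U).obj (F n))
    (fun n => (CohCx.sectCx J U).map (t n)) m n₀ _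
    (fun n => (CohCx.sectCx J U).map (limit.π (CohCx.opSequence F t) (op n))) ?_ ?_ ?_
    (ha U hU) (hb U hU) ?_
  · intro n
    exact (Functor.map_comp _ _ _).symm.trans
      (congrArg (fun f => (CohCx.sectCx J U).map f) (CohtopB.OpSeq.limit_π_succ F t n))
  · intro j x y hxy
    exact CohtopB.OpSeq.limit_elem_ext F t
      (HomologicalComplex.eval _ _ j ⋙ sheafToPresheaf J AddCommGrpCat.{u} ⋙
        (evaluation Cᵒᵖ AddCommGrpCat.{u}).obj (op U)) hxy
  · intro j x hx
    exact (CohtopB.OpSeq.existsUnique_limit F t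
      (HomologicalComplex.eval _ _ j ⋙ sheafToPresheaf J AddCommGrpCat.{u} ⋙
        (evaluation Cᵒᵖ AddCommGrpCat.{u}).obj (op U)) x hx).exists
  · intro k
    exact (CohtopB.OpSeq.map_transition F t (CohCx.sectCx J U) n₀ k) ▸ hc U hU k

end Groth.Agent.S0899
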