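import Groth.Statements.S0901
import Groth.Agent.CohqA.CechFlasque
import Mathlib.Topology.Order.UpperLowerSetTopology

set_option autoImplicit false
universe u
open CategoryTheory
open CohTop

namespace Groth.Agent.S0901

section Aux

open CategoryTheory TopologicalSpace Opposite CategoryTheory.Limits
open Groth.Agent.CohqA.CechBasic Groth.Agent.CohqA.CechSheaf Groth.Agent.CohqA.CechFlasque

/-- Čech exactness can be transported along a functor of opens compatible with the coverings. -/
theorem cechExact_transport {X Y : TopCat.{u}} {ι : Type u} (φ : Opens Y ⥤ Opens X)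
    (V : ι → Opens Y) (U : ι → Opens X)
    (hφ : ∀ (p : ℕ) (i : Fin (p+1) → ι), φ.obj (⨅ a, V (i a)) = ⨅ a, U (i a))
    (F : TopCat.Presheaf AddCommGrpCat.{u} X) (p : ℕ)
    (h : CechExact V (φ.op ⋙ F : TopCat.Presheaf AddCommGrpCat.{u} Y) p) : CechExact U F p := by
  intro s hs
  obtain ⟨t, ht⟩ := h (fun i => res F (hφ _ i).le (s i)) (by
    funext i
    rw [dC_apply]
    have e := congr_arg (res F (hφ _ i).le) (congr_fun hs i)
    rw [dC_apply, map_sum, Pi.zero_apply, map_zero] at e
    refine Eq.trans (Finset.sum_congr rfl fun j _ => ?_) e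
    rw [map_zsmul, res_res]
    exact congr_arg _ (res_res F _ _ _))
  refine ⟨fun i => res F (hφ _ i).ge (t i), ?_⟩
  funext i
  have e := congr_arg (res F (hφ _ i).ge) (congr_fun ht i)
  rw [dC_apply, map_sum] at e
  have e2 : res F (hφ _ i).ge (res F (hφ _ i).le (s i)) = s i := (res_res F _ _ _).trans (res_self F _)
  rw [e2] at e
  rw [dC_apply]
  refine Eq.trans (Finset.sum_congr rfl fun j _ => ?_) e
  rw [map_zsmul, res_res]
  exact congr_arg _ (res_res F _ _ _).symm

variable (ι : Type u)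

/-- Nonempty finite subsets of the index set. -/
def Yt : Type u := {J : Finset ι // J.Nonempty}

instance : PartialOrder (Yt ι) := inferInstanceAs (PartialOrder {J : Finset ι // J.Nonempty})

instance : TopologicalSpace (Yt ι) := Topology.upperSet (Yt ι)

/-- The Alexandrov space of nonempty finite subsets. -/
abbrev YT : TopCat.{u} := TopCat.of (Yt ι)

variable {ι}
variable {X : TopCat.{u}} (U : ι → Opens X)

/-- The map on opens. -/
def phi (V : Opens (YT ι)) : Opens X := ⨆ J : {J : Yt ι // J ∈ V}, J.1.1.inf U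

lemma le_phi {V : Opens (YT ι)} (J : Yt ι) (hJ : J ∈ V) : J.1.inf U ≤ phi U V :=
  le_iSup (fun J : {J : Yt ι // J ∈ V} => J.1.1.inf U) ⟨J, hJ⟩

lemma phi_mono {V W : Opens (YT ι)} (h : V ≤ W) : phi U V ≤ phi U W :=
  iSup_le fun J => le_phi U J.1 (h J.2)

lemma phi_iSup {κ : Type*} (V : κ → Opens (YT ι)) : phi U (⨆ k, V k) = ⨆ k, phi U (V k) := by
  apply le_antisymm
  · refine iSup_le fun J => ?_
    obtain ⟨k, hk⟩ := Opens.mem_iSup.1 J.2
    exact (le_phi U J.1 hk).trans (le_iSup (fun k => phi U (V k)) k)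
  · exact iSup_le fun k => phi_mono U (le_iSup V k)

lemma mem_of_le {V : Opens (YT ι)} {J K : Yt ι} (hJ : J ∈ V) (h : J ≤ K) : K ∈ V :=
  (show IsUpperSet (V : Set (Yt ι)) from V.2) h hJ

lemma phi_inf (V W : Opens (YT ι)) : phi U (V ⊓ W) = phi U V ⊓ phi U W := by
  classical
  apply le_antisymm
  · exact le_inf (phi_mono U inf_le_left) (phi_mono U inf_le_right)
  · rw [phi, phi, iSup_inf_iSup]
    refine iSup_le fun q => ?_
    obtain ⟨⟨J, hJ⟩, ⟨K, hK⟩⟩ := q
    refine le_trans ?_ (le_phi U (V := V ⊓ W) ⟨J.1 ∪ K.1, J.2.mono Finset.subset_union_left⟩ ⟨?_, ?_⟩)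
    · exact (Finset.inf_union).ge
    · exact mem_of_le hJ (Finset.subset_union_left : J.1 ⊆ J.1 ∪ K.1)
    · exact mem_of_le hK (Finset.subset_union_right : K.1 ⊆ J.1 ∪ K.1)

/-- As a functor. -/
def phiF : Opens (YT ι) ⥤ Opens X where
  obj := phi U
  map f := homOfLE (phi_mono U f.le)

/-- The basic open of a nonempty finite subset. -/
def Vb (J : Yt ι) : Opens (YT ι) := ⟨{K | J ≤ K}, fun _ _ h h' => le_trans h' h⟩

/-- The open of those `J` containing `i`. -/
def Vi (i : ι) : Opens (YT ι) := ⟨{K | i ∈ K.1}, fun _ _ h h' => h h'⟩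

lemma phi_iInf (p : ℕ) (i : Fin (p+1) → ι) : (phiF U).obj (⨅ a, Vi (i a)) = ⨅ a, U (i a) := by
  classical
  change phi U _ = _
  apply le_antisymm
  · refine iSup_le fun J => le_iInf fun a => ?_
    have h : J.1 ∈ Vi (i a) := (iInf_le (fun a => Vi (i a)) a : _ ≤ _) J.2
    exact Finset.inf_le h
  · let J : Yt ι := ⟨Finset.univ.image i, ⟨i 0, Finset.mem_image_of_mem _ (Finset.mem_univ 0)⟩⟩
    have hJ : J ∈ ⨅ a, Vi (i a) := by
      have : Vb J ≤ ⨅ a, Vi (i a) :=
        le_iInf fun a => fun K hK => hK (Finset.mem_image_of_mem _ (Finset.mem_univ a))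
      exact this (le_refl J)
    refine le_trans ?_ (le_phi U J hJ)
    refine Finset.le_inf fun b hb => ?_
    obtain ⟨a, -, rfl⟩ := Finset.mem_image.1 hb
    exact iInf_le _ a

lemma isSheaf_phi (F : CohTop.Ab X) :
    TopCat.Presheaf.IsSheaf ((phiF U).op ⋙ F.obj : TopCat.Presheaf AddCommGrpCat.{u} (YT ι)) := by
  rw [TopCat.Presheaf.isSheaf_iff_isSheafUniqueGluing]
  intro κ V sf hsf
  have := TopCat.Sheaf.existsUnique_gluing' (C := AddCommGrpCat.{u}) (F : TopCat.Sheaf AddCommGrpCat.{u} X)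
    (fun k => phi U (V k)) (phi U (⨆ k, V k)) (fun k => homOfLE (phi_mono U (le_iSup V k)))
    (phi_iSup U V).le sf (by
      intro k l
      have h := hsf k l
      have h' := congr_arg (res F.obj (phi_inf U (V k) (V l)).ge) h
      exact (res_res F.obj _ _ (sf k)).symm.trans (h'.trans (res_res F.obj _ _ (sf l))))
  exact this

/-- The pulled back sheaf. -/
def phiSh (F : CohTop.Ab X) : CohTop.Ab (YT ι) := ⟨(phiF U).op ⋙ F.obj, isSheaf_phi U F⟩

lemma exists_phi_eq (V : Opens (YT ι)) :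
    ∃ (κ : Type u) (a : κ → Σ p : ℕ, Fin (p + 1) → ι), phi U V = ⨆ k, ⨅ j, U ((a k).2 j) := by
  classical
  refine ⟨{J : Yt ι // J ∈ V}, fun J => ⟨J.1.1.card - 1,
    fun b => (J.1.1.equivFin.symm (Fin.cast (Nat.succ_pred_eq_of_pos (Finset.card_pos.2 J.1.2)) b)).1⟩, ?_⟩
  refine iSup_congr fun J => ?_
  apply le_antisymm
  · refine le_iInf fun b => Finset.inf_le (Finset.coe_mem _)
  · refine Finset.le_inf fun i hi => ?_
    refine (iInf_le _ (Fin.cast (Nat.succ_pred_eq_of_pos (Finset.card_pos.2 J.1.2)).symm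
      (J.1.1.equivFin ⟨i, hi⟩))).trans (le_of_eq ?_)
    simp

end Aux

open TopologicalSpace Opposite CategoryTheory.Limits in
/-- Stacks Tag 0A36: let F be an abelian sheaf on X and U_i a family of opens with union U. Assume that for every union U' of opens of the form U_{i_0} ∩ ... ∩ U_{i_p} the restriction map F(U) -> F(U') is surjective. Then the Cech cohomology of F with respect to the family vanishes in all positive degrees. -/
theorem result {X : TopCat.{u}} (F : CohTop.Ab X)
    {ι : Type u} (U : ι → Opens X)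
    (h : ∀ (κ : Type u) (a : κ → Σ p : ℕ, Fin (p + 1) → ι),
      Function.Surjective (F.obj.map (homOfLE
        (iSup_le fun k => (iInf_le _ ⟨0, Nat.succ_pos _⟩).trans (le_iSup U ((a k).2 ⟨0, Nat.succ_pos _⟩)) :
          (⨆ k, ⨅ j, U ((a k).2 j)) ≤ iSup U)).op)) (p : ℕ) :
    IsZero (CohTop.cechH F.obj U (p + 1)) := by
  rw [← Groth.Agent.CohqA.CechSheaf.cechExact_iff]
  refine cechExact_transport (phiF U) Vi U (fun p i => phi_iInf U p i) F.obj p ?_
  have : TopCat.Sheaf.IsFlasque (phiSh U F) := by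
    constructor
    intro V W i
    rw [AddCommGrpCat.epi_iff_surjective]
    intro s
    obtain ⟨κ, a, ha⟩ := exists_phi_eq U W.unop
    obtain ⟨s', hs'⟩ := h κ a (Groth.Agent.CohqA.CechBasic.res F.obj ha.ge s)
    have hV : phi U V.unop ≤ iSup U := by
      refine iSup_le fun J => ?_
      obtain ⟨k, hk⟩ := J.1.2
      exact (Finset.inf_le hk).trans (le_iSup U k)
    refine ⟨Groth.Agent.CohqA.CechBasic.res F.obj hV s', ?_⟩
    have hWV : phi U W.unop ≤ phi U V.unop := phi_mono U i.unop.le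
    change Groth.Agent.CohqA.CechBasic.res F.obj hWV (Groth.Agent.CohqA.CechBasic.res F.obj hV s') = s
    have h2 := congr_arg (Groth.Agent.CohqA.CechBasic.res F.obj ha.le) hs'
    rw [Groth.Agent.CohqA.CechBasic.res_res]
    exact (Groth.Agent.CohqA.CechBasic.res_res F.obj _ _ s').symm.trans (h2.trans
      ((Groth.Agent.CohqA.CechBasic.res_res F.obj _ _ s).trans
        (Groth.Agent.CohqA.CechBasic.res_self F.obj s)))
  exact Groth.Agent.CohqA.CechFlasque.cechExact_of_isFlasque Vi (phiSh U F) p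

end Groth.Agent.S0901
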