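import Groth.Statements.S0902
import Groth.Agent.CohtopB.GenByOpens
import Groth.Agent.CohtopA.ColimCohomology
import Groth.Agent.CohtopA.Flasque

set_option autoImplicit false
universe u
open CategoryTheory
open CohTop

namespace Groth.Agent.S0902

open TopologicalSpace Opposite CategoryTheory.Limits Abelian

/-- Vanishing above degree `d`. -/
def P (X : TopCat.{u}) (d : ℕ) (F : CohTop.Ab X) : Prop := ∀ p, d < p → Subsingleton (CohTop.H F p)

theorem isGen {X : TopCat.{u}} [CompactSpace X]
    [PrespectralSpace X] [QuasiSeparatedSpace X] (d : ℕ)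
    (h : ∀ (U : Opens X), IsCompact (U : Set X) → ∀ p : ℕ, d < p →
      Subsingleton (CohTop.H (CohCx.freeSheaf (Opens.grothendieckTopology X) U) p)) :
    Groth.Agent.CohtopB.GenByOpens.IsGen (P X d) where
  zero Z hZ p hp := by
    refine subsingleton_of_forall_eq 0 fun x => ?_
    have h1 : Ext.comp x (Ext.mk₀ (𝟙 Z)) (add_zero p) = x := Ext.comp_mk₀_id x
    rw [hZ.eq_of_src (𝟙 Z) 0, Ext.mk₀_zero, Ext.comp_zero] at h1
    exact h1.symm
  ext S hS h1 h3 p hp := by
    refine subsingleton_of_forall_eq 0 fun x => ?_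
    obtain ⟨y, rfl⟩ := Ext.covariant_sequence_exact₂ _ hS x (@Subsingleton.elim _ (h3 p hp) _ _)
    rw [@Subsingleton.elim _ (h1 p hp) y 0, Ext.zero_comp]
  coker S hS h1 h2 p hp := by
    refine subsingleton_of_forall_eq 0 fun x => ?_
    obtain ⟨y, rfl⟩ := Ext.covariant_sequence_exact₃ _ hS x rfl
      (@Subsingleton.elim _ (h1 (p + 1) (hp.trans (Nat.lt_succ_self p))) _ _)
    rw [@Subsingleton.elim _ (h2 p hp) y 0, Ext.zero_comp]
  colim J _ _ D c hc hD p hp := by
    have h1 : ∀ F : CohTop.Ab X, Subsingleton (CohTop.H F p) ↔ Subsingleton (CohTop.HU F p ⊤) :=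
      fun F => (Groth.Agent.CohtopA.Flasque.HTopEquiv F p).toEquiv.subsingleton_congr
    rw [h1]
    have hcpt : IsCompact ((⊤ : Opens X) : Set X) := isCompact_univ
    have := Groth.Agent.CohtopA.ColimCohomology.preservesColimitsOfShape_cohomology (X := X) (J := J) hcpt p
    have hc' := isColimitOfPreserves ((Sheaf.cohomologyPresheafFunctor
      (Opens.grothendieckTopology X) p).flip.obj (op ⊤) : CohTop.Ab X ⥤ AddCommGrpCat.{u}) hc
    have hz : IsZero (((Sheaf.cohomologyPresheafFunctor
      (Opens.grothendieckTopology X) p).flip.obj (op ⊤) : CohTop.Ab X ⥤ AddCommGrpCat.{u}).obj c.pt) := by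
      rw [IsZero.iff_id_eq_zero]
      refine hc'.hom_ext fun j => ?_
      have hj : Subsingleton (CohTop.HU (D.obj j) p ⊤) := (h1 _).1 (hD j p hp)
      have hj' : IsZero (((Sheaf.cohomologyPresheafFunctor
        (Opens.grothendieckTopology X) p).flip.obj (op ⊤) : CohTop.Ab X ⥤ AddCommGrpCat.{u}).obj (D.obj j)) :=
        @AddCommGrpCat.isZero_of_subsingleton _ hj
      exact hj'.eq_of_src _ _
    exact AddCommGrpCat.subsingleton_of_isZero hz
  open_ U hU p hp := h U hU p hp

open TopologicalSpace in
/-- Stacks Tag 02UX: let X be a quasi-compact space whose quasi-compact opens form a basis stable under pairwise intersections, and d ≥ 0. If H^p(X, j_!Z_U) = 0 for all p > d and every quasi-compact open U (j_!Z_U the extension by zero of the constant sheaf Z, i.e. the free abelian sheaf on U), then H^p(X, F) = 0 for all p > d and every abelian sheaf F. -/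
theorem result {X : TopCat.{u}} [CompactSpace X]
    [PrespectralSpace X] [QuasiSeparatedSpace X] (d : ℕ)
    (h : ∀ (U : Opens X), IsCompact (U : Set X) → ∀ p : ℕ, d < p →
      Subsingleton (CohTop.H (CohCx.freeSheaf (Opens.grothendieckTopology X) U) p))
    (F : CohTop.Ab X) (p : ℕ) (hp : d < p) : Subsingleton (CohTop.H F p) := by
  exact (isGen d h).all F p hp

end Groth.Agent.S0902
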