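import Groth.Statements.S0903
import Groth.Agent.CohtopB.RlimHom

set_option autoImplicit false
universe u
open CategoryTheory
open CohTop

namespace Groth.Agent.S0903

open TopologicalSpace CategoryTheory.Limits in
/-- Stacks Tag 0D60 (abelian sheaves; the short exact sequence 0 -> R^1 lim H^{m-1}(U, K_n) -> H^m(U, R lim K_n) -> lim H^m(U, K_n) -> 0 is rendered by its two consequences): let (K_n) be an inverse system in the derived category of abelian sheaves on X with a derived limit L through maps a_n : L -> K_n, U an open and m an integer. Then (i) every compatible family of classes x_n ∈ H^m(U, K_n) is the image of some class in H^m(U, L), and (ii) if the system H^{m-1}(U, K_n) has vanishing R^1 lim, a class in H^m(U, L) with zero image in every H^m(U, K_n) is zero. -/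
theorem result {X : TopCat.{u}} [HasDerivedCategory.{u} (CohTop.Ab X)]
    (K : ℕ → DerivedCategory (CohTop.Ab X)) (t : ∀ n, K (n + 1) ⟶ K n) [HasProduct K]
    (L : DerivedCategory (CohTop.Ab X)) (a : ∀ n, L ⟶ K n) (hL : CohCx.IsRlimVia K t L a)
    (U : Opens X) (m : ℤ) :
    (∀ x : ∀ n, CohCx.HDU (K n) m U,
      (∀ n, x (n + 1) ≫ (shiftFunctor _ m).map (t n) = x n) →
      ∃ y : CohCx.HDU L m U, ∀ n, y ≫ (shiftFunctor _ m).map (a n) = x n) ∧
    (CohCx.LimOneIsZero (fun n => CohCx.HDU (K n) (m - 1) U)
        (fun n => Preadditive.rightComp _ ((shiftFunctor _ (m - 1)).map (t n))) →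
      ∀ y : CohCx.HDU L m U, (∀ n, y ≫ (shiftFunctor _ m).map (a n) = 0) → y = 0) := by
  refine ⟨fun x hx => Groth.Agent.CohtopB.RlimHom.exists_lift hL _ m x hx, fun h y hy => ?_⟩
  refine Groth.Agent.CohtopB.RlimHom.eq_zero_of_limOne hL _ m (fun x => ?_) y hy
  obtain ⟨z, hz⟩ := h x
  exact ⟨z, fun n => congr_fun hz n⟩

end Groth.Agent.S0903
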