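import Groth.Statements.S0905
import Groth.Agent.CohtopB.FreeSheafHom
import Groth.Agent.CohtopB.EpiSheaf
import Mathlib.Algebra.Homology.DerivedCategory.Ext.EnoughProjectives
import Mathlib.Algebra.Homology.ShortComplex.ExactFunctor
import Mathlib.CategoryTheory.Abelian.Exact

set_option autoImplicit false
universe u
open CategoryTheory
open CohSite

namespace Groth.Agent.S0905

section
open Opposite CategoryTheory.Limits

lemma surj {C : Type u} [SmallCategory C] (J : GrothendieckTopology C)
    (U : C) (hU : CohSite.IsWeaklyContractible J U) {F G : Sheaf J AddCommGrpCat.{u}} (f : F ⟶ G) [Epi f] :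
    Function.Surjective (f.hom.app (op U)).hom := by
  have h := CohtopB.EpiSheaf.epi_forget_map J f
  exact hU _ _ _ h

lemma projective_freeSheaf {C : Type u} [SmallCategory C] (J : GrothendieckTopology C)
    (U : C) (hU : CohSite.IsWeaklyContractible J U) : Projective (CohCx.freeSheaf J U) where
  factors {E X} f e he := by
    obtain ⟨t, ht⟩ := surj J U hU e (CohtopB.FreeSheafHom.homEquivSections U X f)
    refine ⟨(CohtopB.FreeSheafHom.homEquivSections U E).symm t, ?_⟩
    apply (CohtopB.FreeSheafHom.homEquivSections U X).injective
    rw [← ht]
    change (e.hom.app (op U)).hom ((((CohtopB.FreeSheafHom.homEquivSections U E).symm t).hom.app (op U)).hom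
      (CohtopB.FreeSheafHom.gen J U)) = _
    rw [← CohtopB.FreeSheafHom.homEquivSections_apply, AddEquiv.apply_symm_apply]

end

open Opposite CategoryTheory.Limits in
/-- Stacks Tag 0946, parts (1) and (2), for a weakly contractible object U of a site (one over which every epimorphism of sheaves of sets is surjective on sections): (1) the functor F ↦ F(U) from abelian sheaves to abelian groups preserves finite colimits (it is exact, finite limits being automatic), and (2) H^p(U, F) = 0 for every abelian sheaf F and every p > 0. (Part (3) about torsors is not included.) -/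
theorem result {C : Type u} [SmallCategory C] (J : GrothendieckTopology C)
    (U : C) (hU : CohSite.IsWeaklyContractible J U) :
    PreservesFiniteColimits (sheafToPresheaf J AddCommGrpCat.{u} ⋙ (evaluation Cᵒᵖ AddCommGrpCat.{u}).obj (op U)) ∧
    ∀ (F : Sheaf J AddCommGrpCat.{u}) (p : ℕ), Subsingleton (CohSite.HU F (p + 1) U) := by
  constructor
  · let Φ := sheafToPresheaf J AddCommGrpCat.{u} ⋙ (evaluation Cᵒᵖ AddCommGrpCat.{u}).obj (op U)
    have h1 : Φ.Additive := { map_add := rfl }
    have h2 : PreservesFiniteLimits Φ := inferInstance
    have h3 : Φ.PreservesEpimorphisms := ⟨fun {F G} f hf => by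
      rw [AddCommGrpCat.epi_iff_surjective]
      exact surj J U hU f⟩
    have h4 : Φ.PreservesHomology := Functor.preservesHomology_of_preservesEpis_and_kernels Φ
    exact Functor.preservesFiniteColimits_of_preservesHomology Φ
  · intro F p
    have := projective_freeSheaf J U hU
    have hx : ∀ z : Abelian.Ext (CohCx.freeSheaf J U) F (p + 1), z = 0 := fun z =>
      Abelian.Ext.eq_zero_of_projective z
    exact ⟨fun x y => (hx x).trans (hx y).symm⟩

end Groth.Agent.S0905
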