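import Groth.Statements.S0906
import Groth.Agent.CohtopB.HypGlue
import Groth.Agent.CohtopB.HypHZero

set_option autoImplicit false
universe u
open CategoryTheory
open Hyper

namespace Groth.Agent.S0906

section helpers

open Opposite CategoryTheory.Limits Groth.Agent.CohtopB
open Groth.Agent.CohtopB.LocTriv Groth.Agent.CohtopB.HypInj Groth.Agent.CohtopB.HypHZero

variable {C : Type u} [SmallCategory C] {J : GrothendieckTopology C} {X : C}
  {K : SimplicialObject (FormalCoproduct.{u} C)} (P : Cᵒᵖ ⥤ AddCommGrpCat.{u})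
  (a : Augm K (yoneda.obj X))

/-- The map from the sections over `X` to the degree zero cochains. -/
noncomputable def alpha : P.obj (op X) ⟶ val P (K.obj (op (SimplexCategory.mk 0))) :=
  Pi.lift (fun i => P.map (Quiver.Hom.op
    (a.ε (FormalCoproduct.Hom.fromIncl i (𝟙 ((K.obj (op (SimplexCategory.mk 0))).obj i))))))

lemma alpha_proj (i : (K.obj (op (SimplexCategory.mk 0))).I) :
    alpha P a ≫ proj P i = P.map (Quiver.Hom.op
    (a.ε (FormalCoproduct.Hom.fromIncl i (𝟙 ((K.obj (op (SimplexCategory.mk 0))).obj i))))) :=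
  Pi.lift_π _ _

lemma alpha_evh {V : C} (y : Sec K 0 V) :
    alpha P a ≫ evh P y = P.map (Quiver.Hom.op (a.ε y)) := by
  unfold evh
  rw [← Category.assoc, alpha_proj, ← P.map_comp, ← op_comp]
  congr 2
  have hx : y = (FormalCoproduct.incl.{u} C).map (FormalCoproduct.Hom.asSigma y).2 ≫
      FormalCoproduct.Hom.fromIncl (FormalCoproduct.Hom.asSigma y).1 (𝟙 _) := by
    refine FormalCoproduct.hom_ext rfl (fun i => ?_)
    change y.φ i ≫ 𝟙 _ = y.φ _ ≫ 𝟙 _
    rfl
  conv_rhs => rw [hx]
  exact (a.ε_rs _ _).symm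

lemma evh_alpha {V : C} (y : Sec K 0 V) (x : P.obj (op X)) :
    evh P y (alpha P a x) = P.map (Quiver.Hom.op (a.ε y)) x :=
  ConcreteCategory.congr_hom (alpha_evh P a y) x

lemma dd_alpha (x : P.obj (op X)) : dd K P 0 (alpha P a x) = 0 := by
  refine val_ext P (fun i => ?_)
  rw [evh_dd, map_zero, Fin.sum_univ_two, evh_alpha, evh_alpha, a.ε_δ]
  simp

theorem nonempty_iso (h : IsLocHyp J a) (hP : Presheaf.IsSheaf J P) :
    Nonempty ((cx K P).homology 0 ≅ P.obj (op X)) := by
  refine nonempty_homology_zero_iso (alpha P a) (dd_alpha P a) ?_ ?_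
  · intro x hx
    refine eq_of_loc hP ((h.zero (V := X) (𝟙 X)).mono (fun W g => ?_))
    rintro ⟨y, hy⟩
    have hy' : a.ε y = g := hy.trans (Category.comp_id g)
    have h1 := evh_alpha P a y x
    rw [hy', hx, map_zero] at h1
    rw [← h1, map_zero]
  · intro s hs
    obtain ⟨t, ht⟩ := exists_section_of_cocycle h hP s hs (V := X) (𝟙 X)
    refine ⟨t, val_ext P (fun i => ?_)⟩
    rw [evh_alpha]
    exact ht _ _ (Category.comp_id (a.ε (FormalCoproduct.Hom.fromIncl i (𝟙 _)) : _ ⟶ X)).symm

end helpers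

open Opposite CategoryTheory.Limits in
/-- Stacks Tag 01GV: for a hypercovering K of an object X of a site with fibre products and an abelian sheaf F, the degree-zero Cech cohomology group of F with respect to K is isomorphic to F(X). -/
theorem result {C : Type u} [SmallCategory C] [HasPullbacks C]
    (J : GrothendieckTopology C) (X : C) (K : SimplicialObject (FormalCoproduct.{u} (Over X)))
    [∀ (n : ℕ) (F : (SimplexCategory.Truncated n)ᵒᵖ ⥤ Limits.FormalCoproduct.{u} (Over X)),
      (SimplexCategory.Truncated.inclusion n).op.HasRightKanExtension F]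
    (hK : Hyper.IsHypercovering J X K) (F : Sheaf J AddCommGrpCat.{u}) :
    Nonempty (Hyper.cechH X K F.obj 0 ≅ F.obj.obj (op X)) := by
  have h := Groth.Agent.CohtopB.HypGlue.isLocHyp_augOver K
      (Groth.Agent.CohtopB.HypGlue.isLocHyp_of_isHypercovering K hK)
  obtain ⟨e⟩ := nonempty_iso F.obj _ h F.property
  have e' : Hyper.cechCx X K F.obj = Groth.Agent.CohtopB.HypInj.cx
      (((SimplicialObject.whiskering _ _).obj (Groth.Agent.CohtopB.HypGlue.fg X)).obj K) F.obj := rfl
  exact ⟨eqToIso (congrArg (fun L => L.homology 0) e') ≪≫ e⟩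

end Groth.Agent.S0906
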