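import Groth.Statements.S0907
import Groth.Agent.CohtopB.HyperExist

set_option autoImplicit false
universe u
open CategoryTheory
open Hyper

namespace Groth.Agent.S0907

open TopologicalSpace Opposite CategoryTheory.Limits in
/-- Stacks Tag 01H6 (phrased in the site of opens of X, with X the top open): let B be a basis for the topology of X. Then there is a hypercovering K of X such that every open occurring in every K_n belongs to B. -/
theorem result {X : TopCat.{u}} (B : Set (Opens X)) (hB : Opens.IsBasis B)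
    [∀ (n : ℕ) (F : (SimplexCategory.Truncated n)ᵒᵖ ⥤ Limits.FormalCoproduct.{u} (Over (⊤ : Opens X))),
      (SimplexCategory.Truncated.inclusion n).op.HasRightKanExtension F] :
    ∃ K : SimplicialObject (FormalCoproduct.{u} (Over (⊤ : Opens X))),
      Hyper.IsHypercovering (Opens.grothendieckTopology X) ⊤ K ∧
      ∀ (n : ℕ) (i : (K.obj (op (SimplexCategory.mk n))).I),
        ((K.obj (op (SimplexCategory.mk n))).obj i).left ∈ B := by
  let Ch : ∀ (n : SimplexCategory) (r : (Groth.Agent.CohtopB.HyperExist.PF n)ᵒᵖ ⥤ Over (⊤ : Opens X)), Set (Cone r) :=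
    fun n r => {c | c.pt.left ∈ B}
  refine ⟨Groth.Agent.CohtopB.HyperExist.KK Ch,
    Groth.Agent.CohtopB.HyperExist.isHypercovering_KK _ _ ?_, ?_⟩
  · intro n r c
    rw [GrothendieckTopology.mem_over_iff]
    intro x hx
    obtain ⟨V, hV, hxV, hVU⟩ := Opens.isBasis_iff_nbhd.1 hB hx
    refine ⟨V, homOfLE hVU, ?_, hxV⟩
    rw [Sieve.overEquiv_iff]
    exact ⟨⟨Over.mk (homOfLE hVU ≫ c.pt.hom), (Functor.const _).map (Over.homMk (homOfLE hVU)) ≫ c.π⟩, hV, 𝟙 _,
      fun F => Category.id_comp _⟩
  · intro n i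
    exact Groth.Agent.CohtopB.HyperExist.topv_property (Ch := Ch) (fun T => T.left ∈ B) (fun _ _ _ hc => hc) i.1 i.2

end Groth.Agent.S0907
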