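import Groth.Statements.S0908
import Groth.Agent.CohtopB.EpiSheaf

set_option autoImplicit false
universe u
open CategoryTheory
open CohSite

namespace Groth.Agent.S0908

open Opposite CategoryTheory.Limits in
/-- Stacks Tag 07A1 (the direction proved in the source): let F be an abelian sheaf on a site such that (1) H^p(U, F) = 0 for all p > 0 and all objects U, and (2) for every surjection K' -> K of sheaves of sets the extended Cech complex 0 -> H^0(K, F) -> H^0(K', F) -> H^0(K' x_K K', F) -> ... is exact (the augmentation is injective, its image is the kernel of the first differential, and the Cech complex has no cohomology in positive degrees). Then F is totally acyclic. -/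
theorem result {C : Type u} [SmallCategory C] {J : GrothendieckTopology C}
    (F : Sheaf J AddCommGrpCat.{u})
    (h1 : ∀ (U : C) (p : ℕ), Subsingleton (CohSite.HU F (p + 1) U))
    (h2 : ∀ (K' K : Sheaf J (Type u)) (f : K' ⟶ K), Epi f →
      Function.Injective (CohCx.cechNerveAug F f) ∧
      (∀ x : (CohCx.cechNerveCx F f).X 0, (CohCx.cechNerveCx F f).d 0 1 x = 0 →
        ∃ y, CohCx.cechNerveAug F f y = x) ∧
      ∀ p : ℕ, IsZero ((CohCx.cechNerveCx F f).homology (p + 1))) :
    CohCx.IsTotallyAcyclic F := by
  intro K p
  exact Groth.Agent.CohtopB.NerveHK.subsingleton_HK_of_cech J (fun _ => True) (fun _ _ f => Epi f)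
    (fun _ _ _ h => h) (fun _ _ _ _ _ _ => trivial)
    (fun K _ {M N} g _ b => Groth.Agent.CohtopB.EpiSheaf.exists_cover_lift J g b) F
    (fun K' K f _ hf n => (h2 K' K f hf).2.2 n) K trivial p

end Groth.Agent.S0908
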