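import Groth.Statements.S3053
import Mathlib.CategoryTheory.Sites.Point.Over
import Mathlib.CategoryTheory.Sites.Point.OfIsCofiltered
import Mathlib.CategoryTheory.Functor.OfSequence
import Mathlib.Order.Filter.Germ.Basic
import Mathlib.Order.Filter.Ultrafilter.Basic

set_option autoImplicit false
open CategoryTheory CategoryTheory.Limits Opposite
universe u
open ToposFin

namespace Groth.Agent.S3053

set_option linter.unusedSectionVars false

section Deligne

variable {C : Type u} [SmallCategory C] {X : C} {S : Sieve X}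

/-- A set-valued flat functor with an element over `X` that avoids the sieve `S`. -/
structure Mdl (S : Sieve X) where
  F : C ⥤ Type u
  cof : IsCofiltered F.Elements
  x : F.obj X
  avoid : ∀ ⦃W : C⦄ (g : W ⟶ X), S g → ∀ w : F.obj W, F.map g w ≠ x

/-- A morphism of models. -/
structure MHom (M N : Mdl S) where
  η : M.F ⟶ N.F
  hx : η.app X M.x = N.x

attribute [instance] Mdl.cof

def MHom.id (M : Mdl S) : MHom M M := ⟨𝟙 _, rfl⟩

def MHom.comp {M N P : Mdl S} (f : MHom M N) (g : MHom N P) : MHom M P :=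
  ⟨f.η ≫ g.η, by rw [NatTrans.comp_app, types_comp_apply, f.hx, g.hx]⟩

/-- The initial model. -/
lemma exists_init [HasFiniteLimits C] (hS : S ≠ ⊤) : Nonempty (Mdl S) := by
  refine ⟨⟨coyoneda.obj (op X), ?_, 𝟙 X, ?_⟩⟩
  · exact Functor.isCofiltered_elements _
  · intro W g hg w hw
    apply hS
    rw [← Sieve.id_mem_iff_eq_top]
    have : (w : X ⟶ W) ≫ g = 𝟙 X := hw
    rw [← this]
    exact S.downward_closed hg _

lemma elem_cone (F : C ⥤ Type u) [IsCofiltered F.Elements] {A B : C} (a : F.obj A) (b : F.obj B) :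
    ∃ (T : C) (t : F.obj T) (f : T ⟶ A) (g : T ⟶ B), F.map f t = a ∧ F.map g t = b := by
  let a' : F.Elements := ⟨A, a⟩
  let b' : F.Elements := ⟨B, b⟩
  refine ⟨(IsCofiltered.min a' b').1, (IsCofiltered.min a' b').2,
    (IsCofiltered.minToLeft a' b').1, (IsCofiltered.minToRight a' b').1,
    (IsCofiltered.minToLeft a' b').2, (IsCofiltered.minToRight a' b').2⟩

lemma elem_eq (F : C ⥤ Type u) [IsCofiltered F.Elements] {A B : C} (a : F.obj A)
    (f g : A ⟶ B) (h : F.map f a = F.map g a) :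
    ∃ (T : C) (t : F.obj T) (e : T ⟶ A), F.map e t = a ∧ e ≫ f = e ≫ g := by
  let a' : F.Elements := ⟨A, a⟩
  let b' : F.Elements := ⟨B, F.map f a⟩
  let f' : a' ⟶ b' := ⟨f, rfl⟩
  let g' : a' ⟶ b' := ⟨g, h.symm⟩
  refine ⟨(IsCofiltered.eq f' g').1, (IsCofiltered.eq f' g').2, (IsCofiltered.eqHom f' g').1,
    (IsCofiltered.eqHom f' g').2, ?_⟩
  exact congr_arg Subtype.val (IsCofiltered.eq_condition f' g')

/-- Given two objects over both `Y` and `X`, find a common refinement. -/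
lemma elem_cone2 (F : C ⥤ Type u) [IsCofiltered F.Elements] {A B Y X : C}
    (a : F.obj A) (b : F.obj B) (a₁ : A ⟶ Y) (a₂ : A ⟶ X) (b₁ : B ⟶ Y) (b₂ : B ⟶ X)
    (h₁ : F.map a₁ a = F.map b₁ b) (h₂ : F.map a₂ a = F.map b₂ b) :
    ∃ (T : C) (t : F.obj T) (f : T ⟶ A) (g : T ⟶ B), F.map f t = a ∧ F.map g t = b ∧
      f ≫ a₁ = g ≫ b₁ ∧ f ≫ a₂ = g ≫ b₂ := by
  obtain ⟨T, t, f, g, rfl, rfl⟩ := elem_cone F a b
  obtain ⟨T', t', e, rfl, he⟩ := elem_eq F t (f ≫ a₁) (g ≫ b₁) (by simpa using h₁)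
  obtain ⟨T'', t'', e', rfl, he'⟩ := elem_eq F t' (e ≫ f ≫ a₂) (e ≫ g ≫ b₂) (by simpa using h₂)
  refine ⟨T'', t'', e' ≫ e ≫ f, e' ≫ e ≫ g, by simp, by simp, ?_, ?_⟩
  · simp [he]
  · simpa using he'

end Deligne

section Step

open GrothendieckTopology.Point

variable {C : Type u} [SmallCategory C] [HasFiniteLimits C] {X : C} {S : Sieve X}
  (F : C ⥤ Type u) [IsCofiltered F.Elements] {Y V : C} (y : F.obj Y) (g : V ⟶ Y)

omit [HasFiniteLimits C] [IsCofiltered F.Elements] in
instance instInitSmall : InitiallySmall.{u} (FunctorToTypes.fromOverFunctor F y).Elements :=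
  initiallySmall_of_essentiallySmall _

/-- The pro-object obtained by pulling back along `g`. -/
noncomputable def proP : (FunctorToTypes.fromOverFunctor F y).Elements ⥤ C :=
  CategoryOfElements.π _ ⋙ Over.pullback g ⋙ Over.forget V

/-- The new flat functor. -/
noncomputable def newF : C ⥤ Type u := ofIsCofiltered.fiber (proP F y g)

instance : IsCofiltered (newF F y g).Elements := by
  unfold newF; infer_instance

/-- object of the index category -/
def mkN {T : C} (a : T ⟶ Y) (t : F.obj T) (h : F.map a t = y) :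
    (FunctorToTypes.fromOverFunctor F y).Elements :=
  ⟨Over.mk a, ⟨t, h⟩⟩

/-- element of the new functor -/
noncomputable def mkE {T Z : C} (a : T ⟶ Y) (t : F.obj T) (h : F.map a t = y)
    (q : pullback a g ⟶ Z) : (newF F y g).obj Z :=
  ofIsCofiltered.fiberMk (U := mkN F y a t h) q

lemma mkE_surj {Z : C} (w : (newF F y g).obj Z) :
    ∃ (T : C) (a : T ⟶ Y) (t : F.obj T) (h : F.map a t = y) (q : pullback a g ⟶ Z),
      mkE F y g a t h q = w := by
  obtain ⟨U, f, rfl⟩ := ofIsCofiltered.fiberMk_jointly_surjective w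
  exact ⟨U.1.left, U.1.hom, U.2.1, U.2.2, f, rfl⟩

/-- the comparison morphism between pullbacks -/
noncomputable abbrev pbMap {T T' : C} (a : T ⟶ Y) (b : T' ⟶ T) : pullback (b ≫ a) g ⟶ pullback a g :=
  pullback.lift (pullback.fst _ _ ≫ b) (pullback.snd _ _) (by simpa using pullback.condition)

@[reassoc]
lemma pbMap_fst {T T' : C} (a : T ⟶ Y) (b : T' ⟶ T) :
    pbMap g a b ≫ pullback.fst a g = pullback.fst (b ≫ a) g ≫ b :=
  pullback.lift_fst _ _ _

lemma mkE_refine {T T' Z : C} (a : T ⟶ Y) (t : F.obj T) (h : F.map a t = y)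
    (q : pullback a g ⟶ Z) (b : T' ⟶ T) (t' : F.obj T') (h' : F.map b t' = t) :
    mkE F y g (b ≫ a) t' (by rw [← h, ← h']; simp) (pbMap g a b ≫ q) = mkE F y g a t h q := by
  let φ : mkN F y (b ≫ a) t' (by rw [← h, ← h']; simp) ⟶ mkN F y a t h :=
    ⟨Over.homMk b, Subtype.ext h'⟩
  have := ofIsCofiltered.fiberMk_map_comp (p := proP F y g) φ q
  rw [mkE, mkE, ← this]
  rfl

lemma mkE_eq {T Z : C} (a : T ⟶ Y) (t : F.obj T) (h : F.map a t = y)
    (q q' : pullback a g ⟶ Z) (hq : mkE F y g a t h q = mkE F y g a t h q') :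
    ∃ (T' : C) (b : T' ⟶ T) (t' : F.obj T'), F.map b t' = t ∧ pbMap g a b ≫ q = pbMap g a b ≫ q' := by
  obtain ⟨⟨U, ⟨t', ht'⟩⟩, ⟨φ, hφ'⟩, hφ⟩ := ofIsCofiltered.exists_of_fiberMk_eq_fiberMk hq
  obtain ⟨T', a', rfl⟩ := Over.mk_surjective U
  have hb : φ.left ≫ a = a' := Over.w φ
  refine ⟨T', φ.left, t', congr_arg Subtype.val hφ', ?_⟩
  have key : ∀ (a' : T' ⟶ Y) (b : T' ⟶ T) (hb : b ≫ a = a'),
      ((Over.pullback g).map (Over.homMk b hb : Over.mk a' ⟶ Over.mk a)).left ≫ q =
        ((Over.pullback g).map (Over.homMk b hb : Over.mk a' ⟶ Over.mk a)).left ≫ q' →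
      pbMap g a b ≫ q = pbMap g a b ≫ q' := by
    intro a' b hb h
    subst hb
    exact h
  exact key _ φ.left hb hφ

lemma mkE_map {T Z Z' : C} (a : T ⟶ Y) (t : F.obj T) (h : F.map a t = y)
    (q : pullback a g ⟶ Z) (f : Z ⟶ Z') :
    (newF F y g).map f (mkE F y g a t h q) = mkE F y g a t h (q ≫ f) :=
  ofIsCofiltered.fiber_map_fiberMk _ _ _

/-- the elements coming from `F` -/
noncomputable def mkF {T Z : C} (a : T ⟶ Y) (t : F.obj T) (h : F.map a t = y)
    (q : T ⟶ Z) : (newF F y g).obj Z :=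
  mkE F y g a t h (pullback.fst a g ≫ q)

lemma mkF_refine {T T' Z : C} (a : T ⟶ Y) (t : F.obj T) (h : F.map a t = y)
    (q : T ⟶ Z) (b : T' ⟶ T) (t' : F.obj T') (h' : F.map b t' = t)
    (a' : T' ⟶ Y) (q' : T' ⟶ Z) (h'' : F.map a' t' = y) (ha : b ≫ a = a') (hq : b ≫ q = q') :
    mkF F y g a' t' h'' q' = mkF F y g a t h q := by
  subst ha hq
  rw [mkF, mkF, ← mkE_refine F y g a t h _ b t' h', pbMap_fst_assoc]

lemma mkF_eq_mkF {T₁ T₂ Z : C} (a₁ : T₁ ⟶ Y) (a₂ : T₂ ⟶ Y) (t₁ : F.obj T₁) (t₂ : F.obj T₂)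
    (h₁ : F.map a₁ t₁ = y) (h₂ : F.map a₂ t₂ = y) (q₁ : T₁ ⟶ Z) (q₂ : T₂ ⟶ Z)
    (h : F.map q₁ t₁ = F.map q₂ t₂) :
    mkF F y g a₁ t₁ h₁ q₁ = mkF F y g a₂ t₂ h₂ q₂ := by
  obtain ⟨T, t, f₁, f₂, rfl, rfl, e₁, e₂⟩ := elem_cone2 F t₁ t₂ a₁ q₁ a₂ q₂ (h₁.trans h₂.symm) h
  rw [← mkF_refine F y g a₁ _ h₁ q₁ f₁ t rfl (f₁ ≫ a₁) (f₁ ≫ q₁) (by simpa using h₁) rfl rfl,
    ← mkF_refine F y g a₂ _ h₂ q₂ f₂ t rfl (f₁ ≫ a₁) (f₁ ≫ q₁) (by simpa using h₁) e₁.symm e₂.symm]

lemma mkF_map {T Z Z' : C} (a : T ⟶ Y) (t : F.obj T) (h : F.map a t = y)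
    (q : T ⟶ Z) (f : Z ⟶ Z') :
    (newF F y g).map f (mkF F y g a t h q) = mkF F y g a t h (q ≫ f) := by
  rw [mkF, mkE_map, mkF, Category.assoc]

/-- comparison of `F` with the new functor, on elements. -/
noncomputable def toNewFun {Z : C} (z : F.obj Z) : (newF F y g).obj Z :=
  mkF F y g (elem_cone F y z).choose_spec.choose_spec.choose (elem_cone F y z).choose_spec.choose
    (elem_cone F y z).choose_spec.choose_spec.choose_spec.choose_spec.1
    (elem_cone F y z).choose_spec.choose_spec.choose_spec.choose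

lemma toNewFun_eq {T Z : C} (a : T ⟶ Y) (t : F.obj T) (h : F.map a t = y) (q : T ⟶ Z) :
    toNewFun F y g (F.map q t) = mkF F y g a t h q := by
  rw [toNewFun]
  apply mkF_eq_mkF
  rw [(elem_cone F y (F.map q t)).choose_spec.choose_spec.choose_spec.choose_spec.2]

lemma toNewFun_eq' {T Z : C} (z : F.obj Z) (a : T ⟶ Y) (t : F.obj T) (h : F.map a t = y)
    (q : T ⟶ Z) (hz : F.map q t = z) :
    toNewFun F y g z = mkF F y g a t h q := by
  subst hz
  exact toNewFun_eq F y g a t h q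

/-- comparison of `F` with the new functor. -/
noncomputable def toNew : F ⟶ newF F y g where
  app Z := ↾(toNewFun F y g)
  naturality Z Z' f := by
    ext z
    obtain ⟨T, t, a, q, h, rfl⟩ := elem_cone F y z
    change toNewFun F y g (F.map f (F.map q t)) = (newF F y g).map f (toNewFun F y g (F.map q t))
    rw [toNewFun_eq' F y g (F.map f (F.map q t)) a t h (q ≫ f) (by simp), toNewFun_eq F y g a t h q,
      mkF_map]

lemma toNew_app {T Z : C} (z : F.obj Z) (a : T ⟶ Y) (t : F.obj T) (h : F.map a t = y)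
    (q : T ⟶ Z) (hz : F.map q t = z) :
    (toNew F y g).app Z z = mkF F y g a t h q :=
  toNewFun_eq' F y g z a t h q hz

/-- The element `y` lifts along `g` in the new functor. -/
lemma toNew_lift : ∃ v : (newF F y g).obj V, (newF F y g).map g v = (toNew F y g).app Y y := by
  refine ⟨mkE F y g (𝟙 Y) y (by simp) (pullback.snd _ _), ?_⟩
  rw [mkE_map, toNew_app F y g y (𝟙 Y) y (by simp) (𝟙 Y) (by simp), mkF, pullback.condition]

/-- If the image of `x` in the new functor comes from `S`, then this is witnessed at some level. -/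
lemma exists_of_not_avoid {X : C} {S : Sieve X} (x : F.obj X) {W : C} (f : W ⟶ X) (hf : S f)
    (w : (newF F y g).obj W) (hw : (newF F y g).map f w = (toNew F y g).app X x) :
    ∃ (T : C) (t : F.obj T) (a : T ⟶ Y) (q : T ⟶ X), F.map a t = y ∧ F.map q t = x ∧
      S (pullback.fst a g ≫ q) := by
  obtain ⟨T₁, a₁, t₁, h₁, q₁, rfl⟩ := mkE_surj F y g w
  obtain ⟨T₂, t₂, a₂, q₂, h₂, rfl⟩ := elem_cone F y x
  rw [mkE_map, toNew_app F y g _ a₂ t₂ h₂ q₂ rfl] at hw
  obtain ⟨T, t, f₁, f₂, rfl, rfl, e₁, -⟩ := elem_cone2 F t₁ t₂ a₁ a₁ a₂ a₂ (h₁.trans h₂.symm)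
    (h₁.trans h₂.symm)
  rw [← mkF_refine F y g a₂ _ h₂ q₂ f₂ t rfl (f₁ ≫ a₁) (f₂ ≫ q₂) (by simpa using h₁) e₁.symm rfl,
    ← mkE_refine F y g a₁ _ h₁ _ f₁ t rfl, mkF] at hw
  obtain ⟨T', b, t', rfl, h'⟩ := mkE_eq _ _ _ _ _ _ _ _ hw
  refine ⟨T', t', b ≫ f₁ ≫ a₁, b ≫ f₂ ≫ q₂, by simpa using h₁, by simp, ?_⟩
  rw [pbMap_fst_assoc] at h'
  rw [← h']
  simp only [← Category.assoc]
  exact S.downward_closed hf _

end Step

section Models

variable {C : Type u} [SmallCategory C] [HasFiniteLimits C] {X : C} {S : Sieve X}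

/-- One lifting problem can be solved. -/
lemma exists_step (J : GrothendieckTopology C)
    (hS : ∀ ⦃W : C⦄ (g : W ⟶ X), S.pullback g ∈ J W → S g)
    (M : Mdl S) {Y : C} (y : M.F.obj Y) {n : ℕ} (V : Fin n → C) (g : ∀ k, V k ⟶ Y)
    (hg : Sieve.ofArrows V g ∈ J Y) :
    ∃ (N : Mdl S) (f : MHom M N) (k : Fin n) (v : N.F.obj (V k)),
      N.F.map (g k) v = f.η.app Y y := by
  by_contra hcon
  -- for each `k`, the new functor fails to avoid `S`
  have h1 : ∀ k, ∃ (T : C) (t : M.F.obj T) (a : T ⟶ Y) (q : T ⟶ X), M.F.map a t = y ∧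
      M.F.map q t = M.x ∧ S (pullback.fst a (g k) ≫ q) := by
    intro k
    by_contra hk
    apply hcon
    refine ⟨⟨newF M.F y (g k), inferInstance, (toNew M.F y (g k)).app X M.x, ?_⟩,
      ⟨toNew M.F y (g k), rfl⟩, k, toNew_lift M.F y (g k)⟩
    intro W f hf w hw
    exact hk (exists_of_not_avoid M.F y (g k) M.x f hf w hw)
  -- take a common refinement
  have h2 : ∀ s : Finset (Fin n), ∃ (T : C) (t : M.F.obj T) (a : T ⟶ Y) (q : T ⟶ X),
      M.F.map a t = y ∧ M.F.map q t = M.x ∧ ∀ k ∈ s, S (pullback.fst a (g k) ≫ q) := by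
    intro s
    induction s using Finset.induction_on with
    | empty =>
      obtain ⟨T, t, a, q, h, h'⟩ := elem_cone M.F y M.x
      exact ⟨T, t, a, q, h, h', by simp⟩
    | insert k s hk ih =>
      obtain ⟨T₁, t₁, a₁, q₁, hy₁, hx₁, hs⟩ := ih
      obtain ⟨T₂, t₂, a₂, q₂, hy₂, hx₂, hs'⟩ := h1 k
      obtain ⟨T, t, f₁, f₂, rfl, rfl, e₁, e₂⟩ := elem_cone2 M.F t₁ t₂ a₁ q₁ a₂ q₂
        (hy₁.trans hy₂.symm) (hx₁.trans hx₂.symm)
      have key : ∀ (T₁ : C) (a₁ : T₁ ⟶ Y) (q₁ : T₁ ⟶ X) (f₁ : T ⟶ T₁) (a : T ⟶ Y) (q : T ⟶ X)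
          (_ : f₁ ≫ a₁ = a) (_ : f₁ ≫ q₁ = q) (k : Fin n), S (pullback.fst a₁ (g k) ≫ q₁) →
          S (pullback.fst a (g k) ≫ q) := by
        intro T₁ a₁ q₁ f₁ a q ha hq k hk
        subst ha hq
        rw [← pbMap_fst_assoc]
        exact S.downward_closed hk _
      refine ⟨T, t, f₁ ≫ a₁, f₁ ≫ q₁, by simpa using hy₁, by simpa using hx₁, ?_⟩
      intro k' hk'
      rw [Finset.mem_insert] at hk'
      rcases hk' with rfl | hk'
      · exact key T₂ a₂ q₂ f₂ _ _ e₁.symm e₂.symm _ hs'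
      · exact key T₁ a₁ q₁ f₁ _ _ rfl rfl _ (hs _ hk')
  obtain ⟨T, t, a, q, -, hx, hs⟩ := h2 Finset.univ
  refine M.avoid q (hS q ?_) t hx
  refine J.superset_covering ?_ (J.pullback_stable a hg)
  intro W f hf
  obtain ⟨Z, b, c, hc, hbc⟩ := hf
  cases hc with
  | mk k =>
    have : f = pullback.lift f b hbc.symm ≫ pullback.fst a (g k) := (pullback.lift_fst _ _ _).symm
    rw [Sieve.pullback_apply, this, Category.assoc]
    exact S.downward_closed (hs k (Finset.mem_univ k)) _

/-- A lifting problem. -/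
structure Prob (J : GrothendieckTopology C) (F : C ⥤ Type u) where
  Y : C
  y : F.obj Y
  n : ℕ
  V : Fin n → C
  g : ∀ k, V k ⟶ Y
  hg : Sieve.ofArrows V g ∈ J Y

/-- A solution of the lifting problem after applying a morphism. -/
def Prob.Solved {J : GrothendieckTopology C} {F G : C ⥤ Type u} (p : Prob J F) (η : F ⟶ G) :
    Prop :=
  ∃ (k : Fin p.n) (v : G.obj (p.V k)), G.map (p.g k) v = η.app p.Y p.y

def Prob.map {J : GrothendieckTopology C} {F G : C ⥤ Type u} (p : Prob J F) (η : F ⟶ G) :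
    Prob J G where
  Y := p.Y
  y := η.app p.Y p.y
  n := p.n
  V := p.V
  g := p.g
  hg := p.hg

lemma Prob.solved_comp {J : GrothendieckTopology C} {F G H : C ⥤ Type u} (p : Prob J F) (η : F ⟶ G)
    (θ : G ⟶ H) (h : p.Solved η) : p.Solved (η ≫ θ) := by
  obtain ⟨k, v, hv⟩ := h
  refine ⟨k, θ.app _ v, ?_⟩
  rw [← NatTrans.naturality_apply, hv]
  rfl

lemma Prob.solved_comp' {J : GrothendieckTopology C} {F G H : C ⥤ Type u} (p : Prob J F) (η : F ⟶ G)
    (θ : G ⟶ H) (h : (p.map η).Solved θ) : p.Solved (η ≫ θ) := h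

/-- Finitely many lifting problems can be solved. -/
lemma exists_finite (J : GrothendieckTopology C)
    (hS : ∀ ⦃W : C⦄ (g : W ⟶ X), S.pullback g ∈ J W → S g)
    (M : Mdl S) (E : Finset (Prob J M.F)) :
    ∃ (N : Mdl S) (f : MHom M N), ∀ p ∈ E, p.Solved f.η := by
  classical
  induction E using Finset.induction_on with
  | empty => exact ⟨M, MHom.id M, by simp⟩
  | insert p s hp ih =>
    obtain ⟨N, f, hf⟩ := ih
    obtain ⟨N', f', h⟩ := exists_step J hS N (f.η.app _ p.y) p.V p.g p.hg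
    refine ⟨N', f.comp f', ?_⟩
    intro p' hp'
    rw [Finset.mem_insert] at hp'
    rcases hp' with rfl | hp'
    · exact h
    · exact p'.solved_comp _ _ (hf p' hp')

end Models

section Flat

variable {C : Type u} [SmallCategory C] [HasFiniteLimits C]

lemma isCofiltered_of (F : C ⥤ Type u) (h0 : Nonempty (F.obj (⊤_ C)))
    (h1 : ∀ (A B : C) (a : F.obj A) (b : F.obj B), ∃ t : F.obj (A ⨯ B),
      F.map prod.fst t = a ∧ F.map prod.snd t = b)
    (h2 : ∀ (A B : C) (f g : A ⟶ B) (a : F.obj A), F.map f a = F.map g a →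
      ∃ t : F.obj (equalizer f g), F.map (equalizer.ι f g) t = a) :
    IsCofiltered F.Elements where
  nonempty := ⟨⟨_, h0.some⟩⟩
  cone_objs := by
    rintro ⟨A, a⟩ ⟨B, b⟩
    obtain ⟨t, h, h'⟩ := h1 A B a b
    exact ⟨⟨_, t⟩, ⟨prod.fst, h⟩, ⟨prod.snd, h'⟩, trivial⟩
  cone_maps := by
    rintro ⟨A, a⟩ ⟨B, b⟩ ⟨f, hf⟩ ⟨g, hg⟩
    obtain ⟨t, h⟩ := h2 A B f g a (by dsimp at hf hg; rw [hf, hg])
    exact ⟨⟨_, t⟩, ⟨equalizer.ι f g, h⟩, Subtype.ext (equalizer.condition f g)⟩

lemma flat_terminal (F : C ⥤ Type u) [IsCofiltered F.Elements] : Nonempty (F.obj (⊤_ C)) := by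
  obtain ⟨A, a⟩ := (IsCofiltered.nonempty : Nonempty F.Elements).some
  exact ⟨F.map (terminal.from A) a⟩

lemma flat_prod (F : C ⥤ Type u) [IsCofiltered F.Elements] (A B : C) (a : F.obj A) (b : F.obj B) :
    ∃ t : F.obj (A ⨯ B), F.map prod.fst t = a ∧ F.map prod.snd t = b := by
  obtain ⟨T, t, f, g, rfl, rfl⟩ := elem_cone F a b
  refine ⟨F.map (prod.lift f g) t, ?_, ?_⟩
  · rw [← types_comp_apply, ← F.map_comp, prod.lift_fst]
  · rw [← types_comp_apply, ← F.map_comp, prod.lift_snd]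

lemma flat_eq (F : C ⥤ Type u) [IsCofiltered F.Elements] (A B : C) (f g : A ⟶ B) (a : F.obj A)
    (h : F.map f a = F.map g a) :
    ∃ t : F.obj (equalizer f g), F.map (equalizer.ι f g) t = a := by
  obtain ⟨T, t, e, rfl, he⟩ := elem_eq F a f g h
  refine ⟨F.map (equalizer.lift e he) t, ?_⟩
  rw [← types_comp_apply, ← F.map_comp, equalizer.lift_ι]

end Flat

section Ultra

variable {C : Type u} [SmallCategory C] [HasFiniteLimits C] {I : Type u} (U : Ultrafilter I)
  (F : I → C ⥤ Type u)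

/-- partial families, defined on a large set. -/
def PF (Z : C) : Type u :=
  {s : ∀ i, Option ((F i).obj Z) // ∀ᶠ i in (U : Filter I), (s i).isSome}

/-- eventual equality -/
instance pfSetoid (Z : C) : Setoid (PF U F Z) where
  r s t := ∀ᶠ i in (U : Filter I), s.1 i = t.1 i
  iseqv :=
    ⟨fun _ => Filter.Eventually.of_forall fun _ => rfl, fun h => h.mono fun _ => Eq.symm,
      fun h1 h2 => h1.mp (h2.mono fun _ hx hy => hy.trans hx)⟩

/-- the set of classes -/
def UP (Z : C) : Type u := Quotient (pfSetoid U F Z)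

/-- class in the ultraproduct -/
def umk {Z : C} (s : PF U F Z) : UP U F Z := Quotient.mk _ s

lemma umk_eq {Z : C} (s t : PF U F Z) :
    umk U F s = umk U F t ↔ ∀ᶠ i in (U : Filter I), s.1 i = t.1 i :=
  Quotient.eq

lemma umk_surj {Z : C} (z : UP U F Z) :
    ∃ s, umk U F s = z := Quotient.exists_rep z

/-- map on partial families -/
def pfMap {Z Z' : C} (f : Z ⟶ Z') (s : PF U F Z) : PF U F Z' :=
  ⟨fun i => (s.1 i).map ((F i).map f), by
    filter_upwards [s.2] with i hi
    rw [Option.isSome_map]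
    exact hi⟩

/-- Ultraproduct of functors. -/
def ultraF : C ⥤ Type u where
  obj Z := UP U F Z
  map {Z Z'} f := ↾(Quotient.map (pfMap U F f) (by
      intro s t h
      refine Filter.Eventually.mono h (fun i hi => ?_)
      change Option.map _ (s.1 i) = Option.map _ (t.1 i)
      rw [hi]))
  map_id Z := by
    ext z
    obtain ⟨s, rfl⟩ := umk_surj U F z
    refine (umk_eq U F _ _).2 ?_
    refine Filter.Eventually.of_forall (fun i => ?_)
    change Option.map _ (s.1 i) = s.1 i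
    cases s.1 i <;> simp
  map_comp f g := by
    ext z
    obtain ⟨s, rfl⟩ := umk_surj U F z
    refine (umk_eq U F _ _).2 ?_
    refine Filter.Eventually.of_forall (fun i => ?_)
    change Option.map _ (s.1 i) = Option.map _ (Option.map _ (s.1 i))
    cases s.1 i <;> simp

lemma ultraF_map {Z Z' : C} (f : Z ⟶ Z') (s : PF U F Z) :
    (ultraF U F).map f (umk U F s) = umk U F (pfMap U F f s) := rfl

lemma ultraF_surj {Z : C} (z : (ultraF U F).obj Z) :
    ∃ s, umk U F s = z := Quotient.exists_rep z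

lemma exists_pf {Z : C} (P : ∀ i, (F i).obj Z → Prop) (h : ∀ᶠ i in (U : Filter I), ∃ z, P i z) :
    ∃ s : PF U F Z, ∀ᶠ i in (U : Filter I), ∃ z, s.1 i = some z ∧ P i z := by
  classical
  refine ⟨⟨fun i => if hi : ∃ z, P i z then some hi.choose else none, ?_⟩, ?_⟩
  · filter_upwards [h] with i hi
    rw [dif_pos hi]
    rfl
  · filter_upwards [h] with i hi
    refine ⟨hi.choose, ?_, hi.choose_spec⟩
    exact dif_pos hi

instance ultraF_cof [∀ i, IsCofiltered (F i).Elements] : IsCofiltered (ultraF U F).Elements := by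
  apply isCofiltered_of
  · obtain ⟨s, -⟩ := exists_pf U F (Z := ⊤_ C) (fun _ _ => True)
      (Filter.Eventually.of_forall (fun i => ⟨(flat_terminal (F i)).some, trivial⟩))
    exact ⟨umk U F s⟩
  · intro A B a b
    obtain ⟨a, rfl⟩ := ultraF_surj U F a
    obtain ⟨b, rfl⟩ := ultraF_surj U F b
    obtain ⟨s, hs⟩ := exists_pf U F (Z := A ⨯ B)
      (fun i z => some ((F i).map prod.fst z) = a.1 i ∧ some ((F i).map prod.snd z) = b.1 i)
      (by
        filter_upwards [a.2, b.2] with i hai hbi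
        obtain ⟨a', ha'⟩ := Option.isSome_iff_exists.1 hai
        obtain ⟨b', hb'⟩ := Option.isSome_iff_exists.1 hbi
        obtain ⟨t, ht, ht'⟩ := flat_prod (F i) A B a' b'
        exact ⟨t, by rw [ht, ha'], by rw [ht', hb']⟩)
    refine ⟨umk U F s, ?_, ?_⟩
    · rw [ultraF_map]
      refine (umk_eq U F _ _).2 ?_
      filter_upwards [hs] with i hi
      obtain ⟨z, hz, h1, h2⟩ := hi
      change Option.map _ (s.1 i) = _
      rw [hz, ← h1]
      rfl
    · rw [ultraF_map]
      refine (umk_eq U F _ _).2 ?_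
      filter_upwards [hs] with i hi
      obtain ⟨z, hz, h1, h2⟩ := hi
      change Option.map _ (s.1 i) = _
      rw [hz, ← h2]
      rfl
  · intro A B f g a h
    obtain ⟨a, rfl⟩ := ultraF_surj U F a
    rw [ultraF_map, ultraF_map] at h
    replace h := (umk_eq U F _ _).1 h
    obtain ⟨s, hs⟩ := exists_pf U F (Z := equalizer f g)
      (fun i z => some ((F i).map (equalizer.ι f g) z) = a.1 i)
      (by
        filter_upwards [a.2, h] with i hai hi
        obtain ⟨a', ha'⟩ := Option.isSome_iff_exists.1 hai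
        change Option.map _ (a.1 i) = Option.map _ (a.1 i) at hi
        rw [ha', Option.map_some, Option.map_some, Option.some_inj] at hi
        obtain ⟨t, ht⟩ := flat_eq (F i) A B f g a' hi
        exact ⟨t, by rw [ht, ha']⟩)
    refine ⟨umk U F s, ?_⟩
    rw [ultraF_map]
    refine (umk_eq U F _ _).2 ?_
    filter_upwards [hs] with i hi
    obtain ⟨z, hz, h1⟩ := hi
    change Option.map _ (s.1 i) = _
    rw [hz, ← h1]
    rfl

/-- The diagonal map to the ultraproduct. -/
def diagU (G : C ⥤ Type u) (η : ∀ i, G ⟶ F i) : G ⟶ ultraF U F where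
  app Z := ↾(fun z => umk U F ⟨fun i => some ((η i).app Z z), by simp⟩)
  naturality Z Z' f := by
    ext z
    refine (umk_eq U F _ _).2 ?_
    refine Filter.Eventually.of_forall (fun i => ?_)
    change some ((η i).app Z' (G.map f z)) = some ((F i).map f ((η i).app Z z))
    rw [NatTrans.naturality_apply]

lemma diagU_app (G : C ⥤ Type u) (η : ∀ i, G ⟶ F i) {Z : C} (z : G.obj Z) :
    (diagU U F G η).app Z z = umk U F ⟨fun i => some ((η i).app Z z), by simp⟩ := rfl

end Ultra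

section Models2

variable {C : Type u} [SmallCategory C] [HasFiniteLimits C] {X : C} {S : Sieve X}

/-- All lifting problems can be solved simultaneously. -/
lemma exists_all (J : GrothendieckTopology C)
    (hS : ∀ ⦃W : C⦄ (g : W ⟶ X), S.pullback g ∈ J W → S g)
    (M : Mdl S) :
    ∃ (N : Mdl S) (f : MHom M N), ∀ p : Prob J M.F, p.Solved f.η := by
  classical
  choose N f hf using exists_finite J hS M
  let U : Ultrafilter (Finset (Prob J M.F)) := Ultrafilter.of Filter.atTop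
  have hU : ∀ p : Prob J M.F, ∀ᶠ E in (U : Filter (Finset (Prob J M.F))), p ∈ E := by
    intro p
    refine (Ultrafilter.of_le (Filter.atTop : Filter (Finset (Prob J M.F)))) ?_
    filter_upwards [Filter.eventually_ge_atTop {p}] with E hE
    exact hE (Finset.mem_singleton_self p)
  refine ⟨⟨ultraF U (fun E => (N E).F), inferInstance,
    (diagU U (fun E => (N E).F) M.F (fun E => (f E).η)).app X M.x, ?_⟩,
    ⟨diagU U (fun E => (N E).F) M.F (fun E => (f E).η), rfl⟩, ?_⟩
  · intro W g hg w hw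
    obtain ⟨s, rfl⟩ := ultraF_surj U _ w
    rw [ultraF_map, diagU_app] at hw
    replace hw := (umk_eq U _ _ _).1 hw
    obtain ⟨E, hE, hE'⟩ := (hw.and s.2).exists
    obtain ⟨z, hz⟩ := Option.isSome_iff_exists.1 hE'
    change Option.map _ (s.1 E) = some ((f E).η.app X M.x) at hE
    rw [hz, Option.map_some, Option.some_inj, (f E).hx] at hE
    exact (N E).avoid g hg z hE
  · intro p
    have h1 : ∀ᶠ E in (U : Filter (Finset (Prob J M.F))), ∃ k : Fin p.n, ∃ v : (N E).F.obj (p.V k),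
        (N E).F.map (p.g k) v = (f E).η.app p.Y p.y := by
      filter_upwards [hU p] with E hE
      exact hf E p hE
    rw [Ultrafilter.eventually_exists_iff] at h1
    obtain ⟨k, hk⟩ := h1
    obtain ⟨s, hs⟩ := exists_pf U (fun E => (N E).F) (Z := p.V k) _ hk
    refine ⟨k, umk U _ s, ?_⟩
    rw [ultraF_map]
    refine (umk_eq U _ _ _).2 ?_
    filter_upwards [hs] with E hE
    obtain ⟨z, hz, hz'⟩ := hE
    change Option.map _ (s.1 E) = some ((f E).η.app p.Y p.y)
    rw [hz, ← hz']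
    rfl

end Models2

section Chain

variable {C : Type u} [SmallCategory C] [HasFiniteLimits C] {X : C} {S : Sieve X}

section

variable (K : ℕ ⥤ C ⥤ Type u)

lemma chain_surj {Z : C} (z : (colimit K).obj Z) :
    ∃ (n : ℕ) (z' : (K.obj n).obj Z), (colimit.ι K n).app Z z' = z :=
  Types.jointly_surjective_of_isColimit
    (isColimitOfPreserves ((evaluation C (Type u)).obj Z) (colimit.isColimit K)) z

lemma chain_surj₂ {Z Z' : C} (z : (colimit K).obj Z) (z' : (colimit K).obj Z') :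
    ∃ (n : ℕ) (a : (K.obj n).obj Z) (b : (K.obj n).obj Z'), (colimit.ι K n).app Z a = z ∧
      (colimit.ι K n).app Z' b = z' := by
  obtain ⟨n, a, rfl⟩ := chain_surj K z
  obtain ⟨m, b, rfl⟩ := chain_surj K z'
  refine ⟨max n m, (K.map (homOfLE (le_max_left n m))).app Z a,
    (K.map (homOfLE (le_max_right n m))).app Z' b, ?_, ?_⟩
  · rw [← types_comp_apply, ← NatTrans.comp_app, colimit.w]
  · rw [← types_comp_apply, ← NatTrans.comp_app, colimit.w]

lemma chain_eq {Z : C} {n : ℕ} (z z' : (K.obj n).obj Z)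
    (h : (colimit.ι K n).app Z z = (colimit.ι K n).app Z z') :
    ∃ (m : ℕ) (f : n ⟶ m), (K.map f).app Z z = (K.map f).app Z z' :=
  (Types.FilteredColimit.isColimit_eq_iff'
    (isColimitOfPreserves ((evaluation C (Type u)).obj Z) (colimit.isColimit K)) z z').1 h

lemma chain_w {Z : C} {n m : ℕ} (f : n ⟶ m) (z : (K.obj n).obj Z) :
    (colimit.ι K m).app Z ((K.map f).app Z z) = (colimit.ι K n).app Z z := by
  rw [← types_comp_apply, ← NatTrans.comp_app, colimit.w]

instance chain_cof [∀ n, IsCofiltered (K.obj n).Elements] : IsCofiltered (colimit K).Elements := by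
  apply isCofiltered_of
  · exact ⟨(colimit.ι K 0).app _ (flat_terminal (K.obj 0)).some⟩
  · intro A B a b
    obtain ⟨n, a, b, rfl, rfl⟩ := chain_surj₂ K a b
    obtain ⟨t, rfl, rfl⟩ := flat_prod (K.obj n) A B a b
    refine ⟨(colimit.ι K n).app _ t, ?_, ?_⟩
    · rw [NatTrans.naturality_apply]
    · rw [NatTrans.naturality_apply]
  · intro A B f g a h
    obtain ⟨n, a, rfl⟩ := chain_surj K a
    rw [← NatTrans.naturality_apply, ← NatTrans.naturality_apply] at h
    obtain ⟨m, φ, hm⟩ := chain_eq K _ _ h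
    rw [NatTrans.naturality_apply, NatTrans.naturality_apply] at hm
    obtain ⟨t, ht⟩ := flat_eq (K.obj m) A B f g _ hm
    refine ⟨(colimit.ι K m).app _ t, ?_⟩
    rw [← NatTrans.naturality_apply, ht, chain_w]

end

/-- The completeness theorem, chain form. -/
lemma exists_sat_aux (J : GrothendieckTopology C) (K : ℕ ⥤ C ⥤ Type u)
    [∀ n, IsCofiltered (K.obj n).Elements] (x : ∀ n, (K.obj n).obj X)
    (hx : ∀ n, (K.map (homOfLE (Nat.le_add_right n 1))).app X (x n) = x (n + 1))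
    (avoid : ∀ n (W : C) (g : W ⟶ X), S g → ∀ w : (K.obj n).obj W, (K.obj n).map g w ≠ x n)
    (hsol : ∀ n (p : Prob J (K.obj n)), p.Solved (K.map (homOfLE (Nat.le_add_right n 1)))) :
    ∃ (N : Mdl S), ∀ p : Prob J N.F, p.Solved (𝟙 N.F) := by
  have hx₀ : ∀ n, (colimit.ι K n).app X (x n) = (colimit.ι K 0).app X (x 0) := by
    intro n
    induction n with
    | zero => rfl
    | succ n ih =>
      rw [← ih, ← chain_w K (homOfLE (Nat.le_add_right n 1)), hx]
  have hx' : ∀ n m (f : n ⟶ m), (K.map f).app X (x n) = x m := by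
    intro n m φ
    obtain ⟨k, rfl⟩ := Nat.exists_eq_add_of_le (leOfHom φ)
    induction k with
    | zero =>
      obtain rfl : φ = 𝟙 _ := Subsingleton.elim _ _
      rw [K.map_id]
      rfl
    | succ k ih =>
      obtain rfl : φ = homOfLE (Nat.le_add_right n k) ≫ homOfLE (Nat.le_add_right (n + k) 1) :=
        Subsingleton.elim _ _
      rw [K.map_comp, NatTrans.comp_app, types_comp_apply, ih]
      exact hx _
  refine ⟨⟨colimit K, inferInstance, (colimit.ι K 0).app X (x 0), ?_⟩, ?_⟩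
  · intro W h hh w hw
    obtain ⟨n, w, rfl⟩ := chain_surj K w
    rw [← NatTrans.naturality_apply, ← hx₀ n] at hw
    obtain ⟨m, φ, hm⟩ := chain_eq K _ _ hw
    rw [NatTrans.naturality_apply, hx'] at hm
    exact avoid m _ h hh _ hm
  · rintro ⟨Y, y, n, V, q, hq⟩
    obtain ⟨m, y, rfl⟩ := chain_surj K y
    obtain ⟨k, v, hv⟩ := hsol m ⟨Y, y, n, V, q, hq⟩
    refine ⟨k, (colimit.ι K (m + 1)).app (V k) v, ?_⟩
    have h2 : (colimit K).map (q k) ((colimit.ι K (m + 1)).app (V k) v) =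
        (colimit.ι K m).app Y y := by
      rw [← NatTrans.naturality_apply, ← chain_w K (homOfLE (Nat.le_add_right m 1))]
      exact congr_arg ((colimit.ι K (m + 1)).app Y) hv
    exact h2

/-- The completeness theorem. -/
lemma exists_sat (J : GrothendieckTopology C) (hS' : S ≠ ⊤)
    (hS : ∀ ⦃W : C⦄ (g : W ⟶ X), S.pullback g ∈ J W → S g) :
    ∃ (N : Mdl S), ∀ p : Prob J N.F, p.Solved (𝟙 N.F) := by
  obtain ⟨M₀⟩ := exists_init hS'
  choose nxt f hf using exists_all J hS
  let M : ℕ → Mdl S := fun n => Nat.rec M₀ (fun _ M => nxt M) n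
  let g : ∀ n, MHom (M n) (M (n + 1)) := fun n => f (M n)
  have hg : ∀ n (p : Prob J (M n).F), p.Solved (g n).η := fun n => hf (M n)
  let K : ℕ ⥤ C ⥤ Type u := Functor.ofSequence (X := fun n => (M n).F) (fun n => (g n).η)
  have hK : ∀ n, K.map (homOfLE (Nat.le_add_right n 1)) = (g n).η := fun n =>
    Functor.ofSequence_map_homOfLE_succ _ _
  have : ∀ n, IsCofiltered (K.obj n).Elements := fun n => (M n).cof
  refine exists_sat_aux J K (fun n => (M n).x) ?_ (fun n => (M n).avoid) ?_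
  · intro n
    rw [hK]
    exact (g n).hx
  · intro n p
    rw [hK]
    exact hg n p

end Chain

/-- The point attached to a saturated model. -/
noncomputable def pointOf {C : Type u} [SmallCategory C] [HasFiniteLimits C]
    {J : GrothendieckTopology C}
    (hJ : ∀ (U : C) (S : Sieve U), S ∈ J U →
      ∃ (n : ℕ) (V : Fin n → C) (g : ∀ k, V k ⟶ U), (∀ k, S (g k)) ∧ Sieve.ofArrows V g ∈ J U)
    {X : C} {S : Sieve X} (N : Mdl S) (hN : ∀ p : Prob J N.F, p.Solved (𝟙 N.F)) :
    GrothendieckTopology.Point.{u} J where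
  fiber := N.F
  initiallySmall := initiallySmall_of_essentiallySmall _
  jointly_surjective {Y} R hR y := by
    obtain ⟨n, V, g, hg, hg'⟩ := hJ Y R hR
    obtain ⟨k, v, hv⟩ := hN ⟨Y, y, n, V, g, hg'⟩
    exact ⟨V k, g k, hg k, v, hv⟩

/-- SGA 4 VI 9.0 (appendix by Deligne), in the form proved there: let C be a small category with finite limits and J a Grothendieck topology on C such that every covering sieve of every object contains finitely many arrows which already generate a covering sieve. Then the site (C, J) has enough points: there is a small conservative family of points of its topos of sheaves. (The text states it for locally coherent topoi and reduces to this case.) -/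
theorem result (C : Type u) [SmallCategory C] [HasFiniteLimits C]
    (J : GrothendieckTopology C)
    (hJ : ∀ (U : C) (S : Sieve U), S ∈ J U →
      ∃ (n : ℕ) (V : Fin n → C) (g : ∀ k, V k ⟶ U), (∀ k, S (g k)) ∧ Sieve.ofArrows V g ∈ J U) :
    GrothendieckTopology.HasEnoughPoints.{u} J := by
  classical
  have key : ∀ (p : Σ X : C, {S : Sieve X // S ∉ J X}),
      ∃ (N : Mdl (J.close p.2.1)), ∀ q : Prob J N.F, q.Solved (𝟙 N.F) := by
    rintro ⟨X, S, hS⟩
    refine exists_sat J ?_ ?_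
    · intro h
      exact hS ((J.close_eq_top_iff_mem S).1 h)
    · intro W g hg
      exact J.close_isClosed S g hg
  choose N hN using key
  refine ⟨ObjectProperty.ofObj (fun (p : Σ X : C, {S : Sieve X // S ∉ J X}) =>
    pointOf hJ (N p) (hN p)), inferInstance, ?_⟩
  refine ObjectProperty.IsConservativeFamilyOfPoints.mk' ?_
  intro X S hS
  by_contra hcon
  obtain ⟨Y, g, hg, y, hy⟩ := hS ⟨pointOf hJ (N ⟨X, S, hcon⟩) (hN ⟨X, S, hcon⟩),
    ObjectProperty.ofObj_apply _ _⟩ (N ⟨X, S, hcon⟩).x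
  exact (N ⟨X, S, hcon⟩).avoid g (J.le_close S _ hg) y hy

end Groth.Agent.S3053
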