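import Groth.Statements.S0909
-- import your own Groth.Agent.* helpers here
import Groth.Agent.S3053
import Mathlib.CategoryTheory.Sites.Coherent.LocallySurjective
import Mathlib.CategoryTheory.Preadditive.Yoneda.Limits
import Mathlib.Algebra.Homology.ShortComplex.ExactFunctor
import Mathlib.CategoryTheory.Abelian.Exact
import Mathlib.CategoryTheory.Sites.EpiMono
import Mathlib.CategoryTheory.Sites.Abelian
import Mathlib.CategoryTheory.Limits.Shapes.RegularMono

set_option autoImplicit false
universe u
open CategoryTheory
open CohDer

namespace Groth.Agent.S0909

section Aux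

open CategoryTheory.Limits Opposite

variable {A : Type u} [SmallCategory A] [Abelian A] [Preregular A]

lemma isSheaf (X : A) : Presheaf.IsSheaf (regularTopology A) (preadditiveYoneda.obj X) := by
  rw [Presheaf.isSheaf_iff_isSheaf_forget _ _ (forget AddCommGrpCat.{u})]
  rw [isSheaf_iff_isSheaf_of_type]
  exact regularTopology.isSheaf_yoneda_obj X

/-- The additive Yoneda embedding, valued in abelian sheaves. -/
noncomputable def G : A ⥤ Sheaf (regularTopology A) AddCommGrpCat.{u} where
  obj X := ⟨preadditiveYoneda.obj X, isSheaf X⟩
  map f := ⟨preadditiveYoneda.map f⟩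

noncomputable def GFF : (G (A := A)).FullyFaithful where
  preimage {X Y} f := preadditiveYoneda.preimage f.hom
  map_preimage f := by
    ext : 1
    exact Functor.map_preimage (preadditiveYoneda (C := A)) f.hom
  preimage_map f := Functor.preimage_map (F := preadditiveYoneda) f

instance : (G (A := A)).Full := (GFF (A := A)).full

instance : (G (A := A)).Faithful := (GFF (A := A)).faithful

noncomputable def isoG :
    preadditiveYoneda ⋙ presheafToSheaf (regularTopology A) AddCommGrpCat.{u} ≅ G :=
  Functor.isoWhiskerLeft G (asIso (sheafificationAdjunction (regularTopology A) AddCommGrpCat.{u}).counit) ≪≫ Functor.rightUnitor _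

lemma effEpi {X Y : A} (f : X ⟶ Y) [Epi f] : EffectiveEpi f :=
  (regularEpiOfEpi f).effectiveEpi

instance (X Y : A) (f : X ⟶ Y) [Epi f] : Epi (G.map f) := by
  rw [← Sheaf.isLocallySurjective_iff_epi' (A := AddCommGrpCat.{u})]
  change Presheaf.IsLocallySurjective (regularTopology A) (preadditiveYoneda.map f)
  rw [regularTopology.isLocallySurjective_iff]
  intro T y
  refine ⟨pullback y f, pullback.fst y f, effEpi _, pullback.snd y f, ?_⟩
  exact pullback.condition.symm

instance : (preadditiveYoneda ⋙
    presheafToSheaf (regularTopology A) AddCommGrpCat.{u}).PreservesEpimorphisms where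
  preserves {X Y} f _ := by
    rw [← NatIso.naturality_2 isoG f]
    infer_instance

instance : (preadditiveYoneda ⋙
    presheafToSheaf (regularTopology A) AddCommGrpCat.{u}).Additive := by
  have : (presheafToSheaf (regularTopology A) AddCommGrpCat.{u}).Additive := inferInstance
  have : (preadditiveYoneda (C := A)).Additive := ⟨by
    intro X Y f g
    ext Z h
    exact Preadditive.comp_add _ _ _ _ _ _⟩
  infer_instance

instance : PreservesFiniteLimits (preadditiveYoneda (C := A)) where
  preservesFiniteLimits J _ _ :=
    preservesLimitsOfShape_of_evaluation _ _ (fun K => by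
      change PreservesLimitsOfShape J (preadditiveCoyoneda.obj K)
      infer_instance)

end Aux

open CategoryTheory.Limits in
/-- Stacks Tags 05PN with 05PM: let A be a small abelian category, made into a site by declaring the single epimorphisms to be coverings (Mathlib's regular topology; the regularity instance is assumed). Then the functor X ↦ h_X, viewed in abelian sheaves (here: additive Yoneda followed by sheafification, which does not change h_X since representables are sheaves), is fully faithful and exact, and the site has enough points (a small conservative family of points, with fibre functors valued in Type u). -/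
theorem result {A : Type u} [SmallCategory A] [Abelian A] [Preregular A] :
    (preadditiveYoneda ⋙ presheafToSheaf (regularTopology A) AddCommGrpCat.{u}).Full ∧
    (preadditiveYoneda ⋙ presheafToSheaf (regularTopology A) AddCommGrpCat.{u}).Faithful ∧
    PreservesFiniteLimits (preadditiveYoneda ⋙ presheafToSheaf (regularTopology A) AddCommGrpCat.{u}) ∧
    PreservesFiniteColimits (preadditiveYoneda ⋙ presheafToSheaf (regularTopology A) AddCommGrpCat.{u}) ∧
    GrothendieckTopology.HasEnoughPoints.{u, u, u} (regularTopology A) := by
  have h1 : (preadditiveYoneda ⋙ presheafToSheaf (regularTopology A) AddCommGrpCat.{u}).Full :=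
    Functor.Full.of_iso (isoG (A := A)).symm
  have h2 : (preadditiveYoneda ⋙
      presheafToSheaf (regularTopology A) AddCommGrpCat.{u}).Faithful :=
    Functor.Faithful.of_iso (isoG (A := A)).symm
  have h3 : PreservesFiniteLimits
      (preadditiveYoneda ⋙ presheafToSheaf (regularTopology A) AddCommGrpCat.{u}) :=
    comp_preservesFiniteLimits _ _
  refine ⟨h1, h2, h3, ?_, ?_⟩
  · have : (preadditiveYoneda ⋙ presheafToSheaf (regularTopology A) AddCommGrpCat.{u}).Additive :=
      inferInstance
    have : (preadditiveYoneda ⋙
        presheafToSheaf (regularTopology A) AddCommGrpCat.{u}).PreservesHomology :=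
      Functor.preservesHomology_of_preservesEpis_and_kernels _
    exact Functor.preservesFiniteColimits_of_preservesHomology _
  · apply Groth.Agent.S3053.result
    intro U S hS
    obtain ⟨Y, π, hπ, hS'⟩ := (regularTopology.mem_sieves_iff_hasEffectiveEpi S).1 hS
    refine ⟨1, fun _ => Y, fun _ => π, fun _ => hS', ?_⟩
    rw [regularTopology.mem_sieves_iff_hasEffectiveEpi]
    exact ⟨Y, π, hπ, Sieve.ofArrows_mk _ _ (0 : Fin 1)⟩

end Groth.Agent.S0909
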