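import Groth.Statements.S0910
import Groth.Agent.PerfC.PullKFlat
import Groth.Agent.PerfC.LpullPC
-- import your own Groth.Agent.* helpers here

set_option autoImplicit false
universe u
open CategoryTheory
attribute [local instance] HasDerivedCategory.standard
open DCoh

namespace Groth.Agent.S0910

open AlgebraicGeometry in
/-- Stacks Tag 09U7 (schemes; the source treats ringed spaces): let f : X -> Y be a morphism and E an m-pseudo-coherent object of D(O_Y). Then Lf^* E is m-pseudo-coherent. Here Lf^* is the total left derived functor of f^*, whose existence is assumed as an instance argument. -/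
theorem result {X Y : Scheme.{u}} (f : X ⟶ Y) [DCoh.HasLpull f] (m : ℤ) (E : DCoh.D Y)
    (hE : DCoh.IsPseudoCoherentD m E) : DCoh.IsPseudoCoherentD m ((DCoh.Lpull f).obj E) := by
  exact Groth.Agent.PerfC.LpullPC.isPseudoCoherentD_lpull Groth.Agent.PerfC.PullKFlat.exists_pullData f m hE

end Groth.Agent.S0910
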