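import Groth.Statements.S0916
import Groth.Agent.Dcoh.LTMod
import Groth.Agent.Dcoh.FlatTor
import Groth.Agent.Dcoh.LeftRes
import Groth.Agent.Dcoh.KFlatMod
import Mathlib.Algebra.Homology.Refinements

set_option autoImplicit false
universe u
open CategoryTheory
attribute [local instance] HasDerivedCategory.standard
open DCoh

namespace Groth.Agent.S0916

open AlgebraicGeometry CategoryTheory.Limits Groth.Agent.Dcoh

lemma goodFlat (X : Scheme.{u}) : LeftRes.GoodClass (KFlatMod.flatP X) where
  enough := KFlatMod.enough_flatP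
  zero := fun M hM => FlatRes.isFlat_of_isZero hM
  biprod := fun M N hM hN => FlatRes.isFlat_biprod hM hN
  iso := fun e h => FlatRes.isFlat_of_iso e h

lemma isZero_of_flat {X : Scheme.{u}} (F : X.Modules) (hF : FlatMod.IsFlat F) (G : X.Modules)
    [DCoh.HasLTensorMod G] (n : ℤ) (hn : n ≠ 0) :
    IsZero (DCoh.HD ((DCoh.LTensorMod G).obj (DCoh.inD X F)) n) := by
  have hK : DCoh.IsKFlat ((HomologicalComplex.single X.Modules (ComplexShape.up ℤ) 0).obj F) :=
    KFlatMod.isKFlat_single F hF 0
  exact LTMod.isZero_of_isZero_X G hK ((SingleFunctors.evaluation _ _ 0).mapIso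
    (DerivedCategory.singleFunctorsPostcompQIso X.Modules) |>.app F).symm n
    (HomologicalComplex.isZero_single_obj_X (ComplexShape.up ℤ) 0 F n hn)

lemma isFlat_of_tor {X : Scheme.{u}} (F : X.Modules) (hL : ∀ G : X.Modules, DCoh.HasLTensorMod G)
    (h : ∀ (G : X.Modules) [DCoh.HasLTensorMod G],
      IsZero (DCoh.HD ((DCoh.LTensorMod G).obj (DCoh.inD X F)) (-1))) : FlatMod.IsFlat F := by
  let S0 := (HomologicalComplex.single X.Modules (ComplexShape.up ℤ) 0).obj F
  obtain ⟨P, p, hP0, hPf, hpe, hpq⟩ := LeftRes.exists_resolution_of_isStrictlyLE (goodFlat X) S0 0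
  have hK : DCoh.IsKFlat P := KFlatMod.isKFlat_of_isStrictlyLE P 0 hPf
  let e0 : DCoh.toD X P ≅ DCoh.inD X F := (@asIso _ _ _ _ (DerivedCategory.Q.map p) inferInstance) ≪≫
    ((SingleFunctors.evaluation _ _ 0).mapIso (DerivedCategory.singleFunctorsPostcompQIso X.Modules) |>.app F).symm
  have hprev : (ComplexShape.up ℤ).prev (-1) = -2 := by simp
  have hnext : (ComplexShape.up ℤ).next (-1) = 0 := by simp
  have hprev0 : (ComplexShape.up ℤ).prev 0 = -1 := by simp
  have hnext0 : (ComplexShape.up ℤ).next 0 = 1 := by simp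
  -- exactness of `P` at `-1`
  have hex : (P.sc' (-2) (-1) 0).Exact := by
    have h1 : P.ExactAt (-1) := by
      rw [HomologicalComplex.exactAt_iff_isZero_homology]
      refine IsZero.of_iso ?_ (@asIso _ _ _ _ (HomologicalComplex.homologyMap p (-1)) inferInstance)
      rw [← HomologicalComplex.exactAt_iff_isZero_homology]
      exact HomologicalComplex.exactAt_single_obj (ComplexShape.up ℤ) 0 F (-1) (by decide)
    exact (HomologicalComplex.exactAt_iff' P (-2) (-1) 0 hprev hnext).1 h1
  -- exactness after tensoring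
  have hexG : ∀ G : X.Modules, ((P.sc' (-2) (-1) 0).map (DCoh.tensorBi.flip.obj G)).Exact := by
    intro G
    have := hL G
    have h1 := h G
    have h2 : IsZero ((((DCoh.tensorRightMod G).mapHomologicalComplex (ComplexShape.up ℤ)).obj P).homology (-1)) :=
      h1.of_iso ((LTMod.homologyIso G hK (-1)).symm ≪≫
        (DerivedCategory.homologyFunctor _ (-1)).mapIso ((DCoh.LTensorMod G).mapIso e0))
    rw [← HomologicalComplex.exactAt_iff_isZero_homology,
      HomologicalComplex.exactAt_iff' _ (-2) (-1) 0 hprev hnext] at h2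
    exact (ShortComplex.exact_iff_of_iso (ShortComplex.mapNatIso (P.sc' (-2) (-1) 0) (TMod.flipIso G))).2 h2
  -- the augmentation
  let a := HomologicalComplex.singleObjXSelf (ComplexShape.up ℤ) 0 F
  let π : P.X 0 ⟶ F := p.f 0 ≫ a.hom
  have hp0 : Epi (p.f 0) := hpe 0
  have hπ : Epi π := epi_comp (p.f 0) a.hom
  have hw : (P.sc' (-2) (-1) 0).g ≫ π = 0 := by
    change P.d (-1) 0 ≫ p.f 0 ≫ a.hom = 0
    rw [← Category.assoc, ← p.comm (-1) 0]
    have : S0.d (-1) 0 = 0 := rfl
    rw [this, comp_zero, zero_comp]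
  refine @FlatTor.isFlat_of_exact X (P.sc' (-2) (-1) 0) hex (hPf 0) hexG F π hπ hw ?_
  rw [ShortComplex.exact_iff_exact_up_to_refinements]
  intro A x hx
  have hm : Mono (HomologicalComplex.homologyMap p 0) := inferInstance
  rw [HomologicalComplex.mono_homologyMap_iff_up_to_refinements p (-1) 0 1 hprev0 hnext0] at hm
  obtain ⟨A', q, hq, x₁, hx₁⟩ := hm x
    ((P.isZero_of_isStrictlyLE 0 1).eq_of_tgt _ _) 0 (by
      rw [zero_comp, ← cancel_mono a.hom, Category.assoc, zero_comp]; exact hx)
  exact ⟨A', q, hq, x₁, hx₁⟩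

/-- Stacks Tag 08BQ (schemes): flatness of an O_X-module F (all stalks flat) is equivalent to the following Tor-vanishing: for every O_X-module G the sheaf Tor_1(F, G), i.e. H^{-1} of F ⊗^L G, vanishes; the existence of the derived tensor product with every G is assumed (hypothesis hL). -/
theorem result {X : Scheme.{u}} (F : X.Modules) (hL : ∀ G : X.Modules, DCoh.HasLTensorMod G) :
    FlatMod.IsFlat F ↔ ∀ (G : X.Modules) [DCoh.HasLTensorMod G],
      IsZero (DCoh.HD ((DCoh.LTensorMod G).obj (DCoh.inD X F)) (-1)) :=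
  ⟨fun hF G _ => isZero_of_flat F hF G (-1) (by decide), isFlat_of_tor F hL⟩

end Groth.Agent.S0916
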