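import Groth.Statements.S0917
-- import your own Groth.Agent.* helpers here
import Groth.Agent.CohtopB.AcyclicCoprod

set_option autoImplicit false
universe v u
open CategoryTheory
open CohDer

namespace Groth.Agent.S0917

section Aux

open CategoryTheory.Limits CochainComplex

variable {A : Type u} [Category.{v} A] [Abelian A] [IsGrothendieckAbelian.{v} A] {ι : Type v}
  (K : ι → CochainComplex A ℤ)

/-- `⨁_{i, w : K i ⟶ M} K i`. -/
noncomputable abbrev P (M : CochainComplex A ℤ) : CochainComplex A ℤ :=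
  ∐ (fun p : (Σ i, K i ⟶ M) => K p.1)

/-- The canonical map `⨁_{i, w : K i ⟶ M} K i ⟶ M`. -/
noncomputable def σ (M : CochainComplex A ℤ) : P K M ⟶ M :=
  Sigma.desc (fun p => p.2)

/-- Functoriality of `P`. -/
noncomputable def PMap {M M' : CochainComplex A ℤ} (f : M ⟶ M') : P K M ⟶ P K M' :=
  Sigma.desc (fun p => Sigma.ι (fun p : (Σ i, K i ⟶ M') => K p.1) ⟨p.1, p.2 ≫ f⟩)

@[reassoc (attr := simp)]
lemma ι_PMap {M M' : CochainComplex A ℤ} (f : M ⟶ M') (p : Σ i, K i ⟶ M) :
    Sigma.ι (fun p : (Σ i, K i ⟶ M) => K p.1) p ≫ PMap K f =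
      Sigma.ι (fun p : (Σ i, K i ⟶ M') => K p.1) ⟨p.1, p.2 ≫ f⟩ := by
  simp [PMap]

@[reassoc (attr := simp)]
lemma ι_σ {M : CochainComplex A ℤ} (p : Σ i, K i ⟶ M) :
    Sigma.ι (fun p : (Σ i, K i ⟶ M) => K p.1) p ≫ σ K M = p.2 := by
  simp [σ]

lemma ι_congr {M : CochainComplex A ℤ} {i : ι} (z z' : K i ⟶ M) (h : z = z') :
    (Sigma.ι (fun p : (Σ i, K i ⟶ M) => K p.1) ⟨i, z⟩ : K i ⟶ P K M) =
      Sigma.ι (fun p : (Σ i, K i ⟶ M) => K p.1) ⟨i, z'⟩ := by
  subst h; rfl

lemma PMap_id (M : CochainComplex A ℤ) : PMap K (𝟙 M) = 𝟙 _ := by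
  apply Sigma.hom_ext
  rintro ⟨i, w⟩
  refine (ι_PMap K (𝟙 M) ⟨i, w⟩).trans ?_
  refine (ι_congr K _ _ (Category.comp_id w)).trans ?_
  exact (Category.comp_id _).symm

lemma PMap_comp {M M' M'' : CochainComplex A ℤ} (f : M ⟶ M') (g : M' ⟶ M'') :
    PMap K (f ≫ g) = PMap K f ≫ PMap K g := by
  apply Sigma.hom_ext
  rintro ⟨i, w⟩
  simp only [ι_PMap, ι_PMap_assoc]
  exact ι_congr K _ _ (Category.assoc w f g).symm

@[reassoc]
lemma σ_naturality {M M' : CochainComplex A ℤ} (f : M ⟶ M') :
    σ K M ≫ f = PMap K f ≫ σ K M' := by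
  apply Sigma.hom_ext
  rintro ⟨i, w⟩
  simp

/-- The functor `M ↦ cone (⨁_{i, w : K i ⟶ M} K i ⟶ M)`. -/
noncomputable def N : CochainComplex A ℤ ⥤ CochainComplex A ℤ where
  obj M := mappingCone (σ K M)
  map f := mappingCone.map _ _ (PMap K f) f (σ_naturality K f)
  map_id M := by
    have := mappingCone.map_id (σ K M)
    simp only [PMap_id]
    exact this
  map_comp f g := by
    have := mappingCone.map_comp _ _ _ (PMap K f) f (σ_naturality K f) (PMap K g) g (σ_naturality K g)
    simp only [PMap_comp]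
    exact this

/-- The natural transformation `𝟭 ⟶ N`. -/
noncomputable def j : 𝟭 _ ⟶ N K where
  app M := mappingCone.inr (σ K M)
  naturality M M' f := by
    dsimp [N]
    simp [mappingCone.map]

end Aux

/-- Stacks Tag 079M: in a Grothendieck abelian category A, given a small family (K_i) of acyclic cochain complexes, there are an endofunctor N of the category of cochain complexes and a natural transformation j from the identity to N such that for every complex M: each component of j_M is a monomorphism, j_M is a quasi-isomorphism, and for every i and every morphism w : K_i -> M the composite w ≫ j_M is homotopic to zero. -/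
theorem result {A : Type u} [Category.{v} A] [Abelian A]
    [IsGrothendieckAbelian.{v} A] {ι : Type v} (K : ι → CochainComplex A ℤ)
    (hK : ∀ i (n : ℤ), Limits.IsZero ((K i).homology n)) :
    ∃ (N : CochainComplex A ℤ ⥤ CochainComplex A ℤ) (j : 𝟭 _ ⟶ N),
      ∀ M : CochainComplex A ℤ, (∀ n : ℤ, Mono ((j.app M).f n)) ∧ QuasiIso (j.app M) ∧
        ∀ (i : ι) (w : K i ⟶ M), Nonempty (Homotopy (w ≫ j.app M) 0) := by
  refine ⟨N K, j K, fun M => ⟨fun n => Groth.Agent.CohtopB.AcyclicCoprod.mono_inr _ n, ?_, ?_⟩⟩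
  · apply Groth.Agent.CohtopB.AcyclicCoprod.quasiIso_inr
    apply Groth.Agent.CohtopB.AcyclicCoprod.acyclic_sigma
    intro p n
    rw [HomologicalComplex.exactAt_iff_isZero_homology]
    exact hK _ _
  · intro i w
    refine ⟨?_⟩
    have h : Homotopy (σ K M ≫ (j K).app M) 0 :=
      (CochainComplex.HomComplex.Cochain.equivHomotopy _ _).symm
        ⟨CochainComplex.mappingCone.inl (σ K M), by
          rw [CochainComplex.HomComplex.Cochain.ofHom_zero, add_zero]
          exact (CochainComplex.mappingCone.δ_inl (σ K M)).symm⟩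
    have h' := h.compLeft (Limits.Sigma.ι (fun p : (Σ i, K i ⟶ M) => K p.1) ⟨i, w⟩)
    simpa using h'

end Groth.Agent.S0917
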