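import Groth.Statements.S0918
-- import your own Groth.Agent.* helpers here
import Groth.Agent.CohtopB.InjComplex

set_option autoImplicit false
universe v u
open CategoryTheory
open CohDer

namespace Groth.Agent.S0918

section Aux

open CategoryTheory.Limits CochainComplex Groth.Agent.CohtopB.InjComplex
  Groth.Agent.CohtopB.CoconeSES

variable {A : Type u} [Category.{v} A] [Abelian A] [IsGrothendieckAbelian.{v} A]

/-- The short exact sequence `0 → M → J(M) → Q(M) → 0`. -/
noncomputable abbrev SES (M : CochainComplex A ℤ) : ShortComplex (CochainComplex A ℤ) :=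
  ShortComplex.mk ((injι (CochainComplex A ℤ)).app M)
    (cokernel.π ((injι (CochainComplex A ℤ)).app M)) (cokernel.condition _)

lemma shortExact_SES (M : CochainComplex A ℤ) : (SES M).ShortExact where
  exact := ShortComplex.exact_cokernel _
  mono_f := by dsimp; infer_instance
  epi_g := by dsimp; infer_instance

/-- Functoriality of the cokernel. -/
noncomputable def QMap {M M' : CochainComplex A ℤ} (f : M ⟶ M') :
    (SES M).X₃ ⟶ (SES M').X₃ :=
  cokernel.map _ _ f ((injFunctor (CochainComplex A ℤ)).map f)
    (by exact ((injι (CochainComplex A ℤ)).naturality f).symm)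

@[reassoc (attr := simp)]
lemma π_QMap {M M' : CochainComplex A ℤ} (f : M ⟶ M') :
    (SES M).g ≫ QMap f = (injFunctor (CochainComplex A ℤ)).map f ≫ (SES M').g := by
  simp [QMap]

lemma QMap_id (M : CochainComplex A ℤ) : QMap (𝟙 M) = 𝟙 _ := by
  rw [← cancel_epi (cokernel.π ((injι (CochainComplex A ℤ)).app M))]
  refine (π_QMap (𝟙 M)).trans ?_
  simp

lemma QMap_comp {M M' M'' : CochainComplex A ℤ} (f : M ⟶ M') (g : M' ⟶ M'') :
    QMap (f ≫ g) = QMap f ≫ QMap g := by
  rw [← cancel_epi (cokernel.π ((injι (CochainComplex A ℤ)).app M))]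
  refine (π_QMap (f ≫ g)).trans ?_
  have h1 := π_QMap f
  have h2 := π_QMap g
  change cokernel.π _ ≫ _ = _ ≫ cokernel.π _ at h1
  change cokernel.π _ ≫ _ = _ ≫ cokernel.π _ at h2
  rw [reassoc_of% h1, h2, Functor.map_comp, Category.assoc]

/-- The functor `M ↦ mappingCocone (J(M) ⟶ J(M)/M)`. -/
noncomputable def N : CochainComplex A ℤ ⥤ CochainComplex A ℤ where
  obj M := mappingCocone (SES M).g
  map {M M'} f := mapCocone (SES M).g (SES M').g ((injFunctor (CochainComplex A ℤ)).map f) (QMap f)
    (π_QMap f)
  map_id M := by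
    have := mapCocone_id (SES M).g (by simp)
    rw [← this]
    congr 1
    · simp
    · exact QMap_id M
  map_comp {M M' M''} f g := by
    have := mapCocone_comp (SES M).g (SES M').g (SES M'').g
      ((injFunctor (CochainComplex A ℤ)).map f) (QMap f) (π_QMap f)
      ((injFunctor (CochainComplex A ℤ)).map g) (QMap g) (π_QMap g) (by
        rw [π_QMap_assoc f (QMap g), π_QMap, Category.assoc])
    rw [← this]
    congr 1
    · simp
    · exact QMap_comp f g

/-- The natural transformation `𝟭 ⟶ N`. -/
noncomputable def j : 𝟭 _ ⟶ N (A := A) where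
  app M := liftShortComplex (SES M)
  naturality M M' f := by
    apply hom_ext_to
    · intro n
      dsimp [N]
      rw [Category.assoc, Category.assoc, mapCocone_f_fst, lift_f_fst, lift_f_fst_assoc]
      exact congr_arg (fun φ => HomologicalComplex.Hom.f φ n)
        ((injι (CochainComplex A ℤ)).naturality f)
    · intro n m h
      dsimp [N]
      rw [Category.assoc, Category.assoc, mapCocone_f_snd, lift_f_snd, lift_f_snd_assoc,
        comp_zero, zero_comp]

lemma f_inl (S : ShortComplex (CochainComplex A ℤ)) (n : ℤ) :
    S.f.f n ≫ (mappingCocone.inl S.g).v n n (add_zero n) = (liftShortComplex S).f n := by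
  apply ext_to S.g
  · simp
  · simp

end Aux

/-- Stacks Tag 079N: let A be a Grothendieck abelian category. There are an endofunctor N of the category of cochain complexes and a natural transformation j from the identity to N such that for every complex M: j_M is a termwise monomorphism and a quasi-isomorphism, and for every n the map M^n -> N(M)^n factors through a monomorphism I -> N(M)^n from an injective object I. -/
theorem result {A : Type u} [Category.{v} A] [Abelian A]
    [IsGrothendieckAbelian.{v} A] :
    ∃ (N : CochainComplex A ℤ ⥤ CochainComplex A ℤ) (j : 𝟭 _ ⟶ N),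
      ∀ M : CochainComplex A ℤ, (∀ n : ℤ, Mono ((j.app M).f n)) ∧ QuasiIso (j.app M) ∧
        ∀ n : ℤ, ∃ (I : A) (_ : Injective I) (a : M.X n ⟶ I) (b : I ⟶ (N.obj M).X n),
          Mono b ∧ a ≫ b = (j.app M).f n := by
  refine ⟨N, j, fun M => ⟨fun n => ?_, ?_, fun n => ?_⟩⟩
  · have : Mono ((SES M).f.f n) := by
      have h := (shortExact_SES M).map_of_exact (HomologicalComplex.eval A (ComplexShape.up ℤ) n)
      exact h.mono_f
    exact mono_of_mono_fac (Groth.Agent.CohtopB.CoconeSES.lift_f_fst (S := SES M) n)
  · exact Groth.Agent.CohtopB.CoconeSES.quasiIso_liftShortComplex (shortExact_SES M)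
  · refine ⟨(SES M).X₂.X n, ?_, (SES M).f.f n,
      (CochainComplex.mappingCocone.inl (SES M).g).v n n (add_zero n), ?_, ?_⟩
    · exact Groth.Agent.CohtopB.InjComplex.injective_X _ n
    · exact mono_of_mono_fac (CochainComplex.mappingCocone.inl_v_fst_f (SES M).g n)
    · exact f_inl (SES M) n

end Groth.Agent.S0918
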