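import Groth.Statements.S0919
import Mathlib.CategoryTheory.Adjunction.AdjointFunctorTheorems
import Mathlib.CategoryTheory.Abelian.Subobject
import Mathlib.CategoryTheory.Abelian.GrothendieckCategory.Basic
import Mathlib.CategoryTheory.Limits.Yoneda

set_option autoImplicit false
universe v u
open CategoryTheory
open CohDer

namespace Groth.Agent.S0919

open Opposite

/-- A right adjoint contravariant functor to types is representable. -/
theorem isRepresentable_of_isRightAdjoint {A : Type u} [Category.{v} A] (F : Aᵒᵖ ⥤ Type v)
    [F.IsRightAdjoint] : F.IsRepresentable := by
  let L := F.leftAdjoint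
  let adj : L ⊣ F := Adjunction.ofIsRightAdjoint F
  refine Functor.RepresentableBy.isRepresentable (Y := (L.obj PUnit.{v+1}).unop) ?_
  refine
    { homEquiv := fun {X} => 
        (opEquiv (L.obj PUnit.{v+1}) (op X)).symm.trans ((adj.homEquiv PUnit.{v+1} (op X)).trans 
          (TypeCat.homEquiv.trans (Equiv.funUnique PUnit.{v+1} _)))
      homEquiv_comp := ?_ }
  intro X X' f g
  dsimp
  have := adj.homEquiv_naturality_right ((opEquiv (L.obj PUnit.{v+1}) (op X')).symm g) f.op
  exact congrArg (fun h => (TypeCat.homEquiv h) PUnit.unit) this

open CategoryTheory.Limits in
/-- Stacks Tag 07D7: let A be a Grothendieck abelian category and F a contravariant functor from A to sets (a functor on the opposite category). Then F is representable if and only if F turns all small colimits of A into limits, i.e. preserves small limits as a functor on the opposite category. -/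
theorem result {A : Type u} [Category.{v} A] [Abelian A]
    [IsGrothendieckAbelian.{v} A] (F : Aᵒᵖ ⥤ Type v) :
    F.IsRepresentable ↔ PreservesLimitsOfSize.{v, v} F := by
  constructor
  · intro h
    infer_instance
  · intro h
    have : F.IsRightAdjoint := isRightAdjoint_of_preservesLimits_of_isCoseparating
      (P := (ObjectProperty.singleton (separator A)).op) 
      ((ObjectProperty.isCoseparating_op_iff _).2 (isSeparator_separator A)) F
    exact isRepresentable_of_isRightAdjoint F

end Groth.Agent.S0919
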