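import Groth.Statements.S0925
import Groth.Agent.CohtopB.TopStalk

set_option autoImplicit false
universe u
open CategoryTheory
open CohTop

namespace Groth.Agent.S0925

open Groth.Agent.CohtopB.TopPull Groth.Agent.CohtopB.TopStalk CategoryTheory.Limits

theorem isClosedEmbedding_inclCompl {X : TopCat.{u}} (U : TopologicalSpace.Opens X) :
    Topology.IsClosedEmbedding (CohCx.inclCompl U) :=
  U.isOpen.isClosed_compl.isClosedEmbedding_subtypeVal

theorem isZero_pull_sectSupp {X : TopCat.{u}} (U : TopologicalSpace.Opens X) (F : CohTop.Ab X) :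
    IsZero ((CohTop.pull (CohCx.incl U)).obj (CohCx.sectSupp U F)) := by
  have := additive_pull (CohCx.incl U)
  have := preservesMonomorphisms_pull (CohCx.incl U)
  have h0 : (CohTop.pull (CohCx.incl U)).map (kernel.ι ((adj (CohCx.incl U)).unit.app F)) = 0 := by
    have h1 : (CohTop.pull (CohCx.incl U)).map (kernel.ι ((adj (CohCx.incl U)).unit.app F)) ≫
        (CohTop.pull (CohCx.incl U)).map ((adj (CohCx.incl U)).unit.app F) = 0 := by
      rw [← Functor.map_comp, kernel.condition, Functor.map_zero]
    have h2 := (adj (CohCx.incl U)).left_triangle_components F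
    refine (Category.comp_id _).symm.trans ?_
    refine (congrArg (fun t => (CohTop.pull (CohCx.incl U)).map
      (kernel.ι ((adj (CohCx.incl U)).unit.app F)) ≫ t) h2.symm).trans ?_
    refine (Category.assoc _ _ _).symm.trans ?_
    exact (congrArg (fun t => t ≫ (adj (CohCx.incl U)).counit.app
      ((CohTop.pull (CohCx.incl U)).obj F)) h1).trans zero_comp
  have h3 : Mono ((CohTop.pull (CohCx.incl U)).map
      (kernel.ι ((adj (CohCx.incl U)).unit.app F))) := inferInstance
  rw [IsZero.iff_id_eq_zero]
  rw [← cancel_mono ((CohTop.pull (CohCx.incl U)).map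
      (kernel.ι ((adj (CohCx.incl U)).unit.app F))), h0, comp_zero, comp_zero]

theorem isZero_stalk_sectSupp {X : TopCat.{u}} (U : TopologicalSpace.Opens X) (F : CohTop.Ab X)
    (x : X) (hx : x ∈ U) : IsZero ((stalkF x).obj (CohCx.sectSupp U F)) := by
  have h := isZero_pull_sectSupp U F
  have := additive_stalkF (X := TopCat.of U) ⟨x, hx⟩
  have h1 := (stalkF (X := TopCat.of U) ⟨x, hx⟩).map_isZero h
  exact h1.of_iso (asIso ((stalkComp (CohCx.incl U) ⟨x, hx⟩).app (CohCx.sectSupp U F)))

theorem isIso_unit {X : TopCat.{u}} (U : TopologicalSpace.Opens X) (F : CohTop.Ab X) :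
    IsIso ((adj (CohCx.inclCompl U)).unit.app (CohCx.sectSupp U F)) := by
  refine isIso_unit_of_isClosedEmbedding _ (isClosedEmbedding_inclCompl U) _ (fun y hy => ?_)
  refine isZero_stalk_sectSupp U F y ?_
  by_contra h
  exact hy ⟨⟨y, h⟩, rfl⟩

theorem isZero_pull_push {X : TopCat.{u}} (U : TopologicalSpace.Opens X)
    (B : CohTop.Ab (TopCat.of ((U : Set X)ᶜ : Set X))) :
    IsZero ((CohTop.pull (CohCx.incl U)).obj ((CohTop.push (CohCx.inclCompl U)).obj B)) := by
  refine isZero_of_stalks _ (fun x => ?_)
  have h1 : IsZero ((stalkF (CohCx.incl U x)).obj ((CohTop.push (CohCx.inclCompl U)).obj B)) := by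
    refine isZero_stalk_push _ _ _ ?_
    rw [(isClosedEmbedding_inclCompl U).isClosed_range.closure_eq]
    rintro ⟨z, hz⟩
    have hz' : z.1 = x.1 := hz
    exact z.2 (hz' ▸ x.2)
  exact h1.of_iso (asIso ((stalkComp (CohCx.incl U) x).app _)).symm

open TopologicalSpace in
/-- Stacks Tag 0A3A: for an open U of X with closed complement Z and an injective abelian sheaf I on X, the sheaf H_Z(I), the sheaf on Z of sections of I supported in Z (pullback to Z of the kernel of I -> j_* j^{-1} I, j : U -> X), is an injective abelian sheaf on Z. -/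
theorem result {X : TopCat.{u}} (U : Opens X) (I : CohTop.Ab X) [Injective I] :
    Injective (CohCx.HZ U I) := by
  let i := CohCx.inclCompl U
  let F := CohCx.sectSupp U I
  have hη : IsIso ((adj i).unit.app F) := isIso_unit U I
  have hε : ∀ G, IsIso ((adj i).counit.app G) := fun G =>
    isIso_counit_of_isInducing i (isClosedEmbedding_inclCompl U).isInducing G
  constructor
  intro A B g m hm
  have hR := isRightAdjoint_push i
  have hm' : Mono ((CohTop.push i).map m) := inferInstance
  let ι : F ⟶ I := kernel.ι ((adj (CohCx.incl U)).unit.app I)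
  let h : (CohTop.push i).obj B ⟶ I := Injective.factorThru
    ((CohTop.push i).map g ≫ inv ((adj i).unit.app F) ≫ ι) ((CohTop.push i).map m)
  have hh : (CohTop.push i).map m ≫ h = (CohTop.push i).map g ≫ inv ((adj i).unit.app F) ≫ ι :=
    Injective.comp_factorThru _ _
  have hz : h ≫ (adj (CohCx.incl U)).unit.app I = 0 := by
    apply ((adj (CohCx.incl U)).homEquiv _ _).symm.injective
    exact (isZero_pull_push U B).eq_of_src _ _
  let h' : (CohTop.push i).obj B ⟶ F := kernel.lift _ h hz
  have hh' : h' ≫ ι = h := kernel.lift_ι _ _ _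
  have h2 : (CohTop.push i).map m ≫ h' = (CohTop.push i).map g ≫ inv ((adj i).unit.app F) := by
    rw [← cancel_mono ι, Category.assoc, hh', hh, Category.assoc]
  refine ⟨inv ((adj i).counit.app B) ≫ (CohTop.pull i).map h', ?_⟩
  have hA := hε A
  have hB := hε B
  have e1 : (CohTop.pull i).map (inv ((adj i).unit.app F)) =
      (adj i).counit.app ((CohTop.pull i).obj F) := by
    have := (adj i).left_triangle_components F
    rw [Functor.map_inv]
    exact IsIso.inv_eq_of_hom_inv_id this
  have n1 : (adj i).counit.app A ≫ m =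
      (CohTop.pull i).map ((CohTop.push i).map m) ≫ (adj i).counit.app B :=
    ((adj i).counit.naturality m).symm
  have n2 : (adj i).counit.app A ≫ g = (CohTop.pull i).map ((CohTop.push i).map g) ≫
      (adj i).counit.app ((CohTop.pull i).obj F) := ((adj i).counit.naturality g).symm
  refine (cancel_epi ((adj i).counit.app A)).1 ?_
  calc (adj i).counit.app A ≫ m ≫ inv ((adj i).counit.app B) ≫ (CohTop.pull i).map h'
      = (CohTop.pull i).map ((CohTop.push i).map m) ≫ (CohTop.pull i).map h' := by
        rw [← Category.assoc, n1, Category.assoc, IsIso.hom_inv_id_assoc]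
    _ = (CohTop.pull i).map ((CohTop.push i).map m ≫ h') := ((CohTop.pull i).map_comp _ _).symm
    _ = (CohTop.pull i).map ((CohTop.push i).map g ≫ inv ((adj i).unit.app F)) := by rw [h2]
    _ = (CohTop.pull i).map ((CohTop.push i).map g) ≫
        (CohTop.pull i).map (inv ((adj i).unit.app F)) := (CohTop.pull i).map_comp _ _
    _ = (adj i).counit.app A ≫ g := by rw [e1, n2]

end Groth.Agent.S0925
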