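import Groth.Statements.S0926
import Groth.Agent.CohtopB.ConstIrred
import Mathlib.GroupTheory.Archimedean

set_option autoImplicit false
universe u
open CategoryTheory
open CohTop

namespace Groth.Agent.S0926

open Opposite in
lemma nat_app {X : TopCat.{u}} {F G : CohTop.Ab X} (φ : F ⟶ G) {V W : TopologicalSpace.Opens X}
    (i : W ⟶ V) (t : F.obj.obj (op V)) :
    (φ.hom.app (op W)).hom ((F.obj.map i.op).hom t) =
      (G.obj.map i.op).hom ((φ.hom.app (op V)).hom t) :=
  ConcreteCategory.congr_hom (φ.hom.naturality i.op) t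

open TopologicalSpace CategoryTheory.Limits in
/-- Stacks Tag 02UY: let X be an irreducible topological space and H an abelian subsheaf of the constant sheaf Z (given by a monomorphism ι). Then there are a nonempty open U and an integer d such that over U the subsheaf H coincides with the image of multiplication by d on the constant sheaf: the images of ι|_U and of (d · id)|_U agree as subobjects of the constant sheaf on U. -/
theorem result {X : TopCat.{u}} [IrreducibleSpace X]
    (H : CohTop.Ab X) (ι : H ⟶ CohTop.const X (ULift.{u} ℤ)) [Mono ι] :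
    ∃ (U : Opens X) (d : ℤ), U ≠ ⊥ ∧
      imageSubobject ((CohTop.restrFunctor U).map ι) =
        imageSubobject ((CohTop.restrFunctor U).map (d • 𝟙 (CohTop.const X (ULift.{u} ℤ)))) := by

  classical
  let A := ULift.{u} ℤ
  -- the subgroup of integers whose constant section lies in `H` over some nonempty open
  let D : AddSubgroup ℤ :=
    { carrier := {n | ∃ (V : Opens X) (_ : V ≠ ⊥) (t : H.obj.obj (Opposite.op V)),
        (ι.hom.app (Opposite.op V)).hom t = Groth.Agent.CohtopB.ConstIrred.cst A V ⟨n⟩}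
      zero_mem' := ⟨⊤, fun h => by
        have : (Classical.arbitrary X) ∈ (⊤ : Opens X) := trivial
        rw [h] at this
        exact this, 0, by
          rw [map_zero]
          exact (map_zero (Groth.Agent.CohtopB.ConstIrred.cst A (⊤ : Opens X))).symm⟩
      add_mem' := by
        rintro a b ⟨V, hV, t, ht⟩ ⟨W, hW, r, hr⟩
        refine ⟨V ⊓ W, Groth.Agent.CohtopB.ConstIrred.inf_ne_bot hV hW,
          (H.obj.map (homOfLE inf_le_left : V ⊓ W ⟶ V).op).hom t +
            (H.obj.map (homOfLE inf_le_right : V ⊓ W ⟶ W).op).hom r, ?_⟩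
        rw [map_add, nat_app, nat_app, ht, hr,
          Groth.Agent.CohtopB.ConstIrred.cst_res, Groth.Agent.CohtopB.ConstIrred.cst_res]
        exact (map_add (Groth.Agent.CohtopB.ConstIrred.cst A (V ⊓ W)) ⟨a⟩ ⟨b⟩).symm
      neg_mem' := by
        rintro a ⟨V, hV, t, ht⟩
        refine ⟨V, hV, -t, ?_⟩
        rw [map_neg, ht]
        exact (map_neg (Groth.Agent.CohtopB.ConstIrred.cst A V) ⟨a⟩).symm }
  obtain ⟨d, hd⟩ := Int.subgroup_cyclic D
  have hdD : d ∈ D := by
    rw [hd]
    exact AddSubgroup.subset_closure rfl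
  obtain ⟨U, hU, t₀, ht₀⟩ := hdD
  have hsmul : ∀ (V : Opens X) (n m : ℤ), n • Groth.Agent.CohtopB.ConstIrred.cst A V ⟨m⟩ =
      Groth.Agent.CohtopB.ConstIrred.cst A V ⟨n * m⟩ := by
    intro V n m
    rw [← map_zsmul]
    rfl
  refine ⟨U, d, hU, le_antisymm ?_ ?_⟩
  · refine Groth.Agent.CohtopB.ConstIrred.imageSubobject_le_of_sections _ _ (fun V' t => ?_)
    let V : Opens X := U.isOpenEmbedding.functor.obj V'
    change H.obj.obj (Opposite.op V) at t
    change ∃ s : (CohTop.const X (ULift.{u} ℤ)).obj.obj (Opposite.op V),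
      ((d • 𝟙 (CohTop.const X (ULift.{u} ℤ)) : _ ⟶ _).hom.app (Opposite.op V)).hom s =
        (ι.hom.app (Opposite.op V)).hom t
    by_cases hV : V = ⊥
    · refine ⟨0, ?_⟩
      rw [map_zero]
      have : ∀ s : (CohTop.const X (ULift.{u} ℤ)).obj.obj (Opposite.op V), s = 0 := by
        rw [hV]
        exact Groth.Agent.CohtopB.ConstIrred.section_bot _
      exact (this _).symm
    · obtain ⟨⟨n⟩, hn⟩ := Groth.Agent.CohtopB.ConstIrred.cst_surjective A hV
        ((ι.hom.app (Opposite.op V)).hom t)
      have hnD : n ∈ D := ⟨V, hV, t, hn.symm⟩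
      rw [hd, AddSubgroup.mem_closure_singleton] at hnD
      obtain ⟨k, rfl⟩ := hnD
      refine ⟨Groth.Agent.CohtopB.ConstIrred.cst A V ⟨k⟩, ?_⟩
      rw [← hn]
      change d • Groth.Agent.CohtopB.ConstIrred.cst A V ⟨k⟩ = _
      rw [hsmul]
      congr 2
      rw [smul_eq_mul, mul_comm]
  · refine Groth.Agent.CohtopB.ConstIrred.imageSubobject_le_of_sections _ _ (fun V' s => ?_)
    let V : Opens X := U.isOpenEmbedding.functor.obj V'
    change (CohTop.const X (ULift.{u} ℤ)).obj.obj (Opposite.op V) at s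
    change ∃ t : H.obj.obj (Opposite.op V), (ι.hom.app (Opposite.op V)).hom t =
      ((d • 𝟙 (CohTop.const X (ULift.{u} ℤ)) : _ ⟶ _).hom.app (Opposite.op V)).hom s
    by_cases hV : V = ⊥
    · refine ⟨0, ?_⟩
      rw [map_zero]
      have : ∀ s : (CohTop.const X (ULift.{u} ℤ)).obj.obj (Opposite.op V), s = 0 := by
        rw [hV]
        exact Groth.Agent.CohtopB.ConstIrred.section_bot _
      exact (this _).symm
    · obtain ⟨⟨n⟩, rfl⟩ := Groth.Agent.CohtopB.ConstIrred.cst_surjective A hV s
      have hVU : V ≤ U := by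
        rintro x ⟨y, -, rfl⟩
        exact y.2
      refine ⟨n • (H.obj.map (homOfLE hVU).op).hom t₀, ?_⟩
      rw [map_zsmul, nat_app, ht₀, Groth.Agent.CohtopB.ConstIrred.cst_res, hsmul]
      change _ = d • Groth.Agent.CohtopB.ConstIrred.cst A V ⟨n⟩
      rw [hsmul, mul_comm]

end Groth.Agent.S0926
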