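import Groth.Statements.S0927
import Groth.Agent.Dcoh.ProjFLF
import Groth.Agent.Dcoh.MonPull292

set_option autoImplicit false
universe u
open CategoryTheory
open Coh

namespace Groth.Agent.S0927

open AlgebraicGeometry CategoryTheory.Limits in
/-- Stacks Tag 01E8 (schemes, one degree at a time; the source treats ringed spaces and also gives a D^+ version): let f : X -> Y be a morphism, F an O_X-module and E a finite locally free O_Y-module. Then for every q the module E ⊗ R^q f_* F is isomorphic to R^q f_* (f^* E ⊗ F). The higher direct images are right derived functors of f_*, under the instance argument recording that O_X-modules have injective resolutions. -/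
theorem result {X Y : Scheme.{u}} (f : X ⟶ Y) [HasInjectiveResolutions X.Modules]
    (F : X.Modules) (E : Y.Modules) (hE : FlatMod.IsFinLocFree E) (q : ℕ) :
    Nonempty (CohB1.tensorMod E ((Coh.Rpush f q).obj F) ≅
      (Coh.Rpush f q).obj (CohB1.tensorMod ((Scheme.Modules.pullback f).obj E) F)) := by
  let _ := Groth.Agent.Dcoh.MonPull.monPull f
  obtain ⟨E', ⟨_⟩⟩ := Groth.Agent.Dcoh.DualFLF.exists_exactPairing hE
  exact Groth.Agent.Dcoh.ProjFLF.nonempty_iso f F E E' q

end Groth.Agent.S0927
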