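import Groth.Statements.S0929
import Groth.Agent.CohtopB.InjEmb
import Mathlib.Algebra.Category.ModuleCat.Presheaf.Generator
import Mathlib.Algebra.Category.Grp.AB
import Mathlib.CategoryTheory.Functor.ReflectsIso.Balanced

set_option autoImplicit false
universe u
open CategoryTheory
open CohDer

namespace Groth.Agent.S0929

open CategoryTheory.Limits

instance isGrothendieckAbelian_presheafOfModules {C : Type u} [SmallCategory C]
    (O : Cᵒᵖ ⥤ RingCat.{u}) : IsGrothendieckAbelian.{u} (PresheafOfModules.{u} O) where
  ab5OfSize :=
    { ofShape := fun K _ _ => by
        have : ReflectsFiniteLimits (PresheafOfModules.toPresheaf.{u} O) :=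
          ⟨fun J _ _ => reflectsLimitsOfShape_of_reflectsIsomorphisms⟩
        exact HasExactColimitsOfShape.domain_of_functor K (PresheafOfModules.toPresheaf.{u} O) }
  hasSeparator := by
    have h := PresheafOfModules.freeYoneda.isSeparating O
    exact ⟨_, (isSeparator_sigma _).2 h⟩

/-- Stacks Tag 01DV: for a presheaf of rings O on a small category C, the category of presheaves of O-modules has functorial injective embeddings (an endofunctor J with a natural transformation from the identity whose components are monomorphisms into injective objects). -/
theorem result {C : Type u} [SmallCategory C]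
    (O : Cᵒᵖ ⥤ RingCat.{u}) :
    ∃ (J : PresheafOfModules.{u} O ⥤ PresheafOfModules.{u} O) (j : 𝟭 _ ⟶ J),
      ∀ F : PresheafOfModules.{u} O, Injective (J.obj F) ∧ Mono (j.app F) := by
  exact Groth.Agent.CohtopB.InjEmb.exists_functorial_injective_embedding.{u} _

end Groth.Agent.S0929
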