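import Groth.Statements.S0932
import Groth.Agent.Dcoh.LocNull

set_option autoImplicit false
universe u
open CategoryTheory
attribute [local instance] HasDerivedCategory.standard
open DCoh

namespace Groth.Agent.S0932

open AlgebraicGeometry CategoryTheory.Limits in
/-- Stacks Tag 08C7 (schemes), part (2) (part (1) is the special case of an acyclic target): consider complexes of O_X-modules E, F where E is strictly perfect and concentrated in degrees ≥ a, a chain map α : E -> F, and assume the cohomology sheaves of F vanish in degrees ≥ a. Then every point has an open neighbourhood V such that the restriction of α to V is homotopic to zero. -/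
theorem result {X : Scheme.{u}} {E F : CochainComplex X.Modules ℤ}
    (α : E ⟶ F) (hE : DCoh.IsStrictlyPerfect E) (a : ℤ) (hEa : ∀ i : ℤ, i < a → IsZero (E.X i))
    (hF : ∀ i : ℤ, a ≤ i → IsZero (F.homology i)) (x : X) :
    ∃ V : X.Opens, x ∈ V ∧ Nonempty (Homotopy ((DCoh.restrictCx V).map α) 0) := by
  exact Groth.Agent.Dcoh.LocNull.exists_homotopy_zero α hE a hEa hF x

end Groth.Agent.S0932
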