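import Groth.Statements.S0935
import Groth.Agent.Dcoh.DerPull
import Groth.Agent.Dcoh.RlimMap

set_option autoImplicit false
universe u
open CategoryTheory
attribute [local instance] HasDerivedCategory.standard
open DCoh

namespace Groth.Agent.S0935

open AlgebraicGeometry CategoryTheory.Limits in
/-- Stacks Tag 0BKP (schemes; the source treats ringed spaces): let f : X -> Y be a morphism and (K_n) an inverse system in D(O_X) with derived limit L. Then Rf_* L is a derived limit of the system (Rf_* K_n). Here Rf_* is the total right derived functor under its existence binder, and the two countable products are assumed to exist. -/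
theorem result {X Y : Scheme.{u}} (f : X ⟶ Y) [DCoh.HasRpush f]
    (K : ℕ → DCoh.D X) (t : ∀ n, K (n + 1) ⟶ K n) [HasProduct K] [HasProduct fun n => (DCoh.Rpush f).obj (K n)]
    (L : DCoh.D X) (hL : DCoh.IsRlim K t L) :
    DCoh.IsRlim (fun n => (DCoh.Rpush f).obj (K n)) (fun n => (DCoh.Rpush f).map (t n)) ((DCoh.Rpush f).obj L) := by
  have := Groth.Agent.Dcoh.DerPull.hasLpull f
  let _ := Groth.Agent.Dcoh.DerSch.rpushCommShift f
  have := Groth.Agent.Dcoh.DerSch.rpush_isTriangulated f
  have := (Groth.Agent.Dcoh.DerPull.lpullAdj f).rightAdjoint_preservesLimits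
  exact Groth.Agent.Dcoh.RlimMap.isRlim_map (DCoh.Rpush f) K t L hL

end Groth.Agent.S0935
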