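import Groth.Statements.S0936
import Groth.Agent.CohtopB.CompactExt

set_option autoImplicit false
universe u
open CategoryTheory
open CohSite

namespace Groth.Agent.S0936

universe v

open CategoryTheory.Limits in
theorem aux {A : Type u} [Category.{v} A] [Abelian A] [IsGrothendieckAbelian.{v} A]
    [HasDerivedCategory.{v} A] (G : A) (I : Type v)
    (hG : ∀ p, PreservesColimitsOfShape (Discrete I) (Abelian.extFunctorObj G p))
    (M : I → DerivedCategory A) [HasCoproduct M] (a : ℤ) (hM : ∀ i, (M i).IsGE a) :
    Function.Bijective (CohDer.homSumToHomCoprod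
      ((DerivedCategory.singleFunctor A 0).obj G) M) := by
  rw [Groth.Agent.CohtopB.FinFactor.homSumToHomCoprod_bijective_iff]
  have := Groth.Agent.CohtopB.DCoprod.hasExactCoproducts_of_isGrothendieckAbelian (A := A) I
  exact Groth.Agent.CohtopB.CompactExt.isFF_of_isGE G hG (1 - a).toNat a (by omega) M hM

open Opposite CategoryTheory.Limits in
/-- Stacks Tag 0G21 (abelian sheaves, O = Z): let U be an object of a site such that each functor F ↦ H^p(U, F) on abelian sheaves preserves direct sums. Then for every family (M_i) of objects of the derived category of abelian sheaves which is uniformly bounded below and whose direct sum exists, the canonical map ⊕_i Hom(Z[h_U]^#, M_i) -> Hom(Z[h_U]^#, ⊕_i M_i) is bijective. -/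
theorem result {C : Type u} [SmallCategory C] (J : GrothendieckTopology C)
    (U : C) [HasDerivedCategory.{u} (Sheaf J AddCommGrpCat.{u})]
    (h : ∀ (p : ℕ) (ι : Type u), PreservesColimitsOfShape (Discrete ι)
      ((Sheaf.cohomologyPresheafFunctor J p).flip.obj (op U)))
    {I : Type u} (M : I → DerivedCategory (Sheaf J AddCommGrpCat.{u})) [HasCoproduct M] (a : ℤ)
    (hM : ∀ i, (M i).IsGE a) :
    Function.Bijective (CohDer.homSumToHomCoprod
      ((DerivedCategory.singleFunctor (Sheaf J AddCommGrpCat.{u}) 0).obj (CohCx.freeSheaf J U)) M) := by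
  exact aux (CohCx.freeSheaf J U) I (fun p => h p I) M a hM

end Groth.Agent.S0936
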