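import Groth.Statements.S0938
import Mathlib.CategoryTheory.Idempotents.Basic
-- import your own Groth.Agent.* helpers here

set_option autoImplicit false
universe u
open CategoryTheory
open Coh

namespace Groth.Agent.S0938

section Helpers

open AlgebraicGeometry CategoryTheory.Limits Opposite

variable {X : Scheme.{u}}

/-- Global sections as a functor to modules over the global functions. -/
noncomputable def gam (X : Scheme.{u}) : X.Modules ⥤ ModuleCat.{u} Γ(X, ⊤) where
  obj M := ModuleCat.of Γ(X, ⊤) Γ(M, ⊤)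
  map f := ModuleCat.ofHom
    { toFun := fun m => f.app ⊤ m
      map_add' := fun a b => map_add _ a b
      map_smul' := fun r x => f.app_smul r x }
  map_id _ := rfl
  map_comp _ _ := rfl

instance : (gam X).Additive where
  map_add := rfl

theorem gam_map_apply {M N : X.Modules} (f : M ⟶ N) (m : Γ(M, ⊤)) :
    (gam X).map f m = f.app ⊤ m := rfl

/-- the compatible family attached to a global section -/
noncomputable def fam (M : X.Modules) (m : Γ(M, ⊤)) : SheafOfModules.sections (R := X.ringCatSheaf) M :=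
    ⟨fun U => M.presheaf.map (homOfLE le_top : U.unop ⟶ ⊤).op m, by
      intro U V f
      change (M.presheaf.map _ ≫ M.presheaf.map f) m = _
      rw [← M.presheaf.map_comp]
      rfl⟩

/-- the map from the structure sheaf attached to a global section -/
noncomputable def ofSec (M : X.Modules) (m : Γ(M, ⊤)) : Coh.structureModule X ⟶ M :=
  (SheafOfModules.unitHomEquiv (R := X.ringCatSheaf) M).symm (fam M m)

/-- the unit section -/
noncomputable def one (X : Scheme.{u}) : Γ(Coh.structureModule X, ⊤) := (1 : Γ(X, ⊤))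

theorem smul_one (s : Γ(Coh.structureModule X, ⊤)) : (show Γ(X, ⊤) from s) • one X = s :=
  mul_one (show Γ(X, ⊤) from s)

theorem ofSec_app_one (M : X.Modules) (m : Γ(M, ⊤)) : (ofSec M m).app ⊤ (one X) = m := by
  have h := SheafOfModules.unitHomEquiv_apply_coe (R := X.ringCatSheaf) M (ofSec M m) (op ⊤)
  rw [ofSec, Equiv.apply_symm_apply] at h
  refine h.symm.trans ?_
  change M.presheaf.map (𝟙 _) m = m
  rw [M.presheaf.map_id]
  rfl

theorem hom_unit_ext {M : X.Modules} (f g : Coh.structureModule X ⟶ M)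
    (h : f.app ⊤ (one X) = g.app ⊤ (one X)) : f = g := by
  apply (SheafOfModules.unitHomEquiv (R := X.ringCatSheaf) M).injective
  apply Subtype.ext
  funext U
  have hf := SheafOfModules.unitHomEquiv_apply_coe (R := X.ringCatSheaf) M f U
  have hg := SheafOfModules.unitHomEquiv_apply_coe (R := X.ringCatSheaf) M g U
  refine hf.trans (Eq.trans ?_ hg.symm)
  have key : ∀ φ : Coh.structureModule X ⟶ M, φ.app U.unop (1 : Γ(X, U.unop)) =
      M.presheaf.map (homOfLE le_top : U.unop ⟶ ⊤).op (φ.app ⊤ (one X)) := by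
    intro φ
    have h1 := ConcreteCategory.congr_hom (φ.mapPresheaf.naturality (homOfLE le_top : U.unop ⟶ ⊤).op) (one X)
    refine Eq.trans ?_ h1
    change _ = φ.app U.unop (X.presheaf.map (homOfLE le_top : U.unop ⟶ ⊤).op (1 : Γ(X, ⊤)))
    rw [map_one]
  refine (key f).trans (Eq.trans ?_ (key g).symm)
  rw [h]

/-- basis sections -/
noncomputable def e (X : Scheme.{u}) {n : ℕ} (j : Fin n) : Γ(FlatMod.freeMod X n, ⊤) :=
  (Sigma.ι (fun _ : Fin n => Coh.structureModule X) j).app ⊤ (one X)

/-- coordinate projections -/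
noncomputable def pr (X : Scheme.{u}) {n : ℕ} (j : Fin n) : FlatMod.freeMod X n ⟶ Coh.structureModule X :=
  Sigma.desc (fun i => if i = j then 𝟙 _ else 0)

theorem sum_pr_ι {n : ℕ} : ∑ j : Fin n, pr X j ≫ Sigma.ι (fun _ : Fin n => Coh.structureModule X) j = 𝟙 _ := by
  apply Sigma.hom_ext
  intro i
  rw [Preadditive.comp_sum, Category.comp_id]
  rw [Finset.sum_eq_single i]
  · simp [pr]
  · intro j _ hj
    simp [pr, hj.symm]
  · intro h; exact absurd (Finset.mem_univ _) h

theorem pr_e {n : ℕ} (i j : Fin n) : (pr X j).app ⊤ (e X i) = if i = j then one X else 0 := by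
  have : (pr X j).app ⊤ (e X i) = (Sigma.ι (fun _ : Fin n => Coh.structureModule X) i ≫ pr X j).app ⊤ (one X) := rfl
  rw [this]
  simp only [pr, Sigma.ι_desc]
  split_ifs
  · rfl
  · rfl

/-- coordinates -/
noncomputable def coord (X : Scheme.{u}) (n : ℕ) : (gam X).obj (FlatMod.freeMod X n) →ₗ[Γ(X, ⊤)] (Fin n → Γ(X, ⊤)) where
  toFun s j := (pr X j).app ⊤ s
  map_add' a b := by
    funext j
    exact map_add _ a b
  map_smul' r a := by
    funext j
    exact (pr X j).app_smul r a

theorem sum_coord {n : ℕ} (s : Γ(FlatMod.freeMod X n, ⊤)) :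
    ∑ j : Fin n, (show Γ(X, ⊤) from (pr X j).app ⊤ s) • e X j = s := by
  have h : (gam X).map (∑ j : Fin n, pr X j ≫ Sigma.ι (fun _ : Fin n => Coh.structureModule X) j) s = s := by
    rw [sum_pr_ι]; rfl
  rw [Functor.map_sum] at h
  refine Eq.trans ?_ h
  have key : ∀ (M N : ModuleCat.{u} Γ(X, ⊤)) (F : Fin n → (M ⟶ N)) (s : M),
      (∑ a, F a).hom s = ∑ a, (F a).hom s := by
    intro M N F s
    rw [ModuleCat.hom_sum, LinearMap.sum_apply]
  refine Eq.trans ?_ (key _ _ _ _).symm
  refine Finset.sum_congr rfl fun j _ => ?_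
  change _ = (Sigma.ι (fun _ : Fin n => Coh.structureModule X) j).app ⊤ ((pr X j).app ⊤ s)
  conv_rhs => rw [← smul_one ((pr X j).app ⊤ s)]
  exact ((Sigma.ι (fun _ : Fin n => Coh.structureModule X) j).app_smul _ _).symm

/-- the coordinates are an isomorphism -/
noncomputable def coordEquiv (X : Scheme.{u}) (n : ℕ) :
    (gam X).obj (FlatMod.freeMod X n) ≃ₗ[Γ(X, ⊤)] (Fin n → Γ(X, ⊤)) :=
  LinearEquiv.ofLinearMap (coord X n) (Fintype.linearCombination Γ(X, ⊤) (e X))
    (by
      apply LinearMap.ext
      intro a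
      funext j
      change (pr X j).app ⊤ (∑ i, a i • e X i) = a j
      rw [map_sum]
      rw [Finset.sum_eq_single j]
      · refine ((pr X j).app_smul _ _).trans ?_
        rw [pr_e, if_pos rfl]
        exact smul_one (X := X) (a j)
      · intro i _ hi
        refine ((pr X j).app_smul _ _).trans ?_
        rw [pr_e, if_neg hi]
        exact smul_zero _
      · intro h; exact absurd (Finset.mem_univ _) h)
    (by
      apply LinearMap.ext
      intro s
      exact sum_coord s)

theorem gam_free_finite (X : Scheme.{u}) (n : ℕ) :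
    Module.Finite Γ(X, ⊤) ((gam X).obj (FlatMod.freeMod X n)) :=
  Module.Finite.equiv (coordEquiv X n).symm

theorem gam_free_projective (X : Scheme.{u}) (n : ℕ) :
    Module.Projective Γ(X, ⊤) ((gam X).obj (FlatMod.freeMod X n)) :=
  Module.Projective.of_equiv (coordEquiv X n).symm

theorem map_eq_of_basis {n : ℕ} {M : X.Modules} (f g : FlatMod.freeMod X n ⟶ M)
    (h : ∀ j, f.app ⊤ (e X j) = g.app ⊤ (e X j)) : f = g := by
  apply Sigma.hom_ext
  intro j
  apply hom_unit_ext
  exact h j

theorem exists_map_free {n : ℕ} {M : X.Modules} (φ : (gam X).obj (FlatMod.freeMod X n) ⟶ (gam X).obj M) :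
    ∃ f : FlatMod.freeMod X n ⟶ M, (gam X).map f = φ := by
  refine ⟨Sigma.desc (fun j => ofSec M (φ.hom (e X j))), ?_⟩
  ext s
  rw [← (coordEquiv X n).symm_apply_apply s]
  generalize coordEquiv X n s = a
  have h1 : (coordEquiv X n).symm a = ∑ j, a j • (show (gam X).obj (FlatMod.freeMod X n) from e X j) := rfl
  rw [h1, map_sum, map_sum]
  refine Finset.sum_congr rfl fun j _ => ?_
  rw [map_smul, map_smul]
  congr 1
  change (Sigma.ι (fun _ : Fin n => Coh.structureModule X) j ≫
    Sigma.desc (fun j => ofSec M (φ.hom (e X j)))).app ⊤ (one X) = _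
  rw [Sigma.ι_desc]
  exact ofSec_app_one _ _

/-- retracts of finite free modules -/
abbrev P (X : Scheme.{u}) : ObjectProperty X.Modules := fun M : X.Modules =>
  ∃ (n : ℕ) (i : M ⟶ FlatMod.freeMod X n) (r : FlatMod.freeMod X n ⟶ M), i ≫ r = 𝟙 M

/-- finite projective modules -/
abbrev Q (X : Scheme.{u}) : ObjectProperty (ModuleCat.{u} (Γ(X, ⊤))) := fun N =>
  Module.Finite (Γ(X, ⊤)) N ∧ Module.Projective (Γ(X, ⊤)) N

theorem P_to_Q (M : X.Modules) (h : P X M) : Q X ((gam X).obj M) := by
  obtain ⟨n, i, r, hir⟩ := h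
  have h1 : ((gam X).map r).hom ∘ₗ ((gam X).map i).hom = LinearMap.id := by
    rw [← ModuleCat.hom_comp, ← Functor.map_comp, hir, CategoryTheory.Functor.map_id]
    rfl
  have := gam_free_finite X n
  have := gam_free_projective X n
  refine ⟨Module.Finite.of_surjective ((gam X).map r).hom ?_, Module.Projective.of_split _ _ h1⟩
  intro m
  exact ⟨((gam X).map i).hom m, LinearMap.congr_fun h1 m⟩

/-- the functor -/
noncomputable def G (X : Scheme.{u}) : (P X).FullSubcategory ⥤ (Q X).FullSubcategory :=
  (Q X).lift ((P X).ι ⋙ gam X) (fun M => P_to_Q M.obj M.property)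

theorem faithful_aux {M M' : X.Modules} (h : P X M) (f g : M ⟶ M')
    (hfg : (gam X).map f = (gam X).map g) : f = g := by
  obtain ⟨n, i, r, hir⟩ := h
  have : r ≫ f = r ≫ g := by
    apply map_eq_of_basis
    intro j
    exact ConcreteCategory.congr_hom hfg (r.app ⊤ (e X j))
  calc f = (i ≫ r) ≫ f := by rw [hir, Category.id_comp]
    _ = (i ≫ r) ≫ g := by rw [Category.assoc, this, Category.assoc]
    _ = g := by rw [hir, Category.id_comp]

theorem full_aux {M M' : X.Modules} (h : P X M) (φ : (gam X).obj M ⟶ (gam X).obj M') :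
    ∃ f : M ⟶ M', (gam X).map f = φ := by
  obtain ⟨n, i, r, hir⟩ := h
  obtain ⟨f, hf⟩ := exists_map_free ((gam X).map r ≫ φ)
  refine ⟨i ≫ f, ?_⟩
  rw [Functor.map_comp, hf, ← Category.assoc, ← Functor.map_comp, hir, CategoryTheory.Functor.map_id, Category.id_comp]

instance : (G X).Faithful where
  map_injective {M M'} f g h := by
    apply ObjectProperty.hom_ext
    apply faithful_aux M.property
    exact congrArg (fun z : (G X).obj M ⟶ (G X).obj M' => z.hom) h

instance : (G X).Full where
  map_surjective {M M'} φ := by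
    obtain ⟨f, hf⟩ := full_aux M.property φ.hom
    refine ⟨ObjectProperty.homMk f, ?_⟩
    apply ObjectProperty.hom_ext
    exact hf

instance : (G X).EssSurj where
  mem_essImage N := by
    obtain ⟨h1, h2⟩ := N.property
    obtain ⟨n, p, hp⟩ := Module.Finite.exists_fin' Γ(X, ⊤) N.obj
    obtain ⟨s, hs⟩ := Module.projective_lifting_property p LinearMap.id hp
    let c := coordEquiv X n
    -- inclusion and projection
    let a : N.obj ⟶ (gam X).obj (FlatMod.freeMod X n) := ModuleCat.ofHom (c.symm.toLinearMap ∘ₗ s)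
    let b : (gam X).obj (FlatMod.freeMod X n) ⟶ N.obj := ModuleCat.ofHom (p ∘ₗ c.toLinearMap)
    have hab : a ≫ b = 𝟙 _ := by
      ext x
      change p (c (c.symm (s x))) = x
      rw [LinearEquiv.apply_symm_apply]
      exact LinearMap.congr_fun hs x
    obtain ⟨ε, hε⟩ := exists_map_free (b ≫ a)
    have hεε : ε ≫ ε = ε := by
      apply faithful_aux ⟨n, 𝟙 _, 𝟙 _, Category.id_comp _⟩
      rw [Functor.map_comp, hε, Category.assoc, ← Category.assoc a, hab, Category.id_comp]
    obtain ⟨Y, i, r, hir, hri⟩ := IsIdempotentComplete.idempotents_split _ ε hεε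
    let Y' : (P X).FullSubcategory := ⟨Y, ⟨n, i, r, hir⟩⟩
    let t : (gam X).obj Y ≅ N.obj := by
      refine ⟨(gam X).map i ≫ b, a ≫ (gam X).map r, ?_, ?_⟩
      · rw [Category.assoc, ← Category.assoc b, ← hε, ← Functor.map_comp, ← Functor.map_comp, ← hri,
          Category.assoc, hir, Category.comp_id, hir, CategoryTheory.Functor.map_id]
      · rw [Category.assoc, ← Category.assoc ((gam X).map r), ← Functor.map_comp, hri, hε, Category.assoc, hab,
          Category.comp_id, hab]
    exact ⟨Y', ⟨ObjectProperty.isoMk _ t⟩⟩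

end Helpers

open AlgebraicGeometry CategoryTheory.Limits in
/-- Stacks Tag 0FPF (schemes; the source treats ringed spaces): with R denoting the global sections of the structure sheaf, the full subcategory of O_X-modules which are retracts of a finite free O_X-module is equivalent to the full subcategory of R-modules which are finite and projective (existence of an equivalence of categories). -/
theorem result {X : Scheme.{u}} :
    Nonempty ((ObjectProperty.FullSubcategory fun M : X.Modules =>
        ∃ (n : ℕ) (i : M ⟶ FlatMod.freeMod X n) (r : FlatMod.freeMod X n ⟶ M), i ≫ r = 𝟙 M) ≌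
      (ObjectProperty.FullSubcategory fun N : ModuleCat.{u} (Γ(X, ⊤)) =>
        Module.Finite (Γ(X, ⊤)) N ∧ Module.Projective (Γ(X, ⊤)) N)) := by
  have : (G X).IsEquivalence := {}
  exact ⟨(G X).asEquivalence⟩

end Groth.Agent.S0938
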