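import Groth.Statements.S0939
import Groth.Agent.CohtopB.HyperSite

set_option autoImplicit false
universe u
open CategoryTheory
open Hyper

namespace Groth.Agent.S0939

open Opposite CategoryTheory.Limits in
/-- Stacks Tag 0DAX: on a site with equalizers, fibre products and binary products, if a class B of objects covers every object, there is a hypercovering K of the final object of the topos (Verdier's sense; coskeleta assumed to exist) such that every object occurring in every K_n belongs to B. -/
theorem result {C : Type u} [SmallCategory C] [HasEqualizers C] [HasPullbacks C] [HasBinaryProducts C]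
    (J : GrothendieckTopology C) (B : Set C)
    (hB : ∀ U : C, ∃ (ι : Type u) (Y : ι → C) (f : ∀ i, Y i ⟶ U), Sieve.ofArrows Y f ∈ J U ∧ ∀ i, Y i ∈ B)
    [∀ (n : ℕ) (F : (SimplexCategory.Truncated n)ᵒᵖ ⥤ Limits.FormalCoproduct.{u} C),
      (SimplexCategory.Truncated.inclusion n).op.HasRightKanExtension F] :
    ∃ K : SimplicialObject (FormalCoproduct.{u} C), Hyper.IsHypercoveringSite J K ∧
      ∀ (n : ℕ) (i : (K.obj (op (SimplexCategory.mk n))).I), (K.obj (op (SimplexCategory.mk n))).obj i ∈ B := by
  let Ch : ∀ (n : SimplexCategory) (r : (Groth.Agent.CohtopB.HyperExist.PF n)ᵒᵖ ⥤ C), Set (Cone r) :=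
    fun n r => {c | c.pt ∈ B}
  refine ⟨Groth.Agent.CohtopB.HyperExist.KK Ch,
    Groth.Agent.CohtopB.HyperSite.isHypercoveringSite_KK _ ?_, ?_⟩
  · intro n r c
    obtain ⟨ι, W, f, hf, hW⟩ := hB c.pt
    refine J.superset_covering ?_ hf
    rintro Z g ⟨_, a, _, ⟨i⟩, rfl⟩
    exact ⟨⟨W i, (Functor.const _).map (f i) ≫ c.π⟩, hW i, a, fun F => (Category.assoc _ _ _).symm⟩
  · intro n i
    exact Groth.Agent.CohtopB.HyperExist.topv_property (Ch := Ch) (fun T => T ∈ B) (fun _ _ _ hc => hc) i.1 i.2

end Groth.Agent.S0939
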