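import Groth.Statements.S0940
import Groth.Agent.CohtopB.HypSiteGlue
import Groth.Agent.CohtopB.HypHZero

set_option autoImplicit false
universe u
open CategoryTheory
open Hyper

namespace Groth.Agent.S0940

section helpers

open Opposite CategoryTheory.Limits Groth.Agent.CohtopB
open Groth.Agent.CohtopB.LocTriv Groth.Agent.CohtopB.HypInj Groth.Agent.CohtopB.HypHZero

variable {C : Type u} [SmallCategory C] {J : GrothendieckTopology C}
  {K : SimplicialObject (FormalCoproduct.{u} C)} (P : Cᵒᵖ ⥤ AddCommGrpCat.{u})

/-- The map from the limit to the degree zero cochains. -/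
noncomputable def alpha (K : SimplicialObject (FormalCoproduct.{u} C)) :
    limit P ⟶ val P (K.obj (op (SimplexCategory.mk 0))) :=
  Pi.lift (fun i => limit.π P (op ((K.obj (op (SimplexCategory.mk 0))).obj i)))

lemma alpha_proj (i : (K.obj (op (SimplexCategory.mk 0))).I) :
    alpha P K ≫ proj P i = limit.π P (op ((K.obj (op (SimplexCategory.mk 0))).obj i)) :=
  Pi.lift_π _ _

lemma alpha_evh {V : C} (y : Sec K 0 V) : alpha P K ≫ evh P y = limit.π P (op V) := by
  unfold evh
  rw [← Category.assoc, alpha_proj]
  exact limit.w P _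

lemma evh_alpha {V : C} (y : Sec K 0 V) (x : (limit P : AddCommGrpCat.{u})) :
    evh P y (alpha P K x) = limit.π P (op V) x :=
  ConcreteCategory.congr_hom (alpha_evh P y) x

lemma dd_alpha (x : (limit P : AddCommGrpCat.{u})) : dd K P 0 (alpha P K x) = 0 := by
  refine val_ext P (fun i => ?_)
  rw [evh_dd, map_zero, Fin.sum_univ_two, evh_alpha, evh_alpha]
  simp

theorem nonempty_iso {a : Augm K ((Functor.const Cᵒᵖ).obj PUnit.{u + 1})} (h : IsLocHyp J a)
    (hP : Presheaf.IsSheaf J P) : Nonempty ((cx K P).homology 0 ≅ limit P) := by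
  refine nonempty_homology_zero_iso (alpha P K) (dd_alpha P) ?_ ?_
  · intro x hx
    refine Concrete.limit_ext P x 0 ?_
    rintro ⟨V⟩
    refine eq_of_loc hP ((h.zero (V := V) PUnit.unit).mono (fun W g => ?_))
    rintro ⟨y, -⟩
    have h1 : P.map g.op (limit.π P (op V) x) = limit.π P (op W) x :=
      ConcreteCategory.congr_hom (limit.w P g.op) x
    refine h1.trans ?_
    rw [← evh_alpha P y, hx, map_zero, map_zero, map_zero]
  · intro s hs
    choose t ht using fun V : C => exists_section_of_cocycle h hP s hs
      (V := V) PUnit.unit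
    have hc : ∀ {V W : C} (g : W ⟶ V), P.map g.op (t V) = t W := by
      intro V W g
      refine eq_of_loc hP ((h.zero (V := W) PUnit.unit).mono (fun W' g' => ?_))
      rintro ⟨y, -⟩
      rw [ht W g' y rfl, ← ht V (g' ≫ g) y rfl, op_comp, Functor.map_comp_apply]
    let hl := isLimitOfPreserves (forget AddCommGrpCat.{u}) (limit.isLimit P)
    let x : (limit P : AddCommGrpCat.{u}) := (Types.isLimitEquivSections hl).symm
      ⟨fun V => t V.unop, fun {V W} g => hc g.unop⟩
    have hx : ∀ V : C, limit.π P (op V) x = t V := fun V =>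
      Types.isLimitEquivSections_symm_apply hl _ (op V)
    refine ⟨x, val_ext P (fun i => ?_)⟩
    rw [evh_alpha, hx]
    have h2 := ht _ (𝟙 _) (FormalCoproduct.Hom.fromIncl i (𝟙 _) : Sec K 0 _) rfl
    rw [op_id, P.map_id] at h2
    exact h2

end helpers

open Opposite CategoryTheory.Limits in
/-- Stacks Tag 09VW (case of a hypercovering of the final object): let C be a site with equalizers, fibre products and binary products, K a hypercovering in Verdier's sense and I an injective abelian sheaf. Then the Cech cohomology of I with respect to K vanishes in positive degrees, and in degree zero it is isomorphic to the group of global sections of I (the limit of I over the site). -/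
theorem result {C : Type u} [SmallCategory C] [HasEqualizers C] [HasPullbacks C] [HasBinaryProducts C]
    (J : GrothendieckTopology C) (K : SimplicialObject (FormalCoproduct.{u} C))
    [∀ (n : ℕ) (F : (SimplexCategory.Truncated n)ᵒᵖ ⥤ Limits.FormalCoproduct.{u} C),
      (SimplexCategory.Truncated.inclusion n).op.HasRightKanExtension F]
    (hK : Hyper.IsHypercoveringSite J K) (I : Sheaf J AddCommGrpCat.{u}) [Injective I] :
    (∀ p : ℕ, IsZero ((Hyper.cechCxSite K I.obj).homology (p + 1))) ∧
    Nonempty ((Hyper.cechCxSite K I.obj).homology 0 ≅ limit I.obj) := by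
  have h := Groth.Agent.CohtopB.HypSiteGlue.isLocHyp_of_site hK
  refine ⟨fun p => ?_, nonempty_iso I.obj h I.property⟩
  have : Injective I.obj :=
    Injective.injective_of_adjoint (sheafificationAdjunction J AddCommGrpCat.{u}) I
  refine Groth.Agent.CohtopB.HypInj.isZero_homology h (fun V x hx => ?_) p
  refine Groth.Agent.CohtopB.HypHZero.eq_of_loc I.property (hx.mono (fun W g hg => ?_))
  rw [hg, map_zero]

end Groth.Agent.S0940
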