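import Groth.Statements.S0946
import Groth.Agent.CohtopA.NbhdColim
import Groth.Agent.CohtopA.Soft

set_option autoImplicit false
universe u
open CategoryTheory
open CohTop

namespace Groth.Agent.S0946

open TopologicalSpace Opposite CategoryTheory.Limits in
theorem isFiltered_nbhd {X : TopCat.{u}} (Q : Opens X → Prop) (htop : ∃ U, Q U)
    (hinf : ∀ U V, Q U → Q V → Q (U ⊓ V)) :
    IsFiltered (ObjectProperty.FullSubcategory (fun U : (Opens X)ᵒᵖ => Q U.unop)) := by
  have : Nonempty (ObjectProperty.FullSubcategory (fun U : (Opens X)ᵒᵖ => Q U.unop)) :=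
    ⟨⟨op htop.choose, htop.choose_spec⟩⟩
  have : IsFilteredOrEmpty (ObjectProperty.FullSubcategory (fun U : (Opens X)ᵒᵖ => Q U.unop)) :=
    { cocone_objs := fun U V => ⟨⟨op (U.obj.unop ⊓ V.obj.unop), hinf _ _ U.property V.property⟩,
        ObjectProperty.homMk (homOfLE inf_le_left).op, ObjectProperty.homMk (homOfLE inf_le_right).op, trivial⟩
      cocone_maps := fun U V f g => ⟨V, 𝟙 V, by
        have : f = g := by
          apply InducedCategory.hom_ext
          exact Quiver.Hom.unop_inj (Subsingleton.elim _ _)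
        rw [this]⟩ }
  constructor

open TopologicalSpace Opposite CategoryTheory.Limits in
/-- Stacks Tag 09V3: take a quasi-compact subset Z of a topological space X whose points are pairwise separated by disjoint opens of X, and an abelian sheaf F on X. For every p the group H^p(Z, F|_Z) (cohomology of the pullback of F to the subspace Z) is isomorphic to the colimit of the groups H^p(U, F) over the open neighbourhoods U of Z (existence of an isomorphism with the colimit of the cohomology presheaf restricted to the opens containing Z). -/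
theorem result {X : TopCat.{u}} (Z : Set X) (hZ : IsCompact Z)
    (hsep : ∀ x ∈ Z, ∀ y ∈ Z, x ≠ y → ∃ U V : Opens X, x ∈ U ∧ y ∈ V ∧ Disjoint U V)
    (F : CohTop.Ab X) (p : ℕ) :
    Nonempty ((colimit (ObjectProperty.ι (fun U : (Opens X)ᵒᵖ => Z ⊆ (U.unop : Set X)) ⋙
        (Sheaf.cohomologyPresheafFunctor (Opens.grothendieckTopology X) p).obj F) : AddCommGrpCat.{u}) ≃+
      CohTop.H ((CohTop.pull (TopCat.ofHom ⟨Subtype.val, continuous_subtype_val⟩ : TopCat.of Z ⟶ X)).obj F) p) := by
  classical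
  let i : TopCat.of Z ⟶ X := TopCat.ofHom ⟨Subtype.val, continuous_subtype_val⟩
  have hcomp : CompactSpace (TopCat.of Z) := isCompact_iff_compactSpace.1 hZ
  have hrange : Set.range i = Z := Subtype.range_val
  have hrel : Groth.Agent.CohtopA.RelT2.IsRelT2 Z := by
    intro x hx y hy hxy
    obtain ⟨U, V, hxU, hyV, hd⟩ := hsep x hx y hy hxy
    refine ⟨U, V, U.isOpen, V.isOpen, hxU, hyV, ?_⟩
    rw [Set.disjoint_iff_inter_eq_empty]
    have h := congrArg (fun W : Opens X => (W : Set X)) (disjoint_iff.1 hd)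
    simpa using h
  have hrel' : Groth.Agent.CohtopA.RelT2.IsRelT2 (Set.range i) := by rwa [hrange]
  have hT2 : T2Space (TopCat.of Z) := hrel.t2Space
  have hemb : Topology.IsEmbedding i := Topology.IsEmbedding.subtypeVal
  have hfil := isFiltered_nbhd (X := X) (fun U => Z ⊆ (U : Set X)) ⟨⊤, fun _ _ => trivial⟩
    (fun U V hU hV x hx => ⟨hU hx, hV hx⟩)
  refine Groth.Agent.CohtopA.NbhdColim.nonempty_addEquiv i
    (ObjectProperty.ι (fun U : (Opens X)ᵒᵖ => Z ⊆ (U.unop : Set X)))
    (fun j z => j.property z.2) ?_ ?_ ?_ F p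
  · intro F t
    obtain ⟨U, hU, s, hs⟩ := Groth.Agent.CohtopA.Soft.exists_pb_near F i hemb hrel' (K := Set.univ)
      isCompact_univ (V := ⊤) (fun _ _ => trivial) t
    refine ⟨⟨op U, fun x hx => hU ⟨x, hx⟩ trivial⟩, s, ?_⟩
    refine Groth.Agent.CohtopA.Germ.sep_gm _ _ fun z hz => ?_
    rw [Groth.Agent.CohtopA.NbhdColim.pbT_apply, Groth.Agent.CohtopA.Germ.gm_r]
    exact hs z trivial
  · intro F j s hs
    obtain ⟨W, hW, hW', e, hW''⟩ := Groth.Agent.CohtopA.Germ.exists_agree s (0 : Groth.Agent.CohtopA.Sec.Γs F j.obj.unop)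
    refine ⟨⟨op W, fun x hx => ?_⟩, ObjectProperty.homMk (homOfLE hW).op, ?_⟩
    · refine hW'' x (j.property hx) (j.property hx) ?_
      rw [map_zero]
      apply (Groth.Agent.CohtopA.Germ.sc_bijective i F ⟨x, hx⟩).1
      have h1 := Groth.Agent.CohtopA.Germ.sc_gm i F ⟨x, hx⟩ j.obj.unop (j.property hx) s
      refine h1.trans ?_
      rw [map_zero]
      have h2 := congrArg (Groth.Agent.CohtopA.Germ.gm ((CohTop.pull i).obj F) (U := ⊤) ⟨x, hx⟩ trivial) hs
      rw [Groth.Agent.CohtopA.NbhdColim.pbT_apply, Groth.Agent.CohtopA.Germ.gm_r, map_zero] at h2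
      exact h2
    · rw [map_zero] at e
      exact e
  · intro I hI n x
    have hfl : TopCat.Sheaf.IsFlasque I := Groth.Agent.CohtopA.Flasque.isFlasque_of_injective _
    exact Groth.Agent.CohtopA.Soft.ext_succ_eq_zero _
      (Groth.Agent.CohtopA.Soft.isSoft_pull I i hemb hrel') n x

end Groth.Agent.S0946
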