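import Groth.Statements.S0948
import Groth.Agent.CohtopB.ConstZ
import Groth.Agent.CohtopB.ExtResn

set_option autoImplicit false
universe u
open CategoryTheory
open CohSite

namespace Groth.Agent.S0948

open Groth.Agent.CohtopB Groth.Agent.CohtopB.ExtColim Groth.Agent.CohtopB.NerveHK

open CategoryTheory.Limits in
/-- Stacks Tag 0GN3: let S be a class of sheaves of sets on a site such that (1) some member of S maps epimorphically to the final sheaf, (2) every epimorphism F -> K onto a member K of S is refined by a map K' -> F from a member K' of S with K' -> K epimorphic, (3) for K, K' in S some member of S maps epimorphically onto K × K', (4) for parallel maps a, b : K -> K' between members of S some member of S maps epimorphically onto their equalizer, and (5) every member of S is a quasi-compact object. Then for every p the functor F ↦ H^p(C, F) on abelian sheaves preserves filtered colimits. -/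
theorem result {C : Type u} [SmallCategory C]
    {J : GrothendieckTopology C} (S : Set (Sheaf J (Type u)))
    (h1 : ∃ K ∈ S, Epi (terminal.from K))
    (h2 : ∀ (F : Sheaf J (Type u)) (K : Sheaf J (Type u)) (g : F ⟶ K), K ∈ S → Epi g →
      ∃ (K' : Sheaf J (Type u)) (k : K' ⟶ F), K' ∈ S ∧ Epi (k ≫ g))
    (h3 : ∀ K ∈ S, ∀ K' ∈ S, ∃ (K'' : Sheaf J (Type u)) (g : K'' ⟶ K ⨯ K'), K'' ∈ S ∧ Epi g)
    (h4 : ∀ K ∈ S, ∀ K' ∈ S, ∀ (a b : K ⟶ K'), ∃ (K'' : Sheaf J (Type u)) (g : K'' ⟶ equalizer a b), K'' ∈ S ∧ Epi g)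
    (h5 : ∀ K ∈ S, CohCx.IsQcObject K)
    (Λ : Type u) [SmallCategory Λ] [IsFiltered Λ] (p : ℕ) :
    PreservesColimitsOfShape Λ (Sheaf.functorH J p : Sheaf J AddCommGrpCat.{u} ⥤ AddCommGrpCat.{u}) := by
  have hS : CohObj.Closed S := by
    refine ⟨fun K hK K' hK' => ?_, fun K hK K' hK' a b => ?_⟩
    · obtain ⟨K'', g, hK'', hg⟩ := h3 K hK K' hK'
      exact ⟨K'', g, hK'', hg⟩
    · obtain ⟨K'', g, hK'', hg⟩ := h4 K hK K' hK' a b
      exact ⟨K'', g, hK'', hg⟩
  have htop : CohObj.SCoh S (⊤_ (Sheaf J (Type u))) := by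
    obtain ⟨K, hK, hK'⟩ := h1
    exact CohObj.SCoh.terminal ⟨K, terminal.from K, hK, hK'⟩
  have h0 : ∀ K, CohObj.SCoh S K → ExtCommutes Λ ((ZSh J).obj K) 0 := fun K hK =>
    CohColim.extCommutes_zero_ZSh h5 hS h2 hK
  refine ConstZ.preserves_functorH J (extCommutes_of_injectives _ (h0 _ htop) (fun G hG q x => ?_) p)
  have key := subsingleton_HK_of_cech J (CohObj.SCoh S) (fun K' K f => Epi f ∧ CohObj.SCoh S K')
    (fun K' K f hf => hf.1)
    (fun K' K f hK hf n => CohObj.SCoh.cechNerve hS (Arrow.mk f) hf.2 hK (n + 1))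
    (fun K hK M N g _ b => by
      obtain ⟨K₀, p₀, hK₀, hp₀⟩ := hK.1
      obtain ⟨L, f, hf, a, ha⟩ := EpiSheaf.exists_cover_lift J g ((ZSh J).map p₀ ≫ b)
      obtain ⟨K', k, hK', hk⟩ := h2 L K₀ f hK₀ hf
      refine ⟨K', (k ≫ f) ≫ p₀, ⟨epi_comp _ _, CohObj.SCoh.of_mem hS hK'⟩, (ZSh J).map k ≫ a, ?_⟩
      rw [Category.assoc, ha, Functor.map_comp, Functor.map_comp]
      simp only [Category.assoc])
    (colimit G)
    (fun K' K f hK hf n => by
      rw [isZero_homology_cechNerveCx_iff]
      intro y hy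
      have hN := fun n => CohObj.SCoh.cechNerve hS (Arrow.mk f) hf.2 hK n
      have hex := (HomologicalComplex.exactAt_iff' _ (n + 2) (n + 1) n (by simp) (by simp)).1
        (exactAt_ZSh J (Arrow.mk f) n)
      exact extend_to_colimit_injective _ _ _ hex (h0 _ (hN (n + 1))) (h0 _ (hN (n + 2))) G hG _
        (colimit.isColimit G) y hy)
    (⊤_ (Sheaf J (Type u))) htop q
  exact @Subsingleton.elim _ key x 0

end Groth.Agent.S0948
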