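import Groth.Statements.S0954
import Groth.Agent.Dcoh.KFlatMod

set_option autoImplicit false
universe u
open CategoryTheory
attribute [local instance] HasDerivedCategory.standard
open DCoh

namespace Groth.Agent.S0954

open AlgebraicGeometry CategoryTheory.Limits in
/-- Stacks Tag 06YE (schemes): let K_1 -> K_2 -> ... be a sequence of K-flat complexes of O_X-modules. Then its colimit (in the category of complexes) is K-flat. -/
theorem result {X : Scheme.{u}} (K : ℕ ⥤ CochainComplex X.Modules ℤ)
    (hK : ∀ n, DCoh.IsKFlat (K.obj n)) : DCoh.IsKFlat (colimit K) := by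
  exact Groth.Agent.Dcoh.KFlatMod.isKFlat_of_isColimit (CategoryTheory.Limits.colimit.isColimit K) hK


end Groth.Agent.S0954
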