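import Groth.Statements.S0958
import Groth.Agent.Dcoh.KFlatMod

set_option autoImplicit false
universe u
open CategoryTheory
attribute [local instance] HasDerivedCategory.standard
open DCoh

namespace Groth.Agent.S0958

open AlgebraicGeometry in
/-- Stacks Tag 0G6V (schemes): let a : K -> L be a morphism of complexes of O_X-modules with K K-flat. Then there are a K-flat complex N, a morphism b : K -> N and a quasi-isomorphism c : N -> L with a homotopic to b ≫ c; if moreover all terms of K are flat, N can be taken with flat terms as well. -/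
theorem result {X : Scheme.{u}} {K L : CochainComplex X.Modules ℤ} (a : K ⟶ L) (hK : DCoh.IsKFlat K) :
    ∃ (N : CochainComplex X.Modules ℤ) (b : K ⟶ N) (c : N ⟶ L), DCoh.IsKFlat N ∧ QuasiIso c ∧
      Nonempty (Homotopy a (b ≫ c)) ∧ ((∀ n : ℤ, FlatMod.IsFlat (K.X n)) → ∀ n : ℤ, FlatMod.IsFlat (N.X n)) := by
  obtain ⟨N, b, c, fac, hc, h1, h2⟩ := Groth.Agent.Dcoh.KFlatMod.exists_factorization a
  exact ⟨N, b, c, h1 hK, hc, ⟨Homotopy.ofEq fac.symm⟩, h2⟩


end Groth.Agent.S0958
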