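import Groth.Statements.S0963
import Groth.Agent.Dcoh.LTMod

set_option autoImplicit false
universe u
open CategoryTheory
attribute [local instance] HasDerivedCategory.standard
open DCoh

namespace Groth.Agent.S0963

open AlgebraicGeometry CategoryTheory.Pretriangulated in
/-- Stacks Tag 08CJ (schemes; hypotheses in the flat-representative form of tor-amplitude, conclusions in the derived-tensor form): for a distinguished triangle K -> L -> M -> K[1] in D(O_X) and integers a, b: (1) tor-amplitude of K in [a+1, b+1] and of L in [a, b] give tor-amplitude of M in [a, b]; (2) tor-amplitude of K and of M in [a, b] give the same for L; (3) tor-amplitude of L in [a+1, b+1] and of M in [a, b] give tor-amplitude of K in [a+1, b+1]. -/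
theorem result {X : Scheme.{u}} (T : Triangle (DCoh.D X)) (hT : T ∈ distinguishedTriangles)
    (a b : ℤ) :
    (DCoh.HasFlatAmplitudeIn (a + 1) (b + 1) T.obj₁ → DCoh.HasFlatAmplitudeIn a b T.obj₂ →
      DCoh.HasTorAmplitudeIn a b T.obj₃) ∧
    (DCoh.HasFlatAmplitudeIn a b T.obj₁ → DCoh.HasFlatAmplitudeIn a b T.obj₃ → DCoh.HasTorAmplitudeIn a b T.obj₂) ∧
    (DCoh.HasFlatAmplitudeIn (a + 1) (b + 1) T.obj₂ → DCoh.HasFlatAmplitudeIn a b T.obj₃ →
      DCoh.HasTorAmplitudeIn (a + 1) (b + 1) T.obj₁) := by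
  refine ⟨fun h1 h2 => ?_, fun h1 h3 => ?_, fun h2 h3 => ?_⟩
  · have h1' := Groth.Agent.Dcoh.LTMod.torAmplitude_of_flatAmplitude h1
    have h2' := Groth.Agent.Dcoh.LTMod.torAmplitude_of_flatAmplitude h2
    intro F _ i hi
    exact Groth.Agent.Dcoh.LTMod.isZero₃ F T hT i (h2' F i hi)
      (h1' F (i + 1) (hi.imp (by intro h; lia) (by intro h; lia)))
  · have h1' := Groth.Agent.Dcoh.LTMod.torAmplitude_of_flatAmplitude h1
    have h3' := Groth.Agent.Dcoh.LTMod.torAmplitude_of_flatAmplitude h3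
    intro F _ i hi
    exact Groth.Agent.Dcoh.LTMod.isZero₂ F T hT i (h1' F i hi) (h3' F i hi)
  · have h2' := Groth.Agent.Dcoh.LTMod.torAmplitude_of_flatAmplitude h2
    have h3' := Groth.Agent.Dcoh.LTMod.torAmplitude_of_flatAmplitude h3
    intro F _ i hi
    obtain ⟨j, rfl⟩ : ∃ j, i = j + 1 := ⟨i - 1, by lia⟩
    exact Groth.Agent.Dcoh.LTMod.isZero₁ F T hT j (h2' F (j + 1) hi)
      (h3' F j (hi.imp (by intro h; lia) (by intro h; lia)))

end Groth.Agent.S0963
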