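import Groth.Statements.S0973
import Mathlib.Algebra.Homology.DerivedCategory.FullyFaithful
import Mathlib.CategoryTheory.Triangulated.Orthogonal

set_option autoImplicit false
universe w v u
open CategoryTheory CategoryTheory.Limits
open CohDer

namespace Groth.Agent.S0973

section

open Pretriangulated DerivedCategory

variable {A : Type u} [Category.{v} A] [Abelian A] [HasDerivedCategory.{w} A]

lemma isIso_mor₁ (T : Triangle (DerivedCategory A)) (hT : T ∈ distTriang _) (i j : ℤ) (hij : i + 1 = j)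
    (h1 : IsZero ((homologyFunctor A i).obj T.obj₃)) (h2 : IsZero ((homologyFunctor A j).obj T.obj₃)) :
    IsIso ((homologyFunctor A j).map T.mor₁) := by
  have : Mono ((homologyFunctor A j).map T.mor₁) := by
    rw [HomologySequence.mono_homologyMap_mor₁_iff T hT i j hij]
    exact h1.eq_of_src _ _
  have : Epi ((homologyFunctor A j).map T.mor₁) := by
    rw [HomologySequence.epi_homologyMap_mor₁_iff T hT j]
    exact h2.eq_of_tgt _ _
  exact isIso_of_mono_of_epi _

lemma isIso_mor₂ (T : Triangle (DerivedCategory A)) (hT : T ∈ distTriang _) (i j : ℤ) (hij : i + 1 = j)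
    (h1 : IsZero ((homologyFunctor A i).obj T.obj₁)) (h2 : IsZero ((homologyFunctor A j).obj T.obj₁)) :
    IsIso ((homologyFunctor A i).map T.mor₂) := by
  have : Epi ((homologyFunctor A i).map T.mor₂) := by
    rw [HomologySequence.epi_homologyMap_mor₂_iff T hT i j hij]
    exact h2.eq_of_tgt _ _
  have : Mono ((homologyFunctor A i).map T.mor₂) := by
    rw [HomologySequence.mono_homologyMap_mor₂_iff T hT i]
    exact h1.eq_of_src _ _
  exact isIso_of_mono_of_epi _

/-- The lowest piece of a complex concentrated in degrees `≥ n`. -/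
lemma exists_lowest (X : DerivedCategory A) (n b : ℤ) [X.IsGE n] [X.IsLE b] :
    ∃ (T : Triangle (DerivedCategory A)) (_ : T ∈ distTriang _) (e : T.obj₂ ≅ X)
      (_ : T.obj₁ ≅ (singleFunctor A n).obj ((homologyFunctor A n).obj X)),
      T.obj₃.IsGE (n + 1) ∧ T.obj₃.IsLE b ∧
      (∀ j : ℤ, n < j → IsIso ((homologyFunctor A j).map T.mor₂)) ∧
      IsIso ((homologyFunctor A n).map T.mor₁) := by
  obtain ⟨X₁, X₂, hX₁, hX₂, f, g, h, hT⟩ := TStructure.t.exists_triangle X n (n + 1) rfl
  have hX₁' : X₁.IsLE n := ⟨hX₁⟩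
  have hX₂' : X₂.IsGE (n + 1) := ⟨hX₂⟩
  have hz1 : ∀ j : ℤ, n < j → IsZero ((homologyFunctor A j).obj X₁) :=
    fun j hj => X₁.isZero_of_isLE n j hj
  have hz2 : ∀ j : ℤ, j < n + 1 → IsZero ((homologyFunctor A j).obj X₂) :=
    fun j hj => X₂.isZero_of_isGE (n + 1) j hj
  have i1 : ∀ j : ℤ, j ≤ n → IsIso ((homologyFunctor A j).map f) := fun j hj =>
    isIso_mor₁ _ hT (j - 1) j (by lia) (hz2 _ (by lia)) (hz2 _ (by lia))
  have i2 : ∀ j : ℤ, n < j → IsIso ((homologyFunctor A j).map g) := fun j hj =>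
    isIso_mor₂ _ hT j (j + 1) rfl (hz1 _ (by lia)) (hz1 _ (by lia))
  have hX₁'' : X₁.IsGE n := by
    rw [DerivedCategory.isGE_iff]
    intro i hi
    have := i1 i (by lia)
    exact (X.isZero_of_isGE n i hi).of_iso (asIso ((homologyFunctor A i).map f))
  have hX₂'' : X₂.IsLE b := by
    rw [DerivedCategory.isLE_iff]
    intro i hi
    by_cases hi' : n < i
    · have := i2 i hi'
      exact (X.isZero_of_isLE b i hi).of_iso (asIso ((homologyFunctor A i).map g)).symm
    · exact hz2 i (by lia)
  obtain ⟨Y, ⟨e⟩⟩ := exists_iso_singleFunctor_obj_of_isGE_of_isLE X₁ n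
  have e' : Y ≅ (homologyFunctor A n).obj X :=
    ((singleFunctorCompHomologyFunctorIso A n).app Y).symm ≪≫
      (homologyFunctor A n).mapIso e.symm ≪≫
      (haveI := i1 n le_rfl; asIso ((homologyFunctor A n).map f))
  exact ⟨_, hT, Iso.refl _, e ≪≫ (singleFunctor A n).mapIso e', hX₂', hX₂'', i2, i1 n le_rfl⟩

/-- The upper truncation of a complex. -/
lemma exists_upper (X : DerivedCategory A) (n b : ℤ) [X.IsLE b] :
    ∃ (Y : DerivedCategory A) (g : X ⟶ Y), Y.IsGE n ∧ Y.IsLE b ∧
      (∀ j : ℤ, n ≤ j → IsIso ((homologyFunctor A j).map g)) := by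
  obtain ⟨X₁, X₂, hX₁, hX₂, f, g, h, hT⟩ := TStructure.t.exists_triangle X (n - 1) n (by lia)
  have hX₁' : X₁.IsLE (n - 1) := ⟨hX₁⟩
  have hX₂' : X₂.IsGE n := ⟨hX₂⟩
  have hz1 : ∀ j : ℤ, n ≤ j → IsZero ((homologyFunctor A j).obj X₁) :=
    fun j hj => X₁.isZero_of_isLE (n - 1) j (by lia)
  have i2 : ∀ j : ℤ, n ≤ j → IsIso ((homologyFunctor A j).map g) := fun j hj =>
    isIso_mor₂ _ hT j (j + 1) rfl (hz1 _ (by lia)) (hz1 _ (by lia))
  refine ⟨X₂, g, hX₂', ?_, i2⟩
  rw [DerivedCategory.isLE_iff]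
  intro i hi
  by_cases hi' : n ≤ i
  · have := i2 i hi'
    exact (X.isZero_of_isLE b i hi).of_iso (asIso ((homologyFunctor A i).map g)).symm
  · exact X₂.isZero_of_isGE n i (by lia)

/-- Dévissage for bounded objects of the derived category. -/
lemma devissage (P : ObjectProperty (DerivedCategory A)) [P.IsTriangulatedClosed₂]
    [P.IsClosedUnderIsomorphisms] [P.ContainsZero] (b : ℤ) (n : ℕ) :
    ∀ (X : DerivedCategory A), X.IsGE (b + 1 - n) → X.IsLE b →
      (∀ j : ℤ, P ((singleFunctor A j).obj ((homologyFunctor A j).obj X))) → P X := by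
  induction n with
  | zero =>
    intro X h1 h2 _
    have : X.IsGE (b + 1) := by simpa using h1
    exact ObjectProperty.prop_of_isZero _ (TStructure.t.isZero X b (b + 1))
  | succ n ih =>
    intro X h1 h2 hP
    obtain ⟨T, hT, e, e₁, h3, h4, h5, h6⟩ := exists_lowest X (b + 1 - (n + 1 : ℕ)) b
    refine P.prop_of_iso e (P.ext_of_isTriangulatedClosed₂ T hT (P.prop_of_iso e₁.symm (hP _)) ?_)
    refine ih T.obj₃ ?_ h4 ?_
    · have : b + 1 - (n + 1 : ℕ) + 1 = b + 1 - n := by lia
      rwa [this] at h3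
    · intro j
      by_cases hj : b + 1 - (n + 1 : ℕ) < j
      · have := h5 j hj
        exact P.prop_of_iso ((singleFunctor A j).mapIso
          ((homologyFunctor A j).mapIso e.symm ≪≫ asIso ((homologyFunctor A j).map T.mor₂))) (hP j)
      · refine ObjectProperty.prop_of_isZero _ ?_
        exact (singleFunctor A j).map_isZero (T.obj₃.isZero_of_isGE (b + 1 - (n + 1 : ℕ) + 1) j (by lia))

/-- Vanishing of maps between shifted single complexes. -/
lemma single_hom_eq_zero (M N : A) (i j : ℤ) (hij : i < j)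
    (h : ∀ (p : ℕ), 2 ≤ p → ∀ f : (singleFunctor A 0).obj M ⟶ ((singleFunctor A 0).obj N)⟦(p : ℤ)⟧, f = 0)
    (f : (singleFunctor A j).obj M ⟶ ((singleFunctor A i).obj N)⟦(1 : ℤ)⟧) : f = 0 := by
  obtain ⟨p, hp⟩ : ∃ p : ℕ, (p : ℤ) = 1 + j - i := ⟨(1 + j - i).toNat, by lia⟩
  let e₁ : ((singleFunctor A j).obj M)⟦j⟧ ≅ (singleFunctor A 0).obj M :=
    ((singleFunctors A).shiftIso j 0 j (by simp)).app M
  let e₂ : (((singleFunctor A i).obj N)⟦(1 : ℤ)⟧)⟦j⟧ ≅ ((singleFunctor A 0).obj N)⟦(p : ℤ)⟧ :=
    ((shiftFunctorAdd (DerivedCategory A) (1 : ℤ) j).app _).symm ≪≫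
      ((singleFunctors A).shiftIso (1 + j) (i - (1 + j)) i (by lia)).app N ≪≫
      (((singleFunctors A).shiftIso (p : ℤ) (i - (1 + j)) 0 (by lia)).app N).symm
  have h1 := h p (by lia) (e₁.inv ≫ f⟦j⟧' ≫ e₂.hom)
  have h2 : f⟦j⟧' = 0 := by
    rw [← cancel_epi e₁.inv, ← cancel_mono e₂.hom, Category.assoc, h1]
    simp
  exact (shiftFunctor (DerivedCategory A) j).map_injective (by rw [h2, Functor.map_zero])

/-- The splitting map in degree `i`. -/
lemma exists_splitting (K : DerivedCategory A) (a b : ℤ) [K.IsGE a] [K.IsLE b]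
    (hExt : ∀ (i j : ℤ) (p : ℕ), j < i → 2 ≤ p →
      ∀ f : (DerivedCategory.singleFunctor A 0).obj ((DerivedCategory.homologyFunctor A i).obj K) ⟶
        ((DerivedCategory.singleFunctor A 0).obj ((DerivedCategory.homologyFunctor A j).obj K))⟦(p : ℤ)⟧, f = 0)
    (i : ℤ) : ∃ (π : K ⟶ (singleFunctor A i).obj ((homologyFunctor A i).obj K)),
      IsIso ((homologyFunctor A i).map π) := by
  obtain ⟨Y, g, hY1, hY2, hg⟩ := exists_upper K i b
  obtain ⟨T, hT, e, e₁, h3, h4, h5, h6⟩ := exists_lowest Y i b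
  have hHY : ∀ j : ℤ, i ≤ j →
      Nonempty ((homologyFunctor A j).obj K ≅ (homologyFunctor A j).obj Y) := fun j hj => by
    have := hg j hj
    exact ⟨asIso ((homologyFunctor A j).map g)⟩
  have hHT : ∀ j : ℤ, i < j →
      Nonempty ((homologyFunctor A j).obj K ≅ (homologyFunctor A j).obj T.obj₃) := fun j hj => by
    have := hg j (by lia)
    have := h5 j hj
    exact ⟨asIso ((homologyFunctor A j).map g) ≪≫ (homologyFunctor A j).mapIso e.symm ≪≫
      asIso ((homologyFunctor A j).map T.mor₂)⟩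
  let W : DerivedCategory A := (T.obj₁)⟦(1 : ℤ)⟧
  let P : ObjectProperty (DerivedCategory A) :=
    (ObjectProperty.leftOrthogonal (fun Z : DerivedCategory A => Z = W))
  obtain ⟨u⟩ := hHY i le_rfl
  have hP : ∀ j : ℤ, P ((singleFunctor A j).obj ((homologyFunctor A j).obj T.obj₃)) := by
    intro j
    by_cases hj : i < j
    · obtain ⟨v⟩ := hHT j hj
      rintro _ f rfl
      let v' := (singleFunctor A j).mapIso v
      let w' : T.obj₁ ≅ (singleFunctor A i).obj ((homologyFunctor A i).obj K) :=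
        e₁ ≪≫ (singleFunctor A i).mapIso u.symm
      have h0 := single_hom_eq_zero ((homologyFunctor A j).obj K) ((homologyFunctor A i).obj K)
        i j hj (fun p hp f => hExt j i p hj hp f) (v'.hom ≫ f ≫ w'.hom⟦(1 : ℤ)⟧')
      rw [← cancel_epi v'.hom, ← cancel_mono (w'.hom⟦(1 : ℤ)⟧'), Category.assoc, h0]
      simp
    · exact ObjectProperty.prop_of_isZero _
        ((singleFunctor A j).map_isZero (T.obj₃.isZero_of_isGE (i + 1) j (by lia)))
  have hP' : P T.obj₃ := by
    refine devissage P b (b - i).toNat _ ?_ h4 hP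
    exact TStructure.t.isGE_of_ge _ _ (i + 1) (by lia)
  have h0 : T.mor₃ = 0 := hP' T.mor₃ rfl
  have : Mono T.mor₁ := Triangle.mono₁ _ hT h0
  have : IsSplitMono T.mor₁ := isSplitMono_of_mono _
  refine ⟨g ≫ e.inv ≫ retraction T.mor₁ ≫ e₁.hom ≫ (singleFunctor A i).map u.inv, ?_⟩
  have hr : IsIso ((homologyFunctor A i).map (retraction T.mor₁)) := by
    have hr' : (homologyFunctor A i).map T.mor₁ ≫ (homologyFunctor A i).map (retraction T.mor₁) =
        𝟙 _ := by
      rw [← Functor.map_comp, IsSplitMono.id, CategoryTheory.Functor.map_id]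
    exact IsIso.of_isIso_fac_left hr'
  have := hg i le_rfl
  simp only [Functor.map_comp]
  infer_instance

lemma isIso_lift (K : DerivedCategory A) (a b : ℤ) [K.IsGE a] [K.IsLE b]
    (H : ℤ → A) [HasBiproduct (fun i : Finset.Icc a b => (singleFunctor A (i : ℤ)).obj (H i))]
    (π : ∀ i : ℤ, K ⟶ (singleFunctor A i).obj (H i))
    (hπ : ∀ i, IsIso ((homologyFunctor A i).map (π i))) :
    IsIso (biproduct.lift (f := (fun i : Finset.Icc a b => (singleFunctor A (i : ℤ)).obj (H i)))
      (fun i => π i)) := by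
  classical
  rw [DerivedCategory.isIso_iff]
  intro n
  set S := (fun i : Finset.Icc a b => (singleFunctor A (i : ℤ)).obj (H i)) with hS
  have hz : ∀ i : Finset.Icc a b, (i : ℤ) ≠ n →
      (homologyFunctor A n).map (biproduct.π S i ≫ biproduct.ι S i) = 0 := by
    intro i hi
    have : IsZero ((homologyFunctor A n).obj (S i)) := by
      rcases lt_or_gt_of_ne hi with h | h
      · exact (S i).isZero_of_isLE (i : ℤ) n h
      · exact (S i).isZero_of_isGE (i : ℤ) n h
    rw [Functor.map_comp]
    rw [this.eq_of_tgt ((homologyFunctor A n).map (biproduct.π S i)) 0, zero_comp]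
  by_cases hn : n ∈ Finset.Icc a b
  · let n' : Finset.Icc a b := ⟨n, hn⟩
    have h1 : (homologyFunctor A n).map (biproduct.π S n') ≫
        (homologyFunctor A n).map (biproduct.ι S n') = 𝟙 _ := by
      rw [← Functor.map_comp, ← (homologyFunctor A n).map_id, ← biproduct.total, Functor.map_sum,
        Finset.sum_eq_single n']
      · intro i _ hi
        exact hz i (fun h => hi (Subtype.ext h))
      · intro h
        exact absurd (Finset.mem_univ _) h
    have h2 : (homologyFunctor A n).map (biproduct.ι S n') ≫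
        (homologyFunctor A n).map (biproduct.π S n') = 𝟙 _ := by
      rw [← Functor.map_comp, biproduct.ι_π_self, CategoryTheory.Functor.map_id]
    have : IsIso ((homologyFunctor A n).map (biproduct.π S n')) := ⟨_, h1, h2⟩
    have h3 : (homologyFunctor A n).map (biproduct.lift (f := S) (fun i => π i)) ≫
        (homologyFunctor A n).map (biproduct.π S n') = (homologyFunctor A n).map (π n) := by
      rw [← Functor.map_comp, biproduct.lift_π]
    have := hπ n
    exact IsIso.of_isIso_fac_right h3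
  · have h1 : IsZero ((homologyFunctor A n).obj (⨁ S)) := by
      rw [IsZero.iff_id_eq_zero, ← (homologyFunctor A n).map_id, ← biproduct.total, Functor.map_sum]
      refine Finset.sum_eq_zero (fun i _ => hz i ?_)
      rintro rfl
      exact hn i.2
    have h2 : IsZero ((homologyFunctor A n).obj K) := by
      rw [Finset.mem_Icc, not_and_or] at hn
      rcases hn with h | h
      · exact K.isZero_of_isGE a n (by lia)
      · exact K.isZero_of_isLE b n (by lia)
    exact ⟨0, h2.eq_of_src _ _, h1.eq_of_src _ _⟩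

end

/-- Stacks Tag 0GM4: let K be an object of the derived category of an abelian category with cohomology concentrated in degrees a, …, b. Suppose that for all i > j and p ≥ 2 every morphism H^i(K) ⟶ H^j(K)[p] in the derived category (an element of Ext^p) vanishes. Then K splits: it is isomorphic to ⨁_{a ≤ i ≤ b} Hⁱ(K)[-i]. -/
theorem result {A : Type u} [Category.{v} A] [Abelian A] [HasDerivedCategory.{w} A]
    (K : DerivedCategory A) (a b : ℤ) [K.IsGE a] [K.IsLE b]
    (hExt : ∀ (i j : ℤ) (p : ℕ), j < i → 2 ≤ p →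
      ∀ f : (DerivedCategory.singleFunctor A 0).obj ((DerivedCategory.homologyFunctor A i).obj K) ⟶
        ((DerivedCategory.singleFunctor A 0).obj ((DerivedCategory.homologyFunctor A j).obj K))⟦(p : ℤ)⟧, f = 0)
    [HasBiproduct (fun i : Finset.Icc a b => (DerivedCategory.singleFunctor A (i : ℤ)).obj ((DerivedCategory.homologyFunctor A (i : ℤ)).obj K))] :
    Nonempty (K ≅ ⨁ (fun i : Finset.Icc a b => (DerivedCategory.singleFunctor A (i : ℤ)).obj ((DerivedCategory.homologyFunctor A (i : ℤ)).obj K))) := by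
  choose π hπ using exists_splitting K a b hExt
  have := isIso_lift K a b (fun i => (DerivedCategory.homologyFunctor A i).obj K) π hπ
  exact ⟨asIso (biproduct.lift (f := (fun i : Finset.Icc a b =>
    (DerivedCategory.singleFunctor A (i : ℤ)).obj
      ((DerivedCategory.homologyFunctor A (i : ℤ)).obj K))) (fun i => π i))⟩

end Groth.Agent.S0973
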