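import Groth.Statements.S0976
import Mathlib.CategoryTheory.Triangulated.Orthogonal

set_option autoImplicit false
universe v u
open CategoryTheory
open CohDer

namespace Groth.Agent.S0976

section

open CategoryTheory.Pretriangulated CategoryTheory.ObjectProperty CategoryTheory.Limits

variable {D : Type u} [Category.{v} D] [Preadditive D] [Limits.HasZeroObject D] [HasShift D ℤ]
    [∀ n : ℤ, (shiftFunctor D n).Additive] [Pretriangulated D]

lemma swap_le (P : ObjectProperty D) [P.IsTriangulated] :
    extensionProduct P.rightOrthogonal P ≤ extensionProduct P P.rightOrthogonal := by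
  rintro X ⟨Y, Z, f, g, h, hT, hY, hZ⟩
  have h0 : h = 0 := (P.rightOrthogonal.le_shift (1 : ℤ) _ hY) h hZ
  obtain ⟨e, -, -⟩ := exists_iso_binaryBiproduct_of_distTriang _ hT h0
  refine (extensionProduct P P.rightOrthogonal).prop_of_iso (e ≪≫ biprod.braiding _ _).symm ?_
  exact ⟨_, _, _, _, _, binaryBiproductTriangle_distinguished Z Y, hZ, hY⟩

lemma mul_le (P : ObjectProperty D) [P.IsTriangulated] [IsTriangulated D] :
    extensionProduct (extensionProduct P P.rightOrthogonal)
      (extensionProduct P P.rightOrthogonal) ≤ extensionProduct P P.rightOrthogonal := by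
  rw [extensionProduct_assoc, ← extensionProduct_assoc P.rightOrthogonal]
  refine (monotone_extensionProduct_right _
    (monotone_extensionProduct_left _ (swap_le P))).trans ?_
  rw [extensionProduct_assoc, ← extensionProduct_assoc]
  refine (monotone_extensionProduct_right _
    (extensionProduct_le_of_isTriangulatedClosed₂ le_rfl le_rfl)).trans ?_
  refine (monotone_extensionProduct_left _
    (extensionProduct_le_of_isTriangulatedClosed₂' (Q := P) le_rfl le_rfl)).trans ?_
  rw [extensionProduct_isoClosure_left]

lemma main (P : ObjectProperty D) [P.IsTriangulated] [IsTriangulated D] :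
    (extensionProduct P P.rightOrthogonal).IsTriangulated where
  exists_zero := by
    obtain ⟨Z, hZ, hZ'⟩ := P.exists_prop_of_containsZero
    exact ⟨Z, hZ, le_extensionProduct_left _ _ hZ'⟩
  ext₂' := by
    intro T hT h₁ h₃
    exact ObjectProperty.le_isoClosure _ _ (mul_le P _ ⟨_, _, _, _, _, hT, h₁, h₃⟩)

end

open CategoryTheory.Pretriangulated in
/-- Stacks Tag 0CQR, part (1): let P be a triangulated subcategory of a triangulated category D (an object property containing zero, stable under shifts, closed under extensions). Consider the class of objects X sitting in a distinguished triangle A → X → B → A[1] with P A and B right orthogonal to P. This class is again stable under shifts and closed under extensions, i.e. satisfies two-out-of-three in distinguished triangles. -/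
theorem result {D : Type u} [Category.{v} D] [Preadditive D] [Limits.HasZeroObject D] [HasShift D ℤ]
    [∀ n : ℤ, (shiftFunctor D n).Additive] [Pretriangulated D] [IsTriangulated D]
    (P : ObjectProperty D) [P.IsTriangulated] :
    ObjectProperty.IsTriangulated (fun X : D => ∃ (A B : D) (f : A ⟶ X) (g : X ⟶ B) (h : B ⟶ (shiftFunctor D (1 : ℤ)).obj A),
      Triangle.mk f g h ∈ distinguishedTriangles ∧ P A ∧ P.rightOrthogonal B) := by
  exact main P

end Groth.Agent.S0976
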