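import Groth.Statements.S0978
import Groth.Agent.CohtopB.TriCompact

set_option autoImplicit false
universe v u
open CategoryTheory
open CohDer

namespace Groth.Agent.S0978

section

open CategoryTheory.Limits CategoryTheory.Pretriangulated CategoryTheory.ObjectProperty
open Groth.Agent.CohtopB.TriCompact

variable {D : Type u} [Category.{v} D] [Preadditive D] [Limits.HasZeroObject D] [HasShift D ℤ]
    [∀ n : ℤ, (shiftFunctor D n).Additive] [Pretriangulated D] [IsTriangulated D]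
    [HasCoproducts.{v} D]

/-- Objects `X` such that every map from a compact object to `X` factors through an object
of `T`. -/
def facProp (T : ObjectProperty D) : ObjectProperty D := fun X =>
  ∀ (K : D), CohDer.IsCompactObject K → ∀ f : K ⟶ X, ∃ (Z : D) (a : K ⟶ Z) (b : Z ⟶ X),
    T Z ∧ f = a ≫ b

variable (T : ObjectProperty D) [T.IsTriangulated] [T.IsClosedUnderIsomorphisms]
  (hT : T ≤ compactProp D)

omit [IsTriangulated D] [HasCoproducts.{v} D] [T.IsClosedUnderIsomorphisms] in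
lemma factor_sum (X : D) {K : D} {ι : Type*} (s : Finset ι) (g : ι → (K ⟶ X))
    [T.IsClosedUnderIsomorphisms]
    (h : ∀ i ∈ s, ∃ (Z : D) (a : K ⟶ Z) (b : Z ⟶ X), T Z ∧ g i = a ≫ b) :
    ∃ (Z : D) (a : K ⟶ Z) (b : Z ⟶ X), T Z ∧ ∑ i ∈ s, g i = a ≫ b := by
  classical
  induction s using Finset.induction_on with
  | empty =>
    obtain ⟨Z, hZ, hZ'⟩ := T.exists_prop_of_containsZero
    exact ⟨Z, 0, 0, hZ', by simp⟩
  | insert i s his ih =>
    obtain ⟨Z₁, a₁, b₁, hZ₁, h₁⟩ := h i (Finset.mem_insert_self _ _)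
    obtain ⟨Z₂, a₂, b₂, hZ₂, h₂⟩ := ih (fun j hj => h j (Finset.mem_insert_of_mem hj))
    refine ⟨Z₁ ⊞ Z₂, biprod.lift a₁ a₂, biprod.desc b₁ b₂, ?_, ?_⟩
    · exact T.ext_of_isTriangulatedClosed₂ _ (binaryBiproductTriangle_distinguished Z₁ Z₂) hZ₁ hZ₂
    · rw [Finset.sum_insert his, h₁, h₂, biprod.lift_desc]

include hT in
lemma facProp_closed₂ : (facProp T).IsTriangulatedClosed₂ where
  ext₂' := by
    intro Δ hΔ h₁ h₃
    refine ObjectProperty.le_isoClosure _ _ (fun K hK f => ?_)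
    obtain ⟨Z₃, a₃, b₃, hZ₃, h3⟩ := h₃ K hK (f ≫ Δ.mor₂)
    obtain ⟨K', i, d, hK'⟩ := distinguished_cocone_triangle₁ a₃
    have hK'c : CohDer.IsCompactObject K' :=
      (compactProp D).ext_of_isTriangulatedClosed₁ _ hK' hK (hT _ hZ₃)
    obtain ⟨u, hu, hu'⟩ : ∃ u : K' ⟶ Δ.obj₁, i ≫ f = u ≫ Δ.mor₁ ∧ d ≫ u⟦(1 : ℤ)⟧' =
      b₃ ≫ Δ.mor₃ := complete_distinguished_triangle_morphism₁ _ _ hK' hΔ f b₃ h3.symm
    obtain ⟨Z₁, a₁, b₁, hZ₁, h1⟩ := h₁ K' hK'c u
    obtain ⟨Z₀, z₁, z₂, hZ⟩ := distinguished_cocone_triangle₂ (d ≫ a₁⟦(1 : ℤ)⟧')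
    obtain ⟨α, hα⟩ : ∃ α : K ⟶ Z₀, i ≫ α = a₁ ≫ z₁ := by
      obtain ⟨α, hα, -⟩ := complete_distinguished_triangle_morphism₂ _ _ hK' hZ a₁ (𝟙 Z₃)
        (Category.id_comp _).symm
      exact ⟨α, hα⟩
    obtain ⟨β, hβ⟩ : ∃ β : Z₀ ⟶ Δ.obj₂, z₁ ≫ β = b₁ ≫ Δ.mor₁ := by
      obtain ⟨β, hβ, -⟩ := complete_distinguished_triangle_morphism₂ _ _ hZ hΔ b₁ b₃
        (by
          refine Eq.trans ?_ hu'
          change (d ≫ a₁⟦(1 : ℤ)⟧') ≫ b₁⟦(1 : ℤ)⟧' = _
          rw [h1, Functor.map_comp, Category.assoc])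
      exact ⟨β, hβ⟩
    have hZ₀ : T Z₀ := T.ext_of_isTriangulatedClosed₂ _ hZ hZ₁ hZ₃
    have h0 : i ≫ (f - α ≫ β) = 0 := by
      rw [Preadditive.comp_sub, hu, h1, reassoc_of% hα, hβ, Category.assoc, sub_self]
    obtain ⟨γ, hγ⟩ : ∃ γ : Z₃ ⟶ Δ.obj₂, f - α ≫ β = a₃ ≫ γ := Triangle.yoneda_exact₂ _ hK' _ h0
    refine ⟨Z₀ ⊞ Z₃, biprod.lift α a₃, biprod.desc β γ,
      T.ext_of_isTriangulatedClosed₂ _ (binaryBiproductTriangle_distinguished Z₀ Z₃) hZ₀ hZ₃, ?_⟩
    rw [biprod.lift_desc, ← hγ]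
    abel

omit [IsTriangulated D] [T.IsClosedUnderIsomorphisms] in
lemma facProp_shift (X : D) (hX : facProp T X) (n : ℤ) :
    facProp T (X⟦n⟧) := by
  intro K hK f
  let e : (K⟦-n⟧)⟦n⟧ ≅ K := (shiftFunctorCompIsoId D (-n) n (by simp)).app K
  obtain ⟨f', hf'⟩ := (shiftFunctor D n).map_surjective (e.hom ≫ f)
  obtain ⟨Z, a, b, hZ, rfl⟩ := hX (K⟦-n⟧) (isCompactObject_shift hK (-n)) f'
  refine ⟨Z⟦n⟧, e.inv ≫ a⟦n⟧', b⟦n⟧', T.le_shift n _ hZ, ?_⟩
  rw [Category.assoc, ← Functor.map_comp, hf', Iso.inv_hom_id_assoc]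

omit [IsTriangulated D] in
lemma facProp_coprod (ι : Type v) (X : ι → D) (hX : ∀ i, facProp T (X i)) :
    facProp T (∐ X) := by
  intro K hK f
  obtain ⟨s, g, rfl⟩ := (isCompactObject_iff K).1 hK ι X f
  refine factor_sum T _ s _ (fun i _ => ?_)
  obtain ⟨Z, a, b, hZ, h⟩ := hX i K hK (g i)
  exact ⟨Z, a, b ≫ Sigma.ι X i, hZ, by rw [h, Category.assoc]⟩

omit [IsTriangulated D] [T.IsTriangulated] [T.IsClosedUnderIsomorphisms] in
lemma le_facProp : T ≤ facProp T := fun X hX K _ f => ⟨X, f, 𝟙 X, hX, by simp⟩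

instance : (facProp T).IsClosedUnderIsomorphisms where
  of_iso := by
    intro X Y e hX K hK f
    obtain ⟨Z, a, b, hZ, h⟩ := hX K hK (f ≫ e.inv)
    refine ⟨Z, a, b ≫ e.hom, hZ, ?_⟩
    rw [← Category.assoc, ← h, Category.assoc, e.inv_hom_id, Category.comp_id]

include hT in
lemma facProp_isTriangulated : (facProp T).IsTriangulated where
  exists_zero := by
    obtain ⟨Z, hZ, hZ'⟩ := T.exists_prop_of_containsZero
    exact ⟨Z, hZ, le_facProp T _ hZ'⟩
  isStableUnderShiftBy n := ⟨fun X hX => facProp_shift T X hX n⟩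
  ext₂' := (facProp_closed₂ T hT).ext₂'

variable (E : D)

instance (P : ObjectProperty D) : P.leftOrthogonal.IsStableUnderRetracts where
  of_retract := by
    intro K L r hL Y f hY
    have h := hL (r.r ≫ f) hY
    have : f = r.i ≫ r.r ≫ f := by simp
    rw [this, h, comp_zero]

/-- The shifts of an object. -/
def shiftsProp (K : D) : ObjectProperty D := fun Y => ∃ n : ℤ, Nonempty (Y ≅ K⟦n⟧)

instance (K : D) : (shiftsProp K).IsStableUnderShift ℤ where
  isStableUnderShiftBy m := ⟨fun Y ⟨n, ⟨e⟩⟩ => ⟨n + m,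
    ⟨(shiftFunctor D m).mapIso e ≪≫ ((shiftFunctorAdd D n m).app K).symm⟩⟩⟩

lemma generates_of_le (h : CohDer.IsCompactlyGenerated D)
    (h' : ∀ X : D, CohDer.IsCompactObject X → triangEnvelope (fun Y : D => Y = E) X) :
    CohDer.Generates (fun _ : Unit => E) := by
  obtain ⟨ι, G, hG, hgen⟩ := h
  intro K hK
  refine hgen K (fun i n f => ?_)
  have h1 : triangEnvelope (fun Y : D => Y = E) ≤ (shiftsProp K).leftOrthogonal := by
    rw [triangEnvelope_le_iff]
    rintro _ rfl Y f ⟨m, ⟨e⟩⟩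
    rw [← cancel_mono e.hom, zero_comp]
    exact hK () m _
  exact h1 _ (h' _ (hG i)) f ⟨n, ⟨Iso.refl _⟩⟩

lemma le_of_generates [HasCoproductsOfShape ℕ D] (hE : CohDer.IsCompactObject E)
    (hgen : CohDer.Generates (fun _ : Unit => E)) :
    CohDer.IsCompactlyGenerated D ∧
      ∀ X : D, CohDer.IsCompactObject X → triangEnvelope (fun Y : D => Y = E) X := by
  constructor
  · refine ⟨PUnit, fun _ => E, fun _ => hE, fun K hK => hgen K (fun _ n f => hK ⟨⟩ n f)⟩
  · intro X hX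
    let T : ObjectProperty D := triangEnvelope (fun Y : D => Y = E)
    have : ObjectProperty.Nonempty (fun Y : D => Y = E) := ⟨E, rfl⟩
    have hT : T ≤ compactProp D := by
      rw [triangEnvelope_le_iff]
      rintro _ rfl
      exact hE
    have hTE : T E := le_triangEnvelope _ _ rfl
    have := facProp_isTriangulated T hT
    obtain ⟨Z, a, b, hZ, h⟩ := prop_of_generates (facProp T)
      (fun ι X hX => facProp_coprod T ι X hX) E hE (le_facProp T _ hTE) hgen X X hX (𝟙 X)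
    exact T.prop_of_retract ⟨a, b, h.symm⟩ hZ

end

open CategoryTheory.Limits in
/-- Stacks Tag 09SR: let D be a triangulated category with all small direct sums and E a compact object. Then E generates D (an object admitting only zero maps from all shifts of E is zero) if and only if D is compactly generated and every compact object lies in the triangulated envelope of E (objects reachable from E by shifts, finite sums, direct summands and extensions). -/
theorem result {D : Type u} [Category.{v} D] [Preadditive D] [Limits.HasZeroObject D] [HasShift D ℤ]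
    [∀ n : ℤ, (shiftFunctor D n).Additive] [Pretriangulated D] [IsTriangulated D] [HasCoproducts.{v} D]
    [HasColimitsOfShape (Discrete ℕ) D]
    (E : D) (hE : CohDer.IsCompactObject E) :
    CohDer.Generates (fun _ : Unit => E) ↔
      (CohDer.IsCompactlyGenerated D ∧ ∀ X : D, CohDer.IsCompactObject X → ObjectProperty.triangEnvelope (fun Y : D => Y = E) X) := by
  exact ⟨fun h => le_of_generates E hE h, fun h => generates_of_le E h.1 h.2⟩

end Groth.Agent.S0978
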