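import Groth.Statements.S0982
import Groth.Agent.Cohder.TruncFactor

set_option autoImplicit false
universe w v u
open CategoryTheory CategoryTheory.Limits
open CohDer

namespace Groth.Agent.S0982

/-- Stacks Tag 08Q2 (first half): let K : ℕ ⥤ CochainComplex A ℤ be a sequence of cochain maps K₀ → K₁ → K₂ → … in an abelian category with Hⁱ(K₀) = 0 for i > 0 and such that for every j < n the map H⁻ʲ(Kⱼ) → H⁻ʲ(Kⱼ₊₁) is zero. Then in the derived category the composite K₀ → Kₙ factors through the canonical truncation τ_{≤ -n}Kₙ → Kₙ. -/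
theorem result {A : Type u} [Category.{v} A] [Abelian A] [HasDerivedCategory.{w} A]
    (K : ℕ ⥤ CochainComplex A ℤ) (n : ℕ)
    (h0 : ∀ i : ℤ, 0 < i → IsZero ((K.obj 0).homology i))
    (hz : ∀ j : ℕ, j < n → HomologicalComplex.homologyMap (K.map (homOfLE (Nat.le_succ j))) (-(j : ℤ)) = 0) :
    ∃ φ : DerivedCategory.Q.obj (K.obj 0) ⟶ DerivedCategory.Q.obj ((K.obj n).truncLE (-(n : ℤ))),
      φ ≫ DerivedCategory.Q.map ((K.obj n).ιTruncLE (-(n : ℤ))) = DerivedCategory.Q.map (K.map (homOfLE (Nat.zero_le n))) := by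
  induction n with
  | zero =>
    have : (K.obj 0).IsLE 0 := by
      rw [CochainComplex.isLE_iff]
      intro i hi
      rw [HomologicalComplex.exactAt_iff_isZero_homology]
      exact h0 i hi
    have h2 : IsIso (DerivedCategory.Q.map ((K.obj 0).ιTruncLE (-((0 : ℕ) : ℤ)))) := by
      rw [DerivedCategory.isIso_Q_map_iff_quasiIso, CochainComplex.quasiIso_ιTruncLE_iff]
      simpa using this
    refine ⟨inv (DerivedCategory.Q.map ((K.obj 0).ιTruncLE (-((0 : ℕ) : ℤ)))), ?_⟩
    rw [IsIso.inv_hom_id]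
    have : homOfLE (Nat.zero_le 0) = 𝟙 (0 : ℕ) := rfl
    rw [this, K.map_id, CategoryTheory.Functor.map_id]
  | succ m ih =>
    obtain ⟨φ, hφ⟩ := ih (fun j hj => hz j (by lia))
    have e : K.map (homOfLE (Nat.zero_le (m + 1))) =
        K.map (homOfLE (Nat.zero_le m)) ≫ K.map (homOfLE (Nat.le_succ m)) := by
      rw [← K.map_comp]; rfl
    refine Groth.Agent.Cohder.TruncFactor.exists_lift_truncLE _ (-((m + 1 : ℕ) : ℤ)) (-(m : ℤ)) (by simp) _ ?_
    rw [e, CategoryTheory.Functor.map_comp, ← hφ]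
    have hv : DerivedCategory.Q.map ((K.obj m).ιTruncLE (-(m : ℤ))) ≫
        DerivedCategory.Q.map (K.map (homOfLE (Nat.le_succ m))) ≫
          DerivedCategory.Q.map ((K.obj (m + 1)).πTruncGE (-(m : ℤ))) = 0 := by
      rw [← CategoryTheory.Functor.map_comp, ← CategoryTheory.Functor.map_comp]
      apply Groth.Agent.Cohder.TruncFactor.Q_hom_eq_zero (-(m : ℤ))
      rw [CategoryTheory.Functor.map_comp, CategoryTheory.Functor.map_comp, CategoryTheory.Functor.map_comp, CategoryTheory.Functor.map_comp,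
        Groth.Agent.Cohder.TruncFactor.homologyFunctor_map_Q_map_eq_zero _ _ (hz m (by lia))]
      simp
    simp only [Category.assoc, hv, comp_zero]

end Groth.Agent.S0982
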