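import Groth.Statements.S0983
-- import your own Groth.Agent.* helpers here

set_option autoImplicit false
universe v u
open CategoryTheory
open CohDer

namespace Groth.Agent.S0983

open CategoryTheory.Pretriangulated in
/-- Stacks Tag 05R0: in a triangulated category, a commutative square f ≫ v = u ≫ f' (with f : X ⟶ Y, f' : X' ⟶ Y', u : X ⟶ X', v : Y ⟶ Y') extends to a diagram with three distinguished rows (X, Y, Z), (X', Y', Z'), (X'', Y'', Z'') and three distinguished columns (X, X', X''), (Y, Y', Y''), (Z, Z', Z''), in which all squares commute except the one formed by the third morphisms of the last row and last column, which anticommutes; the fourth row and column are the shifts of the first ones. -/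
theorem result {D : Type u} [Category.{v} D] [Preadditive D] [Limits.HasZeroObject D] [HasShift D ℤ]
    [∀ n : ℤ, (shiftFunctor D n).Additive] [Pretriangulated D] [IsTriangulated D]
    {X Y X' Y' : D} (f : X ⟶ Y) (f' : X' ⟶ Y') (u : X ⟶ X') (v : Y ⟶ Y') (comm : f ≫ v = u ≫ f') :
    ∃ (Z Z' X'' Y'' Z'' : D) (g : Y ⟶ Z) (h : Z ⟶ (shiftFunctor D (1 : ℤ)).obj X)
      (g' : Y' ⟶ Z') (h' : Z' ⟶ (shiftFunctor D (1 : ℤ)).obj X')
      (f'' : X'' ⟶ Y'') (g'' : Y'' ⟶ Z'') (h'' : Z'' ⟶ (shiftFunctor D (1 : ℤ)).obj X'')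
      (u' : X' ⟶ X'') (u'' : X'' ⟶ (shiftFunctor D (1 : ℤ)).obj X)
      (v' : Y' ⟶ Y'') (v'' : Y'' ⟶ (shiftFunctor D (1 : ℤ)).obj Y)
      (w : Z ⟶ Z') (w' : Z' ⟶ Z'') (w'' : Z'' ⟶ (shiftFunctor D (1 : ℤ)).obj Z),
      Triangle.mk f g h ∈ distinguishedTriangles ∧ Triangle.mk f' g' h' ∈ distinguishedTriangles ∧
      Triangle.mk f'' g'' h'' ∈ distinguishedTriangles ∧
      Triangle.mk u u' u'' ∈ distinguishedTriangles ∧ Triangle.mk v v' v'' ∈ distinguishedTriangles ∧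
      Triangle.mk w w' w'' ∈ distinguishedTriangles ∧
      g ≫ w = v ≫ g' ∧ h ≫ (shiftFunctor D (1 : ℤ)).map u = w ≫ h' ∧
      f' ≫ v' = u' ≫ f'' ∧ g' ≫ w' = v' ≫ g'' ∧ h' ≫ (shiftFunctor D (1 : ℤ)).map u' = w' ≫ h'' ∧
      f'' ≫ v'' = u'' ≫ (shiftFunctor D (1 : ℤ)).map f ∧ g'' ≫ w'' = v'' ≫ (shiftFunctor D (1 : ℤ)).map g ∧
      h'' ≫ (shiftFunctor D (1 : ℤ)).map u'' = -(w'' ≫ (shiftFunctor D (1 : ℤ)).map h) := by
  obtain ⟨Z, g, h, hZ⟩ := distinguished_cocone_triangle f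
  obtain ⟨Z', g', h', hZ'⟩ := distinguished_cocone_triangle f'
  obtain ⟨X'', u', u'', hX''⟩ := distinguished_cocone_triangle u
  obtain ⟨Y'', v', v'', hY''⟩ := distinguished_cocone_triangle v
  obtain ⟨A, a, b, hA⟩ := distinguished_cocone_triangle (f ≫ v)
  obtain ⟨m₁, m₃, c₁, c₂, c₃, c₄, hm⟩ :=
    Triangulated.someOctahedron (rfl : f ≫ v = f ≫ v) hZ hY'' hA
  obtain ⟨n₁, n₃, d₁, d₂, d₃, d₄, hn⟩ :=
    Triangulated.someOctahedron (comm.symm : u ≫ f' = f ≫ v) hX'' hZ' hA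
  obtain ⟨Z'', g'', h'', hZ''⟩ := distinguished_cocone_triangle (n₁ ≫ m₃)
  have hr : Triangle.mk m₃ (v'' ≫ (shiftFunctor D (1 : ℤ)).map g)
      (-(shiftFunctor D (1 : ℤ)).map m₁) ∈ distinguishedTriangles :=
    rot_of_distTriang _ hm
  obtain ⟨p₁, p₃, e₁, e₂, e₃, e₄, hp⟩ :=
    Triangulated.someOctahedron (rfl : n₁ ≫ m₃ = n₁ ≫ m₃) hn hr hZ''
  have hW : Triangle.mk (m₁ ≫ n₃) p₁ p₃ ∈ distinguishedTriangles := by
    rw [rotate_distinguished_triangle]
    have : (-(shiftFunctor D (1 : ℤ)).map m₁) ≫ (shiftFunctor D (1 : ℤ)).map n₃ =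
        -(shiftFunctor D (1 : ℤ)).map (m₁ ≫ n₃) := by
      rw [Preadditive.neg_comp, Functor.map_comp]
    rw [this] at hp
    exact hp
  refine ⟨Z, Z', X'', Y'', Z'', g, h, g', h', n₁ ≫ m₃, g'', h'', u', u'', v', v'',
    m₁ ≫ n₃, p₁, p₃, hZ, hZ', hZ'', hX'', hY'', hW, ?_, ?_, ?_, ?_, ?_, ?_, ?_, ?_⟩
  · rw [← Category.assoc, c₁, Category.assoc, d₃]
  · rw [Category.assoc, ← d₄, ← Category.assoc, c₂]
  · rw [← Category.assoc, d₁, Category.assoc, c₃]
  · rw [← d₃, ← c₃, Category.assoc, Category.assoc, e₁]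
  · exact e₂.symm
  · rw [Category.assoc, ← c₄, ← Category.assoc, d₂]
  · exact e₃
  · rw [← d₂, Functor.map_comp, ← Category.assoc, e₄, Category.assoc, ← c₂, Functor.map_comp,
      Preadditive.neg_comp, Preadditive.comp_neg]

end Groth.Agent.S0983
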