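import Groth.Statements.S0984
import Groth.Agent.Cohder.CompactHocolim

set_option autoImplicit false
universe v u
open CategoryTheory
open DerLim

namespace Groth.Agent.S0984

section

open CategoryTheory.Limits CategoryTheory.Pretriangulated

variable {D : Type u} [Category.{v} D] [Preadditive D] [Limits.HasZeroObject D] [HasShift D ℤ]
    [∀ n : ℤ, (shiftFunctor D n).Additive] [Pretriangulated D] [HasCoproducts.{v} D]
    {ι : Type v} (E : ι → D) {X : D}

/-- the index type of the morphisms from shifts of members of `E` to `K` killed by `p` -/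
abbrev Idx {K : D} (p : K ⟶ X) : Type v :=
  Σ (i : ι) (m : ℤ), {φ : (shiftFunctor D m).obj (E i) ⟶ K // φ ≫ p = 0}

/-- the object `Y` -/
noncomputable abbrev idxObj {K : D} (p : K ⟶ X) : D :=
  ∐ fun k : Idx E p => (shiftFunctor D k.2.1).obj (E k.1)

/-- the universal morphism `Y ⟶ K`. -/
noncomputable def idxMap {K : D} (p : K ⟶ X) : idxObj E p ⟶ K :=
  Sigma.desc (fun k => k.2.2.1)

lemma idxMap_comp {K : D} (p : K ⟶ X) : idxMap E p ≫ p = 0 := by
  apply Sigma.hom_ext
  intro k
  rw [← Category.assoc, idxMap, Sigma.ι_desc, k.2.2.2, comp_zero]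

lemma exists_next {K : D} (p : K ⟶ X) :
    ∃ (K' : D) (f : K ⟶ K') (z : K' ⟶ (shiftFunctor D (1 : ℤ)).obj (idxObj E p)) (p' : K' ⟶ X),
      Triangle.mk (idxMap E p) f z ∈ distinguishedTriangles ∧ f ≫ p' = p := by
  obtain ⟨K', f, z, hT⟩ := distinguished_cocone_triangle (idxMap E p)
  obtain ⟨p', hp'⟩ : ∃ p' : K' ⟶ X, p = f ≫ p' :=
    Triangle.yoneda_exact₂ _ hT p (idxMap_comp E p)
  exact ⟨K', f, z, p', hT, hp'.symm⟩

/-- next term of the tower -/
noncomputable def next (s : Σ K : D, (K ⟶ X)) : Σ K : D, (K ⟶ X) :=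
  ⟨(exists_next E s.2).choose, (exists_next E s.2).choose_spec.choose_spec.choose_spec.choose⟩

/-- transition map -/
noncomputable def trans (s : Σ K : D, (K ⟶ X)) : s.1 ⟶ (next E s).1 :=
  (exists_next E s.2).choose_spec.choose

/-- connecting map -/
noncomputable def conn (s : Σ K : D, (K ⟶ X)) :
    (next E s).1 ⟶ (shiftFunctor D (1 : ℤ)).obj (idxObj E s.2) :=
  (exists_next E s.2).choose_spec.choose_spec.choose

lemma triangle_mem (s : Σ K : D, (K ⟶ X)) :
    Triangle.mk (idxMap E s.2) (trans E s) (conn E s) ∈ distinguishedTriangles :=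
  (exists_next E s.2).choose_spec.choose_spec.choose_spec.choose_spec.1

lemma trans_comp (s : Σ K : D, (K ⟶ X)) : trans E s ≫ (next E s).2 = s.2 :=
  (exists_next E s.2).choose_spec.choose_spec.choose_spec.choose_spec.2

/-- the tower -/
noncomputable def tower (s : Σ K : D, (K ⟶ X)) : ℕ → Σ K : D, (K ⟶ X)
  | 0 => s
  | n + 1 => next E (tower s n)

lemma comp_trans_eq_zero (s : Σ K : D, (K ⟶ X)) (i : ι) (m : ℤ)
    (φ : (shiftFunctor D m).obj (E i) ⟶ s.1) (hφ : φ ≫ s.2 = 0) : φ ≫ trans E s = 0 := by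
  have h1 : idxMap E s.2 ≫ trans E s = 0 := comp_distTriang_mor_zero₁₂ _ (triangle_mem E s)
  have h2 : φ = Sigma.ι (fun k : Idx E s.2 => (shiftFunctor D k.2.1).obj (E k.1)) ⟨i, m, φ, hφ⟩ ≫
      idxMap E s.2 := by
    rw [idxMap, Sigma.ι_desc]
  rw [h2, Category.assoc, h1, comp_zero]

end

open CategoryTheory.Limits CategoryTheory.Pretriangulated in
/-- Stacks Tag 09SN: let D be a triangulated category with all small direct sums and E a small family of compact objects which generates D. Every object X of D is a homotopy colimit of a sequential system X₀ → X₁ → X₂ → … in which X₀ is a direct sum of shifts of members of E and each transition map Xₙ → Xₙ₊₁ sits in a distinguished triangle Yₙ → Xₙ → Xₙ₊₁ → Yₙ[1] with Yₙ a direct sum of shifts of members of E. -/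
theorem result {D : Type u} [Category.{v} D] [Preadditive D] [Limits.HasZeroObject D] [HasShift D ℤ]
    [∀ n : ℤ, (shiftFunctor D n).Additive] [Pretriangulated D] [IsTriangulated D] [HasCoproducts.{v} D]
    [HasColimitsOfShape (Discrete ℕ) D]
    {ι : Type v} (E : ι → D) (hc : ∀ i, CohDer.IsCompactObject (E i)) (hg : CohDer.Generates E) (X : D) :
    ∃ (K : ℕ → D) (f : ∀ n, K n ⟶ K (n + 1)) (i : ∀ n, K n ⟶ X),
      DerLim.IsHocolim K f X i ∧
      (∃ (κ : Type v) (a : κ → ι) (m : κ → ℤ), Nonempty (K 0 ≅ ∐ (fun k => (shiftFunctor D (m k)).obj (E (a k))))) ∧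
      ∀ n, ∃ (κ : Type v) (a : κ → ι) (m : κ → ℤ) (y : (∐ fun k => (shiftFunctor D (m k)).obj (E (a k))) ⟶ K n)
        (z : K (n + 1) ⟶ (shiftFunctor D (1 : ℤ)).obj (∐ fun k => (shiftFunctor D (m k)).obj (E (a k)))),
        Triangle.mk y (f n) z ∈ distinguishedTriangles := by
  let κ₀ : Type v := Σ (i : ι) (m : ℤ), ((shiftFunctor D m).obj (E i) ⟶ X)
  let s₀ : Σ K : D, (K ⟶ X) :=
    ⟨∐ (fun k : κ₀ => (shiftFunctor D k.2.1).obj (E k.1)), Sigma.desc (fun k => k.2.2)⟩
  refine ⟨fun n => (tower E s₀ n).1, fun n => trans E (tower E s₀ n),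
    fun n => (tower E s₀ n).2, ?_, ?_, ?_⟩
  · apply Groth.Agent.Cohder.CompactHocolim.isHocolim_of_generates E hg hc
    · intro n
      exact trans_comp E (tower E s₀ n)
    · intro j m β
      exact ⟨Sigma.ι (fun k : κ₀ => (shiftFunctor D k.2.1).obj (E k.1)) ⟨j, m, β⟩,
        Sigma.ι_desc _ _⟩
    · intro n j m α hα
      exact comp_trans_eq_zero E (tower E s₀ n) j m α hα
  · exact ⟨κ₀, fun k => k.1, fun k => k.2.1, ⟨Iso.refl _⟩⟩
  · intro n
    exact ⟨Idx E (tower E s₀ n).2, fun k => k.1, fun k => k.2.1, idxMap E (tower E s₀ n).2,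
      conn E (tower E s₀ n), triangle_mem E (tower E s₀ n)⟩

end Groth.Agent.S0984
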