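import Groth.Statements.S0985
import Mathlib.Algebra.Homology.GrothendieckAbelian
import Mathlib.Algebra.Homology.DerivedCategory.ShortExact
import Groth.Agent.Cohder.Telescope

set_option autoImplicit false
universe w v u
open CategoryTheory CategoryTheory.Limits
open DerLim

namespace Groth.Agent.S0985

/-- Stacks Tag 0949: let A be an abelian category in which colimits of sequences ℕ ⥤ A exist and are exact, and let L : ℕ ⥤ CochainComplex A ℤ be a sequence of complexes. Then the image in the derived category of the termwise colimit of L, with the canonical maps from the Lₙ, is a homotopy colimit of the images of the Lₙ — assuming the termwise direct sum of the Lₙ exists and is preserved by the localization functor to D(A) (the content of Stacks Tag 0A5L, carried here as a hypothesis), and that the direct sum of the images exists in D(A). -/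
theorem result {A : Type u} [Category.{v} A] [Abelian A] [HasDerivedCategory.{w} A]
    [HasColimitsOfShape ℕ A] [HasExactColimitsOfShape ℕ A]
    (L : ℕ ⥤ CochainComplex A ℤ) [HasCoproduct L.obj] [PreservesColimit (Discrete.functor L.obj) (DerivedCategory.Q (C := A))]
    [HasCoproduct (fun n => DerivedCategory.Q.obj (L.obj n))] :
    DerLim.IsHocolim (fun n => DerivedCategory.Q.obj (L.obj n)) (fun n => DerivedCategory.Q.map (L.map (homOfLE (Nat.le_succ n))))
      (DerivedCategory.Q.obj (colimit L)) (fun n => DerivedCategory.Q.map (colimit.ι L n)) := by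
  let S : ShortComplex (CochainComplex A ℤ) :=
    ShortComplex.mk _ _ (Groth.Agent.Cohder.Telescope.telescope_w L)
  have hS : S.ShortExact := Groth.Agent.Cohder.Telescope.telescope_shortExact L
  let e : DerivedCategory.Q.obj (∐ L.obj) ≅ ∐ (fun n => DerivedCategory.Q.obj (L.obj n)) :=
    PreservesCoproduct.iso DerivedCategory.Q L.obj
  have he : ∀ n, DerivedCategory.Q.map (Sigma.ι L.obj n) ≫ e.hom =
      Sigma.ι (fun n => DerivedCategory.Q.obj (L.obj n)) n := fun n => by
    rw [← Iso.eq_comp_inv]
    exact (ι_comp_sigmaComparison DerivedCategory.Q L.obj n).symm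
  have he' : ∀ n, Sigma.ι (fun n => DerivedCategory.Q.obj (L.obj n)) n ≫ e.inv =
      DerivedCategory.Q.map (Sigma.ι L.obj n) := fun n => by
    rw [Iso.comp_inv_eq, he]
  have h₁ : (𝟙 (∐ fun n => DerivedCategory.Q.obj (L.obj n)) -
      shiftMap (fun n => DerivedCategory.Q.obj (L.obj n))
        fun n => DerivedCategory.Q.map (L.map (homOfLE (Nat.le_succ n)))) ≫ e.inv =
      e.inv ≫ DerivedCategory.Q.map
        (𝟙 (∐ L.obj) - shiftMap L.obj fun n => L.map (homOfLE (Nat.le_succ n))) := by
    apply Sigma.hom_ext
    intro n
    rw [Preadditive.sub_comp, Preadditive.comp_sub, Category.id_comp, reassoc_of% he',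
      DerLim.shiftMap, Sigma.ι_desc_assoc, Category.assoc, he', he', ← Functor.map_comp,
      ← Functor.map_comp, ← Functor.map_sub]
    congr 1
    rw [Preadditive.comp_sub, Category.comp_id, DerLim.shiftMap, Sigma.ι_desc]
  have h₂ : (Sigma.desc fun n => DerivedCategory.Q.map (colimit.ι L n)) =
      e.inv ≫ DerivedCategory.Q.map (Sigma.desc fun n => colimit.ι L n) := by
    apply Sigma.hom_ext
    intro n
    rw [Sigma.ι_desc, reassoc_of% he', ← Functor.map_comp, Sigma.ι_desc]
  have h₃ : (DerivedCategory.triangleOfSESδ hS ≫ (shiftFunctor _ (1 : ℤ)).map e.hom) ≫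
      (shiftFunctor _ (1 : ℤ)).map e.inv = DerivedCategory.triangleOfSESδ hS := by
    rw [Category.assoc, ← Functor.map_comp, Iso.hom_inv_id, CategoryTheory.Functor.map_id]
    exact Category.comp_id _
  refine ⟨DerivedCategory.triangleOfSESδ hS ≫ (shiftFunctor _ (1 : ℤ)).map e.hom, ?_⟩
  exact Pretriangulated.isomorphic_distinguished _
    (DerivedCategory.triangleOfSES_distinguished hS) _
    (Pretriangulated.Triangle.isoMk _ _ e.symm e.symm (Iso.refl _) h₁
      ((Category.comp_id _).trans h₂) (h₃.trans (Category.id_comp _).symm))

end Groth.Agent.S0985
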