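import Groth.Statements.S0987
import Groth.Agent.Cohder.KZDevissage

set_option autoImplicit false
universe w v u
open CategoryTheory CategoryTheory.Limits
open KZero

namespace Groth.Agent.S0987

open Groth.Agent.Cohder.KZBasic Groth.Agent.Cohder.KZEuler Groth.Agent.Cohder.KZDevissage

section

variable (A : Type u) [Category.{v} A] [Abelian A]

/-- The map from K₀(A) to K₀ of the full subcategory of all objects. -/
noncomputable def toSub : KZero.K0 A →+ KZero.K0sub (fun _ : A => True) :=
  QuotientAddGroup.lift _ (FreeAbelianGroup.lift (fun X => KZero.clSub (fun _ : A => True) X)) (by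
    rw [KZero.relAb, AddSubgroup.closure_le]
    rintro x ⟨S, hS, rfl⟩
    simp only [SetLike.mem_coe, AddMonoidHom.mem_ker, map_sub, FreeAbelianGroup.lift_apply_of]
    rw [clSub_shortExact (fun _ : A => True) S hS trivial trivial trivial]
    abel)

lemma toSub_cl (X : A) : toSub A (KZero.cl X) = KZero.clSub (fun _ : A => True) X := by
  simp [toSub, KZero.cl]

lemma cl_shortExact (S : ShortComplex A) (hS : S.ShortExact) :
    KZero.cl S.X₂ = KZero.cl S.X₁ + KZero.cl S.X₃ := by
  rw [KZero.cl, KZero.cl, KZero.cl, ← QuotientAddGroup.mk_add, QuotientAddGroup.eq]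
  have : FreeAbelianGroup.of S.X₂ - FreeAbelianGroup.of S.X₁ -
      FreeAbelianGroup.of S.X₃ ∈ KZero.relAb A :=
    AddSubgroup.subset_closure ⟨S, hS, rfl⟩
  rw [← AddSubgroup.neg_mem_iff]
  convert this using 1
  abel

/-- The inverse map. -/
noncomputable def ofSub : KZero.K0sub (fun _ : A => True) →+ KZero.K0 A :=
  liftSub (fun _ : A => True) (fun X => KZero.cl X.1)
    (fun S _ _ _ hS => cl_shortExact A S hS)

lemma ofSub_cl (X : A) : ofSub A (KZero.clSub (fun _ : A => True) X) = KZero.cl X :=
  liftSub_cl (fun _ : A => True) _ _ trivial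

/-- K₀(A) agrees with K₀ of the full subcategory of all objects. -/
noncomputable def K0_equiv : KZero.K0 A ≃+ KZero.K0sub (fun _ : A => True) :=
  AddMonoidHom.toAddEquiv (toSub A) (ofSub A) (by
    apply QuotientAddGroup.addMonoidHom_ext
    apply FreeAbelianGroup.lift_ext
    intro X
    exact (congrArg (ofSub A) (toSub_cl A X)).trans (ofSub_cl A X)) (by
    apply hom_ext_sub
    intro X _
    exact (congrArg (toSub A) (ofSub_cl A X)).trans (toSub_cl A X))

lemma K0_equiv_cl (X : A) : K0_equiv A (KZero.cl X) = KZero.clSub (fun _ : A => True) X :=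
  toSub_cl A X

end

/-- Stacks Tag 0FCP: for an abelian category A there is an isomorphism between K₀(A) and K₀ of the bounded derived category D^b(A) (objects of D(A) with bounded cohomology, with the distinguished triangles of D(A)) which sends the class of an object X to the class of X placed in degree 0. -/
theorem result (A : Type u) [Category.{v} A] [Abelian A] [HasDerivedCategory.{w} A] :
    ∃ φ : KZero.K0 A ≃+ KZero.K0tr (fun X : DerivedCategory A => ∃ a b : ℤ, X.IsGE a ∧ X.IsLE b),
      ∀ X : A, φ (KZero.cl X) =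
        KZero.clTr (fun X : DerivedCategory A => ∃ a b : ℤ, X.IsGE a ∧ X.IsLE b) ((DerivedCategory.singleFunctor A 0).obj X) := by
  have hP : KClosed (fun _ : A => True) :=
    { zero := fun _ _ => trivial
      ker := fun _ _ _ => trivial
      coker := fun _ _ _ => trivial
      ext := fun _ _ _ _ => trivial }
  obtain ⟨φ, hφ⟩ := exists_equiv hP
    (fun X : DerivedCategory A => ∃ a b : ℤ, X.IsGE a ∧ X.IsLE b)
    (fun K => ⟨fun h => ⟨fun _ => trivial, h⟩, fun h => h.2⟩)
  refine ⟨(K0_equiv A).trans φ, fun X => ?_⟩
  rw [AddEquiv.trans_apply, K0_equiv_cl]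
  exact hφ X trivial

end Groth.Agent.S0987
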