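import Groth.Statements.S0989

set_option autoImplicit false
universe w v u
open CategoryTheory CategoryTheory.Limits
open CohDer

namespace Groth.Agent.S0989

open scoped ZeroObject

lemma exact_mk₄ {A : Type u} [Category.{v} A] [Abelian A] {X₀ X₁ X₂ X₃ X₄ : A}
    (f₀ : X₀ ⟶ X₁) (f₁ : X₁ ⟶ X₂) (f₂ : X₂ ⟶ X₃) (f₃ : X₃ ⟶ X₄)
    (w₀ : f₀ ≫ f₁ = 0) (w₁ : f₁ ≫ f₂ = 0) (w₂ : f₂ ≫ f₃ = 0)
    (h₀ : (ShortComplex.mk f₀ f₁ w₀).Exact) (h₁ : (ShortComplex.mk f₁ f₂ w₁).Exact)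
    (h₂ : (ShortComplex.mk f₂ f₃ w₂).Exact) :
    (ComposableArrows.mk₄ f₀ f₁ f₂ f₃).Exact :=
  ComposableArrows.exact_of_δ₀ h₀.exact_toComposableArrows
    (ComposableArrows.exact_of_δ₀ h₁.exact_toComposableArrows h₂.exact_toComposableArrows)

section

variable {A : Type u} [Category.{v} A] [Abelian A] (P : ObjectProperty A)
    (hP : ∀ S : ComposableArrows A 4, S.Exact → P (S.obj 0) → P (S.obj 1) → P (S.obj 3) →
      P (S.obj 4) → P (S.obj 2))
include hP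

lemma prop_of_exact {X₀ X₁ X₂ X₃ X₄ : A}
    (f₀ : X₀ ⟶ X₁) (f₁ : X₁ ⟶ X₂) (f₂ : X₂ ⟶ X₃) (f₃ : X₃ ⟶ X₄)
    (w₀ : f₀ ≫ f₁ = 0) (w₁ : f₁ ≫ f₂ = 0) (w₂ : f₂ ≫ f₃ = 0)
    (h₀ : (ShortComplex.mk f₀ f₁ w₀).Exact) (h₁ : (ShortComplex.mk f₁ f₂ w₁).Exact)
    (h₂ : (ShortComplex.mk f₂ f₃ w₂).Exact) (p₀ : P X₀) (p₁ : P X₁) (p₃ : P X₃) (p₄ : P X₄) :
    P X₂ :=
  hP (ComposableArrows.mk₄ f₀ f₁ f₂ f₃) (exact_mk₄ f₀ f₁ f₂ f₃ w₀ w₁ w₂ h₀ h₁ h₂) p₀ p₁ p₃ p₄

lemma prop_of_isKernel {Z X Y K : A} (hZ : IsZero Z) (pZ : P Z) (i : K ⟶ X) (f : X ⟶ Y)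
    (w : i ≫ f = 0) (hK : (ShortComplex.mk i f w).Exact) [Mono i] (pX : P X) (pY : P Y) : P K := by
  refine prop_of_exact P hP (0 : Z ⟶ Z) (0 : Z ⟶ K) i f (by simp) (by simp) w
    ?_ ?_ hK pZ pZ pX pY
  · exact ShortComplex.exact_of_isZero_X₂ _ hZ
  · exact (ShortComplex.exact_iff_mono _ (by simp)).2 inferInstance

lemma prop_of_retract {Z : A} (hZ : IsZero Z) (pZ : P Z) {M N : A} (h : Retract M N) (pN : P N) :
    P M := by
  have : Mono h.i := (SplitMono.mk h.r h.retract).mono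
  have w : h.i ≫ (𝟙 N - h.r ≫ h.i) = 0 := by simp [Preadditive.comp_sub]
  refine prop_of_isKernel P hP hZ pZ h.i (𝟙 N - h.r ≫ h.i) w ?_ pN pN
  refine ShortComplex.exact_of_f_is_kernel _ (KernelFork.IsLimit.ofι' _ _ ?_)
  intro W k hk
  refine ⟨k ≫ h.r, ?_⟩
  dsimp at hk ⊢
  rw [Preadditive.comp_sub, Category.comp_id, sub_eq_zero] at hk
  rw [Category.assoc, ← hk]

end

/-- Stacks Tag 06UQ: let P be a weak Serre class in an abelian category A: P is closed under isomorphisms, holds for a zero object, and whenever X₀ → X₁ → X₂ → X₃ → X₄ is exact with P holding for X₀, X₁, X₃, X₄ it holds for X₂. Then the class of objects of the derived category all of whose cohomology objects satisfy P is a triangulated subcategory (contains zero, stable under shifts, closed under extensions) which is moreover closed under retracts (saturated). -/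
theorem result {A : Type u} [Category.{v} A] [Abelian A] [HasDerivedCategory.{w} A]
    (P : ObjectProperty A) [P.IsClosedUnderIsomorphisms] (h0 : ∃ Z : A, IsZero Z ∧ P Z)
    (hP : ∀ S : ComposableArrows A 4, S.Exact → P (S.obj 0) → P (S.obj 1) → P (S.obj 3) → P (S.obj 4) → P (S.obj 2)) :
    ObjectProperty.IsTriangulated (fun X : DerivedCategory A => ∀ n : ℤ, P ((DerivedCategory.homologyFunctor A n).obj X)) ∧
    ObjectProperty.IsStableUnderRetracts (fun X : DerivedCategory A => ∀ n : ℤ, P ((DerivedCategory.homologyFunctor A n).obj X)) := by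
  obtain ⟨Z, hZ, pZ⟩ := h0
  let Q : ObjectProperty (DerivedCategory A) :=
    fun X : DerivedCategory A => ∀ n : ℤ, P ((DerivedCategory.homologyFunctor A n).obj X)
  change Q.IsTriangulated ∧ Q.IsStableUnderRetracts
  have hiso : Q.IsClosedUnderIsomorphisms := ⟨fun {X Y} e hX n =>
    P.prop_of_iso ((DerivedCategory.homologyFunctor A n).mapIso e) (hX n)⟩
  have hz : Q.ContainsZero := ⟨⟨_, isZero_zero (DerivedCategory A), fun n => P.prop_of_iso
    (hZ.iso (Functor.map_isZero _ (isZero_zero _))) pZ⟩⟩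
  have hs : Q.IsStableUnderShift ℤ := ⟨fun a => ⟨fun X hX n =>
    P.prop_of_iso (((DerivedCategory.homologyFunctor A 0).shiftIso a n (a + n) rfl).symm.app X)
      (hX (a + n))⟩⟩
  have h2 : Q.IsTriangulatedClosed₂ := .mk' (fun T hT h₁ h₃ n => by
    exact prop_of_exact P hP _ _ _ _ _ _ _
      (DerivedCategory.HomologySequence.exact₁ T hT (n - 1) n (by omega))
      (DerivedCategory.HomologySequence.exact₂ T hT n)
      (DerivedCategory.HomologySequence.exact₃ T hT n (n + 1) rfl)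
      (h₃ (n - 1)) (h₁ n) (h₃ n) (h₁ (n + 1)))
  refine ⟨{}, ⟨fun {X Y} h hY n => ?_⟩⟩
  exact prop_of_retract P hP hZ pZ (h.map (DerivedCategory.homologyFunctor A n)) (hY n)

end Groth.Agent.S0989
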