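import Groth.Statements.S0990
import Groth.Agent.Cohder.SerreLift

set_option autoImplicit false
universe w w' v v' u u'
open CategoryTheory CategoryTheory.Limits
open CohDer

namespace Groth.Agent.S0990

/-- Stacks Tag 06XL: let P be a Serre class in an abelian category A and let L : A ⥤ Q be a model of the quotient A/P, i.e. an exact functor to an abelian category which is a localization at the morphisms whose kernel and cokernel satisfy P. Then the induced functor on derived categories D(A) ⥤ D(Q) is essentially surjective. -/
theorem result {A : Type u} [Category.{v} A] [Abelian A] [HasDerivedCategory.{w} A]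
    (P : ObjectProperty A) [P.IsSerreClass]
    {Q : Type u'} [Category.{v'} Q] [Abelian Q] [HasDerivedCategory.{w'} Q]
    (L : A ⥤ Q) [L.IsLocalization P.isoModSerre] [L.Additive] [PreservesFiniteLimits L] [PreservesFiniteColimits L] :
    L.mapDerivedCategory.EssSurj := by
  constructor
  intro X
  obtain ⟨Y, ⟨e⟩⟩ := Groth.Agent.Cohder.SerreLift.exists_iso_mapHomologicalComplex P L
    (DerivedCategory.Q.objPreimage X)
  exact ⟨DerivedCategory.Q.obj Y, ⟨L.mapDerivedCategoryFactors.app Y ≪≫ DerivedCategory.Q.mapIso e ≪≫
    DerivedCategory.Q.objObjPreimageIso X⟩⟩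

end Groth.Agent.S0990
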