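import Groth.Statements.S0992
import Mathlib.Algebra.Homology.ShortComplex.Ab
import Mathlib.CategoryTheory.Limits.ConcreteCategory.Basic

set_option autoImplicit false
universe w
open CategoryTheory CategoryTheory.Limits Opposite
open CohDer

namespace Groth.Agent.S0992

/-- Transfinite construction of compatible families. -/
lemma exists_compatible {I : Type*} [LinearOrder I] [WellFoundedLT I] {E : I → Type*}
    [∀ γ, Nonempty (E γ)]
    (r : ∀ {δ γ : I}, δ ≤ γ → E γ → E δ) (r_refl : ∀ (γ : I) (y : E γ), r le_rfl y = y)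
    (P : ∀ γ, E γ → Prop)
    (ext : ∀ (γ : I) (y : ∀ δ, δ < γ → E δ),
      (∀ (δ δ' : I) (h : δ ≤ δ') (h' : δ' < γ), r h (y δ' h') = y δ (h.trans_lt h')) →
      (∀ δ h, P δ (y δ h)) → ∃ z : E γ, P γ z ∧ ∀ δ (h : δ < γ), r h.le z = y δ h) :
    ∃ y : ∀ γ, E γ, (∀ γ, P γ (y γ)) ∧ ∀ (δ γ : I) (h : δ ≤ γ), r h (y γ) = y δ := by
  classical
  let good (γ : I) (y : ∀ δ, δ < γ → E δ) : Prop :=
    (∀ (δ δ' : I) (h : δ ≤ δ') (h' : δ' < γ), r h (y δ' h') = y δ (h.trans_lt h')) ∧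
      (∀ δ h, P δ (y δ h))
  let F : ∀ γ, (∀ δ, δ < γ → E δ) → E γ := fun γ y =>
    if H : good γ y then (ext γ y H.1 H.2).choose else Classical.arbitrary _
  have hF : ∀ γ (y : ∀ δ, δ < γ → E δ), good γ y →
      P γ (F γ y) ∧ ∀ δ (h : δ < γ), r h.le (F γ y) = y δ h := by
    intro γ y H
    simp only [F, dif_pos H]
    exact (ext γ y H.1 H.2).choose_spec
  let wf : WellFounded (fun a b : I => a < b) := wellFounded_lt
  let y : ∀ γ, E γ := fun γ => wf.fix F γ
  have hy : ∀ γ, y γ = F γ (fun δ _ => y δ) := fun γ => wf.fix_eq F γ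
  have key : ∀ γ, P γ (y γ) ∧ ∀ δ (h : δ < γ), r h.le (y γ) = y δ := by
    intro γ
    induction γ using wf.induction with
    | _ γ ih =>
      rw [hy γ]
      refine hF γ (fun δ _ => y δ) ⟨fun δ δ' h h' => ?_, fun δ h => (ih δ h).1⟩
      obtain rfl | h'' := h.eq_or_lt
      · exact r_refl _ _
      · exact (ih δ' h').2 δ h''
  refine ⟨y, fun γ => (key γ).1, fun δ γ h => ?_⟩
  obtain rfl | h'' := h.eq_or_lt
  · exact r_refl _ _
  · exact (key γ).2 δ h''

section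

variable {I : Type w} [LinearOrder I] (K : Iᵒᵖ ⥤ CochainComplex AddCommGrpCat.{w} ℤ)

/-- The transition maps. -/
def res (n : ℤ) {γ β : I} (h : γ ≤ β) : (K.obj (op β)).X n →+ (K.obj (op γ)).X n :=
  ((K.map (homOfLE h).op).f n).hom

/-- The differentials. -/
def dd (m n : ℤ) (γ : I) : (K.obj (op γ)).X m →+ (K.obj (op γ)).X n :=
  ((K.obj (op γ)).d m n).hom

lemma res_refl (n : ℤ) (γ : I) (x : (K.obj (op γ)).X n) : res K n le_rfl x = x := by
  simp [res]

lemma res_res (n : ℤ) {α β γ : I} (h : α ≤ β) (h' : β ≤ γ) (x : (K.obj (op γ)).X n) :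
    res K n h (res K n h' x) = res K n (h.trans h') x := by
  have : (homOfLE (h.trans h')).op = (homOfLE h').op ≫ (homOfLE h).op := rfl
  simp [res, this]

lemma res_dd (m n : ℤ) {α β : I} (h : α ≤ β) (x : (K.obj (op β)).X m) :
    res K n h (dd K m n β x) = dd K m n α (res K m h x) := by
  exact (ConcreteCategory.congr_hom ((K.map (homOfLE h).op).comm m n) x).symm

lemma dd_dd (k m n : ℤ) {β : I} (x : (K.obj (op β)).X k) :
    dd K m n β (dd K k m β x) = 0 := by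
  exact ConcreteCategory.congr_hom ((K.obj (op β)).d_comp_d k m n) x

/-- Compatible families of cocycles on the lower set `U` are boundaries. -/
def AcyclicOn (U : I → Prop) : Prop :=
  ∀ (n : ℤ) (x : ∀ γ, U γ → (K.obj (op γ)).X n),
    (∀ γ γ' (h : γ ≤ γ') (hγ : U γ) (hγ' : U γ'), res K n h (x γ' hγ') = x γ hγ) →
    (∀ γ hγ, dd K n (n + 1) γ (x γ hγ) = 0) →
    ∃ y : ∀ γ, U γ → (K.obj (op γ)).X (n - 1),
      (∀ γ γ' (h : γ ≤ γ') (hγ : U γ) (hγ' : U γ'), res K _ h (y γ' hγ') = y γ hγ) ∧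
      ∀ γ hγ, dd K (n - 1) n γ (y γ hγ) = x γ hγ

variable {K}
variable (hac : ∀ (β : I) (n : ℤ), (K.obj (op β)).ExactAt n)

include hac in
lemma exists_of_dd_eq_zero (β : I) (n : ℤ) (x : (K.obj (op β)).X n)
    (hx : dd K n (n + 1) β x = 0) : ∃ y, dd K (n - 1) n β y = x := by
  have := hac β n
  rw [HomologicalComplex.exactAt_iff' _ (n - 1) n (n + 1) (by simp) (by simp),
    ShortComplex.ab_exact_iff] at this
  exact this x hx

variable (hsurj : ∀ (β : I) (n : ℤ) (x : ∀ γ : {γ : I // γ < β}, (K.obj (op γ.1)).X n),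
      (∀ (γ γ' : {γ : I // γ < β}) (h : γ.1 ≤ γ'.1), ((K.map (homOfLE h).op).f n).hom (x γ') = x γ) →
      ∃ y : (K.obj (op β)).X n, ∀ γ : {γ : I // γ < β}, ((K.map (homOfLE γ.2.le).op).f n).hom y = x γ)

include hsurj in
lemma exists_lift (β : I) (n : ℤ) (x : ∀ γ, γ < β → (K.obj (op γ)).X n)
    (hx : ∀ (γ γ' : I) (h : γ ≤ γ') (h' : γ' < β), res K n h (x γ' h') = x γ (h.trans_lt h')) :
    ∃ y : (K.obj (op β)).X n, ∀ γ (h : γ < β), res K n h.le y = x γ h := by
  obtain ⟨y, hy⟩ := hsurj β n (fun γ => x γ.1 γ.2) (fun γ γ' h => hx _ _ h γ'.2)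
  exact ⟨y, fun γ h => hy ⟨γ, h⟩⟩

include hac hsurj in
/-- The extension step. -/
lemma extend_step (β : I) (hβ : AcyclicOn K (· < β)) (n : ℤ) (x : (K.obj (op β)).X n)
    (hx : dd K n (n + 1) β x = 0)
    (y : ∀ δ, δ < β → (K.obj (op δ)).X (n - 1))
    (hy : ∀ (δ δ' : I) (h : δ ≤ δ') (h' : δ' < β), res K _ h (y δ' h') = y δ (h.trans_lt h'))
    (hxy : ∀ δ (h : δ < β), dd K (n - 1) n δ (y δ h) = res K n h.le x) :
    ∃ z : (K.obj (op β)).X (n - 1), dd K (n - 1) n β z = x ∧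
      ∀ δ (h : δ < β), res K _ h.le z = y δ h := by
  obtain ⟨y', hy'⟩ := exists_lift hsurj β (n - 1) y hy
  obtain ⟨z, hz⟩ := exists_of_dd_eq_zero hac β n (x - dd K (n - 1) n β y')
    (by rw [map_sub, hx, dd_dd, sub_zero])
  have hz' : ∀ γ (h : γ < β), dd K (n - 1) (n - 1 + 1) γ (res K (n - 1) h.le z) = 0 := by
    have e : n - 1 + 1 = n := by omega
    rw [e]
    intro γ h
    rw [← res_dd, hz, map_sub, res_dd, hy' γ h, hxy γ h, sub_self]
  obtain ⟨w, hw, hw'⟩ := hβ (n - 1) (fun γ h => res K (n - 1) h.le z)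
    (fun γ γ' h hγ hγ' => res_res _ _ _ _ _) hz'
  obtain ⟨w', hw''⟩ := exists_lift hsurj β (n - 1 - 1) w (fun γ γ' h h' => hw _ _ _ _ _)
  refine ⟨y' + z - dd K (n - 1 - 1) (n - 1) β w', ?_, fun δ h => ?_⟩
  · rw [map_sub, map_add, dd_dd, hz]
    abel
  · rw [map_sub, map_add, hy' δ h, res_dd, hw'' δ h, hw' δ h, add_sub_cancel_right]

variable [WellFoundedLT I]

include hac hsurj in
lemma acyclicOn_of_forall (U : I → Prop) (hU : ∀ γ δ, δ ≤ γ → U γ → U δ)
    (h : ∀ γ, U γ → AcyclicOn K (· < γ)) : AcyclicOn K U := by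
  intro n x hx hdx
  obtain ⟨y, hy, hy'⟩ := exists_compatible (I := {γ : I // U γ})
    (E := fun γ => (K.obj (op γ.1)).X (n - 1))
    (fun {δ γ} h => res K (n - 1) (show δ.1 ≤ γ.1 from h))
    (fun γ y => res_refl K _ _ y)
    (fun γ y => dd K (n - 1) n γ.1 y = x γ.1 γ.2)
    (fun γ y hy hy' => by
      obtain ⟨z, hz, hz'⟩ := extend_step hac hsurj γ.1 (h γ.1 γ.2) n (x γ.1 γ.2) (hdx _ _)
        (fun δ hδ => y ⟨δ, hU _ _ hδ.le γ.2⟩ hδ)
        (fun δ δ' h h' => hy ⟨δ, _⟩ ⟨δ', _⟩ h h')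
        (fun δ h => (hy' ⟨δ, _⟩ h).trans (hx _ _ _ _ _).symm)
      exact ⟨z, hz, fun δ h => hz' δ.1 h⟩)
  exact ⟨fun γ hγ => y ⟨γ, hγ⟩, fun γ γ' h hγ hγ' => hy' ⟨γ, hγ⟩ ⟨γ', hγ'⟩ h,
    fun γ hγ => hy ⟨γ, hγ⟩⟩

include hac hsurj in
lemma acyclicOn_lt (β : I) : AcyclicOn K (· < β) := by
  induction β using (wellFounded_lt (α := I)).induction with
  | _ β ih =>
    exact acyclicOn_of_forall hac hsurj _ (fun γ δ h h' => h.trans_lt h') ih

include hac hsurj in
lemma acyclicOn_univ : AcyclicOn K (fun _ => True) :=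
  acyclicOn_of_forall hac hsurj _ (fun _ _ _ _ => trivial)
    (fun γ _ => acyclicOn_lt hac hsurj γ)

end

/-- Stacks Tag 0AAT: let I be a well-ordered type and K : Iᵒᵖ ⥤ CochainComplex Ab an inverse system of acyclic complexes of abelian groups such that for every β and every degree n, each family of elements of the Kⁿ_γ (γ < β) compatible under the transition maps lifts to an element of Kⁿ_β (i.e. Kⁿ_β → lim_{γ<β} Kⁿ_γ is surjective). Then the limit complex lim K is acyclic. -/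
theorem result {I : Type w} [LinearOrder I] [WellFoundedLT I]
    (K : Iᵒᵖ ⥤ CochainComplex AddCommGrpCat.{w} ℤ)
    (hac : ∀ (β : I) (n : ℤ), (K.obj (op β)).ExactAt n)
    (hsurj : ∀ (β : I) (n : ℤ) (x : ∀ γ : {γ : I // γ < β}, (K.obj (op γ.1)).X n),
      (∀ (γ γ' : {γ : I // γ < β}) (h : γ.1 ≤ γ'.1), ((K.map (homOfLE h).op).f n).hom (x γ') = x γ) →
      ∃ y : (K.obj (op β)).X n, ∀ γ : {γ : I // γ < β}, ((K.map (homOfLE γ.2.le).op).f n).hom y = x γ)
    (n : ℤ) : (limit K).ExactAt n := by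
  rw [HomologicalComplex.exactAt_iff' _ (n - 1) n (n + 1) (by simp) (by simp),
    ShortComplex.ab_exact_iff]
  have hcomm (m m' : ℤ) (γ : I) (z : (limit K).X m) :
      dd K m m' γ (((limit.π K (op γ)).f m).hom z) =
        ((limit.π K (op γ)).f m').hom (((limit K).d m m').hom z) :=
    ConcreteCategory.congr_hom ((limit.π K (op γ)).comm m m') z
  have hres (m : ℤ) (γ γ' : I) (h : γ ≤ γ') (z : (limit K).X m) :
      res K m h (((limit.π K (op γ')).f m).hom z) = ((limit.π K (op γ)).f m).hom z := by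
    have e := HomologicalComplex.congr_hom (limit.w K (homOfLE h).op) m
    exact ConcreteCategory.congr_hom e z
  change ∀ (x : (limit K).X n), ((limit K).d n (n + 1)).hom x = 0 →
    ∃ y : (limit K).X (n - 1), ((limit K).d (n - 1) n).hom y = x
  intro x hx
  obtain ⟨y, hy, hy'⟩ := acyclicOn_univ hac hsurj n
    (fun γ _ => ((limit.π K (op γ)).f n).hom x) (fun γ γ' h _ _ => hres _ _ _ _ _)
    (fun γ _ => by rw [hcomm, hx, map_zero])
  let G (m : ℤ) := HomologicalComplex.eval AddCommGrpCat.{w} (ComplexShape.up ℤ) m ⋙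
    forget AddCommGrpCat.{w}
  have hG (m : ℤ) := isLimitOfPreserves (G m) (limit.isLimit K)
  let s : (K ⋙ G (n - 1)).sections := ⟨fun γ => y γ.unop trivial, fun {γ γ'} f => by
    exact hy γ'.unop γ.unop (leOfHom f.unop) trivial trivial⟩
  let z : (limit K).X (n - 1) := (Types.isLimitEquivSections (hG (n - 1))).symm s
  have hz (γ : I) : ((limit.π K (op γ)).f (n - 1)).hom z = y γ trivial :=
    Types.isLimitEquivSections_symm_apply (hG (n - 1)) s (op γ)
  refine ⟨z, ?_⟩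
  apply (Types.isLimitEquivSections (hG n)).injective
  ext γ
  change ((limit.π K (op γ.unop)).f n).hom (((limit K).d (n - 1) n).hom z) =
    ((limit.π K (op γ.unop)).f n).hom x
  rw [← hcomm, hz, hy']

end Groth.Agent.S0992
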