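import Groth.Statements.S0994
import Groth.Agent.Cohder.RDUnbdd

set_option autoImplicit false
universe w w' v v' u u'
open CategoryTheory CategoryTheory.Limits
open CohDer

namespace Groth.Agent.S0994

/-- Stacks Tag 07K7, part (1), in the case of enough injectives: let F : A ⥤ B be a left exact functor between abelian categories where A has injective resolutions, and suppose RⁿF = 0 for some n ≥ 0. Then F, viewed as a functor from the homotopy category K(A) to D(B), has a right derived functor with respect to quasi-isomorphisms, i.e. RF : D(A) ⥤ D(B) exists on the unbounded derived category (as a left Kan extension along K(A) → D(A)). -/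
theorem result {A : Type u} [Category.{v} A] [Abelian A] [HasDerivedCategory.{w} A] [HasInjectiveResolutions A]
    {B : Type u'} [Category.{v'} B] [Abelian B] [HasDerivedCategory.{w'} B]
    (F : A ⥤ B) [F.Additive] [PreservesFiniteLimits F] (n : ℕ) (hn : ∀ X : A, IsZero ((F.rightDerived n).obj X)) :
    (F.mapHomotopyCategory (ComplexShape.up ℤ) ⋙ DerivedCategory.Qh).HasRightDerivedFunctor
      (HomotopyCategory.quasiIso A (ComplexShape.up ℤ)) := by
  have hres := Groth.Agent.Cohder.RDUnbdd.hasRes F n hn
  have h := Groth.Agent.Cohder.DerivCalc.hasPointwiseRightDerivedFunctor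
    (HomotopyCategory.quasiIso A (ComplexShape.up ℤ)) (Groth.Agent.Cohder.RDUnbdd.AcycTerms F)
    (F.mapHomotopyCategory (ComplexShape.up ℤ) ⋙ DerivedCategory.Qh)
    (Groth.Agent.Cohder.RDUnbdd.isIso_map F n hn)
  infer_instance

end Groth.Agent.S0994
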