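import Groth.Statements.S1005
-- import your own Groth.Agent.* helpers here
import Groth.Agent.PerfA.CohPerfNear
import Groth.Agent.PerfA.BddDev
import Groth.Agent.PerfA.CohZero
import Groth.Agent.S0887
import Groth.Agent.S0563

set_option autoImplicit false
universe u
open CategoryTheory CategoryTheory.Limits AlgebraicGeometry
attribute [local instance] HasDerivedCategory.standard
open Perf

namespace Groth.Agent.S1005

open Groth.Agent.PerfA

lemma two {X : Scheme.{u}} (T : Pretriangulated.Triangle (DCoh.D X))
    (hT : T ∈ Pretriangulated.distinguishedTriangles) (h1 : DCoh.IsPerfect T.obj₁)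
    (h2 : DCoh.IsPerfect T.obj₂) : DCoh.IsPerfect T.obj₃ :=
  (Groth.Agent.S0887.result T hT).1 h1 h2

lemma gl (R : Type u) [CommRing R] [IsRegularLocalRing R] (d : ℕ) (hd : ringKrullDim R = d)
    (M : Type u) [AddCommGroup M] [Module R M] :
    HasProjectiveDimensionLT (ModuleCat.of R M) (d + 1) :=
  Groth.Agent.S0563.result R d hd M

lemma isPerfect_single {X : Scheme.{u}} (M : X.Modules) (h : DCoh.IsPerfect (DCoh.inD X M))
    (n : ℤ) : DCoh.IsPerfect ((DerivedCategory.singleFunctor X.Modules n).obj M) :=
  PerfLocal.isPerfect_of_iso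
    (((DerivedCategory.singleFunctors X.Modules).shiftIso (-n) n 0 (by omega)).app M)
    (PerfLocal.isPerfect_shift h (-n))

/-- Stacks Tag 0FDC (first statement): let X be a locally Noetherian scheme all of whose local rings are regular. Then every object of D(O_X) with bounded, coherent cohomology is perfect. -/
theorem result (X : Scheme.{u}) [IsLocallyNoetherian X]
    (hreg : ∀ x : X, IsRegularLocalRing (X.presheaf.stalk x))
    (K : DCoh.D X) (a b : ℤ) [K.IsGE a] [K.IsLE b] (hK : DCoh.IsCohD K) : DCoh.IsPerfect K := by
  refine BddDev.devissage (CohZero.cohP X) DCoh.IsPerfect PerfLocal.isPerfect_of_iso ?_ ?_ K a b hK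
  · intro M n hM
    exact isPerfect_single M (CohPerfNear.isPerfect_inD_of_isCoh two gl M hM hreg) n
  · intro T hT h1 h3
    exact (Groth.Agent.S0887.result T hT).2.1 h1 h3

end Groth.Agent.S1005
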