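import Groth.Statements.S1006
import Groth.Agent.PerfA.CohSerre

set_option autoImplicit false
universe u
open CategoryTheory CategoryTheory.Limits AlgebraicGeometry
attribute [local instance] HasDerivedCategory.standard
open Perf

namespace Groth.Agent.S1006

/-- Stacks Tag 0FXU, part (1): on a Noetherian scheme X every perfect object of D(O_X) has coherent cohomology sheaves and is bounded. -/
theorem result (X : Scheme.{u}) [IsNoetherian X] (E : DCoh.D X) (hE : DCoh.IsPerfect E) :
    DCoh.IsCohD E ∧ ∃ a b : ℤ, E.IsGE a ∧ E.IsLE b := by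
  refine ⟨fun i => ?_, Groth.Agent.PerfA.Restrict.exists_bounds_of_isPerfect E hE⟩
  refine Groth.Agent.PerfA.CohSerre.isCoh_of_restrict _ fun x => ?_
  obtain ⟨V, hxV, F, hF, ⟨e⟩⟩ := (Groth.Agent.PerfA.Restrict.isPerfect_iff E).1 hE x
  refine ⟨V, hxV, Groth.Agent.PerfA.CohSerre.isCoh_of_iso
    ((DerivedCategory.homologyFunctor _ i).mapIso e.symm ≪≫
      Groth.Agent.PerfA.Restrict.HDrestrict V.ι E i) ?_⟩
  have h : Groth.Agent.PerfA.CohomIn.coh (Groth.Agent.PerfA.CohSerre.cohp (V : Scheme.{u}))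
      (DerivedCategory.Q.obj F) := by
    rw [Groth.Agent.PerfA.CohomIn.coh_Q_iff]
    intro i
    have h1 := fun j => Groth.Agent.PerfA.CohSerre.isCoh_of_isFinLocFree (hF.2 j)
    have h2 := (Groth.Agent.PerfA.CohSerre.cohp (V : Scheme.{u})).prop_kernel (F.sc i).g (h1 _) (h1 _)
    have h3 := (Groth.Agent.PerfA.CohSerre.cohp (V : Scheme.{u})).prop_cokernel
      (kernel.lift (F.sc i).g (F.sc i).f (F.sc i).zero) (h1 _) h2
    exact (Groth.Agent.PerfA.CohSerre.cohp (V : Scheme.{u})).prop_of_iso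
      (ShortComplex.LeftHomologyData.ofHasKernelOfHasCokernel (F.sc i)).homologyIso.symm h3
  exact h i

end Groth.Agent.S1006
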