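import Groth.Statements.S1009
import Groth.Agent.PerfA.AffDiag

set_option autoImplicit false
universe u
open CategoryTheory CategoryTheory.Limits AlgebraicGeometry
attribute [local instance] HasDerivedCategory.standard
open Perf

namespace Groth.Agent.S1009

/-- Stacks Tag 0F8C: let the scheme X be quasi-compact and quasi-separated with the resolution property (every finite-type quasi-coherent O_X-module is a quotient of a finite locally free one). Then X has affine diagonal: the intersection of any two affine opens of X is affine. -/
theorem result (X : Scheme.{u}) [CompactSpace ↥X] [QuasiSeparatedSpace ↥X] (hX : PerfAux.HasResolutionProperty X)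
    (U V : X.Opens) (hU : IsAffineOpen U) (hV : IsAffineOpen V) : IsAffineOpen (U ⊓ V) := by
  exact Groth.Agent.PerfA.AffDiag.isAffineOpen_inf X hX U V hU hV

end Groth.Agent.S1009
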