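import Groth.Statements.S1013
-- import your own Groth.Agent.* helpers here
import Groth.Agent.S1103
import Groth.Agent.S0887
import Groth.Agent.S0889
import Groth.Agent.PerfA.PCohQCoh
import Groth.Agent.PerfA.ApproxTower
import Groth.Agent.PerfA.ModNat

set_option autoImplicit false
universe u
open CategoryTheory CategoryTheory.Limits AlgebraicGeometry
attribute [local instance] HasDerivedCategory.standard
open Perf

namespace Groth.Agent.S1013

/-- Stacks Tag 0DJN: let the scheme X be quasi-compact and quasi-separated and K ∈ D(O_X). Assuming countable direct sums exist in D(O_X) (they do), K is pseudo-coherent (m-pseudo-coherent for every m) if and only if K is a homotopy colimit of a sequence of perfect objects Kₙ whose structure maps Kₙ ⟶ K induce isomorphisms τ_{≥ -n}Kₙ ⟶ τ_{≥ -n}K for every n. -/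
theorem result (X : Scheme.{u}) [CompactSpace ↥X] [QuasiSeparatedSpace ↥X]
    [HasColimitsOfShape (Discrete ℕ) (DCoh.D X)] (K : DCoh.D X) :
    (∀ m : ℤ, DCoh.IsPseudoCoherentD m K) ↔
    ∃ (E : ℕ → DCoh.D X) (f : ∀ n, E n ⟶ E (n + 1)) (i : ∀ n, E n ⟶ K),
      (∀ n, DCoh.IsPerfect (E n)) ∧ DerLim.IsHocolim E f K i ∧
      ∀ n : ℕ, IsIso (((DerivedCategory.TStructure.t : CategoryTheory.Triangulated.TStructure (DCoh.D X)).truncGE (-(n : ℤ))).map (i n)) := by
  constructor
  · intro hK
    obtain ⟨r, hr⟩ := Groth.Agent.S1103.result X Set.univ isClosed_univ (by simp)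
    obtain ⟨F, i, hF, hi, hiso⟩ := Groth.Agent.PerfA.ApproxTower.exists_tower
      (A := X.Modules) (fun E => DCoh.IsPerfect E) (fun E => ∀ m : ℤ, DCoh.IsPseudoCoherentD m E)
      (fun T hT h1 h3 => (Groth.Agent.S0887.result T hT).2.1 h1 h3)
      (fun T hT h1 h2 m => (Groth.Agent.S0889.result m T hT).1
        (Groth.Agent.PerfA.PCohQCoh.isPseudoCoherentD_of_isPerfect h1 (m + 1)) (h2 m))
      (fun m E hE => by
        obtain ⟨P, α, hP, -, h1, h2⟩ := hr m E
          (Groth.Agent.PerfA.PCohQCoh.isQCohD_of_isPseudoCoherentD hE) (hE (m - r))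
          (fun i _ => Set.subset_univ _)
        exact ⟨P, α, hP, h1, h2⟩) hK
    refine ⟨F.obj, Groth.Agent.PerfA.Hocolim.tr F, i, hF, ?_, fun n => ?_⟩
    · exact Groth.Agent.PerfA.ApproxTower.isHocolim_of_eventually_isIso F i hi fun m =>
        ⟨(-m).toNat, fun n hn => hiso n m (by lia)⟩
    · exact (Groth.Agent.PerfA.TriFive.isIso_truncGE_map_iff (i n) _).2 fun m hm => hiso n m hm
  · rintro ⟨E, f, i, hE, -, h⟩ m
    have h1 := (Groth.Agent.PerfA.TriFive.isIso_truncGE_map_iff (i (-m).toNat) _).1 (h (-m).toNat)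
    have h2 := h1 m (by lia)
    exact Groth.Agent.PerfA.PCohQCoh.isPseudoCoherentD_of_approx (hE (-m).toNat) (i (-m).toNat)
      (fun j hj => h1 j (by lia)) inferInstance

end Groth.Agent.S1013
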