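import Groth.Statements.S1015
import Groth.Agent.PerfA.ExtPush
set_option autoImplicit false
universe u
open CategoryTheory CategoryTheory.Limits AlgebraicGeometry
attribute [local instance] HasDerivedCategory.standard
open Perf

namespace Groth.Agent.S1015

/-- Stacks Tag 08ED (first statement, unbounded case): let U ⊆ X be an open subscheme whose inclusion is quasi-compact. Every object F of D(O_U) with quasi-coherent cohomology sheaves is the restriction of such an object on X: there is a complex G of O_X-modules with quasi-coherent cohomology sheaves whose termwise restriction to U is isomorphic to F in D(O_U). -/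
theorem result (X : Scheme.{u}) (U : X.Opens) [QuasiCompact U.ι]
    (F : DCoh.D (U : Scheme.{u})) (hF : DCoh.IsQCohD F) :
    ∃ G : CochainComplex X.Modules ℤ, DCoh.IsQCohD (DCoh.toD X G) ∧
      Nonempty (DerivedCategory.Q.obj ((DCoh.restrictCx U).obj G) ≅ F) :=
  PerfA.ExtPush.exists_extension U.ι F hF

end Groth.Agent.S1015
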