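import Groth.Statements.S1016
import Groth.Agent.PerfA.CompactSupp

set_option autoImplicit false
universe u
open CategoryTheory CategoryTheory.Limits AlgebraicGeometry
attribute [local instance] HasDerivedCategory.standard
open Perf

namespace Groth.Agent.S1016

/-- Stacks Tag 0A9B: let the scheme X be quasi-compact and quasi-separated and T ⊆ X a closed subset with nonempty quasi-compact complement (the case T = X is Tag 09M1, stated separately). Let K ∈ D(O_X) have quasi-coherent cohomology sheaves supported on T. Then K is compact in D_{QCoh,T}(O_X) (with respect to small direct sums of objects with quasi-coherent cohomology supported on T) if and only if K is a perfect object of D(O_X). -/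
theorem result (X : Scheme.{u}) [CompactSpace ↥X] [QuasiSeparatedSpace ↥X]
    (T : Set X) (hT : IsClosed T) (hTc : IsCompact Tᶜ) (hTne : Tᶜ.Nonempty)
    (K : DCoh.D X) (hK : DCoh.IsQCohD K) (hKT : ∀ i : ℤ, CohB1.support (DCoh.HD K i) ⊆ T) :
    PerfAux.IsCompactObjRel.{u} (fun L : DCoh.D X => DCoh.IsQCohD L ∧ ∀ i : ℤ, CohB1.support (DCoh.HD L i) ⊆ T) K ↔
      DCoh.IsPerfect K := by
  constructor
  · intro h
    let U : X.Opens := ⟨Tᶜ, hT.isOpen_compl⟩
    have hU : (U : Set X)ᶜ = T := compl_compl T
    refine Groth.Agent.PerfA.CompactPerf.isPerfect_of_isCompactObjRel K hK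
      (Groth.Agent.PerfA.CompactSupp.isCompactObjRel_of_supp U hTc K ?_ ?_)
    · rw [← Groth.Agent.PerfA.CompactSupp.supp_subset_iff, hU]
      exact hKT
    · rw [hU]
      exact h
  · intro h
    exact Groth.Agent.PerfA.CompactRel.isCompactObjRel_mono (fun L hL => hL.1)
      (Groth.Agent.PerfA.PerfCompact.isCompactObjRel_of_isPerfect K h)

end Groth.Agent.S1016
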