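import Groth.Statements.S1017
import Groth.Agent.PerfA.CohExtGlue
import Groth.Agent.PerfA.OpenPush
import Groth.Agent.S0998

set_option autoImplicit false
universe u
open CategoryTheory CategoryTheory.Limits AlgebraicGeometry
attribute [local instance] HasDerivedCategory.standard
open Perf

namespace Groth.Agent.S1017

open PerfA.Restrict PerfA.CohExtGlue PerfC.PcLocal Scheme.Modules

/-- One step. -/
theorem step {X U V : Scheme.{u}} (j : U ⟶ X) (k : V ⟶ X) [IsOpenImmersion j] [IsOpenImmersion k]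
    [IsNoetherian X] [IsAffine V] (hUV : ∀ x : X, x ∈ Set.range j ∨ x ∈ Set.range k)
    (F : DCoh.D U) (hF : BdCoh F) :
    ∃ G : DCoh.D X, BdCoh G ∧ Nonempty ((restrictD j).obj G ≅ F) := by
  have := LoccohB.RpushTri.hasRpush j
  have := LoccohB.RpushTri.hasRpush k
  have := PerfA.CohExtAff.isNoetherian_of_isOpenImmersion j
  exact exists_extension_step j k (DCoh.Rpush j) (PerfA.OpenPush.restrictRpushAdj j)
    (fun K hK => S0998.result j K hK) (DCoh.Rpush k) (PerfA.OpenPush.restrictRpushAdj k) hUV F hF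

theorem exists_extension_opens {X : Scheme.{u}} [IsNoetherian X] (U S : X.Opens) (hS : IsCompact S.1)
    (F : DCoh.D (U : Scheme.{u})) (hF : BdCoh F) :
    ∃ (W : X.Opens) (hUW : U ≤ W), W = U ⊔ S ∧ ∃ G : DCoh.D (W : Scheme.{u}), BdCoh G ∧
      Nonempty ((restrictD (X.homOfLE hUW)).obj G ≅ F) := by
  refine compact_open_induction_on (P := fun S => ∃ (W : X.Opens) (hUW : U ≤ W), W = U ⊔ S ∧
    ∃ G : DCoh.D (W : Scheme.{u}), BdCoh G ∧ Nonempty ((restrictD (X.homOfLE hUW)).obj G ≅ F)) S hS ?_ ?_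
  · refine ⟨U, le_rfl, (sup_bot_eq U).symm, F, hF, ⟨?_⟩⟩
    exact (restrictDCongr (X.homOfLE_rfl U) ≪≫ PerfA.ExactD.mapDIso restrictFunctorId ≪≫
      PerfA.ExactD.mapDId _).app F
  · rintro S - V ⟨W, hUW, rfl, G, hG, ⟨e⟩⟩
    have : IsNoetherian (((U ⊔ S) ⊔ V.1 : X.Opens) : Scheme.{u}) :=
      PerfA.CohExtAff.isNoetherian_of_isOpenImmersion ((U ⊔ S) ⊔ V.1 : X.Opens).ι
    have : IsAffine (V.1 : Scheme.{u}) := V.2
    obtain ⟨G', hG', ⟨e'⟩⟩ := step (X.homOfLE (le_sup_left : U ⊔ S ≤ (U ⊔ S) ⊔ V.1))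
      (X.homOfLE (le_sup_right : V.1 ≤ (U ⊔ S) ⊔ V.1)) (by
        rintro ⟨x, hx⟩
        rcases hx with hx | hx
        · exact Or.inl ⟨⟨x, hx⟩, by
            apply Subtype.ext
            simp⟩
        · exact Or.inr ⟨⟨x, hx⟩, by
            apply Subtype.ext
            simp⟩) G hG
    refine ⟨(U ⊔ S) ⊔ V.1, hUW.trans le_sup_left, by rw [sup_assoc], G', hG', ⟨?_⟩⟩
    exact (restrictDCongr (by simp)).app G' ≪≫
      ((restrictDComp (X.homOfLE hUW) (X.homOfLE (le_sup_left : U ⊔ S ≤ (U ⊔ S) ⊔ V.1))).symm.app G') ≪≫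
      (restrictD _).mapIso e' ≪≫ e

/-- Stacks Tag 0G48: let X be a Noetherian scheme and U ⊆ X an open subscheme. Every bounded object F of D(O_U) with coherent cohomology sheaves is the restriction of such an object on X: there is a complex G of O_X-modules, bounded with coherent cohomology as an object of D(O_X), whose termwise restriction to U is isomorphic to F in D(O_U). -/
theorem result (X : Scheme.{u}) [IsNoetherian X] (U : X.Opens)
    (F : DCoh.D (U : Scheme.{u})) (hF : DCoh.IsCohD F) (a b : ℤ) [F.IsGE a] [F.IsLE b] :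
    ∃ (G : CochainComplex X.Modules ℤ) (a' b' : ℤ), DCoh.IsCohD (DCoh.toD X G) ∧ (DCoh.toD X G).IsGE a' ∧ (DCoh.toD X G).IsLE b' ∧
      Nonempty (DerivedCategory.Q.obj ((DCoh.restrictCx U).obj G) ≅ F) := by
  obtain ⟨W, hUW, hW, G, hG, ⟨e⟩⟩ := exists_extension_opens U ⊤ isCompact_univ F
    ⟨hF, a, b, inferInstance, inferInstance⟩
  obtain rfl : W = ⊤ := by rw [hW, sup_top_eq]
  obtain ⟨hG, c, d, hc, hd⟩ := hG
  obtain ⟨E, ⟨e'⟩⟩ := exists_rep X ((restrictD X.topIso.inv).obj G)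
  refine ⟨E, c, d, PerfA.QCohD.isCohD_of_iso e'.symm (PerfA.QCohD.isCohD_restrictD X.topIso.inv hG), ?_, ?_, ⟨?_⟩⟩
  · have := PerfA.ExactD.isGE_map (restrictFunctor X.topIso.inv) G c
    exact DerivedCategory.TStructure.t.isGE_of_iso e'.symm c
  · have := PerfA.ExactD.isLE_map (restrictFunctor X.topIso.inv) G d
    exact DerivedCategory.TStructure.t.isLE_of_iso e'.symm d
  · exact (restrictDQ U.ι E).symm ≪≫ (restrictD U.ι).mapIso e' ≪≫
      (restrictDComp U.ι X.topIso.inv).app G ≪≫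
      (restrictDCongr (by rw [Iso.comp_inv_eq]; simp)).app G ≪≫ e

end Groth.Agent.S1017
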