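import Groth.Statements.S1018
import Groth.Agent.PerfA.ExtFree
set_option autoImplicit false
universe u
open CategoryTheory CategoryTheory.Limits AlgebraicGeometry
attribute [local instance] HasDerivedCategory.standard
open Perf

namespace Groth.Agent.S1018

/-- Stacks Tag 08EE: let X be an affine scheme, U a quasi-compact open subscheme and E a pseudo-coherent object of D(O_U) (m-pseudo-coherent for all m). Then there is a bounded above complex G of finite free O_X-modules whose termwise restriction to U is isomorphic to E in D(O_U). -/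
theorem result (X : Scheme.{u}) [IsAffine X] (U : X.Opens) (hU : IsCompact (U : Set X))
    (E : DCoh.D (U : Scheme.{u})) (hE : ∀ m : ℤ, DCoh.IsPseudoCoherentD m E) :
    ∃ (G : CochainComplex X.Modules ℤ) (b : ℤ), (∀ i : ℤ, b < i → IsZero (G.X i)) ∧
      (∀ i : ℤ, ∃ n : ℕ, Nonempty (G.X i ≅ FlatMod.freeMod X n)) ∧
      Nonempty (DerivedCategory.Q.obj ((DCoh.restrictCx U).obj G) ≅ E) := by
  have hc : CompactSpace (U : Scheme.{u}) := isCompact_iff_compactSpace.mp hU
  obtain ⟨F, b, h1, h2, ⟨e⟩⟩ :=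
    PerfA.ExtFree.exists_free_model (U.ι ≫ X.isoSpec.hom) E hE
  refine ⟨(PerfA.ExtPC.Tcx X.isoSpec.hom).obj F, b, fun i hi => ?_, fun i => ?_, ⟨?_⟩⟩
  · exact (PerfA.ExtTilde.Tj X.isoSpec.hom).map_isZero (h1 i hi)
  · obtain ⟨n, ⟨e'⟩⟩ := h2 i
    exact ⟨n, ⟨(PerfA.ExtTilde.Tj X.isoSpec.hom).mapIso e' ≪≫ PerfA.ExtPC.TjFree _ n⟩⟩
  · exact DerivedCategory.Q.mapIso (PerfA.ExtFree.restrictTcx X.isoSpec.hom U.ι F) ≪≫ e

end Groth.Agent.S1018
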