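import Groth.Statements.S1020
import Groth.Agent.Cohder.BddGen

set_option autoImplicit false
universe u
open CategoryTheory CategoryTheory.Limits AlgebraicGeometry
attribute [local instance] HasDerivedCategory.standard
open Perf

namespace Groth.Agent.S1020

/-- Stacks Tag 0GEQ, equivalence of (1) and (2): let the scheme X be quasi-compact and quasi-separated, G a perfect object of D(O_X) which generates D_QCoh(O_X) (an object with quasi-coherent cohomology admitting only zero maps from all shifts of G is zero), and E ∈ D_QCoh(O_X). Then E is bounded below if and only if there is an N such that every morphism G[-i] ⟶ E with i ≤ N is zero. -/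
theorem result (X : Scheme.{u}) [CompactSpace ↥X] [QuasiSeparatedSpace ↥X]
    (G : DCoh.D X) (hG : DCoh.IsPerfect G)
    (hgen : ∀ E : DCoh.D X, DCoh.IsQCohD E → (∀ (n : ℤ) (φ : G⟦n⟧ ⟶ E), φ = 0) → IsZero E)
    (E : DCoh.D X) (hE : DCoh.IsQCohD E) :
    (∃ a : ℤ, E.IsGE a) ↔ ∃ N : ℤ, ∀ i : ℤ, i ≤ N → ∀ φ : G⟦-i⟧ ⟶ E, φ = 0 := by
  have key := Cohder.BddGen.eventually_isZero_iff Cohder.BddAff.shiftInv_atBot X G hG hgen E hE
  rw [Filter.eventually_atBot, Filter.eventually_atBot] at key
  have h1 : (∃ a : ℤ, E.IsGE a) ↔ ∃ a : ℤ, ∀ i ≤ a, IsZero (DCoh.HD E i) := by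
    constructor
    · rintro ⟨a, ha⟩
      exact ⟨a - 1, fun i hi => (DerivedCategory.isGE_iff E a).1 ha i (by omega)⟩
    · rintro ⟨a, ha⟩
      exact ⟨a + 1, (DerivedCategory.isGE_iff E _).2 fun i hi => ha i (by omega)⟩
  rw [h1, key]
  refine exists_congr fun a => forall_congr' fun i => forall_congr' fun _ => ?_
  exact Cohder.HomVanish.homVan_iff G E i (-i) (by omega)

end Groth.Agent.S1020
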