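import Groth.Statements.S1021
import Groth.Agent.Cohder.BddGen

set_option autoImplicit false
universe u
open CategoryTheory CategoryTheory.Limits AlgebraicGeometry
attribute [local instance] HasDerivedCategory.standard
open Perf

namespace Groth.Agent.S1021

/-- Stacks Tag 0GEN, equivalence of (1) and (2): let the scheme X be quasi-compact and quasi-separated, G a perfect object of D(O_X) generating D_QCoh(O_X), and E ∈ D_QCoh(O_X). Then E is bounded above if and only if there is an N such that every morphism G[-i] ⟶ E with N ≤ i is zero. -/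
theorem result (X : Scheme.{u}) [CompactSpace ↥X] [QuasiSeparatedSpace ↥X]
    (G : DCoh.D X) (hG : DCoh.IsPerfect G)
    (hgen : ∀ E : DCoh.D X, DCoh.IsQCohD E → (∀ (n : ℤ) (φ : G⟦n⟧ ⟶ E), φ = 0) → IsZero E)
    (E : DCoh.D X) (hE : DCoh.IsQCohD E) :
    (∃ b : ℤ, E.IsLE b) ↔ ∃ N : ℤ, ∀ i : ℤ, N ≤ i → ∀ φ : G⟦-i⟧ ⟶ E, φ = 0 := by
  have key := Cohder.BddGen.eventually_isZero_iff Cohder.BddAff.shiftInv_atTop X G hG hgen E hE
  rw [Filter.eventually_atTop, Filter.eventually_atTop] at key
  have h1 : (∃ b : ℤ, E.IsLE b) ↔ ∃ b : ℤ, ∀ i ≥ b, IsZero (DCoh.HD E i) := by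
    constructor
    · rintro ⟨b, hb⟩
      exact ⟨b + 1, fun i hi => (DerivedCategory.isLE_iff E b).1 hb i (by omega)⟩
    · rintro ⟨b, hb⟩
      exact ⟨b - 1, (DerivedCategory.isLE_iff E _).2 fun i hi => hb i (by omega)⟩
  rw [h1, key]
  refine exists_congr fun a => forall_congr' fun i => forall_congr' fun _ => ?_
  exact Cohder.HomVanish.homVan_iff G E i (-i) (by omega)

end Groth.Agent.S1021
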