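import Groth.Statements.S1022
import Groth.Agent.S1011
import Groth.Agent.PerfA.CohomIn
import Groth.Agent.PerfA.QCohD

set_option autoImplicit false
universe u
open CategoryTheory CategoryTheory.Limits AlgebraicGeometry
attribute [local instance] HasDerivedCategory.standard
open Perf

namespace Groth.Agent.S1022

open CategoryTheory.Pretriangulated

/-- A morphism `P⟦-i⟧ ⟶ L` is zero when every morphism `P ⟶ L⟦i⟧` is. -/
theorem eq_zero_of_shift {X : Scheme.{u}} (P L : DCoh.D X) (i : ℤ)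
    (h : ∀ ψ : P ⟶ L⟦i⟧, ψ = 0) (φ : P⟦-i⟧ ⟶ L) : φ = 0 := by
  have h1 : (shiftFunctorCompIsoId (DCoh.D X) (-i) i (by omega)).inv.app P ≫ φ⟦i⟧' = 0 := h _
  have h2 : φ⟦i⟧' = 0 := by
    rwa [← cancel_epi ((shiftFunctorCompIsoId (DCoh.D X) (-i) i (by omega)).inv.app P), comp_zero]
  exact (shiftFunctor (DCoh.D X) i).map_injective (by rw [h2, Functor.map_zero])

/-- Uniform vanishing of morphisms from `P⟦-i⟧` (`P` perfect, `i` large) to objects of
`D_QCoh` concentrated in degrees `≤ c`. -/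
theorem vanishing (X : Scheme.{u}) [CompactSpace ↥X] [QuasiSeparatedSpace ↥X]
    (P : DCoh.D X) (hP : DCoh.IsPerfect P) (c : ℤ) :
    ∃ N : ℤ, ∀ i : ℤ, N ≤ i → ∀ L : DCoh.D X, DCoh.IsQCohD L → L.IsLE c →
      ∀ φ : P⟦-i⟧ ⟶ L, φ = 0 := by
  obtain ⟨⟨a, b, -, h⟩, -⟩ := Groth.Agent.S1011.result X P hP
  refine ⟨c - a + 1, fun i hi L hL hLc φ => eq_zero_of_shift P L i (fun ψ => ?_) φ⟩
  refine h _ (PerfA.QCohD.isQCohD_shift hL i) (fun j hj _ => ?_) ψ
  have : (L⟦i⟧).IsLE (c - i) := (DerivedCategory.TStructure.t :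
      CategoryTheory.Triangulated.TStructure (DCoh.D X)).isLE_shift L c i (c - i) (by omega)
  exact DerivedCategory.isZero_of_isLE (L⟦i⟧) (c - i) j (by omega)

/-- Stacks Tag 0GEL: let the scheme X be quasi-compact and quasi-separated, P a perfect object of D(O_X), E ∈ D_QCoh(O_X) and a ∈ ℤ. Then the morphisms P[-i] ⟶ E vanish for all large i if and only if the morphisms P[-i] ⟶ τ_{≥ a}E vanish for all large i. -/
theorem result (X : Scheme.{u}) [CompactSpace ↥X] [QuasiSeparatedSpace ↥X]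
    (P : DCoh.D X) (hP : DCoh.IsPerfect P) (E : DCoh.D X) (hE : DCoh.IsQCohD E) (a : ℤ) :
    (∃ N : ℤ, ∀ i : ℤ, N ≤ i → ∀ φ : P⟦-i⟧ ⟶ E, φ = 0) ↔
    (∃ N : ℤ, ∀ i : ℤ, N ≤ i → ∀ φ : P⟦-i⟧ ⟶ ((DerivedCategory.TStructure.t : CategoryTheory.Triangulated.TStructure (DCoh.D X)).truncGE a).obj E, φ = 0) := by
  set t := (DerivedCategory.TStructure.t : CategoryTheory.Triangulated.TStructure (DCoh.D X)) with ht
  obtain ⟨N₀, hN₀⟩ := vanishing X P hP a
  have hT := t.triangleLTGE_distinguished a E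
  have hq : DCoh.IsQCohD ((t.truncLT a).obj E) := PerfA.QCohD.isQCohD_truncLT hE a
  have hle : ((t.truncLT a).obj E).IsLE (a - 1) := by
    change t.IsLE _ _
    infer_instance
  have hle' : ((t.truncLT a).obj E).IsLE a := t.isLE_of_le _ (a - 1) a (by omega)
  have hle1' : t.IsLE (((t.truncLT a).obj E)⟦(1 : ℤ)⟧) (a - 2) :=
    t.isLE_shift _ (a - 1) 1 (a - 2) (by omega)
  have hle1 : (((t.truncLT a).obj E)⟦(1 : ℤ)⟧).IsLE a :=
    t.isLE_of_le _ (a - 2) a (by omega)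
  constructor
  · rintro ⟨N, hN⟩
    refine ⟨max N N₀, fun i hi φ => ?_⟩
    obtain ⟨ψ, hψ⟩ := Triangle.coyoneda_exact₃ _ hT φ
      (hN₀ i ((le_max_right _ _).trans hi) _ (PerfA.QCohD.isQCohD_shift hq 1) hle1 _)
    have h0 : ψ = 0 := hN i ((le_max_left _ _).trans hi) ψ
    subst h0
    exact hψ.trans zero_comp
  · rintro ⟨N, hN⟩
    refine ⟨max N N₀, fun i hi φ => ?_⟩
    obtain ⟨ψ, hψ⟩ := Triangle.coyoneda_exact₂ _ hT φ
      (hN i ((le_max_left _ _).trans hi) _)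
    have h0 : ψ = 0 := hN₀ i ((le_max_right _ _).trans hi) _ hq hle' ψ
    subst h0
    exact hψ.trans zero_comp

end Groth.Agent.S1022
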