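import Groth.Statements.S1023
import Groth.Agent.PerfA.Restrict

set_option autoImplicit false
universe u
open CategoryTheory CategoryTheory.Limits AlgebraicGeometry
attribute [local instance] HasDerivedCategory.standard
open Perf

namespace Groth.Agent.S1023

/-- Stacks Tag 0GEM: let the scheme X be quasi-compact and quasi-separated, P a perfect object of D(O_X), E ∈ D_QCoh(O_X) and a ∈ ℤ. Then the morphisms P[-i] ⟶ E vanish for all sufficiently negative i if and only if the morphisms P[-i] ⟶ τ_{≤ a}E vanish for all sufficiently negative i. -/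
theorem result (X : Scheme.{u}) [CompactSpace ↥X] [QuasiSeparatedSpace ↥X]
    (P : DCoh.D X) (hP : DCoh.IsPerfect P) (E : DCoh.D X) (hE : DCoh.IsQCohD E) (a : ℤ) :
    (∃ N : ℤ, ∀ i : ℤ, i ≤ N → ∀ φ : P⟦-i⟧ ⟶ E, φ = 0) ↔
    (∃ N : ℤ, ∀ i : ℤ, i ≤ N → ∀ φ : P⟦-i⟧ ⟶ ((DerivedCategory.TStructure.t : CategoryTheory.Triangulated.TStructure (DCoh.D X)).truncLE a).obj E, φ = 0) := by
  obtain ⟨-, b, -, hb⟩ := Groth.Agent.PerfA.Restrict.exists_bounds_of_isPerfect P hP
  have key : ∀ i : ℤ, i ≤ a - b → (P⟦-i⟧).IsLE a := fun i hi => by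
    have h1 : (P⟦-i⟧).IsLE (b + i) := (DerivedCategory.TStructure.t :
      CategoryTheory.Triangulated.TStructure (DCoh.D X)).isLE_shift P b (-i) (b + i) (by omega)
    exact (DerivedCategory.TStructure.t :
      CategoryTheory.Triangulated.TStructure (DCoh.D X)).isLE_of_le _ (b + i) a (by omega)
  constructor
  · rintro ⟨N, hN⟩
    refine ⟨min N (a - b), fun i hi φ => ?_⟩
    have := key i (hi.trans (min_le_right _ _))
    apply (DerivedCategory.TStructure.t :
      CategoryTheory.Triangulated.TStructure (DCoh.D X)).to_truncLE_obj_ext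
    rw [hN i (hi.trans (min_le_left _ _)) (φ ≫ _), zero_comp]
  · rintro ⟨N, hN⟩
    refine ⟨min N (a - b), fun i hi φ => ?_⟩
    have := key i (hi.trans (min_le_right _ _))
    rw [← (DerivedCategory.TStructure.t :
      CategoryTheory.Triangulated.TStructure (DCoh.D X)).liftTruncLE_ι φ a,
      hN i (hi.trans (min_le_left _ _)) (Triangulated.TStructure.liftTruncLE _ φ a), zero_comp]


end Groth.Agent.S1023
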