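import Groth.Statements.S1024
import Mathlib.CategoryTheory.Adjunction.PartialAdjoint
import Mathlib.CategoryTheory.Abelian.Exact
-- import your own Groth.Agent.* helpers here

set_option autoImplicit false
universe v u u'
open CategoryTheory Opposite
open CohDer

namespace Groth.Agent.S1024

/-- Stacks Tag 0793: let u : A ⥤ B be a functor between abelian categories and P a family of objects of B such that each object of B receives an epimorphism from some member of P, and such that for every member Pᵢ there is an object Q of A with Hom_A(Q, -) ≅ Hom_B(Pᵢ, u(-)) naturally. Then u is a right adjoint (has a left adjoint). -/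
theorem result {A : Type u} [Category.{v} A] [Abelian A] {B : Type u'} [Category.{v} B] [Abelian B]
    (u : A ⥤ B) {ι : Type*} (P : ι → B)
    (h1 : ∀ X : B, ∃ (i : ι) (π : P i ⟶ X), Epi π)
    (h2 : ∀ i : ι, ∃ Q : A, Nonempty (coyoneda.obj (op Q) ≅ u ⋙ coyoneda.obj (op (P i)))) :
    u.IsRightAdjoint := by
  have hP : ∀ i, u.leftAdjointObjIsDefined (P i) := fun i => by
    obtain ⟨Q, ⟨e⟩⟩ := h2 i
    exact (Functor.corepresentableByEquiv.symm e).isCorepresentable
  apply Functor.isRightAdjoint_of_leftAdjointObjIsDefined_eq_top
  ext X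
  simp only [Pi.top_apply, «Prop».top_eq_true, iff_true]
  obtain ⟨i, π, hπ⟩ := h1 X
  obtain ⟨j, p, hp⟩ := h1 (Limits.kernel π)
  let f : P j ⟶ P i := p ≫ Limits.kernel.ι π
  have w : f ≫ π = 0 := by simp [f]
  let S : ShortComplex B := ShortComplex.mk f π w
  have hS : S.Exact := by
    rw [ShortComplex.exact_iff_epi_kernel_lift]
    have : Limits.kernel.lift S.g S.f S.zero = p := by
      rw [← cancel_mono (Limits.kernel.ι _)]
      simp [S, f]
    rw [this]
    exact hp
  have : Epi S.g := hπ
  exact Functor.leftAdjointObjIsDefined_of_isColimit hS.gIsCokernel (by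
    rintro (_ | _)
    · exact hP j
    · exact hP i)

end Groth.Agent.S1024
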