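import Groth.Statements.S1036
import Groth.Agent.PerfB.ResolLift
-- import your own Groth.Agent.* helpers here

set_option autoImplicit false
universe u
open CategoryTheory CategoryTheory.Limits AlgebraicGeometry
attribute [local instance] HasDerivedCategory.standard
open Perf

namespace Groth.Agent.S1036

open Groth.Agent.PerfB.ResolLift Groth.Agent.PerfB.ResolQCx in
/-- Stacks Tag 0F8F: let the scheme X be quasi-compact, quasi-separated and have the resolution property. Every perfect object of D(O_X) is isomorphic in D(O_X) to (the image of) a strictly perfect complex, i.e. a bounded complex of finite locally free O_X-modules. -/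
theorem result (X : Scheme.{u}) [CompactSpace ↥X] [QuasiSeparatedSpace ↥X] (hX : PerfAux.HasResolutionProperty X) (K : DCoh.D X) (hK : DCoh.IsPerfect K) :
    ∃ E : CochainComplex X.Modules ℤ, DCoh.IsStrictlyPerfect E ∧ Nonempty (DCoh.toD X E ≅ K) := by
  obtain ⟨-, -, h3⟩ := incl_spec X hX
  obtain ⟨M, ⟨e⟩⟩ := (h3 K).1 (isQCohD_of_isPerfect K hK)
  obtain ⟨a, b, ha, hb⟩ := Groth.Agent.PerfA.Restrict.exists_bounds_of_isPerfect K hK
  have h4 : ((incl X).obj M).IsGE a := DerivedCategory.TStructure.t.isGE_of_iso e.symm a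
  have h5 : ((incl X).obj M).IsLE b := DerivedCategory.TStructure.t.isLE_of_iso e.symm b
  have := isGE_of_incl M a
  have := isLE_of_incl M b
  obtain ⟨M', hM'₁, hM'₂, ⟨e'⟩⟩ := DerivedCategory.exists_iso_Q_obj_of_isGE_of_isLE M a b
  have := isStrictlyGE_inclCx M' a
  have := isStrictlyLE_inclCx M' b
  let i : DerivedCategory.Q.obj ((inclCx X).obj M') ≅ K :=
    (inclQ.app M').symm ≪≫ (incl X).mapIso e'.symm ≪≫ e
  obtain ⟨G, q, hG, hq⟩ := Groth.Agent.PerfB.ResolMain.exists_strictlyPerfect_quasiIso X hX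
    ((inclCx X).obj M') a b (isQCoh_inclCx M')
    (Groth.Agent.PerfA.PerfLocal.isPerfect_of_iso i.symm hK)
  refine ⟨G, hG, ⟨?_⟩⟩
  rw [← DerivedCategory.isIso_Q_map_iff_quasiIso] at hq
  exact asIso (DerivedCategory.Q.map q) ≪≫ i

end Groth.Agent.S1036
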