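import Groth.Statements.S1037
import Groth.Agent.PerfB.ResolLift
-- import your own Groth.Agent.* helpers here

set_option autoImplicit false
universe u
open CategoryTheory CategoryTheory.Limits AlgebraicGeometry
attribute [local instance] HasDerivedCategory.standard
open Perf

namespace Groth.Agent.S1037

open Groth.Agent.PerfB.ResolLift Groth.Agent.PerfB.ResolQCx in
theorem aux (X : Scheme.{u}) [CompactSpace ↥X] [QuasiSeparatedSpace ↥X] (hX : PerfAux.HasResolutionProperty X)
    (E F : CochainComplex X.Modules ℤ) (hE : DCoh.IsStrictlyPerfect E) (hF : DCoh.IsStrictlyPerfect F)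
    (hE' : ∀ n, Coh.IsQCoh (E.X n)) (hF' : ∀ n, Coh.IsQCoh (F.X n))
    (α : DCoh.toD X E ⟶ DCoh.toD X F) :
    ∃ (G : CochainComplex X.Modules ℤ) (g : G ⟶ E) (h : G ⟶ F), DCoh.IsStrictlyPerfect G ∧ QuasiIso g ∧
      DerivedCategory.Q.map g ≫ α = DerivedCategory.Q.map h := by
  obtain ⟨h1, h2, -⟩ := incl_spec X hX
  obtain ⟨a₁, b₁, ha₁, hb₁⟩ := exists_bounds hE
  obtain ⟨a₂, b₂, ha₂, hb₂⟩ := exists_bounds hF
  have : E.IsStrictlyGE (min a₁ a₂) := E.isStrictlyGE_of_ge _ _ (min_le_left a₁ a₂)
  have : F.IsStrictlyGE (min a₁ a₂) := F.isStrictlyGE_of_ge _ _ (min_le_right a₁ a₂)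
  have := isStrictlyGE_lift E hE' (min a₁ a₂)
  have := isStrictlyGE_lift F hF' (min a₁ a₂)
  have := isStrictlyLE_lift E hE' b₁
  let eE : (incl X).obj (DerivedCategory.Q.obj (lift E hE')) ≅ DerivedCategory.Q.obj E :=
    inclQ.app (lift E hE') ≪≫ DerivedCategory.Q.mapIso (liftIso E hE')
  let eF : (incl X).obj (DerivedCategory.Q.obj (lift F hF')) ≅ DerivedCategory.Q.obj F :=
    inclQ.app (lift F hF') ≪≫ DerivedCategory.Q.mapIso (liftIso F hF')
  obtain ⟨α', hα'⟩ := h1.map_surjective (eE.hom ≫ α ≫ eF.inv)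
  obtain ⟨X', hX'₁, hX'₂, s, hs, g, hg⟩ :=
    DerivedCategory.right_fac_of_isStrictlyLE_of_isStrictlyGE (min a₁ a₂) b₁ α'
  have := isStrictlyGE_inclCx X' (min a₁ a₂)
  have := isStrictlyLE_inclCx X' b₁
  have nats := (inclQ (X := X)).hom.naturality s
  have natg := (inclQ (X := X)).hom.naturality g
  have hs' : IsIso (DerivedCategory.Q.map ((inclCx X).map s)) := by
    have : IsIso ((DerivedCategory.Q ⋙ incl X).map s) := by
      dsimp only [Functor.comp_map]
      infer_instance
    exact (NatIso.isIso_map_iff (inclQ (X := X)) s).1 this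
  have hperf : DCoh.IsPerfect (DCoh.toD X ((inclCx X).obj X')) :=
    Groth.Agent.PerfA.PerfLocal.isPerfect_of_iso
      (asIso (DerivedCategory.Q.map ((inclCx X).map s)) ≪≫
        DerivedCategory.Q.mapIso (liftIso E hE')).symm (Groth.Agent.PerfA.PerfLocal.isPerfect_Q hE)
  obtain ⟨G, q, hG, hq⟩ := Groth.Agent.PerfB.ResolMain.exists_strictlyPerfect_quasiIso X hX
    ((inclCx X).obj X') (min a₁ a₂) b₁ (isQCoh_inclCx X') hperf
  refine ⟨G, q ≫ (inclCx X).map s ≫ (liftIso E hE').hom,
    q ≫ (inclCx X).map g ≫ (liftIso F hF').hom, hG, ?_, ?_⟩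
  · rw [← DerivedCategory.isIso_Q_map_iff_quasiIso] at hq ⊢
    rw [Functor.map_comp, Functor.map_comp]
    infer_instance
  · have hgs : DerivedCategory.Q.map s ≫ α' = DerivedCategory.Q.map g := by
      rw [hg, IsIso.hom_inv_id_assoc]
    have h3 : (incl X).map (DerivedCategory.Q.map s) ≫ eE.hom ≫ α =
        (incl X).map (DerivedCategory.Q.map g) ≫ eF.hom := by
      rw [← hgs, Functor.map_comp, hα']
      simp
    have h4 : DerivedCategory.Q.map ((inclCx X).map s) ≫
        DerivedCategory.Q.map (liftIso E hE').hom ≫ α =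
        DerivedCategory.Q.map ((inclCx X).map g) ≫ DerivedCategory.Q.map (liftIso F hF').hom := by
      rw [← cancel_epi ((inclQ (X := X)).hom.app X')]
      refine Eq.trans ?_ (h3.trans ?_)
      · exact (Category.assoc _ _ _).symm.trans ((congrArg (· ≫ _) nats.symm).trans
          ((Category.assoc _ _ _).trans (congrArg (_ ≫ ·) (Category.assoc _ _ _).symm)))
      · exact (Category.assoc _ _ _).symm.trans ((congrArg (· ≫ _) natg).trans
          (Category.assoc _ _ _))
    rw [Functor.map_comp, Functor.map_comp, Functor.map_comp, Functor.map_comp,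
      Category.assoc, Category.assoc, h4]

/-- Stacks Tag 0F8G: let the scheme X be quasi-compact, quasi-separated and have the resolution property and E, F strictly perfect complexes of O_X-modules. Every morphism α : E ⟶ F in D(O_X) is represented by a roof E ⟵ G ⟶ F of genuine cochain maps with G strictly perfect and G ⟶ E a quasi-isomorphism: the image of G ⟶ E composed with α equals the image of G ⟶ F. -/
theorem result (X : Scheme.{u}) [CompactSpace ↥X] [QuasiSeparatedSpace ↥X] (hX : PerfAux.HasResolutionProperty X)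
    (E F : CochainComplex X.Modules ℤ) (hE : DCoh.IsStrictlyPerfect E) (hF : DCoh.IsStrictlyPerfect F)
    (α : DCoh.toD X E ⟶ DCoh.toD X F) :
    ∃ (G : CochainComplex X.Modules ℤ) (g : G ⟶ E) (h : G ⟶ F), DCoh.IsStrictlyPerfect G ∧ QuasiIso g ∧
      DerivedCategory.Q.map g ≫ α = DerivedCategory.Q.map h :=
  aux X hX E F hE hF
    (fun n => Groth.Agent.PerfB.ResolQC.isQCoh_of_isFinLocFree (hE.2 n))
    (fun n => Groth.Agent.PerfB.ResolQC.isQCoh_of_isFinLocFree (hF.2 n)) α

end Groth.Agent.S1037
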