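import Groth.Statements.S1028
import Groth.Agent.Cohder.KZPerf
import Groth.Agent.Dcoh.FinLocFree
import Groth.Agent.Dcoh.Spread
import Groth.Agent.PerfA.PerfLocal
import Groth.Agent.S1036
import Groth.Agent.S1037

set_option autoImplicit false
universe u
open CategoryTheory CategoryTheory.Limits AlgebraicGeometry
attribute [local instance] HasDerivedCategory.standard
open KZero

namespace Groth.Agent.S1028

open Groth.Agent.Cohder.KZPerf

/-- Stacks Tag 0FDJ: let the scheme X be quasi-compact, quasi-separated and have the resolution property. There is an isomorphism between K₀(Vect(X)) (free abelian group on finite locally free O_X-modules modulo short exact sequences of such) and K₀(X) = K₀(D_perf(O_X)) (free abelian group on perfect objects of D(O_X) modulo distinguished triangles of perfect objects) sending the class of a finite locally free module E to the class of E placed in degree 0. -/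
theorem result (X : Scheme.{u}) [CompactSpace ↥X] [QuasiSeparatedSpace ↥X] (hX : PerfAux.HasResolutionProperty X) :
    ∃ φ : KZero.K0sub (fun M : X.Modules => FlatMod.IsFinLocFree M) ≃+ KZero.K0tr (fun K : DCoh.D X => DCoh.IsPerfect K),
      ∀ E : X.Modules, FlatMod.IsFinLocFree E →
        φ (KZero.clSub (fun M : X.Modules => FlatMod.IsFinLocFree M) E) = KZero.clTr (fun K : DCoh.D X => DCoh.IsPerfect K) (DCoh.inD X E) := by
  have hV : VClosed (fun M : X.Modules => FlatMod.IsFinLocFree M) :=
    { zero := fun _ hZ => Groth.Agent.Dcoh.FinLocFree.isFinLocFree_of_isZero hZ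
      iso := fun e h => Groth.Agent.Dcoh.FinLocFree.isFinLocFree_of_iso e h
      biprod := fun h h' => Groth.Agent.Dcoh.FinLocFree.isFinLocFree_biprod h h'
      ker := fun f hf h h' => Groth.Agent.Dcoh.Spread.isFinLocFree_kernel f h h' }
  have hroof : Roofs (fun M : X.Modules => FlatMod.IsFinLocFree M) :=
    fun E F hE hF α => Groth.Agent.S1037.result X hX E F hE hF α
  have hP : ∀ K : DCoh.D X, DCoh.IsPerfect K ↔
      RepV (fun M : X.Modules => FlatMod.IsFinLocFree M) K := by
    intro K
    constructor
    · intro hK
      exact Groth.Agent.S1036.result X hX K hK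
    · rintro ⟨E, hE, ⟨e⟩⟩
      exact Groth.Agent.PerfA.PerfLocal.isPerfect_of_iso e
        (Groth.Agent.PerfA.PerfLocal.isPerfect_Q hE)
  obtain ⟨φ, hφ⟩ := exists_equiv hV hroof _ hP
  exact ⟨φ, fun E hE => hφ E hE⟩

end Groth.Agent.S1028
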