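import Groth.Statements.S1029
import Groth.Agent.S1028
import Groth.Agent.Cohder.K0Transfer
import Groth.Agent.PerfB.TildeExact
import Groth.Agent.PerfA.QCohSerre
import Groth.Agent.PerfA.QCohEpi
import Groth.Agent.PerfC.TildeFLF
import Groth.Agent.Ega1.FTAffine

set_option autoImplicit false
universe u
open CategoryTheory CategoryTheory.Limits AlgebraicGeometry
attribute [local instance] HasDerivedCategory.standard
open KZero

namespace Groth.Agent.S1029

/-- Affine schemes have the resolution property. -/
theorem hasResolutionProperty_spec (R : CommRingCat.{u}) :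
    PerfAux.HasResolutionProperty (Spec R) := by
  intro M hM hFT
  obtain ⟨N, ⟨e⟩⟩ := (PerfA.QCohSerre.spec_iff R M).1 hM
  have hN : Module.Finite R N := Ega1.FTAffine.finite_of_isFiniteType (R := R) N e.symm hFT
  obtain ⟨n, f, hf⟩ := Module.Finite.exists_fin' R N
  let P : ModuleCat.{u} R := ModuleCat.of R (Fin n → R)
  let φ : P ⟶ N := ModuleCat.ofHom f
  have hφ : Epi φ := (ModuleCat.epi_iff_surjective φ).2 hf
  have : (tilde.functor R).PreservesEpimorphisms :=
    Functor.preservesEpimorphisms_of_adjunction tilde.adjunction
  have h1 : Epi ((tilde.functor R).map φ) := inferInstance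
  have hP : Module.Finite R P := inferInstanceAs (Module.Finite R (Fin n → R))
  have hP' : Module.Projective R P := inferInstanceAs (Module.Projective R (Fin n → R))
  exact ⟨(tilde.functor R).obj P, (tilde.functor R).map φ ≫ e.hom,
    PerfC.TildeProj.isFinLocFree_tilde R P, epi_comp _ _⟩

/-- Over `Spec R`: `K₀` of finite projective modules is `K₀` of finite locally free sheaves. -/
theorem exists_equiv_spec (R : CommRingCat.{u}) :
    ∃ φ : KZero.K0sub (fun M : ModuleCat.{u} R => Module.Finite R M ∧ Module.Projective R M) ≃+
        KZero.K0sub (fun M : (Spec R).Modules => FlatMod.IsFinLocFree M),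
      ∀ (M : ModuleCat.{u} R), (Module.Finite R M ∧ Module.Projective R M) →
        φ (KZero.clSub (fun M : ModuleCat.{u} R => Module.Finite R M ∧ Module.Projective R M) M) =
          KZero.clSub (fun M : (Spec R).Modules => FlatMod.IsFinLocFree M) ((tilde.functor R).obj M) := by
  have hl : PreservesFiniteLimits (tilde.functor R) :=
    PerfB.TildeExact.preservesFiniteLimits_tilde _
  have : PreservesColimits (tilde.functor R) :=
    tilde.adjunction.leftAdjoint_preservesColimits
  exact Cohder.K0Transfer.exists_equiv (tilde.functor R)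
    (fun M : ModuleCat.{u} R => Module.Finite R M ∧ Module.Projective R M)
    (fun M : (Spec R).Modules => FlatMod.IsFinLocFree M)
    ⟨ModuleCat.of R PUnit.{u+1}, ModuleCat.isZero_of_subsingleton _,
      inferInstanceAs (Module.Finite R PUnit.{u+1}), inferInstanceAs (Module.Projective R PUnit.{u+1})⟩
    (fun M hM => by
      have := hM.1
      have := hM.2
      exact PerfC.TildeProj.isFinLocFree_tilde R M)
    (fun Y hY => by
      obtain ⟨N, ⟨e⟩⟩ := (PerfA.QCohSerre.spec_iff R Y).1
        (PerfA.QCohEpi.isQCoh_of_isFinLocFree hY)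
      exact ⟨N, PerfC.TildeFLF.finProj_of_isFinLocFree R N
        (Dcoh.FinLocFree.isFinLocFree_of_iso e.symm hY), ⟨e⟩⟩)

/-- Stacks Tag 0FDH: let A be a ring and X = Spec A. There is an isomorphism from K₀(A) (free abelian group on finite projective A-modules modulo short exact sequences of such) to K₀(X) = K₀(D_perf(O_X)) (free abelian group on perfect objects of D(O_X) modulo distinguished triangles among them) sending the class of M to the class of M~ placed in degree 0. -/
theorem result (A : Type u) [CommRing A] :
    ∃ φ : KZero.K0sub (fun M : ModuleCat.{u} A => Module.Finite A M ∧ Module.Projective A M) ≃+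
        KZero.K0tr (fun K : DCoh.D (Spec (CommRingCat.of A)) => DCoh.IsPerfect K),
      ∀ (M : ModuleCat.{u} A), Module.Finite A M → Module.Projective A M →
        φ (KZero.clSub (fun M : ModuleCat.{u} A => Module.Finite A M ∧ Module.Projective A M) M) =
          KZero.clTr (fun K : DCoh.D (Spec (CommRingCat.of A)) => DCoh.IsPerfect K) (DCoh.inD (Spec (CommRingCat.of A)) (tilde M)) := by
  obtain ⟨ψ, hψ⟩ := S1028.result (Spec (CommRingCat.of A)) (hasResolutionProperty_spec (CommRingCat.of A))
  obtain ⟨χ, hχ⟩ := exists_equiv_spec (CommRingCat.of A)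
  refine ⟨χ.trans ψ, fun M h1 h2 => ?_⟩
  refine (congrArg ψ (hχ M ⟨h1, h2⟩)).trans ?_
  exact hψ _ (PerfC.TildeProj.isFinLocFree_tilde A M)

end Groth.Agent.S1029
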