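import Groth.Statements.S1030
import Groth.Agent.Cohder.LeftResRel

set_option autoImplicit false
universe v u
open CategoryTheory CategoryTheory.Limits
open CohDer

namespace Groth.Agent.S1030

/-- Stacks Tag 06XX: let P be a class of objects of an abelian category, closed under isomorphisms, which holds for some zero object, is closed under binary direct sums, and such that every object is a quotient of an object satisfying P. For any cochain complex K there are bounded above complexes Pₙ (n ≥ 0) with terms satisfying P, termwise surjective quasi-isomorphisms πₙ : Pₙ ⟶ τ_{≤ n}K and termwise split injections ιₙ : Pₙ ⟶ Pₙ₊₁ whose cokernels satisfy P termwise, compatible in the sense that Pₙ ⟶ τ_{≤n}K ⟶ K equals Pₙ ⟶ Pₙ₊₁ ⟶ τ_{≤n+1}K ⟶ K. (The source indexes from 1.) -/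
theorem result {A : Type u} [Category.{v} A] [Abelian A] (P : ObjectProperty A) [P.IsClosedUnderIsomorphisms]
    (hP0 : ∃ Z : A, IsZero Z ∧ P Z) (hPsum : ∀ X Y : A, P X → P Y → P (X ⊞ Y))
    (hP : ∀ X : A, ∃ (Y : A) (π : Y ⟶ X), P Y ∧ Epi π) (K : CochainComplex A ℤ) :
    ∃ (Q : ℕ → CochainComplex A ℤ) (ι : ∀ n, Q n ⟶ Q (n + 1)) (π : ∀ n : ℕ, Q n ⟶ K.truncLE (n : ℤ)),
      (∀ n, QuasiIso (π n) ∧ ∀ i, Epi ((π n).f i)) ∧
      (∀ n, ∃ b : ℤ, (Q n).IsStrictlyLE b) ∧ (∀ n i, P ((Q n).X i)) ∧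
      (∀ n i, (∃ r : (Q (n + 1)).X i ⟶ (Q n).X i, (ι n).f i ≫ r = 𝟙 _) ∧ P (cokernel ((ι n).f i))) ∧
      (∀ n : ℕ, π n ≫ K.ιTruncLE (n : ℤ) = ι n ≫ π (n + 1) ≫ K.ιTruncLE ((n + 1 : ℕ) : ℤ)) := by
  choose Y π hY hπ using hP
  let C : Groth.Agent.Cohder.LeftRes.Cover P := { obj := Y, π := π, prop := hY, epi := hπ }
  -- the inductive construction
  let St : ℕ → Type (max u v) := fun n =>
    { q : Σ (Q : CochainComplex A ℤ), (Q ⟶ K.truncLE (n : ℤ)) //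
      q.1.IsStrictlyLE (n : ℤ) ∧ QuasiIso q.2 ∧ (∀ i, Epi (q.2.f i)) ∧ ∀ i, P (q.1.X i) }
  have h0 : Nonempty (St 0) := by
    obtain ⟨R, ρ, h1, h2, h3, h4⟩ :=
      Groth.Agent.Cohder.LeftRes.exists_resolution C hP0 (K.truncLE ((0 : ℕ) : ℤ)) ((0 : ℕ) : ℤ)
    exact ⟨⟨⟨R, ρ⟩, h1, h2, h3, h4⟩⟩
  have hstep : ∀ (n : ℕ) (s : St n), ∃ (t : St (n + 1)) (ι : s.1.1 ⟶ t.1.1),
      (∀ i, (∃ r : t.1.1.X i ⟶ s.1.1.X i, ι.f i ≫ r = 𝟙 _) ∧ P (cokernel (ι.f i))) ∧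
      s.1.2 ≫ K.ιTruncLE (n : ℤ) = ι ≫ t.1.2 ≫ K.ιTruncLE ((n + 1 : ℕ) : ℤ) := by
    rintro n ⟨⟨Q, π⟩, h1, h2, h3, h4⟩
    dsimp only at h1 h2 h3 h4
    have : (K.truncLE (n : ℤ)).IsStrictlyLE ((n + 1 : ℕ) : ℤ) :=
      (K.truncLE (n : ℤ)).isStrictlyLE_of_le (n : ℤ) _ (by lia)
    have h5 : Q.IsStrictlyLE ((n + 1 : ℕ) : ℤ) := Q.isStrictlyLE_of_le (n : ℤ) _ (by lia)
    let t : K.truncLE (n : ℤ) ⟶ K.truncLE ((n + 1 : ℕ) : ℤ) :=
      inv ((K.truncLE (n : ℤ)).ιTruncLE ((n + 1 : ℕ) : ℤ)) ≫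
        CochainComplex.truncLEMap (K.ιTruncLE (n : ℤ)) ((n + 1 : ℕ) : ℤ)
    have ht : t ≫ K.ιTruncLE ((n + 1 : ℕ) : ℤ) = K.ιTruncLE (n : ℤ) := by
      dsimp only [t]
      rw [Category.assoc, CochainComplex.ιTruncLE_naturality, IsIso.inv_hom_id_assoc]
    obtain ⟨Q', ι, π', h6, h7, h8, h9, h10, h11⟩ :=
      Groth.Agent.Cohder.LeftRes.exists_factorization C hP0 hPsum (π ≫ t) ((n + 1 : ℕ) : ℤ) h4
    refine ⟨⟨⟨Q', π'⟩, h7, h9, h10, h8⟩, ι, h11, ?_⟩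
    dsimp only
    rw [← Category.assoc, h6, Category.assoc, ht]
  choose nx ι hι using hstep
  let s : ∀ n, St n := fun n => Nat.rec h0.some (fun n s => nx n s) n
  have hs : ∀ n, s (n + 1) = nx n (s n) := fun n => rfl
  refine ⟨fun n => (s n).1.1, fun n => ι n (s n), fun n => (s n).1.2, ?_, ?_, ?_, ?_, ?_⟩
  · exact fun n => ⟨(s n).2.2.1, (s n).2.2.2.1⟩
  · exact fun n => ⟨_, (s n).2.1⟩
  · exact fun n i => (s n).2.2.2.2 i
  · exact fun n i => (hι n (s n)).1 i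
  · exact fun n => (hι n (s n)).2

end Groth.Agent.S1030
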