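import Groth.Statements.S1031
-- import your own Groth.Agent.* helpers here

set_option autoImplicit false
universe v u
open CategoryTheory
open CohDer

namespace Groth.Agent.S1031

open CategoryTheory.Limits CategoryTheory.Pretriangulated CategoryTheory.ObjectProperty

section

variable {D : Type u} [Category.{v} D] [Preadditive D] [Limits.HasZeroObject D] [HasShift D ℤ]
    [∀ n : ℤ, (shiftFunctor D n).Additive] [Pretriangulated D]

/-- closure of an object property under (chosen) binary products -/
def ClProd (P : ObjectProperty D) : Prop :=
  ∀ (X : WalkingPair → D), (∀ j, P (X j)) → P (∏ᶜ X)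

lemma clProd_extensionProduct (P Q : ObjectProperty D) (hP : ClProd P) (hQ : ClProd Q) :
    ClProd (extensionProduct P Q) := by
  intro X hX
  choose Y Z f g h hT hY hZ using hX
  exact ⟨_, _, _, _, _, productTriangle_distinguished (fun j => Triangle.mk (f j) (g j) (h j)) hT,
    hP _ hY, hQ _ hZ⟩

lemma clProd_retractClosure (P : ObjectProperty D) (hP : ClProd P) :
    ClProd P.retractClosure := by
  intro X hX
  choose Y hY hr using hX
  refine ⟨∏ᶜ Y, hP _ hY, ⟨?_⟩⟩
  exact
    { i := Limits.Pi.map (fun j => (hr j).some.i)
      r := Limits.Pi.map (fun j => (hr j).some.r)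
      retract := by
        apply Limits.Pi.hom_ext
        intro j
        simp }

lemma clProd_extensionProductIter (P : ObjectProperty D) (hP : ClProd P) (n : ℕ) :
    ClProd (P.extensionProductIter n) := by
  induction n with
  | zero => exact hP
  | succ n ih =>
    rw [extensionProductIter_succ]
    exact clProd_extensionProduct _ _ hP ih

lemma clProd_triangEnvelopeIter (P : ObjectProperty D) (n : ℕ) :
    ClProd (P.triangEnvelopeIter n) := by
  refine clProd_retractClosure _ (clProd_extensionProductIter _ (clProd_retractClosure _ ?_) n)
  intro X hX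
  exact (P.shiftClosure ℤ).binaryProductsClosure.prop_of_isLimit
    (limit.isLimit (Discrete.functor X)) (fun j => hX j.as)

lemma isClosedUnderBinaryProducts_of_clProd (P : ObjectProperty D) [P.IsClosedUnderIsomorphisms]
    (hP : ClProd P) : P.IsClosedUnderBinaryProducts where
  limitsOfShape_le := by
    rintro X ⟨p⟩
    have h1 : P (∏ᶜ fun j => p.diag.obj ⟨j⟩) := hP _ (fun j => p.prop_diag_obj ⟨j⟩)
    have e : X ≅ ∏ᶜ fun j => p.diag.obj ⟨j⟩ :=
      IsLimit.conePointsIsoOfNatIso p.isLimit (limit.isLimit (Discrete.functor _))
        (Discrete.natIsoFunctor)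
    exact P.prop_of_iso e.symm h1

variable [IsTriangulated D]

lemma exists_extensionProductIter_le (P : ObjectProperty D) (m n : ℕ) :
    ∃ N : ℕ, (P.triangEnvelopeIter m).extensionProductIter n ≤ P.triangEnvelopeIter N := by
  induction n with
  | zero => exact ⟨m, le_rfl⟩
  | succ n ih =>
    obtain ⟨N, hN⟩ := ih
    refine ⟨m + (N + 1), ?_⟩
    rw [extensionProductIter_succ, triangEnvelopeIter_add' P (n := m) rfl]
    exact (monotone_extensionProduct_right _ hN).trans (le_retractClosure _)

end

/-- Stacks Tag 0FXA: let D be a triangulated category admitting a strong generator G (every object is reached from G by shifts, finite sums, summands and a uniformly bounded number of extensions). Then every classical generator E of D (every object reached from E with some finite number of extensions) is itself a strong generator. -/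
theorem result {D : Type u} [Category.{v} D] [Preadditive D] [Limits.HasZeroObject D] [HasShift D ℤ]
    [∀ n : ℤ, (shiftFunctor D n).Additive] [Pretriangulated D] [IsTriangulated D]
    (G E : D) (hG : ObjectProperty.IsStrongTriangulatedGenerator (fun X : D => X = G))
    (hE : ObjectProperty.IsClassicalTriangulatedGenerator (fun X : D => X = E)) :
    ObjectProperty.IsStrongTriangulatedGenerator (fun X : D => X = E) := by
  set P : ObjectProperty D := fun X => X = E with hPdef
  set Q : ObjectProperty D := fun X => X = G with hQdef
  have : P.Nonempty := ⟨E, rfl⟩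
  obtain ⟨m, hm⟩ : ∃ m, P.triangEnvelopeIter m G := by
    rw [← prop_triangEnvelope_iff, hE]
    trivial
  obtain ⟨n, hn⟩ := hG
  have h1 : Q ≤ P.triangEnvelopeIter m := by
    intro X hX
    have hX' : X = G := hX
    rw [hX']
    exact hm
  have := isClosedUnderBinaryProducts_of_clProd _ (clProd_triangEnvelopeIter P m)
  have h2 : (Q.shiftClosure ℤ).binaryProductsClosure.retractClosure ≤ P.triangEnvelopeIter m := by
    rwa [retractClosure_le_iff, binaryProductsClosure_le_iff, shiftClosure_le_iff]
  obtain ⟨N, hN⟩ := exists_extensionProductIter_le P m n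
  refine ⟨N, ?_⟩
  rw [eq_top_iff, ← hn, triangEnvelopeIter, retractClosure_le_iff]
  exact (monotone_extensionProductIter h2 n).trans hN

end Groth.Agent.S1031
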