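import Groth.Statements.S1033
import Mathlib.Algebra.Homology.DerivedCategory.Fractions
import Mathlib.Algebra.Homology.DerivedCategory.Ext.ExactSequences

set_option autoImplicit false
universe w v u
open CategoryTheory CategoryTheory.Abelian
open CohDer

namespace Groth.Agent.S1033

open HomologicalComplex in
set_option backward.defeqAttrib.useBackward true in
set_option backward.isDefEq.respectTransparency false in
lemma epi_f_of_quasiIsoAt {C : Type u} [Category.{v} C] [Abelian C]
    {X : C} {K : CochainComplex C ℤ} {i : ℤ}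
    (π : K ⟶ (CochainComplex.singleFunctor C i).obj X) [K.IsStrictlyLE i] [QuasiIsoAt π i] :
    Epi (π.f i ≫ (singleObjXSelf (ComplexShape.up ℤ) i X).hom) := by
  let e := K.iCyclesIso i (i + 1) (by simp)
    ((K.isZero_of_isStrictlyLE i (i + 1) (by simp)).eq_of_tgt _ _)
  let α := e.inv ≫ K.homologyπ i ≫ homologyMap π i ≫ (singleObjHomologySelfIso _ _ _).hom
  have : π.f i = α ≫ (singleObjXSelf (ComplexShape.up ℤ) i X).inv := by
    rw [← cancel_epi e.hom]
    dsimp [α, e]
    rw [Category.assoc, Category.assoc, Category.assoc, iCyclesIso_hom_inv_id_assoc,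
      homologyπ_naturality_assoc]
    dsimp [CochainComplex.singleFunctor, CochainComplex.singleFunctors]
    rw [homologyπ_singleObjHomologySelfIso_hom_assoc,
      ← singleObjCyclesSelfIso_inv_iCycles, Iso.hom_inv_id_assoc, ← cyclesMap_i]
  rw [this, Category.assoc, Iso.inv_hom_id, Category.comp_id]
  dsimp only [α]
  infer_instance

open DerivedCategory in
set_option backward.defeqAttrib.useBackward true in
set_option backward.isDefEq.respectTransparency false in
lemma exists_epi_comp_eq_zero {C : Type u} [Category.{v} C] [Abelian C] [HasDerivedCategory.{w} C]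
    {X : C} {L : CochainComplex C ℤ} {i : ℤ}
    (φ : Q.obj ((CochainComplex.singleFunctor C i).obj X) ⟶ Q.obj L)
    (n : ℤ) (hn : n < i) [L.IsStrictlyLE n] :
    ∃ (P : C) (p : P ⟶ X), Epi p ∧ Q.map ((CochainComplex.singleFunctor C i).map p) ≫ φ = 0 := by
  obtain ⟨K, _, π, h, g, rfl⟩ := right_fac_of_isStrictlyLE φ i
  have hπ : QuasiIso π := by
    rwa [isIso_Q_map_iff_quasiIso] at h
  let s : (CochainComplex.singleFunctor C i).obj (K.X i) ⟶ K :=
    HomologicalComplex.mkHomFromSingle (𝟙 _) (by
      rintro _ rfl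
      apply (K.isZero_of_isStrictlyLE i (i + 1) (by simp)).eq_of_tgt)
  refine ⟨K.X i, π.f i ≫ (HomologicalComplex.singleObjXSelf (ComplexShape.up ℤ) i X).hom,
    epi_f_of_quasiIsoAt π, ?_⟩
  have h₁ : (CochainComplex.singleFunctor C i).map
      (π.f i ≫ (HomologicalComplex.singleObjXSelf (ComplexShape.up ℤ) i X).hom) = s ≫ π := by
    apply HomologicalComplex.from_single_hom_ext
    rw [HomologicalComplex.comp_f]
    dsimp only [s]
    erw [HomologicalComplex.mkHomFromSingle_f, HomologicalComplex.single_map_f_self]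
    simp
  rw [h₁, Q.map_comp, Category.assoc, IsIso.hom_inv_id_assoc, ← Q.map_comp]
  have h₂ : s ≫ g = 0 := by
    apply HomologicalComplex.from_single_hom_ext
    apply (L.isZero_of_isStrictlyLE n i hn).eq_of_tgt
  rw [h₂, Q.map_zero]

set_option backward.isDefEq.respectTransparency false in
lemma exists_epi_ext_comp_eq_zero {C : Type u} [Category.{v} C] [Abelian C] [HasExt.{w} C]
    {X Y : C} {n : ℕ} (e : Ext X Y (n + 1)) :
    ∃ (P : C) (p : P ⟶ X), Epi p ∧ (Ext.mk₀ p).comp e (zero_add _) = 0 := by
  let := HasDerivedCategory.standard C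
  obtain ⟨P, p, hp, h⟩ := exists_epi_comp_eq_zero (i := 0)
    (e.hom ≫ ((DerivedCategory.singleFunctors C).shiftIso (n + 1) (-(n + 1)) 0
    (by lia)).hom.app _) (-(n + 1)) (by lia) (L := (CochainComplex.singleFunctor C (-(n + 1))).obj Y)
  refine ⟨P, p, hp, ?_⟩
  apply Ext.homEquiv.injective
  simp only [← cancel_mono (((DerivedCategory.singleFunctors C).shiftIso (n + 1) (-(n + 1)) 0
    (by lia)).hom.app _), Ext.zero_hom, Limits.zero_comp]
  change ((Ext.mk₀ p).comp e (zero_add _)).hom ≫ _ = _
  rw [Ext.comp_hom, Ext.mk₀_hom, ShiftedHom.mk₀_comp]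
  rw [← Category.assoc] at h
  exact h

/-- Stacks Tag 0EWW: let A be an abelian category (with Ext groups in some universe) and p ≥ 0. If Extᵖ(B, C) = 0 for all objects B, C, then Extⁱ(B, C) = 0 for all i ≥ p and all B, C. -/
theorem result {A : Type u} [Category.{v} A] [Abelian A] [HasExt.{w} A] (p : ℕ)
    (h : ∀ (B C : A) (x : Ext B C p), x = 0) (i : ℕ) (hi : p ≤ i) (B C : A) (x : Ext B C i) : x = 0 := by
  induction i, hi using Nat.le_induction generalizing B C with
  | base => exact h B C x
  | succ n hn ih =>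
    obtain ⟨P, p, hp, h⟩ := exists_epi_ext_comp_eq_zero x
    let S := ShortComplex.mk _ _ (Limits.kernel.condition p)
    have hS : S.ShortExact :=
      { exact := ShortComplex.exact_of_f_is_kernel _ (Limits.kernelIsKernel S.g)
        mono_f := by dsimp [S]; infer_instance
        epi_g := hp }
    obtain ⟨y, hy⟩ := Ext.contravariant_sequence_exact₃ hS C x h (n₀ := n) (by lia)
    rw [← hy, ih _ _ y, Ext.comp_zero]

end Groth.Agent.S1033
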