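import Groth.Statements.S1038
import Groth.Agent.S1037
import Groth.Agent.PerfB.ResolCone
-- import your own Groth.Agent.* helpers here

set_option autoImplicit false
universe u
open CategoryTheory CategoryTheory.Limits AlgebraicGeometry
attribute [local instance] HasDerivedCategory.standard
open Perf

namespace Groth.Agent.S1038

/-- `fst : mappingCocone φ ⟶ K` composed with `φ` is null-homotopic. -/
noncomputable def homotopyFst {C : Type*} [Category C] [Preadditive C]
    {K L : CochainComplex C ℤ} (φ : K ⟶ L) [HomologicalComplex.HasHomotopyCofiber φ] :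
    Homotopy (CochainComplex.mappingCocone.fst φ ≫ φ) 0 :=
  (CochainComplex.HomComplex.Cochain.equivHomotopy _ _).symm
    ⟨-CochainComplex.mappingCocone.descCochain φ (m := -1) (n := 0)
      (0 : CochainComplex.HomComplex.Cochain K L (-1))
      (CochainComplex.HomComplex.Cochain.ofHom (𝟙 L)) (by lia), by
      rw [CochainComplex.HomComplex.δ_neg,
        CochainComplex.mappingCocone.δ_descCochain (n' := 1) _ _ _ _ (by lia)]
      simp⟩

/-- Stacks Tag 0F8H: let the scheme X be quasi-compact, quasi-separated and have the resolution property, E and F strictly perfect complexes, and α, β : E ⟶ F cochain maps with the same image in D(O_X). Then there are a strictly perfect complex G and a quasi-isomorphism γ : G ⟶ E such that γ ≫ α and γ ≫ β are homotopic. -/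
theorem result (X : Scheme.{u}) [CompactSpace ↥X] [QuasiSeparatedSpace ↥X] (hX : PerfAux.HasResolutionProperty X)
    (E F : CochainComplex X.Modules ℤ) (hE : DCoh.IsStrictlyPerfect E) (hF : DCoh.IsStrictlyPerfect F)
    (α β : E ⟶ F) (hαβ : DerivedCategory.Q.map α = DerivedCategory.Q.map β) :
    ∃ (G : CochainComplex X.Modules ℤ) (γ : G ⟶ E), DCoh.IsStrictlyPerfect G ∧ QuasiIso γ ∧ Nonempty (Homotopy (γ ≫ α) (γ ≫ β)) := by
  let δ : E ⟶ F := α - β
  have hδ : DerivedCategory.Q.map δ = 0 := by simp [δ, hαβ]
  have hT := DerivedCategory.mappingCocone_triangle_distinguished δ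
  obtain ⟨σ, hσ⟩ : ∃ σ : DerivedCategory.Q.obj E ⟶
      DerivedCategory.Q.obj (CochainComplex.mappingCocone δ),
      𝟙 _ = σ ≫ DerivedCategory.Q.map (CochainComplex.mappingCocone.fst δ) :=
    Pretriangulated.Triangle.coyoneda_exact₂ _ hT (𝟙 (DerivedCategory.Q.obj E))
      ((congrArg _ hδ).trans comp_zero)
  obtain ⟨G, g, h, hG, hg, hgh⟩ := Groth.Agent.S1037.result X hX E
    (CochainComplex.mappingCocone δ) hE 
      (Groth.Agent.PerfB.ResolCone.isStrictlyPerfect_mappingCocone hE hF δ) σ
  have hfst : DerivedCategory.Q.map (h ≫ CochainComplex.mappingCocone.fst δ) =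
      DerivedCategory.Q.map g := by
    rw [Functor.map_comp, ← hgh]
    exact (Category.assoc _ _ _).trans ((congrArg _ hσ.symm).trans (Category.comp_id _))
  refine ⟨G, h ≫ CochainComplex.mappingCocone.fst δ, hG, ?_, ⟨?_⟩⟩
  · rw [← DerivedCategory.isIso_Q_map_iff_quasiIso, hfst]
    infer_instance
  · refine (Homotopy.equivSubZero.symm ?_)
    have h0 := (homotopyFst δ).compLeft h
    refine Homotopy.trans (Homotopy.ofEq ?_) (h0.trans (Homotopy.ofEq comp_zero))
    simp [δ, Preadditive.comp_sub]

end Groth.Agent.S1038
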