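import Groth.Statements.S1045
import Groth.Agent.S0997
import Groth.Agent.PerfB.TildeTorsion
-- import your own Groth.Agent.* helpers here

set_option autoImplicit false
universe u
open CategoryTheory CategoryTheory.Limits AlgebraicGeometry
attribute [local instance] HasDerivedCategory.standard
open Perf

namespace Groth.Agent.S1045

open Groth.Agent.PerfB

lemma aux {C D : Type*} [Category* C] [Category* D] (F : C ⥤ D) {X₁ X₂ M : C} {Y E : D}
    (v : Y ≅ F.obj X₁) (e : F.obj M ≅ E) (s : Y ⟶ E) (c : X₁ ⟶ X₂) (ψ : X₂ ⟶ M) (s' : X₁ ⟶ M)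
    (hs' : F.map s' = v.inv ≫ s ≫ e.inv) (h : c ≫ ψ = s') :
    (v.hom ≫ F.map c) ≫ F.map ψ ≫ e.hom = s := by
  rw [Category.assoc, ← Functor.map_comp_assoc, h, hs']
  simp

/-- Stacks Tag 08E3: let A be a ring, f₁, …, f_r elements of A, X = Spec A and U ⊆ X the open complement of V(f₁, …, f_r). Let E ∈ D(O_X) have quasi-coherent cohomology sheaves with Hⁱ(E)|_U = 0 for -r < i ≤ 0. Then (tilde being recorded as exact) every morphism s : O_X ⟶ E in D(O_X) factors as O_X ⟶ K_e ⟶ E for some e ≥ 0, where K_e is the object of D(O_X) associated with the Koszul complex on f₁^e, …, f_r^e. -/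
theorem result (A : Type u) [CommRing A] (fs : List A) [PreservesFiniteLimits (tilde.functor (CommRingCat.of A))]
    (E : DCoh.D (Spec (CommRingCat.of A))) (hE : DCoh.IsQCohD E)
    (hU : ∀ i : ℤ, -(fs.length : ℤ) < i → i ≤ 0 → IsZero ((DCoh.HD E i).restrict (LocCoh.puncturedOpen A (Ideal.span {a | a ∈ fs})).ι))
    (s : DCoh.inD (Spec (CommRingCat.of A)) (Coh.structureModule (Spec (CommRingCat.of A))) ⟶ E) :
    ∃ (e : ℕ) (ψ : (DCoh.tildeD (CommRingCat.of A)).obj (DerivedCategory.Q.obj (Koszul.koszul A (fs.map (fun a => a ^ e)))) ⟶ E)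
      (t : DCoh.inD (Spec (CommRingCat.of A)) (Coh.structureModule (Spec (CommRingCat.of A))) ⟶
        (DCoh.tildeD (CommRingCat.of A)).obj (DerivedCategory.Q.obj (Koszul.koszul A (fs.map (fun a => a ^ e))))),
      t ≫ ψ = s := by
  obtain ⟨hfull, -, hess⟩ := Groth.Agent.S0997.result (CommRingCat.of A)
  obtain ⟨M, ⟨e⟩⟩ := (hess E).1 hE
  have htor : ∀ i : ℤ, -(fs.length : ℤ) < i → i ≤ 0 → ∀ a ∈ fs, KoszulHom.TorsD a i M := by
    intro i h1 h2 a ha
    refine TildeTorsion.torsD_of_isZero_restrict M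
      (LocCoh.puncturedOpen A (Ideal.span {a | a ∈ fs})) i ?_ a
      (TildeTorsion.basicOpen_le_puncturedOpen fs a ha)
    refine (hU i h1 h2).of_iso ?_
    exact (Scheme.Modules.restrictFunctor _).mapIso
      ((DerivedCategory.homologyFunctor _ i).mapIso e)
  obtain ⟨s', hs'⟩ := (DCoh.tildeD (CommRingCat.of A)).map_surjective
    (X := DerivedCategory.Q.obj (Koszul.koszul A []))
    ((TildeTorsion.unitIso (CommRingCat.of A)).inv ≫ s ≫ e.inv)
  obtain ⟨n, hn⟩ := KoszulHom.exists_factor fs M s' htor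
  obtain ⟨ψ, hψ⟩ := hn n le_rfl
  exact ⟨n, (DCoh.tildeD (CommRingCat.of A)).map ψ ≫ e.hom,
    (TildeTorsion.unitIso (CommRingCat.of A)).hom ≫
      (DCoh.tildeD (CommRingCat.of A)).map (DerivedCategory.Q.map (KoszulHom.can _)),
    aux (DCoh.tildeD (CommRingCat.of A)) (TildeTorsion.unitIso (CommRingCat.of A)) e s _ ψ s'
      hs' hψ⟩

end Groth.Agent.S1045
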