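import Groth.Statements.S1046
import Groth.Agent.PerfB.GammaZ

set_option autoImplicit false
universe u
open CategoryTheory CategoryTheory.Limits AlgebraicGeometry
attribute [local instance] HasDerivedCategory.standard
open Perf

namespace Groth.Agent.S1046

open Groth.Agent.PerfB.RGPlus Groth.Agent.PerfB.GammaZ Groth.Agent.Etrest.RDer1

theorem aux (X : Scheme.{u}) (U : X.Opens) [QuasiCompact U.ι] [EnoughInjectives X.Modules]
    (E : DerivedCategory.Plus X.Modules) :
    ∃ (I : CochainComplex X.Modules ℤ) (_ : ∀ n, Injective (I.X n)) (a : ℤ) (_ : I.IsStrictlyGE a),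
      (∀ n, Nonempty (DCoh.HD E.obj n ≅ I.homology n)) ∧
      (∀ n, Nonempty (DCoh.HD ((DCoh.RgammaZPlus U.ι).obj E).obj n ≅
        (((DCoh.gammaZ U.ι).mapHomologicalComplex (.up ℤ)).obj I).homology n)) := by
  obtain ⟨a, ha⟩ := E.property
  have : E.IsGE a := (DerivedCategory.Plus.isGE_ι_obj_iff E a).1 ha
  obtain ⟨I, hI, hIa, ⟨e⟩⟩ := exists_objPlus E a
  refine ⟨I, hI, a, hIa, fun n => ⟨?_⟩, fun n => ⟨?_⟩⟩
  · exact (DerivedCategory.Plus.homologyFunctor X.Modules n).mapIso e.symm ≪≫ homologyIso I hI a n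
  · exact (DerivedCategory.Plus.homologyFunctor X.Modules n).mapIso
      ((RGIso (DCoh.gammaZ U.ι)).app E ≪≫ (RG (DCoh.gammaZ U.ι)).mapIso e.symm) ≪≫
      homologyRGIso (DCoh.gammaZ U.ι) I hI a n

/-- Stacks Tag 0G7G, part (1), for bounded below objects: let U ⊆ X be an open subscheme with quasi-compact inclusion and T = X ∖ U. Assuming O_X-modules have enough injectives (true, not recorded), for every bounded below E ∈ D(O_X) with quasi-coherent cohomology sheaves, the derived sections with support RΓ_T(E) (right derived functor of F ↦ ker(F → j_*(F|_U))) has quasi-coherent cohomology sheaves, all supported on T. -/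
theorem result (X : Scheme.{u}) (U : X.Opens) [QuasiCompact U.ι] [EnoughInjectives X.Modules]
    (E : DerivedCategory.Plus X.Modules) (hE : DCoh.IsQCohD E.obj) :
    DCoh.IsQCohD ((DCoh.RgammaZPlus U.ι).obj E).obj ∧
    ∀ i : ℤ, CohB1.support (DCoh.HD ((DCoh.RgammaZPlus U.ι).obj E).obj i) ⊆ (U : Set X)ᶜ := by
  obtain ⟨I, hI, a, hIa, h1, h2⟩ := aux X U E
  have h3 : ∀ n, Coh.IsQCoh (I.homology n) := fun n =>
    Groth.Agent.PerfA.QCohSerre.isQCoh_of_iso (h1 n).some (hE n)
  refine ⟨fun n => ?_, fun n x hx hxU => hx ?_⟩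
  · exact Groth.Agent.PerfA.QCohSerre.isQCoh_of_iso (h2 n).some.symm
      (isQCoh_homology_gammaZ U.ι I hI a h3 n)
  · have h4 := support_homology_gammaZ U.ι I n ⟨x, hxU⟩
    have h5 := (Groth.Agent.PerfA.Restrict.stalkAb x).mapIso (h2 n).some
    have h6 : IsZero ((Groth.Agent.PerfA.Restrict.stalkAb x).obj
        ((((DCoh.gammaZ U.ι).mapHomologicalComplex (.up ℤ)).obj I).homology n)) :=
      @AddCommGrpCat.isZero_of_subsingleton _ h4
    exact AddCommGrpCat.subsingleton_of_isZero (h6.of_iso h5)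

end Groth.Agent.S1046
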