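import Groth.Statements.S1047
import Groth.Agent.PerfB.FinFreeRes

set_option autoImplicit false
universe u
open CategoryTheory CategoryTheory.Limits
attribute [local instance] HasDerivedCategory.standard
open Perf

namespace Groth.Agent.S1047

section

variable (A : Type u) [CommRing A] (R : Type u) [Ring R] [Algebra A R]

/-- restriction of scalars of a finite free module along a finite free algebra -/
lemma restrict_finFree [Module.Finite A R] [Module.Free A R] (X : ModuleCat.{u} R)
    (hX : Module.Finite R X ∧ Module.Free R X) :
    Module.Finite A ((ModuleCat.restrictScalars.{u} (algebraMap A R)).obj X) ∧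
      Module.Free A ((ModuleCat.restrictScalars.{u} (algebraMap A R)).obj X) := by
  obtain ⟨h₁, h₂⟩ := hX
  let _ : Module A X := Module.compHom X (algebraMap A R)
  have : IsScalarTower A R X := ⟨fun a r x => by
    change (a • r) • x = (algebraMap A R a) • (r • x)
    rw [Algebra.smul_def, mul_smul]⟩
  exact ⟨Module.Finite.trans (R := A) R X, Module.Free.trans (R := A) (S := R) (M := X)⟩

lemma finite_of_restrict (X : ModuleCat.{u} R)
    (hX : Module.Finite A ((ModuleCat.restrictScalars.{u} (algebraMap A R)).obj X)) :
    Module.Finite R X := by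
  let _ : Module A X := Module.compHom X (algebraMap A R)
  have : IsScalarTower A R X := ⟨fun a r x => by
    change (a • r) • x = (algebraMap A R a) • (r • x)
    rw [Algebra.smul_def, mul_smul]⟩
  have : Module.Finite A X := hX
  exact Module.Finite.of_restrictScalars_finite A R X

end

/-- Stacks Tag 0CSF: let A be a commutative ring and R an A-algebra, not necessarily commutative, whose underlying A-module is finite free. Restriction of scalars being exact (carried as instance hypotheses), if an object M of D(R) becomes pseudo-coherent in D(A) after restriction of scalars (isomorphic to a bounded above complex of finite free A-modules), then M is represented by a bounded above complex of finite free R-modules. (The source phrases this for right modules; we use left modules, which is the same statement for the opposite algebra.) -/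
theorem result (A : Type u) [CommRing A] (R : Type u) [Ring R] [Algebra A R]
    [Module.Finite A R] [Module.Free A R]
    [PreservesFiniteLimits (ModuleCat.restrictScalars.{u} (algebraMap A R))] [PreservesFiniteColimits (ModuleCat.restrictScalars.{u} (algebraMap A R))]
    (M : DerivedCategory (ModuleCat.{u} R))
    (hM : DRing.IsPseudoCoherent' A (((ModuleCat.restrictScalars.{u} (algebraMap A R)).mapDerivedCategory).obj M)) :
    ∃ (F : CochainComplex (ModuleCat.{u} R) ℤ) (b : ℤ), (∀ i : ℤ, b < i → IsZero (F.X i)) ∧
      (∀ i : ℤ, Module.Finite R (F.X i) ∧ Module.Free R (F.X i)) ∧ Nonempty (DerivedCategory.Q.obj F ≅ M) := by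
  classical
  let Φ := ModuleCat.restrictScalars.{u} (algebraMap A R)
  let Φc := Φ.mapHomologicalComplex (ComplexShape.up ℤ)
  obtain ⟨E, b₀, hE₁, hE₂, ⟨e₀⟩⟩ := hM
  let K := DerivedCategory.Q.objPreimage M
  let eK : DerivedCategory.Q.obj K ≅ M := DerivedCategory.Q.objObjPreimageIso M
  let e : DerivedCategory.Q.obj (Φc.obj K) ≅ DerivedCategory.Q.obj E :=
    (Φ.mapDerivedCategoryFactors.app K).symm ≪≫ Φ.mapDerivedCategory.mapIso eK ≪≫ e₀.symm
  -- homology commutes with restriction of scalars
  have hH (T : CochainComplex (ModuleCat.{u} R) ℤ) (i : ℤ) :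
      Nonempty (Φ.obj (T.homology i) ≅ (Φc.obj T).homology i) :=
    ⟨((T.sc i).mapHomologyIso Φ).symm⟩
  have hExact (T : CochainComplex (ModuleCat.{u} R) ℤ) (i : ℤ) :
      T.ExactAt i ↔ (Φc.obj T).ExactAt i := by
    obtain ⟨e'⟩ := hH T i
    rw [HomologicalComplex.exactAt_iff_isZero_homology,
      HomologicalComplex.exactAt_iff_isZero_homology, ← e'.isZero_iff]
    constructor
    · intro h
      exact Φ.map_isZero h
    · intro h
      have h' : Subsingleton (Φ.obj (T.homology i)) := ModuleCat.subsingleton_of_isZero h
      have h'' : Subsingleton (T.homology i) := h'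
      exact ModuleCat.isZero_of_subsingleton _
  have hK : ∀ i > b₀, K.ExactAt i := by
    intro i hi
    rw [hExact]
    refine Groth.Agent.PerfB.KProjTop.exactAt_of_iso e.symm i ?_
    exact ShortComplex.exact_of_isZero_X₂ _ (hE₁ i hi)
  obtain ⟨F, f, hF₁, hF₂, hf⟩ := Groth.Agent.PerfB.LeftRes.exists_resolution
    (P := Groth.Agent.PerfB.FinFreeRes.finFree R) K b₀ hK (fun n hn S => by
      apply Groth.Agent.PerfB.FinFreeRes.exists_cover
      apply finite_of_restrict A R
      obtain ⟨e₁⟩ := hH (CochainComplex.mappingCone S.f) n
      have e₂ : Φc.obj (CochainComplex.mappingCone S.f) ≅ CochainComplex.mappingCone (Φc.map S.f) :=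
        CochainComplex.mappingCone.mapHomologicalComplexIso S.f Φ
      have hfin : Module.Finite A ((CochainComplex.mappingCone (Φc.map S.f)).homology n) := by
        refine Groth.Agent.PerfB.FinFreeRes.finite_homology_mappingCone (Φc.map S.f) e b₀
          (fun i hi => Φ.map_isZero (S.zeroGT i hi)) hE₁
          (fun i => ⟨(restrict_finFree A R _ (S.prop i)).1, ?_⟩)
          (fun i => ⟨(hE₂ i).1, ?_⟩) n (fun i hi => ?_)
        · have := (restrict_finFree A R _ (S.prop i)).2
          exact inferInstanceAs (Module.Projective A
            ((ModuleCat.restrictScalars.{u} (algebraMap A R)).obj (S.F.X i)))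
        · have := (hE₂ i).2
          exact Module.Projective.of_free
        · refine HomologicalComplex.ExactAt.of_iso ((hExact _ i).1 (S.exactAt_mappingCone i hi)) e₂
      exact Module.Finite.equiv ((HomologicalComplex.homologyMapIso e₂ n).symm ≪≫
        e₁.symm).toLinearEquiv)
  exact ⟨F, b₀, hF₁, hF₂, ⟨asIso (DerivedCategory.Q.map f) ≪≫ eK⟩⟩

end Groth.Agent.S1047
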