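import Groth.Statements.S1104
import Groth.Agent.S0997
import Groth.Agent.PerfB.DQGeom
import Groth.Agent.PerfC.TildeInjAdapted
import Groth.Agent.PerfC.QCohInj

set_option autoImplicit false
universe u
open CategoryTheory CategoryTheory.Limits AlgebraicGeometry
attribute [local instance] HasDerivedCategory.standard
open Perf

namespace Groth.Agent.S1104

/-- Stacks Tag 09T4: let X be a Noetherian scheme. Granting that quasi-coherent modules contain zero and are closed under kernels, cokernels and finite products in all O_X-modules, with exact inclusion (true facts, carried as instance hypotheses; they make QCoh(O_X) an abelian category), the induced functor D(QCoh(O_X)) ⥤ D(O_X) is full and faithful, and an object of D(O_X) lies in its essential image if and only if its cohomology sheaves are quasi-coherent. -/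
theorem result (X : Scheme.{u}) [IsNoetherian X]
    [ObjectProperty.ContainsZero (fun M : X.Modules => Coh.IsQCoh M)] [ObjectProperty.IsClosedUnderKernels (fun M : X.Modules => Coh.IsQCoh M)]
    [ObjectProperty.IsClosedUnderCokernels (fun M : X.Modules => Coh.IsQCoh M)] [ObjectProperty.IsClosedUnderFiniteProducts (fun M : X.Modules => Coh.IsQCoh M)]
    [PreservesFiniteLimits (ObjectProperty.ι (fun M : X.Modules => Coh.IsQCoh M))] [PreservesFiniteColimits (ObjectProperty.ι (fun M : X.Modules => Coh.IsQCoh M))] :
    (ObjectProperty.ι (fun M : X.Modules => Coh.IsQCoh M)).mapDerivedCategory.Full ∧ (ObjectProperty.ι (fun M : X.Modules => Coh.IsQCoh M)).mapDerivedCategory.Faithful ∧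
    ∀ K : DCoh.D X, DCoh.IsQCohD K ↔ ∃ M, Nonempty ((ObjectProperty.ι (fun M : X.Modules => Coh.IsQCoh M)).mapDerivedCategory.obj M ≅ K) := by
  obtain ⟨ι, _, U, hU⟩ := PerfC.QCohInj.exists_finite_affine_cover X
  refine PerfB.DQGeom.main (fun i => Γ(X, (U i).1)) (fun i => (U i).2.fromSpec) ?_ ?_ ?_ ?_
  · intro x
    obtain ⟨i, hi⟩ := hU x
    exact ⟨i, by simpa using hi⟩
  · intro i
    have := S0997.result (Γ(X, (U i).1))
    exact ⟨this.1, this.2.1, fun K hK => (this.2.2 K).1 hK⟩
  · intro i N
    exact PerfC.QCohInj.isQCoh_push _ N
  · intro i N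
    have : IsNoetherianRing Γ(X, (U i).1) := IsLocallyNoetherian.component_noetherian (U i)
    exact PerfC.TildeInjAdapted.exists_adapted _ _ N

end Groth.Agent.S1104
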