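import Groth.Statements.S1049
import Groth.Agent.Fdesc.SubDerMain
import Groth.Agent.S1104
import Groth.Agent.PerfC.FTExt
import Groth.Agent.PerfA.QCohExt
import Groth.Agent.PerfA.CohSerre
import Groth.Agent.PerfB.ResolQC

set_option autoImplicit false
universe u
open CategoryTheory CategoryTheory.Limits AlgebraicGeometry
attribute [local instance] HasDerivedCategory.standard
open Perf

namespace Groth.Agent.S1049

open Groth.Agent.Fdesc Groth.Agent.PerfA.QCohSerre Groth.Agent.PerfA.CohSerre

/-- Inside the quasi-coherent modules on a Noetherian scheme the coherent ones form a Serre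
class. -/
theorem isSerreClass_sub (X : Scheme.{u}) [IsNoetherian X] :
    (SubDer.sub (cohp X) (qcoh X)).IsSerreClass := by
  have h0 : (SubDer.sub (cohp X) (qcoh X)).ContainsZero :=
    ⟨(HasZeroObject.zero (C := (qcoh X).FullSubcategory)).choose,
      (HasZeroObject.zero (C := (qcoh X).FullSubcategory)).choose_spec,
      isCoh_of_isZero ((qcoh X).ι.map_isZero
        (HasZeroObject.zero (C := (qcoh X).FullSubcategory)).choose_spec)⟩
  have h1 : (SubDer.sub (cohp X) (qcoh X)).IsClosedUnderSubobjects :=
    ⟨fun f hf hY => by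
      have : Mono ((qcoh X).ι.map f) := inferInstance
      exact isCoh_of_mono ((qcoh X).ι.map f) (ObjectProperty.FullSubcategory.property _) hY⟩
  have h2 : (SubDer.sub (cohp X) (qcoh X)).IsClosedUnderQuotients :=
    ⟨fun f hf hX => by
      have : Epi ((qcoh X).ι.map f) := inferInstance
      exact ⟨ObjectProperty.FullSubcategory.property _,
        CohqB.LocalQC.isFT_of_epi ((qcoh X).ι.map f) hX.2⟩⟩
  have h3 : (SubDer.sub (cohp X) (qcoh X)).IsClosedUnderExtensions :=
    ⟨fun {S} hS hX₁ hX₃ => PerfA.QCohExt.isCoh_ext (hS.map_of_exact (qcoh X).ι) hX₁ hX₃⟩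
  exact { }

/-- Stacks Tag 0FDB, bounded case: let X be a Noetherian scheme. Granting that coherent modules contain zero and are closed under kernels, cokernels and finite products in all O_X-modules, with exact inclusion (true on a Noetherian scheme, carried as instance hypotheses; they make Coh(O_X) an abelian category), the induced functor D(Coh(O_X)) ⥤ D(O_X) is fully faithful on bounded objects, and a bounded object of D(O_X) with coherent cohomology sheaves is isomorphic to the image of a bounded object of D(Coh(O_X)). -/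
theorem result (X : Scheme.{u}) [IsNoetherian X]
    [ObjectProperty.ContainsZero (fun M : X.Modules => Coh.IsCoh M)] [ObjectProperty.IsClosedUnderKernels (fun M : X.Modules => Coh.IsCoh M)]
    [ObjectProperty.IsClosedUnderCokernels (fun M : X.Modules => Coh.IsCoh M)] [ObjectProperty.IsClosedUnderFiniteProducts (fun M : X.Modules => Coh.IsCoh M)]
    [PreservesFiniteLimits (ObjectProperty.ι (fun M : X.Modules => Coh.IsCoh M))] [PreservesFiniteColimits (ObjectProperty.ι (fun M : X.Modules => Coh.IsCoh M))] :
    (∀ (M N : DerivedCategory (ObjectProperty.FullSubcategory (fun M : X.Modules => Coh.IsCoh M))) (a b : ℤ), M.IsGE a → M.IsLE b → N.IsGE a → N.IsLE b →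
      Function.Bijective (fun φ : M ⟶ N => (ObjectProperty.ι (fun M : X.Modules => Coh.IsCoh M)).mapDerivedCategory.map φ)) ∧
    ∀ (K : DCoh.D X) (a b : ℤ), K.IsGE a → K.IsLE b → DCoh.IsCohD K →
      ∃ M : DerivedCategory (ObjectProperty.FullSubcategory (fun M : X.Modules => Coh.IsCoh M)), M.IsGE a ∧ M.IsLE b ∧
        Nonempty ((ObjectProperty.ι (fun M : X.Modules => Coh.IsCoh M)).mapDerivedCategory.obj M ≅ K) := by
  let P : ObjectProperty X.Modules := cohp X
  let Q : ObjectProperty X.Modules := qcoh X
  have hPQ : P ≤ Q := fun M hM => hM.1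
  have hs : (SubDer.sub P Q).IsSerreClass := isSerreClass_sub X
  obtain ⟨hfull, hfaith, hess⟩ := S1104.result X
  obtain ⟨h1, h2⟩ := SubDer.main (cohp X) (qcoh X) hPQ hs (fun F G π hπ hF hG => by
    obtain ⟨M, j, hM, hM', hj, he⟩ := PerfC.FTExt.exists_isFT_mono_epi hF hG.1 hG.2 π
    exact ⟨M, j, hj, ⟨hM, hM'⟩, he⟩) hfull hfaith
  refine ⟨fun M N a b _ hMb _ hNb => h1 M N b hMb hNb, fun K a b hKa hKb hK => ?_⟩
  obtain ⟨M, hM, ⟨e⟩⟩ := h2 K b hKb hK ((hess K).1 fun n => (hK n).1)
  refine ⟨M, ?_, hM, ⟨e⟩⟩
  refine SubDer.isGE_of_map (cohp X).ι (SubDer.isZero_of_isZero_obj (cohp X).ι) M a ?_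
  rw [DerivedCategory.isGE_iff] at hKa ⊢
  intro i hi
  exact (hKa i hi).of_iso ((DerivedCategory.homologyFunctor _ i).mapIso e)

end Groth.Agent.S1049
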