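import Groth.Statements.S1051
import Mathlib.CategoryTheory.Triangulated.Yoneda

set_option autoImplicit false
universe v u
open CategoryTheory
open CohDer

namespace Groth.Agent.S1051

section

open CategoryTheory.Pretriangulated

variable {D : Type u} [Category.{v} D] [Preadditive D] [Limits.HasZeroObject D] [HasShift D ℤ]
    [∀ n : ℤ, (shiftFunctor D n).Additive] [Pretriangulated D]

/-- If maps from all `T[1]` to the third object vanish, maps from `T` to the first object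
are detected by the second. -/
lemma eq_zero_of_comp_eq_zero (τ : Triangle D) (hτ : τ ∈ distinguishedTriangles) {T : D}
    (h : ∀ g : (shiftFunctor D (1 : ℤ)).obj T ⟶ τ.obj₃, g = 0)
    (φ : T ⟶ τ.obj₁) (hφ : φ ≫ τ.mor₁ = 0) : φ = 0 := by
  obtain ⟨g, hg⟩ := Triangle.coyoneda_exact₁ τ hτ ((shiftFunctor D (1 : ℤ)).map φ)
    (by rw [← Functor.map_comp, hφ, Functor.map_zero])
  rw [h g, Limits.zero_comp] at hg
  exact (shiftFunctor D (1 : ℤ)).map_injective (by rw [hg, Functor.map_zero])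

variable (X : ChainComplex D ℕ) (n : ℕ)

/-- The property carried along the induction. -/
def Good (k : ℕ) (p : Σ Y : D, (Y ⟶ X.X k)) : Prop :=
  (k + 1 ≤ n → ∃ b : X.X (k + 1) ⟶ p.1, b ≫ p.2 = X.d (k + 1) k) ∧
  (∀ (i : ℕ), k + 2 < i → i ≤ n → ∀ (s : ℤ), s = (i : ℤ) - k - 2 →
    ∀ φ : (shiftFunctor D s).obj (X.X i) ⟶ p.1, φ = 0) ∧
  (k + 2 ≤ n → ∀ ψ : X.X (k + 2) ⟶ p.1, ψ ≫ p.2 = 0 → ψ = 0)

variable {X n}

/-- The inductive step. -/
lemma exists_next (hX : ∀ i j : ℕ, j + 2 < i → i ≤ n →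
      ∀ φ : (shiftFunctor D ((i : ℤ) - j - 2)).obj (X.X i) ⟶ X.X j, φ = 0)
    (k : ℕ) (p : Σ Y : D, (Y ⟶ X.X k)) (hp : Good X n k p) :
    ∃ (q : Σ Y : D, (Y ⟶ X.X (k + 1))) (b : X.X (k + 1) ⟶ p.1)
      (c : p.1 ⟶ (shiftFunctor D (1 : ℤ)).obj q.1),
      (k < n → Triangle.mk q.2 b c ∈ distinguishedTriangles ∧ b ≫ p.2 = X.d (k + 1) k) ∧
      Good X n (k + 1) q := by
  by_cases hk : k < n
  · obtain ⟨h1, h2, h3⟩ := hp
    obtain ⟨b, hb⟩ := h1 hk
    obtain ⟨Y', a', c, hT⟩ := distinguished_cocone_triangle₁ b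
    refine ⟨⟨Y', a'⟩, b, c, fun _ => ⟨hT, hb⟩, ?_, ?_, ?_⟩
    · intro hk2
      have h0 : X.d (k + 1 + 1) (k + 1) ≫ b = 0 := by
        apply h3 hk2
        rw [Category.assoc, hb]
        exact X.d_comp_d _ _ _
      obtain ⟨b', hb'⟩ := Triangle.coyoneda_exact₂ _ hT (X.d (k + 1 + 1) (k + 1)) h0
      exact ⟨b', hb'.symm⟩
    · intro i hi hin s hs φ
      apply eq_zero_of_comp_eq_zero _ hT
      · intro g
        have h4 := h2 i (by lia) hin (s + 1) (by push_cast at hs ⊢; lia)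
          ((shiftFunctorAdd D s 1).hom.app (X.X i) ≫ g)
        rw [← cancel_epi ((shiftFunctorAdd D s 1).hom.app (X.X i)), Limits.comp_zero]
        exact h4
      · obtain rfl : s = (i : ℤ) - (k + 1 : ℕ) - 2 := hs
        exact hX i (k + 1) hi hin _
    · intro hk3 ψ hψ
      apply eq_zero_of_comp_eq_zero _ hT _ _ hψ
      intro g
      exact h2 (k + 1 + 2) (by lia) hk3 1 (by push_cast; lia) g
  · refine ⟨⟨X.X (k + 1), 0⟩, 0, 0, fun h => absurd h hk, ?_, ?_, ?_⟩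
    · intro h; lia
    · intro i h1 h2; lia
    · intro h; lia

omit [Limits.HasZeroObject D] [∀ (n : ℤ), (shiftFunctor D n).Additive] [Pretriangulated D] in
lemma good_zero (hX : ∀ i j : ℕ, j + 2 < i → i ≤ n →
      ∀ φ : (shiftFunctor D ((i : ℤ) - j - 2)).obj (X.X i) ⟶ X.X j, φ = 0) :
    Good X n 0 ⟨X.X 0, 𝟙 _⟩ := by
  refine ⟨fun _ => ⟨X.d _ _, Category.comp_id _⟩, ?_, ?_⟩
  · intro i hi hin s hs φ
    obtain rfl : s = (i : ℤ) - (0 : ℕ) - 2 := hs
    exact hX i 0 hi hin φ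
  · intro _ ψ hψ
    simpa using hψ

end


open CategoryTheory.Pretriangulated in
/-- Stacks Tag 0D83 (existence part): let X be a chain complex in a triangulated category D and n a natural number; consider the finite complex Xₙ → Xₙ₋₁ → … → X₀. If every morphism Xᵢ[i - j - 2] ⟶ Xⱼ with j + 2 < i ≤ n vanishes, then there is a Postnikov system for it: objects Yₖ (k ≤ n), an isomorphism Y₀ ⟶ X₀, and for each k < n a distinguished triangle Yₖ₊₁ ⟶ Xₖ₊₁ ⟶ Yₖ ⟶ Yₖ₊₁[1] such that Xₖ₊₁ ⟶ Yₖ ⟶ Xₖ is the differential of X. -/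
theorem result {D : Type u} [Category.{v} D] [Preadditive D] [Limits.HasZeroObject D] [HasShift D ℤ]
    [∀ n : ℤ, (shiftFunctor D n).Additive] [Pretriangulated D] [IsTriangulated D]
    (X : ChainComplex D ℕ) (n : ℕ)
    (hX : ∀ i j : ℕ, j + 2 < i → i ≤ n → ∀ φ : (shiftFunctor D ((i : ℤ) - j - 2)).obj (X.X i) ⟶ X.X j, φ = 0) :
    ∃ (Y : ℕ → D) (a : ∀ k, Y k ⟶ X.X k) (b : ∀ k, X.X (k + 1) ⟶ Y k) (c : ∀ k, Y k ⟶ (shiftFunctor D (1 : ℤ)).obj (Y (k + 1))),
      IsIso (a 0) ∧ ∀ k, k < n → Triangle.mk (a (k + 1)) (b k) (c k) ∈ distinguishedTriangles ∧ b k ≫ a k = X.d (k + 1) k := by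
  let st : (k : ℕ) → {p : Σ Y : D, (Y ⟶ X.X k) // Good X n k p} := fun k =>
    Nat.rec (motive := fun k => {p : Σ Y : D, (Y ⟶ X.X k) // Good X n k p})
      ⟨⟨X.X 0, 𝟙 _⟩, good_zero hX⟩
      (fun k p => ⟨(exists_next hX k p.1 p.2).choose,
        (exists_next hX k p.1 p.2).choose_spec.choose_spec.choose_spec.2⟩) k
  refine ⟨fun k => (st k).1.1, fun k => (st k).1.2,
    fun k => (exists_next hX k (st k).1 (st k).2).choose_spec.choose,
    fun k => (exists_next hX k (st k).1 (st k).2).choose_spec.choose_spec.choose,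
    inferInstanceAs (IsIso (𝟙 (X.X 0))), fun k hk => ?_⟩
  exact (exists_next hX k (st k).1 (st k).2).choose_spec.choose_spec.choose_spec.1 hk

end Groth.Agent.S1051
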