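import Groth.Statements.S1053
import Mathlib.Algebra.Homology.DerivedCategory.KProjective
import Mathlib.Algebra.Homology.HomotopyCategory.KProjective

set_option autoImplicit false
universe w v u
open CategoryTheory CategoryTheory.Limits
open CohDer

namespace Groth.Agent.S1053

/-- Stacks Tag 064D: let P and K be cochain complexes in an abelian category with P bounded, consisting of projective objects and zero in degrees below n, and with Hⁱ(K) = 0 for all i ≥ n. Then every morphism P ⟶ K in the homotopy category and every morphism P ⟶ K in the derived category is zero. -/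
theorem result {A : Type u} [Category.{v} A] [Abelian A] [HasDerivedCategory.{w} A]
    (P K : CochainComplex A ℤ) (n b : ℤ) [P.IsStrictlyGE n] [P.IsStrictlyLE b] (hP : ∀ i : ℤ, Projective (P.X i))
    (hK : ∀ i : ℤ, n ≤ i → IsZero (K.homology i)) :
    (∀ φ : (HomotopyCategory.quotient A (ComplexShape.up ℤ)).obj P ⟶ (HomotopyCategory.quotient A (ComplexShape.up ℤ)).obj K, φ = 0) ∧
    (∀ φ : DerivedCategory.Q.obj P ⟶ DerivedCategory.Q.obj K, φ = 0) := by
  have := hP
  have : P.IsKProjective := CochainComplex.isKProjective_of_projective P b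
  have : K.IsLE (n - 1) := by
    rw [CochainComplex.isLE_iff]
    intro i hi
    rw [HomologicalComplex.exactAt_iff_isZero_homology]
    exact hK i (by lia)
  have hQ : ∀ φ : DerivedCategory.Q.obj P ⟶ DerivedCategory.Q.obj K, φ = 0 := by
    intro φ
    have : IsIso (DerivedCategory.Q.map (K.ιTruncLE (n - 1))) := by
      rw [DerivedCategory.isIso_Q_map_iff_quasiIso]
      infer_instance
    obtain ⟨ψ, hψ⟩ := (CochainComplex.IsKProjective.Qh_map_bijective P _).surjective
      ((DerivedCategory.quotientCompQhIso A).hom.app P ≫ φ ≫
        inv (DerivedCategory.Q.map (K.ιTruncLE (n - 1))) ≫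
        (DerivedCategory.quotientCompQhIso A).inv.app _)
    obtain ⟨f, rfl⟩ := (HomotopyCategory.quotient _ _).map_surjective ψ
    have hf : f = 0 := by
      ext i
      by_cases hi : i < n
      · exact (P.isZero_of_isStrictlyGE n i hi).eq_of_src _ _
      · exact ((K.truncLE (n-1)).isZero_of_isStrictlyLE (n-1) i (by lia)).eq_of_tgt _ _
    rw [hf, Functor.map_zero, Functor.map_zero] at hψ
    rw [← cancel_epi ((DerivedCategory.quotientCompQhIso A).hom.app P),
      ← cancel_mono (inv (DerivedCategory.Q.map (K.ιTruncLE (n - 1))) ≫
        (DerivedCategory.quotientCompQhIso A).inv.app (K.truncLE (n-1))), comp_zero, zero_comp,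
        Category.assoc]
    exact hψ.symm
  refine ⟨fun φ ↦ ?_, hQ⟩
  apply (CochainComplex.IsKProjective.Qh_map_bijective P _).injective
  rw [Functor.map_zero]
  exact hQ (DerivedCategory.Qh.map φ)

end Groth.Agent.S1053
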