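import Groth.Statements.S1056
import Groth.Agent.PerfB.FlatCover
import Groth.Agent.PerfB.DescPerf
import Groth.Agent.S1105

set_option autoImplicit false
universe u
open CategoryTheory CategoryTheory.Limits AlgebraicGeometry Opposite
attribute [local instance] HasDerivedCategory.standard
open Perf

namespace Groth.Agent.S1056

open Groth.Agent.PerfB Groth.Agent.PerfB.FlatPull Groth.Agent.PerfA.PerfLocal
    Groth.Agent.PerfA.QCohD Groth.Agent.PerfA.Restrict in
theorem isPerfect_local {X' X : Scheme.{u}} (f : X' ⟶ X) [Flat f] [Surjective f] [QuasiCompact f]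
    (E : DCoh.D X) (hE : DCoh.IsQCohD E) (h : DCoh.IsPerfect ((pullbackD f).obj E)) {A : CommRingCat.{u}}
    (j : Spec A ⟶ X) [IsOpenImmersion j] : DCoh.IsPerfect ((restrictD j).obj E) := by
  obtain ⟨ι, _, B, φ, v, hv, hfl, hsq, hsurj⟩ := FlatCover.exists_family f j
  obtain ⟨K, ⟨e⟩⟩ := ((S0997.result A).2.2 _).1 (isQCohD_restrictD j hE)
  have hφ : ∀ i, (φ i).hom.Flat := fun i => Flat.SpecMap_iff.1 (hfl i)
  have hex := fun i => TildeBC.preservesFiniteLimits_extendScalars (φ i) (hφ i)
  have hK : DRing.IsPerfect A K := by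
    refine DescPerf.perfect_descent_family (fun i => B i) (fun i => (φ i).hom) hφ hsurj K fun i => ?_
    have := hfl i
    obtain ⟨e'⟩ := FlatCover.nonempty_iso_tildeD f j (φ i) (v i) (hsq i) E K e
    exact (S1105.result (B i) _).1 (isPerfect_of_iso e' (isPerfect_restrictD (v i) h))
  exact isPerfect_of_iso e ((S1105.result A K).2 hK)

/-- Stacks Tag 09UG, for a covering by a single flat, surjective, quasi-compact morphism f : X' ⟶ X (an fpqc covering): assuming Lf^* exists, an object E of D(O_X) is perfect if and only if Lf^*E is perfect. -/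
theorem result {X' X : Scheme.{u}} (f : X' ⟶ X) [Flat f] [Surjective f] [QuasiCompact f] [DCoh.HasLpull f] (E : DCoh.D X) :
    DCoh.IsPerfect E ↔ DCoh.IsPerfect ((DCoh.Lpull f).obj E) := by
  open Groth.Agent.PerfB Groth.Agent.PerfB.FlatPull Groth.Agent.PerfA.PerfLocal
    Groth.Agent.PerfA.QCohD in
  constructor
  · intro h
    exact isPerfect_of_iso ((lpullIso f).app E).symm (isPerfect_pullbackD f h)
  · intro h
    have h1 : DCoh.IsPerfect ((pullbackD f).obj E) := isPerfect_of_iso ((lpullIso f).app E) h
    have hE : DCoh.IsQCohD E := (QCohDesc.isQCohD_pullbackD_iff f E).1 (isQCohD_of_isPerfect _ h1)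
    apply isPerfect_of_restrictD
    intro x
    obtain ⟨y, hy⟩ := X.affineOpenCover.covers x
    refine ⟨_, X.affineOpenCover.f (X.affineOpenCover.idx x), inferInstance, y, hy, ?_⟩
    exact isPerfect_local f E hE h1 _

end Groth.Agent.S1056
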