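import Groth.Statements.S1058
import Groth.Agent.PerfB.BCAff
import Groth.Agent.Dcoh.BCFrozen1058

set_option autoImplicit false
universe u
open CategoryTheory CategoryTheory.Limits AlgebraicGeometry Opposite
attribute [local instance] HasDerivedCategory.standard
open Perf

namespace Groth.Agent.S1058

/-- Stacks Tag 08IB in the case of a flat base change (tor independence then holds): let f : X ⟶ S be quasi-compact and quasi-separated, g : S' ⟶ S flat, X' = X ×_S S' with projections g' : X' ⟶ X and f' : X' ⟶ S'. Assume the derived functors exist, with adjunctions Lg^* ⊣ Rg_* and L(g')^* ⊣ R(g')_* given as data. Then for a suitable identification e of the composite derived direct images R(g')_* followed by Rf_* with Rf'_* followed by Rg_*, the base-change morphism Lg^*Rf_*E ⟶ Rf'_*L(g')^*E built from these data is an isomorphism for every E ∈ D(O_X) with quasi-coherent cohomology sheaves. -/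
theorem result {X S S' : Scheme.{u}} (f : X ⟶ S) [QuasiCompact f] [QuasiSeparated f] (g : S' ⟶ S) [Flat g]
    [DCoh.HasRpush f] [DCoh.HasRpush g] [DCoh.HasLpull g] [DCoh.HasRpush (pullback.snd f g)]
    [DCoh.HasRpush (pullback.fst f g)] [DCoh.HasLpull (pullback.fst f g)]
    (adjg : DCoh.Lpull g ⊣ DCoh.Rpush g) (adjg' : DCoh.Lpull (pullback.fst f g) ⊣ DCoh.Rpush (pullback.fst f g)) :
    ∃ e : DCoh.Rpush (pullback.fst f g) ⋙ DCoh.Rpush f ≅ DCoh.Rpush (pullback.snd f g) ⋙ DCoh.Rpush g,
      ∀ E : DCoh.D X, DCoh.IsQCohD E → IsIso (DCoh.baseChangeApp adjg adjg' e E) := by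
  obtain ⟨e, he⟩ := Groth.Agent.Dcoh.BCFrozen1058.main f g adjg adjg'
  exact ⟨e, fun E hE => he E
    (Groth.Agent.PerfB.BCAff.bc_flat (IsPullback.of_hasPullback f g) E hE)⟩

end Groth.Agent.S1058
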