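import Groth.Statements.S1063
import Groth.Agent.PerfB.PushFLF

set_option autoImplicit false
universe u
open CategoryTheory AlgebraicGeometry
open Perf

namespace Groth.Agent.S1063

open Groth.Agent.PerfB.PushFLF Groth.Agent.CohqB.HomSheaf in
/-- Stacks Tag 0GTC: the resolution property descends along a surjective, finite locally free morphism f : X ⟶ Y; if every finite-type quasi-coherent module on X is a quotient of a vector bundle, the same is true on Y. -/
theorem result {X Y : Scheme.{u}} (f : X ⟶ Y) (hf : Mor2.IsFinLocFree f) [Surjective f]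
    (hX : PerfAux.HasResolutionProperty X) : PerfAux.HasResolutionProperty Y := by
  obtain ⟨h1, h2, h3⟩ := hf
  intro M hM hft
  have hH := isQCoh_homO f hM
  have hHft := isFT_homO f hM hft
  have hHq := Groth.Agent.VarietyB.PullSec.isQCoh_pullback f _ hH
  obtain ⟨E, π, hE, hπ⟩ := hX ((Scheme.Modules.pullback f).obj (homO f M)) hHq
    (Groth.Agent.FormalA.PullbackQC.isFT_pullback f _ hHft)
  obtain ⟨θ, hθ⟩ := exists_evalHom f hH
  refine ⟨(Scheme.Modules.pushforward f).obj E, (Scheme.Modules.pushforward f).map π ≫ θ,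
    isFinLocFree_pushforward f hE, Groth.Agent.PerfB.AffHom.epi_of_affine fun V hV n => ?_⟩
  have hEq : Coh.IsQCoh E := Groth.Agent.PerfA.QCohEpi.isQCoh_of_isFinLocFree hE
  letI := algPre f V
  have hp := projective_pre (f := f) hV
  have hs := comap_pre_surjective f hV
  obtain ⟨φ, hφ⟩ := Groth.Agent.PerfB.EvalOne.eval_one_surjective
    (Groth.Agent.PerfB.EvalOne.map_ne_top_of_comap_surjective hs) n
  let s := (affineEquiv (isQCoh_pushO f) hV).symm (φ.comp (pushOEquiv f V).symm.toLinearMap)
  have hs' : comp s V le_rfl = φ.comp (pushOEquiv f V).symm.toLinearMap :=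
    comp_affineEquiv_symm _ hV _
  have hx := Groth.Agent.PerfA.QCohEpi.app_surjective_of_epi π (hV.preimage f)
    ((1 : Γ(X, f ⁻¹ᵁ V)) • sc (f := f) _ V s)
  obtain ⟨x, hx⟩ := hx
  refine ⟨x, ?_⟩
  have h4 := hθ V hV 1 s
  rw [hs'] at h4
  refine (congrArg (θ.app V) hx).trans (h4.trans hφ)

end Groth.Agent.S1063
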