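import Groth.Statements.S1069
import Groth.Agent.PerfB.SecAmple
import Groth.Agent.PerfB.SecGamma

set_option autoImplicit false
universe u
open CategoryTheory CategoryTheory.Limits AlgebraicGeometry Opposite
attribute [local instance] HasDerivedCategory.standard
open Perf

namespace Groth.Agent.S1069

open Groth.Agent.PerfB Groth.Agent.PerfA

/-- Stacks Tag 0BQR: let X be a scheme with an ample invertible O_X-module L and K a nonzero object of D(O_X) with quasi-coherent cohomology sheaves. Assuming RΓ(X, -) and the derived functors - ⊗^L L^{⊗n} exist, there are n ≥ 0 and p ∈ ℤ with Hᵖ(X, K ⊗^L L^{⊗n}) ≠ 0, i.e. the p-th cohomology of RΓ(X, K ⊗^L L^{⊗n}) is a nonzero abelian group. -/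
theorem result (X : Scheme.{u}) (L : X.Modules) (hL : CohB1.IsAmple L) [DCoh.HasRΓ X]
    [∀ n : ℕ, DCoh.HasLTensorMod (CohB1.tensorPow L n)]
    (K : DCoh.D X) (hK : DCoh.IsQCohD K) (hK0 : ¬ IsZero K) :
    ∃ (n : ℕ) (p : ℤ), ¬ IsZero ((DerivedCategory.homologyFunctor AddCommGrpCat.{u} p).obj
      ((DCoh.RΓ X).obj ((DCoh.LTensorMod (CohB1.tensorPow L n)).obj K))) := by
  by_contra H
  push Not at H
  apply hK0
  let E := DerivedCategory.Q.objPreimage K
  let eK : DerivedCategory.Q.obj E ≅ K := DerivedCategory.Q.objObjPreimageIso K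
  have hE : DCoh.IsQCohD (DerivedCategory.Q.obj E) := QCohD.isQCohD_of_iso eK.symm hK
  rw [Cohder.SerreVerdier.isZero_iff_homology]
  intro q
  refine IsZero.of_iso (SecAmple.isZero_homology_of_ample hL hE ?_ q)
    ((DerivedCategory.homologyFunctor X.Modules q).mapIso eK.symm ≪≫
      (DerivedCategory.homologyFunctorFactors X.Modules q).app E)
  intro n i φ
  have hinv : PicF.IsInvertible (CohB1.tensorPow L n) := Fdesc.LocGen.isInvertible_tensorPow hL.1 n
  have := TensInv.preservesFiniteLimits_of_isInvertible hinv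
  let e : (DCoh.LTensorMod (CohB1.tensorPow L n)).obj K ≅
      DerivedCategory.Q.obj ((SecTwist.tcx E).obj (CohB1.tensorPow L n)) :=
    (DCoh.LTensorMod (CohB1.tensorPow L n)).mapIso eK.symm ≪≫
      (TensExact.LTensorModIso (CohB1.tensorPow L n)).app (DerivedCategory.Q.obj E) ≪≫
        (DCoh.tensorRightMod (CohB1.tensorPow L n)).mapDerivedCategoryFactors.app E
  have h1 := SecGamma.hom_eq_zero_of_RΓ ((DCoh.LTensorMod (CohB1.tensorPow L n)).obj K)
    (H n) i (φ ≫ (e.inv)⟦i⟧')
  exact (cancel_mono ((e.inv)⟦i⟧')).1 (h1.trans zero_comp.symm)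

end Groth.Agent.S1069
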