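import Groth.Statements.S1072
import Mathlib.CategoryTheory.Abelian.SerreClass.Localization

set_option autoImplicit false
universe v v' u u'
open CategoryTheory CategoryTheory.Limits
open CohDer

namespace Groth.Agent.S1072

section

variable {C : Type u} [Category.{v} C] [Abelian C]
    (W : MorphismProperty C) [W.HasLeftCalculusOfFractions] [W.HasRightCalculusOfFractions]
    {D : Type u'} [Category.{v'} D] (L : C ⥤ D) [L.IsLocalization W] [Preadditive D] [L.Additive]

include L W

lemma map_eq_zero_iff_pre {X Y : C} (f : X ⟶ Y) :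
    L.map f = 0 ↔ ∃ (X' : C) (s : X' ⟶ X) (_ : W s), s ≫ f = 0 := by
  rw [← L.map_zero, MorphismProperty.map_eq_iff_precomp L W]
  simp

lemma map_eq_zero_iff_post {X Y : C} (f : X ⟶ Y) :
    L.map f = 0 ↔ ∃ (Y' : C) (s : Y ⟶ Y') (_ : W s), f ≫ s = 0 := by
  rw [← L.map_zero, MorphismProperty.map_eq_iff_postcomp L W]
  simp

lemma mono_map {X Y : C} (f : X ⟶ Y) [Mono f] : Mono (L.map f) := by
  have := Localization.essSurj L W
  have hf : ∀ ⦃Z : C⦄ (z : Z ⟶ X), L.map z ≫ L.map f = 0 → L.map z = 0 := by
    intro Z z hz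
    rw [← L.map_comp] at hz
    rw [map_eq_zero_iff_pre W L] at hz ⊢
    obtain ⟨T, s, hs, eq⟩ := hz
    rw [← Category.assoc] at eq
    exact ⟨T, s, hs, by rwa [← cancel_mono f, zero_comp]⟩
  rw [Preadditive.mono_iff_cancel_zero]
  intro T z hz
  obtain ⟨φ, hφ⟩ := Localization.exists_rightFraction L W
    ((L.objObjPreimageIso T).hom ≫ z)
  rw [← cancel_epi (L.objObjPreimageIso T).hom, comp_zero, hφ,
    ← cancel_epi (L.map φ.s), comp_zero,
    MorphismProperty.RightFraction.map_s_comp_map]
  apply hf φ.f
  have : L.map φ.s ≫ (L.objObjPreimageIso T).hom ≫ z = L.map φ.f := by cat_disch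
  rw [← this, Category.assoc, Category.assoc, hz, comp_zero, comp_zero]

lemma epi_map {X Y : C} (f : X ⟶ Y) [Epi f] : Epi (L.map f) := by
  have := Localization.essSurj L W
  have hf : ∀ ⦃Z : C⦄ (z : Y ⟶ Z), L.map f ≫ L.map z = 0 → L.map z = 0 := by
    intro Z z hz
    rw [← L.map_comp] at hz
    rw [map_eq_zero_iff_post W L] at hz ⊢
    obtain ⟨T, s, hs, eq⟩ := hz
    rw [Category.assoc] at eq
    exact ⟨T, s, hs, by rwa [← cancel_epi f, comp_zero]⟩
  rw [Preadditive.epi_iff_cancel_zero]
  intro T z hz
  obtain ⟨φ, hφ⟩ := Localization.exists_leftFraction L W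
    (z ≫ (L.objObjPreimageIso T).inv)
  rw [← cancel_mono (L.objObjPreimageIso T).inv, zero_comp, hφ,
    ← cancel_mono (L.map φ.s), zero_comp,
    MorphismProperty.LeftFraction.map_comp_map_s]
  apply hf φ.f
  have : L.map φ.f = z ≫ (L.objObjPreimageIso T).inv ≫ L.map φ.s := by
    simp [reassoc_of% hφ]
  rw [this, reassoc_of% hz, zero_comp]

set_option backward.isDefEq.respectTransparency false in
lemma preservesKernel {X Y : C} (f : X ⟶ Y) :
    PreservesLimit (parallelPair f 0) L := by
  have := Localization.essSurj L W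
  have := mono_map W L (kernel.ι f)
  suffices ∀ (T : D) (z : T ⟶ L.obj X) (hz : z ≫ L.map f = 0),
      ∃ (l : T ⟶ L.obj (kernel f)), l ≫ L.map (kernel.ι f) = z from
    preservesLimit_of_preserves_limit_cone (kernelIsKernel f)
      ((KernelFork.isLimitMapConeEquiv _ L).2
        (Fork.IsLimit.ofExistsUnique
          (fun s ↦ existsUnique_of_exists_of_unique
            (this _ _ (KernelFork.condition s))
            (fun _ _ h₁ h₂ ↦ by simpa [cancel_mono] using h₁.trans h₂.symm))))
  intro T w hw
  wlog hw' : ∃ (Z : C) (hZ : T = L.obj Z) (z : Z ⟶ X), w = eqToHom hZ ≫ L.map z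
      generalizing T
  · obtain ⟨φ, hφ⟩ := Localization.exists_rightFraction L W
      ((L.objObjPreimageIso T).hom ≫ w)
    rw [← cancel_epi (L.map φ.s),
      MorphismProperty.RightFraction.map_s_comp_map] at hφ
    obtain ⟨l, hl⟩ := this _ (L.map φ.f) (by
      rw [← hφ, Category.assoc, Category.assoc, hw, comp_zero, comp_zero]) ⟨_, rfl, by simp⟩
    have := Localization.inverts L W φ.s φ.hs
    exact ⟨(L.objObjPreimageIso T).inv ≫ inv (L.map φ.s) ≫ l, by simp [hl, ← hφ]⟩
  obtain ⟨Z, rfl, z, rfl⟩ := hw'
  simp only [eqToHom_refl, Category.id_comp, ← L.map_comp] at hw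
  rw [map_eq_zero_iff_pre W L] at hw
  obtain ⟨Z', t, ht, fac⟩ := hw
  have := Localization.inverts L W t ht
  rw [← Category.assoc] at fac
  exact ⟨inv (L.map t) ≫ L.map (kernel.lift _ _ fac), by simp [← Functor.map_comp]⟩

set_option backward.isDefEq.respectTransparency false in
lemma preservesCokernel {X Y : C} (f : X ⟶ Y) :
    PreservesColimit (parallelPair f 0) L := by
  have := Localization.essSurj L W
  have := epi_map W L (cokernel.π f)
  suffices ∀ (T : D) (z : L.obj Y ⟶ T) (hz : L.map f ≫ z = 0),
      ∃ (l : L.obj (cokernel f) ⟶ T), L.map (cokernel.π f) ≫ l = z from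
    preservesColimit_of_preserves_colimit_cocone (cokernelIsCokernel f)
      ((CokernelCofork.isColimitMapCoconeEquiv _ L).2
        (Cofork.IsColimit.ofExistsUnique
          (fun s ↦ existsUnique_of_exists_of_unique
            (this _ _ (CokernelCofork.condition s))
            (fun _ _ h₁ h₂ ↦ by simpa [cancel_epi] using h₁.trans h₂.symm))))
  intro T w hw
  wlog hw' : ∃ (Z : C) (hZ : L.obj Z = T) (z : Y ⟶ Z), w = L.map z ≫ eqToHom hZ
      generalizing T
  · obtain ⟨φ, hφ⟩ := Localization.exists_leftFraction L W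
      (w ≫ (L.objObjPreimageIso T).inv)
    rw [← cancel_mono (L.map φ.s), Category.assoc,
      MorphismProperty.LeftFraction.map_comp_map_s] at hφ
    obtain ⟨l, hl⟩ := this _ (L.map φ.f) (by rw [← hφ, reassoc_of% hw, zero_comp]) ⟨_, rfl, by simp⟩
    have := Localization.inverts L W φ.s φ.hs
    exact ⟨l ≫ inv (L.map φ.s) ≫ (L.objObjPreimageIso T).hom, by simp [reassoc_of% hl, ← hφ]⟩
  obtain ⟨Z, rfl, z, rfl⟩ := hw'
  simp only [eqToHom_refl, Category.comp_id, ← L.map_comp] at hw
  rw [map_eq_zero_iff_post W L] at hw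
  obtain ⟨Z', t, ht, fac⟩ := hw
  rw [Category.assoc] at fac
  have := Localization.inverts L W t ht
  exact ⟨L.map (cokernel.desc _ _ fac) ≫ inv (L.map t), by simp [← L.map_comp_assoc]⟩

set_option backward.isDefEq.respectTransparency false in
lemma hasKernels : HasKernels D where
  has_limit f := by
    obtain ⟨g, ⟨e⟩⟩ :=
      (Localization.essSurj_mapArrow L W).mem_essImage (Arrow.mk f)
    have := preservesKernel W L g.hom
    have : HasLimit (parallelPair (L.map g.hom) 0) :=
      ⟨_, (KernelFork.isLimitMapConeEquiv _ L).1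
        (isLimitOfPreserves L (kernelIsKernel g.hom))⟩
    exact hasLimit_of_iso (show parallelPair (L.map g.hom) 0 ≅ _ from
      parallelPair.ext (Arrow.leftFunc.mapIso e) (Arrow.rightFunc.mapIso e))

set_option backward.isDefEq.respectTransparency false in
lemma hasCokernels : HasCokernels D where
  has_colimit f := by
    obtain ⟨g, ⟨e⟩⟩ :=
      (Localization.essSurj_mapArrow L W).mem_essImage (Arrow.mk f)
    have := preservesCokernel W L g.hom
    have : HasColimit (parallelPair (L.map g.hom) 0) :=
      ⟨_, (CokernelCofork.isColimitMapCoconeEquiv _ L).1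
        (isColimitOfPreserves L (cokernelIsCokernel g.hom))⟩
    exact hasColimit_of_iso (show _ ≅ parallelPair (L.map g.hom) 0 from
      parallelPair.ext (Arrow.leftFunc.mapIso e.symm) (Arrow.rightFunc.mapIso e.symm))

lemma hasFiniteProducts : HasFiniteProducts D :=
  have := Localization.essSurj L W
  L.hasFiniteProducts_of_additive_of_essSurj

set_option backward.isDefEq.respectTransparency false in
lemma isIso_map_coimage_π {X Y : C} (f : X ⟶ Y) [Mono (L.map f)] :
    IsIso (L.map (Abelian.coimage.π f)) := by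
  have h0 : L.map (kernel.ι f) = 0 := by
    rw [← cancel_mono (L.map f), zero_comp, ← L.map_comp, kernel.condition, L.map_zero]
  have := preservesCokernel W L (kernel.ι f)
  exact CokernelCofork.IsColimit.isIso_π _
    ((CokernelCofork.isColimitMapCoconeEquiv _ L).1
        (isColimitOfPreserves L (cokernelIsCokernel (kernel.ι f)))) h0

set_option backward.isDefEq.respectTransparency false in
lemma isIso_map_image_ι {X Y : C} (f : X ⟶ Y) [Epi (L.map f)] :
    IsIso (L.map (Abelian.image.ι f)) := by
  have h0 : L.map (cokernel.π f) = 0 := by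
    rw [← cancel_epi (L.map f), comp_zero, ← L.map_comp, cokernel.condition, L.map_zero]
  have := preservesKernel W L (cokernel.π f)
  exact KernelFork.IsLimit.isIso_ι _
    ((KernelFork.isLimitMapConeEquiv _ L).1
        (isLimitOfPreserves L (kernelIsKernel (cokernel.π f)))) h0

set_option backward.isDefEq.respectTransparency false in
lemma mono_exists {X Y : D} (f : X ⟶ Y) [Mono f] :
    ∃ (X' Y' : C) (f' : X' ⟶ Y') (_ : Mono f'),
      Nonempty (Arrow.mk (L.map f') ≅ Arrow.mk f) := by
  have := Localization.essSurj_mapArrow L W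
  suffices ∀ ⦃X Y : C⦄ (f : X ⟶ Y) (_ : Mono (L.map f)),
      ∃ (X' Y' : C) (f' : X' ⟶ Y') (_ : Mono f'),
          Nonempty (Arrow.mk (L.map f') ≅ Arrow.mk (L.map f)) by
    let e := L.mapArrow.objObjPreimageIso (Arrow.mk f)
    obtain ⟨X', Y', f', _, ⟨e'⟩⟩ := this _
      (((MorphismProperty.monomorphisms D).arrow_iso_iff e).2 (.infer_property f))
    exact ⟨_, _, f', inferInstance, ⟨e' ≪≫ e⟩⟩
  intro X Y f hf
  refine ⟨_, _, Abelian.factorThruCoimage f, inferInstance, ⟨Iso.symm ?_⟩⟩
  have := isIso_map_coimage_π W L f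
  exact Arrow.isoMk (asIso (L.map (Abelian.coimage.π f))) (Iso.refl _)
    (by simp [← L.map_comp])

set_option backward.isDefEq.respectTransparency false in
lemma epi_exists {X Y : D} (f : X ⟶ Y) [Epi f] :
    ∃ (X' Y' : C) (f' : X' ⟶ Y') (_ : Epi f'),
      Nonempty (Arrow.mk (L.map f') ≅ Arrow.mk f) := by
  have := Localization.essSurj_mapArrow L W
  suffices ∀ ⦃X Y : C⦄ (f : X ⟶ Y) (_ : Epi (L.map f)),
      ∃ (X' Y' : C) (f' : X' ⟶ Y') (_ : Epi f'),
          Nonempty (Arrow.mk (L.map f') ≅ Arrow.mk (L.map f)) by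
    let e := L.mapArrow.objObjPreimageIso (Arrow.mk f)
    obtain ⟨X', Y', f', _, ⟨e'⟩⟩ := this _
      (((MorphismProperty.epimorphisms D).arrow_iso_iff e).2 (.infer_property f))
    exact ⟨_, _, f', inferInstance, ⟨e' ≪≫ e⟩⟩
  intro X Y f hf
  refine ⟨_, _, Abelian.factorThruImage f, inferInstance, ⟨?_⟩⟩
  have := isIso_map_image_ι W L f
  refine Arrow.isoMk (Iso.refl _) (asIso (L.map (Abelian.image.ι f))) (by simp [← L.map_comp])

lemma isNormalMonoCategory : IsNormalMonoCategory D where
  normalMonoOfMono f hf := by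
    obtain ⟨X', Y', f', _, ⟨e⟩⟩ := mono_exists W L f
    let hf' := normalMonoOfMono f'
    have := preservesKernel W L hf'.g
    refine ⟨NormalMono.ofArrowIso ?_ e⟩
    exact {
      Z := L.obj hf'.Z
      g := L.map hf'.g
      w := by rw [← L.map_comp]; simp [hf'.w]
      isLimit :=
        (KernelFork.isLimitMapConeEquiv _ L).1
          (isLimitOfPreserves L hf'.isLimit) }

lemma isNormalEpiCategory : IsNormalEpiCategory D where
  normalEpiOfEpi f hf := by
    obtain ⟨X', Y', f', _, ⟨e⟩⟩ := epi_exists W L f
    let hf' := normalEpiOfEpi f'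
    have := preservesCokernel W L hf'.g
    refine ⟨NormalEpi.ofArrowIso ?_ e⟩
    exact {
      W := L.obj hf'.W
      g := L.map hf'.g
      w := by rw [← L.map_comp]; simp [hf'.w]
      isColimit :=
        (CokernelCofork.isColimitMapCoconeEquiv _ L).1
          (isColimitOfPreserves L hf'.isColimit) }

@[instance_reducible]
noncomputable def abelian : Abelian D := by
  have := hasFiniteProducts W L
  have := hasKernels W L
  have := hasCokernels W L
  have := isNormalMonoCategory W L
  have := isNormalEpiCategory W L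
  constructor

lemma preservesFiniteLimits : PreservesFiniteLimits L := by
  let := abelian W L
  rw [((Functor.preservesFiniteLimits_tfae L).out 3 2 :)]
  intro _ _ f
  exact preservesKernel W L f

lemma preservesFiniteColimits : PreservesFiniteColimits L := by
  let := abelian W L
  rw [((Functor.preservesFiniteColimits_tfae L).out 3 2 :)]
  intro _ _ f
  exact preservesCokernel W L f

end

/-- Stacks Tag 05QG, part (3): let A be an abelian category, W a class of morphisms admitting both left and right calculus of fractions, and L : A ⥤ D a localization functor for W. Then D admits the structure of an abelian category and L is exact (preserves finite limits and finite colimits). -/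
theorem result {A : Type u} [Category.{v} A] [Abelian A]
    (W : MorphismProperty A) [W.HasLeftCalculusOfFractions] [W.HasRightCalculusOfFractions]
    {D : Type u'} [Category.{v'} D] (L : A ⥤ D) [L.IsLocalization W] :
    Nonempty (Abelian D) ∧ PreservesFiniteLimits L ∧ PreservesFiniteColimits L := by
  let := Localization.preadditive L W
  have := Localization.functor_additive L W
  exact ⟨⟨abelian W L⟩, preservesFiniteLimits W L, preservesFiniteColimits W L⟩

end Groth.Agent.S1072
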