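import Groth.Statements.S1073
import Groth.Agent.PerfC.TorStalk
import Groth.Agent.PerfC.QCohStalk

set_option autoImplicit false
universe u
open CategoryTheory CategoryTheory.Limits AlgebraicGeometry Opposite
attribute [local instance] HasDerivedCategory.standard
open Perf

namespace Groth.Agent.S1073

/-- Stacks Tag 08EA: let X be a quasi-separated scheme, E ∈ D(O_X) with quasi-coherent cohomology sheaves, and a ≤ b. Then E has tor amplitude in [a, b] (Hⁱ(E ⊗^L F) = 0 outside [a, b] for every O_X-module F, whenever the derived functor is available) if and only if the same vanishing holds for every quasi-coherent O_X-module F. -/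
theorem result (X : Scheme.{u}) [QuasiSeparatedSpace ↥X] (E : DCoh.D X) (hE : DCoh.IsQCohD E)
    (a b : ℤ) (hab : a ≤ b) :
    DCoh.HasTorAmplitudeIn a b E ↔
      ∀ (F : X.Modules), Coh.IsQCoh F → ∀ [DCoh.HasLTensorMod F] (i : ℤ), (i < a ∨ b < i) →
        IsZero (DCoh.HD ((DCoh.LTensorMod F).obj E) i) := by
  constructor
  · intro h F _ _ i hi
    exact h F i hi
  · intro h F _ i hi
    obtain ⟨P, hP, ⟨e⟩⟩ := Groth.Agent.Dcoh.LDer.exists_iso (Groth.Agent.Dcoh.LTMod.adapted F) E
    have key : ∀ (G : X.Modules) [DCoh.HasLTensorMod G],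
        IsZero (DCoh.HD ((DCoh.LTensorMod G).obj E) i) ↔
          IsZero (DCoh.HD ((DCoh.LTensorMod G).obj (DCoh.toD X P)) i) := fun G _ =>
      ((DerivedCategory.homologyFunctor _ i).mapIso ((DCoh.LTensorMod G).mapIso e.symm)).isZero_iff
    rw [key, Groth.Agent.PerfC.TorStalk.isZero_HD_iff F hP i]
    intro x
    obtain ⟨G, hG, ⟨e'⟩⟩ := Groth.Agent.PerfC.QCohStalk.exists_isQCoh_stalk_iso x
      ((Groth.Agent.Dcoh.Stalk.stalkF x).obj F)
    have := Groth.Agent.Dcoh.LTMod.hasLTensorMod G
    have h1 := h G hG i hi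
    rw [key, Groth.Agent.PerfC.TorStalk.isZero_HD_iff G hP i] at h1
    exact (ShortComplex.exact_iff_of_iso
      ((P.sc i).mapNatIso (Groth.Agent.PerfC.TorStalk.tensorRightModStalkCongr x e'))).1 (h1 x)

end Groth.Agent.S1073
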