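import Groth.Statements.S1075
import Groth.Agent.Cohder.KInjProd
import Mathlib.Algebra.Homology.Factorizations.CM5a

set_option autoImplicit false
universe w v u
open CategoryTheory CategoryTheory.Limits
open CohDer

namespace Groth.Agent.S1075

open Groth.Agent.Cohder

/-- Stacks Tag 0BK7: in D(A), for A abelian with enough injectives and countable products, every sequence of bounded-below objects has a product, so derived limits of such sequences exist. -/
theorem result {A : Type u} [Category.{v} A] [Abelian A] [HasDerivedCategory.{w} A]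
    [HasLimitsOfShape (Discrete ℕ) A] [EnoughInjectives A]
    (K : ℕ → DerivedCategory A) (hK : ∀ n, ∃ a : ℤ, (K n).IsGE a) : HasProduct K := by
  have h : ∀ n, ∃ (I : CochainComplex A ℤ) (_ : I.IsKInjective),
      Nonempty (K n ≅ DerivedCategory.Q.obj I) := by
    intro n
    obtain ⟨a, ha⟩ := hK n
    obtain ⟨L, _, ⟨e⟩⟩ := DerivedCategory.exists_iso_Q_obj_of_isGE (K n) a
    obtain ⟨I, i, _, hI, _⟩ :=
      CochainComplex.Plus.modelCategoryQuillen.exists_quasiIso_injective L a
    exact ⟨I, CochainComplex.isKInjective_of_injective I a,
      ⟨e ≪≫ asIso (DerivedCategory.Q.map i)⟩⟩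
  choose I hI e using h
  exact KInjProd.hasProduct_of_iso K I hI (fun j ↦ (e j).some)

end Groth.Agent.S1075
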