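import Groth.Statements.S1077
import Groth.Agent.Cohder.SubobjLattice

set_option autoImplicit false
universe v u
open CategoryTheory CategoryTheory.Limits
open CohDer

namespace Groth.Agent.S1077

section

variable {L : Type*} [Lattice L] [IsModularLattice L]

/-- The map `x ↦ (x ⊓ a, x ⊔ a)` on `Iic b`. -/
def stepMap {a b : L} (h : a ≤ b) (x : Set.Iic b) : Set.Iic a × Set.Icc a b :=
  (⟨x.1 ⊓ a, inf_le_right⟩, ⟨x.1 ⊔ a, le_sup_right, sup_le x.2 h⟩)

lemma stepMap_strictMono {a b : L} (h : a ≤ b) : StrictMono (stepMap h) := fun x y hxy =>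
  (strictMono_inf_prod_sup (z := a) (show x.1 < y.1 from hxy) :)

lemma finite_Icc {a b : L} (h : a ⋖ b) : Finite (Set.Icc a b) := by
  rw [h.Icc_eq]
  exact Set.Finite.to_subtype (by simp)

lemma wf_step_lt {a b : L} (h : a ⋖ b) [WellFoundedLT (Set.Iic a)] :
    WellFoundedLT (Set.Iic b) := by
  have := finite_Icc h
  exact (stepMap_strictMono h.le).wellFoundedLT

lemma wf_step_gt {a b : L} (h : a ⋖ b) [WellFoundedGT (Set.Iic a)] :
    WellFoundedGT (Set.Iic b) := by
  have := finite_Icc h
  exact (stepMap_strictMono h.le).wellFoundedGT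

lemma finite_Iic_bot [OrderBot L] : Finite (Set.Iic (⊥ : L)) := by
  rw [Set.Iic_bot]
  exact Set.Finite.to_subtype (by simp)

lemma toIicTop_strictMono [OrderTop L] :
    StrictMono (fun x : L => (⟨x, le_top⟩ : Set.Iic (⊤ : L))) := fun _ _ h => h

end

/-- Stacks Tag 0FCJ: an object X of an abelian category is Artinian and Noetherian if and only if there is a finite chain of subobjects ⊥ = F₀ ≤ F₁ ≤ … ≤ Fₙ = ⊤ of X whose successive quotients Fᵢ₊₁/Fᵢ are simple. -/
theorem result {A : Type u} [Category.{v} A] [Abelian A] (X : A) :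
    (IsArtinianObject X ∧ IsNoetherianObject X) ↔
      ∃ (n : ℕ) (F : Fin (n + 1) → Subobject X) (hF : Monotone F), F 0 = ⊥ ∧ F (Fin.last n) = ⊤ ∧
        ∀ i : Fin n, Simple (cokernel (Subobject.ofLE (F (Fin.castSucc i)) (F (Fin.succ i)) (hF (Fin.castSucc_lt_succ (i := i)).le))) := by
  constructor
  · rintro ⟨h₁, h₂⟩
    obtain ⟨a, ha0, n, hn, ha⟩ := exists_covBy_seq_of_wellFoundedLT_wellFoundedGT (Subobject X)
    have hmono : Monotone (fun i : Fin (n + 1) => a i) := by
      apply Fin.monotone_iff_le_succ.2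
      intro i
      exact (ha i (by simp)).le
    refine ⟨n, fun i => a i, hmono, ha0.eq_bot, hn.eq_top, fun i => ?_⟩
    exact (Cohder.SubobjLattice.covBy_iff_simple _).1 (ha i (by simp))
  · rintro ⟨n, F, hF, h0, hn, hs⟩
    have key : ∀ i : Fin (n + 1), WellFoundedLT (Set.Iic (F i)) ∧ WellFoundedGT (Set.Iic (F i)) := by
      intro i
      induction i using Fin.induction with
      | zero =>
        rw [h0]
        have := finite_Iic_bot (L := Subobject X)
        constructor <;> infer_instance
      | succ i hi =>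
        have := hi.1
        have := hi.2
        have hc := (Cohder.SubobjLattice.covBy_iff_simple _).2 (hs i)
        exact ⟨wf_step_lt hc, wf_step_gt hc⟩
    have hl := key (Fin.last n)
    rw [hn] at hl
    have := hl.1
    have := hl.2
    constructor
    · rw [IsArtinianObject, ObjectProperty.is_iff]
      exact (toIicTop_strictMono (L := Subobject X)).wellFoundedLT
    · rw [IsNoetherianObject, ObjectProperty.is_iff]
      exact (toIicTop_strictMono (L := Subobject X)).wellFoundedGT

end Groth.Agent.S1077
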