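import Groth.Statements.S1078
import Groth.Agent.Cohder.SubobjLattice

set_option autoImplicit false
universe v u
open CategoryTheory CategoryTheory.Limits
open CohDer

namespace Groth.Agent.S1078

/-- The equivalence relation "isomorphic quotients" on intervals of subobjects. -/
def rel {A : Type u} [Category.{v} A] [Abelian A] {X : A}
    (p q : Subobject X × Subobject X) : Prop :=
  (p.1 ≤ p.2 ↔ q.1 ≤ q.2) ∧ ∀ (hp : p.1 ≤ p.2) (hq : q.1 ≤ q.2),
    Nonempty (cokernel (Subobject.ofLE p.1 p.2 hp) ≅ cokernel (Subobject.ofLE q.1 q.2 hq))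

lemma rel_of_iso {A : Type u} [Category.{v} A] [Abelian A] {X : A}
    {p q : Subobject X × Subobject X} (h : JordanHolderLattice.Iso p q) : rel p q := by
  apply JordanHolderLattice.Iso.rel rel _ _ _ _ h
  · intro x
    exact ⟨Iff.rfl, fun hp _ => ⟨Iso.refl _⟩⟩
  · intro x y h
    exact ⟨h.1.symm, fun hp hq => (h.2 hq hp).map Iso.symm⟩
  · intro x y z h h'
    refine ⟨h.1.trans h'.1, fun hx hz => ?_⟩
    have hy := h.1.1 hx
    obtain ⟨e⟩ := h.2 hx hy
    obtain ⟨e'⟩ := h'.2 hy hz
    exact ⟨e ≪≫ e'⟩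
  · intro x y _
    refine ⟨by simp, fun hp hq => ?_⟩
    exact (Cohder.SubobjLattice.secondIso x y hq hp).map Iso.symm

/-- Stacks Tag 0FCK (Jordan–Hölder): let X be an object of an abelian category with two finite chains of subobjects ⊥ = F₀ ≤ … ≤ Fₙ = ⊤ and ⊥ = G₀ ≤ … ≤ Gₘ = ⊤ whose successive quotients are simple. Then n = m, and after transporting along this equality there is a permutation σ of the indices with Fᵢ₊₁/Fᵢ ≅ G_{σ(i)+1}/G_{σ(i)} for all i. -/
theorem result {A : Type u} [Category.{v} A] [Abelian A] (X : A)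
    (n : ℕ) (F : Fin (n + 1) → Subobject X) (hF : Monotone F) (hF0 : F 0 = ⊥) (hFn : F (Fin.last n) = ⊤) (hFs : ∀ i : Fin n, Simple (cokernel (Subobject.ofLE (F (Fin.castSucc i)) (F (Fin.succ i)) (hF (Fin.castSucc_lt_succ (i := i)).le))))
    (m : ℕ) (G : Fin (m + 1) → Subobject X) (hG : Monotone G) (hG0 : G 0 = ⊥) (hGm : G (Fin.last m) = ⊤) (hGs : ∀ j : Fin m, Simple (cokernel (Subobject.ofLE (G (Fin.castSucc j)) (G (Fin.succ j)) (hG (Fin.castSucc_lt_succ (i := j)).le)))) :
    ∃ (e : n = m) (σ : Equiv.Perm (Fin m)), ∀ i : Fin n,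
      Nonempty (cokernel (Subobject.ofLE (F (Fin.castSucc i)) (F (Fin.succ i)) (hF (Fin.castSucc_lt_succ (i := i)).le)) ≅
        cokernel (Subobject.ofLE (G (Fin.castSucc (σ (Fin.cast e i)))) (G (Fin.succ (σ (Fin.cast e i)))) (hG (Fin.castSucc_lt_succ (i := σ (Fin.cast e i))).le))) := by
  let s₁ : CompositionSeries (Subobject X) :=
    { length := n
      toFun := F
      step := fun i => (Cohder.SubobjLattice.covBy_iff_simple _).2 (hFs i) }
  let s₂ : CompositionSeries (Subobject X) :=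
    { length := m
      toFun := G
      step := fun i => (Cohder.SubobjLattice.covBy_iff_simple _).2 (hGs i) }
  obtain ⟨f, hf⟩ := CompositionSeries.jordan_holder s₁ s₂ (hF0.trans hG0.symm) (hFn.trans hGm.symm)
  change Fin n ≃ Fin m at f
  have e : n = m := by simpa using Fintype.card_congr f
  subst e
  refine ⟨rfl, f, fun i => ?_⟩
  exact (rel_of_iso (hf i)).2 _ _

end Groth.Agent.S1078
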