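import Groth.Statements.S1079
-- import your own Groth.Agent.* helpers here

set_option autoImplicit false
universe v u
open CategoryTheory CategoryTheory.Limits
open CohDer

namespace Groth.Agent.S1079

set_option linter.unusedSimpArgs false

section

variable {D : Type u} [Category.{v} D] [Preadditive D] [Limits.HasZeroObject D] [HasShift D ℤ]
    [∀ n : ℤ, (shiftFunctor D n).Additive] [Pretriangulated D]

open Pretriangulated in
lemma exists_split_of_section {Y Y' : D} (φ : Y ⟶ Y') (ψ : Y' ⟶ Y) (h : ψ ≫ φ = 𝟙 Y') :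
    ∃ (K : D) (j : K ⟶ Y) (r : Y ⟶ K), j ≫ r = 𝟙 K ∧ r ≫ j = 𝟙 Y - φ ≫ ψ := by
  obtain ⟨K, j, δ, hT⟩ := distinguished_cocone_triangle₁ φ
  have hφ : Epi φ := ⟨fun a b hab => by
    rw [← Category.id_comp a, ← Category.id_comp b, ← h, Category.assoc, Category.assoc, hab]⟩
  have hδ : δ = 0 := by
    rw [← cancel_epi φ, comp_zero]
    exact comp_distTriang_mor_zero₂₃ _ hT
  have hjφ : j ≫ φ = 0 := comp_distTriang_mor_zero₁₂ _ hT
  have hj : Mono j := (Triangle.mor₃_eq_zero_iff_mono₁ _ hT).1 hδ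
  obtain ⟨r, hr⟩ : ∃ r : Y ⟶ K, 𝟙 Y - φ ≫ ψ = r ≫ j :=
    Triangle.coyoneda_exact₂ _ hT (𝟙 Y - φ ≫ ψ) (by
    change (𝟙 Y - φ ≫ ψ) ≫ φ = 0
    rw [Preadditive.sub_comp, Category.assoc, h, Category.id_comp, Category.comp_id, sub_self])
  refine ⟨K, j, r, ?_, hr.symm⟩
  rw [← cancel_mono j, Category.assoc, ← hr, Preadditive.comp_sub, ← Category.assoc, hjφ]
  simp

lemma exists_split_of_retract {X Y Y' : D} (φ : Y ⟶ Y') (ψ : Y' ⟶ Y) (h : ψ ≫ φ = 𝟙 Y')
    (q : X ⟶ X) (a : X ⟶ Y) (b : Y ⟶ X) (hab : a ≫ b = 𝟙 X)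
    (hq : 𝟙 Y - φ ≫ ψ = b ≫ q ≫ a) :
    ∃ (K : D) (i : K ⟶ X) (e : X ⟶ K), i ≫ e = 𝟙 K ∧ e ≫ i = q := by
  obtain ⟨K, j, r, hjr, hrj⟩ := exists_split_of_section φ ψ h
  rw [hq] at hrj
  refine ⟨K, j ≫ b, a ≫ r, ?_, ?_⟩
  · have : (j ≫ b ≫ a ≫ r) ≫ j = j := by
      have h1 : a ≫ b ≫ q ≫ a = q ≫ a := by
        rw [← Category.assoc, hab, Category.id_comp]
      calc (j ≫ b ≫ a ≫ r) ≫ j = j ≫ b ≫ a ≫ (r ≫ j) := by simp only [Category.assoc]
        _ = j ≫ b ≫ q ≫ a := by rw [hrj, h1]
        _ = (j ≫ r) ≫ j := by rw [← hrj, Category.assoc]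
        _ = j := by rw [hjr, Category.id_comp]
    calc (j ≫ b) ≫ a ≫ r = ((j ≫ b ≫ a ≫ r) ≫ j) ≫ r := by
          simp only [Category.assoc, hjr, Category.comp_id]
      _ = 𝟙 K := by rw [this, hjr]
  · calc (a ≫ r) ≫ j ≫ b = a ≫ (r ≫ j) ≫ b := by simp only [Category.assoc]
      _ = (a ≫ b) ≫ q ≫ (a ≫ b) := by rw [hrj]; simp only [Category.assoc]
      _ = q := by rw [hab, Category.id_comp, Category.comp_id]

end

/-- Stacks Tag 05QW: a pretriangulated category which has countable coproducts, or countable products, is Karoubian (idempotent complete). -/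
theorem result {D : Type u} [Category.{v} D] [Preadditive D] [Limits.HasZeroObject D] [HasShift D ℤ]
    [∀ n : ℤ, (shiftFunctor D n).Additive] [Pretriangulated D]
    (h : HasColimitsOfShape (Discrete ℕ) D ∨ HasLimitsOfShape (Discrete ℕ) D) : IsIdempotentComplete D := by
  refine ⟨fun X e' he''' => ?_⟩
  obtain ⟨e, hee⟩ : ∃ e : X ⟶ X, e + e' = 𝟙 X := ⟨𝟙 X - e', by simp⟩
  have he : e ≫ e = e := by
    obtain rfl : e = 𝟙 X - e' := by rw [← hee]; simp
    simp [Preadditive.sub_comp, Preadditive.comp_sub, he''']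
  have he' : e ≫ e' = 0 := by
    obtain rfl : e = 𝟙 X - e' := by rw [← hee]; simp
    simp [Preadditive.sub_comp, he''']
  have he'' : e' ≫ e = 0 := by
    obtain rfl : e = 𝟙 X - e' := by rw [← hee]; simp
    simp [Preadditive.comp_sub, he''']
  have hee' : e' + e = 𝟙 X := by rw [add_comm]; exact hee
  rcases h with h | h
  · -- coproducts
    let Y : D := ∐ (fun _ : ℕ => X)
    let ι (n : ℕ) : X ⟶ Y := Sigma.ι (fun _ : ℕ => X) n
    let φ : Y ⟶ Y := Sigma.desc (fun n => e ≫ ι n + e' ≫ ι (n + 1))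
    let ψ : Y ⟶ Y := Sigma.desc (fun n => match n with
      | 0 => e ≫ ι 0
      | n + 1 => e' ≫ ι n + e ≫ ι (n + 1))
    let b : Y ⟶ X := Sigma.desc (fun n => match n with
      | 0 => 𝟙 X
      | n + 1 => 0)
    have hφ (n : ℕ) : ι n ≫ φ = e ≫ ι n + e' ≫ ι (n + 1) := Sigma.ι_desc _ _
    have hψ0 : ι 0 ≫ ψ = e ≫ ι 0 := Sigma.ι_desc _ _
    have hψ (n : ℕ) : ι (n + 1) ≫ ψ = e' ≫ ι n + e ≫ ι (n + 1) := Sigma.ι_desc _ _
    have hb0 : ι 0 ≫ b = 𝟙 X := Sigma.ι_desc _ _
    have hb (n : ℕ) : ι (n + 1) ≫ b = 0 := Sigma.ι_desc _ _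
    have hext {Z : D} (f g : Y ⟶ Z) (h : ∀ n, ι n ≫ f = ι n ≫ g) : f = g := Sigma.hom_ext _ _ h
    refine (exists_split_of_retract ψ φ ?_ e' (ι 0) b hb0 ?_)
    · apply hext
      intro n
      cases n with
      | zero =>
        simp only [zero_add, reassoc_of% hφ, Preadditive.add_comp, Category.assoc, hψ, hψ0,
          Preadditive.comp_add, reassoc_of% he, reassoc_of% he', reassoc_of% he'',
          reassoc_of% he''', Category.comp_id, zero_comp, add_zero]
        rw [← Preadditive.add_comp, hee, Category.id_comp]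
      | succ n =>
        simp only [reassoc_of% hφ, Preadditive.add_comp, Category.assoc, hψ, hψ0,
          Preadditive.comp_add, reassoc_of% he, reassoc_of% he', reassoc_of% he'',
          reassoc_of% he''', Category.comp_id, zero_comp, add_zero, zero_add]
        rw [← Preadditive.add_comp, hee, Category.id_comp]
    · apply hext
      intro n
      rw [Preadditive.comp_sub, Category.comp_id]
      cases n with
      | zero =>
        simp only [reassoc_of% hψ0, Preadditive.add_comp, Category.assoc, hφ, reassoc_of% hb0,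
          Preadditive.comp_add, reassoc_of% he, reassoc_of% he', reassoc_of% he'',
          reassoc_of% he''', Category.comp_id, zero_comp, add_zero, zero_add]
        rw [sub_eq_iff_eq_add, ← Preadditive.add_comp, hee', Category.id_comp]
      | succ n =>
        simp only [reassoc_of% hψ, Preadditive.add_comp, Category.assoc, hφ, reassoc_of% hb,
          Preadditive.comp_add, reassoc_of% he, reassoc_of% he', reassoc_of% he'',
          reassoc_of% he''', Category.comp_id, zero_comp, add_zero, zero_add]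
        rw [sub_eq_zero, ← Preadditive.add_comp, hee', Category.id_comp]
  · -- products
    let Y : D := ∏ᶜ (fun _ : ℕ => X)
    let π (n : ℕ) : Y ⟶ X := Pi.π (fun _ : ℕ => X) n
    let φ : Y ⟶ Y := Pi.lift (fun n => π n ≫ e + π (n + 1) ≫ e')
    let ψ : Y ⟶ Y := Pi.lift (fun n => match n with
      | 0 => π 0 ≫ e
      | n + 1 => π n ≫ e' + π (n + 1) ≫ e)
    let b : X ⟶ Y := Pi.lift (fun n => match n with
      | 0 => 𝟙 X
      | n + 1 => 0)
    have hφ (n : ℕ) : φ ≫ π n = π n ≫ e + π (n + 1) ≫ e' := Pi.lift_π _ _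
    have hψ0 : ψ ≫ π 0 = π 0 ≫ e := Pi.lift_π _ _
    have hψ (n : ℕ) : ψ ≫ π (n + 1) = π n ≫ e' + π (n + 1) ≫ e := Pi.lift_π _ _
    have hb0 : b ≫ π 0 = 𝟙 X := Pi.lift_π _ _
    have hb (n : ℕ) : b ≫ π (n + 1) = 0 := Pi.lift_π _ _
    have hext {Z : D} (f g : Z ⟶ Y) (h : ∀ n, f ≫ π n = g ≫ π n) : f = g := Pi.hom_ext _ _ h
    refine (exists_split_of_retract φ ψ ?_ e' b (π 0) hb0 ?_)
    · apply hext
      intro n
      cases n with
      | zero =>
        simp only [Category.assoc, hφ, Preadditive.comp_add, zero_add, reassoc_of% hψ0,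
          reassoc_of% hψ, Preadditive.add_comp, he, he', he'', he''', comp_zero, add_zero,
          Category.id_comp]
        rw [← Preadditive.comp_add, hee, Category.comp_id]
      | succ n =>
        simp only [Category.assoc, hφ, Preadditive.comp_add, zero_add,
          reassoc_of% hψ, Preadditive.add_comp, he, he', he'', he''', comp_zero, add_zero,
          Category.id_comp]
        rw [← Preadditive.comp_add, hee, Category.comp_id]
    · apply hext
      intro n
      rw [Preadditive.sub_comp, Category.id_comp]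
      cases n with
      | zero =>
        simp only [Category.assoc, hψ0, hb0, Preadditive.comp_add, zero_add,
          reassoc_of% hφ, Preadditive.add_comp, he, he', he'', he''', comp_zero, add_zero,
          Category.id_comp, Category.comp_id]
        rw [sub_eq_iff_eq_add, ← Preadditive.comp_add, hee', Category.comp_id]
      | succ n =>
        simp only [Category.assoc, hψ, hb, Preadditive.comp_add, zero_add,
          reassoc_of% hφ, Preadditive.add_comp, he, he', he'', he''', comp_zero, add_zero,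
          Category.id_comp, Category.comp_id]
        rw [sub_eq_zero, ← Preadditive.comp_add, hee', Category.comp_id]

end Groth.Agent.S1079
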