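import Groth.Statements.S1082
import Groth.Agent.Dcoh.FilRes
import Groth.Agent.S1081

set_option autoImplicit false
universe v u
open CategoryTheory CategoryTheory.Limits Opposite
open FilD

namespace Groth.Agent.S1082

/-- Stacks Tag 05TW: let A be an abelian category with enough injectives and K a bounded below cochain complex of finite filtered objects. There are a bounded below complex I of filtered injective objects and a filtered quasi-isomorphism K ⟶ I each of whose components Kⁿ ⟶ Iⁿ is a strict monomorphism. -/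
theorem result {A : Type u} [Category.{v} A] [Abelian A] [EnoughInjectives A] (K : CochainComplex (FilD.FilF A) ℤ) (a : ℤ) [K.IsStrictlyGE a] :
    ∃ (I : CochainComplex (FilD.FilF A) ℤ) (a' : ℤ) (φ : K ⟶ I), I.IsStrictlyGE a' ∧ (∀ n, FilD.IsFilteredInjective (I.X n)) ∧
      FilD.IsFilteredQuasiIso φ ∧ ∀ n, Mono (φ.f n) ∧ FilD.IsStrict (φ.f n) := by
  obtain ⟨I, φ, h1, h2, h3, h4⟩ := Groth.Agent.Dcoh.FilRes.exists_resolution (fun X => by
    obtain ⟨I, e, h1, h2, h3⟩ := Groth.Agent.S1081.result X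
    exact ⟨I, e, h1, Groth.Agent.Dcoh.Fil.mono_gr_of_isStrict e h3
      (Groth.Agent.Dcoh.Fil.mono_lmap e)⟩) K a
  exact ⟨I, a, φ, h1, h2, h3, fun n => ⟨Groth.Agent.Dcoh.Fil.mono_of_gr _ (h4 n),
    Groth.Agent.Dcoh.Fil.isStrict_of_mono_gr _ (h4 n)⟩⟩

end Groth.Agent.S1082
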