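import Groth.Statements.S1086
import Groth.Agent.Dcoh.FilStep

set_option autoImplicit false
universe v u
open CategoryTheory CategoryTheory.Limits Opposite
open FilD

namespace Groth.Agent.S1086

/-- Stacks Tag 0127, equivalence of (1) and (4): let φ : X ⟶ Y be a morphism of finite filtered objects of an abelian category and let Ker φ carry the induced filtration (the kernel computed levelwise). Then φ is strict if and only if for every p the sequence grᵖ(Ker φ) ⟶ grᵖ X ⟶ grᵖ Y is exact. -/
theorem result {A : Type u} [Category.{v} A] [Abelian A] {X Y : FilD.FilF A} (φ : X ⟶ Y) :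
    FilD.IsStrict φ ↔
      ∀ p : ℤ, ((ShortComplex.mk (kernel.ι φ.hom) φ.hom (kernel.condition φ.hom)).map (FilD.gr A p)).Exact := by
  rw [Groth.Agent.Dcoh.FilStep.isStrict_iff]
  have hex : (ShortComplex.mk (kernel.ι φ.hom) φ.hom (kernel.condition φ.hom)).Exact :=
    ShortComplex.exact_kernel _
  have key := fun p : ℤ => Groth.Agent.Dcoh.FilStep.gr_exact_iff_stepLift
    (ShortComplex.mk (kernel.ι φ.hom) φ.hom (kernel.condition φ.hom)) p
    (hex.map ((evaluation ℤᵒᵖ A).obj (op p))) (Groth.Agent.Dcoh.FilStep.stepMono_of_filF Y)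
    (Int.le_add_one le_rfl : p ≤ p + 1)
  exact ⟨fun H p => (key p).2 (H p _), fun H p h => (key p).1 (H p)⟩

end Groth.Agent.S1086
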