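import Groth.Statements.S1089
import Groth.Agent.Dcoh.FilRes
import Groth.Agent.S1081

set_option autoImplicit false
universe v u
open CategoryTheory CategoryTheory.Limits Opposite
open FilD

namespace Groth.Agent.S1089

/-- Stacks Tag 05TT: let A be an abelian category with enough injectives and X a finite filtered object. There are a cochain complex I of filtered injective objects with Iⁿ = 0 for n < 0 and a filtered quasi-isomorphism X[0] ⟶ I. -/
theorem result {A : Type u} [Category.{v} A] [Abelian A] [EnoughInjectives A] (X : FilD.FilF A) :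
    ∃ (I : CochainComplex (FilD.FilF A) ℤ) (φ : (CochainComplex.singleFunctor (FilD.FilF A) 0).obj X ⟶ I), I.IsStrictlyGE 0 ∧
      (∀ n, FilD.IsFilteredInjective (I.X n)) ∧ FilD.IsFilteredQuasiIso φ := by
  obtain ⟨I, φ, h1, h2, h3, -⟩ := Groth.Agent.Dcoh.FilRes.exists_resolution (fun X => by
    obtain ⟨I, e, h1, h2, h3⟩ := Groth.Agent.S1081.result X
    exact ⟨I, e, h1, Groth.Agent.Dcoh.Fil.mono_gr_of_isStrict e h3
      (Groth.Agent.Dcoh.Fil.mono_lmap e)⟩)
    ((CochainComplex.singleFunctor (FilD.FilF A) 0).obj X) 0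
  exact ⟨I, φ, h1, h2, h3⟩

end Groth.Agent.S1089
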