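import Groth.Statements.S1092
import Groth.Agent.Cohder.ProdExact
import Groth.Agent.Cohder.TelescopeTower
import Groth.Agent.Cohder.KInjEss
import Groth.Agent.Cohder.TruncTower

set_option autoImplicit false
universe v u
open CategoryTheory CategoryTheory.Limits
open CohDer

namespace Groth.Agent.S1092

open Groth.Agent.Cohder

section

variable {A : Type u} [Category.{v} A] [Abelian A] [EnoughInjectives A]
    [HasLimitsOfShape (Discrete ℕ) A] [HasExactLimitsOfShape (Discrete ℕ) A]

omit [EnoughInjectives A] in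
lemma kInj_pi [HasDerivedCategory.{max u v} A] (T : ℕ → CochainComplex A ℤ)
    (hT : ∀ n, KInjEss.kInj A (DerivedCategory.Q.obj (T n))) :
    KInjEss.kInj A (DerivedCategory.Q.obj (∏ᶜ T)) := by
  choose I f hI hf using fun n => KInjEss.exists_quasiIso_of_kInj (T n) (hT n)
  have h1 : QuasiIso (Limits.Pi.map f) :=
    ProdExact.quasiIso_of_isLimit_fan f hf (fun n => Pi.π T n) (productIsProduct _)
      (fun n => Pi.π I n) (productIsProduct _) _ (fun n => by simp)
  have h2 : (∏ᶜ I).IsKInjective := ProdExact.isKInjective_of_isLimit_fan hI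
      (fun n => Pi.π I n) (fun i => ⟨isLimitFanMkObjOfIsLimit (HomologicalComplex.eval A _ i) _ _
        (productIsProduct _)⟩)
  exact KInjEss.kInj_of_quasiIso (Limits.Pi.map f)

lemma kInj_Q_obj [HasDerivedCategory.{max u v} A] (K : CochainComplex A ℤ) :
    KInjEss.kInj A (DerivedCategory.Q.obj K) := by
  let T : ℕ → CochainComplex A ℤ := fun n => K.truncGE (-(n : ℤ))
  let t (n : ℕ) : T (n + 1) ⟶ T n := TruncTower.trans K _ _ (by simp)
  let π (n : ℕ) : K ⟶ T n := K.πTruncGE _
  have hπ (n : ℕ) : π (n + 1) ≫ t n = π n := TruncTower.πTruncGE_trans K _ _ _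
  let f : K ⟶ ∏ᶜ T := Pi.lift π
  let g : ∏ᶜ T ⟶ ∏ᶜ T := Pi.lift (fun n => Pi.π T n - Pi.π T (n + 1) ≫ t n)
  have w : f ≫ g = 0 := by
    refine Pi.hom_ext _ _ (fun n => ?_)
    simp [f, g, Preadditive.comp_sub, hπ]
  have hS : (ShortComplex.mk f g w).ShortExact :=
    TelescopeTower.shortExact_of_eventually_iso_complex t π hπ
      (fun i => ⟨(-i).toNat + 1, fun n hn => TruncTower.isIso_πTruncGE_f K _ _ (by omega)⟩)
      (fun n => Pi.π T n) (fun i => ⟨isLimitFanMkObjOfIsLimit
        (HomologicalComplex.eval A _ i) _ _ (productIsProduct _)⟩)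
      f (fun n => by simp [f]) g (fun n => by simp [g]) w
  have hP : KInjEss.kInj A (DerivedCategory.Q.obj (∏ᶜ T)) :=
    kInj_pi T (fun n => KInjEss.kInj_of_isStrictlyGE _ (-(n : ℤ)))
  exact KInjEss.kInj_of_shortExact hS hP hP

end

/-- Stacks Tag 090Y: let A be an abelian category with enough injectives in which countable products exist and are exact. Then every cochain complex K admits a quasi-isomorphism K ⟶ I to a K-injective complex I. -/
theorem result {A : Type u} [Category.{v} A] [Abelian A] [EnoughInjectives A]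
    [HasLimitsOfShape (Discrete ℕ) A] [HasExactLimitsOfShape (Discrete ℕ) A] (K : CochainComplex A ℤ) :
    ∃ (I : CochainComplex A ℤ) (f : K ⟶ I), I.IsKInjective ∧ QuasiIso f := by
  let _ : HasDerivedCategory.{max u v} A := HasDerivedCategory.standard A
  exact KInjEss.exists_quasiIso_of_kInj K (kInj_Q_obj K)

end Groth.Agent.S1092
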