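import Groth.Statements.S1093
import Groth.Agent.PerfC.PcDesc

set_option autoImplicit false
universe u
open CategoryTheory CategoryTheory.Limits AlgebraicGeometry Opposite
attribute [local instance] HasDerivedCategory.standard
open Perf

namespace Groth.Agent.S1093

/-- Stacks Tag 09UF, for a covering by a single flat, surjective morphism locally of finite presentation f : X' ⟶ X (an fppf covering): assuming Lf^* exists, an object E of D(O_X) is m-pseudo-coherent if and only if Lf^*E is m-pseudo-coherent. -/
theorem result {X' X : Scheme.{u}} (f : X' ⟶ X) [Flat f] [Surjective f] [LocallyOfFinitePresentation f]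
    [DCoh.HasLpull f] (E : DCoh.D X) (m : ℤ) :
    DCoh.IsPseudoCoherentD m E ↔ DCoh.IsPseudoCoherentD m ((DCoh.Lpull f).obj E) := by
  have := PerfC.FlatExact.preservesFiniteLimits_pullback f
  have e : (DCoh.Lpull f).obj E ≅ (PerfC.PullRestrict.pullD f).obj E :=
    (PerfC.LpullFlat.lpullIso f).app E
  exact ⟨fun h => PerfC.PcLocal.pc_of_iso e.symm (PerfC.PcDesc.pc_pullD f E m h),
    fun h => PerfC.PcDesc.pc_of_pullD f E m (PerfC.PcLocal.pc_of_iso e h)⟩

end Groth.Agent.S1093
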