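import Groth.Statements.S1099
-- import your own Groth.Agent.* helpers here
import Groth.Agent.PerfA.CountHom2
import Groth.Agent.PerfA.PerfLocal

set_option autoImplicit false
universe u
open CategoryTheory CategoryTheory.Limits AlgebraicGeometry Opposite
attribute [local instance] HasDerivedCategory.standard
open Perf

namespace Groth.Agent.S1099

/-- Stacks Tag 0CRP (the statement about Ext groups): let the scheme X be quasi-compact and quasi-separated, K ∈ D(O_X) with quasi-coherent cohomology sheaves whose sections over affine opens are countable, E a perfect object of D(O_X), and U ⊆ X a quasi-compact open (restriction to U assumed exact). Then for every i the group of morphisms E|_U ⟶ K|_U[i] in D(O_U) is countable. -/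
theorem result (X : Scheme.{u}) [CompactSpace ↥X] [QuasiSeparatedSpace ↥X]
    (K : DCoh.D X) (hK : DCoh.IsQCohD K) (hKc : ∀ V : X.Opens, IsAffineOpen V → ∀ i : ℤ, Countable ((DCoh.HD K i).val.obj (op V)))
    (E : DCoh.D X) (hE : DCoh.IsPerfect E) (U : X.Opens) (hU : IsCompact (U : Set X)) [PreservesFiniteLimits (Scheme.Modules.restrictFunctor U.ι)] (i : ℤ) :
    Countable ((DCoh.restrictD U.ι).obj E ⟶ ((DCoh.restrictD U.ι).obj K)⟦i⟧) := by
  have : CompactSpace (U : Scheme.{u}) := isCompact_iff_compactSpace.1 hU
  have : QuasiSeparatedSpace (U : Scheme.{u}) :=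
    (isQuasiSeparated_iff_quasiSeparatedSpace (U : Set X) U.isOpen).1
      (IsQuasiSeparated.of_quasiSeparatedSpace _)
  have hE' : DCoh.IsPerfect ((DCoh.restrictD U.ι).obj E) :=
    Groth.Agent.PerfA.PerfLocal.isPerfect_restrictD U.ι hE
  have hK' : DCoh.IsQCohD ((DCoh.restrictD U.ι).obj K) :=
    Groth.Agent.PerfA.QCohD.isQCohD_restrictD U.ι hK
  refine Groth.Agent.PerfA.CountHom.countable_hom_shift
    (Groth.Agent.PerfA.CountHom.homC_of_isPerfect _ hK' (fun V hV j => ?_) _ hE') i
  have h1 : IsAffineOpen (U.ι ''ᵁ V) := hV.image_of_isOpenImmersion U.ι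
  have h2 : Countable Γ((DCoh.HD K j).restrict U.ι, V) := hKc _ h1 j
  have e := Groth.Agent.PerfA.Restrict.HDrestrict U.ι K j
  have h3 : Function.Injective (e.hom.app V) := by
    have : IsIso (e.hom.app V) := inferInstance
    exact ((ConcreteCategory.isIso_iff_bijective _).1 this).1
  exact h3.countable

end Groth.Agent.S1099
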