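import Groth.Statements.S1111
-- import your own Groth.Agent.* helpers here
import Groth.Agent.S1005
import Groth.Agent.S1006

set_option autoImplicit false
universe u
open CategoryTheory CategoryTheory.Limits AlgebraicGeometry
attribute [local instance] HasDerivedCategory.standard
open KZero

namespace Groth.Agent.S1111

/-- Equal object properties have the same `K0tr`, compatibly with classes. -/
theorem exists_equiv_of_eq {X : Scheme.{u}} (P Q : ObjectProperty (DCoh.D X)) (h : P = Q) :
    ∃ φ : KZero.K0tr P ≃+ KZero.K0tr Q, ∀ K : DCoh.D X, P K → φ (KZero.clTr P K) = KZero.clTr Q K := by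
  subst h
  exact ⟨AddEquiv.refl _, fun _ _ => rfl⟩

/-- Stacks Tag 0FDI: let X be a Noetherian scheme all of whose local rings are regular. The map K₀(X) = K₀(D_perf(O_X)) ⟶ K'₀(X) = K₀(D^b_Coh(O_X)) induced by the inclusion of perfect objects into bounded objects with coherent cohomology is an isomorphism: there is an isomorphism of the two Grothendieck groups sending the class of each perfect K to the class of K. -/
theorem result (X : Scheme.{u}) [IsNoetherian X] (hreg : ∀ x : X, IsRegularLocalRing (X.presheaf.stalk x)) :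
    ∃ φ : KZero.K0tr (fun K : DCoh.D X => DCoh.IsPerfect K) ≃+ KZero.K0tr (fun K : DCoh.D X => DCoh.IsCohD K ∧ ∃ a b : ℤ, K.IsGE a ∧ K.IsLE b),
      ∀ K : DCoh.D X, DCoh.IsPerfect K →
        φ (KZero.clTr (fun K : DCoh.D X => DCoh.IsPerfect K) K) = KZero.clTr (fun K : DCoh.D X => DCoh.IsCohD K ∧ ∃ a b : ℤ, K.IsGE a ∧ K.IsLE b) K := by
  refine exists_equiv_of_eq _ _ ?_
  funext K
  refine propext ⟨fun h => Groth.Agent.S1006.result X K h, ?_⟩
  rintro ⟨h, a, b, ha, hb⟩
  exact Groth.Agent.S1005.result X hreg K a b h

end Groth.Agent.S1111
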