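import Groth.Statements.S1113
import Groth.Agent.Cohder.TruncFactor

set_option autoImplicit false
universe w v u
open CategoryTheory CategoryTheory.Limits
open CohDer

namespace Groth.Agent.S1113

/-- Stacks Tag 08Q2 (second half): let K : ℕᵒᵖ ⥤ CochainComplex A ℤ be a sequence of cochain maps … → K₂ → K₁ → K₀ in an abelian category with Hⁱ(K₀) = 0 for i < 0 and such that for every j < n the map Hʲ(Kⱼ₊₁) → Hʲ(Kⱼ) is zero. Then in the derived category the composite Kₙ → K₀ factors through the canonical truncation Kₙ → τ_{≥ n}Kₙ. -/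
theorem result {A : Type u} [Category.{v} A] [Abelian A] [HasDerivedCategory.{w} A]
    (K : ℕᵒᵖ ⥤ CochainComplex A ℤ) (n : ℕ)
    (h0 : ∀ i : ℤ, i < 0 → IsZero ((K.obj (Opposite.op 0)).homology i))
    (hz : ∀ j : ℕ, j < n → HomologicalComplex.homologyMap (K.map (homOfLE (Nat.le_succ j)).op) (j : ℤ) = 0) :
    ∃ φ : DerivedCategory.Q.obj ((K.obj (Opposite.op n)).truncGE (n : ℤ)) ⟶ DerivedCategory.Q.obj (K.obj (Opposite.op 0)),
      DerivedCategory.Q.map ((K.obj (Opposite.op n)).πTruncGE (n : ℤ)) ≫ φ = DerivedCategory.Q.map (K.map (homOfLE (Nat.zero_le n)).op) := by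
  induction n with
  | zero =>
    have : (K.obj (Opposite.op 0)).IsGE 0 := by
      rw [CochainComplex.isGE_iff]
      intro i hi
      rw [HomologicalComplex.exactAt_iff_isZero_homology]
      exact h0 i hi
    have h2 : IsIso (DerivedCategory.Q.map ((K.obj (Opposite.op 0)).πTruncGE ((0 : ℕ) : ℤ))) := by
      rw [DerivedCategory.isIso_Q_map_iff_quasiIso, CochainComplex.quasiIso_πTruncGE_iff]
      simpa using this
    refine ⟨inv (DerivedCategory.Q.map ((K.obj (Opposite.op 0)).πTruncGE ((0 : ℕ) : ℤ))), ?_⟩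
    rw [IsIso.hom_inv_id]
    have : (homOfLE (Nat.zero_le 0)).op = 𝟙 (Opposite.op (0 : ℕ)) := rfl
    rw [this, K.map_id, CategoryTheory.Functor.map_id]
  | succ m ih =>
    obtain ⟨φ, hφ⟩ := ih (fun j hj => hz j (by lia))
    have e : K.map (homOfLE (Nat.zero_le (m + 1))).op =
        K.map (homOfLE (Nat.le_succ m)).op ≫ K.map (homOfLE (Nat.zero_le m)).op := by
      rw [← K.map_comp]; rfl
    refine Groth.Agent.Cohder.TruncFactor.exists_desc_truncGE _ (m : ℤ) ((m + 1 : ℕ) : ℤ) (by simp) _ ?_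
    rw [e, CategoryTheory.Functor.map_comp, ← hφ]
    have hv : DerivedCategory.Q.map ((K.obj (Opposite.op (m + 1))).ιTruncLE (m : ℤ)) ≫
        DerivedCategory.Q.map (K.map (homOfLE (Nat.le_succ m)).op) ≫
          DerivedCategory.Q.map ((K.obj (Opposite.op m)).πTruncGE (m : ℤ)) = 0 := by
      rw [← CategoryTheory.Functor.map_comp, ← CategoryTheory.Functor.map_comp]
      apply Groth.Agent.Cohder.TruncFactor.Q_hom_eq_zero (m : ℤ)
      rw [CategoryTheory.Functor.map_comp, CategoryTheory.Functor.map_comp, CategoryTheory.Functor.map_comp, CategoryTheory.Functor.map_comp,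
        Groth.Agent.Cohder.TruncFactor.homologyFunctor_map_Q_map_eq_zero _ _ (hz m (by lia))]
      simp
    rw [← Category.assoc, ← Category.assoc, Category.assoc _ _ (DerivedCategory.Q.map _)]
    rw [hv, zero_comp]

end Groth.Agent.S1113
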