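import Groth.Statements.S1114
import Groth.Agent.Dcoh.DualX
import Groth.Agent.S1062
import Groth.Agent.PerfA.PCohQCoh
import Groth.Agent.LoccohB.DQCohBasic

set_option autoImplicit false
universe u
open CategoryTheory CategoryTheory.Limits AlgebraicGeometry Opposite
attribute [local instance] HasDerivedCategory.standard
open Perf

namespace Groth.Agent.S1114

/-- Stacks Tag 0A6H, part (2): let X be a scheme, K a cochain complex of O_X-modules whose image in D(O_X) is perfect, and L ∈ D(O_X) with quasi-coherent cohomology sheaves. Assuming - ⊗^L K and its right adjoint RHom(K, -) exist on D(O_X), RHom(K, L) has quasi-coherent cohomology sheaves. -/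
theorem result (X : Scheme.{u}) (K : CochainComplex X.Modules ℤ) (hK : DCoh.IsPerfect (DCoh.toD X K)) [DCoh.HasLTensorCx K] [DCoh.HasRSheafHom K]
    (L : DCoh.D X) (hL : DCoh.IsQCohD L) : DCoh.IsQCohD ((DCoh.RSheafHom K).obj L) := by
  obtain ⟨hp, h⟩ := Groth.Agent.Dcoh.DualX.dual_perfect_complex K hK
  let D := DerivedCategory.Q.objPreimage ((DCoh.RSheafHom K).obj
    ((DerivedCategory.singleFunctor X.Modules 0).obj (Coh.structureModule X)))
  let e := DerivedCategory.Q.objObjPreimageIso ((DCoh.RSheafHom K).obj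
    ((DerivedCategory.singleFunctor X.Modules 0).obj (Coh.structureModule X)))
  have : DCoh.HasLTensorCx D := Groth.Agent.Dcoh.ModTens.hasLTensorCx D
  obtain ⟨e'⟩ := h D ⟨e⟩ L
  refine Groth.Agent.LoccohB.DQCohBasic.isQCohD_of_iso e' (Groth.Agent.S1062.result X D ?_ L hL)
  exact Groth.Agent.LoccohB.DQCohBasic.isQCohD_of_iso e.symm
    (Groth.Agent.PerfA.PCohQCoh.isQCohD_of_isPerfect hp)

end Groth.Agent.S1114
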