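import Groth.Statements.S1116
import Groth.Agent.PerfC.RHomPC346
import Groth.Agent.PerfC.RHomBnd556
import Groth.Agent.PerfB.PCNoeth

set_option autoImplicit false
universe u
open CategoryTheory CategoryTheory.Limits AlgebraicGeometry Opposite
attribute [local instance] HasDerivedCategory.standard
open Perf

namespace Groth.Agent.S1116

/-- Stacks Tag 0D0C: let X be a locally Noetherian scheme, K a cochain complex of O_X-modules whose image in D(O_X) is bounded above with coherent cohomology sheaves, and L ∈ D(O_X) bounded below with coherent cohomology sheaves. Assuming - ⊗^L K and RHom(K, -) exist, RHom(K, L) is bounded below with coherent cohomology sheaves. -/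
theorem result (X : Scheme.{u}) [IsLocallyNoetherian X] (K : CochainComplex X.Modules ℤ) (b : ℤ) [(DCoh.toD X K).IsLE b]
    (hK : DCoh.IsCohD (DCoh.toD X K)) [DCoh.HasLTensorCx K] [DCoh.HasRSheafHom K] (L : DCoh.D X) (a : ℤ) [L.IsGE a] (hL : DCoh.IsCohD L) :
    DCoh.IsCohD ((DCoh.RSheafHom K).obj L) ∧ ∃ a' : ℤ, ((DCoh.RSheafHom K).obj L).IsGE a' := by
  have hpc : ∀ m : ℤ, DCoh.IsPseudoCoherentD m (DCoh.toD X K) := fun m =>
    Groth.Agent.PerfB.PCNoeth.pc_of_isCoh ((b - m).toNat + 1) (DCoh.toD X K) b m inferInstance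
      (by have := Int.self_le_toNat (b - m); push_cast; omega) (fun i _ => hK i)
  have e := (Groth.Agent.PerfC.RHomD.rsIso K).app L
  have h1 : DCoh.IsCohD ((Groth.Agent.PerfC.RHomD.RH (DerivedCategory.Q.obj K)).obj L) :=
    Groth.Agent.PerfC.RHomPC346.coh_rh_pc Groth.Agent.PerfC.RHomSerre.locSerre_coh
      (X := X) inferInstance hpc a inferInstance hL
  have h2 : ((Groth.Agent.PerfC.RHomD.RH (DCoh.toD X K)).obj L).IsGE (a - b) :=
    Groth.Agent.PerfC.RHomBnd556.isGE_RH (DCoh.toD X K) L a b
  exact ⟨fun i => Groth.Agent.PerfA.CohSerre.isCoh_of_iso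
      ((DerivedCategory.homologyFunctor _ i).mapIso e.symm) (h1 i),
    a - b, ⟨DerivedCategory.TStructure.t.isGE_of_iso e.symm (a - b) |>.ge⟩⟩

end Groth.Agent.S1116
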