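import Groth.Statements.S1122
import Groth.Agent.Cohder.CERes

set_option autoImplicit false
universe v u
open CategoryTheory CategoryTheory.Limits
open CohDer

namespace Groth.Agent.S1122

open Groth.Agent.Cohder.CERes

section

variable {A : Type u} [Category.{v} A] [Abelian A] [EnoughInjectives A] (n : ℤ)

/-- bounded below complexes -/
abbrev Obj (A : Type u) [Category.{v} A] [Abelian A] (n : ℤ) :=
  {K : CochainComplex A ℤ // K.IsStrictlyGE n}

/-- The target of the chosen embedding. -/
noncomputable def tgt (K : Obj A n) : CochainComplex A ℤ :=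
  haveI := K.2; (exists_step n K.1).choose

/-- The chosen embedding. -/
noncomputable def emb (K : Obj A n) : K.1 ⟶ tgt n K :=
  haveI := K.2; (exists_step n K.1).choose_spec.choose

lemma emb_spec (K : Obj A n) : (tgt n K).IsStrictlyGE n ∧ Mono (emb n K) ∧
      (∀ p, Mono (HomologicalComplex.homologyMap (emb n K) p)) ∧ (∀ p, Injective ((tgt n K).X p)) ∧
      (∀ p, Injective ((tgt n K).cycles p)) ∧ (∀ p, Injective ((tgt n K).homology p)) :=
  haveI := K.2; (exists_step n K.1).choose_spec.choose_spec

/-- The next syzygy. -/
noncomputable def next (K : Obj A n) : Obj A n :=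
  ⟨cokernel (emb n K), by
    rw [CochainComplex.isStrictlyGE_iff]
    intro i hi
    have := (emb_spec n K).1
    exact IsZero.of_epi ((cokernel.π (emb n K)).f i) ((tgt n K).isZero_of_isStrictlyGE n i hi)⟩

/-- The sequence of syzygies. -/
noncomputable def seq (K : Obj A n) : ℕ → Obj A n
  | 0 => K
  | q + 1 => next n (seq K q)

end

/-- Stacks Tag 015I with Definition 015G: let A be an abelian category with enough injectives and K a bounded below cochain complex. There is a double complex I — written as a cochain complex (in the vertical degree q) of cochain complexes (in the horizontal degree p) — with an augmentation ε : K ⟶ I⁰ killed by the vertical differential, such that: I^{p,q} = 0 for p below some bound and for q < 0; for every p the column (I^{p,q})_q with augmentation εᵖ is an injective resolution of Kᵖ; the column of horizontal cycles at p, with the augmentation induced on cycles, is an injective resolution of the cycles Zᵖ(K); and the column of horizontal cohomology at p, with the induced augmentation, is an injective resolution of Hᵖ(K). (The source's definition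 also asks the columns of horizontal images to resolve the images of K; that condition is not asserted here.) -/
theorem result {A : Type u} [Category.{v} A] [Abelian A] [EnoughInjectives A]
    (K : CochainComplex A ℤ) (n : ℤ) [K.IsStrictlyGE n] :
    ∃ (I : CochainComplex (CochainComplex A ℤ) ℤ) (ε : K ⟶ I.X 0) (hε : ε ≫ I.d 0 1 = 0),
      (∃ i : ℤ, ∀ p q : ℤ, p < i → IsZero ((I.X q).X p)) ∧
      (∀ p : ℤ, CE.IsInjResolutionVia (((HomologicalComplex.eval A (ComplexShape.up ℤ) p).mapHomologicalComplex (ComplexShape.up ℤ)).obj I) (K.X p) (ε.f p)) ∧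
      (∀ p : ℤ, CE.IsInjResolutionVia (((HomologicalComplex.cyclesFunctor A (ComplexShape.up ℤ) p).mapHomologicalComplex (ComplexShape.up ℤ)).obj I) (K.cycles p) (HomologicalComplex.cyclesMap ε p)) ∧
      (∀ p : ℤ, CE.IsInjResolutionVia (((HomologicalComplex.homologyFunctor A (ComplexShape.up ℤ) p).mapHomologicalComplex (ComplexShape.up ℤ)).obj I) (K.homology p) (HomologicalComplex.homologyMap ε p)) := by
  let Z : ℕ → CochainComplex A ℤ := fun q => (seq n ⟨K, inferInstance⟩ q).1
  let J : ℕ → CochainComplex A ℤ := fun q => tgt n (seq n ⟨K, inferInstance⟩ q)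
  let f : ∀ q, Z q ⟶ J q := fun q => emb n (seq n ⟨K, inferInstance⟩ q)
  let g : ∀ q, J q ⟶ Z (q + 1) := fun q => cokernel.π (emb n (seq n ⟨K, inferInstance⟩ q))
  have w : ∀ q, f q ≫ g q = 0 := fun q => cokernel.condition _
  have hmono : ∀ q, Mono (f q) := fun q => (emb_spec n _).2.1
  have hS : ∀ q, (ShortComplex.mk (f q) (g q) (w q)).ShortExact := fun q =>
    { exact := ShortComplex.exact_of_g_is_cokernel _ (cokernelIsCokernel (f q))
      mono_f := hmono q
      epi_g := inferInstanceAs (Epi (cokernel.π (emb n (seq n ⟨K, inferInstance⟩ q)))) }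
  have hm : ∀ q p, Mono (HomologicalComplex.homologyMap (f q) p) := fun q => (emb_spec n _).2.2.1
  have hε : f 0 ≫ (splice Z J f g w).d 0 1 = 0 := by
    have h := splice_d_nat Z J f g w 0
    have h' : (splice Z J f g w).d 0 1 = g 0 ≫ f 1 := h
    rw [h']
    exact (Category.assoc _ _ _).symm.trans ((congrArg (· ≫ f 1) (w 0)).trans zero_comp)
  refine ⟨splice Z J f g w, f 0, hε, ⟨n, ?_⟩, ?_, ?_, ?_⟩
  · intro p q hp
    cases q with
    | ofNat q =>
      have := (emb_spec n (seq n ⟨K, inferInstance⟩ q)).1
      exact (J q).isZero_of_isStrictlyGE n p hp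
    | negSucc q =>
      exact (HomologicalComplex.eval A (ComplexShape.up ℤ) p).map_isZero
        (isZero_splice Z J f g w _ (Int.negSucc_lt_zero q))
  · intro p
    exact isInjResolutionVia Z J f g w (HomologicalComplex.eval A (ComplexShape.up ℤ) p)
      (fun q => (hS q).map_of_exact _) (fun q => (emb_spec n _).2.2.2.1 p)
  · intro p
    exact isInjResolutionVia Z J f g w (HomologicalComplex.cyclesFunctor A (ComplexShape.up ℤ) p)
      (fun q => cycles_shortExact (hS q) (hm q) p) (fun q => (emb_spec n _).2.2.2.2.1 p)
  · intro p
    exact isInjResolutionVia Z J f g w (HomologicalComplex.homologyFunctor A (ComplexShape.up ℤ) p)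
      (fun q => homology_shortExact (hS q) (hm q) p) (fun q => (emb_spec n _).2.2.2.2.2 p)

end Groth.Agent.S1122
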