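import Groth.Statements.S1123
import Mathlib.Algebra.Homology.Factorizations.CM5a
import Groth.Agent.Cohder.HomSeqTau1

set_option autoImplicit false
universe v u
open CategoryTheory CategoryTheory.Limits
open CohDer

namespace Groth.Agent.S1123

/-- A degreewise split epimorphism onto a complex of injectives from a complex of injectives: the kernel
of a morphism which in each degree is a split epimorphism has injective terms. -/
lemma injective_kernel_X {A : Type u} [Category.{v} A] [Abelian A] {K L : CochainComplex A ℤ} (p : K ⟶ L)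
    (k : ℤ) (s : L.X k ⟶ K.X k) (hs : s ≫ p.f k = 𝟙 _) [Injective (K.X k)] :
    Injective ((kernel p).X k) := by
  have hz : (kernel.ι p).f k ≫ p.f k = 0 := by
    rw [← HomologicalComplex.comp_f, kernel.condition, HomologicalComplex.zero_f]
  have hex : (ShortComplex.mk ((kernel.ι p).f k) (p.f k) hz).Exact :=
    (ShortComplex.exact_of_f_is_kernel (ShortComplex.mk (kernel.ι p) p (kernel.condition p))
      (kernelIsKernel p)).map (HomologicalComplex.eval A (ComplexShape.up ℤ) k)
  have hmono : Mono ((kernel.ι p).f k) := inferInstance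
  let l : K.X k ⟶ (kernel p).X k := hex.lift (𝟙 _ - p.f k ≫ s) (by simp [hs])
  have hl : l ≫ (kernel.ι p).f k = 𝟙 _ - p.f k ≫ s := hex.lift_f _ _
  have hr : (kernel.ι p).f k ≫ l = 𝟙 _ := by
    rw [← cancel_mono ((kernel.ι p).f k), Category.assoc, hl]
    simp [reassoc_of% hz]
  exact Retract.injective { i := (kernel.ι p).f k, r := l, retract := hr }

/-- Stacks Tag 013T: let A be an abelian category with enough injectives and S : 0 → A• → B• → C• → 0 a short exact sequence of cochain complexes all vanishing below degree n. Then there are a short exact sequence T : 0 → I₁ → I₂ → I₃ → 0 of complexes of injective objects vanishing below degree n and a morphism of short exact sequences S ⟶ T whose three components are quasi-isomorphisms. -/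
theorem result {A : Type u} [Category.{v} A] [Abelian A] [EnoughInjectives A]
    (S : ShortComplex (CochainComplex A ℤ)) (hS : S.ShortExact) (n : ℤ)
    [S.X₁.IsStrictlyGE n] [S.X₂.IsStrictlyGE n] [S.X₃.IsStrictlyGE n] :
    ∃ (T : ShortComplex (CochainComplex A ℤ)) (φ : S ⟶ T), T.ShortExact ∧
      T.X₁.IsStrictlyGE n ∧ T.X₂.IsStrictlyGE n ∧ T.X₃.IsStrictlyGE n ∧
      (∀ k : ℤ, Injective (T.X₁.X k) ∧ Injective (T.X₂.X k) ∧ Injective (T.X₃.X k)) ∧
      QuasiIso φ.τ₁ ∧ QuasiIso φ.τ₂ ∧ QuasiIso φ.τ₃ := by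
  have : HasDerivedCategory A := MorphismProperty.HasLocalization.standard _
  obtain ⟨I₃, i₃, hi₃, hI₃, hI₃'⟩ :=
    CochainComplex.Plus.modelCategoryQuillen.exists_quasiIso_injective S.X₃ n
  have : S.X₂.IsStrictlyGE ((n - 1) + 1) := by rw [sub_add_cancel]; infer_instance
  have : I₃.IsStrictlyGE (n - 1) := I₃.isStrictlyGE_of_ge (n - 1) n (by lia)
  obtain ⟨K', hK', ι, π, _, hι, hπ, fac⟩ :=
    CochainComplex.Plus.modelCategoryQuillen.cm5a (S.g ≫ i₃) (n - 1)
  have hK'inj : ∀ k, Injective (K'.X k) := by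
    intro k
    obtain ⟨J, hJ, f, w, ⟨σ⟩⟩ := (Abelian.epiWithInjectiveKernel_iff _).1 (hπ k)
    exact Injective.of_iso σ.isoBinaryBiproduct.symm
      (by dsimp; infer_instance)
  have : K'.IsGE n := by
    have hK : S.X₂.IsGE n := inferInstance
    rw [← DerivedCategory.isGE_Q_obj_iff] at hK ⊢
    exact DerivedCategory.TStructure.t.isGE_of_iso (asIso (DerivedCategory.Q.map ι)) n
  have : QuasiIso (K'.πTruncGE n) := (K'.quasiIso_πTruncGE_iff n).mpr inferInstance
  have : Injective (K'.opcycles n) :=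
    K'.injective_opcycles (n - 1) n (K'.exactAt_of_isGE n (n - 1))
  have hTinj : ∀ q, Injective ((K'.truncGE n).X q) := by
    intro q
    obtain h | rfl | h := lt_trichotomy q n
    · exact (CochainComplex.isZero_of_isStrictlyGE _ n _ h).injective
    · exact Injective.of_iso (K'.truncGEXIsoOpcycles q).symm inferInstance
    · exact Injective.of_iso (K'.truncGEXIso n q h).symm (hK'inj q)
  let p : K'.truncGE n ⟶ I₃ := CochainComplex.truncGEMap π n ≫ inv (I₃.πTruncGE n)
  have hp : K'.πTruncGE n ≫ p = π := by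
    simp only [p, ← Category.assoc, CochainComplex.πTruncGE_naturality, IsIso.comp_inv_eq]
  have hsp : ∀ k, ∃ s : I₃.X k ⟶ (K'.truncGE n).X k, s ≫ p.f k = 𝟙 _ := by
    intro k
    obtain ⟨J, hJ, f, w, ⟨σ⟩⟩ := (Abelian.epiWithInjectiveKernel_iff _).1 (hπ k)
    refine ⟨σ.s ≫ (K'.πTruncGE n).f k, ?_⟩
    rw [Category.assoc, ← HomologicalComplex.comp_f, hp]
    exact σ.s_g
  have hpepi : Epi p := HomologicalComplex.epi_of_epi_f p (fun k ↦ by
    obtain ⟨s, hs⟩ := hsp k
    exact epi_of_epi_fac hs)
  let T : ShortComplex (CochainComplex A ℤ) := ShortComplex.mk (kernel.ι p) p (kernel.condition p)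
  have hT : T.ShortExact :=
    { exact := ShortComplex.exact_of_f_is_kernel _ (kernelIsKernel p) }
  let φ : S ⟶ T :=
    { τ₁ := kernel.lift p (S.f ≫ ι ≫ K'.πTruncGE n) (by
        rw [Category.assoc, Category.assoc, hp, fac, S.zero_assoc, zero_comp])
      τ₂ := ι ≫ K'.πTruncGE n
      τ₃ := i₃
      comm₁₂ := by simp [T]
      comm₂₃ := by simp [T, hp, fac] }
  have h₂ : QuasiIso φ.τ₂ := by dsimp [φ]; infer_instance
  have h₃ : QuasiIso φ.τ₃ := hi₃
  refine ⟨T, φ, hT, ?_, inferInstanceAs ((K'.truncGE n).IsStrictlyGE n), hI₃', ?_,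
    Cohder.HomSeqTau1.quasiIso_τ₁ φ hS hT h₂ h₃, h₂, h₃⟩
  · rw [CochainComplex.isStrictlyGE_iff]
    intro i hi
    have hz := (K'.truncGE n).isZero_of_isStrictlyGE n i hi
    have : Mono ((kernel.ι p).f i) := inferInstance
    exact IsZero.of_mono ((kernel.ι p).f i) hz
  · intro k
    obtain ⟨s, hs⟩ := hsp k
    have := hTinj k
    exact ⟨injective_kernel_X p k s hs, this, hI₃ k⟩

end Groth.Agent.S1123
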