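import Groth.Statements.S1124
import Groth.Agent.Desc.ImmersionDescent
-- import your own Groth.Agent.* helpers here

set_option autoImplicit false
open CategoryTheory CategoryTheory.Limits AlgebraicGeometry Opposite
universe u
open Desc

namespace Groth.Agent.S1124

/-- Stacks Tag 02L8. If the base change of a morphism along a quasi-compact flat surjective morphism is a quasi-compact immersion, then so is the morphism itself. (Stated for a single quasi-compact flat surjective base change; with Zariski-locality on the target this is the fpqc-local statement of the source.) -/
theorem result :
    MorphismProperty.DescendsAlong (@IsImmersion ⊓ @QuasiCompact : MorphismProperty Scheme.{u})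
      (@Surjective ⊓ @Flat ⊓ @QuasiCompact : MorphismProperty Scheme.{u}) := by
  exact Groth.Agent.Desc.ImmersionDescent.descendsAlong_qcImmersion

end Groth.Agent.S1124
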