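import Groth.Statements.S1130
import Groth.Agent.Sga3C.QCDesc
import Groth.Agent.Desc.QCClass

set_option autoImplicit false
open CategoryTheory CategoryTheory.Limits AlgebraicGeometry Opposite
universe u
open Desc

namespace Groth.Agent.S1130

/-- Stacks Tag 023T (effectivity part). Let f i : X i ⟶ S be an fpqc covering family (a family in Mathlib's fpqc precoverage: flat, and jointly surjective from finitely many quasi-compact pieces over each affine open). Every descent datum relative to this family whose modules are all quasi-coherent is isomorphic to the canonical descent datum of some quasi-coherent O_S-module. -/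
theorem result {ι : Type u} {S : Scheme.{u}} {X : ι → Scheme.{u}}
    (f : ∀ i, X i ⟶ S) (hf : Presieve.ofArrows X f ∈ Scheme.fpqcPrecoverage S)
    (D : Desc.modPF.{u}.DescentData f) (hD : ∀ i, (D.obj i : (X i).Modules).IsQuasicoherent) :
    ∃ M : S.Modules, M.IsQuasicoherent ∧ Nonempty ((Desc.modPF.{u}.toDescentData f).obj M ≅ D) := by
  exact Groth.Agent.Sga3C.QCDesc.effective Groth.Agent.Desc.QCClass.qcClass
    (fun _ _ => Iff.rfl) f hf D hD

end Groth.Agent.S1130
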