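import Groth.Statements.S1135
import Groth.Agent.Pi1C.PuncGeneral
import Groth.Agent.Pi1C.MLiftLC
import Groth.Agent.Pi1A.ClopenCrit
import Groth.Agent.S0521

set_option autoImplicit false
universe u
open Pi1

namespace Groth.Agent.S1135

section

open AlgebraicGeometry CategoryTheory CategoryTheory.Limits
open Groth.Agent.Pi1C.MLift Groth.Agent.Pi1C.PuncturedSections
open Groth.Agent.Pi1C.PuncSpec Groth.Agent.Pi1C.PuncCover

lemma isPunc_puncturedSpec (A : Type u) [CommRing A] [IsLocalRing A] :
    IsPunc (IsLocalRing.maximalIdeal A) (FEt.puncturedSpec A) := by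
  constructor
  · intro g hg x hx h
    have h1 : (x : PrimeSpectrum A) = IsLocalRing.closedPoint A := h
    apply hx
    change g ∈ (x : PrimeSpectrum A).asIdeal
    rw [h1]
    exact hg
  · intro x hx
    by_contra hcon
    push Not at hcon
    apply hx
    change (x : PrimeSpectrum A) = IsLocalRing.closedPoint A
    apply PrimeSpectrum.ext
    have h1 : IsLocalRing.maximalIdeal A ≤ (x : PrimeSpectrum A).asIdeal := by
      intro g hg
      have h2 := hcon g hg
      rw [mem_DD, not_not] at h2
      exact h2
    exact ((IsLocalRing.maximalIdeal.isMaximal A).eq_of_le (x : PrimeSpectrum A).2.ne_top h1).symm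

theorem main (A : Type u) [CommRing A] [IsNoetherianRing A] [IsLocalRing A] (f : A)
    (hf : f ∈ IsLocalRing.maximalIdeal A) {c c' : ℕ}
    (h1 : H1Cond (IsLocalRing.maximalIdeal A) f c A)
    (h2 : H2Cond (IsLocalRing.maximalIdeal A) f c' A)
    (hlift : IdemLift A (Ideal.span {f})) :
    (FEt.restrict (pullback.fst (FEt.puncturedSpec A).ι (Spec.map (CommRingCat.ofHom
      (Ideal.Quotient.mk (Ideal.span {f})))))).Full ∧
    (FEt.restrict (pullback.fst (FEt.puncturedSpec A).ι (Spec.map (CommRingCat.ofHom
      (Ideal.Quotient.mk (Ideal.span {f})))))).Faithful := by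
  set U := FEt.puncturedSpec A with hUdef
  set μ : CommRingCat.of A ⟶ CommRingCat.of (A ⧸ Ideal.span {f}) :=
    CommRingCat.ofHom (Ideal.Quotient.mk (Ideal.span {f})) with hμ
  have hμcl : IsClosedImmersion (Spec.map μ) :=
    IsClosedImmersion.spec_of_surjective _ Ideal.Quotient.mk_surjective
  have hU : IsPunc (IsLocalRing.maximalIdeal A) U := isPunc_puncturedSpec A
  have hrange : ∀ (T : FEt.Cat U.toScheme) (x : T.left),
      (T.hom ≫ U.ι) x ∉ DD (A := CommRingCat.of A) f ↔
        x ∈ Set.range (pullback.fst T.hom (pullback.fst U.ι (Spec.map μ))) := by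
    intro T x
    rw [Scheme.Pullback.range_fst, Set.mem_preimage, Scheme.Pullback.range_fst, Set.mem_preimage,
      ← Scheme.Hom.comp_apply]
    have h4 : Set.range (Spec.map μ) = PrimeSpectrum.zeroLocus (Ideal.span {f} : Set A) := by
      have := range_comap_of_surjective (A ⧸ Ideal.span {f}) (Ideal.Quotient.mk (Ideal.span {f}))
        Ideal.Quotient.mk_surjective
      rw [Ideal.mk_ker] at this
      exact this
    rw [h4, mem_DD, not_not]
    change _ ↔ (Ideal.span {f} : Set A) ⊆ _
    rw [SetLike.coe_subset_coe, Ideal.span_singleton_le_iff_mem]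
  apply Groth.Agent.Pi1A.ClopenCrit.restrict_fullyFaithful_of_isClopen
  · intro T C hC hCe
    have hT : IsFinite T.hom := T.prop.1
    have hT2 : Etale T.hom := T.prop.2
    refine (general_case hf h1 h2 hlift hU T.hom).1 C hC ?_
    intro x hx
    by_contra hcon
    obtain ⟨y, rfl⟩ := (hrange T x).1 hcon
    have : y ∈ (pullback.fst T.hom (pullback.fst U.ι (Spec.map μ))) ⁻¹' C := hx
    rw [hCe] at this
    exact this
  · intro T Z hZ
    have hT : IsFinite T.hom := T.prop.1
    have hT2 : Etale T.hom := T.prop.2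
    set q := pullback.fst T.hom (pullback.fst U.ι (Spec.map μ)) with hq
    have hqcl : IsClosedImmersion q := inferInstance
    have hinj : Function.Injective q := q.isClosedEmbedding.injective
    have hcl : IsClosedMap q := q.isClosedEmbedding.isClosedMap
    obtain ⟨C, hC, hCZ⟩ := (general_case hf h1 h2 hlift hU T.hom).2 (q '' Z) (q '' Zᶜ)
      (hcl _ hZ.1) (hcl _ hZ.2.isClosed_compl) (by
        intro x hx
        obtain ⟨y, rfl⟩ := (hrange T x).1 hx
        rw [← hq, hinj.mem_set_image, hinj.mem_set_image, Set.mem_compl_iff, not_not])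
    refine ⟨C, hC, ?_⟩
    ext y
    rw [Set.mem_preimage, hCZ _ ((hrange T _).2 ⟨y, rfl⟩), hinj.mem_set_image]

end

open AlgebraicGeometry CategoryTheory CategoryTheory.Limits in
/-- Stacks Tag 0BM6. Let A be a Noetherian local ring and f an element of the maximal ideal such that some power of f kills both local cohomology modules H^1_m(A), H^2_m(A), and such that (A, (f)) is a henselian pair. Then restricting finite etale covers from the punctured spectrum of A to the punctured spectrum of A/fA is fully faithful. -/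
theorem result (A : Type u) [CommRing A] [IsNoetherianRing A] [IsLocalRing A] (f : A) (hf : f ∈ IsLocalRing.maximalIdeal A)
    (h1 : (∃ n : ℕ, ∀ x : LocCoh.H (IsLocalRing.maximalIdeal A) 1 A, (f ^ n) • x = 0)) (h2 : (∃ n : ℕ, ∀ x : LocCoh.H (IsLocalRing.maximalIdeal A) 2 A, (f ^ n) • x = 0)) [HenselianRing A (Ideal.span {f})] :
    (FEt.restrict (pullback.fst (FEt.puncturedSpec A).ι (Spec.map (CommRingCat.ofHom (Ideal.Quotient.mk (Ideal.span {f})))))).Full ∧ (FEt.restrict (pullback.fst (FEt.puncturedSpec A).ι (Spec.map (CommRingCat.ofHom (Ideal.Quotient.mk (Ideal.span {f})))))).Faithful := by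
  obtain ⟨c, hc⟩ := h1
  obtain ⟨c', hc'⟩ := h2
  exact main A f hf (Groth.Agent.Pi1C.MLift.H1Cond_of_locCoh hc)
    (Groth.Agent.Pi1C.MLift.H2Cond_of_locCoh hc')
    ((Groth.Agent.S0521.result A (Ideal.span {f})).1 inferInstance)

end Groth.Agent.S1135
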