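import Groth.Statements.S1136
import Groth.Agent.S1135
import Groth.Agent.Pi1C.ExtHyper364
-- import your own Groth.Agent.* helpers here

set_option autoImplicit false
universe u
open Pi1

namespace Groth.Agent.S1136

open AlgebraicGeometry CategoryTheory CategoryTheory.Limits in
/-- Stacks Tag 0BLS. Let A be a Noetherian local ring and f an element of the maximal ideal such that some power of f kills both local cohomology modules H^1_m(A), H^2_m(A). Let V be a finite etale cover of the punctured spectrum U of A whose restriction to the punctured spectrum of A/fA is the restriction of a finite etale cover of Spec(A/fA). Then V is the restriction of a finite etale cover of Spec A. -/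
theorem result (A : Type u) [CommRing A] [IsNoetherianRing A] [IsLocalRing A] (f : A) (hf : f ∈ IsLocalRing.maximalIdeal A)
    (h1 : (∃ n : ℕ, ∀ x : LocCoh.H (IsLocalRing.maximalIdeal A) 1 A, (f ^ n) • x = 0)) (h2 : (∃ n : ℕ, ∀ x : LocCoh.H (IsLocalRing.maximalIdeal A) 2 A, (f ^ n) • x = 0)) (V : FEt.Cat (FEt.puncturedSpec A : Scheme.{u}))
    (hV : (∃ Y₀ : FEt.Cat (Spec (CommRingCat.of (A ⧸ Ideal.span {f}))),
      Nonempty ((FEt.restrict (pullback.snd (FEt.puncturedSpec A).ι (Spec.map (CommRingCat.ofHom (Ideal.Quotient.mk (Ideal.span {f})))))).obj Y₀ ≅ (FEt.restrict (pullback.fst (FEt.puncturedSpec A).ι (Spec.map (CommRingCat.ofHom (Ideal.Quotient.mk (Ideal.span {f})))))).obj V))) :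
    ∃ Y : FEt.Cat (Spec (CommRingCat.of A)), Nonempty ((FEt.restrict (FEt.puncturedSpec A).ι).obj Y ≅ V) := by
  rw [Groth.Agent.S0262.result]
  let B := AdicCompletion (IsLocalRing.maximalIdeal A) A
  have hN : IsNoetherianRing B := Groth.Agent.Ega4A.CompleteNoeth.isNoetherianRing_adicCompletion _
  have hC : IsAdicComplete (IsLocalRing.maximalIdeal B) B := inferInstance
  have hH : HenselianLocalRing B :=
    Groth.Agent.Pi1A.LefExt.henselianLocalRing_of_isAdicComplete B
  have hφ : (IsLocalRing.maximalIdeal A).map (algebraMap A B) = IsLocalRing.maximalIdeal B :=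
    (AdicCompletion.maximalIdeal_eq_map).symm
  have hf' : algebraMap A B f ∈ IsLocalRing.maximalIdeal B := by
    rw [← hφ]; exact Ideal.mem_map_of_mem _ hf
  have hhens : HenselianRing B (Ideal.span {algebraMap A B f}) :=
    Groth.Agent.Pi1A.LefExt.henselianRing_of_le _ (by
      rw [Ideal.span_singleton_le_iff_mem]; exact hf')
  obtain ⟨n, hn⟩ := h1
  obtain ⟨m, hm⟩ := h2
  have hFF := Groth.Agent.S1135.result B (algebraMap A B f) hf'
    ⟨n, fun x => by
      rw [← map_pow]
      exact Groth.Agent.Pi1C.ExtHyper364.torsion_of_flat A B _ _ hφ 1 _ hn x⟩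
    ⟨m, fun x => by
      rw [← map_pow]
      exact Groth.Agent.Pi1C.ExtHyper364.torsion_of_flat A B _ _ hφ 2 _ hm x⟩
  exact Groth.Agent.Pi1C.ExtHyper364.exists_extension A B hφ f hf hFF V hV

end Groth.Agent.S1136
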