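import Groth.Statements.S1137
import Groth.Agent.Pi1C.HyperCompl
import Groth.Agent.Pi1C.IdemCrit
import Groth.Agent.S0521

set_option autoImplicit false
universe u
open Pi1

namespace Groth.Agent.S1137

section

open AlgebraicGeometry CategoryTheory CategoryTheory.Limits

/-- The square relating the two base changes of `V`. -/
theorem isPullback_cube {U U₀ U' V : Scheme.{u}} (v : V ⟶ U) (i : U₀ ⟶ U) (p : U' ⟶ U) :
    IsPullback
      (pullback.lift (pullback.fst (pullback.snd v p) (pullback.fst p i) ≫ pullback.fst v p)
        (pullback.snd (pullback.snd v p) (pullback.fst p i) ≫ pullback.snd p i)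
        (by
          rw [Category.assoc, Category.assoc, ← pullback.condition (f := p), pullback.condition (f := v),
            pullback.condition_assoc]) :
        pullback (pullback.snd v p) (pullback.fst p i) ⟶ pullback v i)
      (pullback.fst (pullback.snd v p) (pullback.fst p i)) (pullback.fst v i) (pullback.fst v p) := by
  have hA := (IsPullback.of_hasPullback (pullback.snd v p) (pullback.fst p i)).flip
  have hB := (IsPullback.of_hasPullback p i).flip
  have hC := (IsPullback.of_hasPullback v i).flip
  have hAB := hA.paste_horiz hB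
  refine IsPullback.of_right (t := hC) (h₁₂ := pullback.snd v i) (h₂₂ := v) (v₁₃ := i) ?_ ?_
  · rw [pullback.lift_snd, pullback.condition]
    exact hAB
  · rw [pullback.lift_fst]

theorem dense_completion (A : Type u) [CommRing A] [IsNoetherianRing A] [IsLocalRing A] :
    Groth.Agent.Pi1C.DenseDescent.Dense (IsLocalRing.maximalIdeal A)
      (AdicCompletion (IsLocalRing.maximalIdeal A) A) :=
  Groth.Agent.Pi1C.DenseDescent.dense_adicCompletion _ (IsNoetherian.noetherian _)

end

open AlgebraicGeometry CategoryTheory CategoryTheory.Limits in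
/-- Stacks Tag 0BLI. Let A be a Noetherian local ring, f an element of the maximal ideal with (A, (f)) a henselian pair, and A' the adic completion of A. Let U and U₀ be the punctured spectra of A and of A/fA, and U', U'₀ their base changes along Spec A' ⟶ Spec A. If restriction of finite etale covers from U' to U'₀ is fully faithful, then restriction from U to U₀ is fully faithful. -/
theorem result (A : Type u) [CommRing A] [IsNoetherianRing A] [IsLocalRing A] (f : A) (hf : f ∈ IsLocalRing.maximalIdeal A) [HenselianRing A (Ideal.span {f})]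
    (h : (FEt.restrict (pullback.fst (pullback.fst (FEt.puncturedSpec A).ι (Spec.map (CommRingCat.ofHom (algebraMap A (AdicCompletion (IsLocalRing.maximalIdeal A) A))))) (pullback.fst (FEt.puncturedSpec A).ι (Spec.map (CommRingCat.ofHom (Ideal.Quotient.mk (Ideal.span {f}))))))).Full ∧ (FEt.restrict (pullback.fst (pullback.fst (FEt.puncturedSpec A).ι (Spec.map (CommRingCat.ofHom (algebraMap A (AdicCompletion (IsLocalRing.maximalIdeal A) A))))) (pullback.fst (FEt.puncturedSpec A).ι (Spec.map (CommRingCat.ofHom (Ideal.Quotient.mk (Ideal.span {f}))))))).Faithful) :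
    (FEt.restrict (pullback.fst (FEt.puncturedSpec A).ι (Spec.map (CommRingCat.ofHom (Ideal.Quotient.mk (Ideal.span {f})))))).Full ∧ (FEt.restrict (pullback.fst (FEt.puncturedSpec A).ι (Spec.map (CommRingCat.ofHom (Ideal.Quotient.mk (Ideal.span {f})))))).Faithful := by
  have hflat : Module.Flat A (AdicCompletion (IsLocalRing.maximalIdeal A) A) := inferInstance
  have hff : Module.FaithfullyFlat A (AdicCompletion (IsLocalRing.maximalIdeal A) A) :=
    Module.FaithfullyFlat.of_flat_of_isLocalHom
  have hlift : ∀ (C : Type u) [CommRing C] [Algebra A C], Module.Finite A C → ∀ e : C,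
      e * e - e ∈ Ideal.span {algebraMap A C f} →
      ∃ e' : C, IsIdempotentElem e' ∧ e' - e ∈ Ideal.span {algebraMap A C f} := by
    intro C _ _ hC e he
    have h1 := (Groth.Agent.S0521.result A (Ideal.span {f})).1 inferInstance C hC
    rw [Ideal.map_span, Set.image_singleton] at h1
    obtain ⟨e', he', he''⟩ := h1.surjOn (show Ideal.Quotient.mk _ e ∈ {e | IsIdempotentElem e} by
      change _ * _ = _
      rw [← map_mul, Ideal.Quotient.eq]
      exact he)
    exact ⟨e', he', by rw [← Ideal.Quotient.eq]; exact he''⟩
  have hfull := h.1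
  have hfaith := h.2
  have key := fun (T : FEt.Cat (FEt.puncturedSpec A : Scheme.{u})) =>
    have : IsFinite T.hom := T.prop.1
    Groth.Agent.Pi1C.HyperCompl.core A (AdicCompletion (IsLocalRing.maximalIdeal A) A)
      (dense_completion A) f hlift T.hom
      (pullback.fst T.hom (pullback.fst (FEt.puncturedSpec A).ι (Spec.map (CommRingCat.ofHom (Ideal.Quotient.mk (Ideal.span {f}))))))
      _ ((IsPullback.of_hasPullback T.hom _).paste_vert (IsPullback.of_hasPullback (FEt.puncturedSpec A).ι
        (Spec.map (CommRingCat.ofHom (Ideal.Quotient.mk (Ideal.span {f}))))))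
      _ _ ((IsPullback.of_hasPullback T.hom _).paste_vert (IsPullback.of_hasPullback (FEt.puncturedSpec A).ι
        (Spec.map (CommRingCat.ofHom (algebraMap A (AdicCompletion (IsLocalRing.maximalIdeal A) A))))))
      _ _ (isPullback_cube T.hom _ _)
      (fun e he h0 => Groth.Agent.Pi1C.IdemCrit.idem_eq_of_faithful _ ((FEt.restrict _).obj T) e 0 he (mul_zero _)
        (by rw [map_zero]; exact h0))
      (fun e he => Groth.Agent.Pi1C.IdemCrit.exists_idem_of_full _ ((FEt.restrict _).obj T) e he)
  exact Groth.Agent.Pi1C.IdemCrit.restrict_fullyFaithful_of_idem _ (fun T e he h0 => (key T).1 e he h0)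
    (fun T e he => (key T).2 e he)

end Groth.Agent.S1137
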