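import Groth.Statements.S1138
import Groth.Agent.Pi1C.PuncturedSections2
import Groth.Agent.Pi1C.CompletionGlue

set_option autoImplicit false
universe u
open Pi1

namespace Groth.Agent.S1138

open AlgebraicGeometry CategoryTheory CategoryTheory.Limits
open Groth.Agent.Pi1C.PuncturedSections Groth.Agent.Pi1C.CompletionGlue TensorProduct

/-- The geometric core, in terms of `IsPullback` squares, for a faithfully flat `A → A'` with
`A → A'/I^n A'` surjective and `U` the complement of `V(I)`. -/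
theorem core (A A' : Type u) [CommRing A] [CommRing A'] [Algebra A A'] [Module.FaithfullyFlat A A']
    (I : Ideal A) (hfg : I.FG)
    (hI : ∀ (n : ℕ) (x : A'), ∃ a : A, x - algebraMap A A' a ∈ (I ^ n).map (algebraMap A A'))
    (U : (Spec (CommRingCat.of A)).Opens) (hUc : CompactSpace U)
    (hU : ∀ s : A, s ∈ I ↔ DD (A := CommRingCat.of A) s ≤ U)
    {V P V' Y' : Scheme.{u}} (v : V ⟶ U) [IsFinite v]
    (y' : Y' ⟶ Spec (CommRingCat.of A')) [IsFinite y']
    (p₁ : P ⟶ U) (p₂ : P ⟶ Spec (CommRingCat.of A'))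
    (hP : IsPullback p₁ p₂ U.ι (Spec.map (CommRingCat.ofHom (algebraMap A A'))))
    (a : V' ⟶ V) (b : V' ⟶ P) (hV : IsPullback a b v p₁)
    (c : V' ⟶ Y') (hY : IsPullback c b y' p₂) :
    ∃ (B : Type u) (_ : CommRing B) (_ : Algebra A B) (_ : Module.Finite A B)
      (g : V ⟶ Spec (CommRingCat.of B)) (g' : Y' ⟶ Spec (CommRingCat.of B)),
      IsPullback g v (Spec.map (CommRingCat.ofHom (algebraMap A B))) U.ι ∧
      IsPullback g' y' (Spec.map (CommRingCat.ofHom (algebraMap A B)))
        (Spec.map (CommRingCat.ofHom (algebraMap A A'))) := by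
  let α : CommRingCat.of A ⟶ CommRingCat.of A' := CommRingCat.ofHom (algebraMap A A')
  have hflat : Flat (Spec.map α) := by
    rw [Flat.SpecMap_iff]
    exact RingHom.flat_algebraMap_iff.mpr inferInstance
  have hVc : CompactSpace V := QuasiCompact.compactSpace_of_compactSpace v
  have hVs : V.IsSeparated := by
    have h1 : (v ≫ U.ι ≫ terminal.from _) = terminal.from V := Subsingleton.elim _ _
    exact ⟨by rw [← h1]; infer_instance⟩
  have hYaff : IsAffine Y' := isAffine_of_isAffineHom y'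
  have big : IsPullback a (b ≫ p₂) (v ≫ U.ι) (Spec.map α) := hV.paste_vert hP
  have bigY : IsPullback c (b ≫ p₁) (y' ≫ Spec.map α) U.ι := hY.paste_vert hP.flip
  have hcopen : IsOpenImmersion c := MorphismProperty.of_isPullback bigY.flip inferInstance
  have haaff : IsAffineHom a := by
    have : IsAffineHom (Spec.map α) := inferInstance
    exact MorphismProperty.of_isPullback big.flip this
  have hV'c : CompactSpace V' := QuasiCompact.compactSpace_of_compactSpace a
  have hV's : V'.IsSeparated := by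
    have h1 : (a ≫ terminal.from _) = terminal.from V' := Subsingleton.elim _ _
    exact ⟨by rw [← h1]; infer_instance⟩
  -- the rings
  let γ : CommRingCat.of A ⟶ Γ(V, ⊤) := (Scheme.ΓSpecIso _).inv ≫ (v ≫ U.ι).appTop
  let β : CommRingCat.of A' ⟶ Γ(Y', ⊤) := (Scheme.ΓSpecIso _).inv ≫ y'.appTop
  let γ' : CommRingCat.of A' ⟶ Γ(V', ⊤) := (Scheme.ΓSpecIso _).inv ≫ (b ≫ p₂).appTop
  have hpo : IsPushout γ α a.appTop γ' := isPushout_sections α (v ≫ U.ι) a (b ≫ p₂) big
  have hβγ : β ≫ c.appTop = γ' := by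
    simp only [β, γ', Category.assoc, ← Scheme.Hom.comp_appTop, hY.w]
  let _ : Algebra A Γ(V, ⊤) := γ.hom.toAlgebra
  let _ : Algebra A' Γ(Y', ⊤) := β.hom.toAlgebra
  let _ : Algebra A' Γ(V', ⊤) := γ'.hom.toAlgebra
  let _ : Algebra Γ(V, ⊤) Γ(V', ⊤) := a.appTop.hom.toAlgebra
  let _ : Algebra A Γ(Y', ⊤) := (α ≫ β).hom.toAlgebra
  let _ : Algebra A Γ(V', ⊤) := (α ≫ γ').hom.toAlgebra
  have _ : IsScalarTower A A' Γ(Y', ⊤) := .of_algebraMap_eq (fun _ => rfl)
  have _ : IsScalarTower A A' Γ(V', ⊤) := .of_algebraMap_eq (fun _ => rfl)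
  have _ : IsScalarTower A Γ(V, ⊤) Γ(V', ⊤) := .of_algebraMap_eq (fun x => congr($(hpo.w.symm) x))
  have _ : Algebra.IsPushout A A' Γ(V, ⊤) Γ(V', ⊤) := by
    rw [← CommRingCat.isPushout_iff_isPushout]
    exact hpo.flip
  have hfin : Module.Finite A' Γ(Y', ⊤) := by
    have h1 : (y'.appTop).hom.Finite := IsFinite.finite_app (f := y') ⊤ (isAffineOpen_top _)
    have h2 : (Scheme.ΓSpecIso (CommRingCat.of A')).inv.hom.Finite :=
      RingHom.Finite.of_surjective _
        (ConcreteCategory.bijective_of_isIso (Scheme.ΓSpecIso (CommRingCat.of A')).inv).2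
    exact (h1.comp h2 : β.hom.Finite)
  let φ : Γ(Y', ⊤) →ₐ[A'] Γ(V', ⊤) :=
    { c.appTop.hom with commutes' := fun x => congr($hβγ x) }
  have hφ : ∀ x, φ x = c.appTop x := fun _ => rfl
  have hDD : ∀ s ∈ I, IsIso (c.app (Y'.basicOpen (β (α s)))) := by
    intro s hs
    apply c.isIso_app
    have h1 := IsOpenImmersion.image_preimage_eq_preimage_image_of_isPullback bigY.flip ⊤
    have h2 : Y'.basicOpen (β (α s)) = (y' ≫ Spec.map α) ⁻¹ᵁ (DD (A := CommRingCat.of A) s) := by
      have h3 : y' = Y'.toSpecΓ ≫ Spec.map β := by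
        simp only [β, Spec.map_comp, ← Scheme.toSpecΓ_naturality_assoc]
        simp
      rw [Scheme.Hom.comp_preimage, preimage_DD]
      conv_rhs => rw [h3]
      rw [Scheme.Hom.comp_preimage, preimage_DD, toSpecΓ_preimage_DD]
    rw [h2]
    have h4 : c.opensRange = c ''ᵁ (b ≫ p₁) ⁻¹ᵁ ⊤ := by
      ext x; simp
    rw [h4, h1]
    have h5 : DD (A := CommRingCat.of A) s ≤ U.ι ''ᵁ ⊤ := by
      simpa using (hU s).1 hs
    exact fun x hx => h5 hx
  have hK : ∀ x : Γ(Y', ⊤), φ x = 0 → ∃ n : ℕ, ∀ a ∈ I ^ n, a • x = 0 := by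
    intro x hx
    refine exists_pow_smul_eq_zero I hfg x fun s hs => ?_
    obtain ⟨n, hn⟩ := exists_pow_mul_eq_zero_of_isIso_app c (β (α s)) (hDD s hs) x hx
    refine ⟨n, ?_⟩
    rw [Algebra.smul_def, map_pow]
    exact hn
  have hT : ∀ y : Γ(V', ⊤), ∃ n : ℕ, ∀ a ∈ I ^ n, ∃ x : Γ(Y', ⊤), φ x = a • y := by
    intro y
    refine exists_pow_smul_mem I hfg (LinearMap.range (φ.restrictScalars A).toLinearMap) y
      fun s hs => ?_
    obtain ⟨n, x, hx⟩ := exists_pow_mul_eq_of_isIso_app c (β (α s)) (hDD s hs) y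
    refine ⟨n, x, ?_⟩
    rw [Algebra.smul_def, map_pow]
    refine hx.trans ?_
    have h3 : c.appTop (β (α s)) = algebraMap A Γ(V', ⊤) s := congr($hβγ (α s))
    rw [h3]
  have hfinB := finite_glued (A := A) (C := Γ(V, ⊤)) I hI φ hK hT
  refine ⟨glued (A := A) (C := Γ(V, ⊤)) φ, inferInstance, inferInstance, hfinB,
    V.toSpecΓ ≫ Spec.map (CommRingCat.ofHom (gluedSnd (A := A) (C := Γ(V, ⊤)) φ).toRingHom),
    Y'.toSpecΓ ≫ Spec.map (CommRingCat.ofHom (gluedFst (A := A) (C := Γ(V, ⊤)) φ).toRingHom),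
    ?_, ?_⟩
  · have h6 : V.toSpecΓ ≫ Spec.map γ = v ≫ U.ι := by
      simp only [γ, Spec.map_comp, ← Scheme.toSpecΓ_naturality_assoc]
      simp
    have h7 : ∀ {B : CommRingCat.{u}} (ψ : B ⟶ Γ(V, ⊤)),
        (Scheme.ΓSpecIso B).inv ≫ (V.toSpecΓ ≫ Spec.map ψ).appTop = ψ := by
      intro B ψ
      simp
    refine isPullback_of_localization _ v _ ?_ ?_ ?_
    · rw [Category.assoc, ← Spec.map_comp, ← h6]
      congr 2
    · intro s hs x hx
      rw [h7] at hx
      obtain ⟨n, hn⟩ := gluedSnd_ker I φ hK x hx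
      refine ⟨n, ?_⟩
      have := hn (s ^ n) (Ideal.pow_mem_pow ((hU s).2 hs) n)
      rw [Algebra.smul_def, map_pow] at this
      exact this
    · intro s hs y
      rw [h7]
      obtain ⟨n, hn⟩ := gluedSnd_coker (A := A) I φ hT y
      obtain ⟨x, hx⟩ := hn (s ^ n) (Ideal.pow_mem_pow ((hU s).2 hs) n)
      refine ⟨n, x, ?_⟩
      rw [Algebra.smul_def, map_pow] at hx
      exact hx
  · have h8 : Y'.toSpecΓ ≫ Spec.map β = y' := by
      simp only [β, Spec.map_comp, ← Scheme.toSpecΓ_naturality_assoc]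
      simp
    let _ : Algebra (glued (A := A) (C := Γ(V, ⊤)) φ) Γ(Y', ⊤) :=
      (gluedFst (A := A) (C := Γ(V, ⊤)) φ).toRingHom.toAlgebra
    have _ : IsScalarTower A (glued (A := A) (C := Γ(V, ⊤)) φ) Γ(Y', ⊤) :=
      .of_algebraMap_eq fun x => ((gluedFst (A := A) (C := Γ(V, ⊤)) φ).commutes x).symm
    have h9 : Algebra.IsPushout A A' (glued (A := A) (C := Γ(V, ⊤)) φ) Γ(Y', ⊤) := by
      refine ⟨IsBaseChange.of_equiv (AlgEquiv.ofBijective _
        (gluedComparison_bijective (A := A) (C := Γ(V, ⊤)) I hI φ hK hT)).toLinearEquiv ?_⟩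
      intro x
      change gluedComparison (A := A) (C := Γ(V, ⊤)) φ (1 ⊗ₜ x) = _
      simp [gluedComparison]
      rfl
    have h10 := CommRingCat.isPushout_iff_isPushout.mpr h9.symm
    refine IsPullback.of_iso (h10.op.map Scheme.Spec).flip (asIso Y'.toSpecΓ).symm (Iso.refl _)
      (Iso.refl _) (Iso.refl _) ?_ ?_ ?_ ?_
    · simp
      rfl
    · simp only [Iso.symm_hom, asIso_inv, Iso.refl_hom, Category.comp_id, IsIso.eq_inv_comp]
      exact h8
    · simp
    · simp

open AlgebraicGeometry CategoryTheory CategoryTheory.Limits in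
/-- Stacks Tag 0BLH. Let A be a Noetherian local ring with completion A', U the punctured spectrum of A and U' its base change to X' = Spec A'. Let V ⟶ U be finite and let Y' ⟶ X' be finite with Y' ×_{X'} U' isomorphic to V ×_U U' over U'. Then there is a finite Y ⟶ Spec A with Y ×_X U isomorphic to V over U and Y ×_X X' isomorphic to Y' over X'. (The source also records that these isomorphisms are compatible over U'; this statement only asserts their existence.) -/
theorem result (A : Type u) [CommRing A] [IsNoetherianRing A] [IsLocalRing A]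
    (V : Over (FEt.puncturedSpec A : Scheme.{u})) [IsFinite V.hom]
    (Y' : Over (Spec (CommRingCat.of (AdicCompletion (IsLocalRing.maximalIdeal A) A)))) [IsFinite Y'.hom]
    (e : (Over.pullback (pullback.fst (FEt.puncturedSpec A).ι (Spec.map (CommRingCat.ofHom (algebraMap A (AdicCompletion (IsLocalRing.maximalIdeal A) A)))))).obj V ≅ (Over.pullback (pullback.snd (FEt.puncturedSpec A).ι (Spec.map (CommRingCat.ofHom (algebraMap A (AdicCompletion (IsLocalRing.maximalIdeal A) A)))))).obj Y') :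
    ∃ Y : Over (Spec (CommRingCat.of A)), IsFinite Y.hom ∧
      Nonempty ((Over.pullback (FEt.puncturedSpec A).ι).obj Y ≅ V) ∧
      Nonempty ((Over.pullback (Spec.map (CommRingCat.ofHom (algebraMap A (AdicCompletion (IsLocalRing.maximalIdeal A) A))))).obj Y ≅ Y') := by
  have hc : IsPullback (e.hom.left ≫ pullback.fst Y'.hom (pullback.snd (FEt.puncturedSpec A).ι
      (Spec.map (CommRingCat.ofHom (algebraMap A
        (AdicCompletion (IsLocalRing.maximalIdeal A) A))))))
      (pullback.snd V.hom (pullback.fst (FEt.puncturedSpec A).ι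
      (Spec.map (CommRingCat.ofHom (algebraMap A
        (AdicCompletion (IsLocalRing.maximalIdeal A) A)))))) Y'.hom
      (pullback.snd (FEt.puncturedSpec A).ι
      (Spec.map (CommRingCat.ofHom (algebraMap A
        (AdicCompletion (IsLocalRing.maximalIdeal A) A))))) := by
    have h1 := IsPullback.of_hasPullback Y'.hom (pullback.snd (FEt.puncturedSpec A).ι
      (Spec.map (CommRingCat.ofHom (algebraMap A
        (AdicCompletion (IsLocalRing.maximalIdeal A) A)))))
    refine IsPullback.of_iso h1 ((Over.forget _).mapIso e).symm (Iso.refl _) (Iso.refl _)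
      (Iso.refl _) ?_ ?_ (by simp) (by simp)
    · change _ = e.inv.left ≫ e.hom.left ≫ _
      rw [← Over.comp_left_assoc, e.inv_hom_id]
      simp
    · have := Over.w e.inv
      change _ = e.inv.left ≫ _
      simpa using this.symm
  have hUc : CompactSpace (FEt.puncturedSpec A) := by
    have h1 : IsCompact (FEt.puncturedSpec A : Set (Spec (CommRingCat.of A))) :=
      TopologicalSpace.NoetherianSpace.isCompact _
    exact isCompact_iff_compactSpace.mp h1
  have hU : ∀ s : A, s ∈ IsLocalRing.maximalIdeal A ↔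
      DD (A := CommRingCat.of A) s ≤ FEt.puncturedSpec A := by
    intro s
    constructor
    · rintro hs x hx rfl
      exact hx hs
    · intro h
      by_contra hs
      exact h (show IsLocalRing.closedPoint A ∈ DD (A := CommRingCat.of A) s from hs) rfl
  obtain ⟨B, _, _, _, g, g', h1, h2⟩ := core A (AdicCompletion (IsLocalRing.maximalIdeal A) A)
    (IsLocalRing.maximalIdeal A) (IsNoetherian.noetherian _) (exists_sub_algebraMap_mem A)
    (FEt.puncturedSpec A) hUc hU
    V.hom Y'.hom _ _ (IsPullback.of_hasPullback _ _) _ _ (IsPullback.of_hasPullback _ _) _ hc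
  refine ⟨Over.mk (Spec.map (CommRingCat.ofHom (algebraMap A B))), ?_, ⟨?_⟩, ⟨?_⟩⟩
  · simp only [Over.mk_hom, IsFinite.SpecMap_iff]
    exact RingHom.finite_algebraMap.mpr inferInstance
  · exact (Over.isoMk h1.isoPullback (by simp)).symm
  · exact (Over.isoMk h2.isoPullback (by simp)).symm

end Groth.Agent.S1138
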