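import Groth.Statements.S1139
import Groth.Agent.S1135
import Groth.Agent.Pi1C.DualTorsion

set_option autoImplicit false
universe u
attribute [local instance] HasDerivedCategory.standard
open Pi1

namespace Groth.Agent.S1139

open AlgebraicGeometry CategoryTheory CategoryTheory.Limits in
/-- Stacks Tag 0EK5. Let A be a Noetherian local ring with a dualizing complex, f an element of the maximal ideal with (A, (f)) a henselian pair, and assume either that the ring A_f satisfies (S_2) while all irreducible components of Spec A meeting the locus f ≠ 0 have dimension at least 3, or that depth(A_p) + dim(A/p) > 2 for every prime p not containing f. Then restricting finite etale covers from the punctured spectrum of A to the punctured spectrum of A/fA is fully faithful. -/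
theorem result (A : Type u) [CommRing A] [IsNoetherianRing A] [IsLocalRing A] (f : A) (hf : f ∈ IsLocalRing.maximalIdeal A) (hd : ∃ ω : Dual.D A, Dual.IsDualizing A ω)
    [HenselianRing A (Ideal.span {f})]
    (hc : ((LocCoh.HasSk 2 (Localization.Away f) (Localization.Away f) ∧
        ∀ p : Ideal A, p ∈ minimalPrimes A → f ∉ p → (3 : WithBot ℕ∞) ≤ ringKrullDim (A ⧸ p)) ∨
      (∀ p : Ideal A, ∀ _ : p.IsPrime, f ∉ p →
        (2 : WithBot ℕ∞) < (LocCoh.depth (Localization.AtPrime p) (Localization.AtPrime p) : WithBot ℕ∞) + ringKrullDim (A ⧸ p)))) :
    (FEt.restrict (pullback.fst (FEt.puncturedSpec A).ι (Spec.map (CommRingCat.ofHom (Ideal.Quotient.mk (Ideal.span {f})))))).Full ∧ (FEt.restrict (pullback.fst (FEt.puncturedSpec A).ι (Spec.map (CommRingCat.ofHom (Ideal.Quotient.mk (Ideal.span {f})))))).Faithful := by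
  have h := Groth.Agent.Pi1C.DualTorsion.torsion_of_dualizing hd f hf hc
  exact Groth.Agent.S1135.result A f hf h.1 h.2

end Groth.Agent.S1139
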