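import Groth.Statements.S1143
import Groth.Agent.Pi1C.SplitAlg
import Groth.Agent.Pi1C.SplitIntClosure
import Groth.Agent.Pi1C.StrictHensWE

set_option autoImplicit false
universe u
open Pi1

namespace Groth.Agent.S1143

open AlgebraicGeometry CategoryTheory CategoryTheory.Limits in
/-- Stacks Tag 0BSM, in concrete form: a finite etale K-scheme that splits over L comes from a finite etale A-scheme (the essential-image half of criterion (2) of Tag 0BS9; the surjectivity and composition parts of the exact sequence are separate facts). Let A be a normal local domain with fraction field K, let R be a strict henselization of A and L a fraction field of R, with compatible algebra structures. If V is finite etale over Spec K and its base change to Spec L is split (a finite disjoint union of copies of Spec L), then V is the restriction of a finite etale cover of Spec A. -/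
theorem result (A : Type u) [CommRing A] [IsDomain A]
    [IsLocalRing A] [IsIntegrallyClosed A] (R : Type u) [CommRing R] [IsLocalRing R] [Algebra A R] [IsLocalHom (algebraMap A R)] [Hensel.IsStrictHenselization A R]
    (K L : Type u) [Field K] [Field L] [Algebra A K] [IsFractionRing A K] [Algebra R L] [IsFractionRing R L]
    [Algebra K L] [Algebra A L] [IsScalarTower A K L] [IsScalarTower A R L]
    (V : FEt.Cat (Spec (CommRingCat.of K)))
    (hV : Pi1.IsSplit ((FEt.restrict (Spec.map (CommRingCat.ofHom (algebraMap K L)))).obj V)) :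
    ∃ Y : FEt.Cat (Spec (CommRingCat.of A)),
      Nonempty ((FEt.restrict (Spec.map (CommRingCat.ofHom (algebraMap A K)))).obj Y ≅ V) := by
  have hlaz : Groth.Agent.Pi1C.IndEtaleWE.Lazard A R :=
    Groth.Agent.Pi1C.StrictHensWE.lazard_of_isStrictHenselization A R
  have hflat : Module.Flat A R := Groth.Agent.Pi1C.IndEtaleWE.flat_of_lazard hlaz
  have hff : Module.FaithfullyFlat A R := Module.FaithfullyFlat.of_flat_of_isLocalHom
  obtain ⟨M, _, _, _, _, ⟨eV⟩⟩ := Groth.Agent.Pi1A.FEtAffine.exists_iso_ofAlgebra V
  let _ : Algebra A M := ((algebraMap K M).comp (algebraMap A K)).toAlgebra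
  have hst : IsScalarTower A K M := IsScalarTower.of_algebraMap_eq' rfl
  obtain ⟨ι, _, ⟨e⟩⟩ := Groth.Agent.Pi1C.SplitAlg.nonempty_algEquiv_pi_of_isSplit
    (D := TensorProduct K L M) _
    ((FEt.restrict (Spec.map (CommRingCat.ofHom (algebraMap K L)))).mapIso eV ≪≫
      Groth.Agent.Pi1A.FEtAffine.restrictOfAlgebraIso K L M) hV
  obtain ⟨h1, h2⟩ := Groth.Agent.Pi1C.SplitIntClosure.finite_and_etale hlaz M ι e
  have hint : Algebra.IsIntegral K M := inferInstance
  obtain ⟨e2⟩ := Groth.Agent.Pi1C.SplitIntClosure.nonempty_equiv_of_integral (A := A) (K := K) M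
  exact ⟨Groth.Agent.Pi1A.FEtAffine.ofAlgebra A (integralClosure A M),
    ⟨Groth.Agent.Pi1A.FEtAffine.restrictOfAlgebraIso A K (integralClosure A M) ≪≫
      (Groth.Agent.Pi1A.FEtAffine.isoOfAlgEquiv e2).symm ≪≫ eV.symm⟩⟩

end Groth.Agent.S1143
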