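import Groth.Statements.S1148
-- import your own Groth.Agent.* helpers here
import Mathlib.RingTheory.Ideal.GoingDown
import Mathlib.RingTheory.LocalRing.ResidueField.Fiber
import Mathlib.RingTheory.Ideal.MinimalPrime.Noetherian
import Mathlib.RingTheory.FiniteType
import Mathlib.RingTheory.FiniteStability
import Mathlib.RingTheory.Flat.Stability

set_option autoImplicit false
universe u
open Desc

namespace Groth.Agent.S1148

theorem finite_irreducibleComponents_iff (R : Type u) [CommRing R] :
    (irreducibleComponents (PrimeSpectrum R)).Finite ↔ (minimalPrimes R).Finite := by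
  have e := (minimalPrimes.equivIrreducibleComponents R).toEquiv
  rw [← Set.finite_coe_iff, ← Set.finite_coe_iff]
  constructor
  · intro h
    have : Finite (irreducibleComponents (PrimeSpectrum R))ᵒᵈ := h
    exact Finite.of_equiv _ e.symm
  · intro h
    have : Finite (irreducibleComponents (PrimeSpectrum R))ᵒᵈ := Finite.of_equiv _ e
    exact this

theorem mem_minimalPrimes_comap (A B : Type u) [CommRing A] [CommRing B] [Algebra A B]
    [Module.Flat A B] (q : Ideal B) (hq : q ∈ minimalPrimes B) :
    q.comap (algebraMap A B) ∈ minimalPrimes A := by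
  have hqp : q.IsPrime := hq.1.1
  refine ⟨⟨inferInstance, bot_le⟩, ?_⟩
  rintro p ⟨hp, -⟩ hle
  have : q.LiesOver (q.comap (algebraMap A B)) := ⟨rfl⟩
  obtain ⟨P, hP, hPp, hPo⟩ := Ideal.exists_ideal_le_liesOver_of_le (R := A) q hle
  have h1 := hq.2 ⟨hPp, bot_le⟩ hP
  have h2 : p = P.comap (algebraMap A B) := hPo.over
  rw [h2]
  exact Ideal.comap_mono h1

theorem finite_minimalPrimes_over (A B : Type u) [CommRing A] [CommRing B] [Algebra A B]
    [Algebra.FiniteType A B] (p : PrimeSpectrum A) :
    {q : PrimeSpectrum B | PrimeSpectrum.comap (algebraMap A B) q = p ∧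
      q.asIdeal ∈ minimalPrimes B}.Finite := by
  let F := p.asIdeal.Fiber B
  have h1 : Algebra.FiniteType p.asIdeal.ResidueField F :=
    Algebra.FiniteType.baseChange (R := A) (A := B) p.asIdeal.ResidueField
  have h2 : IsNoetherianRing F := Algebra.FiniteType.isNoetherianRing p.asIdeal.ResidueField F
  have h3 : (minimalPrimes F).Finite := minimalPrimes.finite_of_isNoetherianRing F
  let e := PrimeSpectrum.preimageOrderIsoFiber A B p
  have h4 : ((fun r : PrimeSpectrum F ↦ (e.symm r).1) '' {r | r.asIdeal ∈ minimalPrimes F}).Finite := by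
    refine Set.Finite.image _ ?_
    refine Set.Finite.preimage (f := PrimeSpectrum.asIdeal) ?_ h3
    intro a _ b _ h
    exact PrimeSpectrum.ext h
  refine h4.subset ?_
  rintro q ⟨hq1, hq2⟩
  refine ⟨e ⟨q, hq1⟩, ?_, by simp⟩
  refine ⟨⟨(e ⟨q, hq1⟩).isPrime, bot_le⟩, ?_⟩
  rintro r ⟨hr, -⟩ hle
  have h5 : e.symm ⟨r, hr⟩ ≤ ⟨q, hq1⟩ := by
    rw [OrderIso.symm_apply_le]
    exact hle
  have h6 := hq2.2 ⟨(e.symm ⟨r, hr⟩).1.isPrime, bot_le⟩ h5
  have h7 : (⟨q, hq1⟩ : PrimeSpectrum.comap (algebraMap A B) ⁻¹' {p}) ≤ e.symm ⟨r, hr⟩ := h6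
  rw [OrderIso.le_symm_apply] at h7
  exact h7

/-- Stacks Tag 0BAL, affine form (finiteness of irreducible components of quasi-compact opens is fppf local; this is the ascent direction for a morphism of affine schemes). Let A → B be a flat ring map of finite presentation. If Spec A has finitely many irreducible components, then so does Spec B. -/
theorem result (A B : Type u) [CommRing A] [CommRing B] [Algebra A B]
    [Module.Flat A B] [Algebra.FinitePresentation A B] (h : (irreducibleComponents (PrimeSpectrum A)).Finite) :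
    (irreducibleComponents (PrimeSpectrum B)).Finite := by
  rw [finite_irreducibleComponents_iff] at h ⊢
  have h1 : (⋃ p ∈ {p : PrimeSpectrum A | p.asIdeal ∈ minimalPrimes A},
      {q : PrimeSpectrum B | PrimeSpectrum.comap (algebraMap A B) q = p ∧
        q.asIdeal ∈ minimalPrimes B}).Finite := by
    refine Set.Finite.biUnion ?_ fun p _ ↦ finite_minimalPrimes_over A B p
    refine Set.Finite.preimage (f := PrimeSpectrum.asIdeal) ?_ h
    intro a _ b _ h
    exact PrimeSpectrum.ext h
  refine (h1.image PrimeSpectrum.asIdeal).subset ?_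
  intro q hq
  have hqp : q.IsPrime := hq.1.1
  refine ⟨⟨q, hqp⟩, ?_, rfl⟩
  simp only [Set.mem_iUnion]
  exact ⟨PrimeSpectrum.comap (algebraMap A B) ⟨q, hqp⟩, mem_minimalPrimes_comap A B q hq, rfl, hq⟩

end Groth.Agent.S1148
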