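import Groth.Statements.S1149
import Groth.Agent.Pi1C.HomEquiv

set_option autoImplicit false
universe u
open Pi1

namespace Groth.Agent.S1149

open AlgebraicGeometry CategoryTheory CategoryTheory.Limits in
/-- Stacks Tag 0BL7. Let U and V be finite etale over a scheme X. Then some W finite etale over X has the following property: for every morphism g : T ⟶ X the X-morphisms T ⟶ W are in bijection with the T-morphisms U_T ⟶ V_T between the base changes. (The source's identification is moreover compatible with base change; only the bijections are asserted here.) -/
theorem result {X : Scheme.{u}} (U V : FEt.Cat X) :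
    ∃ W : FEt.Cat X, ∀ (T : Scheme.{u}) (g : T ⟶ X),
      Nonempty ({s : T ⟶ W.left // s ≫ W.hom = g} ≃ ((FEt.restrict g).obj U ⟶ (FEt.restrict g).obj V)) :=
  Groth.Agent.Pi1C.HomEquiv.exists_homCover U V

end Groth.Agent.S1149
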