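import Groth.Statements.S1150
import Groth.Agent.Pi1C.LefFinal
import Groth.Agent.Pi1C.LefClopenMain

set_option autoImplicit false
universe u
open Pi1

namespace Groth.Agent.S1150

open AlgebraicGeometry CategoryTheory CategoryTheory.Limits in
/-- Stacks Tag 0ELC. Let X be a proper scheme over a field k, L an ample invertible O_X-module, s a global section of L and Y = Z(s) its zero scheme. Assume depth(O_{X,x}) + dim(closure of x) > 1 for every point x of X not in Y. Then for every open subscheme V of X containing Y, restriction of finite etale covers from V to Y (realised as Y ×_X V ⟶ V) is fully faithful; V = X is allowed. -/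
theorem result (k : Type u) [Field k] (X : Scheme.{u})
    (f : X ⟶ Spec (CommRingCat.of k)) [IsProper f] (L : X.Modules) (hL : CohB1.IsAmple L)
    (s : Coh.structureModule X ⟶ L)
    (hd : ∀ x : X, x ∉ (PicF2.zeroScheme L s).support →
      (1 : WithBot ℕ∞) < (LocCoh.depth (X.presheaf.stalk x) (X.presheaf.stalk x) : WithBot ℕ∞) +
        topologicalKrullDim (closure ({x} : Set X)))
    (V : X.Opens) (hV : ((PicF2.zeroScheme L s).support : Set X) ⊆ V) :
    (FEt.restrict (pullback.snd (PicF2.zeroScheme L s).subschemeι V.ι)).Full ∧
    (FEt.restrict (pullback.snd (PicF2.zeroScheme L s).subschemeι V.ι)).Faithful := by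
  exact Groth.Agent.Pi1C.LefFinal.main Groth.Agent.Pi1C.LefClopenMain.lefClopen k X f L hL s hd V hV

end Groth.Agent.S1150
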