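import Groth.Statements.S1151
import Groth.Agent.Pi1C.LefReg
import Groth.Agent.Pi1C.LefTower
import Groth.Agent.Pi1C.LefProj
import Groth.Agent.Pi1C.LefGr

set_option autoImplicit false
universe u
open Pi1

namespace Groth.Agent.S1151

open AlgebraicGeometry CategoryTheory CategoryTheory.Limits in
/-- Stacks Tag 0ELE. Let X be a proper scheme over a field k, L an ample invertible O_X-module, s a global section of L and Y = Z(s) its zero scheme. Assume depth(O_{X,x}) + dim(closure of x) > 2 for every point x of X not in Y, and that purity holds for the local ring O_{X,x} at every closed point x not in Y. Then restriction of finite etale covers from X to Y is essentially surjective (with the full faithfulness of the companion statement for Tag 0ELC it is an equivalence of categories). -/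
theorem result (k : Type u) [Field k] (X : Scheme.{u})
    (f : X ⟶ Spec (CommRingCat.of k)) [IsProper f] (L : X.Modules) (hL : CohB1.IsAmple L)
    (s : Coh.structureModule X ⟶ L)
    (hd : ∀ x : X, x ∉ (PicF2.zeroScheme L s).support →
      (2 : WithBot ℕ∞) < (LocCoh.depth (X.presheaf.stalk x) (X.presheaf.stalk x) : WithBot ℕ∞) +
        topologicalKrullDim (closure ({x} : Set X)))
    (hp : ∀ x : X, x ∉ (PicF2.zeroScheme L s).support → IsClosed ({x} : Set X) →
      FEt.PurityHolds (X.presheaf.stalk x)) :
    (FEt.restrict (PicF2.zeroScheme L s).subschemeι).EssSurj :=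
  Groth.Agent.Pi1C.LefEss.main (Groth.Agent.Pi1C.LefReg.lefRegular
    Groth.Agent.Pi1C.LefTower.exists_tower
    (fun T h => Groth.Agent.Pi1C.LefTower.extends_of_tower _ T h)
    Groth.Agent.Pi1C.LefGr.exists_gradedExt
    (fun H E => Groth.Agent.Pi1C.LefProj.extends_of_gradedExt H E))
    k X f L hL s hd hp

end Groth.Agent.S1151
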