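import Groth.Statements.S1153
import Groth.Agent.Desc.ProperSupport
-- import your own Groth.Agent.* helpers here

set_option autoImplicit false
open CategoryTheory CategoryTheory.Limits AlgebraicGeometry Opposite
universe u
open Desc

namespace Groth.Agent.S1153

/-- Stacks Tag 0F4J (single quasi-compact flat surjective cover). Let f : X ⟶ Y be locally of finite type, Z a closed subset of X and g : Y' ⟶ Y quasi-compact, flat and surjective. If the preimage of Z in X ×_Y Y' is proper over Y', then Z is proper over Y. -/
theorem result {X Y Y' : Scheme.{u}} (f : X ⟶ Y) [LocallyOfFiniteType f] (Z : Set X) (hZ : IsClosed Z)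
    (g : Y' ⟶ Y) [QuasiCompact g] [Flat g] [Surjective g]
    (h : ClSub.IsProperOver (pullback.snd f g) ((pullback.fst f g).base ⁻¹' Z)) :
    ClSub.IsProperOver f Z := by
  obtain ⟨h', hp⟩ := h
  refine ⟨hZ, ?_⟩
  set I : X.IdealSheafData := Scheme.IdealSheafData.vanishingIdeal ⟨Z, hZ⟩ with hI
  set J : (pullback f g).IdealSheafData := Scheme.IdealSheafData.vanishingIdeal
    ⟨(pullback.fst f g).base ⁻¹' Z, h'⟩ with hJ
  have hIs : I.support = ⟨Z, hZ⟩ := TopologicalSpace.Closeds.ext (Scheme.IdealSheafData.coe_support_vanishingIdeal _)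
  have hJs : J.support = ⟨(pullback.fst f g).base ⁻¹' Z, h'⟩ :=
    TopologicalSpace.Closeds.ext (Scheme.IdealSheafData.coe_support_vanishingIdeal _)
  have hcs : (I.comap (pullback.fst f g)).support = ⟨(pullback.fst f g).base ⁻¹' Z, h'⟩ := by
    rw [Scheme.IdealSheafData.support_comap, hIs]
    rfl
  have hle : I.comap (pullback.fst f g) ≤ J := by
    rw [hJ, ← Scheme.IdealSheafData.le_support_iff_le_vanishingIdeal, hcs]
  have h1 : IsProper ((I.comap (pullback.fst f g)).subschemeι ≫ pullback.snd f g) :=
    (Groth.Agent.Desc.ProperSupport.isProper_iff_of_support_eq (pullback.snd f g) hle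
      (hJs.trans hcs.symm)).mpr hp
  -- the base change of `I.subschemeι ≫ f`
  have hd := Groth.Agent.Desc.MorDescent.descendsAlong_isProper.{u}
  have hP : IsPullback (pullback.snd (pullback.fst f g) I.subschemeι)
      (pullback.fst (pullback.fst f g) I.subschemeι ≫ pullback.snd f g) (I.subschemeι ≫ f) g :=
    (IsPullback.of_hasPullback (pullback.fst f g) I.subschemeι).flip.paste_vert
      (IsPullback.of_hasPullback f g)
  refine MorphismProperty.of_isPullback_of_descendsAlong (P := @IsProper)
      (Q := @Surjective ⊓ @Flat ⊓ @QuasiCompact) hP.flip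
      ⟨⟨inferInstance, inferInstance⟩, inferInstance⟩ ?_
  rw [← Scheme.IdealSheafData.comapIso_inv_subschemeι, Category.assoc]
  infer_instance

end Groth.Agent.S1153
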