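import Groth.Statements.S1156
-- import your own Groth.Agent.* helpers here

set_option autoImplicit false
universe u
open scoped TensorProduct
open Desc

namespace Groth.Agent.S1156

/-- Stacks Tag 023M, exactness of the extended Amitsur complex in degree 0 (injectivity in degree −1 being standard). Let R → A be faithfully flat and M an R-module. An element x of A ⊗_R M with 1 ⊗ x = (a ⊗ m ↦ a ⊗ 1 ⊗ m)(x) in A ⊗_R A ⊗_R M lies in the image of m ↦ 1 ⊗ m. -/
theorem result (R A : Type u) [CommRing R] [CommRing A] [Algebra R A] [Module.FaithfullyFlat R A]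
    (M : Type u) [AddCommGroup M] [Module R M] (x : A ⊗[R] M)
    (hx : TensorProduct.mk R A (A ⊗[R] M) 1 x = LinearMap.lTensor A (TensorProduct.mk R A M 1) x) :
    x ∈ LinearMap.range (TensorProduct.mk R A M 1) := by
  classical
  -- the contraction `a ⊗ b ⊗ z ↦ ab ⊗ z`
  let s (N : Type u) [AddCommGroup N] [Module R N] : A ⊗[R] (A ⊗[R] N) →ₗ[R] A ⊗[R] N :=
    (LinearMap.rTensor N (LinearMap.mul' R A)) ∘ₗ (TensorProduct.assoc R A A N).symm.toLinearMap
  have hs (N : Type u) [AddCommGroup N] [Module R N] (a b : A) (z : N) :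
      s N (a ⊗ₜ[R] (b ⊗ₜ[R] z)) = (a * b) ⊗ₜ[R] z := by
    simp [s]
  have hex : Function.Exact (TensorProduct.mk R A M 1)
      (TensorProduct.mk R A (A ⊗[R] M) 1 - LinearMap.lTensor A (TensorProduct.mk R A M 1)) := by
    rw [← Module.FaithfullyFlat.lTensor_exact_iff_exact R A]
    intro y
    constructor
    · intro hy
      rw [LinearMap.lTensor_sub, LinearMap.sub_apply, sub_eq_zero] at hy
      have h1 := congrArg (s (A ⊗[R] M)) hy
      have e1 : (s (A ⊗[R] M)) ∘ₗ (LinearMap.lTensor A (TensorProduct.mk R A (A ⊗[R] M) 1)) =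
          LinearMap.id := by
        ext a b m
        simp [hs]
      have e2 : (s (A ⊗[R] M)) ∘ₗ
          (LinearMap.lTensor A (LinearMap.lTensor A (TensorProduct.mk R A M 1))) =
          (LinearMap.lTensor A (TensorProduct.mk R A M 1)) ∘ₗ s M := by
        ext a b m
        simp [hs]
      have h2 := LinearMap.congr_fun e1 y
      have h3 := LinearMap.congr_fun e2 y
      simp only [LinearMap.comp_apply, LinearMap.id_apply] at h2 h3
      refine ⟨s M y, ?_⟩
      rw [← h3, ← h1, h2]
    · rintro ⟨z, rfl⟩
      have e3 : (LinearMap.lTensor A (TensorProduct.mk R A (A ⊗[R] M) 1 -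
          LinearMap.lTensor A (TensorProduct.mk R A M 1))) ∘ₗ
          (LinearMap.lTensor A (TensorProduct.mk R A M 1)) = 0 := by
        ext a m
        simp [LinearMap.lTensor_sub]
      exact LinearMap.congr_fun e3 z
  have := (hex x).1 (by rw [LinearMap.sub_apply, hx, sub_self])
  exact this

end Groth.Agent.S1156
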