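import Groth.Statements.S1159
import Groth.Agent.Pi1C.PuncComplete
import Groth.Agent.Pi1C.PSeries
import Groth.Agent.Pi1A.ClopenCrit

set_option autoImplicit false
universe u
open Pi1

namespace Groth.Agent.S1159

section

open AlgebraicGeometry CategoryTheory CategoryTheory.Limits
open Groth.Agent.Pi1C.MLift Groth.Agent.Pi1C.PuncturedSections
open Groth.Agent.Pi1C.PuncSpec Groth.Agent.Pi1C.PuncSystem Groth.Agent.Pi1C.PSeries

lemma isPunc_vanishingIdeal {B : Type u} [CommRing B] (V : (Spec (CommRingCat.of B)).Opens) :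
    IsPunc (PrimeSpectrum.vanishingIdeal (V.1ᶜ : Set (PrimeSpectrum B))) V := by
  constructor
  · intro g hg x hx
    by_contra hcon
    apply hx
    exact (PrimeSpectrum.mem_vanishingIdeal _ _).1 hg x hcon
  · intro x hx
    by_contra hcon
    push Not at hcon
    have h1 : (x : PrimeSpectrum B) ∈ closure (V.1ᶜ : Set (PrimeSpectrum B)) := by
      rw [← PrimeSpectrum.zeroLocus_vanishingIdeal_eq_closure]
      intro g hg
      have h2 := hcon g hg
      rw [mem_DD, not_not] at h2
      exact h2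
    have h3 : closure (V.1ᶜ : Set (PrimeSpectrum B)) = V.1ᶜ := V.2.isClosed_compl.closure_eq
    rw [h3] at h1
    exact h1 hx

theorem main {B : Type u} [CommRing B] [IsNoetherianRing B] {A : Type u} [CommRing A]
    (φ : B →+* A) (hφ : Function.Surjective φ)
    (V : (Spec (CommRingCat.of B)).Opens) (J : ℕ → Ideal B) (hJ0 : ∀ x, x ∈ J 0 ↔ φ x = 0)
    (hcov : (∀ (T : FEt.Cat V.toScheme),
      (∀ C : Set T.left, IsClopen C →
        (∀ x ∈ C, ∃ j ∈ J 0, (T.hom ≫ V.ι) x ∈ DD (A := CommRingCat.of B) j) → C = ∅) ∧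
      (∀ C₀ C₁ : Set T.left, IsClosed C₀ → IsClosed C₁ →
        (∀ x, (∀ j ∈ J 0, (T.hom ≫ V.ι) x ∉ DD (A := CommRingCat.of B) j) →
          (x ∈ C₀ ↔ x ∉ C₁)) →
        ∃ C : Set T.left, IsClopen C ∧
          ∀ x, (∀ j ∈ J 0, (T.hom ≫ V.ι) x ∉ DD (A := CommRingCat.of B) j) →
            (x ∈ C ↔ x ∈ C₀)))) :
    (FEt.restrict (pullback.fst V.ι (Spec.map (CommRingCat.ofHom φ)))).Full ∧
    (FEt.restrict (pullback.fst V.ι (Spec.map (CommRingCat.ofHom φ)))).Faithful := by
  set μ : CommRingCat.of B ⟶ CommRingCat.of A := CommRingCat.ofHom φ with hμ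
  have hμcl : IsClosedImmersion (Spec.map μ) := IsClosedImmersion.spec_of_surjective _ hφ
  have hrange : ∀ (T : FEt.Cat V.toScheme) (x : T.left),
      (∀ j ∈ J 0, (T.hom ≫ V.ι) x ∉ DD (A := CommRingCat.of B) j) ↔
        x ∈ Set.range (pullback.fst T.hom (pullback.fst V.ι (Spec.map μ))) := by
    intro T x
    rw [Scheme.Pullback.range_fst, Set.mem_preimage, Scheme.Pullback.range_fst, Set.mem_preimage,
      ← Scheme.Hom.comp_apply]
    have h4 : Set.range (Spec.map μ) = PrimeSpectrum.zeroLocus (RingHom.ker φ : Set B) :=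
      range_comap_of_surjective A φ hφ
    rw [h4]
    change _ ↔ (RingHom.ker φ : Set B) ⊆ _
    constructor
    · intro h j hj
      have h5 := h j ((hJ0 j).2 hj)
      rw [mem_DD, not_not] at h5
      exact h5
    · intro h j hj
      rw [mem_DD, not_not]
      exact h ((hJ0 j).1 hj)
  apply Groth.Agent.Pi1A.ClopenCrit.restrict_fullyFaithful_of_isClopen
  · intro T C hC hCe
    refine (hcov T).1 C hC ?_
    intro x hx
    by_contra hcon
    push Not at hcon
    obtain ⟨y, rfl⟩ := (hrange T x).1 hcon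
    have : y ∈ (pullback.fst T.hom (pullback.fst V.ι (Spec.map μ))) ⁻¹' C := hx
    rw [hCe] at this
    exact this
  · intro T Z hZ
    set q := pullback.fst T.hom (pullback.fst V.ι (Spec.map μ)) with hq
    have hqcl : IsClosedImmersion q := inferInstance
    have hinj : Function.Injective q := q.isClosedEmbedding.injective
    have hcl : IsClosedMap q := q.isClosedEmbedding.isClosedMap
    obtain ⟨C, hC, hCZ⟩ := (hcov T).2 (q '' Z) (q '' Zᶜ)
      (hcl _ hZ.1) (hcl _ hZ.2.isClosed_compl) (by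
        intro x hx
        obtain ⟨y, rfl⟩ := (hrange T x).1 hx
        rw [← hq, hinj.mem_set_image, hinj.mem_set_image, Set.mem_compl_iff, not_not])
    refine ⟨C, hC, ?_⟩
    ext y
    rw [Set.mem_preimage, hCZ _ ((hrange T _).2 ⟨y, rfl⟩), hinj.mem_set_image]

theorem mClosed_quot (A : Type u) [CommRing A] [IsNoetherianRing A] [IsLocalRing A]
    (hA : (2 : ℕ∞) ≤ LocCoh.depth A A) (d : ℕ)
    [IsLocalRing (MvPowerSeries (Fin d) A)]
    (V : (Spec (CommRingCat.of (MvPowerSeries (Fin d) A))).Opens)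
    (hV : ∀ y : Spec (CommRingCat.of (MvPowerSeries (Fin d) A)),
      (∀ i : Fin d, MvPowerSeries.X i ∈ (y : PrimeSpectrum (MvPowerSeries (Fin d) A)).asIdeal) →
      (y ∈ V ↔ y ≠ IsLocalRing.closedPoint (MvPowerSeries (Fin d) A)))
    {I : Ideal (MvPowerSeries (Fin d) A)} (hI : IsPunc I V) (n : ℕ) :
    MClosed I (MvPowerSeries (Fin d) A ⧸ J A d n) := by
  have hr : ∀ k : ℕ, ∃ k' : ℕ,
      ((IsLocalRing.maximalIdeal A).map (algebraMap A (MvPowerSeries (Fin d) A))) ^ k' ≤
        I ^ k ⊔ J A d n := by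
    intro k
    apply Ideal.exists_pow_le_of_le_radical_of_fg
    · rw [Ideal.radical_eq_sInf]
      refine le_sInf ?_
      rintro P ⟨hP, hPp⟩
      have hIP : I ≤ P := by
        intro g hg
        exact hPp.mem_of_pow_mem k (hP (Ideal.mem_sup_left (Ideal.pow_mem_pow hg k)))
      let y : Spec (CommRingCat.of (MvPowerSeries (Fin d) A)) :=
        (⟨P, hPp⟩ : PrimeSpectrum (MvPowerSeries (Fin d) A))
      have hyV : y ∉ V := by
        intro hy
        obtain ⟨g, hg, h⟩ := hI.cov y hy
        exact h (hIP hg)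
      have hX : ∀ i : Fin d, MvPowerSeries.X i ∈
          (y : PrimeSpectrum (MvPowerSeries (Fin d) A)).asIdeal := by
        intro i
        obtain ⟨k', hk'⟩ := exists_pow_mem (A := A) (d := d) (MvPowerSeries.X i)
          (MvPowerSeries.constantCoeff_X i) n
        exact hPp.mem_of_pow_mem k' (hP (Ideal.mem_sup_right hk'))
      have hycl : (y : PrimeSpectrum (MvPowerSeries (Fin d) A)) =
          IsLocalRing.closedPoint (MvPowerSeries (Fin d) A) := by
        by_contra hcon
        exact hyV ((hV y hX).2 hcon)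
      have hPm : P = IsLocalRing.maximalIdeal (MvPowerSeries (Fin d) A) :=
        congrArg PrimeSpectrum.asIdeal hycl
      rw [Ideal.map_le_iff_le_comap, hPm]
      intro a ha
      rw [Ideal.mem_comap, IsLocalRing.mem_maximalIdeal, mem_nonunits_iff]
      intro hu
      have h1 : IsUnit (MvPowerSeries.constantCoeff (algebraMap A (MvPowerSeries (Fin d) A) a)) :=
        hu.map _
      rw [MvPowerSeries.algebraMap_apply, MvPowerSeries.constantCoeff_C] at h1
      exact (IsLocalRing.mem_maximalIdeal a).1 ha h1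
    · exact Ideal.FG.map (IsNoetherian.noetherian (IsLocalRing.maximalIdeal A)) _
  refine mClosed_transfer (A := A) (m := IsLocalRing.maximalIdeal A) (J := J A d n) ?_ ?_
    (mClosed hA n)
  · intro j hj y
    obtain ⟨f, rfl⟩ := Ideal.Quotient.mk_surjective y
    change Ideal.Quotient.mk (J A d n) (j * f) = 0
    rw [Ideal.Quotient.eq_zero_iff_mem]
    exact Ideal.mul_mem_right _ _ hj
  · intro k
    obtain ⟨k', hk'⟩ := hr k
    refine ⟨k', fun a ha => ?_⟩
    have h1 : algebraMap A (MvPowerSeries (Fin d) A) a ∈ I ^ k ⊔ J A d n := by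
      apply hk'
      rw [← Ideal.map_pow]
      exact Ideal.mem_map_of_mem _ ha
    obtain ⟨x, hx, j, hj, hxj⟩ := Submodule.mem_sup.1 h1
    refine ⟨x, hx, ?_⟩
    rw [← hxj, add_sub_cancel_left]
    exact hj

end

open AlgebraicGeometry CategoryTheory CategoryTheory.Limits in
/-- Stacks Tag 0EY9. Let A be a Noetherian local ring of depth at least 2, d ≥ 1, B = A[[x_1, ..., x_d]] (assumed local, as it is), Y = Spec B and Y₀ = V(x_1, ..., x_d), identified with Spec A via the quotient map. Let V be an open subscheme of Y whose intersection with Y₀ is Y₀ minus the closed point. Then restriction of finite etale covers from V to V ×_Y Y₀ is fully faithful. -/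
theorem result (A : Type u) [CommRing A] [IsNoetherianRing A] [IsLocalRing A]
    (hA : (2 : ℕ∞) ≤ LocCoh.depth A A) (d : ℕ) (hd : 1 ≤ d)
    [IsLocalRing (MvPowerSeries (Fin d) A)]
    (V : (Spec (CommRingCat.of (MvPowerSeries (Fin d) A))).Opens)
    (hV : ∀ y : Spec (CommRingCat.of (MvPowerSeries (Fin d) A)),
      (∀ i : Fin d, MvPowerSeries.X i ∈ (y : PrimeSpectrum (MvPowerSeries (Fin d) A)).asIdeal) →
      (y ∈ V ↔ y ≠ IsLocalRing.closedPoint (MvPowerSeries (Fin d) A))) :
    (FEt.restrict (pullback.fst V.ι (Spec.map (CommRingCat.ofHom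
      (MvPowerSeries.constantCoeff : MvPowerSeries (Fin d) A →+* A))))).Full ∧
    (FEt.restrict (pullback.fst V.ι (Spec.map (CommRingCat.ofHom
      (MvPowerSeries.constantCoeff : MvPowerSeries (Fin d) A →+* A))))).Faithful := by
  have hI := isPunc_vanishingIdeal V
  refine main (MvPowerSeries.constantCoeff : MvPowerSeries (Fin d) A →+* A)
    (fun a => ⟨MvPowerSeries.C a, MvPowerSeries.constantCoeff_C a⟩) V
    (Groth.Agent.Pi1C.PSeries.J A d) (fun x => Groth.Agent.Pi1C.PSeries.mem_J_zero) ?_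
  intro T
  have hT : IsFinite T.hom := T.prop.1
  have hT2 : Etale T.hom := T.prop.2
  exact Groth.Agent.Pi1C.PuncSystem.cover_case (Groth.Agent.Pi1C.PSeries.J A d)
    Groth.Agent.Pi1C.PSeries.J_succ_le
    (fun n x hx => Groth.Agent.Pi1C.PSeries.exists_pow_mem x
      (Groth.Agent.Pi1C.PSeries.mem_J_zero.1 hx) n)
    (fun n => mClosed_quot A hA d V hV hI n)
    Groth.Agent.Pi1C.PSeries.eq_zero_of_forall_mem
    Groth.Agent.Pi1C.PSeries.exists_lift hI T.hom

end Groth.Agent.S1159
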