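import Groth.Statements.S1160
import Groth.Agent.Flat2A.UIDFF494
import Groth.Agent.Flat2A.UIDConv494
import Groth.Agent.Desc.UnivInjCoact

set_option autoImplicit false
open CategoryTheory Opposite
universe u
open Desc

namespace Groth.Agent.S1160

open Groth.Agent.Desc.SecD Groth.Agent.Desc in
theorem coactEff_of_univInjective {R S : Type u} [CommRing R] [CommRing S] (φ : R →+* S)
    (h : letI := φ.toAlgebra; Pi1.UnivInjective R S) : CoactEff.{u} φ := by
  let _ : Algebra R S := φ.toAlgebra
  intro M _ _ _ _ a h1 h2
  exact UnivInjCoact.ofCoinv_bijective_of_univInjective h a h1 h2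

/-- Stacks Tag 08XA. For a ring map R → S the following are equivalent: the functor M ↦ S ⊗_R M from R-modules to descent data relative to R → S is fully faithful; it is an equivalence; R → S is universally injective. Stated as: universal injectivity is equivalent to the functor being an equivalence, and full faithfulness already implies universal injectivity. (Descent data are Mathlib's for the pseudofunctor R ↦ Mod_R with extension of scalars, relative to the single morphism Spec S ⟶ Spec R; by the usual Yoneda argument these are the source's pairs (N, φ) with φ : N ⊗_R S ≅ S ⊗_R N satisfying the cocycle condition.) -/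
theorem result (R S : Type u) [CommRing R] [CommRing S] [Algebra R S] :
    (Pi1.UnivInjective R S ↔ (Desc.ringModPF.{u}.toDescentData (fun _ : PUnit.{u + 1} => (CommRingCat.ofHom (algebraMap R S)).op)).IsEquivalence) ∧
    (Nonempty (Desc.ringModPF.{u}.toDescentData (fun _ : PUnit.{u + 1} => (CommRingCat.ofHom (algebraMap R S)).op)).FullyFaithful → Pi1.UnivInjective R S) := by
  have hconv := Groth.Agent.Flat2A.UIDConv494.univInjective_of_fullyFaithful R S
  refine ⟨⟨fun h => ?_, fun h => hconv ?_⟩, hconv⟩
  · have hui := Groth.Agent.Flat2A.UIDFF494.ui_of_univInjective R S h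
    have h1 := Groth.Agent.Flat2A.UIDFF494.faithful hui
    have h2 := Groth.Agent.Flat2A.UIDFF494.full hui
    have halg : (algebraMap R S).toAlgebra = ‹Algebra R S› := Algebra.algebra_ext _ _ fun _ => rfl
    have hco : Groth.Agent.Desc.SecD.CoactEff.{u} (algebraMap R S) := by
      refine coactEff_of_univInjective (algebraMap R S) ?_
      rw [halg]
      exact h
    have h3 : (Desc.ringModPF.{u}.toDescentData (fun _ : PUnit.{u + 1} =>
        (CommRingCat.ofHom (algebraMap R S)).op)).EssSurj :=
      ⟨fun D => Groth.Agent.Desc.RingModPF.exists_descent_of
        (CommRingCat.ofHom (algebraMap R S)) hco D⟩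
    exact { }
  · exact ⟨Functor.FullyFaithful.ofFullyFaithful _⟩

end Groth.Agent.S1160
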