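import Groth.Statements.S1162
import Mathlib.AlgebraicGeometry.PullbackCarrier
import Mathlib.AlgebraicGeometry.Morphisms.UniversallyOpen

set_option autoImplicit false
open CategoryTheory CategoryTheory.Limits AlgebraicGeometry Opposite
universe u
open Desc

namespace Groth.Agent.S1162

/-- If `κ(f x) → κ(x)` is surjective then `Spec (κ(x) ⊗ κ(x'))` has at most one point. -/
theorem subsingleton_spec_tensor {X Y S : Scheme.{u}} {f : X ⟶ S} {g : Y ⟶ S}
    (T : Scheme.Pullback.Triplet f g) (h : Function.Surjective (f.residueFieldMap T.x).hom) :
    Subsingleton (Spec T.tensor) := by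
  have h1 : IsIso ((S.residueFieldCongr T.hx).inv ≫ f.residueFieldMap T.x) := by
    have : IsIso (f.residueFieldMap T.x) := by
      rw [ConcreteCategory.isIso_iff_bijective]
      exact ⟨(f.residueFieldMap T.x).hom.injective, h⟩
    infer_instance
  have h2 : IsIso T.tensorInr := by
    exact pushout_inr_iso_of_left_iso _ _
  have h3 : IsIso (Spec.map T.tensorInr) := inferInstance
  have h4 : Subsingleton (Spec (Y.residueField T.y)) := inferInstance
  exact (Scheme.homeoOfIso (asIso (Spec.map T.tensorInr))).toEquiv.subsingleton

theorem generic_iff {X : Scheme.{u}} (ξ : X) :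
    closure ({ξ} : Set X) ∈ irreducibleComponents (X : Type u) ↔ ∀ x : X, x ⤳ ξ → x = ξ := by
  constructor
  · intro h x hx
    have h1 : closure ({ξ} : Set X) ≤ closure {x} := specializes_iff_closure_subset.mp hx
    have h2 := h.2 (isIrreducible_singleton (x := x)).closure h1
    exact ((specializes_iff_closure_subset.mpr h2).antisymm hx).symm.eq
  · intro h
    refine ⟨isIrreducible_singleton.closure, fun T hT hle => ?_⟩
    obtain ⟨y, hy⟩ := QuasiSober.sober hT.closure isClosed_closure
    have : y ⤳ ξ := by
      rw [specializes_iff_closure_subset, hy.def]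
      exact hle.trans subset_closure
    rw [h y this] at hy
    rw [hy.def]
    exact subset_closure

/-- Stacks Tag 09NP. Let f : X ⟶ Y be flat and separated. Write X⁰ for the generic points of the irreducible components of X. If for every ξ in X⁰ the residue field extension κ(f ξ) ⊆ κ(ξ) is trivial and f is injective on X⁰, then f is universally injective. -/
theorem result {X Y : Scheme.{u}} (f : X ⟶ Y) [Flat f] [IsSeparated f]
    (h2 : ∀ ξ : X, closure ({ξ} : Set X) ∈ irreducibleComponents (X : Type u) →
      Function.Surjective (f.residueFieldMap ξ).hom)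
    (h3 : Set.InjOn f.base {ξ : X | closure ({ξ} : Set X) ∈ irreducibleComponents (X : Type u)}) :
    UniversallyInjective f := by
  rw [UniversallyInjective.iff_diagonal]
  refine ⟨fun z => ?_⟩
  by_contra hz
  have hcl : IsClosed (Set.range (pullback.diagonal f)) := (pullback.diagonal f).isClosedEmbedding.isClosed_range
  -- a generic point of a component through `z`
  obtain ⟨η, hη⟩ := QuasiSober.sober (isIrreducible_irreducibleComponent (x := z)) isClosed_irreducibleComponent
  have hηz : η ⤳ z := by
    rw [specializes_iff_mem_closure, hη.def]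
    exact mem_irreducibleComponent
  have hηgen : ∀ x, x ⤳ η → x = η := by
    rw [← generic_iff, hη.def]
    exact irreducibleComponent_mem_irreducibleComponents z
  have hη' : η ∉ Set.range (pullback.diagonal f) := fun h => hz (hηz.mem_closed hcl h)
  have h1 : closure ({pullback.fst f f η} : Set X) ∈ irreducibleComponents (X : Type u) := by
    rw [generic_iff]
    intro x hx
    obtain ⟨y, hy, rfl⟩ := Flat.generalizingMap (pullback.fst f f) hx
    rw [hηgen y hy]
  have h2' : closure ({pullback.snd f f η} : Set X) ∈ irreducibleComponents (X : Type u) := by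
    rw [generic_iff]
    intro x hx
    obtain ⟨y, hy, rfl⟩ := Flat.generalizingMap (pullback.snd f f) hx
    rw [hηgen y hy]
  have h4 : pullback.fst f f η = pullback.snd f f η := by
    refine h3 h1 h2' ?_
    rw [← Scheme.Hom.comp_apply, ← Scheme.Hom.comp_apply, pullback.condition]
  apply hη'
  refine ⟨pullback.fst f f η, ?_⟩
  apply Scheme.Pullback.carrierEquiv.injective
  rw [Scheme.Pullback.carrierEquiv_eq_iff]
  have hT : Scheme.Pullback.Triplet.ofPoint (pullback.diagonal f (pullback.fst f f η)) =
      Scheme.Pullback.Triplet.ofPoint (f := f) (g := f) η := by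
    apply Scheme.Pullback.Triplet.ext
    · change pullback.fst f f _ = pullback.fst f f η
      rw [← Scheme.Hom.comp_apply, pullback.diagonal_fst]
      rfl
    · change pullback.snd f f _ = pullback.snd f f η
      rw [← Scheme.Hom.comp_apply, pullback.diagonal_snd, ← h4]
      rfl
  refine ⟨hT, ?_⟩
  have hsub : Subsingleton (Spec (Scheme.Pullback.Triplet.ofPoint (f := f) (g := f) η).tensor) :=
    subsingleton_spec_tensor _ (h2 _ h1)
  exact hsub.elim _ _

end Groth.Agent.S1162
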