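import Groth.Statements.S1163
import Groth.Agent.Desc.FlatFactor

set_option autoImplicit false
open CategoryTheory CategoryTheory.Limits AlgebraicGeometry Opposite
universe u
open Desc

namespace Groth.Agent.S1163

/-- Stacks Tag 06NB (the case P = flat, single fppf cover). Let f : X ⟶ Y and q : Y ⟶ Z be morphisms of schemes, and suppose there is a flat, surjective morphism g : Y' ⟶ Y locally of finite presentation which factors through f. If f ≫ q is flat, then q is flat. -/
theorem result {X Y Z Y' : Scheme.{u}} (f : X ⟶ Y) (q : Y ⟶ Z) (g : Y' ⟶ Y) [Flat g] [Surjective g]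
    [LocallyOfFinitePresentation g] (l : Y' ⟶ X) (hl : l ≫ f = g) [Flat (f ≫ q)] : Flat q := by
  rw [Flat.iff_flat_stalkMap]
  intro y
  obtain ⟨y', rfl⟩ := g.surjective y
  subst hl
  have h1 : (((f ≫ q).stalkMap (l y')).hom).Flat := Flat.stalkMap _ _
  have h2 : (((l ≫ f).stalkMap y').hom).Flat := Flat.stalkMap _ _
  have h3 : IsLocalHom ((l ≫ f).stalkMap y').hom := inferInstance
  have h4 : (((l ≫ f).stalkMap y').hom).FaithfullyFlat := by
    let := ((l ≫ f).stalkMap y').hom.toAlgebra
    have : Module.Flat _ _ := h2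
    have : IsLocalHom (algebraMap (Y.presheaf.stalk ((l ≫ f) y')) (Y'.presheaf.stalk y')) := h3
    exact Module.FaithfullyFlat.of_flat_of_isLocalHom
  rw [Scheme.Hom.stalkMap_comp] at h1
  rw [Scheme.Hom.stalkMap_comp] at h4
  exact Groth.Agent.Desc.FlatFactor.flat_of_factor _ _ _ h1 h4

end Groth.Agent.S1163
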