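import Groth.Statements.S1164
import Groth.Agent.Desc.FlatFactor
import Mathlib.RingTheory.Etale.Weakly

set_option autoImplicit false
universe u
open Desc

namespace Groth.Agent.S1164

/-- Stacks Tag 04ND, in ring form. Let R → S be a local homomorphism of local rings. Let R' be a local ring which is a localization at a prime of an etale R-algebra, with R → R' local, and similarly S' for S, and suppose S' is an R'-algebra compatibly with the given maps. Then R → S is flat if and only if R' → S' is flat. (This is the statement that flatness of a morphism of germs is etale local on the source-and-target.) -/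
theorem result (R S R' S' : Type u) [CommRing R] [CommRing S] [CommRing R'] [CommRing S']
    [IsLocalRing R] [IsLocalRing S] [IsLocalRing R'] [IsLocalRing S']
    [Algebra R S] [IsLocalHom (algebraMap R S)] [Algebra R R'] [IsLocalHom (algebraMap R R')]
    [Algebra S S'] [IsLocalHom (algebraMap S S')] [Algebra R' S'] [Algebra R S']
    [IsScalarTower R R' S'] [IsScalarTower R S S']
    (E : Type u) [CommRing E] [Algebra R E] [Algebra.Etale R E] (P : Ideal E) [P.IsPrime]
    [Algebra E R'] [IsScalarTower R E R'] [IsLocalization.AtPrime R' P]
    (F : Type u) [CommRing F] [Algebra S F] [Algebra.Etale S F] (Q : Ideal F) [Q.IsPrime]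
    [Algebra F S'] [IsScalarTower S F S'] [IsLocalization.AtPrime S' Q] :
    Module.Flat R S ↔ Module.Flat R' S' := by
  have hRR' : Module.Flat R R' := by
    have : Module.Flat R E := Algebra.Smooth.flat R E
    have : Module.Flat E R' := IsLocalization.flat R' P.primeCompl
    exact Module.Flat.trans R E R'
  have hSS' : Module.FaithfullyFlat S S' := by
    have : Module.Flat S F := Algebra.Smooth.flat S F
    have : Module.Flat F S' := IsLocalization.flat S' Q.primeCompl
    have : Module.Flat S S' := Module.Flat.trans S F S'
    exact Module.FaithfullyFlat.of_flat_of_isLocalHom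
  constructor
  · intro h
    have hRS' : Module.Flat R S' := Module.Flat.trans R S S'
    -- `S'` as an `E`-algebra
    let : Algebra E S' := ((algebraMap R' S').comp (algebraMap E R')).toAlgebra
    have hER'S' : IsScalarTower E R' S' := .of_algebraMap_eq' rfl
    have hRES' : IsScalarTower R E S' := by
      refine .of_algebraMap_eq' ?_
      rw [IsScalarTower.algebraMap_eq R R' S', IsScalarTower.algebraMap_eq R E R']
      rfl
    let μ : TensorProduct R S' E →ₐ[S'] S' :=
      Algebra.TensorProduct.lift (Algebra.ofId S' S') (IsScalarTower.toAlgHom R E S')
        (fun _ _ => Commute.all _ _)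
    let : Algebra (TensorProduct R S' E) S' := μ.toRingHom.toAlgebra
    have : IsScalarTower S' (TensorProduct R S' E) S' := by
      refine .of_algebraMap_eq' ?_
      ext x
      change _ = μ (algebraMap _ _ x)
      simp [μ]
    have het : Algebra.Etale (TensorProduct R S' E) S' :=
      Algebra.Etale.of_restrictScalars S' _ _
    have hfl : μ.toRingHom.Flat := by
      have : Module.Flat (TensorProduct R S' E) S' := Algebra.Smooth.flat _ _
      exact this
    have hfl1 : (Algebra.TensorProduct.includeRight : E →ₐ[R] TensorProduct R S' E).toRingHom.Flat := by
      have h1 : (algebraMap E (TensorProduct R E S')).Flat :=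
        RingHom.flat_algebraMap_iff.mpr inferInstance
      have h2 := RingHom.Flat.comp h1 (RingHom.Flat.of_bijective
        (f := (Algebra.TensorProduct.comm R E S').toRingEquiv.toRingHom)
        (Algebra.TensorProduct.comm R E S').bijective)
      convert h2 using 1
      ext x
      simp
    have hfl2 : Module.Flat E S' := by
      rw [← RingHom.flat_algebraMap_iff]
      have h2 := RingHom.Flat.comp hfl1 hfl
      convert h2 using 1
      ext x
      simp [μ]
    exact (Module.flat_iff_of_isLocalization R' P.primeCompl S').mpr hfl2
  · intro h
    have hRS' : Module.Flat R S' := Module.Flat.trans R R' S'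
    exact Groth.Agent.Desc.FlatFactor.moduleFlat_of_flat_of_faithfullyFlat R S S'

end Groth.Agent.S1164
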