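import Groth.Statements.S1168
import Groth.Agent.Picfga.ClosedMap

set_option autoImplicit false
open CategoryTheory CategoryTheory.Limits AlgebraicGeometry
universe u
open HilbD

namespace Groth.Agent.S1168

open Groth.Agent.Picfga.HilbPull Groth.Agent.Picfga.ContainLocus Groth.Agent.Picfga.ClosedMap

/-- Existence of the closed subscheme `t : T₀ ⟶ H` carrying a universal pair for `X`. -/
lemma exists_universal {X Y S : Scheme.{u}} (i : X ⟶ Y) [IsClosedImmersion i] (g : Y ⟶ S)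
    (d : ℕ) (H : Over S) (Z : HilbD.Obj g d H) (hZ : HilbD.IsUniversal g d H Z) :
    ∃ (T₀ : Over S) (t : T₀ ⟶ H) (Z₀ : HilbD.Obj (i ≫ g) d T₀),
      IsClosedImmersion t.left ∧ HilbD.pull g t Z.1 = HilbD.push i g T₀ Z₀.1 ∧
      HilbD.IsUniversal (i ≫ g) d T₀ Z₀ := by
  let K : H.left.IdealSheafData := containIdeal g Z.2.1 (jT i g H).ker
  have hK : ∀ (T : Over S) (t : T ⟶ H),
      K.comap t.left = ⊥ ↔ (jT i g T).ker ≤ HilbD.pull g t Z.1 := by
    intro T t
    rw [comap_containIdeal_eq_bot_iff, pull_ker_jT]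
  let T₀ : Over S := Over.mk (K.subschemeι ≫ H.hom)
  let t : T₀ ⟶ H := Over.homMk K.subschemeι rfl
  have ht0 : IsClosedImmersion t.left := inferInstanceAs (IsClosedImmersion K.subschemeι)
  have hmono : Mono t := by
    refine ⟨fun a b hab => ?_⟩
    ext1
    rw [← cancel_mono t.left, ← Over.comp_left, ← Over.comp_left, hab]
  have ht : (jT i g T₀).ker ≤ HilbD.pull g t Z.1 := by
    rw [← hK, comap_eq_bot_iff]
    simp [t]
  let Z₀ : HilbD.Obj (i ≫ g) d T₀ := restrictObj i g T₀ (pullObj g t Z) ht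
  have hZ₀ : HilbD.pull g t Z.1 = HilbD.push i g T₀ Z₀.1 :=
    (push_restrictObj i g T₀ (pullObj g t Z) ht).symm
  refine ⟨T₀, t, Z₀, ht0, hZ₀, ?_⟩
  intro T W
  -- the push forward of `W` is classified by a morphism `a : T ⟶ H`
  let W' : HilbD.Obj g d T := ⟨HilbD.push i g T W.1, (isFinLocFreeOfDeg_push_iff i g T W.1).mpr W.2⟩
  obtain ⟨a, ha, ha'⟩ := hZ T W'
  have hKa : K ≤ a.left.ker := by
    rw [← comap_eq_bot_iff, hK, ha]
    exact ker_le_map _ _
  let b₀ : T.left ⟶ K.subscheme := IsClosedImmersion.lift K.subschemeι a.left (by simpa using hKa)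
  have hb₀ : b₀ ≫ K.subschemeι = a.left := IsClosedImmersion.lift_fac _ _ _
  let b : T ⟶ T₀ := Over.homMk b₀ (by
    change b₀ ≫ K.subschemeι ≫ H.hom = T.hom
    rw [← Category.assoc, hb₀, Over.w a])
  have hb : b ≫ t = a := by
    ext1
    exact hb₀
  have key : ∀ c : T ⟶ T₀, HilbD.pull (i ≫ g) c Z₀.1 = W.1 ↔ c ≫ t = a := by
    intro c
    rw [← (push_injective i g T).eq_iff, ← pull_push, ← hZ₀, ← pull_comp]
    exact ⟨fun h => ha' _ h, fun h => by rw [h]; exact ha⟩
  refine ⟨b, (key b).mpr hb, fun c hc => ?_⟩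
  rw [← cancel_mono t, hb]
  exact (key c).mp hc

/-- Stacks Tag 0B97. Let i : X ⟶ Y be a closed immersion of schemes over S (structure morphisms i ≫ g and g) and suppose (H, Z) represents the degree-d Hilbert functor of points of Y over S. Then the degree-d Hilbert functor of points of X over S is representable, and for any representing pair (H', Z') the unique S-morphism H' ⟶ H classifying the image of Z' in Y ×_S H' is a closed immersion. -/
theorem result {X Y S : Scheme.{u}} (i : X ⟶ Y) [IsClosedImmersion i] (g : Y ⟶ S)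
    (d : ℕ) (H : Over S) (Z : HilbD.Obj g d H) (hZ : HilbD.IsUniversal g d H Z) :
    HilbD.Representable (i ≫ g) d ∧
    ∀ (H' : Over S) (Z' : HilbD.Obj (i ≫ g) d H') (_ : HilbD.IsUniversal (i ≫ g) d H' Z') (m : H' ⟶ H),
      HilbD.pull g m Z.1 = HilbD.push i g H' Z'.1 → IsClosedImmersion m.left := by
  obtain ⟨T₀, t, Z₀, ht0, ht, hZ₀⟩ := exists_universal i g d H Z hZ
  refine ⟨⟨T₀, Z₀, hZ₀⟩, ?_⟩
  intro H' Z' hZ' m hm
  obtain ⟨a, ha, -⟩ := hZ₀ H' Z'
  obtain ⟨b, hb, -⟩ := hZ' T₀ Z₀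
  have hab : a ≫ b = 𝟙 H' := hom_ext_of_isUniversal hZ' (by rw [pull_comp, hb, ha, pull_id])
  have hba : b ≫ a = 𝟙 T₀ := hom_ext_of_isUniversal hZ₀ (by rw [pull_comp, ha, hb, pull_id])
  have hma : m = a ≫ t := by
    apply hom_ext_of_isUniversal hZ
    rw [hm, pull_comp, ht, pull_push, ha]
  have : IsIso a.left := ⟨b.left, by rw [← Over.comp_left, hab]; rfl,
    by rw [← Over.comp_left, hba]; rfl⟩
  rw [hma, Over.comp_left]
  infer_instance

end Groth.Agent.S1168
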