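import Groth.Statements.S1174
import Groth.Agent.Desc.EtAssocSheaf

set_option autoImplicit false
open CategoryTheory CategoryTheory.Limits AlgebraicGeometry Opposite
universe u
open Desc

namespace Groth.Agent.S1174

/-- Stacks Tag 03DT, small etale site form (with the implicit functoriality of the source's presheaf made part of the claim). Let F be a quasi-coherent O_S-module. Then there is an abelian sheaf on the small etale site of S whose group of sections over any etale u : U ⟶ S is Γ(U, u^*F), compatibly with the restriction maps. -/
theorem result {S : Scheme.{u}} (F : S.Modules) [F.IsQuasicoherent] :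
    ∃ G : EtCoh.Ab S, EtAssoc.IsAssoc F G := by
  exact ⟨_, Groth.Agent.Desc.EtAssocSheaf.isAssoc F⟩

end Groth.Agent.S1174
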