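import Groth.Statements.S1175
import Groth.Agent.Etbase.ZarEt530
import Groth.Agent.Desc.EtAssocRes
import Groth.Agent.Desc.EtAssocQC
import Groth.Agent.Cohder.ZarUlift

set_option autoImplicit false
open CategoryTheory CategoryTheory.Limits AlgebraicGeometry Opposite
universe u
open Desc

namespace Groth.Agent.S1175

open Groth.Agent.Etbase.ZarEt530 in
/-- Isomorphic sheaves have isomorphic cohomology. -/
theorem nonempty_H_equiv {S : Scheme.{u}} {A B : EtZar.Ab S} (i : A ≅ B) (q : ℕ) :
    Nonempty (EtZar.H A q ≃+ EtZar.H B q) := by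
  refine ⟨AddEquiv.ofBijective (Sheaf.H.map i.hom q)
    ⟨fun x y h => ?_, fun y => ⟨Sheaf.H.map i.inv q y, ?_⟩⟩⟩
  · have h2 := congrArg (Sheaf.H.map i.inv q) h
    rw [← Sheaf.H.map_comp_apply, ← Sheaf.H.map_comp_apply, Iso.hom_inv_id] at h2
    rwa [Sheaf.H.map_id_apply, Sheaf.H.map_id_apply] at h2
  · rw [← Sheaf.H.map_comp_apply, Iso.inv_hom_id, Sheaf.H.map_id_apply]

/-- Stacks Tag 03DW (2), etale part. Let F be a quasi-coherent O_S-module and G an abelian sheaf on the small etale site of S with sections Γ(U, u^*F) (an associated etale sheaf of F). Then for every q the etale cohomology group H^q(S_et, G) is isomorphic to the Zariski cohomology group H^q(S, F). -/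
theorem result {S : Scheme.{u}} (F : S.Modules) [F.IsQuasicoherent] (G : EtCoh.Ab S)
    (hG : EtAssoc.IsAssoc F G) (q : ℕ) : Nonempty (EtCoh.H S G q ≃+ ULift.{u + 1} (Coh.HH S F q)) := by
  have hac := Groth.Agent.Desc.EtAssocQC.etAcyc hG
  let e1 := Groth.Agent.Etbase.ZarEt530.zequiv G hac q
  obtain ⟨i⟩ := Groth.Agent.Desc.EtAssocRes.nonempty_iso hG
  obtain ⟨e2⟩ := nonempty_H_equiv i q
  let e3 := AddEquiv.ofBijective
    (Groth.Agent.Cohder.ZarUlift.hMap (Opens.grothendieckTopology S) (Coh.toAb F) q)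
    (Groth.Agent.Cohder.ZarUlift.hMap_bijective (Opens.grothendieckTopology S) (Coh.toAb F) q)
  exact ⟨(e1.symm.trans (e2.symm.trans e3.symm)).trans AddEquiv.ulift.symm⟩

end Groth.Agent.S1175
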