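import Groth.Statements.S1180
-- import your own Groth.Agent.* helpers here
import Groth.Agent.Desc.SourceCover
import Groth.Agent.Desc.EtaleSource
import Mathlib.AlgebraicGeometry.Morphisms.UniversallyOpen

set_option autoImplicit false
open CategoryTheory CategoryTheory.Limits AlgebraicGeometry Opposite
universe u
open Desc

namespace Groth.Agent.S1180

/-- Stacks Tag 03YV (single-cover form; unramified = formally unramified and locally of finite type). Let f : X' ⟶ X be etale and surjective and g : X ⟶ Y a morphism such that f ≫ g is formally unramified and locally of finite type. Then g is formally unramified and locally of finite type. -/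
theorem result {X' X Y : Scheme.{u}} (f : X' ⟶ X) (g : X ⟶ Y) [Etale f] [Surjective f]
    [FormallyUnramified (f ≫ g)] [LocallyOfFiniteType (f ≫ g)] : FormallyUnramified g ∧ LocallyOfFiniteType g := by
  have hopen : IsOpenMap f.base := f.isOpenMap
  constructor
  · refine Groth.Agent.Desc.SourceCover.of_open_cover_source (P := @FormallyUnramified)
      (P' := @Etale) (RingHom.FormallyUnramified.stableUnderComposition
        |>.stableUnderCompositionWithLocalizationAway
          RingHom.FormallyUnramified.holdsForLocalizationAway).1 f g inferInstance hopen
      inferInstance ?_
    intro A B C _ _ _ φ ψ hψ hs h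
    algebraize [φ, ψ, ψ.comp φ]
    have : Module.FaithfullyFlat B C := Module.FaithfullyFlat.of_comap_surjective hs
    exact Groth.Agent.Desc.EtaleSource.formallyUnramified_of_faithfullyFlat A B C
  · refine Groth.Agent.Desc.SourceCover.of_open_cover_source (P := @LocallyOfFiniteType)
      (P' := @Etale) (RingHom.finiteType_stableUnderComposition
        |>.stableUnderCompositionWithLocalizationAway
          RingHom.finiteType_holdsForLocalizationAway).1 f g inferInstance hopen
      inferInstance ?_
    intro A B C _ _ _ φ ψ hψ hs h
    algebraize [φ, ψ, ψ.comp φ]
    have : Module.FaithfullyFlat B C := Module.FaithfullyFlat.of_comap_surjective hs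
    exact Groth.Agent.Desc.EtaleSource.finiteType_of_etale_faithfullyFlat A B C

end Groth.Agent.S1180
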