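import Groth.Statements.S1183
import Groth.Agent.Desc.RegAt

set_option autoImplicit false
universe u
open Desc

namespace Groth.Agent.S1183

/-- Stacks Tag 036C, ring form. Let A → B be a smooth ring map of Noetherian rings and k a natural number. If A satisfies (R_k) then so does B; and if moreover A → B is faithfully flat and B satisfies (R_k), then A does. -/
theorem result (A B : Type u) [CommRing A] [CommRing B] [IsNoetherianRing A] [IsNoetherianRing B]
    [Algebra A B] [Algebra.Smooth A B] (k : ℕ) :
    (LocCoh.HasRk k A → LocCoh.HasRk k B) ∧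
    (Module.FaithfullyFlat A B → LocCoh.HasRk k B → LocCoh.HasRk k A) := by
  refine ⟨fun h q hq hht ↦ ?_, fun hff h p hp hht ↦ ?_⟩
  · have : Algebra.IsSmoothAt A q := Algebra.FormallySmooth.comp A B _
    have h2 : (q.under A).height ≤ k := by
      refine le_trans ?_ hht
      rw [Ideal.height_eq_height_add_of_liesOver_of_hasGoingDown (q.under A) q]
      exact le_self_add
    exact Groth.Agent.Desc.RegAt.regAt_of_isSmoothAt (A := A) q (h _ h2)
  · obtain ⟨q₀, hq₀, hqp₀⟩ := Ideal.exists_isPrime_liesOver_of_faithfullyFlat (B := B) p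
    have : Algebra.IsSmoothAt A q₀ := Algebra.FormallySmooth.comp A B _
    obtain ⟨q, hq, -, hqp, hmap⟩ :=
      Groth.Agent.Desc.RegAt.exists_liesOver_map_eq_maximalIdeal p q₀
    obtain ⟨h1, h2⟩ := Groth.Agent.Desc.RegAt.regAt_and_height_of_map_eq p q hmap
    exact h2 (h q (h1.trans_le hht))

end Groth.Agent.S1183
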