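import Groth.Statements.S1186
import Groth.Agent.Pi1C.PushStrong
import Groth.Agent.Pi1C.PushEtGlue

set_option autoImplicit false
universe u
open Pi1

namespace Groth.Agent.S1186

open AlgebraicGeometry CategoryTheory CategoryTheory.Limits in
/-- Stacks Tag 0EK4, essential surjectivity part (the source gives an equivalence with the 2-fibre product of categories; here only: objects glue, and the compatibility of the two identifications over Z is not asserted). Let i : Z ⟶ X be a closed immersion and j : Z ⟶ Y integral such that every fibre of j lies in the preimage under i of some affine open of X (More on Morphisms, Situation 0ECI (1)–(3)), and let a : X ⟶ W, b : Y ⟶ W exhibit W as the pushout of i and j in the category of schemes. If U is finite etale over X and V finite etale over Y with U ×_X Z ≅ V ×_Y Z over Z, then there is a finite etale cover of W whose restrictions to X and Y are isomorphic to U and V. -/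
theorem result {Z X Y W : Scheme.{u}} (i : Z ⟶ X) [IsClosedImmersion i] (j : Z ⟶ Y) [IsIntegralHom j]
    (h3 : ∀ y : Y, ∃ U : X.Opens, IsAffineOpen U ∧ ∀ z : Z, j.base z = y → i.base z ∈ U)
    (a : X ⟶ W) (b : Y ⟶ W) (hpo : IsPushout i j a b)
    (U : FEt.Cat X) (V : FEt.Cat Y) (e : (FEt.restrict i).obj U ≅ (FEt.restrict j).obj V) :
    ∃ T : FEt.Cat W, Nonempty ((FEt.restrict a).obj T ≅ U) ∧ Nonempty ((FEt.restrict b).obj T ≅ V) := by
  exact Groth.Agent.Pi1C.PushEt.main_of_exists
    (fun i j hi hj h => Groth.Agent.Pi1C.PushEt.exists_isStrong i j hi hj h) i j h3 a b hpo U V e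

end Groth.Agent.S1186
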