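import Groth.Statements.S1188
import Groth.Agent.Pi1C.GalWhisker

set_option autoImplicit false
universe u v w
open CategoryTheory PreGaloisCategory
open Pi1

namespace Groth.Agent.S1188

/-- Stacks Tag 0BN7. Let H : C ⥤ C' be an exact functor between Galois categories and F' a fibre functor on C' such that F' ∘ H is a fibre functor on C; write h : π_1(C', F') → π_1(C, F' ∘ H) for the induced homomorphism of fundamental groups. Then h is injective if and only if for every connected object X' of C' there are an object X of C, an object Y' of C', an epimorphism Y' ⟶ X' and a monomorphism Y' ⟶ H(X). -/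
theorem result {C C' : Type u} [Category.{v} C] [Category.{v} C'] [GaloisCategory C] [GaloisCategory C']
    (H : C ⥤ C') [Limits.PreservesFiniteLimits H] [Limits.PreservesFiniteColimits H]
    (F' : C' ⥤ FintypeCat.{w}) [FiberFunctor F'] [FiberFunctor (H ⋙ F')] :
    Function.Injective (Pi1X.autWhisker H F') ↔
      ∀ X' : C', IsConnected X' → ∃ (X : C) (Y' : C') (p : Y' ⟶ X') (q : Y' ⟶ H.obj X), Epi p ∧ Mono q := by
  exact ⟨fun h X' _ => Pi1C.GalWhisker.dominated_of_injective H F' h X',
    fun h => Pi1C.GalWhisker.injective_of_dominated H F' h⟩

end Groth.Agent.S1188
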