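import Groth.Statements.S1190
import Groth.Agent.Pi1C.GalWhisker

set_option autoImplicit false
universe u v w
open CategoryTheory PreGaloisCategory
open Pi1

namespace Groth.Agent.S1190

/-- Stacks Tag 0BS9, equivalence of (1) and (2). Let H : C ⥤ C' and H' : C' ⥤ C'' be exact functors between Galois categories, F'' a fibre functor on C'' with F'' ∘ H' and F'' ∘ H' ∘ H fibre functors, and h', h the induced homomorphisms of fundamental groups. Then: h is surjective, h ∘ h' is trivial and the kernel of h is the closed normal subgroup generated by the image of h', if and only if H is fully faithful and its essential image consists exactly of those X' in C' for which H'(X') is a finite coproduct of copies of the final object. -/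
theorem result {C C' C'' : Type u} [Category.{v} C] [Category.{v} C'] [Category.{v} C'']
    [GaloisCategory C] [GaloisCategory C'] [GaloisCategory C'']
    (H : C ⥤ C') [Limits.PreservesFiniteLimits H] [Limits.PreservesFiniteColimits H]
    (H' : C' ⥤ C'') [Limits.PreservesFiniteLimits H'] [Limits.PreservesFiniteColimits H']
    (F'' : C'' ⥤ FintypeCat.{w}) [FiberFunctor F''] [FiberFunctor (H' ⋙ F'')] [FiberFunctor (H ⋙ (H' ⋙ F''))] :
    (Function.Surjective (Pi1X.autWhisker H (H' ⋙ F'')) ∧
      (∀ σ : Aut F'', Pi1X.autWhisker H (H' ⋙ F'') (Pi1X.autWhisker H' F'' σ) = 1) ∧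
      (Pi1X.autWhisker H (H' ⋙ F'')).ker = (Subgroup.normalClosure (Set.range (Pi1X.autWhisker H' F''))).topologicalClosure) ↔
    ((H.Full ∧ H.Faithful) ∧
      ∀ X' : C', (∃ X : C, Nonempty (H.obj X ≅ X')) ↔ ∃ n : ℕ, Nonempty (H'.obj X' ≅ ∐ fun _ : Fin n => ⊤_ C'')) := by
  constructor
  · rintro ⟨h1, h2, h3⟩
    refine ⟨⟨Pi1C.GalWhisker.full_of_surjective H (H' ⋙ F'') h1,
      Pi1C.GalWhisker.faithful_of_fiberFunctor H (H' ⋙ F'')⟩, fun X' => ⟨?_, ?_⟩⟩
    · rintro ⟨X, ⟨i⟩⟩
      obtain ⟨n, ⟨j⟩⟩ := (Pi1C.GalWhisker.comp_trivial_iff H H' F'').mp h2 X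
      exact ⟨n, ⟨(H'.mapIso i).symm ≪≫ j⟩⟩
    · intro hX'
      rw [Pi1C.GalWhisker.split_iff F''] at hX'
      apply Pi1C.GalWhisker.exists_obj_of_ker_acts_trivially H (H' ⋙ F'') h1 X'
      -- the subgroup acting trivially on the fibre
      let φ : Aut (H' ⋙ F'') →* Equiv.Perm ((H' ⋙ F'').obj X') :=
        MulAction.toPermHom (Aut (H' ⋙ F'')) ((H' ⋙ F'').obj X')
      have hφ : (Subgroup.normalClosure (Set.range (Pi1X.autWhisker H' F''))).topologicalClosure
          ≤ φ.ker := by
        apply Subgroup.topologicalClosure_minimal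
        · apply Subgroup.normalClosure_le_normal
          rintro _ ⟨σ, rfl⟩
          simp only [SetLike.mem_coe, MonoidHom.mem_ker]
          ext x
          exact hX' σ x
        · have : (φ.ker : Set (Aut (H' ⋙ F''))) =
              ⋂ x : (H' ⋙ F'').obj X', MulAction.stabilizer (Aut (H' ⋙ F'')) x := by
            ext σ
            simp only [SetLike.mem_coe, MonoidHom.mem_ker, Set.mem_iInter,
              MulAction.mem_stabilizer_iff]
            constructor
            · intro h x
              exact congrArg (fun f : Equiv.Perm ((H' ⋙ F'').obj X') => f x) h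
            · intro h
              ext x
              exact h x
          rw [this]
          exact isClosed_iInter fun x =>
            Subgroup.isClosed_of_isOpen _ (stabilizer_isOpen (Aut (H' ⋙ F'')) x)
      intro σ hσ x
      have h4 : σ ∈ (Pi1X.autWhisker H (H' ⋙ F'')).ker := hσ
      rw [h3] at h4
      have h5 := hφ h4
      rw [MonoidHom.mem_ker] at h5
      exact congrArg (fun f : Equiv.Perm ((H' ⋙ F'').obj X') => f x) h5
  · rintro ⟨⟨h1, h2⟩, h3⟩
    exact ⟨Pi1C.GalWhisker.surjective_of_full H (H' ⋙ F''),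
      (Pi1C.GalWhisker.comp_trivial_iff H H' F'').mpr
        (fun X => (h3 (H.obj X)).mp ⟨X, ⟨Iso.refl _⟩⟩),
      Pi1C.GalWhisker.ker_eq_of_essImage H H' F'' h3⟩

end Groth.Agent.S1190
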