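import Groth.Statements.S1191
import Groth.Agent.Flat2A.Fiber
import Mathlib.RingTheory.Ideal.AssociatedPrime.Finiteness
-- import your own Groth.Agent.* helpers here

set_option autoImplicit false
universe u
open FlatMor

namespace Groth.Agent.S1191

open Flat2A.Fiber

open TensorProduct in
/-- Stacks Tag 0CU6: for a finitely presented algebra S over R, a finitely presented S-module N and a prime q of S over p, some element of S outside q maps into every associated prime of the fibre module of N over p that is not contained in the extension of q to the fibre ring. -/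
theorem result {R S : Type u} [CommRing R] [CommRing S] [Algebra R S] [Algebra.FinitePresentation R S]
    (N : Type u) [AddCommGroup N] [Module S N] [Module R N] [IsScalarTower R S N] [Module.FinitePresentation S N]
    (p : Ideal R) [p.IsPrime] (q : Ideal S) [q.IsPrime] [q.LiesOver p] :
    ∃ g : S, g ∉ q ∧ ∀ r ∈ associatedPrimes (p.Fiber S) (FlatCA.fiberMod p S N),
      ¬ r ≤ FlatCA.fiberIdeal p q → (1 : p.ResidueField) ⊗ₜ[R] g ∈ r := by
  classical
  have : IsNoetherianRing (p.Fiber S) := fiber_isNoetherianRing p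
  have : Module.Finite (p.Fiber S) (FlatCA.fiberMod p S N) := fiberMod_finite N p
  have hfin : (associatedPrimes (p.Fiber S) (FlatCA.fiberMod p S N)).Finite := associatedPrimes.finite _ _
  have hprime := fiberIdeal_isPrime p q
  -- for each r choose g_r
  have h1 : ∀ r : Ideal (p.Fiber S), ¬ r ≤ FlatCA.fiberIdeal p q →
      ∃ g : S, g ∉ q ∧ (1 : p.ResidueField) ⊗ₜ[R] g ∈ r := by
    intro r hr
    obtain ⟨x, hx, hx'⟩ := SetLike.not_le_iff_exists.mp hr
    obtain ⟨c, s, hc, h⟩ := exists_smul_eq p x
    refine ⟨s, ?_, ?_⟩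
    · intro hs
      apply hx'
      have h1 : x = algebraMap p.ResidueField (p.Fiber S) c⁻¹ * ((1 : p.ResidueField) ⊗ₜ[R] s) := by
        rw [← Algebra.smul_def, ← h, smul_smul, inv_mul_cancel₀ hc, one_smul]
      rw [h1]
      exact Ideal.mul_mem_left _ _ ((one_tmul_mem_fiberIdeal_iff p q s).mpr hs)
    · rw [← h, Algebra.smul_def]
      exact Ideal.mul_mem_left _ _ hx
  choose! g hg hg' using h1
  let T := hfin.toFinset.filter (fun r => ¬ r ≤ FlatCA.fiberIdeal p q)
  refine ⟨∏ r ∈ T, g r, ?_, ?_⟩
  · intro hmem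
    rw [Ideal.IsPrime.prod_mem_iff] at hmem
    obtain ⟨r, hr, hr'⟩ := hmem
    exact hg r (Finset.mem_filter.mp hr).2 hr'
  · intro r hr hr'
    have hrT : r ∈ T := Finset.mem_filter.mpr ⟨hfin.mem_toFinset.mpr hr, hr'⟩
    have h2 : (1 : p.ResidueField) ⊗ₜ[R] (∏ r ∈ T, g r) =
      (Algebra.TensorProduct.includeRight (R := R) (A := p.ResidueField) (B := S)) (∏ r ∈ T, g r) := rfl
    rw [h2, map_prod]
    exact Ideal.mem_of_dvd _ (Finset.dvd_prod_of_mem _ hrT) (hg' r hr')

end Groth.Agent.S1191
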