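import Groth.Statements.S1193
import Groth.Agent.Flat2A.FiberAss
-- import your own Groth.Agent.* helpers here

set_option autoImplicit false
universe u
open FlatMor

namespace Groth.Agent.S1193

open Flat2A.Fiber Flat2A.FiberAss

open IsLocalRing in
/-- Stacks Tag 05DE: let R be a local ring, S an R-algebra whose closed fibre ring is Noetherian and N an S-module whose closed fibre module N/𝔪N is finite. Let Σ be the set of elements of S acting injectively on N/𝔪N. Then a prime of S is disjoint from Σ exactly when it lies inside an associated prime of N/𝔪N (the primes of the localization at Σ), the localization of S at Σ has finitely many maximal ideals, and an ideal of that localization is maximal exactly when it is prime and contracts to a maximal member of the set of associated primes of N/𝔪N. -/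
theorem result {R S : Type u} [CommRing R] [IsLocalRing R] [CommRing S] [Algebra R S]
    (N : Type u) [AddCommGroup N] [Module S N] [Module R N] [IsScalarTower R S N]
    [IsNoetherianRing ((maximalIdeal R).Fiber S)]
    [Module.Finite ((maximalIdeal R).Fiber S) (FlatCA.fiberMod (maximalIdeal R) S N)] :
    (∀ (q : Ideal S) [q.IsPrime], Disjoint (q : Set S) (FlatCA.nzdFiber R S N) ↔
        ∃ q' ∈ associatedPrimes S (FlatCA.fiberMod (maximalIdeal R) S N), q ≤ q') ∧
    {Q : Ideal (Localization (FlatCA.nzdFiber R S N)) | Q.IsMaximal}.Finite ∧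
    (∀ Q : Ideal (Localization (FlatCA.nzdFiber R S N)), Q.IsMaximal ↔ (Q.IsPrime ∧
        Maximal (fun r => r ∈ associatedPrimes S (FlatCA.fiberMod (maximalIdeal R) S N))
          (Q.comap (algebraMap S (Localization (FlatCA.nzdFiber R S N)))))) := by
  classical
  have hfin : (associatedPrimes S (FlatCA.fiberMod (maximalIdeal R) S N)).Finite :=
    associatedPrimes_fiberMod_finite (maximalIdeal R) N
  have key : ∀ (q : Ideal S) [q.IsPrime], Disjoint (q : Set S) (FlatCA.nzdFiber R S N) ↔
        ∃ q' ∈ associatedPrimes S (FlatCA.fiberMod (maximalIdeal R) S N), q ≤ q' := by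
    intro q hq
    constructor
    · intro hd
      have hsub : (q : Set S) ⊆ ⋃ q' ∈ associatedPrimes S (FlatCA.fiberMod (maximalIdeal R) S N), (q' : Set S) := by
        intro s hs
        have h1 : s ∉ FlatCA.nzdFiber R S N := fun h => Set.disjoint_left.mp hd hs h
        rw [zeroDivisors_fiberMod] at h1
        push Not at h1
        obtain ⟨q', hq', hs'⟩ := h1
        simp only [Set.mem_iUnion]
        exact ⟨q', hq', hs'⟩
      exact (Ideal.subset_union_prime_finite hfin (f := id) ⊤ ⊤ (fun i hi _ _ => hi.1)).mp hsub
    · rintro ⟨q', hq', hle⟩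
      rw [Set.disjoint_left]
      intro s hs hs'
      exact (zeroDivisors_fiberMod (maximalIdeal R) N s).mp hs' q' hq' (hle hs)
  have key2 : ∀ Q : Ideal (Localization (FlatCA.nzdFiber R S N)), Q.IsMaximal ↔ (Q.IsPrime ∧
        Maximal (fun r => r ∈ associatedPrimes S (FlatCA.fiberMod (maximalIdeal R) S N))
          (Q.comap (algebraMap S (Localization (FlatCA.nzdFiber R S N))))) := by
    intro Q
    have hdisj : ∀ Q' : Ideal (Localization (FlatCA.nzdFiber R S N)), Q'.IsPrime →
        Disjoint ((Q'.comap (algebraMap S (Localization (FlatCA.nzdFiber R S N))) : Ideal S) : Set S) (FlatCA.nzdFiber R S N) := by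
      intro Q' hQ'
      exact ((IsLocalization.isPrime_iff_isPrime_disjoint (FlatCA.nzdFiber R S N) _ Q').mp hQ').2.symm
    -- any associated prime comes from the localization
    have hass : ∀ r ∈ associatedPrimes S (FlatCA.fiberMod (maximalIdeal R) S N),
        (Ideal.map (algebraMap S (Localization (FlatCA.nzdFiber R S N))) r).IsPrime ∧
        (Ideal.map (algebraMap S (Localization (FlatCA.nzdFiber R S N))) r).comap (algebraMap S (Localization (FlatCA.nzdFiber R S N))) = r := by
      intro r hr
      have hrp : r.IsPrime := hr.1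
      have hd := ((key r).mpr ⟨r, hr, le_rfl⟩).symm
      exact ⟨IsLocalization.isPrime_of_isPrime_disjoint _ _ r hrp hd,
        IsLocalization.under_map_of_isPrime_disjoint (FlatCA.nzdFiber R S N) _ hrp hd⟩
    constructor
    · intro hQ
      have hQp : Q.IsPrime := hQ.isPrime
      refine ⟨hQp, ?_⟩
      have hle : ∀ r ∈ associatedPrimes S (FlatCA.fiberMod (maximalIdeal R) S N),
          Q.comap (algebraMap S (Localization (FlatCA.nzdFiber R S N))) ≤ r →
          r = Q.comap (algebraMap S (Localization (FlatCA.nzdFiber R S N))) := by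
        intro r hr hle
        obtain ⟨h1, h2⟩ := hass r hr
        have h3 : Q ≤ Ideal.map (algebraMap S (Localization (FlatCA.nzdFiber R S N))) r := by
          rw [← IsLocalization.map_under (FlatCA.nzdFiber R S N) _ Q]
          exact Ideal.map_mono hle
        have h4 := hQ.eq_of_le h1.ne_top h3
        rw [h4, h2]
      obtain ⟨r, hr, hle'⟩ := (key (Q.comap (algebraMap S (Localization (FlatCA.nzdFiber R S N))))).mp (hdisj Q hQp)
      have h5 := hle r hr hle'
      refine ⟨?_, ?_⟩
      · rw [← h5]; exact hr
      · intro r' hr' hle''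
        exact (hle r' hr' hle'').le
    · rintro ⟨hQp, hmax⟩
      refine ⟨⟨hQp.ne_top, ?_⟩⟩
      intro J hJ
      by_contra hJ'
      obtain ⟨M, hM, hJM⟩ := Ideal.exists_le_maximal J hJ'
      have hMp : M.IsPrime := hM.isPrime
      obtain ⟨r, hr, hle'⟩ := (key (M.comap (algebraMap S (Localization (FlatCA.nzdFiber R S N))))).mp (hdisj M hMp)
      have h6 : Q.comap (algebraMap S (Localization (FlatCA.nzdFiber R S N))) ≤ M.comap (algebraMap S (Localization (FlatCA.nzdFiber R S N))) :=
        Ideal.comap_mono (hJ.le.trans hJM)
      have h7 := hmax.2 hr (h6.trans hle')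
      have h8 : M.comap (algebraMap S (Localization (FlatCA.nzdFiber R S N))) ≤ Q.comap (algebraMap S (Localization (FlatCA.nzdFiber R S N))) :=
        hle'.trans h7
      have h9 : M ≤ Q := by
        rw [← IsLocalization.map_under (FlatCA.nzdFiber R S N) _ M, ← IsLocalization.map_under (FlatCA.nzdFiber R S N) _ Q]
        exact Ideal.map_mono h8
      exact absurd (hJM.trans h9) (not_le_of_gt hJ)
  refine ⟨key, ?_, key2⟩
  apply Set.Finite.of_finite_image (f := fun Q => Q.comap (algebraMap S (Localization (FlatCA.nzdFiber R S N))))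
  · apply hfin.subset
    rintro _ ⟨Q, hQ, rfl⟩
    exact ((key2 Q).mp hQ).2.1
  · intro Q _ Q' _ h
    have h' : Q.comap (algebraMap S (Localization (FlatCA.nzdFiber R S N))) = Q'.comap (algebraMap S (Localization (FlatCA.nzdFiber R S N))) := h
    rw [← IsLocalization.map_under (FlatCA.nzdFiber R S N) _ Q, ← IsLocalization.map_under (FlatCA.nzdFiber R S N) _ Q']
    exact congrArg _ h'

end Groth.Agent.S1193
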