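import Groth.Statements.S1194
import Groth.Agent.S2107
import Groth.Agent.Flat2A.ClosedFiber
-- import your own Groth.Agent.* helpers here

set_option autoImplicit false
universe u
open FlatMor

namespace Groth.Agent.S1194

open IsLocalRing in
/-- Stacks Tag 05DF: let R → S be a local homomorphism of local rings which is essentially of finite presentation, and N a finitely presented S-module flat over R. Then multiplication by any element of S acting injectively on N/𝔪_R N is a universally injective map of R-modules on N, and the localization map from N to its localization at all such elements is universally injective over R. -/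
theorem result {R S : Type u} [CommRing R] [IsLocalRing R] [CommRing S] [IsLocalRing S] [Algebra R S]
    [IsLocalHom (algebraMap R S)] (hS : FlatCA.EssFinitePresentation R S)
    (N : Type u) [AddCommGroup N] [Module S N] [Module R N] [IsScalarTower R S N] [Module.FinitePresentation S N] [Module.Flat R N] :
    (∀ s ∈ FlatCA.nzdFiber R S N, FlatCA.UnivInj R ((LinearMap.lsmul S N s).restrictScalars R)) ∧
    FlatCA.UnivInj R ((LocalizedModule.mkLinearMap (FlatCA.nzdFiber R S N) N).restrictScalars R) := by
  have key : ∀ s ∈ FlatCA.nzdFiber R S N, FlatCA.UnivInj R ((LinearMap.lsmul S N s).restrictScalars R) := by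
    intro s hs
    have hs' := (Flat2A.ClosedFiber.mem_nonZeroSMulDivisors_fiberMod_iff (maximalIdeal R) N s).mp hs
    obtain ⟨hinj, hfl⟩ := Groth.Agent.S2107.result (R := R) (S := S) (M := N) (N := N) hS
      (LinearMap.lsmul S N s) hs'
    intro Q _ _
    refine LinearMap.lTensor_injective_of_exact_of_flat
      ((LinearMap.range (LinearMap.lsmul S N s)).mkQ.restrictScalars R) ?_ _ hinj ?_ Q
    · exact Submodule.mkQ_surjective _
    · intro y
      change (LinearMap.range (LinearMap.lsmul S N s)).mkQ y = 0 ↔ _
      rw [Submodule.mkQ_apply, Submodule.Quotient.mk_eq_zero]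
      rfl
  refine ⟨key, ?_⟩
  have h1 : FlatCA.UnivInj R ((TensorProduct.mk S (Localization (FlatCA.nzdFiber R S N)) N 1).restrictScalars R) := by
    refine Flat2A.UnivInj.univInj_mk_of_forall N ?_
    intro Q _ _ x hx
    have h2 := (IsLocalization.map_algebraMap_ne_top_iff_disjoint (FlatCA.nzdFiber R S N)
      (Localization (FlatCA.nzdFiber R S N)) (Flat2A.UnivInj.ann S x)).not
    rw [not_not] at h2
    have h3 := h2.mp hx
    rw [Set.not_disjoint_iff] at h3
    obtain ⟨s, hs, hs'⟩ := h3
    have h4 := key s hs
    rw [Flat2A.UnivInj.univInj_smul_iff] at h4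
    exact h4 Q x ((Flat2A.UnivInj.mem_ann x s).mp hs')
  intro Q _ _
  have h5 := h1 Q
  let e := (LocalizedModule.equivTensorProduct (FlatCA.nzdFiber R S N) N)
  have h6 : (TensorProduct.mk S (Localization (FlatCA.nzdFiber R S N)) N 1).restrictScalars R =
      (e.restrictScalars R).toLinearMap ∘ₗ
        ((LocalizedModule.mkLinearMap (FlatCA.nzdFiber R S N) N).restrictScalars R) := by
    ext n
    simp [e, Localization.mk_one]
  rw [h6, LinearMap.lTensor_comp] at h5
  exact Function.Injective.of_comp (f := ((e.restrictScalars R).toLinearMap).lTensor Q) h5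

end Groth.Agent.S1194
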