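import Groth.Statements.S1196
import Groth.Agent.S1193
import Groth.Agent.S1194
import Groth.Agent.Flat2A.UnivInj
import Groth.Agent.Flat2A.EssFT
-- import your own Groth.Agent.* helpers here

set_option autoImplicit false
universe u
open FlatMor

namespace Groth.Agent.S1196

open TensorProduct IsLocalRing in
/-- Stacks Tag 05DG: let R → S be a local homomorphism of local rings, essentially of finite presentation, N a finitely presented S-module flat over R, and S' a flat S-algebra such that every prime of S which is an associated prime of N/𝔪_R N is the contraction of a prime of S'. Then N → S' ⊗_S N is universally injective as a map of R-modules. -/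
theorem result {R S S' : Type u} [CommRing R] [IsLocalRing R] [CommRing S] [IsLocalRing S] [CommRing S'] [Algebra R S] [IsLocalHom (algebraMap R S)] [Algebra S S'] [Algebra R S'] [IsScalarTower R S S']
    (hS : FlatCA.EssFinitePresentation R S) [Module.Flat S S']
    (N : Type u) [AddCommGroup N] [Module S N] [Module R N] [IsScalarTower R S N] [Module.FinitePresentation S N] [Module.Flat R N]
    (h : ∀ q ∈ associatedPrimes S (FlatCA.fiberMod (maximalIdeal R) S N),
      ∃ q' : Ideal S', q'.IsPrime ∧ q'.comap (algebraMap S S') = q) :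
    FlatCA.UnivInj R ((TensorProduct.mk S S' N 1).restrictScalars R) := by
  have hess : Algebra.EssFiniteType R S := Flat2A.EssFT.essFiniteType hS
  have : IsNoetherianRing ((maximalIdeal R).Fiber S) :=
    Flat2A.EssFT.fiber_isNoetherianRing_of_essFiniteType _
  have : Module.Finite ((maximalIdeal R).Fiber S) (FlatCA.fiberMod (maximalIdeal R) S N) :=
    Flat2A.Fiber.fiberMod_finite N _
  refine Flat2A.UnivInj.univInj_mk_of_forall N ?_
  intro Q _ _ x hx
  by_contra hx0
  have hdisj : Disjoint ((Flat2A.UnivInj.ann S x : Ideal S) : Set S) (FlatCA.nzdFiber R S N) := by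
    rw [Set.disjoint_left]
    intro s hs hs'
    have h1 := (Groth.Agent.S1194.result hS N).1 s hs'
    rw [Flat2A.UnivInj.univInj_smul_iff] at h1
    exact hx0 (h1 Q x ((Flat2A.UnivInj.mem_ann x s).mp hs))
  obtain ⟨q, hq, hle, hd⟩ := Ideal.exists_le_prime_disjoint _ _ hdisj
  obtain ⟨q₁, hq₁, hle₁⟩ := ((Groth.Agent.S1193.result (R := R) (S := S) N).1 q).mp hd
  obtain ⟨q', hq', hq'c⟩ := h q₁ hq₁
  have h2 : (Flat2A.UnivInj.ann S x).map (algebraMap S S') ≤ q' := by
    rw [Ideal.map_le_iff_le_comap, hq'c]
    exact hle.trans hle₁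
  rw [hx] at h2
  exact hq'.ne_top (top_le_iff.mp h2)

end Groth.Agent.S1196
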