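import Groth.Statements.S1206
import Mathlib.RingTheory.LocalRing.MaximalIdeal.Basic
import Mathlib.RingTheory.LocalRing.RingHom.Basic
import Mathlib.RingTheory.LocalRing.ResidueField.Basic

set_option autoImplicit false
universe u
open FlatMor

namespace Groth.Agent.S1206

/-- If every prime containing `K` contains a member of `𝒮`, then `K` contains a member of `𝒮`. -/
theorem exists_le_of_cover {A : Type u} [CommRing A] (𝒮 : Set (Ideal A)) (hne : 𝒮.Nonempty)
    (hfg : ∀ I ∈ 𝒮, I.FG) (hmul : ∀ I ∈ 𝒮, ∀ J ∈ 𝒮, I * J ∈ 𝒮) (K : Ideal A)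
    (hcov : ∀ (p : Ideal A), p.IsPrime → K ≤ p → ∃ I ∈ 𝒮, I ≤ p) : ∃ I ∈ 𝒮, I ≤ K := by
  by_contra hcon
  push Not at hcon
  -- Zorn
  obtain ⟨J, hKJ, hJmax⟩ := zorn_le_nonempty₀ {J : Ideal A | ∀ I ∈ 𝒮, ¬ I ≤ J} (by
    intro c hc hchain y hy
    refine ⟨sSup c, ?_, fun z hz => le_sSup hz⟩
    intro I hI hle
    have hdir : DirectedOn (· ≤ ·) c := hchain.directedOn
    have hfg' := (Submodule.fg_iff_compact I).1 (hfg I hI)
    obtain ⟨J, hJ, hIJ⟩ := (CompleteLattice.isCompactElement_iff_le_of_directed_sSup_le (Ideal A) I).1 hfg' c ⟨y, hy⟩ hdir hle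
    exact hc hJ I hI hIJ) K hcon
  have hprime : J.IsPrime := by
    refine ⟨?_, fun {a b} hab => ?_⟩
    · rintro rfl
      obtain ⟨I, hI⟩ := hne
      exact hJmax.prop I hI le_top
    · by_contra hab'
      push Not at hab'
      obtain ⟨ha, hb⟩ := hab'
      have aux : ∀ x : A, x ∉ J → ∃ I ∈ 𝒮, I ≤ J ⊔ Ideal.span {x} := by
        intro x hx
        by_contra h
        push Not at h
        have := hJmax.le_of_ge h le_sup_left
        exact hx (this (Ideal.mem_sup_right (Ideal.mem_span_singleton_self x)))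
      obtain ⟨I₁, hI₁, h₁⟩ := aux a ha
      obtain ⟨I₂, hI₂, h₂⟩ := aux b hb
      refine hJmax.prop (I₁ * I₂) (hmul _ hI₁ _ hI₂) ?_
      refine (Ideal.mul_mono h₁ h₂).trans ?_
      rw [Ideal.mul_sup, Ideal.sup_mul, Ideal.sup_mul, Ideal.span_singleton_mul_span_singleton]
      refine sup_le (sup_le Ideal.mul_le_left Ideal.mul_le_right) (sup_le Ideal.mul_le_left ?_)
      rwa [Ideal.span_singleton_le_iff_mem]
  obtain ⟨I, hI, hIJ⟩ := hcov J hprime hKJ
  exact hJmax.prop I hI hIJ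

/-- Stacks Tag 0ATA: let A be a local domain which is not a field and 𝒮 a set of finitely generated ideals of A, closed under products, such that the union of the closed sets V(I), I ∈ 𝒮, is exactly the set of nonzero primes (every nonzero prime contains a member of 𝒮 and no member is zero). Then the intersection of all members of 𝒮 is zero. -/
theorem result (A : Type u) [CommRing A] [IsDomain A] [IsLocalRing A] (hA : ¬ IsField A)
    (𝒮 : Set (Ideal A)) (hfg : ∀ I ∈ 𝒮, I.FG) (hmul : ∀ I ∈ 𝒮, ∀ J ∈ 𝒮, I * J ∈ 𝒮)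
    (hne : ∀ I ∈ 𝒮, I ≠ ⊥) (hcov : ∀ (p : Ideal A), p.IsPrime → p ≠ ⊥ → ∃ I ∈ 𝒮, I ≤ p) :
    sInf 𝒮 = ⊥ := by
  have hm : IsLocalRing.maximalIdeal A ≠ ⊥ := fun h => hA (IsLocalRing.isField_iff_maximalIdeal_eq.2 h)
  obtain ⟨I₀, hI₀, hI₀m⟩ := hcov (IsLocalRing.maximalIdeal A) inferInstance hm
  rw [eq_bot_iff]
  intro f hf
  by_contra hf0
  have hf0' : f ≠ 0 := fun h => hf0 (by simp [h])
  have hfm : f ∈ IsLocalRing.maximalIdeal A := hI₀m (Submodule.mem_sInf.1 hf I₀ hI₀)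
  obtain ⟨I, hI, hIf⟩ := exists_le_of_cover 𝒮 ⟨I₀, hI₀⟩ hfg hmul (Ideal.span {f ^ 2}) (by
    intro p hp hle
    refine hcov p hp ?_
    rintro rfl
    rw [Ideal.span_singleton_le_iff_mem, Ideal.mem_bot] at hle
    exact pow_ne_zero 2 hf0' hle)
  have : f ∈ Ideal.span {f ^ 2} := hIf (Submodule.mem_sInf.1 hf I hI)
  rw [Ideal.mem_span_singleton] at this
  obtain ⟨c, hc⟩ := this
  have h1 : f * c = 1 := by
    have : f * (f * c) = f * 1 := by rw [mul_one, ← mul_assoc, ← pow_two, ← hc]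
    exact mul_left_cancel₀ hf0' this
  exact (IsLocalRing.mem_maximalIdeal f).1 hfm (IsUnit.of_mul_eq_one c h1)

end Groth.Agent.S1206
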