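import Groth.Statements.S1207
import Groth.Agent.S1206
import Mathlib.RingTheory.Ideal.Quotient.Operations
import Mathlib.RingTheory.LocalRing.Quotient

set_option autoImplicit false
universe u
open FlatMor

namespace Groth.Agent.S1207

/-- Stacks Tag 0ATB: let A be a local ring and I, J ideals with J finitely generated, J proper (an assumption the source leaves implicit; for J = A the assertion fails) and I ⊆ J^n for all n ≥ 1. Then every prime p not containing J which is maximal among the primes not containing J (a closed point of Spec A ∖ V(J)) contains I. -/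
theorem result (A : Type u) [CommRing A] [IsLocalRing A] (I J : Ideal A) (hJ : J.FG) (hJ1 : J ≠ ⊤)
    (hI : ∀ n : ℕ, 1 ≤ n → I ≤ J ^ n) (p : Ideal A) [p.IsPrime] (hp : ¬ J ≤ p)
    (hmax : ∀ (p' : Ideal A), p'.IsPrime → p ≤ p' → ¬ J ≤ p' → p' = p) : I ≤ p := by
  have hloc : IsLocalRing (A ⧸ p) := IsLocalRing.of_surjective' (Ideal.Quotient.mk p) Ideal.Quotient.mk_surjective
  have hJ' : J.map (Ideal.Quotient.mk p) ≠ ⊥ := by
    intro h
    rw [Ideal.map_eq_bot_iff_le_ker, Ideal.mk_ker] at h
    exact hp h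
  have key := Groth.Agent.S1206.result (A ⧸ p) (by
      intro hf
      rw [← Ideal.Quotient.maximal_ideal_iff_isField_quotient] at hf
      have := IsLocalRing.eq_maximalIdeal hf
      exact hp (this ▸ IsLocalRing.le_maximalIdeal hJ1))
    {K | ∃ n : ℕ, 1 ≤ n ∧ K = (J ^ n).map (Ideal.Quotient.mk p)} (by
      rintro _ ⟨n, hn, rfl⟩
      exact (hJ.pow).map _) (by
      rintro _ ⟨n, hn, rfl⟩ _ ⟨m, hm, rfl⟩
      exact ⟨n + m, by omega, by rw [pow_add, Ideal.map_mul]⟩) (by
      rintro _ ⟨n, hn, rfl⟩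
      rw [Ideal.map_pow]
      exact pow_ne_zero n hJ') (by
      intro q hq hq0
      refine ⟨_, ⟨1, le_rfl, rfl⟩, ?_⟩
      rw [pow_one, Ideal.map_le_iff_le_comap]
      by_contra hle
      have h1 := hmax (q.comap (Ideal.Quotient.mk p)) inferInstance (by
        intro x hx
        rw [Ideal.mem_comap, Ideal.Quotient.eq_zero_iff_mem.2 hx]
        exact q.zero_mem) hle
      apply hq0
      rw [← Ideal.map_comap_of_surjective _ Ideal.Quotient.mk_surjective q, h1, Ideal.map_quotient_self])
  have h2 : I.map (Ideal.Quotient.mk p) ≤ sInf {K | ∃ n : ℕ, 1 ≤ n ∧ K = (J ^ n).map (Ideal.Quotient.mk p)} := by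
    refine le_sInf ?_
    rintro _ ⟨n, hn, rfl⟩
    exact Ideal.map_mono (hI n hn)
  rw [key, le_bot_iff, Ideal.map_eq_bot_iff_le_ker, Ideal.mk_ker] at h2
  exact h2

end Groth.Agent.S1207
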