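import Groth.Statements.S1209
import Groth.Agent.Flat2A.LocalFlatEssFP

set_option autoImplicit false
universe u
open FlatMor

namespace Groth.Agent.S1209

/-- Stacks Tag 05I8 (ring form): let S be a finite type R-algebra and q a prime of S, over p, such that S_q is flat over R. Then S_q is essentially of finite presentation over R (equivalently over R_p, as in the source, since R_p is itself a localization of R). -/
theorem result {R S : Type u} [CommRing R] [CommRing S] [Algebra R S] [Algebra.FiniteType R S]
    (q : Ideal S) [q.IsPrime] [Module.Flat R (Localization.AtPrime q)] :
    FlatCA.EssFinitePresentation R (Localization.AtPrime q) := by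
  exact Groth.Agent.Flat2A.LocalFlatEssFP.essFinitePresentation_of_flat q

end Groth.Agent.S1209
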