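import Groth.Statements.S1211
import Groth.Agent.S1210

set_option autoImplicit false
universe u
open FlatMor

namespace Groth.Agent.S1211

open Groth.Agent.Flat2B

/-- Descending the conclusion along a surjection `P → S`. -/
theorem transfer {R S P A : Type u} [CommRing R] [CommRing S] [CommRing P] [CommRing A]
    [Algebra R S] [Algebra R P] [Algebra P S] [IsScalarTower R P S] [Algebra R A]
    (N : Type u) [AddCommGroup N] [Module S N] [Module P N] [IsScalarTower P S N]
    (q : Ideal S) [q.IsPrime] (m : Ideal A)
    (SA NA : Type u) [CommRing SA] [Algebra R SA] [Algebra S SA] [Algebra A SA]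
    [IsScalarTower R S SA] [IsScalarTower R A SA] [Algebra.IsPushout R S A SA]
    [AddCommGroup NA] [Module SA NA] [Module S NA] [IsScalarTower S SA NA]
    [Module A NA] [IsScalarTower A SA NA]
    (f : N →ₗ[S] NA) (hf : IsBaseChange SA f)
    (H : ∀ (PA NA : Type u) [CommRing PA] [Algebra R PA] [Algebra P PA] [Algebra A PA]
        [IsScalarTower R P PA] [IsScalarTower R A PA]
        [Algebra.IsPushout R P A PA]
        [AddCommGroup NA] [Module PA NA] [Module P NA] [IsScalarTower P PA NA]
        [Module A NA] [IsScalarTower A PA NA]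
        (f : N →ₗ[P] NA), IsBaseChange PA f →
        ∃ g : PA, (∀ (Q : Ideal PA) [Q.IsPrime], Q.LiesOver (q.comap (algebraMap P S)) →
          Q.LiesOver m → g ∉ Q) ∧
          Module.Flat A (LocalizedModule (Submonoid.powers g) NA)) :
    ∃ g : SA, (∀ (Q : Ideal SA) [Q.IsPrime], Q.LiesOver q → Q.LiesOver m → g ∉ Q) ∧
      Module.Flat A (LocalizedModule (Submonoid.powers g) NA) := by
  obtain ⟨PA, -, _, _, _, _, _, _, _, -⟩ :=
    PushModel.exists_models (R := R) (S := P) (A := A) N
  let _ : Algebra P SA := ((algebraMap S SA).comp (algebraMap P S)).toAlgebra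
  have : IsScalarTower P S SA := IsScalarTower.of_algebraMap_eq' rfl
  have : IsScalarTower R P SA := IsScalarTower.of_algebraMap_eq fun r => by
    rw [IsScalarTower.algebraMap_apply P S SA, ← IsScalarTower.algebraMap_apply R P S,
      ← IsScalarTower.algebraMap_apply R S SA]
  let φ : PA →ₐ[R] SA := Algebra.pushoutDesc PA (IsScalarTower.toAlgHom R P SA)
    (IsScalarTower.toAlgHom R A SA) (fun _ _ => mul_comm _ _)
  have hφ1 : ∀ x, φ (algebraMap P PA x) = algebraMap P SA x := fun x =>
    Algebra.pushoutDesc_left PA _ _ _ x
  have hφ2 : ∀ x, φ (algebraMap A PA x) = algebraMap A SA x := fun x =>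
    Algebra.pushoutDesc_right PA _ _ _ x
  let _ : Algebra PA SA := φ.toRingHom.toAlgebra
  have : IsScalarTower P PA SA := IsScalarTower.of_algebraMap_eq fun x => (hφ1 x).symm
  have : IsScalarTower A PA SA := IsScalarTower.of_algebraMap_eq fun x => (hφ2 x).symm
  have : Algebra.IsPushout P S PA SA := StepBC.pushout_right R P S A PA SA
  let _ : Module PA NA := Module.compHom NA (algebraMap PA SA)
  have : IsScalarTower PA SA NA := IsScalarTower.of_algebraMap_smul fun _ _ => rfl
  let _ : Module P NA := Module.compHom NA (algebraMap P SA)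
  have : IsScalarTower P SA NA := IsScalarTower.of_algebraMap_smul fun _ _ => rfl
  have : IsScalarTower P S NA := IsScalarTower.of_algebraMap_smul fun r x => by
    rw [← algebraMap_smul SA (algebraMap P S r) x, ← IsScalarTower.algebraMap_apply P S SA,
      algebraMap_smul]
  have : IsScalarTower P PA NA := IsScalarTower.of_algebraMap_smul fun r x => by
    rw [← algebraMap_smul SA (algebraMap P PA r) x, ← IsScalarTower.algebraMap_apply P PA SA,
      algebraMap_smul]
  have : IsScalarTower A PA NA := IsScalarTower.of_algebraMap_smul fun r x => by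
    rw [← algebraMap_smul SA (algebraMap A PA r) x, ← IsScalarTower.algebraMap_apply A PA SA,
      algebraMap_smul]
  obtain ⟨g, hg, hfl⟩ := H PA NA (f.restrictScalars P) (BCTools.isBaseChange_of_isPushout f hf)
  refine ⟨algebraMap PA SA g, ?_, (FlatEt.flat_away_algebraMap_iff NA g).2 hfl⟩
  intro Q _ h1 h2 hgQ
  refine hg (Q.comap (algebraMap PA SA)) ?_ ?_ hgQ
  · refine ⟨?_⟩
    rw [h1.over]
    ext s
    rw [Ideal.under_def, Ideal.under_def, Ideal.mem_comap, Ideal.mem_comap, Ideal.mem_comap,
      Ideal.mem_comap, ← IsScalarTower.algebraMap_apply P PA SA, ← IsScalarTower.algebraMap_apply P S SA]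
  · refine ⟨?_⟩
    rw [h2.over]
    ext s
    rw [Ideal.under_def, Ideal.under_def, Ideal.mem_comap, Ideal.mem_comap, Ideal.mem_comap,
      ← IsScalarTower.algebraMap_apply A PA SA]

open TensorProduct in
/-- Stacks Tag 05KT (ring form, X = Spec S and S = Spec R affine): let S be a finite type R-algebra, N a finite S-module and q a prime of S over p with N_q flat over R. Then there is an étale R-algebra R' with a prime p' over p having the same residue field such that, writing A for the local ring of R' at p', S_A and N_A for the base changes: some element g of S_A outside every prime over both q and the maximal ideal of A has the localization of N_A at g flat over A. -/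
theorem result {R S : Type u} [CommRing R] [CommRing S] [Algebra R S] [Algebra.FiniteType R S]
    (N : Type u) [AddCommGroup N] [Module S N] [Module R N] [IsScalarTower R S N] [Module.Finite S N]
    (p : Ideal R) [p.IsPrime] (q : Ideal S) [q.IsPrime] [q.LiesOver p] (hflat : FlatCA.FlatAt R q N) :
    ∃ (R' : Type u) (_ : CommRing R') (_ : Algebra R R') (p' : Ideal R') (_ : p'.IsPrime), FlatCA.IsEtaleNhd R R' p p' ∧
      ∀ (SA NA : Type u) [CommRing SA] [Algebra R SA] [Algebra S SA] [Algebra (Localization.AtPrime p') SA]
        [IsScalarTower R S SA] [IsScalarTower R (Localization.AtPrime p') SA]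
        [Algebra.IsPushout R S (Localization.AtPrime p') SA]
        [AddCommGroup NA] [Module SA NA] [Module S NA] [IsScalarTower S SA NA]
        [Module (Localization.AtPrime p') NA] [IsScalarTower (Localization.AtPrime p') SA NA]
        (f : N →ₗ[S] NA), IsBaseChange SA f →
        ∃ g : SA, (∀ (Q : Ideal SA) [Q.IsPrime], Q.LiesOver q → Q.LiesOver (IsLocalRing.maximalIdeal (Localization.AtPrime p')) → g ∉ Q) ∧
          Module.Flat (Localization.AtPrime p') (LocalizedModule (Submonoid.powers g) NA) := by
  obtain ⟨n, φ, hφ⟩ := (Algebra.FiniteType.iff_quotient_mvPolynomial'' (R := R) (S := S)).1 inferInstance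
  let P := MvPolynomial (Fin n) R
  let _ : Algebra P S := φ.toRingHom.toAlgebra
  have : IsScalarTower R P S := IsScalarTower.of_algebraMap_eq fun r => (φ.commutes r).symm
  have hsurj : Function.Surjective (algebraMap P S) := hφ
  let _ : Module P N := Module.compHom N (algebraMap P S)
  have : IsScalarTower P S N := IsScalarTower.of_algebraMap_smul fun _ _ => rfl
  have : IsScalarTower R P N := IsScalarTower.of_algebraMap_smul fun r x => by
    rw [← algebraMap_smul S (algebraMap R P r) x, ← IsScalarTower.algebraMap_apply R P S,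
      algebraMap_smul]
  have : Module.Finite P S := Module.Finite.of_surjective (Algebra.linearMap P S) hsurj
  have : Module.Finite P N := Module.Finite.trans S N
  have hqp : (q.comap (algebraMap P S)).LiesOver p := by
    refine ⟨?_⟩
    rw [‹q.LiesOver p›.over]
    ext s
    rw [Ideal.under_def, Ideal.under_def, Ideal.mem_comap, Ideal.mem_comap, Ideal.mem_comap,
      ← IsScalarTower.algebraMap_apply R P S]
  have hflatP : FlatCA.FlatAt R (q.comap (algebraMap P S)) N :=
    (LocTransfer.flatAt_iff_of_surjective hsurj (q.comap (algebraMap P S)) q rfl N).2 hflat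
  obtain ⟨R', _, _, p', _, hp, h⟩ := S1210.result (R := R) (S := P) N p _ hflatP
  refine ⟨R', inferInstance, inferInstance, p', inferInstance, hp, ?_⟩
  intro SA NA _ _ _ _ _ _ _ _ _ _ _ _ _ f hf
  refine transfer (R := R) (P := P) N q _ SA NA f hf ?_
  intro PA NA _ _ _ _ _ _ _ _ _ _ _ _ _ f hf
  obtain ⟨g, h1, -, h2⟩ := h PA NA f hf
  exact ⟨g, h1, h2⟩

end Groth.Agent.S1211
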