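import Groth.Statements.S1212
import Groth.Agent.Flat2A.ResInj
import Groth.Agent.S1193
-- import your own Groth.Agent.* helpers here

set_option autoImplicit false
universe u
open FlatMor

namespace Groth.Agent.S1212

open Flat2A.Fiber Flat2A.FiberAss Flat2A.ResInj

open TensorProduct in
theorem rTensor_lsmul {R S : Type u} [CommRing R] [CommRing S] [Algebra R S]
    {N : Type u} [AddCommGroup N] [Module S N] [Module R N] [IsScalarTower R S N]
    {Q : Type u} [AddCommGroup Q] [Module R Q] (s : S) (y : N ⊗[R] Q) :
    ((LinearMap.lsmul S N s).restrictScalars R).rTensor Q y = s • y := by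
  induction y using TensorProduct.induction_on with
  | zero => simp
  | tmul a b => rfl
  | add a b ha hb => rw [map_add, ha, hb, smul_add]


open TensorProduct IsLocalRing in
/-- Stacks Tag 05FV: let R be a local ring, S an R-algebra and N an S-module which is projective as an R-module, such that the closed fibre ring of S is Noetherian and the closed fibre module of N is finite over it. Then every prime q of S, over p in R, which is an associated prime (the annihilator of an element) of the S-module N ⊗_R κ(p) satisfies q + 𝔪_R S ≠ S. -/
theorem result {R S : Type u} [CommRing R] [IsLocalRing R] [CommRing S] [Algebra R S]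
    (N : Type u) [AddCommGroup N] [Module S N] [Module R N] [IsScalarTower R S N] [Module.Projective R N]
    [IsNoetherianRing ((maximalIdeal R).Fiber S)]
    [Module.Finite ((maximalIdeal R).Fiber S) (FlatCA.fiberMod (maximalIdeal R) S N)]
    (p : Ideal R) [p.IsPrime] (q : Ideal S) [q.IsPrime] [q.LiesOver p]
    (hq : q ∈ FlatCA.ass S (N ⊗[R] p.ResidueField)) :
    q ⊔ (maximalIdeal R).map (algebraMap R S) ≠ ⊤ := by
  obtain ⟨-, x, hx⟩ := hq
  have hx0 : x ≠ 0 := by
    rintro rfl
    apply (inferInstance : q.IsPrime).ne_top
    rw [hx, Ideal.eq_top_iff_one, Submodule.mem_annihilator_span_singleton, smul_zero]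
  have hsx : ∀ s ∈ q, s • x = 0 := by
    intro s hs
    rw [hx, Submodule.mem_annihilator_span_singleton] at hs
    exact hs
  have hdisj : Disjoint (q : Set S) (FlatCA.nzdFiber R S N) := by
    rw [Set.disjoint_left]
    intro s hs hs'
    apply hx0
    -- multiplication by `s` is injective mod `m`
    let u : N →ₗ[R] N := (LinearMap.lsmul S N s).restrictScalars R
    have h1 : Function.Injective (u.lTensor (IsLocalRing.ResidueField R)) := by
      rw [← lTensor_residueField_injective_iff]
      rw [LinearMap.lTensor_inj_iff_rTensor_inj]
      rw [injective_iff_map_eq_zero]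
      intro y hy
      have h2 : u.rTensor (maximalIdeal R).ResidueField y = s • y := rTensor_lsmul s y
      rw [h2] at hy
      have h3 : s • (fiberModEquiv (S := S) (maximalIdeal R) N).symm y = 0 := by
        rw [← map_smul, hy, map_zero]
      have h4 := hs' _ h3
      simpa using h4
    have h5 := lTensor_injective_of_projective u h1 p.ResidueField
    rw [LinearMap.lTensor_inj_iff_rTensor_inj] at h5
    apply h5
    rw [rTensor_lsmul s x, hsx s hs, map_zero]
  obtain ⟨q', hq', hle⟩ := ((S1193.result (R := R) (S := S) N).1 q).mp hdisj
  obtain ⟨h1, h2, -⟩ := (mem_associatedPrimes_fiberMod_iff (maximalIdeal R) N q').mp hq'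
  intro htop
  apply h1.ne_top
  rw [eq_top_iff, ← htop]
  apply sup_le hle
  rw [Ideal.map_le_iff_le_comap]
  exact h2.over.le

end Groth.Agent.S1212
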