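import Groth.Statements.S1213
import Groth.Agent.Flat2A.LocalSummand
-- import your own Groth.Agent.* helpers here

set_option autoImplicit false
universe u
open scoped Classical
open FlatMor

namespace Groth.Agent.S1213

open TensorProduct in
theorem exists_finset_fixed {R : Type u} [CommRing R]
    {N : Type u} [AddCommGroup N] [Module R N] {ι : Type u} (F : ι → Submodule R N)
    (e : N ≃ₗ[R] (DirectSum ι fun i => F i)) (he : ∀ n, (DirectSum.coeLinearMap F) (e n) = n)
    (M : Type u) [AddCommGroup M] [Module R M] (z : N ⊗[R] M) :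
    ∃ s : Finset ι, ∀ t : Finset ι, s ⊆ t →
      (∑ i ∈ t, (F i).subtype ∘ₗ DirectSum.component R ι (fun i => F i) i ∘ₗ
        (e : N →ₗ[R] DirectSum ι fun i => F i)).rTensor M z = z := by
  induction z using TensorProduct.induction_on with
  | zero => exact ⟨∅, fun t _ => by simp⟩
  | tmul n m =>
    refine ⟨(e n).support, fun t ht => ?_⟩
    rw [LinearMap.rTensor_tmul]
    congr 1
    conv_rhs => rw [← he n]
    rw [LinearMap.sum_apply, DirectSum.coeLinearMap_eq_dfinsuppSum, DFinsupp.sum]
    symm
    refine Finset.sum_subset ht ?_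
    intro i _ hi
    rw [DFinsupp.notMem_support_iff] at hi
    simp [hi]
  | add x y hx hy =>
    obtain ⟨s, hs⟩ := hx
    obtain ⟨s', hs'⟩ := hy
    refine ⟨s ∪ s', fun t ht => ?_⟩
    rw [map_add, hs t (Finset.subset_union_left.trans ht),
      hs' t (Finset.subset_union_right.trans ht)]

open TensorProduct IsLocalRing in
/-- Stacks Tag 05IU: let R be a local ring, S an R-algebra and N an S-module which, as an R-module, is an internal direct sum of finite R-submodules. Then for every R-module M and every prime q of S which is the annihilator of an element of the S-module N ⊗_R M we have q + 𝔪_R S ≠ S. -/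
theorem result {R S : Type u} [CommRing R] [IsLocalRing R] [CommRing S] [Algebra R S]
    (N : Type u) [AddCommGroup N] [Module S N] [Module R N] [IsScalarTower R S N]
    (ι : Type u) (F : ι → Submodule R N) (hF : DirectSum.IsInternal F) (hfin : ∀ i, Module.Finite R (F i))
    (M : Type u) [AddCommGroup M] [Module R M]
    (q : Ideal S) [q.IsPrime] (hq : q ∈ FlatCA.ass S (N ⊗[R] M)) :
    q ⊔ (maximalIdeal R).map (algebraMap R S) ≠ ⊤ := by
  refine Flat2A.LocalSummand.sup_ne_top_of_fixed ?_ q hq
  intro z
  let e : N ≃ₗ[R] (DirectSum ι fun i => F i) :=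
    (LinearEquiv.ofBijective (DirectSum.coeLinearMap F) hF).symm
  have he : ∀ n, (DirectSum.coeLinearMap F) (e n) = n := fun n =>
    (LinearEquiv.ofBijective (DirectSum.coeLinearMap F) hF).apply_symm_apply n
  obtain ⟨s, hs⟩ := exists_finset_fixed F e he M z
  refine ⟨(i : s) → F i, inferInstance, inferInstance, inferInstance,
    ∑ i : s, (F i).subtype ∘ₗ LinearMap.proj i,
    LinearMap.pi fun i => DirectSum.component R ι (fun i => F i) i ∘ₗ
        (e : N →ₗ[R] DirectSum ι fun i => F i), ?_⟩
  have hcomp : (∑ i : s, (F i).subtype ∘ₗ LinearMap.proj i) ∘ₗ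
      (LinearMap.pi fun i : s => DirectSum.component R ι (fun i => F i) i ∘ₗ
        (e : N →ₗ[R] DirectSum ι fun i => F i)) =
      ∑ i ∈ s, (F i).subtype ∘ₗ DirectSum.component R ι (fun i => F i) i ∘ₗ
        (e : N →ₗ[R] DirectSum ι fun i => F i) := by
    ext n
    simp only [LinearMap.comp_apply, LinearMap.sum_apply]
    exact Finset.sum_coe_sort s (fun x => (F x).subtype
      ((DirectSum.component R ι (fun i => F i) x) (e n)))
  rw [hcomp]
  exact hs s (le_refl _)

end Groth.Agent.S1213
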