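import Groth.Statements.S1214
import Groth.Agent.Flat2A.CompleteUnit
import Mathlib.LinearAlgebra.TensorProduct.RightExactness
-- import your own Groth.Agent.* helpers here

set_option autoImplicit false
universe u
open FlatMor

namespace Groth.Agent.S1214

open TensorProduct in
/-- Stacks Tag 05IT: let R → S be a ring map, I an ideal of R and N an S-module which is I-adically complete. Then for every R-module M and every prime q of S which is the annihilator of an element of the S-module N ⊗_R M we have q + IS ≠ S. -/
theorem result {R S : Type u} [CommRing R] [CommRing S] [Algebra R S] (I : Ideal R)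
    (N : Type u) [AddCommGroup N] [Module S N] [Module R N] [IsScalarTower R S N] [IsAdicComplete I N]
    (M : Type u) [AddCommGroup M] [Module R M]
    (q : Ideal S) [q.IsPrime] (hq : q ∈ FlatCA.ass S (N ⊗[R] M)) :
    q ⊔ I.map (algebraMap R S) ≠ ⊤ := by
  intro htop
  obtain ⟨hqp, z, hz⟩ := hq
  obtain ⟨f, hf, g, hg, hfg⟩ := Submodule.mem_sup.mp ((Ideal.eq_top_iff_one _).mp htop)
  have hfz : f • z = 0 := by
    rw [hz] at hf
    exact (Submodule.mem_annihilator_span_singleton _ _).mp hf
  haveI h1 : IsHausdorff (I.map (algebraMap R S)) N := IsHausdorff.map_algebraMap_iff.mpr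
    inferInstance
  haveI h2 : IsPrecomplete (I.map (algebraMap R S)) N := IsPrecomplete.map_algebraMap_iff.mpr
    inferInstance
  haveI : IsAdicComplete (I.map (algebraMap R S)) N := { }
  have hb := Flat2A.CompleteUnit.bijective_one_sub_smul (I.map (algebraMap R S)) (N := N) g hg
  have hfg' : 1 - g = f := by rw [← hfg]; ring
  rw [hfg'] at hb
  let F : N →ₗ[R] N := (LinearMap.lsmul S N f).restrictScalars R
  have hF : Function.Bijective F := hb
  let E : N ≃ₗ[R] N := LinearEquiv.ofBijective F hF
  have hFz : ∀ y : N ⊗[R] M, (E.rTensor M) y = f • y := by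
    intro y
    induction y using TensorProduct.induction_on with
    | zero => simp
    | tmul n m =>
      rw [TensorProduct.smul_tmul']
      rfl
    | add a b ha hb => rw [map_add, ha, hb, smul_add]
  have h0 : z = 0 := by
    apply (E.rTensor M).injective
    rw [hFz, hfz, map_zero]
  apply hqp.ne_top
  rw [hz, h0]
  rw [Ideal.eq_top_iff_one, Submodule.mem_annihilator_span_singleton]
  simp

end Groth.Agent.S1214
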