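import Groth.Statements.S1975
import Groth.Agent.Hensel.Exist
import Groth.Agent.Hensel.LazardPerm
import Groth.Agent.Hensel.LazardForm
import Groth.Agent.Hensel.ValEtale
import Mathlib.RingTheory.Valuation.Integral
import Mathlib.Algebra.GCDMonoid.IntegrallyClosed
import Mathlib.RingTheory.Bezout

set_option autoImplicit false
universe u
open EtAlg

namespace Groth.Agent.S1975

/-- Stacks Tag 0ASK: let A be a valuation ring and S a henselization or strict henselization of A. Then S is a valuation ring, A -> S is injective, and every nonzero element of S is a unit multiple of the image of an element of A (the value groups agree). -/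
theorem result (A S : Type u) [CommRing A] [IsDomain A] [ValuationRing A] [CommRing S]
    [IsLocalRing S] [Algebra A S] [IsLocalHom (algebraMap A S)]
    (h : Hensel.IsHenselization A S ∨ Hensel.IsStrictHenselization A S) :
    IsDomain S ∧ (∀ _ : IsDomain S, ValuationRing S) ∧ Function.Injective (algebraMap A S) ∧
      ∀ s : S, s ≠ 0 → ∃ (a : A) (u : Sˣ), s = u * algebraMap A S a := by
  have hL : Groth.Agent.Hensel.LazardPerm.LazardEtale A S := by
    rcases h with h | h
    · exact (Groth.Agent.Hensel.Exist.isHull_of_isHenselization A S).lazard
    · exact (Groth.Agent.Hensel.Exist.isHull_of_isStrictHenselization A S).lazard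
  have hC : Groth.Agent.Hensel.EtaleNbhd.IsEtaleCovered A S := by
    rcases h with h | h
    · exact (Groth.Agent.Hensel.Exist.isHull_of_isHenselization A S).exists_etale_finset
    · exact (Groth.Agent.Hensel.Exist.isHull_of_isStrictHenselization A S).exists_etale_finset
  have hflat : Module.Flat A S := Groth.Agent.Hensel.LazardForm.flat_of_lazardEtale hL
  have hff : Module.FaithfullyFlat A S := Module.FaithfullyFlat.of_flat_of_isLocalHom
  have hdom : IsDomain S := hL.isDomain
  refine ⟨hdom, fun _ => Groth.Agent.Hensel.ValEtale.valuationRing_of_isEtaleCovered hC,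
    FaithfulSMul.algebraMap_injective A S, fun s hs => ?_⟩
  exact Groth.Agent.Hensel.ValEtale.exists_unit_mul_of_isEtaleCovered hC s hs

end Groth.Agent.S1975
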