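import Groth.Statements.S1258
import Groth.Agent.Flat2A.CoverData
import Groth.Agent.S1242

set_option autoImplicit false
universe u
open FlatMor

namespace Groth.Agent.S1258

open TensorProduct IsLocalRing in
/-- Stacks Tag 05L0 (ring form, X = Spec S and S = Spec R affine): let S be a finitely presented R-algebra, N a finite S-module and p a prime of R such that N_q is flat over R for every prime q of S over p. Then there is an étale R-algebra R' with a prime p' over p having the same residue field such that, writing A for the local ring of R' at p' and S_A, N_A for the base changes: there is an étale S_A-algebra C, finitely presented over A, such that every prime of S over p is the contraction of a prime of C lying over the maximal ideal of A, C ⊗ N_A is a finitely presented C-module, and C ⊗ N_A is a free A-module. -/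
theorem result {R S : Type u} [CommRing R] [CommRing S] [Algebra R S] [Algebra.FinitePresentation R S]
    (N : Type u) [AddCommGroup N] [Module S N] [Module R N] [IsScalarTower R S N] [Module.Finite S N]
    (p : Ideal R) [p.IsPrime] (hflat : ∀ (q : Ideal S) [q.IsPrime], q.LiesOver p → FlatCA.FlatAt R q N) :
    ∃ (R' : Type u) (_ : CommRing R') (_ : Algebra R R') (p' : Ideal R') (_ : p'.IsPrime), FlatCA.IsEtaleNhd R R' p p' ∧
      ∀ (SA NA : Type u) [CommRing SA] [Algebra R SA] [Algebra S SA] [Algebra (Localization.AtPrime p') SA]
        [IsScalarTower R S SA] [IsScalarTower R (Localization.AtPrime p') SA]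
        [Algebra.IsPushout R S (Localization.AtPrime p') SA]
        [AddCommGroup NA] [Module SA NA] [Module S NA] [IsScalarTower S SA NA]
        (f : N →ₗ[S] NA), IsBaseChange SA f →
        ∃ (C : Type u) (_ : CommRing C) (_ : Algebra SA C) (_ : Algebra (Localization.AtPrime p') C)
          (_ : IsScalarTower (Localization.AtPrime p') SA C) (_ : Algebra S C) (_ : IsScalarTower S SA C),
          Algebra.Etale SA C ∧ Algebra.FinitePresentation (Localization.AtPrime p') C ∧
          (∀ (q : Ideal S) [q.IsPrime], q.LiesOver p → ∃ x' : Ideal C, x'.IsPrime ∧ x'.comap (algebraMap S C) = q ∧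
            x'.LiesOver (maximalIdeal (Localization.AtPrime p'))) ∧
          Module.FinitePresentation C (C ⊗[SA] NA) ∧
          Module.Free (Localization.AtPrime p') (RestrictScalars (Localization.AtPrime p') C (C ⊗[SA] NA)) := by
  have hloc : ∀ q : Ideal S, q.IsPrime → q.LiesOver p → ∃ a : S, a ∉ q ∧
      Nonempty (Flat2A.CoverData.Data R S N p True
        {q' | q'.IsPrime ∧ q'.LiesOver p ∧ a ∉ q'}) := by
    intro q hq hqp
    obtain ⟨R₁, _, _, p₁, _, hEt, hmain⟩ := S1242.result N p q (hflat q hqp)
    obtain ⟨S₁, _, _, _, _, _, _, hpush⟩ :=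
      Flat2A.PureEtSpec.exists_pushout R S (Localization.AtPrime p₁)
    obtain ⟨N₁, _, _, _, _, f, hf⟩ := Flat2A.PureUniv.exists_isBaseChange S S₁ N
    obtain ⟨C, _, _, _, _, _, _, x', _, hx, h1, h2, h3, h4, h5⟩ := hmain S₁ N₁ f hf
    exact Flat2A.CoverData.exists_data p True q R₁ p₁ hEt S₁ hpush N₁ f hf C h1 (fun _ => h4)
      (Module.Free.of_equiv (Flat2A.PureUniv.restrictEquiv _ C _)) x' hx.over.symm
  obtain ⟨R', _, _, p', _, hR', hmain⟩ := Flat2A.CoverData.exists_cover p True hloc
  refine ⟨R', inferInstance, inferInstance, p', inferInstance, hR', ?_⟩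
  intro SA NA _ _ _ _ _ _ hpush _ _ _ _ f hf
  obtain ⟨C, _, _, _, _, _, _, h1, h2, h3, h4⟩ := hmain SA NA f hf
  refine ⟨C, inferInstance, inferInstance, inferInstance, inferInstance, inferInstance,
    inferInstance, h1, ?_, fun q _ hq => h2 q inferInstance hq, h3 trivial, ?_⟩
  · have hpush' : Algebra.IsPushout R (Localization.AtPrime p') S SA := hpush.symm
    have e1 : Algebra.FinitePresentation (Localization.AtPrime p') SA :=
      Algebra.FinitePresentation.equiv (Algebra.IsPushout.equiv R (Localization.AtPrime p') S SA)
    exact Algebra.FinitePresentation.trans _ SA C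
  · exact Module.Free.of_equiv (Flat2A.PureUniv.restrictEquiv (Localization.AtPrime p') C
      (C ⊗[SA] NA)).symm

end Groth.Agent.S1258
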