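import Groth.Statements.S1259
import Groth.Agent.Flat2A.CoverSurj
import Groth.Agent.S1258

set_option autoImplicit false
universe u
open FlatMor

namespace Groth.Agent.S1259

open TensorProduct IsLocalRing in
/-- Stacks Tag 05L1 (ring form, X = Spec S and S = Spec R affine): let S be a finite type R-algebra, N a finite S-module and p a prime of R such that N_q is flat over R for every prime q of S over p. Then there is an étale R-algebra R' with a prime p' over p having the same residue field such that, writing A for the local ring of R' at p' and S_A, N_A for the base changes: there is an étale S_A-algebra C such that every prime of S over p is the contraction of a prime of C over the maximal ideal of A, and C ⊗ N_A is a free A-module. -/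
theorem result {R S : Type u} [CommRing R] [CommRing S] [Algebra R S] [Algebra.FiniteType R S]
    (N : Type u) [AddCommGroup N] [Module S N] [Module R N] [IsScalarTower R S N] [Module.Finite S N]
    (p : Ideal R) [p.IsPrime] (hflat : ∀ (q : Ideal S) [q.IsPrime], q.LiesOver p → FlatCA.FlatAt R q N) :
    ∃ (R' : Type u) (_ : CommRing R') (_ : Algebra R R') (p' : Ideal R') (_ : p'.IsPrime), FlatCA.IsEtaleNhd R R' p p' ∧
      ∀ (SA NA : Type u) [CommRing SA] [Algebra R SA] [Algebra S SA] [Algebra (Localization.AtPrime p') SA]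
        [IsScalarTower R S SA] [IsScalarTower R (Localization.AtPrime p') SA]
        [Algebra.IsPushout R S (Localization.AtPrime p') SA]
        [AddCommGroup NA] [Module SA NA] [Module S NA] [IsScalarTower S SA NA]
        (f : N →ₗ[S] NA), IsBaseChange SA f →
        ∃ (C : Type u) (_ : CommRing C) (_ : Algebra SA C) (_ : Algebra (Localization.AtPrime p') C)
          (_ : IsScalarTower (Localization.AtPrime p') SA C) (_ : Algebra S C) (_ : IsScalarTower S SA C),
          Algebra.Etale SA C ∧
          (∀ (q : Ideal S) [q.IsPrime], q.LiesOver p → ∃ x' : Ideal C, x'.IsPrime ∧ x'.comap (algebraMap S C) = q ∧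
            x'.LiesOver (maximalIdeal (Localization.AtPrime p'))) ∧
          Module.Free (Localization.AtPrime p') (RestrictScalars (Localization.AtPrime p') C (C ⊗[SA] NA)) := by
  obtain ⟨n, φ, hφ⟩ := Algebra.FiniteType.iff_quotient_mvPolynomial''.mp
    (inferInstance : Algebra.FiniteType R S)
  let : Algebra (MvPolynomial (Fin n) R) S := φ.toRingHom.toAlgebra
  have : IsScalarTower R (MvPolynomial (Fin n) R) S :=
    IsScalarTower.of_algebraMap_eq' φ.comp_algebraMap.symm
  have hsurj : Function.Surjective (algebraMap (MvPolynomial (Fin n) R) S) := hφ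
  let : Module (MvPolynomial (Fin n) R) N :=
    Module.compHom N (algebraMap (MvPolynomial (Fin n) R) S)
  have : IsScalarTower (MvPolynomial (Fin n) R) S N :=
    ⟨fun a b x => by rw [Algebra.smul_def, mul_smul]; rfl⟩
  have : IsScalarTower R (MvPolynomial (Fin n) R) N := ⟨fun a b x => by
    rw [← algebraMap_smul S (a • b) x, ← algebraMap_smul S b x, Algebra.smul_def, map_mul,
      mul_smul, ← IsScalarTower.algebraMap_apply R (MvPolynomial (Fin n) R) S, algebraMap_smul]⟩
  have : Module.Finite (MvPolynomial (Fin n) R) S :=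
    Module.Finite.of_surjective (Algebra.linearMap (MvPolynomial (Fin n) R) S) hsurj
  have : Module.Finite (MvPolynomial (Fin n) R) N := Module.Finite.trans S N
  obtain ⟨R', _, _, p', _, hR', hmain⟩ := S1258.result (R := R) (S := MvPolynomial (Fin n) R) N p
    (fun q₀ _ hq₀ => Flat2A.CoverSurj.flatAt_of_surjective hsurj N q₀ (fun q _ hq => hflat q ⟨by
      rw [hq₀.over, ← hq, Ideal.under_def, Ideal.under_def, Ideal.comap_comap,
        ← IsScalarTower.algebraMap_eq]⟩))
  refine ⟨R', inferInstance, inferInstance, p', inferInstance, hR', ?_⟩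
  intro SA NA _ _ _ _ _ _ hpush _ _ _ _ f hf
  obtain ⟨PA, _, _, _, _, _, _, hPA⟩ :=
    Flat2A.PureEtSpec.exists_pushout R (MvPolynomial (Fin n) R) (Localization.AtPrime p')
  obtain ⟨_, _, _, _, _, _, _, hsq⟩ := Flat2A.CoverBC.exists_algebra_map (R := R)
    (A₁ := MvPolynomial (Fin n) R) (A₂ := S) (S := Localization.AtPrime p') (S₁ := PA) (S₂ := SA)
    hPA.symm hpush.symm
  let : Module PA NA := Module.compHom NA (algebraMap PA SA)
  have : IsScalarTower PA SA NA := ⟨fun a b x => by rw [Algebra.smul_def, mul_smul]; rfl⟩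
  let : Module (MvPolynomial (Fin n) R) NA :=
    Module.compHom NA (algebraMap (MvPolynomial (Fin n) R) SA)
  have : IsScalarTower (MvPolynomial (Fin n) R) SA NA :=
    ⟨fun a b x => by rw [Algebra.smul_def, mul_smul]; rfl⟩
  have : IsScalarTower (MvPolynomial (Fin n) R) PA NA := ⟨fun a b x => by
    rw [← algebraMap_smul SA (a • b) x, ← algebraMap_smul SA b x, Algebra.smul_def, map_mul,
      mul_smul, ← IsScalarTower.algebraMap_apply (MvPolynomial (Fin n) R) PA SA,
      algebraMap_smul]⟩
  have : IsScalarTower (MvPolynomial (Fin n) R) S NA := ⟨fun a b x => by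
    rw [← algebraMap_smul SA (a • b) x, ← algebraMap_smul SA b x, Algebra.smul_def, map_mul,
      mul_smul, ← IsScalarTower.algebraMap_apply (MvPolynomial (Fin n) R) S SA,
      algebraMap_smul]⟩
  have hf' : IsBaseChange PA (f.restrictScalars (MvPolynomial (Fin n) R)) :=
    Flat2A.ProjPure.isBaseChange_of_isPushout hsq.symm f hf
  obtain ⟨C₀, _, _, _, _, _, _, h1, h2, h3, h4, h5⟩ :=
    hmain PA NA (f.restrictScalars (MvPolynomial (Fin n) R)) hf'
  obtain ⟨C, _, _, _, _, _, _, h6, h7, h8⟩ := Flat2A.CoverSurj.exists_etale (R := R)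
    (A := Localization.AtPrime p') (P := MvPolynomial (Fin n) R) (S := S) (PA := PA) (SA := SA)
    (C₀ := C₀) hPA hpush NA (Module.Free.of_equiv (Flat2A.PureUniv.restrictEquiv _ C₀ _))
  refine ⟨C, inferInstance, inferInstance, inferInstance, inferInstance, inferInstance,
    inferInstance, h6, ?_, Module.Free.of_equiv (Flat2A.PureUniv.restrictEquiv _ C _).symm⟩
  intro q _ hq
  have hq₀ : (q.comap (algebraMap (MvPolynomial (Fin n) R) S)).LiesOver p := ⟨by
    rw [hq.over, Ideal.under_def, Ideal.under_def, Ideal.comap_comap,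
      ← IsScalarTower.algebraMap_eq]⟩
  obtain ⟨x₀, h9, h10, h11⟩ := h3 (q.comap (algebraMap (MvPolynomial (Fin n) R) S)) hq₀
  exact h8 q _ x₀ _ inferInstance inferInstance h9 rfl h10 h11

end Groth.Agent.S1259
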