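import Groth.Statements.S1218
import Groth.Agent.Flat2A.PureCore
import Groth.Agent.Flat2A.PureEtSpec
import Groth.Agent.Flat2A.PureUniv
import Groth.Agent.Flat2B.EtaleNhd
import Groth.Agent.Flat2C.FlatAt
import Groth.Agent.S1217
import Groth.Agent.S1231
import Groth.Agent.S1259
-- import your own Groth.Agent.* helpers here

set_option autoImplicit false
universe u
open FlatMor

namespace Groth.Agent.S1218

open TensorProduct Flat2A.Fiber Flat2A.FiberAss in
/-- The local statement: universal injectivity into a free module over the local ring of the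
etale neighbourhood. -/
theorem univInj_core {A A' B B' BΛ C : Type u} [CommRing A] [CommRing A'] [CommRing B]
    [CommRing B'] [CommRing BΛ] [CommRing C] [Algebra A A'] (p : Ideal A) [p.IsPrime]
    (p' : Ideal A') [p'.IsPrime] (hEt : FlatCA.IsEtaleNhd A A' p p')
    [Algebra A B] [Algebra.FiniteType A B] [Algebra B B'] [Algebra A' B'] [Algebra A B']
    [IsScalarTower A B B'] [IsScalarTower A A' B'] [Algebra B' BΛ]
    [Algebra (Localization.AtPrime p') BΛ] [Algebra A' BΛ]
    [IsScalarTower A' B' BΛ] [IsScalarTower A' (Localization.AtPrime p') BΛ]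
    [Algebra B BΛ] [IsScalarTower B B' BΛ] [Algebra A BΛ] [IsScalarTower A B BΛ]
    [IsScalarTower A A' BΛ] [IsScalarTower A (Localization.AtPrime p') BΛ]
    (hpush : Algebra.IsPushout A B A' B')
    (hpush' : Algebra.IsPushout A' B' (Localization.AtPrime p') BΛ)
    (hpush'' : Algebra.IsPushout A B (Localization.AtPrime p') BΛ)
    (N N' NΛ : Type u) [AddCommGroup N] [Module B N] [Module A N] [IsScalarTower A B N]
    [Module.Finite B N]
    [AddCommGroup N'] [Module B' N'] [Module B N'] [IsScalarTower B B' N'] [Module A' N']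
    [IsScalarTower A' B' N'] (f : N →ₗ[B] N') (hf : IsBaseChange B' f)
    [AddCommGroup NΛ] [Module BΛ NΛ] [Module B' NΛ] [IsScalarTower B' BΛ NΛ]
    [Module B NΛ] [IsScalarTower B BΛ NΛ]
    [Module (Localization.AtPrime p') NΛ] [IsScalarTower (Localization.AtPrime p') BΛ NΛ]
    (g : N' →ₗ[B'] NΛ) (hg : IsBaseChange BΛ g)
    (fΛ : N →ₗ[B] NΛ) (hfΛ : IsBaseChange BΛ fΛ)
    (hflat : ∀ (q : Ideal B) [q.IsPrime], q.LiesOver p → FlatCA.FlatAt A q N)
    (hpure : FlatCA.IsPureAlong A B N p)
    [Algebra BΛ C] [Algebra (Localization.AtPrime p') C]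
    [IsScalarTower (Localization.AtPrime p') BΛ C] [Algebra B C] [IsScalarTower B BΛ C]
    [Module.Flat BΛ C]
    (hcov : ∀ (q : Ideal B) [q.IsPrime], q.LiesOver p → ∃ x' : Ideal C, x'.IsPrime ∧
      x'.comap (algebraMap B C) = q ∧
      x'.LiesOver (IsLocalRing.maximalIdeal (Localization.AtPrime p')))
    (M : Type u) [AddCommGroup M] [Module (Localization.AtPrime p') M]
    (z : NΛ ⊗[Localization.AtPrime p'] M) (hz : (1 : C) ⊗ₜ[BΛ] z = 0) : z = 0 := by
  have := hEt.1
  have : p'.LiesOver p := hEt.2.1
  have hmp' := Flat2B.EtaleNhd.liesOver_maximalIdeal_atPrime p'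
  have hmp : (IsLocalRing.maximalIdeal (Localization.AtPrime p')).LiesOver p := .trans _ p' p
  have : Module.Flat A A' := Algebra.Smooth.flat A A'
  have : Module.Flat A (Localization.AtPrime p') := Module.Flat.trans A A' _
  have hftΛ : Algebra.FiniteType (Localization.AtPrime p') BΛ :=
    Algebra.FiniteType.equiv inferInstance
      (Algebra.IsPushout.equiv A (Localization.AtPrime p') B BΛ (h := hpush''.symm))
  have : Module.Finite BΛ NΛ := Module.Finite.equiv hfΛ.equiv
  have hflatB : Module.Flat B BΛ := by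
    have h1 : IsBaseChange B (IsScalarTower.toAlgHom A (Localization.AtPrime p') BΛ).toLinearMap :=
      hpush''.out
    exact Module.Flat.isBaseChange A B (Localization.AtPrime p') BΛ h1
  -- the specialization statement
  have hspec : ∀ (t : Ideal (Localization.AtPrime p')) [t.IsPrime] (Q : Ideal BΛ) [Q.IsPrime]
      [Q.LiesOver t],
      FlatCA.fiberIdeal t Q ∈ associatedPrimes (t.Fiber BΛ) (FlatCA.fiberMod t BΛ NΛ) →
      ∃ Q₁ : Ideal BΛ, Q₁.IsPrime ∧ Q ≤ Q₁ ∧
        Q₁.LiesOver (IsLocalRing.maximalIdeal (Localization.AtPrime p')) := by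
    intro t _ Q _ _ hQ
    have := fiber_isNoetherianRing (R := Localization.AtPrime p') (S := BΛ) t
    exact Flat2A.PureEtSpec.exists_over_of_isPureAlong p p' hEt hpush hpush' f hf g hg hpure t Q hQ
  refine Flat2A.PureCore.univInj_of_relAss NΛ ?_ ?_ M z hz
  · intro t _ Q _ _ hQ
    obtain ⟨Q₁, hQ₁, hle, hover⟩ := hspec t Q hQ
    refine Flat2A.PureEtSpec.flatAt_mono NΛ Q Q₁ hle ?_
    let q : Ideal B := Q₁.under B
    have : Q₁.LiesOver q := ⟨rfl⟩
    have : Q₁.LiesOver p := .trans _ (IsLocalRing.maximalIdeal (Localization.AtPrime p')) p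
    have hqp : q.LiesOver p := ⟨by
      rw [(Ideal.LiesOver.over : p = Q₁.under A)]
      ext a
      simp only [q, Ideal.mem_comap, Ideal.under]
      rw [← IsScalarTower.algebraMap_apply]⟩
    have h1 : FlatCA.FlatAt A q N := hflat q hqp
    let : Module A NΛ := Module.compHom NΛ (algebraMap A BΛ)
    have : IsScalarTower A BΛ NΛ := ⟨fun a b n => by
      rw [Algebra.smul_def, mul_smul]; rfl⟩
    let : Module A' NΛ := Module.compHom NΛ (algebraMap A' BΛ)
    have : IsScalarTower A' BΛ NΛ := ⟨fun a b n => by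
      rw [Algebra.smul_def, mul_smul]; rfl⟩
    have : IsScalarTower A A' NΛ := ⟨fun a b n => by
      change algebraMap A' BΛ (a • b) • n = algebraMap A BΛ a • algebraMap A' BΛ b • n
      rw [Algebra.smul_def, map_mul, mul_smul, ← IsScalarTower.algebraMap_apply]⟩
    have h2 : FlatCA.FlatAt A Q₁ NΛ :=
      (Flat2C.FlatAt.flatAt_iff_of_isBaseChange (R := A) fΛ q Q₁ hfΛ).mp h1
    have h3 : FlatCA.FlatAt A' Q₁ NΛ :=
      (Groth.Agent.S1231.result (R := A) (T := A') (C := BΛ) NΛ Q₁).1.mp h2
    have : IsScalarTower A' (Localization.AtPrime p') (LocalizedModule Q₁.primeCompl NΛ) :=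
      ⟨fun a b n => by
        rw [← algebraMap_smul BΛ (a • b) n, ← algebraMap_smul BΛ a (b • n),
          ← algebraMap_smul BΛ b n, Algebra.smul_def a b, map_mul, mul_smul,
          ← IsScalarTower.algebraMap_apply]⟩
    exact (Module.flat_iff_of_isLocalization (Localization.AtPrime p') p'.primeCompl
      (LocalizedModule Q₁.primeCompl NΛ)).mpr h3
  · intro t _ Q _ _ hQ
    obtain ⟨Q₁, hQ₁, hle, hover⟩ := hspec t Q hQ
    -- `Q₁` is the contraction of a prime of `C`
    have h1 : ∃ x' : Ideal C, x'.IsPrime ∧ x'.comap (algebraMap BΛ C) = Q₁ := by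
      let q : Ideal B := Q₁.under B
      have : Q₁.LiesOver q := ⟨rfl⟩
      have : Q₁.LiesOver p := .trans _ (IsLocalRing.maximalIdeal (Localization.AtPrime p')) p
      have hqp : q.LiesOver p := ⟨by
        rw [(Ideal.LiesOver.over : p = Q₁.under A)]
        ext a
        simp only [q, Ideal.mem_comap, Ideal.under]
        rw [← IsScalarTower.algebraMap_apply]⟩
      obtain ⟨x', hx', hx'q, hx'm⟩ := hcov q hqp
      refine ⟨x', hx', ?_⟩
      obtain ⟨Q₂, _, -, -, -, huniq⟩ := Flat2B.EtaleNhd.exists_unique_prime_localized hEt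
        (S := B) (SA := BΛ) q
      have : (x'.comap (algebraMap BΛ C)).IsPrime := inferInstance
      rw [huniq Q₁ ‹_› hover]
      refine huniq _ ⟨?_⟩ ⟨?_⟩
      · rw [← hx'q]
        ext b
        simp only [Ideal.mem_comap, Ideal.under]
        rw [← IsScalarTower.algebraMap_apply]
      · rw [hx'm.over]
        ext b
        simp only [Ideal.mem_comap, Ideal.under]
        rw [← IsScalarTower.algebraMap_apply]
    obtain ⟨x', hx', hx''⟩ := h1
    have : x'.LiesOver Q₁ := ⟨hx''.symm⟩
    have : Algebra.HasGoingDown BΛ C := Algebra.HasGoingDown.of_flat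
    obtain ⟨P, -, hP, hPQ⟩ := Ideal.exists_ideal_le_liesOver_of_le (p := Q) (q := Q₁) x' hle
    exact ⟨P, hP, hPQ.over.symm⟩

/-- Stacks Tag 05L5 (ring form, X = Spec B affine): let B be a finite type A-algebra, N a finite B-module and p a prime of A such that N is flat over A at every prime of B lying over p. If N is pure along the fibre over p then N is universally pure along the fibre over p. -/
theorem result {A B : Type u} [CommRing A] [CommRing B] [Algebra A B] [Algebra.FiniteType A B]
    (N : Type u) [AddCommGroup N] [Module B N] [Module A N] [IsScalarTower A B N] [Module.Finite B N] (p : Ideal A) [p.IsPrime]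
    (hflat : ∀ (q : Ideal B) [q.IsPrime], q.LiesOver p → FlatCA.FlatAt A q N)
    (hpure : FlatCA.IsPureAlong A B N p) : FlatCA.IsUnivPureAlong A B N p := by
  obtain ⟨A', _, _, p', _, hEt, H⟩ := Groth.Agent.S1259.result N p hflat
  have := hEt.1
  have : p'.LiesOver p := hEt.2.1
  have hmp' := Flat2B.EtaleNhd.liesOver_maximalIdeal_atPrime p'
  have hmp : (IsLocalRing.maximalIdeal (Localization.AtPrime p')).LiesOver p := .trans _ p' p
  have : Module.Flat A A' := Algebra.Smooth.flat A A'
  -- the rings
  obtain ⟨B', _, _, _, _, _, _, hpush⟩ := Flat2A.PureEtSpec.exists_pushout A B A'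
  obtain ⟨BΛ, _, _, _, _, _, _, hpush'⟩ :=
    Flat2A.PureEtSpec.exists_pushout A' B' (Localization.AtPrime p')
  let : Algebra B BΛ := ((algebraMap B' BΛ).comp (algebraMap B B')).toAlgebra
  have : IsScalarTower B B' BΛ := IsScalarTower.of_algebraMap_eq' rfl
  let : Algebra A BΛ := ((algebraMap B BΛ).comp (algebraMap A B)).toAlgebra
  have : IsScalarTower A B BΛ := IsScalarTower.of_algebraMap_eq' rfl
  have : IsScalarTower A A' BΛ := IsScalarTower.of_algebraMap_eq fun a => by
    change algebraMap B' BΛ (algebraMap B B' (algebraMap A B a)) = _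
    rw [← IsScalarTower.algebraMap_apply A B B', IsScalarTower.algebraMap_apply A A' B',
      ← IsScalarTower.algebraMap_apply A' B' BΛ]
  have : IsScalarTower A B' BΛ := IsScalarTower.of_algebraMap_eq fun a => by
    change algebraMap B' BΛ (algebraMap B B' (algebraMap A B a)) = _
    rw [← IsScalarTower.algebraMap_apply A B B']
  have : IsScalarTower A (Localization.AtPrime p') BΛ := IsScalarTower.of_algebraMap_eq fun a => by
    rw [IsScalarTower.algebraMap_apply A A' BΛ,
      IsScalarTower.algebraMap_apply A A' (Localization.AtPrime p'),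
      ← IsScalarTower.algebraMap_apply A' (Localization.AtPrime p') BΛ]
  have hpush'' : Algebra.IsPushout A B (Localization.AtPrime p') BΛ := by
    have h1 : Algebra.IsPushout A A' B B' := hpush.symm
    exact ((Algebra.IsPushout.comp_iff (R := A) (S := A') (R' := B) (S' := B')
      (T := Localization.AtPrime p') (T' := BΛ)).mpr hpush'.symm).symm
  -- the modules
  obtain ⟨N', _, _, _, _, f, hf⟩ := Flat2A.PureUniv.exists_isBaseChange B B' N
  obtain ⟨NΛ, _, _, _, _, g, hg⟩ := Flat2A.PureUniv.exists_isBaseChange B' BΛ N'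
  let : Module A' N' := Module.compHom N' (algebraMap A' B')
  have : IsScalarTower A' B' N' := ⟨fun a b n => by
    rw [Algebra.smul_def, mul_smul]; rfl⟩
  let : Module (Localization.AtPrime p') NΛ :=
    Module.compHom NΛ (algebraMap (Localization.AtPrime p') BΛ)
  have : IsScalarTower (Localization.AtPrime p') BΛ NΛ := ⟨fun a b n => by
    rw [Algebra.smul_def, mul_smul]; rfl⟩
  let : Module B NΛ := Module.compHom NΛ (algebraMap B BΛ)
  have : IsScalarTower B BΛ NΛ := ⟨fun a b n => by
    rw [Algebra.smul_def, mul_smul]; rfl⟩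
  have : IsScalarTower B B' NΛ := ⟨fun a b n => by
    rw [Algebra.smul_def, mul_smul, ← algebraMap_smul BΛ (algebraMap B B' a),
      ← IsScalarTower.algebraMap_apply B B' BΛ]
    rfl⟩
  let fΛ : N →ₗ[B] NΛ := g.restrictScalars B ∘ₗ f
  have hfΛ : IsBaseChange BΛ fΛ := IsBaseChange.comp hf hg
  obtain ⟨C, _, _, _, _, _, _, hCet, hcov, hfree⟩ := H BΛ NΛ fΛ hfΛ
  have : Module.Flat BΛ C := Algebra.Smooth.flat BΛ C
  -- the key step: `N_Λ` is universally pure along the closed fibre
  have hΛ : FlatCA.IsUnivPureAlong (Localization.AtPrime p') BΛ NΛ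
      (IsLocalRing.maximalIdeal (Localization.AtPrime p')) := by
    have : Module.Free (Localization.AtPrime p') (TensorProduct BΛ C NΛ) :=
      Module.Free.of_equiv (Flat2A.PureUniv.restrictEquiv (Localization.AtPrime p') C
        (TensorProduct BΛ C NΛ))
    refine Flat2A.PureUniv.isUnivPureAlong_of_univInj (N₁ := TensorProduct BΛ C NΛ)
      (TensorProduct.mk BΛ C NΛ 1) ?_ _
    intro M _ _
    rw [injective_iff_map_eq_zero]
    intro z hz
    refine univInj_core (C := C) p p' hEt hpush hpush' hpush'' N N' NΛ f hf g hg fΛ hfΛ hflat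
      hpure ?_ M z ?_
    · intro q _ hq
      obtain ⟨x', hx', h1, h2⟩ := hcov q hq
      exact ⟨x', hx', h1, h2⟩
    · exact Flat2A.PureUniv.one_tmul_eq_zero z hz
  have : Module.Flat A (Localization.AtPrime
      (IsLocalRing.maximalIdeal (Localization.AtPrime p'))) := by
    have : Module.Flat A (Localization.AtPrime p') := Module.Flat.trans A A' _
    exact Module.Flat.trans A (Localization.AtPrime p') _
  exact (Groth.Agent.S1217.result N p (Localization.AtPrime p') BΛ NΛ fΛ hfΛ
    (IsLocalRing.maximalIdeal (Localization.AtPrime p'))).2 hΛ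

end Groth.Agent.S1218
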