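import Groth.Statements.S1224
import Groth.Agent.Flat2A.Impurity
import Mathlib.RingTheory.Ideal.GoingUp

set_option autoImplicit false
universe u
open FlatMor

namespace Groth.Agent.S1224

open Flat2A.Impurity

/-- Stacks Tag 05K3 (ring form, X = Spec B affine, where proper support means finite support): let B be a finite type A-algebra and N a finite B-module such that B modulo the annihilator of N is finite over A. Then N is universally pure relative to Spec A. -/
theorem result {A B : Type u} [CommRing A] [CommRing B] [Algebra A B] [Algebra.FiniteType A B]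
    (N : Type u) [AddCommGroup N] [Module B N] [Module A N] [IsScalarTower A B N] [Module.Finite B N]
    [Module.Finite A (B ⧸ Module.annihilator B N)] : FlatCA.IsUnivPure A B N := by
  intro p _ A' B' N' _ _ _ _ _ _ _ _ _ _ _ _ _ _ f t' t _ _ P _ ⟨hpo, hf, htt, htp, hPt, hass, hno⟩
  have hann : Module.annihilator B' N' ≤ P := annihilator_le_of_fiberIdeal_mem t' N' P hass
  -- the quotient `B'/P` is integral over `A'`
  have hint : Algebra.IsIntegral A' (B' ⧸ P) := by
    constructor
    intro x
    obtain ⟨x, rfl⟩ := Ideal.Quotient.mk_surjective x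
    have hpo' : IsBaseChange A' (IsScalarTower.toAlgHom A B B').toLinearMap :=
      (Algebra.IsPushout.symm hpo).out
    induction x using hpo'.inductionOn with
    | zero => rw [map_zero]; exact isIntegral_zero
    | tmul b =>
      have hb : IsIntegral A (Ideal.Quotient.mk (Module.annihilator B N) b) := Algebra.IsIntegral.isIntegral _
      have hle : Module.annihilator B N ≤ RingHom.ker ((Ideal.Quotient.mk P).comp (algebraMap B B')) := by
        intro c hc
        rw [RingHom.mem_ker, RingHom.comp_apply, Ideal.Quotient.eq_zero_iff_mem]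
        exact hann (annihilator_map_le N f hf hc)
      let φ : (B ⧸ Module.annihilator B N) →+* (B' ⧸ P) := Ideal.Quotient.lift _ _ hle
      obtain ⟨g, hg1, hg2⟩ := hb
      refine ⟨g.map (algebraMap A A'), hg1.map _, ?_⟩
      rw [Polynomial.eval₂_map]
      have h3 := congrArg φ hg2
      rw [Polynomial.hom_eval₂, map_zero] at h3
      have h4 : φ.comp (algebraMap A (B ⧸ Module.annihilator B N)) = (algebraMap A' (B' ⧸ P)).comp (algebraMap A A') := by
        ext a
        change φ (Ideal.Quotient.mk _ (algebraMap A B a)) = Ideal.Quotient.mk _ (algebraMap A' B' (algebraMap A A' a))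
        rw [← IsScalarTower.algebraMap_apply A A' B', IsScalarTower.algebraMap_apply A B B']
        rfl
      rw [h4] at h3
      exact h3
    | smul a x hx =>
      rw [Algebra.smul_def, map_mul]
      exact IsIntegral.mul (isIntegral_algebraMap (x := a)) hx
    | add x y hx hy => rw [map_add]; exact hx.add hy
  have hcomap : (⊥ : Ideal (B' ⧸ P)).comap (algebraMap A' (B' ⧸ P)) ≤ t := by
    intro a ha
    apply htt
    rw [hPt.over]
    exact (Ideal.Quotient.eq_zero_iff_mem (I := P) (a := algebraMap A' B' a)).mp ha
  obtain ⟨Q, -, hQ, hQt⟩ := Ideal.exists_ideal_over_prime_of_isIntegral t (⊥ : Ideal (B' ⧸ P)) hcomap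
  refine hno (Q.comap (Ideal.Quotient.mk P)) ?_ ?_
  · intro x hx
    rw [Ideal.mem_comap, Ideal.Quotient.eq_zero_iff_mem.mpr hx]
    exact Q.zero_mem
  · constructor
    rw [← hQt]
    rfl

end Groth.Agent.S1224
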