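import Groth.Statements.S1222
import Groth.Agent.S1224
import Groth.Agent.Flat2A.ImpurityBC
import Groth.Agent.Flat2A.FiberSupp
import Groth.Agent.Flat2A.QFinite
import Mathlib.LinearAlgebra.TensorProduct.RightExactness

set_option autoImplicit false
universe u
open FlatMor

namespace Groth.Agent.S1222

open TensorProduct Flat2A.Fiber Flat2A.FiberAss Flat2A.FiberSupp Flat2A.ImpurityBC

attribute [local instance] Algebra.TensorProduct.rightAlgebra

variable {A B : Type u} [CommRing A] [CommRing B] [Algebra A B] [Algebra.FiniteType A B]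
    (N : Type u) [AddCommGroup N] [Module B N] [Module A N] [IsScalarTower A B N] [Module.Finite B N]

theorem quasiFinite (hfin : ∀ (p : Ideal A) [p.IsPrime], (Module.support (p.Fiber B) (FlatCA.fiberMod p B N)).Finite) :
    Algebra.QuasiFinite A (B ⧸ Module.annihilator B N) := by
  rw [Algebra.QuasiFinite.iff_finite_primesOver]
  intro I hI
  refine ((hfin I).image (fun x => (x.asIdeal.comap (toFiber I B)).map (Ideal.Quotient.mk (Module.annihilator B N)))).subset ?_
  intro Q hQ
  obtain ⟨hQ1, hQ2⟩ := hQ
  let q : Ideal B := Q.comap (Ideal.Quotient.mk (Module.annihilator B N))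
  have hq : q.LiesOver I := by
    constructor
    rw [hQ2.over]
    rfl
  have hp := fiberIdeal_isPrime I q
  have hc : (FlatCA.fiberIdeal I q).comap (toFiber I B) = q := comap_fiberIdeal I q
  refine ⟨⟨FlatCA.fiberIdeal I q, hp⟩, ?_, ?_⟩
  · rw [mem_support_fiberMod_iff, hc]
    intro b hb
    change Ideal.Quotient.mk _ b ∈ Q
    rw [Ideal.Quotient.eq_zero_iff_mem.mpr hb]
    exact Q.zero_mem
  · simp only [hc]
    exact Ideal.map_comap_of_surjective _ Ideal.Quotient.mk_surjective Q

theorem finite_of_isPure [Algebra.QuasiFinite A (B ⧸ Module.annihilator B N)] (h : FlatCA.IsPure A B N) :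
    Module.Finite A (B ⧸ Module.annihilator B N) := by
  by_contra hnf
  obtain ⟨p, _, R', _, _, _, P, _, _, hbij, ξ, _, hle, hno⟩ := Flat2A.QFinite.exists_bad_prime hnf
  let C := B ⧸ Module.annihilator B N
  let t' : Ideal R' := ξ.comap (algebraMap R' (R' ⊗[A] C))
  have ht' : t'.IsPrime := inferInstance
  have het : FlatCA.IsEtaleNhd A R' p P := ⟨inferInstance, inferInstance, hbij⟩
  have hpure := (isPureAlong_iff p).mp (h p) R' t' P het
  apply hpure
  let π : R' ⊗[A] B →ₐ[R'] R' ⊗[A] C := Algebra.TensorProduct.map (AlgHom.id R' R') (Ideal.Quotient.mkₐ A (Module.annihilator B N))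
  have hπs : Function.Surjective π := by
    exact LinearMap.lTensor_surjective R' (g := (Ideal.Quotient.mkₐ A (Module.annihilator B N)).toLinearMap) Ideal.Quotient.mk_surjective
  have hπ1 : π.toRingHom.comp (algebraMap R' (R' ⊗[A] B)) = algebraMap R' (R' ⊗[A] C) := π.comp_algebraMap
  have hπ2 : ∀ b : B, π (algebraMap B (R' ⊗[A] B) b) = (1 : R') ⊗ₜ (Ideal.Quotient.mk _ b) := by
    intro b
    change (Algebra.TensorProduct.map (AlgHom.id R' R') (Ideal.Quotient.mkₐ A (Module.annihilator B N))) ((1 : R') ⊗ₜ[A] b) = _
    rw [Algebra.TensorProduct.map_tmul]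
    rfl
  have hker : RingHom.ker π.toRingHom = (Module.annihilator B N).map (algebraMap B (R' ⊗[A] B)) := by
    have := Algebra.TensorProduct.lTensor_ker (R := A) (A := R') (Ideal.Quotient.mkₐ A (Module.annihilator B N)) Ideal.Quotient.mk_surjective
    have hk : RingHom.ker (Ideal.Quotient.mkₐ A (Module.annihilator B N)) = Module.annihilator B N := by
      ext x
      rw [RingHom.mem_ker]
      exact Ideal.Quotient.eq_zero_iff_mem
    rw [hk] at this
    exact this
  let P₁ : Ideal (R' ⊗[A] B) := ξ.comap π.toRingHom
  have hP₁ : P₁.LiesOver t' := by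
    constructor
    rw [Ideal.under_def, Ideal.comap_comap, hπ1]
  -- the annihilator of the base change
  have hsupp : ∀ (Q : Ideal (R' ⊗[A] B)) [Q.IsPrime], Module.annihilator (R' ⊗[A] B) ((R' ⊗[A] B) ⊗[B] N) ≤ Q ↔
      Module.annihilator B N ≤ Q.comap (algebraMap B (R' ⊗[A] B)) := by
    intro Q hQ
    have h := Ega4A.SuppTensor.support_baseChange (A := B) (B := R' ⊗[A] B) N
    rw [Module.support_eq_zeroLocus, Module.support_eq_zeroLocus] at h
    have h2 := Set.ext_iff.mp h ⟨Q, hQ⟩
    rw [Set.mem_preimage, PrimeSpectrum.mem_zeroLocus, PrimeSpectrum.mem_zeroLocus, SetLike.coe_subset_coe,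
      SetLike.coe_subset_coe] at h2
    exact h2
  refine ⟨hle, P₁, ?_, ?_⟩
  · apply mem_ass_of_minimal
    · rw [hsupp]
      intro b hb
      rw [Ideal.mem_comap, Ideal.mem_comap]
      change π (algebraMap B (R' ⊗[A] B) b) ∈ ξ
      rw [hπ2, Ideal.Quotient.eq_zero_iff_mem.mpr hb, TensorProduct.tmul_zero]
      exact ξ.zero_mem
    · intro P₀ hP₀ hP₀' hann hle0
      rw [hsupp, ← Ideal.map_le_iff_le_comap, ← hker] at hann
      have hprime : (P₀.map π.toRingHom).IsPrime := Ideal.map_isPrime_of_surjective hπs hann
      have hcm : (P₀.map π.toRingHom).comap π.toRingHom = P₀ := by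
        rw [Ideal.comap_map_of_surjective π.toRingHom hπs, ← RingHom.ker_eq_comap_bot]
        exact sup_eq_left.mpr hann
      have hle1 : P₀.map π.toRingHom ≤ ξ := by
        rw [Ideal.map_le_iff_le_comap]
        exact hle0
      have hqf : Algebra.QuasiFinite R' (R' ⊗[A] C) := inferInstance
      have heq : P₀.map π.toRingHom = ξ := by
        apply Algebra.QuasiFinite.eq_of_le_of_under_eq (R := R') _ _ hle1
        rw [Ideal.under_def, Ideal.under_def, ← hπ1, ← Ideal.comap_comap, hcm, ← Ideal.comap_comap]
        exact (hP₀'.over).symm.trans hP₁.over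
      rw [← hcm, heq]
  · intro P' hP' hle1 hov
    have hker' : RingHom.ker π.toRingHom ≤ P' := le_trans (by
      intro x hx
      change π.toRingHom x ∈ ξ
      rw [RingHom.mem_ker.mp hx]
      exact ξ.zero_mem) hle1
    have hprime : (P'.map π.toRingHom).IsPrime := Ideal.map_isPrime_of_surjective hπs hker'
    have hcm : (P'.map π.toRingHom).comap π.toRingHom = P' := by
      rw [Ideal.comap_map_of_surjective π.toRingHom hπs, ← RingHom.ker_eq_comap_bot]
      exact sup_eq_left.mpr hker'
    refine hno (P'.map π.toRingHom) ?_ ?_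
    · rw [← Ideal.map_comap_of_surjective π.toRingHom hπs ξ]
      exact Ideal.map_mono hle1
    · constructor
      rw [Ideal.under_def, ← hπ1, ← Ideal.comap_comap, hcm]
      exact hov.over

/-- Stacks Tag 05K4 (ring form, X = Spec B affine hence separated over Spec A): let B be a finite type A-algebra and N a finite B-module such that for every prime p of A the fibre module of N over p has finite support. Then the following are equivalent: N is pure relative to Spec A; the scheme-theoretic support of N, namely B modulo the annihilator of N, is finite over A; N is universally pure relative to Spec A. -/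
theorem result {A B : Type u} [CommRing A] [CommRing B] [Algebra A B] [Algebra.FiniteType A B]
    (N : Type u) [AddCommGroup N] [Module B N] [Module A N] [IsScalarTower A B N] [Module.Finite B N]
    (hfin : ∀ (p : Ideal A) [p.IsPrime], (Module.support (p.Fiber B) (FlatCA.fiberMod p B N)).Finite) :
    [FlatCA.IsPure A B N, Module.Finite A (B ⧸ Module.annihilator B N), FlatCA.IsUnivPure A B N].TFAE := by
  have hqf := quasiFinite N hfin
  tfae_have 1 → 2 := fun h => finite_of_isPure N h
  tfae_have 2 → 3 := fun h => S1224.result N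
  tfae_have 3 → 1 := fun h => Flat2A.Impurity.isPure_of_isUnivPure N h
  tfae_finish

end Groth.Agent.S1222
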