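import Groth.Statements.S1223
import Groth.Agent.Flat2A.GeomInt
import Groth.Agent.Flat2A.FiberAss
import Mathlib.RingTheory.Flat.FaithfullyFlat.Algebra
import Mathlib.RingTheory.Ideal.GoingDown
import Mathlib.RingTheory.Flat.Stability

set_option autoImplicit false
universe u
open FlatMor

namespace Groth.Agent.S1223

open TensorProduct Flat2A.Fiber Flat2A.FiberAss Flat2A.GeomInt

/-- The fibre module of a module isomorphic to the algebra is the fibre ring. -/
theorem nonempty_fiberMod_equiv {A B : Type u} [CommRing A] [CommRing B] [Algebra A B]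
    (p : Ideal A) [p.IsPrime] (N : Type u) [AddCommGroup N] [Module B N] [Module A N]
    [IsScalarTower A B N] (e : N ≃ₗ[B] B) :
    Nonempty (FlatCA.fiberMod p B N ≃ₗ[p.Fiber B] p.Fiber B) := by
  let _ : Algebra B (p.Fiber B) := Algebra.TensorProduct.rightAlgebra
  exact ⟨(show ((p.Fiber B) ⊗[B] N) ≃ₗ[p.Fiber B] p.Fiber B from
    (e.baseChange B (p.Fiber B) N B) ≪≫ₗ
      TensorProduct.AlgebraTensorModule.rid B (p.Fiber B) (p.Fiber B))⟩

/-- Stacks Tag 05K5 (ring form, X = Spec B affine): a finite type, flat A-algebra B with geometrically integral fibres is universally pure relative to Spec A. -/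
theorem result {A B : Type u} [CommRing A] [CommRing B] [Algebra A B] [Algebra.FiniteType A B] [Module.Flat A B]
    (h : FlatCA.GeomIntegralFibres A B) : FlatCA.IsUnivPure A B B := by
  intro p _ A' B' N' _ _ _ _ _ _ _ _ _ _ _ _ _ _ f t' t _ _ P _ himp
  obtain ⟨hpush, hbc, hle, -, hPt', hass, hno⟩ := himp
  have hflat : Module.Flat A' B' := by
    have : Algebra.IsPushout A A' B B' := hpush.symm
    exact Module.Flat.isBaseChange A A' B B' this.out
  have hgi : FlatCA.GeomIntegralFibres A' B' := baseChange h A' B'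
  -- the fibre rings are domains
  have hdom' : IsDomain (t'.Fiber B') := isDomain_fiber hgi t'
  have hdom : IsDomain (t.Fiber B') := isDomain_fiber hgi t
  -- identify `N'` with `B'`
  let eN : N' ≃ₗ[B'] B' := hbc.equiv.symm ≪≫ₗ TensorProduct.AlgebraTensorModule.rid B B' B'
  obtain ⟨e⟩ := nonempty_fiberMod_equiv t' N' eN
  -- the associated prime is zero
  have hbot : FlatCA.fiberIdeal t' P = ⊥ := by
    obtain ⟨hprime, y, hy⟩ := hass
    have hy0 : y ≠ 0 := by
      rintro rfl
      apply hprime.ne_top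
      rw [hy]
      simp
    rw [hy, eq_bot_iff]
    intro x hx
    obtain ⟨n, hn⟩ := hx
    have h1 : x ^ n • y = 0 := by simpa [Submodule.mem_colon_singleton] using hn
    have h2 : x ^ n • e y = 0 := by rw [← map_smul, h1, map_zero]
    rw [smul_eq_zero] at h2
    rcases h2 with h2 | h2
    · exact (pow_eq_zero_iff (by rintro rfl; simp at h2)).mp h2
    · exact absurd (e.map_eq_zero_iff.mp h2) hy0
  -- a prime over `t`
  obtain ⟨Q0, hQ0⟩ := Ideal.exists_maximal (t.Fiber B')
  have hQprime : (Q0.comap (toFiber t B')).IsPrime := inferInstance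
  have hQover : (Q0.comap (toFiber t B')).LiesOver t := liesOver_of_comap t Q0 hQ0.ne_top
  -- going down
  obtain ⟨Q', hQ'le, hQ'prime, hQ'over⟩ :=
    Ideal.exists_ideal_le_liesOver_of_le (Q0.comap (toFiber t B')) hle
  -- `P ≤ Q'`
  have hPQ' : P ≤ Q' := by
    intro x hx
    rw [← one_tmul_mem_fiberIdeal_iff t' P, hbot] at hx
    rw [← one_tmul_mem_fiberIdeal_iff t' Q', (show (1 : t'.ResidueField) ⊗ₜ[A'] x = 0 from hx)]
    exact zero_mem _
  exact hno _ (hPQ'.trans hQ'le) hQover

end Groth.Agent.S1223
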