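import Groth.Statements.S1225
import Groth.Agent.S1221
import Groth.Agent.S1236
import Groth.Agent.Flat2A.PureSpec
import Groth.Agent.Flat2B.WeakAss
import Groth.Agent.Flat2C.FlatAtCriterion
import Mathlib.RingTheory.Flat.Localization

set_option autoImplicit false
universe u
open FlatMor

namespace Groth.Agent.S1225

open TensorProduct Flat2A.PureSpec

open IsLocalRing in
/-- Stacks Tag 05L8 (ring form, X = Spec B affine): let A be a local ring, B a finite type A-algebra and N a finite B-module which is flat over A and pure along the closed fibre. Then a B-linear map φ from N to any B-module is injective if and only if its localization at q is injective for every prime q of B over 𝔪_A whose extension to the closed fibre ring is an associated prime of the closed fibre module. -/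
theorem result {A B : Type u} [CommRing A] [IsLocalRing A] [CommRing B] [Algebra A B] [Algebra.FiniteType A B]
    (N : Type u) [AddCommGroup N] [Module B N] [Module A N] [IsScalarTower A B N] [Module.Finite B N] [Module.Flat A N]
    (hpure : FlatCA.IsPureAlong A B N (maximalIdeal A))
    (N' : Type u) [AddCommGroup N'] [Module B N'] (φ : N →ₗ[B] N') :
    Function.Injective φ ↔ ∀ (q : Ideal B) [q.IsPrime], q.LiesOver (maximalIdeal A) →
      FlatCA.fiberIdeal (maximalIdeal A) q ∈ associatedPrimes ((maximalIdeal A).Fiber B) (FlatCA.fiberMod (maximalIdeal A) B N) →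
      Function.Injective (LocalizedModule.map q.primeCompl φ) := by
  have hflatAt : ∀ (q : Ideal B) [q.IsPrime], FlatCA.FlatAt A q N := by
    intro q _
    rw [Flat2C.FlatAtCriterion.flatAt_iff]
    intro I x hx
    refine ⟨1, fun h => ‹q.IsPrime›.ne_top ((Ideal.eq_top_iff_one q).mpr h), ?_⟩
    rw [one_smul]
    apply Module.Flat.lTensor_preserves_injective_linearMap (M := N) I.subtype I.injective_subtype
    rw [hx, map_zero]
  constructor
  · intro h q _ _ _
    exact IsLocalizedModule.map_injective q.primeCompl
      (LocalizedModule.mkLinearMap q.primeCompl N) (LocalizedModule.mkLinearMap q.primeCompl N') φ h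
  · intro h
    rw [injective_iff_map_eq_zero]
    intro x hx
    by_contra hx0
    have hne : (Submodule.span B {x}).annihilator ≠ ⊤ := by
      intro h1
      apply hx0
      have h2 : (1 : B) ∈ (Submodule.span B {x}).annihilator := by rw [h1]; trivial
      rw [Submodule.mem_annihilator_span_singleton] at h2
      simpa using h2
    obtain ⟨M, hM, hle⟩ := Ideal.exists_le_maximal _ hne
    obtain ⟨q', hq', -⟩ := Ideal.exists_minimalPrimes_le hle
    have hq'prime : q'.IsPrime := hq'.1.1
    have hweak : q' ∈ FlatCA.weakAss B (N ⊗[A] A) := by
      rw [Flat2B.WeakAss.weakAss_congr (TensorProduct.AlgebraTensorModule.rid A B N)]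
      exact ⟨x, hq'⟩
    have : q'.LiesOver (q'.under A) := inferInstance
    obtain ⟨-, hass⟩ := (S1236.result N A (q'.under A) q' (hflatAt q')).mp hweak
    have hle' : q'.under A ≤ maximalIdeal A := IsLocalRing.le_maximalIdeal (Ideal.IsPrime.ne_top inferInstance)
    have hspec := exists_specialization_of_isPureAlong N (maximalIdeal A) hpure (q'.under A) hle' q' hass
    obtain ⟨q, hqprime, hq'q, hqover, hqass⟩ := S1221.result N (maximalIdeal A) (fun q _ _ => hflatAt q)
      (q'.under A) hle' q' hass hspec
    have hinj := h q hqover hqass
    have h3 : LocalizedModule.mkLinearMap q.primeCompl N x = 0 := by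
      apply hinj
      rw [map_zero, LocalizedModule.mkLinearMap_apply, LocalizedModule.map_mk, hx, LocalizedModule.zero_mk]
    obtain ⟨s, hs⟩ := (IsLocalizedModule.eq_zero_iff q.primeCompl
      (LocalizedModule.mkLinearMap q.primeCompl N)).mp h3
    apply s.2
    apply hq'q
    apply hq'.1.2
    rw [Submodule.mem_annihilator_span_singleton]
    exact hs

end Groth.Agent.S1225
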