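import Groth.Statements.S1227

set_option autoImplicit false
universe u
open FlatMor

namespace Groth.Agent.S1227

open TensorProduct in
/-- Stacks Tag 05PE: let u be a surjective linear map from a projective A-module M to an A-module N. Then there is an ideal I of A such that for every A-algebra B, the base change u ⊗ 1 from B ⊗ M to B ⊗ N is bijective if and only if the image of I in B is zero. -/
theorem result {A : Type u} [CommRing A] {M N : Type u} [AddCommGroup M] [Module A M] [Module.Projective A M]
    [AddCommGroup N] [Module A N] (u : M →ₗ[A] N) (hu : Function.Surjective u) :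
    ∃ I : Ideal A, ∀ (B : Type u) [CommRing B] [Algebra A B],
      Function.Bijective (u.baseChange B) ↔ I.map (algebraMap A B) = ⊥ := by
  obtain ⟨s, hs⟩ := Module.projective_def'.1 (inferInstance : Module.Projective A M)
  refine ⟨Ideal.span {a | ∃ k ∈ LinearMap.ker u, ∃ m : M, a = s k m}, fun B _ _ => ⟨fun hB => ?_, fun hI => ⟨?_, ?_⟩⟩⟩
  · rw [Ideal.map_span, Ideal.span_eq_bot]
    rintro _ ⟨_, ⟨k, hk, m, rfl⟩, rfl⟩
    have h1 : (1 : B) ⊗ₜ[A] k = 0 := by
      apply hB.1
      rw [LinearMap.baseChange_tmul, LinearMap.mem_ker.1 hk, tmul_zero, map_zero]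
    have h2 := congrArg (((Finsupp.lapply m ∘ₗ s : M →ₗ[A] A)).baseChange B) h1
    rw [LinearMap.baseChange_tmul, map_zero] at h2
    have h3 := congrArg (TensorProduct.rid A B) h2
    simpa [Algebra.smul_def] using h3
  · have hex := lTensor_exact B (LinearMap.exact_subtype_ker_map u) hu
    rw [injective_iff_map_eq_zero]
    intro x hx
    obtain ⟨y, rfl⟩ := (hex x).1 hx
    induction y using TensorProduct.induction_on with
    | zero => simp
    | tmul b k =>
      rw [LinearMap.lTensor_tmul, Submodule.subtype_apply]
      have h1 : (k : M) = (s k).sum fun m a => a • m := by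
        have := LinearMap.congr_fun hs k
        simp only [LinearMap.comp_apply, LinearMap.id_apply, Finsupp.linearCombination_apply, id] at this
        exact this.symm
      rw [h1, Finsupp.sum, tmul_sum]
      refine Finset.sum_eq_zero fun m _ => ?_
      rw [tmul_smul, smul_tmul', Algebra.smul_def]
      have h4 : algebraMap A B (s k m) = 0 := by
        have : algebraMap A B (s k m) ∈ Ideal.map (algebraMap A B)
          (Ideal.span {a | ∃ k ∈ LinearMap.ker u, ∃ m : M, a = s k m}) :=
          Ideal.mem_map_of_mem _ (Ideal.subset_span ⟨k, k.2, m, rfl⟩)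
        rw [hI] at this
        simpa using this
      rw [h4, zero_mul, zero_tmul]
    | add y z hy hz =>
      have key : ∀ w : B ⊗[A] (LinearMap.ker u), (u.baseChange B) ((LinearMap.lTensor B (LinearMap.ker u).subtype) w) = 0 := by
        intro w
        exact (hex _).2 ⟨w, rfl⟩
      rw [map_add, hy (key y), hz (key z), add_zero]
  · exact LinearMap.lTensor_surjective B hu

end Groth.Agent.S1227
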