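import Groth.Statements.S1228
import Groth.Agent.S1219
import Groth.Agent.S1227

set_option autoImplicit false
universe u
open FlatMor

namespace Groth.Agent.S1228

open TensorProduct

theorem tmul_eq_zero_of_mem {A N : Type u} [CommRing A] [AddCommGroup N] [Module A N] (I : Ideal A)
    (x : N) (hx : x ∈ I • (⊤ : Submodule A N)) (b : A ⧸ I) : b ⊗ₜ[A] x = 0 := by
  induction hx using Submodule.smul_induction_on' with
  | smul a ha n _ =>
    rw [tmul_smul, smul_tmul']
    have : a • b = 0 := by
      obtain ⟨c, rfl⟩ := Ideal.Quotient.mk_surjective b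
      rw [← Ideal.Quotient.mk_eq_mk, ← Submodule.Quotient.mk_smul, Submodule.Quotient.mk_eq_zero]
      exact Ideal.mul_mem_right _ _ ha
    rw [this, zero_tmul]
  | add x _ y _ hx hy => rw [tmul_add, hx, hy, add_zero]

theorem mem_of_tmul_eq_zero {A N : Type u} [CommRing A] [AddCommGroup N] [Module A N] (I : Ideal A)
    (x : N) (hx : (1 : A ⧸ I) ⊗ₜ[A] x = 0) : x ∈ I • (⊤ : Submodule A N) := by
  have h := congrArg (TensorProduct.quotTensorEquivQuotSMul N I) hx
  rw [map_zero, TensorProduct.quotTensorEquivQuotSMul_mk_one_tmul, Submodule.Quotient.mk_eq_zero] at h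
  exact h

theorem exists_fg_le_mem {A N : Type u} [CommRing A] [AddCommGroup N] [Module A N] (I : Ideal A)
    (x : N) (hx : x ∈ I • (⊤ : Submodule A N)) :
    ∃ I₀ : Ideal A, I₀ ≤ I ∧ I₀.FG ∧ x ∈ I₀ • (⊤ : Submodule A N) := by
  induction hx using Submodule.smul_induction_on' with
  | smul a ha n _ =>
    exact ⟨Ideal.span {a}, (Ideal.span_singleton_le_iff_mem I).mpr ha, ⟨{a}, by simp⟩,
      Submodule.smul_mem_smul (Ideal.mem_span_singleton_self a) trivial⟩
  | add x _ y _ hx hy =>
    obtain ⟨I₁, h1, h1', h1''⟩ := hx
    obtain ⟨I₂, h2, h2', h2''⟩ := hy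
    exact ⟨I₁ ⊔ I₂, sup_le h1 h2, Submodule.FG.sup h1' h2', Submodule.add_mem _
      (Submodule.smul_mono_left le_sup_left h1'') (Submodule.smul_mono_left le_sup_right h2'')⟩

theorem exists_fg_le_forall_mem {A N : Type u} [CommRing A] [AddCommGroup N] [Module A N] (I : Ideal A)
    (s : Finset N) (hs : ∀ x ∈ s, x ∈ I • (⊤ : Submodule A N)) :
    ∃ I₀ : Ideal A, I₀ ≤ I ∧ I₀.FG ∧ ∀ x ∈ s, x ∈ I₀ • (⊤ : Submodule A N) := by
  classical
  induction s using Finset.induction_on with
  | empty => exact ⟨⊥, bot_le, Submodule.fg_bot, by simp⟩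
  | insert a s ha ih =>
    obtain ⟨I₁, h1, h1', h1''⟩ := ih (fun x hx => hs x (Finset.mem_insert_of_mem hx))
    obtain ⟨I₂, h2, h2', h2''⟩ := exists_fg_le_mem I a (hs a (Finset.mem_insert_self a s))
    refine ⟨I₁ ⊔ I₂, sup_le h1 h2, Submodule.FG.sup h1' h2', ?_⟩
    intro x hx
    rcases Finset.mem_insert.mp hx with rfl | hx
    · exact Submodule.smul_mono_left le_sup_right h2''
    · exact Submodule.smul_mono_left le_sup_left (h1'' x hx)

theorem smul_mem_smul_top {A B N : Type u} [CommRing A] [CommRing B] [Algebra A B] [AddCommGroup N]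
    [Module B N] [Module A N] [IsScalarTower A B N] (I : Ideal A) (b : B) (x : N)
    (hx : x ∈ I • (⊤ : Submodule A N)) : b • x ∈ I • (⊤ : Submodule A N) := by
  induction hx using Submodule.smul_induction_on' with
  | smul a ha n _ => rw [smul_comm]; exact Submodule.smul_mem_smul ha trivial
  | add x _ y _ hx hy => rw [smul_add]; exact Submodule.add_mem _ hx hy

/-- Stacks Tag 05PF (ring form, S = Spec A and X = Spec B affine, test schemes affine): let B be a finitely presented A-algebra, N a finitely presented B-module which is flat over A and pure relative to Spec A, and u a surjective B-linear map from N to a B-module N'. Then the functor 'u becomes an isomorphism after base change' is represented by a closed subscheme of Spec A: there is an ideal I of A such that for every A-algebra A' the base change A' ⊗_A N → A' ⊗_A N' is bijective if and only if IA' = 0. If N' is finitely presented then I is finitely generated. -/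
theorem result {A B : Type u} [CommRing A] [CommRing B] [Algebra A B] [Algebra.FinitePresentation A B]
    (N : Type u) [AddCommGroup N] [Module B N] [Module A N] [IsScalarTower A B N] [Module.FinitePresentation B N] [Module.Flat A N]
    (hpure : FlatCA.IsPure A B N)
    (N' : Type u) [AddCommGroup N'] [Module B N'] [Module A N'] [IsScalarTower A B N'] (u : N →ₗ[B] N') (hu : Function.Surjective u) :
    ∃ I : Ideal A, (∀ (A' : Type u) [CommRing A'] [Algebra A A'],
        Function.Bijective ((u.restrictScalars A).baseChange A') ↔ I.map (algebraMap A A') = ⊥) ∧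
      (Module.FinitePresentation B N' → I.FG) := by
  have hproj : Module.Projective A N := (S1219.result N).mpr hpure
  obtain ⟨I, hI⟩ := S1227.result (u.restrictScalars A) hu
  refine ⟨I, fun A' _ _ => hI A', fun hfp => ?_⟩
  -- the kernel of `u` is finitely generated over `B`
  obtain ⟨s, hs⟩ : (LinearMap.ker u).FG := Module.FinitePresentation.fg_ker u hu
  -- its generators lie in `I N`
  have hmem : ∀ k ∈ LinearMap.ker u, k ∈ I • (⊤ : Submodule A N) := by
    intro k hk
    apply mem_of_tmul_eq_zero
    have h1 : Function.Bijective ((u.restrictScalars A).baseChange (A ⧸ I)) :=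
      (hI (A ⧸ I)).mpr (Ideal.map_quotient_self I)
    apply h1.1
    rw [map_zero, LinearMap.baseChange_tmul]
    have : (u.restrictScalars A) k = 0 := hk
    rw [this, tmul_zero]
  obtain ⟨I₀, hle, hfg, hmem₀⟩ := exists_fg_le_forall_mem I s (fun x hx => hmem x (by
    rw [← hs]; exact Submodule.subset_span hx))
  have hker : ∀ k ∈ LinearMap.ker u, k ∈ I₀ • (⊤ : Submodule A N) := by
    intro k hk
    rw [← hs] at hk
    induction hk using Submodule.span_induction with
    | mem x hx => exact hmem₀ x hx
    | zero => exact Submodule.zero_mem _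
    | add x y _ _ hx hy => exact Submodule.add_mem _ hx hy
    | smul b x _ hx => exact smul_mem_smul_top I₀ b x hx
  have hbij : Function.Bijective ((u.restrictScalars A).baseChange (A ⧸ I₀)) := by
    constructor
    · have hex := lTensor_exact (A ⧸ I₀) (LinearMap.exact_subtype_ker_map (u.restrictScalars A)) hu
      rw [injective_iff_map_eq_zero]
      intro x hx
      obtain ⟨y, rfl⟩ := (hex x).1 hx
      clear hx
      induction y using TensorProduct.induction_on with
      | zero => exact map_zero _
      | tmul b k => exact tmul_eq_zero_of_mem I₀ _ (hker _ k.2) b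
      | add y z hy hz => rw [map_add, hy, hz, add_zero]
    · exact LinearMap.lTensor_surjective _ hu
  have hle' : I ≤ I₀ := by
    have h2 := (hI (A ⧸ I₀)).mp hbij
    intro a ha
    have h3 : algebraMap A (A ⧸ I₀) a ∈ I.map (algebraMap A (A ⧸ I₀)) := Ideal.mem_map_of_mem _ ha
    rw [h2] at h3
    exact Ideal.Quotient.eq_zero_iff_mem.mp h3
  rw [le_antisymm hle' hle]
  exact hfg

end Groth.Agent.S1228
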