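import Groth.Statements.S1230
import Groth.Agent.S1236
import Groth.Agent.Flat2A.UnivInjCover
import Groth.Agent.Flat2C.FlatAtCriterion

set_option autoImplicit false
universe u
open FlatMor

namespace Groth.Agent.S1230

open TensorProduct in
/-- Stacks Tag 05PD (ring form, X = Spec B, X' = Spec B' affine): let B be a finite type A-algebra, N a finite B-module flat over A, and B' a flat B-algebra such that every prime q of B, over p in A, whose extension to the fibre ring over p is an associated prime of the fibre module of N is the contraction of a prime of B'. Then the canonical map N → B' ⊗_B N is injective and remains injective after tensoring over A with any A-algebra. -/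
theorem result {A B B' : Type u} [CommRing A] [CommRing B] [CommRing B'] [Algebra A B] [Algebra B B'] [Algebra A B'] [IsScalarTower A B B']
    [Algebra.FiniteType A B] [Module.Flat B B']
    (N : Type u) [AddCommGroup N] [Module B N] [Module A N] [IsScalarTower A B N] [Module.Finite B N] [Module.Flat A N]
    (h : ∀ (p : Ideal A) (q : Ideal B) [p.IsPrime] [q.IsPrime] [q.LiesOver p],
      FlatCA.fiberIdeal p q ∈ associatedPrimes (p.Fiber B) (FlatCA.fiberMod p B N) →
      ∃ q' : Ideal B', q'.IsPrime ∧ q'.comap (algebraMap B B') = q) :
    ∀ (A' : Type u) [CommRing A'] [Algebra A A'],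
      Function.Injective (((TensorProduct.mk B B' N 1).restrictScalars A).baseChange A') := by
  intro A' _ _
  refine Flat2A.UnivInjCover.univInj_mk N ?_ A'
  intro Q _ _ q hq
  have hprime : q.IsPrime := by
    obtain ⟨m, hm⟩ := hq
    exact hm.1.1
  have hflat : FlatCA.FlatAt A q N := by
    rw [Flat2C.FlatAtCriterion.flatAt_iff]
    intro I x hx
    refine ⟨1, fun h => hprime.ne_top ((Ideal.eq_top_iff_one q).mpr h), ?_⟩
    rw [one_smul]
    apply Module.Flat.lTensor_preserves_injective_linearMap (M := N) I.subtype I.injective_subtype
    rw [hx, map_zero]
  have : q.LiesOver (q.under A) := inferInstance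
  exact h (q.under A) q ((S1236.result N Q (q.under A) q hflat).mp hq).2

end Groth.Agent.S1230
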