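import Groth.Statements.S1234
import Groth.Agent.Flat2B.WeakAssHens

set_option autoImplicit false
universe u
open FlatMor

namespace Groth.Agent.S1234

open TensorProduct IsLocalRing in
/-- Stacks Tag 0CTU (ring form, S = Spec A): let M be an A-module and p a prime of A; let Ah be a henselization and Ash a strict henselization of the local ring A_p. The following are equivalent: p is a weakly associated prime of M; the maximal ideal of A_p is a weakly associated prime of M_p; the maximal ideal of Ah is a weakly associated prime of Ah ⊗ M_p; the maximal ideal of Ash is a weakly associated prime of Ash ⊗ M_p. -/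
theorem result {A : Type u} [CommRing A] (M : Type u) [AddCommGroup M] [Module A M] (p : Ideal A) [p.IsPrime]
    (Ah Ash : Type u) [CommRing Ah] [IsLocalRing Ah] [CommRing Ash] [IsLocalRing Ash]
    [Algebra (Localization.AtPrime p) Ah] [IsLocalHom (algebraMap (Localization.AtPrime p) Ah)] [Hensel.IsHenselization (Localization.AtPrime p) Ah]
    [Algebra (Localization.AtPrime p) Ash] [IsLocalHom (algebraMap (Localization.AtPrime p) Ash)] [Hensel.IsStrictHenselization (Localization.AtPrime p) Ash] :
    [p ∈ FlatCA.weakAss A M,
     maximalIdeal (Localization.AtPrime p) ∈ FlatCA.weakAss (Localization.AtPrime p) (LocalizedModule p.primeCompl M),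
     maximalIdeal Ah ∈ FlatCA.weakAss Ah (Ah ⊗[Localization.AtPrime p] LocalizedModule p.primeCompl M),
     maximalIdeal Ash ∈ FlatCA.weakAss Ash (Ash ⊗[Localization.AtPrime p] LocalizedModule p.primeCompl M)].TFAE := by
  have h12 : p ∈ FlatCA.weakAss A M ↔
      maximalIdeal (Localization.AtPrime p) ∈ FlatCA.weakAss (Localization.AtPrime p) (LocalizedModule p.primeCompl M) := by
    rw [Flat2B.WeakAss.mem_weakAss_localization_iff p.primeCompl (LocalizedModule.mkLinearMap p.primeCompl M)]
    have h2 : (maximalIdeal (Localization.AtPrime p)).comap (algebraMap A (Localization.AtPrime p)) = p :=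
      Localization.AtPrime.under_maximalIdeal
    rw [h2]
  have h3 := Flat2B.WeakAssHens.maximalIdeal_mem_weakAss_iff_of_laz
    (Hensel.Lazard.laz_of_isHenselization (R := Localization.AtPrime p) (S := Ah))
    (Hensel.Exist.map_maximalIdeal_of_isHenselization (Localization.AtPrime p) Ah) (LocalizedModule p.primeCompl M)
  have h4 := Flat2B.WeakAssHens.maximalIdeal_mem_weakAss_iff_of_laz
    (Hensel.Lazard.laz_of_isStrictHenselization (R := Localization.AtPrime p) (S := Ash))
    (Hensel.Exist.map_maximalIdeal_of_isStrictHenselization (Localization.AtPrime p) Ash) (LocalizedModule p.primeCompl M)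
  tfae_have 1 ↔ 2 := h12
  tfae_have 3 ↔ 2 := h3
  tfae_have 4 ↔ 2 := h4
  tfae_finish

end Groth.Agent.S1234
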