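import Groth.Statements.S1235
import Groth.Agent.Hensel.Lazard
import Groth.Agent.Flat2B.FlatIndEtale

set_option autoImplicit false
universe u
open FlatMor

namespace Groth.Agent.S1235

open IsLocalRing in
/-- Stacks Tag 05VL (ring form, S = Spec A; equivalences (1)⇔(2)⇔(3) for a module over the strict henselization and (4)⇔(5) for a module over the henselization; the source's comparison of the two groups when Msh = Ash ⊗ Mh, and its item (6), are not stated): let p be a prime of A, Ah a henselization and Ash a strict henselization of A_p, with Ash an Ah-algebra compatibly with the maps from A_p. For a module Msh over Ash the following are equivalent: Msh is flat over A_p; Msh is flat over Ah; Msh is flat over Ash. For a module Mh over Ah: Mh is flat over A_p if and only if it is flat over Ah. -/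
theorem result {A : Type u} [CommRing A] (p : Ideal A) [p.IsPrime]
    (Ah Ash : Type u) [CommRing Ah] [IsLocalRing Ah] [CommRing Ash] [IsLocalRing Ash]
    [Algebra (Localization.AtPrime p) Ah] [IsLocalHom (algebraMap (Localization.AtPrime p) Ah)] [Hensel.IsHenselization (Localization.AtPrime p) Ah]
    [Algebra (Localization.AtPrime p) Ash] [IsLocalHom (algebraMap (Localization.AtPrime p) Ash)] [Hensel.IsStrictHenselization (Localization.AtPrime p) Ash]
    [Algebra Ah Ash] [IsScalarTower (Localization.AtPrime p) Ah Ash]
    (Msh : Type u) [AddCommGroup Msh] [Module Ash Msh] [Module Ah Msh] [Module (Localization.AtPrime p) Msh]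
    [IsScalarTower Ah Ash Msh] [IsScalarTower (Localization.AtPrime p) Ash Msh] [IsScalarTower (Localization.AtPrime p) Ah Msh]
    (Mh : Type u) [AddCommGroup Mh] [Module Ah Mh] [Module (Localization.AtPrime p) Mh] [IsScalarTower (Localization.AtPrime p) Ah Mh] :
    [Module.Flat (Localization.AtPrime p) Msh, Module.Flat Ah Msh, Module.Flat Ash Msh].TFAE ∧
    (Module.Flat (Localization.AtPrime p) Mh ↔ Module.Flat Ah Mh) := by
  have hfh : Module.Flat (Localization.AtPrime p) Ah :=
    (Hensel.Lazard.faithfullyFlat_of_isHenselization (Localization.AtPrime p) Ah).toFlat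
  have hfsh : Module.Flat (Localization.AtPrime p) Ash :=
    (Hensel.Lazard.faithfullyFlat_of_isStrictHenselization (Localization.AtPrime p) Ash).toFlat
  have hh : Flat2B.FlatIndEtale.FinEtale (Localization.AtPrime p) Ah := fun s =>
    Hensel.Lazard.exists_etale_of_isHenselization _ _ s
  have hsh : Flat2B.FlatIndEtale.FinEtale (Localization.AtPrime p) Ash := fun s =>
    Hensel.Lazard.exists_etale_of_isStrictHenselization _ _ s
  have hfhsh : Module.Flat Ah Ash := Flat2B.FlatIndEtale.flat_of_flat hh Ash
  refine ⟨?_, fun h => ?_, fun h => ?_⟩
  · tfae_have 1 → 3 := fun h => Flat2B.FlatIndEtale.flat_of_flat hsh Msh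
    tfae_have 3 → 2 := fun h => Module.Flat.trans Ah Ash Msh
    tfae_have 2 → 1 := fun h => Module.Flat.trans (Localization.AtPrime p) Ah Msh
    tfae_finish
  · exact Flat2B.FlatIndEtale.flat_of_flat hh Mh
  · exact Module.Flat.trans (Localization.AtPrime p) Ah Mh

end Groth.Agent.S1235
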