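import Groth.Statements.S1238
import Groth.Agent.Flat2B.FlatLocusAux
import Groth.Agent.S1237
import Mathlib.RingTheory.Finiteness.ModuleFinitePresentation

set_option autoImplicit false
universe u
open FlatMor

namespace Groth.Agent.S1238

open Flat2B.FlatLocusAux

/-- flatness at a prime of a quotient algebra, seen over the covering polynomial ring -/
theorem flatAt_comap_iff {R P S : Type u} [CommRing R] [CommRing P] [CommRing S] [Algebra R P]
    [Algebra P S] [Algebra R S] [IsScalarTower R P S] (hsurj : Function.Surjective (algebraMap P S))
    (q : Ideal S) [q.IsPrime] :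
    FlatCA.FlatAt R (q.comap (algebraMap P S)) S ↔ Module.Flat R (Localization.AtPrime q) := by
  have h1 : Algebra.algebraMapSubmonoid S (q.comap (algebraMap P S)).primeCompl = q.primeCompl := by
    ext x
    obtain ⟨y, rfl⟩ := hsurj x
    constructor
    · rintro ⟨z, hz, hzy⟩
      intro hy
      apply hz
      rw [SetLike.mem_coe, Ideal.mem_comap, hzy]
      exact hy
    · intro hy
      exact ⟨y, hy, rfl⟩
  have h2 : IsLocalization (Algebra.algebraMapSubmonoid S (q.comap (algebraMap P S)).primeCompl)
      (Localization.AtPrime q) := by
    rw [h1]; infer_instance
  have h3 : IsLocalizedModule (q.comap (algebraMap P S)).primeCompl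
      (IsScalarTower.toAlgHom P S (Localization.AtPrime q)).toLinearMap :=
    isLocalizedModule_iff_isLocalization.mpr h2
  have e := IsLocalizedModule.iso (q.comap (algebraMap P S)).primeCompl
      (IsScalarTower.toAlgHom P S (Localization.AtPrime q)).toLinearMap
  exact Module.Flat.equiv_iff (e.restrictScalars R)

/-- Stacks Tag 05IM (ring form, X = Spec S, S = Spec R affine): let R be a ring with finitely many weakly associated primes and S a finite type R-algebra. Then the set of primes q of S with S_q flat over R is open in Spec S, and every such q has a basic open neighbourhood D(g) with S_g flat and of finite presentation over R. -/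
theorem result {R S : Type u} [CommRing R] [CommRing S] [Algebra R S] [Algebra.FiniteType R S]
    (hR : (FlatCA.weakAss R R).Finite) :
    IsOpen {q : PrimeSpectrum S | Module.Flat R (Localization.AtPrime q.asIdeal)} ∧
    ∀ (q : Ideal S) [q.IsPrime], Module.Flat R (Localization.AtPrime q) → ∃ g : S, g ∉ q ∧
      Algebra.FinitePresentation R (Localization.Away g) ∧ Module.Flat R (Localization.Away g) := by
  obtain ⟨n, φ, hφ⟩ := Algebra.FiniteType.iff_quotient_mvPolynomial''.mp ‹Algebra.FiniteType R S›
  algebraize [φ.toRingHom]
  have hsurj : Function.Surjective (algebraMap (MvPolynomial (Fin n) R) S) := hφ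
  have : IsScalarTower R (MvPolynomial (Fin n) R) S := IsScalarTower.of_algebraMap_eq' (by
    ext r; exact (φ.commutes r).symm)
  have : Module.Finite (MvPolynomial (Fin n) R) S :=
    Module.Finite.of_surjective (Algebra.linearMap (MvPolynomial (Fin n) R) S) hsurj
  obtain ⟨h1, h2⟩ := Groth.Agent.S1237.result (R := R) (S := MvPolynomial (Fin n) R) hR S
  refine ⟨?_, ?_⟩
  · have h3 := h1.preimage (PrimeSpectrum.continuous_comap (algebraMap (MvPolynomial (Fin n) R) S))
    convert h3 using 1
    ext q
    exact (flatAt_comap_iff hsurj q.asIdeal).symm
  · intro q hq hflat
    obtain ⟨g, hg, hfp, hfl⟩ := h2 (q.comap (algebraMap (MvPolynomial (Fin n) R) S))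
      ((flatAt_comap_iff hsurj q).mpr hflat)
    refine ⟨algebraMap _ S g, hg, ?_, ?_⟩
    · have h3 : IsLocalizedModule (Submonoid.powers g)
        (IsScalarTower.toAlgHom (MvPolynomial (Fin n) R) S
          (Localization.Away (algebraMap _ S g))).toLinearMap := by
        rw [isLocalizedModule_iff_isLocalization, Algebra.algebraMapSubmonoid_powers]
        infer_instance
      let e := IsLocalizedModule.iso (Submonoid.powers g)
        (IsScalarTower.toAlgHom (MvPolynomial (Fin n) R) S
          (Localization.Away (algebraMap _ S g))).toLinearMap
      let ψ : Localization.Away g →+* Localization.Away (algebraMap _ S g) :=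
        IsLocalization.Away.map (Localization.Away g) (Localization.Away (algebraMap _ S g))
          (algebraMap (MvPolynomial (Fin n) R) S) g
      have hψ : ∀ x : MvPolynomial (Fin n) R, ψ (algebraMap _ _ x) = algebraMap _ _ (algebraMap _ S x) :=
        fun x => IsLocalization.map_eq _ x
      let _ : Algebra (Localization.Away g) (Localization.Away (algebraMap (MvPolynomial (Fin n) R) S g)) :=
        ψ.toAlgebra
      have ht : IsScalarTower (MvPolynomial (Fin n) R) (Localization.Away g)
          (Localization.Away (algebraMap (MvPolynomial (Fin n) R) S g)) :=
        IsScalarTower.of_algebraMap_eq (fun x =>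
          (IsScalarTower.algebraMap_apply (MvPolynomial (Fin n) R) S _ x).trans (hψ x).symm)
      have ht' : IsScalarTower R (Localization.Away g)
          (Localization.Away (algebraMap (MvPolynomial (Fin n) R) S g)) :=
        IsScalarTower.to₁₃₄ R (MvPolynomial (Fin n) R) _ _
      let e' := e.extendScalarsOfIsLocalization (Submonoid.powers g) (Localization.Away g)
      have hfpB : Module.FinitePresentation (Localization.Away g)
        (Localization.Away (algebraMap (MvPolynomial (Fin n) R) S g)) :=
        Module.FinitePresentation.of_equiv e'
      have hfpA : Algebra.FinitePresentation (Localization.Away g)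
        (Localization.Away (algebraMap (MvPolynomial (Fin n) R) S g)) :=
        (Module.FinitePresentation.iff_finitePresentation_of_finite _ _).mp hfpB
      have hfpR : Algebra.FinitePresentation R (Localization.Away g) := inferInstance
      exact Algebra.FinitePresentation.trans R (Localization.Away g) _
    · have h3 : IsLocalizedModule (Submonoid.powers g)
        (IsScalarTower.toAlgHom (MvPolynomial (Fin n) R) S
          (Localization.Away (algebraMap _ S g))).toLinearMap := by
        rw [isLocalizedModule_iff_isLocalization, Algebra.algebraMapSubmonoid_powers]
        infer_instance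
      have e := IsLocalizedModule.iso (Submonoid.powers g)
        (IsScalarTower.toAlgHom (MvPolynomial (Fin n) R) S
          (Localization.Away (algebraMap _ S g))).toLinearMap
      exact Module.Flat.of_linearEquiv (e.restrictScalars R).symm

end Groth.Agent.S1238
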