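import Groth.Statements.S1239
import Groth.Agent.S1208
import Groth.Agent.S0387
import Groth.Agent.Flat2B.FgLoc
import Mathlib.RingTheory.LocalProperties.FinitePresentation

set_option autoImplicit false
universe u
open FlatMor

namespace Groth.Agent.S1239

open TensorProduct in
/-- In a flat module over `A`, an element killed by powers of all `f i` vanishes, when `A` embeds
into the product of the localizations at the `f i`. -/
theorem eq_zero_of_forall_pow_smul {A P : Type*} [CommRing A] [AddCommGroup P] [Module A P]
    [Module.Flat A P] {n : ℕ} (f : Fin n → A)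
    (hdense : Function.Injective (RingHom.pi (fun i => algebraMap A (Localization.Away (f i)))))
    (y : P) (hy : ∀ i, ∃ e : ℕ, f i ^ e • y = 0) : y = 0 := by
  classical
  choose e he using hy
  let K := Finset.univ.sup e
  have h3 : ∀ i, f i ^ K • y = 0 := by
    intro i
    have : f i ^ K = f i ^ (K - e i) * f i ^ (e i) := by
      rw [← pow_add, Nat.sub_add_cancel (Finset.le_sup (Finset.mem_univ i))]
    rw [this, mul_smul, he i, smul_zero]
  let φ : A →ₗ[A] (Fin n → A) := LinearMap.toSpanSingleton A _ (fun i => f i ^ K)
  have hφ : Function.Injective φ := by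
    rw [injective_iff_map_eq_zero]
    intro a ha
    apply hdense
    rw [map_zero]
    funext i
    have : a * f i ^ K = 0 := congrFun ha i
    simp only [RingHom.pi_apply, Pi.zero_apply]
    have hu : IsUnit (algebraMap A (Localization.Away (f i)) (f i ^ K)) := by
      rw [map_pow]
      exact (IsLocalization.Away.algebraMap_isUnit (f i)).pow K
    apply hu.mul_left_eq_zero.mp
    rw [← map_mul, this, map_zero]
  have hφP : Function.Injective (φ.rTensor P) :=
    Module.Flat.rTensor_preserves_injective_linearMap φ hφ
  have h1 : φ.rTensor P (1 ⊗ₜ y) = 0 := by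
    rw [LinearMap.rTensor_tmul]
    have : φ 1 = ∑ i, f i ^ K • (Pi.single i (1 : A) : Fin n → A) := by
      funext j
      simp [φ, Finset.sum_apply, Pi.single_apply]
    rw [this, TensorProduct.sum_tmul]
    refine Finset.sum_eq_zero fun i _ => ?_
    rw [← TensorProduct.smul_tmul', ← TensorProduct.tmul_smul, h3 i, TensorProduct.tmul_zero]
  have h2 : (1 : A) ⊗ₜ[A] y = 0 := hφP (by rw [h1, map_zero])
  simpa using congrArg (TensorProduct.lid A P) h2

/-- Stacks Tag 081N (ring form, X = Spec B, S = Spec A affine; a retrocompact open of Spec A is a finite union of basic opens): let B be a finitely presented A-algebra and N a finite B-module which is flat over A. Let f_1, …, f_n be elements of A such that the map from A to the product of the localizations A_{f_i} is injective (the open D(f_1) ∪ … ∪ D(f_n) is scheme-theoretically dense). If each localization N_{f_i} is finitely presented over B_{f_i}, then N is finitely presented over B. -/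
theorem result {A B : Type u} [CommRing A] [CommRing B] [Algebra A B] [Algebra.FinitePresentation A B]
    (N : Type u) [AddCommGroup N] [Module B N] [Module A N] [IsScalarTower A B N] [Module.Finite B N] [Module.Flat A N]
    {n : ℕ} (f : Fin n → A)
    (hdense : Function.Injective (RingHom.pi (fun i => algebraMap A (Localization.Away (f i)))))
    (hfp : ∀ i, Module.FinitePresentation (Localization.Away (algebraMap A B (f i)))
      (LocalizedModule (Submonoid.powers (algebraMap A B (f i))) N)) :
    Module.FinitePresentation B N := by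
  obtain ⟨m, φ, hφ⟩ := Module.Finite.exists_fin' B N
  -- it is enough to find, for every prime `q`, some `g ∉ q` with `N_g` finitely presented
  suffices H : ∀ (q : Ideal B) [q.IsPrime], ∃ g : B, g ∉ q ∧
      Module.FinitePresentation (Localization.Away g) (LocalizedModule.Away g N) by
    let s : Set B := {g | Module.FinitePresentation (Localization.Away g)
      (LocalizedModule.Away g N)}
    refine Module.FinitePresentation.of_localizationSpan s ?_ (fun g => g.2)
    by_contra hne
    obtain ⟨q, hq, hle⟩ := Ideal.exists_le_maximal _ hne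
    obtain ⟨g, hg, hfp⟩ := H q
    exact hg (hle (Ideal.subset_span hfp))
  intro q hq
  -- `N_q` is finitely presented
  have hfpq : Module.FinitePresentation (Localization.AtPrime q)
      (LocalizedModule q.primeCompl N) := by
    refine Groth.Agent.S1208.result (R := A) N q ?_
    rw [Groth.Agent.Flat2C.FlatAtCriterion.flatAt_iff]
    intro I x hx
    refine ⟨1, fun h => hq.ne_top ((Ideal.eq_top_iff_one q).mpr h), ?_⟩
    have : x = 0 := by
      apply Module.Flat.lTensor_preserves_injective_linearMap (M := N) I.subtype
        I.subtype_injective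
      rw [hx, map_zero]
    rw [this, smul_zero]
  obtain ⟨Kq, hKq, hKqfg, hKq'⟩ :=
    Groth.Agent.Flat2B.FgLoc.exists_fg_ker_of_localized_fp q.primeCompl φ hφ
  have hfp' := fun i => Groth.Agent.Flat2B.FgLoc.exists_fg_ker_of_localized_fp
    (Submonoid.powers (algebraMap A B (f i))) φ hφ
  choose Kf hKf hKffg hKf' using hfp'
  let K : Submodule B (Fin m → B) := Kq ⊔ ⨆ i, Kf i
  have hKle : K ≤ LinearMap.ker φ := sup_le hKq (iSup_le hKf)
  have hKfg : K.FG := hKqfg.sup (Submodule.fg_iSup _ hKffg)
  have hN'fp : Module.FinitePresentation B ((Fin m → B) ⧸ K) :=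
    Module.finitePresentation_of_surjective K.mkQ K.mkQ_surjective (by simpa using hKfg)
  -- flatness of `N' = B^m/K` at `q`
  have hqmem : ∀ x ∈ LinearMap.ker φ, ∃ s ∈ q.primeCompl, s • x ∈ K := by
    intro x hx
    obtain ⟨s, hs, hsx⟩ := hKq' x hx
    exact ⟨s, hs, Submodule.mem_sup_left hsx⟩
  have hbij := Groth.Agent.Flat2B.FgLoc.bijective_map_liftQ q.primeCompl φ hφ K hKle hqmem
  have hNq : Module.Flat A (LocalizedModule q.primeCompl N) := by
    rw [Groth.Agent.Flat2C.FlatAtCriterion.flat_isLocalizedModule_iff q.primeCompl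
      (LocalizedModule.mkLinearMap q.primeCompl N)]
    intro I x hx
    refine ⟨1, one_mem _, ?_⟩
    have : x = 0 := by
      apply Module.Flat.lTensor_preserves_injective_linearMap (M := N) I.subtype
        I.subtype_injective
      rw [hx, map_zero]
    rw [this, smul_zero]
  have hN'q : Module.Flat A (LocalizedModule q.primeCompl ((Fin m → B) ⧸ K)) :=
    Module.Flat.of_linearEquiv (((LinearEquiv.ofBijective _ hbij).restrictScalars B).restrictScalars A)
  have hopen := Groth.Agent.S0387.result (R := A) (S := B) (M := (Fin m → B) ⧸ K)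
  obtain ⟨_, ⟨g, rfl⟩, hqg, hgU⟩ := PrimeSpectrum.isTopologicalBasis_basic_opens.exists_subset_of_mem_open
    (show (⟨q, hq⟩ : PrimeSpectrum B) ∈ _ from hN'q) hopen
  refine ⟨g, hqg, ?_⟩
  have hN'g : Module.Flat A (LocalizedModule (Submonoid.powers g) ((Fin m → B) ⧸ K)) := by
    apply Groth.Agent.Flat2B.FgLoc.flat_localizedAway_of_forall_prime
    intro Q hQ hgQ
    exact hgU (show (⟨Q, hQ⟩ : PrimeSpectrum B) ∈ _ from hgQ)
  refine Groth.Agent.Flat2B.FgLoc.fp_localized_of_ker (Submonoid.powers g) φ hφ K hKle hKfg ?_
  intro x hx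
  have hy : LocalizedModule.mkLinearMap (Submonoid.powers g) ((Fin m → B) ⧸ K) (K.mkQ x) = 0 := by
    apply eq_zero_of_forall_pow_smul (A := A) f hdense
    intro i
    obtain ⟨s, ⟨e, rfl⟩, hsx⟩ := hKf' i x hx
    refine ⟨e, ?_⟩
    have h1 : K.mkQ (algebraMap A B (f i) ^ e • x) = 0 := by
      rw [Submodule.mkQ_apply, Submodule.Quotient.mk_eq_zero]
      exact Submodule.mem_sup_right (Submodule.mem_iSup_of_mem i hsx)
    rw [← algebraMap_smul B, map_pow, ← map_smul, ← map_smul, h1, map_zero]
  obtain ⟨s, hs⟩ := (IsLocalizedModule.eq_zero_iff (Submonoid.powers g) _).mp hy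
  refine ⟨s, s.2, ?_⟩
  rw [← Submodule.Quotient.mk_eq_zero, Submodule.Quotient.mk_smul]
  exact hs

end Groth.Agent.S1239
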