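import Groth.Statements.S1240
import Groth.Agent.Flat2B.FibGenMain

set_option autoImplicit false
universe u
open FlatMor

namespace Groth.Agent.S1240

open AlgebraicGeometry CategoryTheory in
/-- Stacks Tag 081L: let f : X → S be flat and locally of finite type and U ⊆ S a dense open such that the fibres of f at points over U have local dimension at most e everywhere. If f is locally of finite presentation, or U is retrocompact in S, then every fibre of f has local dimension at most e at every point. -/
theorem result {X S : Scheme.{u}} (f : X ⟶ S) [Flat f] [LocallyOfFiniteType f]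
    (U : S.Opens) (hU : Dense (U : Set S)) (e : ℕ)
    (hle : ∀ x : X, f.base x ∈ U → FlatMor.fibreDimAt f x ≤ e)
    (h : LocallyOfFinitePresentation f ∨ IsRetrocompact (U : Set S)) (x : X) :
    FlatMor.fibreDimAt f x ≤ e := by
  refine Groth.Agent.VarietyA.LocDim.fibreDimAt_le f x e fun z _ _ ↦ ?_
  by_contra hlt
  rw [not_le] at hlt
  obtain ⟨m, hm⟩ := Cardinal.lt_aleph0.mp (Groth.Agent.CycB.RelDim.rtd_lt_aleph0 f z)
  have h1 : ((e + 1 : ℕ) : Cardinal) ≤ Groth.Agent.CycB.RelDim.rtd f z := by
    rw [hm] at hlt ⊢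
    exact_mod_cast Nat.succ_le_of_lt (by exact_mod_cast hlt)
  obtain ⟨w, hw, hdw⟩ := Groth.Agent.Flat2B.FibGenMain.aux f U hU (e + 1) h z h1
  obtain ⟨n, hn, hn'⟩ := Groth.Agent.VarietyA.LocDim.le_fibreDimAt f w w specializes_rfl rfl
  rw [hn] at hdw
  have h2 : e + 1 ≤ n := by exact_mod_cast hdw
  have h3 : (n : WithBot ℕ∞) ≤ e := hn'.trans (hle w hw)
  have h4 : n ≤ e := by exact_mod_cast h3
  omega

end Groth.Agent.S1240
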