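import Groth.Statements.S1241
import Groth.Agent.Flat2B.CoverProj

set_option autoImplicit false
universe u
open FlatMor

namespace Groth.Agent.S1241

open TensorProduct in
/-- Stacks Tag 05KW (ring form, X = Spec S and S = Spec R affine): let S be a finitely presented R-algebra, N a finitely presented S-module and p a prime of R such that N_q is flat over R for every prime q of S over p. Then there are an étale R-algebra R' with a prime p' over p having the same residue field, and an étale S-algebra S' with a compatible R'-algebra structure, such that every prime of S over p is the contraction of a prime of S' and S' ⊗_S N is a projective R'-module. -/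
theorem result {R S : Type u} [CommRing R] [CommRing S] [Algebra R S] [Algebra.FinitePresentation R S]
    (N : Type u) [AddCommGroup N] [Module S N] [Module R N] [IsScalarTower R S N] [Module.FinitePresentation S N]
    (p : Ideal R) [p.IsPrime] (hflat : ∀ (q : Ideal S) [q.IsPrime], q.LiesOver p → FlatCA.FlatAt R q N) :
    ∃ (R' S' : Type u) (_ : CommRing R') (_ : CommRing S') (_ : Algebra R R') (_ : Algebra S S') (_ : Algebra R' S')
      (_ : Algebra R S') (_ : IsScalarTower R R' S') (_ : IsScalarTower R S S')
      (p' : Ideal R') (_ : p'.IsPrime),
      FlatCA.IsEtaleNhd R R' p p' ∧ Algebra.Etale S S' ∧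
      (∀ (q : Ideal S) [q.IsPrime], q.LiesOver p → ∃ q' : Ideal S', q'.IsPrime ∧ q'.comap (algebraMap S S') = q) ∧
      Module.Projective R' (RestrictScalars R' S' (S' ⊗[S] N)) := by
  obtain ⟨R', S', _, _, _, _, _, _, _, _, p', _, h1, h2, h3, h4⟩ := Flat2B.CoverProj.exists_cover N p hflat
  refine ⟨R', S', inferInstance, inferInstance, inferInstance, inferInstance, inferInstance, inferInstance,
    inferInstance, inferInstance, p', inferInstance, h1, h2, ?_, ?_⟩
  · intro q _ hq
    obtain ⟨q', hq', h5, -⟩ := h3 q hq
    exact ⟨q', hq', h5.over.symm⟩
  · exact Module.Projective.of_equiv (Flat2B.CoverProj.restrictEquiv R' S' S N).symm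

end Groth.Agent.S1241
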