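import Groth.Statements.S1245
import Groth.Agent.Flat2B.Impurity
import Mathlib.RingTheory.Jacobson.Ring
import Mathlib.RingTheory.Nullstellensatz
-- import your own Groth.Agent.* helpers here

set_option autoImplicit false
universe u
open FlatMor

namespace Groth.Agent.S1245

open TensorProduct in
/-- a point of the fibre over `p` outside of which `s` does not vanish specializes to a closed point of the fibre with the same property -/
theorem exists_closed_point {A A₁ : Type u} [CommRing A] [CommRing A₁] [Algebra A A₁] [Algebra.FiniteType A A₁]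
    (p : Ideal A) [p.IsPrime] (t : Ideal A₁) [t.IsPrime] [t.LiesOver p] (s : A₁) (hs : s ∉ t) :
    ∃ t₂ : Ideal A₁, t₂.IsPrime ∧ t₂.LiesOver p ∧ t ≤ t₂ ∧ s ∉ t₂ ∧ (FlatCA.fiberIdeal p t₂).IsMaximal := by
  have hJ : IsJacobsonRing (p.Fiber A₁) := isJacobsonRing_of_finiteType (A := p.ResidueField)
  have hprime : (FlatCA.fiberIdeal p t).IsPrime := Flat2A.Fiber.fiberIdeal_isPrime p t
  have hjac : (FlatCA.fiberIdeal p t).jacobson = FlatCA.fiberIdeal p t := isJacobsonRing_iff_prime_eq.mp hJ _ hprime
  have hs' : (1 : p.ResidueField) ⊗ₜ[A] s ∉ FlatCA.fiberIdeal p t := by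
    rw [Flat2A.Fiber.one_tmul_mem_fiberIdeal_iff]
    exact hs
  rw [← hjac, Ideal.jacobson, Ideal.mem_sInf] at hs'
  push Not at hs'
  obtain ⟨m, ⟨hm, hmax⟩, hsm⟩ := hs'
  have hmp : m.IsPrime := hmax.isPrime
  refine ⟨m.comap (Flat2A.FiberAss.toFiber p A₁), inferInstance, Flat2A.FiberAss.liesOver_of_comap p m hmp.ne_top, ?_, hsm, ?_⟩
  · rw [← Flat2A.Fiber.comap_fiberIdeal p t]
    exact Ideal.comap_mono hm
  · rw [Flat2A.Fiber.fiberIdeal_comap p m]
    exact hmax

open TensorProduct in
attribute [local instance] Algebra.TensorProduct.rightAlgebra in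
/-- Stacks Tag 05FX (ring form, X = Spec B affine, base change rings affine): let B be a finite type A-algebra, N a finite B-module and p a prime of A. If there is an impurity of N above p, then there is one whose base change A → A' is of finite presentation and whose point t is a closed point of the fibre of Spec A' over p (the extension of t to the fibre ring is maximal). -/
theorem result' {A B : Type u} [CommRing A] [CommRing B] [Algebra A B] 
    (N : Type u) [AddCommGroup N] [Module B N] (p : Ideal A) [p.IsPrime]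
    (h : FlatCA.HasImpurity A B N p (fun _ _ _ _ => True)) :
    FlatCA.HasImpurity A B N p (fun A' _ _ t => Algebra.FinitePresentation A A' ∧ (FlatCA.fiberIdeal p t).IsMaximal) := by
  obtain ⟨A', B', N', _, _, _, _, _, _, _, _, _, _, _, _, _, _, f, t', t, _, _, P, _, ⟨_, hf, hle, _, _, hP, hcl⟩, -⟩ := h
  obtain ⟨s, hs, hmem⟩ := (Flat2B.Impurity.misses_iff t P).mp hcl
  obtain ⟨Z, hZ, hlift⟩ := Flat2B.Impurity.exists_finset_misses (A := A) (B := B) A' B' t P s hs hmem
  have : Finite Z := hZ
  let A₁ := MvPolynomial Z A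
  let φ : A₁ →ₐ[A] A' := MvPolynomial.aeval (fun z : Z => (z : A'))
  let _ : Algebra A₁ A' := φ.toRingHom.toAlgebra
  have _ : IsScalarTower A A₁ A' := IsScalarTower.of_algebraMap_eq fun x => (φ.commutes x).symm
  obtain ⟨s₁, hs₁, hmem₁⟩ := hlift A₁ (by
    intro z hz
    refine ⟨MvPolynomial.X ⟨z, hz⟩, ?_⟩
    exact MvPolynomial.aeval_X _ _)
  have : (t.comap (algebraMap A₁ A')).LiesOver p := by
    refine ⟨?_⟩
    rw [Ideal.under_def, Ideal.comap_comap, ← IsScalarTower.algebraMap_eq]
    exact Ideal.LiesOver.over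
  obtain ⟨t₂, ht₂, hover₂, hle₂, hs₂, hmax⟩ := exists_closed_point p (t.comap (algebraMap A₁ A')) s₁ hs₁
  refine Flat2B.Impurity.hasImpurity_of_pushforward f hf hP A₁ t₂ ((Ideal.comap_mono hle).trans hle₂) ?_ ⟨inferInstance, hmax⟩
  rw [Flat2B.Impurity.misses_iff]
  refine ⟨s₁, hs₂, ?_⟩
  have h1 : P.comap (Flat2B.Impurity.comparison (B := B) A₁ A' B').toRingHom ⊔
      (t.comap (algebraMap A₁ A')).map (algebraMap A₁ (B ⊗[A] A₁)) ≤
      P.comap (Flat2B.Impurity.comparison (B := B) A₁ A' B').toRingHom ⊔ t₂.map (algebraMap A₁ (B ⊗[A] A₁)) :=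
    sup_le_sup le_rfl (Ideal.map_mono hle₂)
  exact h1 hmem₁

/-- Stacks Tag 05FX (ring form, X = Spec B affine, base change rings affine): let B be a finite type A-algebra, N a finite B-module and p a prime of A. If there is an impurity of N above p, then there is one whose base change A → A' is of finite presentation and whose point t is a closed point of the fibre of Spec A' over p (the extension of t to the fibre ring is maximal). -/
theorem result {A B : Type u} [CommRing A] [CommRing B] [Algebra A B] [Algebra.FiniteType A B]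
    (N : Type u) [AddCommGroup N] [Module B N] [Module.Finite B N] (p : Ideal A) [p.IsPrime]
    (h : FlatCA.HasImpurity A B N p (fun _ _ _ _ => True)) :
    FlatCA.HasImpurity A B N p (fun A' _ _ t => Algebra.FinitePresentation A A' ∧ (FlatCA.fiberIdeal p t).IsMaximal) :=
  result' N p h

end Groth.Agent.S1245
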