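import Groth.Statements.S1247
import Groth.Agent.S1245
import Groth.Agent.Flat2B.ImpurityNoeth
import Groth.Agent.Flat2B.ImpurityLift
-- import your own Groth.Agent.* helpers here

set_option autoImplicit false
universe u
open FlatMor

namespace Groth.Agent.S1247

open TensorProduct in
/-- Stacks Tag 05J1 (ring form, X = Spec B and S = Spec A affine with A Noetherian): let B be a finite type A-algebra, N a finite B-module and p a prime of A. If there is an impurity of N above p then there is one whose base change A → A' is of finite type and quasi-finite at the point t. -/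
theorem result {A B : Type u} [CommRing A] [IsNoetherianRing A] [CommRing B] [Algebra A B] [Algebra.FiniteType A B]
    (N : Type u) [AddCommGroup N] [Module B N] [Module.Finite B N] (p : Ideal A) [p.IsPrime]
    (h : FlatCA.HasImpurity A B N p (fun _ _ _ _ => True)) :
    FlatCA.HasImpurity A B N p (fun A' _ _ t => ∃ _ : t.IsPrime, Algebra.FiniteType A A' ∧ Algebra.QuasiFiniteAt A t) := by
  obtain ⟨A', B', N', _, _, _, _, _, _, _, _, _, _, _, _, _, _, f, t', t, _, _, P, _, ⟨_, hf, hle, _, _, hP, hcl⟩, hfp, hmax⟩ :=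
    S1245.result N p h
  have hft : Algebra.FiniteType A A' := inferInstance
  have hNA' : IsNoetherianRing A' := Algebra.FiniteType.isNoetherianRing A A'
  have hftB : Algebra.FiniteType A' B' := Flat2B.RelAss.finiteType_of_isPushout (A₁ := A) (B₁ := B)
  have hfinN : Module.Finite B' N' := Module.Finite.equiv hf.equiv
  have hNF : IsNoetherianRing (t'.Fiber B') := Flat2A.Fiber.fiber_isNoetherianRing t'
  obtain ⟨a, ha, hat'⟩ := Flat2B.ImpurityNoeth.exists_not_mem_of_misses p f hf t' t hle P hP hcl
  obtain ⟨g, hg, hgen⟩ := Flat2B.ImpurityNoeth.exists_generic_relAss (N' := N') t' P hP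
  obtain ⟨z, hz, hz1, hz2, hgz, htp, hqf⟩ := Flat2B.QuasiFiniteSlice.exists_slice p t' t hle hmax a ha hat' g hg
  obtain ⟨ξ, hξ, hPξ, hξz, hξass⟩ := hgen z hz1 hgz
  have hbot : (⊥ : Ideal (A' ⧸ z)).IsPrime := Ideal.isPrime_bot
  have hover : (⊥ : Ideal (A' ⧸ z)).LiesOver z := by
    refine ⟨?_⟩
    rw [Ideal.under_def, ← RingHom.ker_eq_comap_bot]
    exact Ideal.mk_ker.symm
  have hover2 : (t.map (Ideal.Quotient.mk z)).LiesOver p := by
    refine ⟨?_⟩
    rw [Flat2B.QuasiFiniteSlice.under_map_quotient z t hz2]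
    exact Ideal.LiesOver.over
  refine Flat2B.ImpurityLift.hasImpurity_of_lift_push f hf hξass
    (fun P' _ hξP' => hcl P' (hPξ.trans hξP')) (A' ⧸ z) (A' ⧸ z) (t.map (Ideal.Quotient.mk z)) ⊥ bot_le ?_
    ⟨htp, inferInstance, hqf⟩
  intro v'' _ hv''
  rw [Algebra.algebraMap_self, Ideal.comap_id] at hv''
  rw [hv'']
  change (t.map (Ideal.Quotient.mk z)).comap (Ideal.Quotient.mk z) = t
  rw [Ideal.comap_map_of_surjective _ Ideal.Quotient.mk_surjective, ← RingHom.ker_eq_comap_bot, Ideal.mk_ker, sup_eq_left.mpr hz2]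

end Groth.Agent.S1247
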