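import Groth.Statements.S1248
import Groth.Agent.CalgC.IndEtale
import Groth.Agent.Hensel.HenselPerm
import Groth.Agent.Flat2B.EtaleNhd
import Groth.Agent.Flat2B.Impurity

set_option autoImplicit false
universe u
open FlatMor

namespace Groth.Agent.S1248

open Groth.Agent.CalgC.IndEtale

theorem exists_etale_of_finite {A A' : Type u} [CommRing A] [CommRing A'] [Algebra A A']
    (h : IsIndEtale A A') (Z : Set A') (hZ : Z.Finite) :
    ∃ (E : Type u) (_ : CommRing E) (_ : Algebra A E) (_ : Algebra.Etale A E) (χ : E →ₐ[A] A'),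
      Z ⊆ Set.range χ := by
  have := hZ.to_subtype
  obtain ⟨n, ⟨e⟩⟩ := Finite.exists_equiv_fin Z
  obtain ⟨E, _, _, hE, ψ, χ, hχ⟩ := h (MvPolynomial (Fin n) A)
    (MvPolynomial.aeval (fun j => ((e.symm j : Z) : A')))
  refine ⟨E, inferInstance, inferInstance, hE, χ, ?_⟩
  intro z hz
  refine ⟨ψ (MvPolynomial.X (e ⟨z, hz⟩)), ?_⟩
  rw [← AlgHom.comp_apply, hχ]
  simp

attribute [local instance] Algebra.TensorProduct.rightAlgebra in
open IsLocalRing in
/-- Stacks Tag 05J2 (ring form, X = Spec B affine): let B be a finite type A-algebra, N a finite B-module and p a prime of A. If there is an impurity of N above p whose base change ring A' is a henselization of the local ring A_p (compatibly with A → A_p) and whose point t is the maximal ideal, then there is an impurity of N above p for which (A', t) is an elementary étale ring map at p. -/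
theorem result {A B : Type u} [CommRing A] [CommRing B] [Algebra A B] [Algebra.FiniteType A B]
    (N : Type u) [AddCommGroup N] [Module B N] [Module.Finite B N] (p : Ideal A) [p.IsPrime]
    (h : FlatCA.HasImpurity A B N p (fun A' _ _ t => ∃ (_ : IsLocalRing A') (_ : Algebra (Localization.AtPrime p) A')
        (_ : IsScalarTower A (Localization.AtPrime p) A') (_ : IsLocalHom (algebraMap (Localization.AtPrime p) A')),
        Hensel.IsHenselization (Localization.AtPrime p) A' ∧ t = maximalIdeal A')) :
    FlatCA.HasImpurity A B N p (fun A' _ _ t => ∃ _ : t.IsPrime, FlatCA.IsEtaleNhd A A' p t) := by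
  obtain ⟨A', B', N', _, _, _, _, _, _, _, _, _, _, _, _, _, _, f, t', t, _, _, P, _, ⟨_, hf, hle, hover, _, hP, hcl⟩,
    _, _, _, _, hhens, rfl⟩ := h
  -- `A'` is ind-étale over `A`
  have hind : IsIndEtale A A' := by
    have h1 : IsIndEtale (Localization.AtPrime p) A' :=
      Groth.Agent.Hensel.HenselPerm.lazardEtale_of_isHenselization (Localization.AtPrime p) A'
    exact IsInd.comp isGood_etale (isIndEtale_of_isLocalization p.primeCompl (Localization.AtPrime p)) h1
  -- trivial residue field extension
  have hres : Flat2B.EtaleNhd.ResTriv A A' p (maximalIdeal A') := by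
    intro b
    obtain ⟨x, hx⟩ := (Groth.Agent.Hensel.Exist.residueField_bijective_of_isHenselization
      (Localization.AtPrime p) A').2 (residue A' b)
    obtain ⟨r, rfl⟩ := residue_surjective x
    rw [ResidueField.map_residue, ← sub_eq_zero, ← map_sub, residue_eq_zero_iff] at hx
    obtain ⟨⟨a, s⟩, hs⟩ := IsLocalization.surj p.primeCompl r
    refine ⟨a, s, s.2, ?_⟩
    have h1 : algebraMap A A' a = algebraMap A A' (s : A) * algebraMap (Localization.AtPrime p) A' r := by
      rw [IsScalarTower.algebraMap_apply A (Localization.AtPrime p) A', ← hs, map_mul,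
        ← IsScalarTower.algebraMap_apply, mul_comm]
    rw [h1, ← mul_sub]
    refine Ideal.mul_mem_left _ _ ?_
    rw [← neg_sub]
    exact neg_mem hx
  obtain ⟨s, hs, hmem⟩ := (Flat2B.Impurity.misses_iff (maximalIdeal A') P).mp hcl
  obtain ⟨Z, hZ, hZ'⟩ := Flat2B.Impurity.exists_finset_misses (A := A) (B := B) A' B' (maximalIdeal A') P s hs hmem
  obtain ⟨A₁, _, _, _, χ, hχ⟩ := exists_etale_of_finite hind Z hZ
  let _ : Algebra A₁ A' := χ.toRingHom.toAlgebra
  have _ : IsScalarTower A A₁ A' := IsScalarTower.of_algebraMap_eq fun x => (χ.commutes x).symm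
  obtain ⟨s₁, hs₁, hmem₁⟩ := hZ' A₁ hχ
  let t₁ := (maximalIdeal A').comap (algebraMap A₁ A')
  have : (maximalIdeal A').LiesOver t₁ := ⟨rfl⟩
  have : t₁.LiesOver p := by
    refine ⟨?_⟩
    rw [Ideal.under_def, Ideal.comap_comap, ← IsScalarTower.algebraMap_eq]
    exact hover.over
  have htriv : Flat2B.EtaleNhd.ResTriv A A₁ p t₁ := hres.of_comp_left
  exact Flat2B.Impurity.hasImpurity_of_pushforward f hf hP A₁ t₁ (Ideal.comap_mono hle)
    ((Flat2B.Impurity.misses_iff t₁ _).mpr ⟨s₁, hs₁, hmem₁⟩)
    ⟨inferInstance, Flat2B.EtaleNhd.isEtaleNhd_of htriv⟩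

end Groth.Agent.S1248
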