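import Groth.Statements.S1250
import Groth.Agent.S1231
import Groth.Agent.Flat2B.LocTransfer
import Groth.Agent.Flat2B.FlatCrit
import Groth.Agent.Flat2B.FlatEt

set_option autoImplicit false
universe u
open FlatMor

namespace Groth.Agent.S1250

open Groth.Agent.Flat2B

/-- Stacks Tag 057U (ring form): given an elementary dévissage E of N at q over p in dimension n, the following are equivalent: N_q is flat over R; G_z is flat over R'; G_y (G viewed as a D-module) is flat over R'. Also equivalent to each other: N becomes flat over R on some basic open D(g) ∋ q of Spec S; G becomes flat over R' on some basic open of Spec C containing z; G as a D-module becomes flat over R' on some basic open of Spec D containing y. -/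
theorem result {R S : Type u} [CommRing R] [CommRing S] [Algebra R S] [Algebra.FiniteType R S]
    (N : Type u) [AddCommGroup N] [Module S N] [Module R N] [IsScalarTower R S N] [Module.Finite S N]
    (p : Ideal R) [p.IsPrime] (q : Ideal S) [q.IsPrime] [q.LiesOver p] (n : ℕ) (E : FlatCA.ElemDevissage R S N p q n) :
    [FlatCA.FlatAt R q N, FlatCA.FlatAt E.R' E.z E.G, FlatCA.FlatAt E.R' E.y E.G].TFAE ∧
    [∃ g : S, g ∉ q ∧ Module.Flat R (LocalizedModule (Submonoid.powers g) N),
     ∃ g : E.C, g ∉ E.z ∧ Module.Flat E.R' (LocalizedModule (Submonoid.powers g) E.G),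
     ∃ g : E.D, g ∉ E.y ∧ Module.Flat E.R' (LocalizedModule (Submonoid.powers g) E.G)].TFAE := by
  have het : Algebra.Etale R E.R' := E.etaleR.1
  have heS : Algebra.Etale S E.S' := E.etaleS.1
  obtain ⟨hq'q, -⟩ := E.etaleS.2
  have hfin := E.finiteDC
  -- module structures on `N'`
  letI : Module E.R' E.N' := Module.compHom E.N' (algebraMap E.R' E.S')
  haveI : IsScalarTower E.R' E.S' E.N' := ⟨fun a b x ↦ by
    rw [Algebra.smul_def, mul_smul]; rfl⟩
  letI : Module R E.N' := Module.compHom E.N' (algebraMap R E.S')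
  haveI : IsScalarTower R E.S' E.N' := ⟨fun a b x ↦ by
    rw [Algebra.smul_def, mul_smul]; rfl⟩
  haveI : IsScalarTower R E.R' E.N' := ⟨fun a b x ↦ by
    change algebraMap E.R' E.S' (a • b) • x = algebraMap R E.S' a • algebraMap E.R' E.S' b • x
    rw [Algebra.smul_def, map_mul, mul_smul, ← IsScalarTower.algebraMap_apply]⟩
  haveI : IsScalarTower E.R' E.S' E.G := ⟨fun a b x ↦ by
    rw [← IsScalarTower.algebraMap_smul E.C (a • b) x, ← IsScalarTower.algebraMap_smul E.C b x,
      ← IsScalarTower.algebraMap_smul E.C a (_ • x), smul_smul, Algebra.smul_def, map_mul,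
      IsScalarTower.algebraMap_apply E.R' E.S' E.C]⟩
  have hflat : Module.Flat S E.S' := Algebra.Smooth.flat S E.S'
  have h12 : FlatCA.FlatAt R q N ↔ FlatCA.FlatAt E.R' E.z E.G := by
    rw [FlatEt.flatAt_baseChange_iff q E.q' hq'q.over.symm N E.N' E.f E.isBaseChange,
      (Groth.Agent.S1231.result (T := E.R') E.N' E.q').1, LocTransfer.flatAt_congr E.q' E.iso,
      LocTransfer.flatAt_iff_of_surjective E.surjC E.q' E.z E.zOver.over.symm]
  have h23 : FlatCA.FlatAt E.R' E.y E.G ↔ FlatCA.FlatAt E.R' E.z E.G :=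
    LocTransfer.flatAt_iff_of_unique E.y E.z E.zOverY.over.symm E.uniq E.G
  have k12 : (∃ g : S, g ∉ q ∧ Module.Flat R (LocalizedModule (Submonoid.powers g) N)) ↔
      (∃ g : E.C, g ∉ E.z ∧ Module.Flat E.R' (LocalizedModule (Submonoid.powers g) E.G)) := by
    rw [FlatEt.exists_flat_away_baseChange_iff q E.q' hq'q.over.symm N E.N' E.f E.isBaseChange,
      ← FlatEt.exists_flat_away_iff_of_exists_mul E.G E.q' E.z E.zOver.over.symm
        (LocTransfer.exists_mul_of_surjective E.surjC E.q' E.z E.zOver.over.symm)]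
    refine exists_congr fun g ↦ and_congr_right fun _ ↦ ?_
    rw [FlatEt.flat_away_iff, FlatEt.flat_away_iff]
    refine forall_congr' fun m ↦ forall_congr' fun _ ↦ forall_congr' fun _ ↦ ?_
    rw [(Groth.Agent.S1231.result (T := E.R') E.N' m).1, LocTransfer.flatAt_congr m E.iso]
  have k23 : (∃ g : E.D, g ∉ E.y ∧ Module.Flat E.R' (LocalizedModule (Submonoid.powers g) E.G)) ↔
      (∃ g : E.C, g ∉ E.z ∧ Module.Flat E.R' (LocalizedModule (Submonoid.powers g) E.G)) :=
    FlatEt.exists_flat_away_iff_of_exists_mul E.G E.y E.z E.zOverY.over.symm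
      (LocTransfer.exists_mul_of_unique E.y E.z E.uniq)
  constructor
  · tfae_have 1 ↔ 2 := h12
    tfae_have 3 ↔ 2 := h23
    tfae_finish
  · tfae_have 1 ↔ 2 := k12
    tfae_have 3 ↔ 2 := k23
    tfae_finish

end Groth.Agent.S1250
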