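import Groth.Statements.S1251
import Groth.Agent.Flat2B.LocTransfer
import Groth.Agent.Flat2B.FPTransfer

set_option autoImplicit false
universe u
open FlatMor

namespace Groth.Agent.S1251

open Groth.Agent.Flat2B Groth.Agent.Flat2B.FPTransfer TensorProduct

theorem fp_congr {S : Type u} [CommRing S] (T : Submonoid S) {N N' : Type u} [AddCommGroup N] [Module S N]
    [AddCommGroup N'] [Module S N'] [Module.Finite S N] (e : N ≃ₗ[S] N') :
    Module.FinitePresentation (Localization T) (LocalizedModule T N) ↔
      Module.FinitePresentation (Localization T) (LocalizedModule T N') := by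
  rw [← finitePresentation_localization_iff T (Localization T)
    (LocalizedModule.mkLinearMap T N' ∘ₗ e.toLinearMap)]

section

variable {S C : Type u} [CommRing S] [CommRing C] [Algebra S C] [Module.Finite S C] [Algebra.FinitePresentation S C]
    (q : Ideal S) [q.IsPrime] (z : Ideal C) [z.IsPrime] (hz : z.comap (algebraMap S C) = q)
    (h : ∀ a : C, a ∉ z → ∃ (a' : C) (s : S), s ∉ q ∧ a' * a = algebraMap S C s)
    (G : Type u) [AddCommGroup G] [Module C G] [Module S G] [IsScalarTower S C G] [Module.Finite C G]

include hz h

/-- finite presentation at primes, along a finite and finitely presented map -/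
theorem fpAt_iff :
    Module.FinitePresentation (Localization.AtPrime q) (LocalizedModule q.primeCompl G) ↔
      Module.FinitePresentation (Localization.AtPrime z) (LocalizedModule z.primeCompl G) := by
  obtain ⟨n, π, hπ⟩ := Module.Finite.exists_fin' C G
  have : Module.FinitePresentation S C := Module.FinitePresentation.of_finite_of_finitePresentation S C
  rw [← fpOn_iff z.primeCompl π hπ, ← fpOn_iff q.primeCompl (π.restrictScalars S) hπ]
  exact fpOn_restrictScalars_iff π q z hz h

theorem exists_fp_away_iff :
    (∃ g : S, g ∉ q ∧ Module.FinitePresentation (Localization.Away g) (LocalizedModule (Submonoid.powers g) G)) ↔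
    (∃ g : C, g ∉ z ∧ Module.FinitePresentation (Localization.Away g) (LocalizedModule (Submonoid.powers g) G)) := by
  obtain ⟨n, π, hπ⟩ := Module.Finite.exists_fin' C G
  have : Module.FinitePresentation S C := Module.FinitePresentation.of_finite_of_finitePresentation S C
  have h1 : ∀ g : S, Module.FinitePresentation (Localization.Away g) (LocalizedModule (Submonoid.powers g) G) ↔
      FPOn (Submonoid.powers g : Set S) (π.restrictScalars S) :=
    fun g ↦ (fpOn_iff (Submonoid.powers g) (π.restrictScalars S) hπ).symm
  have h2 : ∀ g : C, Module.FinitePresentation (Localization.Away g) (LocalizedModule (Submonoid.powers g) G) ↔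
      FPOn (Submonoid.powers g : Set C) π :=
    fun g ↦ (fpOn_iff (Submonoid.powers g) π hπ).symm
  simp only [h1, h2]
  exact exists_fpOn_powers_restrictScalars_iff π q z hz h

end

section

variable {S S' : Type u} [CommRing S] [CommRing S'] [Algebra S S'] [Module.Flat S S']
    (q : Ideal S) [q.IsPrime] (q' : Ideal S') [q'.IsPrime] (hq : q'.comap (algebraMap S S') = q)
    (N : Type u) [AddCommGroup N] [Module S N] [Module.Finite S N]
    (N' : Type u) [AddCommGroup N'] [Module S' N'] [Module S N'] [IsScalarTower S S' N'] (f : N →ₗ[S] N')
    (hf : IsBaseChange S' f)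

include hq hf

theorem fpAt_baseChange_iff :
    Module.FinitePresentation (Localization.AtPrime q) (LocalizedModule q.primeCompl N) ↔
      Module.FinitePresentation (Localization.AtPrime q') (LocalizedModule q'.primeCompl N') := by
  obtain ⟨n, π, hπ⟩ := Module.Finite.exists_fin' S N
  rw [← fp_congr q'.primeCompl hf.equiv, ← fpOn_iff q.primeCompl π hπ,
    ← fpOn_iff q'.primeCompl (π.baseChange S') (LinearMap.lTensor_surjective S' hπ)]
  exact fpOn_baseChange_iff π q q' hq

theorem exists_fp_away_baseChange_iff [Algebra.FinitePresentation S S'] :
    (∃ g : S, g ∉ q ∧ Module.FinitePresentation (Localization.Away g) (LocalizedModule (Submonoid.powers g) N)) ↔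
    (∃ g : S', g ∉ q' ∧ Module.FinitePresentation (Localization.Away g) (LocalizedModule (Submonoid.powers g) N')) := by
  obtain ⟨n, π, hπ⟩ := Module.Finite.exists_fin' S N
  have h1 : ∀ g : S, Module.FinitePresentation (Localization.Away g) (LocalizedModule (Submonoid.powers g) N) ↔
      FPOn (Submonoid.powers g : Set S) π :=
    fun g ↦ (fpOn_iff (Submonoid.powers g) π hπ).symm
  have h2 : ∀ g : S', Module.FinitePresentation (Localization.Away g) (LocalizedModule (Submonoid.powers g) N') ↔
      FPOn (Submonoid.powers g : Set S') (π.baseChange S') := by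
    intro g
    rw [← fp_congr (Submonoid.powers g) hf.equiv]
    exact (fpOn_iff (Submonoid.powers g) (π.baseChange S') (LinearMap.lTensor_surjective S' hπ)).symm
  simp only [h1, h2]
  exact exists_fpOn_powers_baseChange_iff π q q' hq

end

/-- Stacks Tag 057T (ring form): given an elementary dévissage E of N at q over p in dimension n, with S of finite presentation over R: the finite map D → C is of finite presentation; the following are equivalent: N_q is a finitely presented S_q-module; G_z is a finitely presented C_z-module; G_y is a finitely presented D_y-module. Also equivalent to each other: N is finitely presented on some basic open of Spec S containing q; G is finitely presented on some basic open of Spec C containing z; G as a D-module is finitely presented on some basic open of Spec D containing y. -/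
theorem result {R S : Type u} [CommRing R] [CommRing S] [Algebra R S] [Algebra.FinitePresentation R S]
    (N : Type u) [AddCommGroup N] [Module S N] [Module R N] [IsScalarTower R S N] [Module.Finite S N]
    (p : Ideal R) [p.IsPrime] (q : Ideal S) [q.IsPrime] [q.LiesOver p] (n : ℕ) (E : FlatCA.ElemDevissage R S N p q n) :
    Algebra.FinitePresentation E.D E.C ∧
    [Module.FinitePresentation (Localization.AtPrime q) (LocalizedModule q.primeCompl N),
     Module.FinitePresentation (Localization.AtPrime E.z) (LocalizedModule E.z.primeCompl E.G),
     Module.FinitePresentation (Localization.AtPrime E.y) (LocalizedModule E.y.primeCompl E.G)].TFAE ∧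
    [∃ g : S, g ∉ q ∧ Module.FinitePresentation (Localization.Away g) (LocalizedModule (Submonoid.powers g) N),
     ∃ g : E.C, g ∉ E.z ∧ Module.FinitePresentation (Localization.Away g) (LocalizedModule (Submonoid.powers g) E.G),
     ∃ g : E.D, g ∉ E.y ∧ Module.FinitePresentation (Localization.Away g) (LocalizedModule (Submonoid.powers g) E.G)].TFAE := by
  have het : Algebra.Etale R E.R' := E.etaleR.1
  have heS : Algebra.Etale S E.S' := E.etaleS.1
  obtain ⟨hq'q, -⟩ := E.etaleS.2
  have hfin := E.finiteDC
  have hfpC := E.fpC
  have hfinG := E.finiteG
  have hflat : Module.Flat S E.S' := Algebra.Smooth.flat S E.S'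
  have hfpRS' : Algebra.FinitePresentation R E.S' := Algebra.FinitePresentation.trans R S E.S'
  have hfpR'S' : Algebra.FinitePresentation E.R' E.S' :=
    Algebra.FinitePresentation.of_restrict_scalars_finitePresentation R E.R' E.S'
  have hfpR'C : Algebra.FinitePresentation E.R' E.C := Algebra.FinitePresentation.trans E.R' E.S' E.C
  have hsm : Algebra.FinitePresentation E.R' E.D := by
    have h1 : AlgebraicGeometry.SmoothOfRelativeDimension n
      (AlgebraicGeometry.Spec.map (CommRingCat.ofHom (algebraMap E.R' E.D))) := E.smooth
    have h2 := AlgebraicGeometry.SmoothOfRelativeDimension.smooth n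
      (AlgebraicGeometry.Spec.map (CommRingCat.ofHom (algebraMap E.R' E.D)))
    have h3 : AlgebraicGeometry.LocallyOfFinitePresentation
      (AlgebraicGeometry.Spec.map (CommRingCat.ofHom (algebraMap E.R' E.D))) := inferInstance
    rw [AlgebraicGeometry.HasRingHomProperty.Spec_iff (P := @AlgebraicGeometry.LocallyOfFinitePresentation)] at h3
    exact RingHom.finitePresentation_algebraMap.1 h3
  have hDC : Algebra.FinitePresentation E.D E.C :=
    Algebra.FinitePresentation.of_restrict_scalars_finitePresentation E.R' E.D E.C
  have hfinS'C : Module.Finite E.S' E.C := Module.Finite.of_surjective (Algebra.linearMap _ _) E.surjC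
  have hfinN' : Module.Finite E.S' E.N' := Module.Finite.of_surjective E.isBaseChange.equiv.toLinearMap
    E.isBaseChange.equiv.surjective
  refine ⟨hDC, ?_, ?_⟩
  · tfae_have 1 ↔ 2 := by
      rw [fpAt_baseChange_iff q E.q' hq'q.over.symm N E.N' E.f E.isBaseChange, fp_congr E.q'.primeCompl E.iso,
        fpAt_iff E.q' E.z E.zOver.over.symm (LocTransfer.exists_mul_of_surjective E.surjC E.q' E.z E.zOver.over.symm) E.G]
    tfae_have 3 ↔ 2 :=
      fpAt_iff E.y E.z E.zOverY.over.symm (LocTransfer.exists_mul_of_unique E.y E.z E.uniq) E.G
    tfae_finish
  · tfae_have 1 ↔ 2 := by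
      rw [exists_fp_away_baseChange_iff q E.q' hq'q.over.symm N E.N' E.f E.isBaseChange,
        ← exists_fp_away_iff E.q' E.z E.zOver.over.symm
          (LocTransfer.exists_mul_of_surjective E.surjC E.q' E.z E.zOver.over.symm) E.G]
      exact exists_congr fun g ↦ and_congr_right fun _ ↦ fp_congr (Submonoid.powers g) E.iso
    tfae_have 3 ↔ 2 :=
      exists_fp_away_iff E.y E.z E.zOverY.over.symm (LocTransfer.exists_mul_of_unique E.y E.z E.uniq) E.G
    tfae_finish

end Groth.Agent.S1251
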