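import Groth.Statements.S1262
import Groth.Agent.Flat2B.FlatLocusAux
import Groth.Agent.Flat2B.EtaleNhd
import Groth.Agent.Flat2C.FlatAt
import Groth.Agent.Flat2B.PushModel
import Groth.Agent.S1211

set_option autoImplicit false
universe u
open FlatMor

namespace Groth.Agent.S1262

open TensorProduct Flat2B.PushModel Flat2B.EtaleNhd Flat2C.FlatAt Flat2B.FlatLocusAux

theorem flatAt_of_flat_away_pushout {R S A SA N NA : Type u} [CommRing R] [CommRing S] [Algebra R S]
    [AddCommGroup N] [Module S N] [Module R N] [IsScalarTower R S N]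
    [CommRing A] [Algebra R A] [Module.Flat R A] [CommRing SA] [Algebra R SA] [Algebra S SA] [Algebra A SA]
    [IsScalarTower R S SA] [IsScalarTower R A SA] [Algebra.IsPushout R S A SA]
    [AddCommGroup NA] [Module SA NA] [Module S NA] [IsScalarTower S SA NA]
    [Module A NA] [IsScalarTower A SA NA] (f : N →ₗ[S] NA) (hf : IsBaseChange SA f) (g : SA)
    (hfl : Module.Flat A (LocalizedModule (Submonoid.powers g) NA))
    (m : Ideal A) [m.IsPrime] (p : Ideal R) [p.IsPrime] [m.LiesOver p] (a s : S)
    (has : algebraMap S SA s * g - algebraMap S SA a ∈ m.map (algebraMap A SA))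
    (q : Ideal S) [q.IsPrime] [q.LiesOver p] (ha : a ∉ q) : FlatCA.FlatAt R q N := by
  obtain ⟨Q, hQ, hQq, hQm⟩ := exists_prime_of_isPushout (R := R) (R' := A) (S := S) (S' := SA) p q m
  have hle : m.map (algebraMap A SA) ≤ Q := Ideal.map_le_iff_le_comap.mpr hQm.over.le
  have hg : g ∉ Q := by
    intro hgQ
    apply ha
    rw [hQq.over, Ideal.under_def, Ideal.mem_comap]
    have h1 := Q.sub_mem (Q.mul_mem_left (algebraMap S SA s) hgQ) (hle has)
    simpa using h1
  have : Module.Flat S SA := Module.Flat.isBaseChange (R := R) (M := A) (S := S) (N := SA)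
    (Algebra.IsPushout.out (R := R) (S := S) (R' := A) (S' := SA))
  let _ : Module R NA := Module.compHom NA (algebraMap R SA)
  have : IsScalarTower R SA NA := IsScalarTower.of_algebraMap_smul fun r x => rfl
  have : IsScalarTower R A NA := IsScalarTower.of_algebraMap_smul fun r x => by
    rw [← algebraMap_smul SA (algebraMap R A r) x, ← IsScalarTower.algebraMap_apply]
    rfl
  rw [flatAt_iff_of_isBaseChange (R := R) f q Q hf]
  have h1 : FlatCA.FlatAt A Q NA := flatAt_of_flat_away Q NA g hg hfl
  have h2 : Module.Flat A (LocalizedModule Q.primeCompl NA) := h1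
  exact Module.Flat.trans R A (LocalizedModule Q.primeCompl NA)

theorem liesOver_comap_fiber {R S : Type u} [CommRing R] [CommRing S] [Algebra R S] (p : Ideal R)
    [p.IsPrime] (x : PrimeSpectrum (p.Fiber S)) :
    (x.asIdeal.comap (Algebra.TensorProduct.includeRight (R := R) (A := p.ResidueField)
      (B := S)).toRingHom).LiesOver p := by
  have h := ((PrimeSpectrum.primesOverOrderIsoFiber R S p).symm x).2.2
  rw [PrimeSpectrum.coe_primesOverOrderIsoFiber_symm_apply] at h
  exact h

/-- Around a prime `q` over `p` at which `N` is flat, `N` is flat at all primes over `p` of some basic open. -/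
theorem exists_notMem_forall_flatAt {R S : Type u} [CommRing R] [CommRing S] [Algebra R S]
    [Algebra.FiniteType R S] (N : Type u) [AddCommGroup N] [Module S N] [Module R N]
    [IsScalarTower R S N] [Module.Finite S N] (p : Ideal R) [p.IsPrime] (q : Ideal S) [q.IsPrime]
    [q.LiesOver p] (hflat : FlatCA.FlatAt R q N) :
    ∃ a : S, a ∉ q ∧ ∀ (q₁ : Ideal S) [q₁.IsPrime], q₁.LiesOver p → a ∉ q₁ → FlatCA.FlatAt R q₁ N := by
  obtain ⟨R', _, _, p', _, het, H⟩ := Groth.Agent.S1211.result N p q hflat
  obtain ⟨SA, NA, _, _, _, _, _, _, _, _, _, _, _, _, _, f, hf⟩ :=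
    exists_models (R := R) (S := S) (A := Localization.AtPrime p') N
  obtain ⟨g, hg, hfl⟩ := H SA NA f hf
  have l1 := liesOver het
  have l2 := liesOver_maximalIdeal_atPrime p'
  have l3 : (IsLocalRing.maximalIdeal (Localization.AtPrime p')).LiesOver p := .trans _ p' p
  have h1 : ResTriv R (Localization.AtPrime p') p (IsLocalRing.maximalIdeal (Localization.AtPrime p')) :=
    resTriv_localization_atPrime (resTriv het) _
  obtain ⟨a, s, hs, has⟩ := h1.pushout_aux (S := S) (S' := SA) (q := q) g
  have := etale het
  have hflatA : Module.Flat R (Localization.AtPrime p') := by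
    have : Module.Flat R R' := inferInstance
    infer_instance
  refine ⟨a, ?_, fun q₁ _ _ ha => flatAt_of_flat_away_pushout f hf g hfl
    (IsLocalRing.maximalIdeal (Localization.AtPrime p')) p a s has q₁ ha⟩
  obtain ⟨Q, hQ, hQq, hQm⟩ := exists_prime_of_isPushout (R := R) (R' := Localization.AtPrime p')
    (S := S) (S' := SA) p q (IsLocalRing.maximalIdeal (Localization.AtPrime p'))
  have hle : (IsLocalRing.maximalIdeal (Localization.AtPrime p')).map
    (algebraMap (Localization.AtPrime p') SA) ≤ Q := Ideal.map_le_iff_le_comap.mpr hQm.over.le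
  have hgQ : g ∉ Q := hg Q hQq hQm
  intro haq
  rw [hQq.over, Ideal.under_def, Ideal.mem_comap] at haq
  have h2 := Q.add_mem (hle has) haq
  rw [sub_add_cancel] at h2
  rcases hQ.mem_or_mem h2 with h3 | h3
  · apply hs
    rw [hQq.over, Ideal.under_def, Ideal.mem_comap]
    exact h3
  · exact hgQ h3

/-- Stacks Tag 05M9 (ring form, X = Spec S affine): let S be a finite type R-algebra, N a finite S-module and p a prime of R. Then the set of points x of the fibre Spec(κ(p) ⊗ S) such that N is flat over R at the prime of S under x is open in the fibre. -/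
theorem result {R S : Type u} [CommRing R] [CommRing S] [Algebra R S] [Algebra.FiniteType R S]
    (N : Type u) [AddCommGroup N] [Module S N] [Module R N] [IsScalarTower R S N] [Module.Finite S N]
    (p : Ideal R) [p.IsPrime] :
    IsOpen {x : PrimeSpectrum (p.Fiber S) |
      FlatCA.FlatAt R (x.asIdeal.comap (Algebra.TensorProduct.includeRight (R := R) (A := p.ResidueField) (B := S)).toRingHom) N} := by
  rw [isOpen_iff_forall_mem_open]
  intro x hx
  have := liesOver_comap_fiber (S := S) p x
  obtain ⟨a, ha, H⟩ := exists_notMem_forall_flatAt N p (x.asIdeal.comap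
    (Algebra.TensorProduct.includeRight (R := R) (A := p.ResidueField) (B := S)).toRingHom) hx
  refine ⟨PrimeSpectrum.comap (Algebra.TensorProduct.includeRight (R := R) (A := p.ResidueField)
    (B := S)).toRingHom ⁻¹' (PrimeSpectrum.basicOpen a), ?_,
    PrimeSpectrum.isOpen_basicOpen.preimage (PrimeSpectrum.continuous_comap _), ha⟩
  intro y hy
  exact H _ (liesOver_comap_fiber p y) hy

end Groth.Agent.S1262
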