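import Groth.Statements.S1263
import Groth.Agent.S1210
import Mathlib.RingTheory.Finiteness.ModuleFinitePresentation

set_option autoImplicit false
universe u
open FlatMor

namespace Groth.Agent.S1263

open TensorProduct

/-- if `P → S` is surjective and the localization of `S` at `q` is flat over `R`, then `S` as a `P`-module is flat
at the contraction of `q`. -/
theorem flatAt_comap_of_surjective {R P S : Type u} [CommRing R] [CommRing P] [CommRing S] [Algebra R P] [Algebra R S]
    [Algebra P S] [IsScalarTower R P S] (hs : Function.Surjective (algebraMap P S)) (q : Ideal S) [q.IsPrime]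
    (h : Module.Flat R (Localization.AtPrime q)) :
    FlatCA.FlatAt R (q.comap (algebraMap P S)) S := by
  unfold FlatCA.FlatAt
  have h1 : Algebra.algebraMapSubmonoid S (q.comap (algebraMap P S)).primeCompl = q.primeCompl := by
    ext x
    constructor
    · rintro ⟨y, hy, rfl⟩
      exact fun hx => hy hx
    · intro hx
      obtain ⟨y, rfl⟩ := hs x
      exact ⟨y, fun hy => hx hy, rfl⟩
  have : IsLocalization (Algebra.algebraMapSubmonoid S (q.comap (algebraMap P S)).primeCompl) (Localization.AtPrime q) := by
    rw [h1]
    infer_instance
  have h2 : IsLocalizedModule (q.comap (algebraMap P S)).primeCompl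
      (IsScalarTower.toAlgHom P S (Localization.AtPrime q)).toLinearMap :=
    isLocalizedModule_iff_isLocalization.mpr this
  let e := (IsLocalizedModule.iso (q.comap (algebraMap P S)).primeCompl
      (IsScalarTower.toAlgHom P S (Localization.AtPrime q)).toLinearMap)
  exact Module.Flat.of_linearEquiv (e.restrictScalars R)

/-- localization of a finite algebra at an element of the base, as a module and as an algebra -/
theorem finitePresentation_away_of_module {A PA SA : Type u} [CommRing A] [CommRing PA] [CommRing SA] [Algebra A PA]
    [Algebra PA SA] [Algebra A SA] [IsScalarTower A PA SA] [Algebra.FinitePresentation A PA] (g : PA)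
    (hfp : Module.FinitePresentation (Localization.Away g) (LocalizedModule (Submonoid.powers g) SA))
    (hfl : Module.Flat A (LocalizedModule (Submonoid.powers g) SA)) :
    Module.Flat A (Localization.Away (algebraMap PA SA g)) ∧
      Algebra.FinitePresentation A (Localization.Away (algebraMap PA SA g)) := by
  let B := Localization.Away g
  let C := Localization.Away (algebraMap PA SA g)
  have h0 : Algebra.algebraMapSubmonoid SA (Submonoid.powers g) = Submonoid.powers (algebraMap PA SA g) :=
    Algebra.algebraMapSubmonoid_powers g
  have h1 : IsLocalization (Algebra.algebraMapSubmonoid SA (Submonoid.powers g)) C := by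
    rw [h0]
    infer_instance
  have h2 : IsLocalizedModule (Submonoid.powers g) (IsScalarTower.toAlgHom PA SA C).toLinearMap :=
    isLocalizedModule_iff_isLocalization.mpr h1
  let e := IsLocalizedModule.iso (Submonoid.powers g) (IsScalarTower.toAlgHom PA SA C).toLinearMap
  refine ⟨Module.Flat.of_linearEquiv (e.symm.restrictScalars A), ?_⟩
  have hu : IsUnit (algebraMap PA C g) := by
    rw [IsScalarTower.algebraMap_apply PA SA C]
    exact IsLocalization.Away.algebraMap_isUnit (algebraMap PA SA g)
  let _ : Algebra B C := (IsLocalization.Away.lift g hu).toAlgebra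
  have : IsScalarTower PA B C := IsScalarTower.of_algebraMap_eq fun x =>
    (IsLocalization.Away.lift_eq g hu x).symm
  have : IsScalarTower A B C := IsScalarTower.of_algebraMap_eq fun x => by
    rw [IsScalarTower.algebraMap_apply A PA B, ← IsScalarTower.algebraMap_apply PA B C,
      ← IsScalarTower.algebraMap_apply A PA C]
  let e' := e.extendScalarsOfIsLocalization (Submonoid.powers g) B
  have : Module.FinitePresentation B C := Module.FinitePresentation.of_equiv e'
  exact Algebra.FinitePresentation.trans A B C

/-- Stacks Tag 05I6 (ring form, X = Spec S and S = Spec R affine): let S be a finite type R-algebra and q a prime of S over p with S_q flat over R. Then there is an étale R-algebra R' with a prime p' over p having the same residue field such that, writing A for the local ring of R' at p' and S_A for the base change (any model): some g ∈ S_A outside every prime over both q and the maximal ideal of A has (S_A)_g flat and of finite presentation over A. -/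
theorem result {R S : Type u} [CommRing R] [CommRing S] [Algebra R S] [Algebra.FiniteType R S]
    (p : Ideal R) [p.IsPrime] (q : Ideal S) [q.IsPrime] [q.LiesOver p] (hflat : Module.Flat R (Localization.AtPrime q)) :
    ∃ (R' : Type u) (_ : CommRing R') (_ : Algebra R R') (p' : Ideal R') (_ : p'.IsPrime), FlatCA.IsEtaleNhd R R' p p' ∧
      ∀ (SA : Type u) [CommRing SA] [Algebra R SA] [Algebra S SA] [Algebra (Localization.AtPrime p') SA]
        [IsScalarTower R S SA] [IsScalarTower R (Localization.AtPrime p') SA]
        [Algebra.IsPushout R S (Localization.AtPrime p') SA],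
        ∃ g : SA, (∀ (Q : Ideal SA) [Q.IsPrime], Q.LiesOver q → Q.LiesOver (IsLocalRing.maximalIdeal (Localization.AtPrime p')) → g ∉ Q) ∧
          Module.Flat (Localization.AtPrime p') (Localization.Away g) ∧
          Algebra.FinitePresentation (Localization.AtPrime p') (Localization.Away g) := by
  obtain ⟨n, φ, hφ⟩ := (Algebra.FiniteType.iff_quotient_mvPolynomial'').mp ‹Algebra.FiniteType R S›
  let P := MvPolynomial (Fin n) R
  let _ : Algebra P S := φ.toRingHom.toAlgebra
  have : IsScalarTower R P S := IsScalarTower.of_algebraMap_eq fun x => (φ.commutes x).symm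
  have hs : Function.Surjective (algebraMap P S) := hφ
  have : Module.Finite P S := Module.Finite.of_surjective (Algebra.linearMap P S) hs
  let q₀ : Ideal P := q.comap (algebraMap P S)
  have hq₀ : q₀.LiesOver p := by
    constructor
    have := Ideal.over_def q p
    rw [this]
    change Ideal.comap _ _ = Ideal.comap _ (Ideal.comap _ _)
    rw [Ideal.comap_comap, ← IsScalarTower.algebraMap_eq]
  obtain ⟨R', _, _, p', _, hnhd, H⟩ := Groth.Agent.S1210.result (R := R) (S := P) S p q₀
    (flatAt_comap_of_surjective hs q hflat)
  refine ⟨R', inferInstance, inferInstance, p', inferInstance, hnhd, ?_⟩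
  intro SA _ _ _ _ _ _ _
  let A := Localization.AtPrime p'
  let PA := MvPolynomial (Fin n) A
  let _ : Algebra P PA := MvPolynomial.algebraMvPolynomial
  have : IsScalarTower R P PA := inferInstance
  have : IsScalarTower R A PA := inferInstance
  have hpush : Algebra.IsPushout R P A PA := inferInstance
  let ψ : PA →ₐ[A] SA := MvPolynomial.aeval (fun i => algebraMap S SA (φ (MvPolynomial.X i)))
  let _ : Algebra PA SA := ψ.toRingHom.toAlgebra
  have hAPS : IsScalarTower A PA SA := IsScalarTower.of_algebraMap_eq fun x => (ψ.commutes x).symm
  let _ : Algebra P SA := ((algebraMap S SA).comp (algebraMap P S)).toAlgebra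
  have : IsScalarTower P S SA := IsScalarTower.of_algebraMap_eq fun x => rfl
  have : IsScalarTower R P SA := IsScalarTower.of_algebraMap_eq fun x => by
    rw [IsScalarTower.algebraMap_apply R S SA, IsScalarTower.algebraMap_apply R P S,
      IsScalarTower.algebraMap_apply P S SA]
  have : IsScalarTower R PA SA := IsScalarTower.of_algebraMap_eq fun x => by
    rw [IsScalarTower.algebraMap_apply R A SA, IsScalarTower.algebraMap_apply R A PA,
      IsScalarTower.algebraMap_apply A PA SA]
  have hPPS : IsScalarTower P PA SA := by
    refine IsScalarTower.of_algebraMap_eq' ?_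
    apply MvPolynomial.ringHom_ext
    · intro r
      have h1 : algebraMap P SA (MvPolynomial.C r) = algebraMap R SA r :=
        (IsScalarTower.algebraMap_apply R P SA r).symm
      have h2 : ((algebraMap PA SA).comp (algebraMap P PA)) (MvPolynomial.C r) = algebraMap R SA r := by
        rw [RingHom.comp_apply]
        have : algebraMap P PA (MvPolynomial.C r) = algebraMap R PA r :=
          (IsScalarTower.algebraMap_apply R P PA r).symm
        rw [this, ← IsScalarTower.algebraMap_apply]
      rw [h1, h2]
    · intro i
      have h2 : ((algebraMap PA SA).comp (algebraMap P PA)) (MvPolynomial.X i) = ψ (MvPolynomial.X i) := by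
        rw [RingHom.comp_apply]
        have : algebraMap P PA (MvPolynomial.X i) = MvPolynomial.X i := by
          rw [MvPolynomial.algebraMap_def]
          exact MvPolynomial.map_X _ _
        rw [this]
        rfl
      rw [h2, MvPolynomial.aeval_X]
      rfl
  have hpush2 : Algebra.IsPushout P S PA SA := (Algebra.IsPushout.comp_iff R P A PA).mp inferInstance
  have hbc : IsBaseChange PA (IsScalarTower.toAlgHom P S SA).toLinearMap := hpush2.symm.out
  obtain ⟨g, hg1, hg2, hg3⟩ := H PA SA (IsScalarTower.toAlgHom P S SA).toLinearMap hbc
  obtain ⟨h1, h2⟩ := finitePresentation_away_of_module g hg2 hg3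
  refine ⟨algebraMap PA SA g, ?_, h1, h2⟩
  intro Q _ hQ1 hQ2 hmem
  refine hg1 (Q.comap (algebraMap PA SA)) ?_ ?_ hmem
  · constructor
    have := Ideal.over_def Q q
    change Ideal.comap _ _ = Ideal.comap _ (Ideal.comap _ _)
    rw [this]
    change Ideal.comap _ (Ideal.comap _ _) = Ideal.comap _ (Ideal.comap _ _)
    rw [Ideal.comap_comap, Ideal.comap_comap, ← IsScalarTower.algebraMap_eq, ← IsScalarTower.algebraMap_eq]
  · constructor
    have := Ideal.over_def Q (IsLocalRing.maximalIdeal (Localization.AtPrime p'))
    change _ = Ideal.comap _ (Ideal.comap _ _)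
    rw [this]
    change Ideal.comap _ _ = Ideal.comap _ (Ideal.comap _ _)
    rw [Ideal.comap_comap, ← IsScalarTower.algebraMap_eq]

end Groth.Agent.S1263
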