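import Groth.Statements.S1267
import Groth.Agent.Flat2B.NilpFlat
import Mathlib.RingTheory.Localization.BaseChange

set_option autoImplicit false
universe u
open FlatMor

namespace Groth.Agent.S1267

open TensorProduct in
theorem exists_smul_eq_zero {A : Type u} [CommRing A] (p : Ideal A) [p.IsPrime] (M : Type u)
    [AddCommGroup M] [Module A M] (hM : Module.Flat A (LocalizedModule p.primeCompl M))
    {J N : Type u} [AddCommGroup J] [Module A J] [AddCommGroup N] [Module A N]
    (f : J →ₗ[A] N) (hf : Function.Injective f) (y : J ⊗[A] M) (hy : f.rTensor M y = 0) :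
    ∃ s : A, s ∉ p ∧ s • y = 0 := by
  let g := LocalizedModule.mkLinearMap p.primeCompl M
  have h1 : Function.Injective (f.lTensor (LocalizedModule p.primeCompl M)) :=
    Module.Flat.lTensor_preserves_injective_linearMap f hf
  have h2 : f.lTensor M (TensorProduct.comm A J M y) = 0 := by
    have : f.lTensor M (TensorProduct.comm A J M y) =
        TensorProduct.comm A N M (f.rTensor M y) := by
      induction y using TensorProduct.induction_on with
      | zero => simp
      | tmul a b => simp
      | add x y hx hy =>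
        have : ∀ z : J ⊗[A] M, f.lTensor M (TensorProduct.comm A J M z) =
          TensorProduct.comm A N M (f.rTensor M z) := by
          intro z
          induction z using TensorProduct.induction_on with
          | zero => simp
          | tmul a b => simp
          | add x y hx hy => simp only [map_add, hx, hy]
        exact this _
    rw [this, hy, map_zero]
  have h3 : g.rTensor J (TensorProduct.comm A J M y) = 0 := by
    apply h1
    rw [map_zero]
    have : f.lTensor _ (g.rTensor J (TensorProduct.comm A J M y)) =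
        g.rTensor N (f.lTensor M (TensorProduct.comm A J M y)) := by
      rw [← LinearMap.comp_apply, ← LinearMap.comp_apply, LinearMap.lTensor_comp_rTensor,
        LinearMap.rTensor_comp_lTensor]
    rw [this, h2, map_zero]
  have h4 : IsLocalizedModule p.primeCompl (g.rTensor J) :=
    inferInstanceAs (IsLocalizedModule p.primeCompl (AlgebraTensorModule.rTensor A J g))
  obtain ⟨s, hs⟩ := (IsLocalizedModule.eq_zero_iff p.primeCompl (g.rTensor J)).mp h3
  refine ⟨s, s.2, ?_⟩
  apply (TensorProduct.comm A J M).injective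
  rw [map_smul, map_zero]
  exact hs

/-- Stacks Tag 0ATC: let A be a local ring, I an ideal, U a quasi-compact open subset of Spec A and M an A-module such that M/IM is flat over A/I and M_p is flat over A for all p in U. Let I₂ be the kernel of I → Γ(U, I/I²), that is the set of x ∈ I such that for every p ∈ U some s outside p has s·x ∈ I². Then M/I₂M is flat over A/I₂. -/
theorem result {A : Type u} [CommRing A] [IsLocalRing A] (I : Ideal A)
    (U : Set (PrimeSpectrum A)) (hU : IsOpen U) (hUc : IsCompact U)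
    (M : Type u) [AddCommGroup M] [Module A M]
    [Module.Flat (A ⧸ I) (M ⧸ (I • ⊤ : Submodule A M))]
    (hflat : ∀ p ∈ U, Module.Flat A (LocalizedModule p.asIdeal.primeCompl M))
    (I₂ : Ideal A) (hI₂ : ∀ x : A, x ∈ I₂ ↔ x ∈ I ∧ ∀ p ∈ U, ∃ s : A, s ∉ p.asIdeal ∧ s * x ∈ I ^ 2) :
    Module.Flat (A ⧸ I₂) (M ⧸ (I₂ • ⊤ : Submodule A M)) := by
  classical
  have hmul : ∀ a ∈ I, ∀ b ∈ I, a * b ∈ I₂ := by
    intro a ha b hb
    rw [hI₂]
    refine ⟨Ideal.mul_mem_left _ _ hb, fun p _ => ⟨1, ?_, ?_⟩⟩
    · rw [← Ideal.ne_top_iff_one]; exact p.2.ne_top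
    · rw [one_mul, pow_two]; exact Ideal.mul_mem_mul ha hb
  refine Groth.Agent.Flat2B.NilpFlat.flat_quotient_of_killed I I₂ hmul M ?_
  set J : Submodule A (A ⧸ I₂) := (I.map (Ideal.Quotient.mk I₂)).restrictScalars A with hJdef
  have hmem : ∀ x ∈ J, ∃ a ∈ I, Ideal.Quotient.mk I₂ a = x := by
    intro x hx
    exact (Ideal.mem_map_iff_of_surjective _ Ideal.Quotient.mk_surjective).mp hx
  have hsmul : ∀ a b : A, a • (Ideal.Quotient.mk I₂ b) = Ideal.Quotient.mk I₂ (a * b) := by
    intro a b
    rw [Algebra.smul_def, map_mul]; rfl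
  have hkill : ∀ a ∈ I, ∀ x : J, a • x = 0 := by
    intro a ha x
    obtain ⟨b, hb, hx⟩ := hmem x.1 x.2
    apply Subtype.ext
    change a • x.1 = 0
    rw [← hx, hsmul]
    exact Ideal.Quotient.eq_zero_iff_mem.mpr (hmul a ha b hb)
  rw [injective_iff_map_eq_zero]
  intro y hy
  -- the annihilator of `y`
  have h1 : ∀ p ∈ U, ∃ s : A, s ∉ p.asIdeal ∧ s • y = 0 := fun p hp =>
    exists_smul_eq_zero p.asIdeal M (hflat p hp) J.subtype J.subtype_injective y hy
  obtain ⟨t, ht⟩ := PrimeSpectrum.isCompact_isOpen_iff.mp ⟨hUc, hU⟩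
  have h2 : ∀ f ∈ t, ∃ k : ℕ, f ^ k • y = 0 := by
    intro f hf
    have : f ∈ Ideal.radical (LinearMap.ker (LinearMap.toSpanSingleton A _ y)) := by
      rw [Ideal.radical_eq_sInf, Ideal.mem_sInf]
      rintro p ⟨hp, hpp⟩
      by_contra hfp
      have hpU : (⟨p, hpp⟩ : PrimeSpectrum A) ∈ U := by
        rw [← ht]
        intro h
        exact hfp (h hf)
      obtain ⟨s, hs, hsy⟩ := h1 _ hpU
      exact hs (hp (by simpa using hsy))
    obtain ⟨k, hk⟩ := this
    exact ⟨k, by simpa using hk⟩
  choose! k hk using h2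
  let K := t.sup k
  have h3 : ∀ f ∈ t, f ^ K • y = 0 := by
    intro f hf
    have : f ^ K = f ^ (K - k f) * f ^ (k f) := by
      rw [← pow_add, Nat.sub_add_cancel (Finset.le_sup hf)]
    rw [this, mul_smul, hk f hf, smul_zero]
  let φ : J →ₗ[A] (t → J) := ∑ f : t, (f.1 ^ K) • LinearMap.single A (fun _ : t => J) f
  have hφ : ∀ x f, φ x f = f.1 ^ K • x := by
    intro x f
    simp only [φ, LinearMap.sum_apply, LinearMap.smul_apply, Finset.sum_apply, Pi.smul_apply,
      LinearMap.single_apply]
    rw [Finset.sum_eq_single f]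
    · simp
    · intro b _ hb
      rw [Pi.single_eq_of_ne hb.symm, smul_zero]
    · intro h; exact absurd (Finset.mem_univ f) h
  have hφinj : Function.Injective φ := by
    rw [injective_iff_map_eq_zero]
    intro x hx
    obtain ⟨b, hb, hxb⟩ := hmem x.1 x.2
    apply Subtype.ext
    rw [← hxb]
    change Ideal.Quotient.mk I₂ b = 0
    rw [Ideal.Quotient.eq_zero_iff_mem, hI₂]
    refine ⟨hb, fun p hp => ?_⟩
    have : ∃ f ∈ t, f ∉ p.asIdeal := by
      by_contra hcon
      push Not at hcon
      rw [← ht] at hp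
      exact hp (fun f hf => hcon f hf)
    obtain ⟨f, hft, hfp⟩ := this
    have h4 : f ^ K • x = 0 := by
      have := congrFun hx ⟨f, hft⟩
      rw [hφ] at this
      exact this
    have h5 : f ^ K * b ∈ I₂ := by
      have := congrArg Subtype.val h4
      change f ^ K • x.1 = 0 at this
      rw [← hxb, hsmul] at this
      exact Ideal.Quotient.eq_zero_iff_mem.mp this
    obtain ⟨_, h6⟩ := (hI₂ _).mp h5
    obtain ⟨s, hs, hs'⟩ := h6 p hp
    refine ⟨s * f ^ K, fun h => ?_, by rwa [mul_assoc]⟩
    rcases p.2.mem_or_mem h with h | h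
    · exact hs h
    · exact hfp (p.2.mem_of_pow_mem _ h)
  have hφM : Function.Injective (φ.rTensor M) := by
    refine Groth.Agent.Flat2B.NilpFlat.rTensor_injective_of_killed I M hkill ?_ φ hφinj
    intro a ha x
    funext f
    exact hkill a ha (x f)
  apply hφM
  rw [map_zero]
  have : φ.rTensor M = ∑ f : t, (f.1 ^ K) • (LinearMap.single A (fun _ : t => J) f).rTensor M := by
    rw [← LinearMap.coe_rTensorHom]
    simp only [φ, map_sum, map_smul]
  rw [this, LinearMap.sum_apply]
  refine Finset.sum_eq_zero fun f _ => ?_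
  rw [LinearMap.smul_apply, ← map_smul, h3 f.1 f.2, map_zero]

end Groth.Agent.S1267
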