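import Groth.Statements.S1269
import Groth.Agent.Flat2B.FreeNhd2

set_option autoImplicit false
universe u
open FlatMor

namespace Groth.Agent.S1269

open AlgebraicGeometry CategoryTheory TensorProduct
open Groth.Agent.Flat2B Groth.Agent.Flat2B.FreeNhd

/-- The closed immersion step. -/
theorem closed_step {R P S A PA SA : Type u} [CommRing R] [CommRing P] [CommRing S] [CommRing A] [CommRing PA]
    [CommRing SA] [Algebra R P] [Algebra R S] [Algebra P S] [IsScalarTower R P S] [Algebra R A]
    [Algebra R PA] [Algebra P PA] [Algebra A PA] [IsScalarTower R P PA] [IsScalarTower R A PA]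
    [Algebra.IsPushout R P A PA]
    [Algebra R SA] [Algebra S SA] [Algebra A SA] [IsScalarTower R S SA] [IsScalarTower R A SA]
    [Algebra.IsPushout R S A SA]
    {N NA : Type u} [AddCommGroup N] [Module S N] [AddCommGroup NA] [Module SA NA] [Module S NA]
    [IsScalarTower S SA NA] (f : N →ₗ[S] NA) (hf : IsBaseChange SA f) [Module P N] [IsScalarTower P S N]
    [Module P NA] [IsScalarTower P S NA] :
    ∃ (_ : Algebra PA SA) (_ : IsScalarTower A PA SA) (_ : Algebra P SA) (_ : IsScalarTower P S SA)
      (_ : IsScalarTower P PA SA) (_ : Module PA NA) (_ : IsScalarTower PA SA NA) (_ : IsScalarTower P PA NA),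
      Algebra.IsPushout P S PA SA ∧ IsBaseChange PA (f.restrictScalars P) := by
  letI aPSA : Algebra P SA := ((algebraMap S SA).comp (algebraMap P S)).toAlgebra
  haveI tPSSA : IsScalarTower P S SA := IsScalarTower.of_algebraMap_eq' rfl
  haveI tRPSA : IsScalarTower R P SA := IsScalarTower.of_algebraMap_eq' (by
    rw [IsScalarTower.algebraMap_eq P S SA, RingHom.comp_assoc, ← IsScalarTower.algebraMap_eq R P S,
      ← IsScalarTower.algebraMap_eq R S SA])
  let ψ : PA →ₐ[R] SA := Algebra.pushoutDesc PA (IsScalarTower.toAlgHom R P SA)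
    (IsScalarTower.toAlgHom R A SA) (fun _ _ => mul_comm _ _)
  letI aPASA : Algebra PA SA := ψ.toRingHom.toAlgebra
  haveI t1 : IsScalarTower P PA SA := IsScalarTower.of_algebraMap_eq fun s =>
    (Algebra.pushoutDesc_left PA (IsScalarTower.toAlgHom R P SA)
      (IsScalarTower.toAlgHom R A SA) (fun _ _ => mul_comm _ _) s).symm
  haveI t2 : IsScalarTower A PA SA := IsScalarTower.of_algebraMap_eq fun s =>
    (Algebra.pushoutDesc_right PA (IsScalarTower.toAlgHom R P SA)
      (IsScalarTower.toAlgHom R A SA) (fun _ _ => mul_comm _ _) s).symm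
  haveI t3 : IsScalarTower R PA SA := IsScalarTower.of_algebraMap_eq' (by
    rw [IsScalarTower.algebraMap_eq R P PA, ← RingHom.comp_assoc, ← IsScalarTower.algebraMap_eq P PA SA,
      ← IsScalarTower.algebraMap_eq R P SA])
  letI m1 : Module PA NA := Module.compHom NA (algebraMap PA SA)
  haveI t4 : IsScalarTower PA SA NA := IsScalarTower.of_algebraMap_smul fun _ _ => rfl
  haveI t5 : IsScalarTower P SA NA := by
    apply IsScalarTower.of_algebraMap_smul
    intro a z
    rw [IsScalarTower.algebraMap_apply P S SA, algebraMap_smul SA, algebraMap_smul S]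
  haveI t6 : IsScalarTower P PA NA := by
    apply IsScalarTower.of_algebraMap_smul
    intro a z
    rw [← algebraMap_smul SA (algebraMap P PA a) z, ← IsScalarTower.algebraMap_apply, algebraMap_smul SA]
  haveI hpo : Algebra.IsPushout P S PA SA := (Algebra.IsPushout.comp_iff R P A PA).mp inferInstance
  exact ⟨aPASA, t2, aPSA, tPSSA, t1, m1, t4, t6, hpo, BCTools.isBaseChange_of_isPushout f hf⟩

/-- The free module on the closed subscheme. -/
theorem closed_step2 {A PA SA C : Type u} [CommRing A] [CommRing PA] [CommRing SA] [CommRing C]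
    [Algebra A PA] [Algebra A SA] [Algebra PA SA] [IsScalarTower A PA SA] [Algebra PA C] [Algebra A C]
    [IsScalarTower A PA C] {NA : Type u} [AddCommGroup NA] [Module SA NA] [Module PA NA]
    [IsScalarTower PA SA NA] (hfree : Module.Free A (RestrictScalars A C (C ⊗[PA] NA)))
    (hopen : IsOpenImmersion (Spec.map (CommRingCat.ofHom (algebraMap PA C))))
    (x : Ideal C) [x.IsPrime] (y : Ideal SA) [y.IsPrime] (z : Ideal PA) [z.IsPrime] [x.LiesOver z]
    [y.LiesOver z] :
    ∃ (C' : Type u) (_ : CommRing C') (_ : Algebra SA C') (_ : Algebra A C') (_ : IsScalarTower A SA C')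
      (x' : Ideal C') (_ : x'.IsPrime), IsOpenImmersion (Spec.map (CommRingCat.ofHom (algebraMap SA C'))) ∧
      x'.comap (algebraMap SA C') = y ∧ Module.Free A (RestrictScalars A C' (C' ⊗[SA] NA)) := by
  obtain ⟨C', _, _, _, _, _, _, hpo⟩ := exists_pushout PA C SA
  letI aAC' : Algebra A C' := ((algebraMap SA C').comp (algebraMap A SA)).toAlgebra
  haveI t1 : IsScalarTower A SA C' := IsScalarTower.of_algebraMap_eq' rfl
  haveI t2 : IsScalarTower A C C' := IsScalarTower.of_algebraMap_eq' (by
    rw [IsScalarTower.algebraMap_eq A SA C', IsScalarTower.algebraMap_eq A PA SA, ← RingHom.comp_assoc,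
      ← IsScalarTower.algebraMap_eq PA SA C', IsScalarTower.algebraMap_eq A PA C, ← RingHom.comp_assoc,
      ← IsScalarTower.algebraMap_eq PA C C'])
  obtain ⟨x', hx', hx'x, hx'y⟩ := EtaleNhd.exists_prime_of_isPushout (R := PA) (S := C) (R' := SA) (S' := C')
    z x y
  refine ⟨C', inferInstance, inferInstance, aAC', t1, x', hx', isOpenImmersion_of_isPushout PA C SA C' hopen,
    hx'y.over.symm, ?_⟩
  let Z := C' ⊗[SA] NA
  suffices h : ∀ (Z : Type u) [AddCommGroup Z] [Module C' Z] [Module SA Z] [IsScalarTower SA C' Z]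
      (g : NA →ₗ[SA] Z), IsBaseChange C' g → Module.Free A (RestrictScalars A C' Z) from
    h _ _ (TensorProduct.isBaseChange SA NA C')
  intro Z _ _ _ _ g hg
  letI m1 : Module C Z := Module.compHom Z (algebraMap C C')
  haveI s1 : IsScalarTower C C' Z := IsScalarTower.of_algebraMap_smul fun _ _ => rfl
  letI m2 : Module PA Z := Module.compHom Z (algebraMap PA C')
  haveI s2 : IsScalarTower PA C' Z := IsScalarTower.of_algebraMap_smul fun _ _ => rfl
  haveI s3 : IsScalarTower PA SA Z := by
    apply IsScalarTower.of_algebraMap_smul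
    intro a z
    rw [← algebraMap_smul C' (algebraMap PA SA a) z, ← IsScalarTower.algebraMap_apply, algebraMap_smul C']
  haveI s4 : IsScalarTower PA C Z := by
    apply IsScalarTower.of_algebraMap_smul
    intro a z
    rw [← algebraMap_smul C' (algebraMap PA C a) z, ← IsScalarTower.algebraMap_apply, algebraMap_smul C']
  haveI hpo' : Algebra.IsPushout PA SA C C' := hpo.symm
  have h1 : IsBaseChange C (g.restrictScalars PA) := BCTools.isBaseChange_of_isPushout (S := PA) (A := SA)
    (S₁ := C) (A₁ := C') g hg
  let e : RestrictScalars A C (C ⊗[PA] NA) ≃ₗ[A] RestrictScalars A C Z := restrictCongr A C h1.equiv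
  let e' : RestrictScalars A C Z ≃ₗ[A] RestrictScalars A C' Z :=
    { toFun := fun z => z
      invFun := fun z => z
      left_inv := fun _ => rfl
      right_inv := fun _ => rfl
      map_add' := fun _ _ => rfl
      map_smul' := fun a z => by
        change (algebraMap C C' (algebraMap A C a)) • (show Z from z) = (algebraMap A C' a) • (show Z from z)
        rw [← IsScalarTower.algebraMap_apply] }
  exact Module.Free.of_equiv (e.trans e')

/-- Stacks Tag 05MF (ring form, X = Spec S and S = Spec R affine): let S be a finite type R-algebra, N a finite S-module and q a prime of S over p with N_q flat over R. Then there is an étale R-algebra R' with a prime p' over p having the same residue field such that, writing A for the local ring of R' at p' and S_A, N_A for the base changes (any models), there is an S_A-algebra C with Spec C → Spec S_A an open immersion (an affine open U'), containing a point lying over q and over the maximal ideal of A, such that C ⊗_{S_A} N_A is a free A-module. -/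
theorem result {R S : Type u} [CommRing R] [CommRing S] [Algebra R S] [Algebra.FiniteType R S]
    (N : Type u) [AddCommGroup N] [Module S N] [Module R N] [IsScalarTower R S N] [Module.Finite S N]
    (p : Ideal R) [p.IsPrime] (q : Ideal S) [q.IsPrime] [q.LiesOver p] (hflat : FlatCA.FlatAt R q N) :
    ∃ (R' : Type u) (_ : CommRing R') (_ : Algebra R R') (p' : Ideal R') (_ : p'.IsPrime), FlatCA.IsEtaleNhd R R' p p' ∧
      ∀ (SA NA : Type u) [CommRing SA] [Algebra R SA] [Algebra S SA] [Algebra (Localization.AtPrime p') SA]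
        [IsScalarTower R S SA] [IsScalarTower R (Localization.AtPrime p') SA]
        [Algebra.IsPushout R S (Localization.AtPrime p') SA]
        [AddCommGroup NA] [Module SA NA] [Module S NA] [IsScalarTower S SA NA]
        (f : N →ₗ[S] NA), IsBaseChange SA f →
        ∃ (C : Type u) (_ : CommRing C) (_ : Algebra SA C) (_ : Algebra (Localization.AtPrime p') C)
          (_ : IsScalarTower (Localization.AtPrime p') SA C) (x' : Ideal C) (_ : x'.IsPrime),
          IsOpenImmersion (Spec.map (CommRingCat.ofHom (algebraMap SA C))) ∧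
          (x'.comap (algebraMap SA C)).LiesOver q ∧
          (x'.comap (algebraMap SA C)).LiesOver (IsLocalRing.maximalIdeal (Localization.AtPrime p')) ∧
          Module.Free (Localization.AtPrime p') (RestrictScalars (Localization.AtPrime p') C (C ⊗[SA] NA)) := by
  obtain ⟨n, φ, hφ⟩ := Algebra.FiniteType.iff_quotient_mvPolynomial''.mp ‹Algebra.FiniteType R S›
  letI aPS : Algebra (MvPolynomial (Fin n) R) S := φ.toRingHom.toAlgebra
  haveI tRPS : IsScalarTower R (MvPolynomial (Fin n) R) S :=
    IsScalarTower.of_algebraMap_eq' φ.comp_algebraMap.symm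
  letI mPN : Module (MvPolynomial (Fin n) R) N := Module.compHom N (algebraMap (MvPolynomial (Fin n) R) S)
  haveI tPSN : IsScalarTower (MvPolynomial (Fin n) R) S N := IsScalarTower.of_algebraMap_smul fun _ _ => rfl
  haveI tRPN : IsScalarTower R (MvPolynomial (Fin n) R) N := by
    apply IsScalarTower.of_algebraMap_smul
    intro a z
    rw [← algebraMap_smul S (algebraMap R (MvPolynomial (Fin n) R) a) z, ← IsScalarTower.algebraMap_apply,
      algebraMap_smul S]
  haveI : Module.Finite (MvPolynomial (Fin n) R) S := Module.Finite.of_surjective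
    (Algebra.linearMap (MvPolynomial (Fin n) R) S) hφ
  haveI : Module.Finite (MvPolynomial (Fin n) R) N := Module.Finite.trans S N
  let qP : Ideal (MvPolynomial (Fin n) R) := q.comap (algebraMap (MvPolynomial (Fin n) R) S)
  haveI hqqP : q.LiesOver qP := ⟨rfl⟩
  haveI hqP : qP.LiesOver p := ⟨by
    rw [Ideal.over_def q p, Ideal.under_def, Ideal.under_def, Ideal.comap_comap,
      ← IsScalarTower.algebraMap_eq]⟩
  have hflP : FlatCA.FlatAt R qP N := (LocTransfer.flatAt_iff_of_surjective hφ qP q rfl N).mpr hflat
  obtain ⟨R', _, _, p', _, h, H⟩ := fp_case N p qP hflP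
  refine ⟨R', inferInstance, inferInstance, p', inferInstance, h, ?_⟩
  intro SA NA _ _ _ _ _ _ _ _ _ _ _ f hf
  obtain ⟨PA, _, _, _, _, _, _, hpo⟩ := exists_pushout R (MvPolynomial (Fin n) R) (Localization.AtPrime p')
  letI mPNA : Module (MvPolynomial (Fin n) R) NA := Module.compHom NA (algebraMap (MvPolynomial (Fin n) R) S)
  haveI tPSNA : IsScalarTower (MvPolynomial (Fin n) R) S NA := IsScalarTower.of_algebraMap_smul fun _ _ => rfl
  obtain ⟨_, _, _, _, _, _, _, _, -, hf'⟩ := closed_step (R := R) (P := MvPolynomial (Fin n) R) (S := S)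
    (A := Localization.AtPrime p') (PA := PA) (SA := SA) f hf
  obtain ⟨C, _, _, _, _, x, _, hop, hxq, hxm, hfree⟩ := H PA NA (f.restrictScalars (MvPolynomial (Fin n) R)) hf'
  obtain ⟨y, _, hyq, hym, -, -⟩ := EtaleNhd.exists_unique_prime_localized (SA := SA) h q
  obtain ⟨z, _, hzq, hzm, -, huniq⟩ := EtaleNhd.exists_unique_prime_localized (SA := PA) h qP
  haveI hyz : y.LiesOver z := by
    refine ⟨(huniq (y.comap (algebraMap PA SA)) ⟨?_⟩ ⟨?_⟩).symm⟩
    · rw [Ideal.over_def q qP, hyq.over, Ideal.under_def, Ideal.under_def, Ideal.under_def, Ideal.comap_comap,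
        Ideal.comap_comap, ← IsScalarTower.algebraMap_eq, ← IsScalarTower.algebraMap_eq]
    · rw [hym.over, Ideal.under_def, Ideal.under_def, Ideal.comap_comap, ← IsScalarTower.algebraMap_eq]
  haveI hxz : x.LiesOver z := ⟨(huniq (x.comap (algebraMap PA C)) hxq hxm).symm⟩
  obtain ⟨C', _, _, _, _, x', _, h1, h2, h3⟩ := closed_step2 (A := Localization.AtPrime p') (PA := PA) (SA := SA)
    (C := C) (NA := NA) hfree hop x y z
  exact ⟨C', inferInstance, inferInstance, inferInstance, inferInstance, x', inferInstance, h1,
    by rw [h2]; exact hyq, by rw [h2]; exact hym, h3⟩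

end Groth.Agent.S1269
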