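import Groth.Statements.S1271
import Mathlib.RingTheory.Unramified.LocalStructure
import Mathlib.LinearAlgebra.Determinant
import Mathlib.LinearAlgebra.TensorProduct.Basis

set_option autoImplicit false
universe u
open FlatMor

namespace Groth.Agent.S1271

open TensorProduct

/-- A multilinear form takes values in an ideal on spans of sets on which it does. -/
lemma multilinear_mem_of_span {R E ι : Type*} [CommRing R] [AddCommGroup E] [Module R E]
    [DecidableEq ι] [Fintype ι] (F : MultilinearMap R (fun _ : ι => E) R) (S : ι → Set E)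
    (I : Ideal R) (h : ∀ v : ι → E, (∀ i, v i ∈ S i) → F v ∈ I)
    (v : ι → E) (hv : ∀ i, v i ∈ Submodule.span R (S i)) : F v ∈ I := by
  have key : ∀ T : Finset ι, ∀ v : ι → E, (∀ i ∈ T, v i ∈ Submodule.span R (S i)) →
      (∀ i ∉ T, v i ∈ S i) → F v ∈ I := by
    intro T
    induction T using Finset.induction_on with
    | empty => intro v _ hv; exact h v fun i => hv i (by simp)
    | insert i T hi ih =>
      intro v hv1 hv2
      have h1 : ∀ y ∈ Submodule.span R (S i), F (Function.update v i y) ∈ I := by
        intro y hy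
        induction hy using Submodule.span_induction with
        | mem y hy =>
          apply ih
          · intro j hj
            have : j ≠ i := fun h => hi (h ▸ hj)
            rw [Function.update_of_ne this]
            exact hv1 j (Finset.mem_insert_of_mem hj)
          · intro j hj
            by_cases hji : j = i
            · subst hji; rw [Function.update_self]; exact hy
            · rw [Function.update_of_ne hji]
              exact hv2 j (by simp [hji, hj])
        | zero => rw [F.map_update_zero]; exact I.zero_mem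
        | add x y _ _ hx hy => rw [F.map_update_add]; exact I.add_mem hx hy
        | smul r x _ hx => rw [F.map_update_smul]; exact I.mul_mem_left _ hx
      have := h1 (v i) (hv1 i (Finset.mem_insert_self _ _))
      rwa [Function.update_eq_self] at this
  exact key Finset.univ v (fun i _ => hv i) (fun i hi => absurd (Finset.mem_univ i) hi)


section Main

variable {A B C : Type u} [CommRing A] [CommRing B] [CommRing C] [Algebra A B] [Algebra A C]

/-- the point of `B ⊗ C` over `B` given by an algebra map `C → B` -/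
noncomputable def pt (ε : C →ₐ[A] B) : B ⊗[A] C →ₐ[B] B :=
  Algebra.TensorProduct.lift (Algebra.ofId B B) ε (fun _ _ => Commute.all _ _)

lemma pt_tmul (ε : C →ₐ[A] B) (b : B) (c : C) : pt ε (b ⊗ₜ c) = b * ε c := by
  simp [pt]

/-- the endomorphism `z ↦ (1 - e₁) z` kills determinants -/
lemma det_zero_of_mem_compl {ι : Type*} [Fintype ι] [DecidableEq ι] (e : Module.Basis ι A C)
    (ε : C →ₐ[A] B) (e₁ : B ⊗[A] C) (he₁ : ∀ z, z * e₁ = pt ε z • e₁) (hε : pt ε e₁ = 1)
    (w : ι → B ⊗[A] C) (hw : ∀ i, (1 - e₁) * w i = w i) : (e.baseChange B).det w = 0 := by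
  let μ : B ⊗[A] C →ₗ[B] B ⊗[A] C := LinearMap.mulLeft B (1 - e₁)
  have hμe : μ e₁ = 0 := by
    simp only [μ, LinearMap.mulLeft_apply, sub_mul, one_mul]
    rw [he₁, hε, one_smul, sub_self]
  let b := e.baseChange B
  have hdet : LinearMap.det μ = 0 := by
    have h1 : (LinearMap.toMatrix b b μ).mulVec (b.repr e₁) = 0 := by
      rw [LinearMap.toMatrix_mulVec_repr, hμe]
      simp
    have h2 : (LinearMap.toMatrix b b μ).det • (b.repr e₁ : ι → B) = 0 := by
      have := congrArg (Matrix.mulVec (LinearMap.toMatrix b b μ).adjugate) h1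
      rw [Matrix.mulVec_mulVec, Matrix.adjugate_mul, Matrix.smul_mulVec, Matrix.one_mulVec, Matrix.mulVec_zero] at this
      exact this
    rw [LinearMap.det_toMatrix] at h2
    have h3 : LinearMap.det μ • e₁ = 0 := by
      apply b.repr.injective
      ext i
      rw [map_smul, map_zero]
      exact congrFun h2 i
    have h4 := congrArg (pt ε) h3
    rwa [map_smul, hε, map_zero, smul_eq_mul, mul_one] at h4
  have hw' : μ ∘ w = w := funext fun i => hw i
  have := b.det_comp μ w
  rw [hw', hdet, zero_mul] at this
  exact this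

lemma det_tmul {ι : Type*} [Fintype ι] [DecidableEq ι] (e : Module.Basis ι A C) (v : ι → C) :
    (e.baseChange B).det (fun i => (1 : B) ⊗ₜ[A] v i) = algebraMap A B (e.det v) := by
  rw [Module.Basis.det_apply, Module.Basis.det_apply, RingHom.map_det]
  congr 1
  ext i j
  simp [Module.Basis.toMatrix_apply, Algebra.algebraMap_eq_smul_one]

/-- The key factorization. -/
lemma key {ι : Type*} [Fintype ι] [DecidableEq ι] (e : Module.Basis ι A C)
    (ε : C →ₐ[A] B) (e₁ : B ⊗[A] C) (he₁ : ∀ z, z * e₁ = pt ε z • e₁) (hε : pt ε e₁ = 1)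
    (S : Set C) (hS : ∀ c ∈ S, ∀ x : C, x * c ∈ Submodule.span A S) :
    (Ideal.span {d | ∃ v : ι → C, (∀ i, v i ∈ S) ∧ e.det v = d}).map (algebraMap A B) =
      Ideal.span (ε '' S) *
      Ideal.span {d | ∃ w : ι → B ⊗[A] C, (∃ i, w i = e₁ ∧ ∀ j ≠ i, w j ∈
        ((fun c => (1 - e₁) * (1 ⊗ₜ c)) '' S)) ∧ (e.baseChange B).det w = d} := by
  have hidem : e₁ * e₁ = e₁ := by rw [he₁, hε, one_smul]
  set I : Ideal A := Ideal.span {d | ∃ v : ι → C, (∀ i, v i ∈ S) ∧ e.det v = d} with hI
  set J' : Ideal B := Ideal.span {d | ∃ w : ι → B ⊗[A] C, (∃ i, w i = e₁ ∧ ∀ j ≠ i, w j ∈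
        ((fun c => (1 - e₁) * (1 ⊗ₜ c)) '' S)) ∧ (e.baseChange B).det w = d} with hJ'
  apply le_antisymm
  · rw [hI, Ideal.map_span, Ideal.span_le]
    rintro _ ⟨_, ⟨v, hv, rfl⟩, rfl⟩
    rw [← det_tmul]
    -- decompose
    let T : Set (B ⊗[A] C) := ((fun c => ε c • e₁) '' S) ∪ ((fun c => (1 - e₁) * (1 ⊗ₜ c)) '' S)
    refine multilinear_mem_of_span (e.baseChange B).det.toMultilinearMap (fun _ => T) _ ?_ _ ?_
    · intro w hw
      change (e.baseChange B).det w ∈ _
      by_cases hall : ∀ i, w i ∈ ((fun c => (1 - e₁) * (1 ⊗ₜ c)) '' S)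
      · rw [det_zero_of_mem_compl e ε e₁ he₁ hε w ?_]
        · exact Submodule.zero_mem _
        · intro i
          obtain ⟨c, hc, hcw⟩ := hall i
          rw [← hcw]
          simp only
          rw [← mul_assoc]
          congr 1
          rw [sub_mul, one_mul, mul_sub, mul_one, hidem, sub_self, sub_zero]
      · push Not at hall
        obtain ⟨i, hi⟩ := hall
        obtain ⟨c, hc, hcw⟩ := (hw i).resolve_right hi
        have hwi : w = Function.update w i (ε c • e₁) := by
          rw [show ε c • e₁ = w i from hcw, Function.update_eq_self]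
        have hdet : (e.baseChange B).det w = ε c * (e.baseChange B).det (Function.update w i e₁) := by
          conv_lhs => rw [hwi, AlternatingMap.map_update_smul]
          rfl
        rw [hdet]
        by_cases hj : ∃ j, j ≠ i ∧ w j ∉ ((fun c => (1 - e₁) * (1 ⊗ₜ c)) '' S)
        · obtain ⟨j, hji, hj⟩ := hj
          obtain ⟨c', hc', hcw'⟩ := (hw j).resolve_right hj
          have h0 : (e.baseChange B).det (Function.update w i e₁) = 0 := by
            have : Function.update w i e₁ = Function.update (Function.update w i e₁) j (ε c' • e₁) := by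
              rw [show ε c' • e₁ = (Function.update w i e₁) j by
                rw [Function.update_of_ne hji]; exact hcw', Function.update_eq_self]
            rw [this, AlternatingMap.map_update_smul]
            rw [AlternatingMap.map_eq_zero_of_eq _ _ (i := i) (j := j) _ hji.symm, smul_zero]
            rw [Function.update_self, Function.update_of_ne hji.symm, Function.update_self]
          rw [h0, mul_zero]
          exact Submodule.zero_mem _
        · push Not at hj
          refine Ideal.mul_mem_mul (Ideal.subset_span ⟨c, hc, rfl⟩) (Ideal.subset_span ?_)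
          refine ⟨_, ⟨i, Function.update_self .., fun j hji => ?_⟩, rfl⟩
          rw [Function.update_of_ne hji]
          exact hj j hji
    · intro i
      have : (1 : B) ⊗ₜ[A] v i = ε (v i) • e₁ + (1 - e₁) * (1 ⊗ₜ v i) := by
        have h1 := he₁ ((1 : B) ⊗ₜ[A] v i)
        rw [pt_tmul, one_mul] at h1
        rw [← h1]
        ring
      rw [this]
      exact Submodule.add_mem _ (Submodule.subset_span (Or.inl ⟨v i, hv i, rfl⟩))
        (Submodule.subset_span (Or.inr ⟨v i, hv i, rfl⟩))
  · have hspan : ∀ (z : B ⊗[A] C), ∀ c ∈ S, z * (1 ⊗ₜ[A] c) ∈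
        Submodule.span B ((fun c => (1 : B) ⊗ₜ[A] c) '' S) := by
      intro z c hc
      have h1 : ∀ y ∈ Submodule.span A S, (1 : B) ⊗ₜ[A] y ∈
          Submodule.span B ((fun c => (1 : B) ⊗ₜ[A] c) '' S) := by
        intro y hy
        induction hy using Submodule.span_induction with
        | mem y hy => exact Submodule.subset_span ⟨y, hy, rfl⟩
        | zero => rw [tmul_zero]; exact Submodule.zero_mem _
        | add x y _ _ hx hy => rw [tmul_add]; exact Submodule.add_mem _ hx hy
        | smul a x _ hx =>
          rw [tmul_smul, ← algebraMap_smul B a]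
          exact Submodule.smul_mem _ _ hx
      induction z using TensorProduct.induction_on with
      | zero => rw [zero_mul]; exact Submodule.zero_mem _
      | tmul b x =>
        rw [Algebra.TensorProduct.tmul_mul_tmul, mul_one]
        have : b ⊗ₜ[A] (x * c) = b • ((1 : B) ⊗ₜ[A] (x * c)) := by
          rw [smul_tmul', smul_eq_mul, mul_one]
        rw [this]
        exact Submodule.smul_mem _ _ (h1 _ (hS c hc x))
      | add x y hx hy => rw [add_mul]; exact Submodule.add_mem _ hx hy
    rw [hJ', Ideal.span_mul_span', Ideal.span_le]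
    rintro _ ⟨_, ⟨c, hc, rfl⟩, _, ⟨w, ⟨i, hi, hw⟩, rfl⟩, rfl⟩
    have hdet : ε c * (e.baseChange B).det w = (e.baseChange B).det (Function.update w i (ε c • e₁)) := by
      rw [AlternatingMap.map_update_smul, ← hi, Function.update_eq_self]
      rfl
    change ε c * (e.baseChange B).det w ∈ _
    rw [hdet]
    refine multilinear_mem_of_span (e.baseChange B).det.toMultilinearMap
      (fun _ => (fun c => (1 : B) ⊗ₜ[A] c) '' S) _ ?_ _ ?_
    · intro v hv
      choose c' hc' hcv using hv
      have : v = fun i => (1 : B) ⊗ₜ[A] c' i := funext fun i => (hcv i).symm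
      rw [this]
      change (e.baseChange B).det _ ∈ _
      rw [det_tmul]
      exact Ideal.mem_map_of_mem _ (Ideal.subset_span ⟨c', hc', rfl⟩)
    · intro j
      by_cases hj : j = i
      · subst hj
        rw [Function.update_self]
        have h1 := he₁ ((1 : B) ⊗ₜ[A] c)
        rw [pt_tmul, one_mul] at h1
        rw [← h1, mul_comm]
        exact hspan _ c hc
      · rw [Function.update_of_ne hj]
        obtain ⟨c', hc', hcw⟩ := hw j hj
        rw [← hcw]
        exact hspan _ c' hc'

end Main


open Polynomial in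
lemma exists_idem {A B : Type u} [CommRing A] [CommRing B] [Algebra A B] (f : A[X]) (x : B)
    (hx : aeval x f = 0) (hu : IsUnit (aeval x (derivative f))) (ε : AdjoinRoot f →ₐ[A] B)
    (hε : ε (AdjoinRoot.root f) = x) :
    ∃ e₁ : B ⊗[A] (AdjoinRoot f), (∀ z, z * e₁ = pt ε z • e₁) ∧ pt ε e₁ = 1 := by
  let F : B[X] := f.map (algebraMap A B)
  have hF : F.eval x = 0 := by rw [eval_map_algebraMap]; exact hx
  obtain ⟨q, hq⟩ := dvd_iff_isRoot.mpr hF
  have hqu : q.eval x = aeval x (derivative f) := by
    have h1 : (derivative F).eval x = q.eval x := by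
      rw [hq, derivative_mul]
      simp
    rw [← h1, derivative_map, eval_map_algebraMap]
  obtain ⟨u, hu⟩ := hqu ▸ hu
  let X' : B ⊗[A] (AdjoinRoot f) := 1 ⊗ₜ AdjoinRoot.root f
  have hFX : ∀ p : A[X], aeval X' (p.map (algebraMap A B)) = (1 : B) ⊗ₜ[A] (AdjoinRoot.mk f p) := by
    intro p
    have h1 : aeval X' (p.map (algebraMap A B)) = aeval X' p := by
      rw [aeval_map_algebraMap]
    rw [h1]
    have h2 : X' = Algebra.TensorProduct.includeRight (R := A) (A := B) (AdjoinRoot.root f) := rfl
    rw [h2, aeval_algHom_apply, AdjoinRoot.aeval_eq]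
    rfl
  have hzero : (X' - algebraMap B _ x) * aeval X' q = 0 := by
    have h1 : aeval X' F = 0 := by
      rw [hFX, AdjoinRoot.mk_self, tmul_zero]
    rw [hq, map_mul, map_sub, aeval_X, aeval_C] at h1
    exact h1
  have hp : ∀ p : B[X], aeval X' p * aeval X' q = p.eval x • aeval X' q := by
    intro p
    obtain ⟨r, hr⟩ := X_sub_C_dvd_sub_C_eval (p := p) (a := x)
    have h1 : p = (X - C x) * r + C (p.eval x) := by rw [← hr]; ring
    have h2 : aeval X' p = (X' - algebraMap B _ x) * aeval X' r + algebraMap B _ (p.eval x) := by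
      conv_lhs => rw [h1]
      rw [map_add, map_mul, map_sub, aeval_X, aeval_C, aeval_C]
    rw [h2, add_mul, mul_assoc, mul_comm (aeval X' r), ← mul_assoc, hzero, zero_mul, zero_add,
      ← Algebra.smul_def]
  refine ⟨(↑u⁻¹ : B) • aeval X' q, ?_, ?_⟩
  · intro z
    induction z using TensorProduct.induction_on with
    | zero => simp
    | tmul b c =>
      obtain ⟨p, rfl⟩ := AdjoinRoot.mk_surjective c
      have h1 : b ⊗ₜ[A] (AdjoinRoot.mk f p) = b • aeval X' (p.map (algebraMap A B)) := by
        rw [hFX, smul_tmul', smul_eq_mul, mul_one]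
      have h2 : ε (AdjoinRoot.mk f p) = (p.map (algebraMap A B)).eval x := by
        rw [eval_map_algebraMap, ← AdjoinRoot.aeval_eq, ← aeval_algHom_apply, hε]
      rw [pt_tmul, h1, h2, smul_mul_smul_comm, hp]
      rw [smul_smul, smul_smul]
      congr 1
      ring
    | add x y hx hy => rw [add_mul, hx, hy, map_add, add_smul]
  · rw [map_smul, ← aeval_algHom_apply]
    have : pt ε X' = x := by
      rw [pt_tmul, one_mul, hε]
    rw [this, smul_eq_mul, coe_aeval_eq_eval, ← hu]
    exact u.inv_mul

/-- Stacks Tag 0813: let A → B be an étale ring map, a ∈ A a nonzerodivisor and J a finitely generated ideal of B with V(J) ⊆ V(aB), i.e. a lies in the radical of J. Then for every prime q of B there exist a finitely generated ideal I of A with V(I) ⊆ V(a), an element g of B outside q, and a finitely generated ideal J' of the localization B_g such that the extension of I to B_g equals the product of the extension of J with J'. -/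
theorem result {A B : Type u} [CommRing A] [CommRing B] [Algebra A B] [Algebra.Etale A B]
    (a : A) (ha : a ∈ nonZeroDivisors A) (J : Ideal B) (hJ : J.FG) (hJa : algebraMap A B a ∈ J.radical)
    (q : Ideal B) [q.IsPrime] :
    ∃ (I : Ideal A) (g : B) (J' : Ideal (Localization.Away g)), I.FG ∧ a ∈ I.radical ∧ g ∉ q ∧ J'.FG ∧
      I.map (algebraMap A (Localization.Away g)) = J.map (algebraMap B (Localization.Away g)) * J' := by
  classical
  obtain ⟨g, hgq, hst⟩ := Algebra.IsEtaleAt.exists_isStandardEtale (R := A) q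
  obtain ⟨P⟩ := hst.nonempty_standardEtalePresentation
  let C := AdjoinRoot P.f
  let e := (AdjoinRoot.powerBasis' P.monic_f).basis
  let ε : C →ₐ[A] (Localization.Away g) := AdjoinRoot.liftAlgHom P.f (Algebra.ofId A _) P.x P.hasMap.1
  have hεroot : ε (AdjoinRoot.root P.f) = P.x := AdjoinRoot.liftAlgHom_root _ (Algebra.ofId A _) P.x P.hasMap.1
  obtain ⟨e₁, he₁, hε1⟩ := exists_idem P.f P.x P.hasMap.1 P.hasMap.isUnit_derivative_f ε hεroot
  have hεmk : ∀ p, ε (AdjoinRoot.mk P.f p) = Polynomial.aeval P.x p := by
    intro p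
    rw [← AdjoinRoot.aeval_eq, ← Polynomial.aeval_algHom_apply, hεroot]
  -- lift generators of `J` to `C`
  set JB := J.map (algebraMap B (Localization.Away g)) with hJB
  have hJBfg : JB.FG := hJ.map _
  obtain ⟨T, hT⟩ := hJBfg
  obtain ⟨v, hv⟩ := P.hasMap.2
  have hlift : ∀ t : Localization.Away g, ∃ c : C, ∃ w : (Localization.Away g)ˣ, ε c = t * w := by
    intro t
    obtain ⟨p, n, hp⟩ := P.exists_mul_aeval_x_g_pow_eq_aeval_x t
    refine ⟨AdjoinRoot.mk P.f p, v ^ n, ?_⟩
    rw [hεmk, ← hp, Units.val_pow_eq_pow_val, hv]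
  choose cl wl hcl using hlift
  obtain ⟨m, hm⟩ := hJa
  let S₀ : Finset C := insert (algebraMap A C (a ^ m)) (T.image cl)
  let JC : Ideal C := Ideal.span S₀
  have hJCmap : JC.map ε.toRingHom = JB := by
    rw [Ideal.map_span]
    apply le_antisymm
    · rw [Ideal.span_le]
      rintro _ ⟨c, hc, rfl⟩
      rw [Finset.mem_coe, Finset.mem_insert, Finset.mem_image] at hc
      rcases hc with rfl | ⟨t, ht, rfl⟩
      · have h1 : ε (algebraMap A C (a ^ m)) = algebraMap B (Localization.Away g) (algebraMap A B a ^ m) := by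
          rw [ε.commutes, IsScalarTower.algebraMap_apply A B (Localization.Away g), map_pow]
        change ε (algebraMap A C (a ^ m)) ∈ JB
        rw [h1]
        exact Ideal.mem_map_of_mem _ hm
      · change ε (cl t) ∈ JB
        rw [hcl, ← hT]
        exact Ideal.mul_mem_right _ _ (Ideal.subset_span ht)
    · rw [← hT, Ideal.span_le]
      intro t ht
      have h1 : t = ε (cl t) * ↑(wl t)⁻¹ := by
        rw [hcl, mul_assoc, Units.mul_inv, mul_one]
      rw [h1]
      exact Ideal.mul_mem_right _ _ (Ideal.subset_span ⟨cl t, by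
        rw [Finset.mem_coe, Finset.mem_insert, Finset.mem_image]; exact Or.inr ⟨t, ht, rfl⟩, rfl⟩)
  have hfinC : Module.Finite A C := Module.Finite.of_basis e
  have hJCfin : Module.Finite A JC := by
    have : Module.Finite C JC := Module.Finite.iff_fg.mpr ⟨S₀, rfl⟩
    exact Module.Finite.trans C JC
  obtain ⟨S, hS⟩ : (JC.restrictScalars A).FG := Module.Finite.iff_fg.mp hJCfin
  have hSmem : ∀ x, x ∈ Submodule.span A (S : Set C) ↔ x ∈ JC := by
    intro x; rw [hS]; rfl
  have hS2 : ∀ c ∈ (S : Set C), ∀ x : C, x * c ∈ Submodule.span A (S : Set C) := by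
    intro c hc x
    rw [hSmem]
    exact Ideal.mul_mem_left _ _ ((hSmem c).mp (Submodule.subset_span hc))
  have hS3 : Ideal.span (S : Set C) = JC := by
    apply le_antisymm
    · rw [Ideal.span_le]; intro c hc; exact (hSmem c).mp (Submodule.subset_span hc)
    · intro x hx
      exact Submodule.span_le_restrictScalars A C (S : Set C) ((hSmem x).mpr hx)
  have hS4 : Ideal.span (ε '' (S : Set C)) = JB := by
    rw [← hJCmap, ← hS3, Ideal.map_span]; rfl
  have hkey := key e ε e₁ he₁ hε1 (S : Set C) hS2
  rw [hS4] at hkey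
  refine ⟨_, g, _, ?_, ?_, hgq, ?_, hkey⟩
  · refine ⟨((Set.Finite.pi' (fun _ => S.finite_toSet)).image (fun v => e.det v)).toFinset, ?_⟩
    congr 1
    ext d
    rw [Set.Finite.coe_toFinset]
    rfl
  · have h1 := multilinear_mem_of_span (e.det).toMultilinearMap
      (fun _ => (S : Set C)) (Ideal.span {d | ∃ v, (∀ i, v i ∈ (S : Set C)) ∧ e.det v = d}) (fun v hv => Ideal.subset_span ⟨v, hv, rfl⟩)
      (fun i => (a ^ m) • e i) (fun i => by
        rw [hSmem, Algebra.smul_def]
        refine Ideal.mul_mem_right _ _ (Ideal.subset_span ?_)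
        rw [Finset.mem_coe, Finset.mem_insert]; exact Or.inl rfl)
    rw [MultilinearMap.map_smul_univ] at h1
    simp only [AlternatingMap.coe_multilinearMap, Finset.prod_const, e.det_self, smul_eq_mul, mul_one] at h1
    rw [← pow_mul] at h1
    exact ⟨_, h1⟩
  · have hfin : Set.Finite {w : Fin (AdjoinRoot.powerBasis' P.monic_f).dim → (Localization.Away g) ⊗[A] C |
        ∃ i, w i = e₁ ∧ ∀ j ≠ i, w j ∈ ((fun c => (1 - e₁) * (1 ⊗ₜ c)) '' (S : Set C))} := by
      refine Set.Finite.subset (Set.Finite.pi' (fun _ => Set.Finite.insert e₁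
        (S.finite_toSet.image (fun c => (1 - e₁) * (1 ⊗ₜ c))))) ?_
      rintro w ⟨i, hi, hw⟩ j
      by_cases hj : j = i
      · subst hj; exact Or.inl hi
      · exact Or.inr (hw j hj)
    refine ⟨(hfin.image (fun v => (e.baseChange _).det v)).toFinset, ?_⟩
    congr 1
    ext d
    rw [Set.Finite.coe_toFinset]
    rfl

end Groth.Agent.S1271
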