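import Groth.Statements.S1273
import Groth.Agent.Flat2C.FlatteningAlg
import Groth.Agent.Flat2C.BlowExist

set_option autoImplicit false
universe u
open FlatMor

namespace Groth.Agent.S1273

open AlgebraicGeometry CategoryTheory Limits in
/-- Stacks Tag 081R: let S be quasi-compact and quasi-separated, U ⊆ S a quasi-compact open, and f : X → S of finite type and quasi-separated whose restriction over U is flat and locally of finite presentation. Then there is a U-admissible blow-up b : S' → S such that the strict transform X'' of X — the closed subscheme of X' = X ×_S S' whose ideal consists, on each affine open, of the functions annihilated by a power of the pulled-back exceptional ideal — is flat and of finite presentation (locally of finite presentation, quasi-compact and quasi-separated) over S'. -/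
theorem result {X S : Scheme.{u}} [CompactSpace S] [QuasiSeparatedSpace S]
    (f : X ⟶ S) [LocallyOfFiniteType f] [QuasiCompact f] [QuasiSeparated f] (U : S.Opens) (hU : IsCompact (U : Set S))
    [Flat (f ∣_ U)] [LocallyOfFinitePresentation (f ∣_ U)] :
    ∃ (𝓘 : S.IdealSheafData) (S' : Scheme.{u}) (b : S' ⟶ S), BlowUp.IsBlowUp b 𝓘 ∧ BlowUp.IsAdmissibleFor U 𝓘 ∧
      ∀ (X' : Scheme.{u}) (p₁ : X' ⟶ X) (p₂ : X' ⟶ S'), IsPullback p₁ p₂ f b →
      ∀ (𝒥 : X'.IdealSheafData),
        (∀ (V : X'.affineOpens) (a : Γ(X', V.1)), a ∈ 𝒥.ideal V ↔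
          BlowUp.KilledByPowerNear ((𝓘.comap f).comap p₁) (Coh.structureModule X') V a) →
        Flat (𝒥.subschemeι ≫ p₂) ∧ LocallyOfFinitePresentation (𝒥.subschemeι ≫ p₂) ∧
          QuasiCompact (𝒥.subschemeι ≫ p₂) ∧ QuasiSeparated (𝒥.subschemeι ≫ p₂) := by
  obtain ⟨𝓘, h𝓘, h𝓘s, H⟩ := Groth.Agent.Flat2C.GlobFlat.exists_flat_center
    Groth.Agent.Flat2C.FlatteningAlg.ringFlattening f U hU
  obtain ⟨S', b, hb⟩ := Groth.Agent.Flat2C.BlowExist.exists_isBlowUp 𝓘
  refine ⟨𝓘, S', b, hb, ⟨h𝓘, ?_⟩, ?_⟩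
  · rw [h𝓘s]
    exact disjoint_compl_left
  · intro X' p₁ p₂ hc 𝒥 h𝒥
    obtain ⟨h1, h2⟩ := H b hb.1 p₁ p₂ hc 𝒥 h𝒥
    have hq : QuasiCompact p₂ := MorphismProperty.of_isPullback hc ‹QuasiCompact f›
    have hqs : QuasiSeparated p₂ := MorphismProperty.of_isPullback hc ‹QuasiSeparated f›
    exact ⟨h1, h2, inferInstance, inferInstance⟩

end Groth.Agent.S1273
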