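import Groth.Statements.S1276
import Mathlib.RingTheory.FiniteType
import Groth.Agent.Flat2C.SupportBaseChange

set_option autoImplicit false
universe u
open FlatMor

namespace Groth.Agent.S1276

/-- Stacks Tag 057Q (ring form): let B be a finite type A-algebra, N a finite B-module and p a prime of A. Then there is a finitely generated ideal J of B annihilating N (so N is a module on the finitely presented closed subscheme V(J) of Spec B) such that a point of the fibre Spec(κ(p) ⊗ B) lies in V(J) if and only if it lies in the support of the fibre module of N. -/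
theorem result {A B : Type u} [CommRing A] [CommRing B] [Algebra A B] [Algebra.FiniteType A B]
    (N : Type u) [AddCommGroup N] [Module B N] [Module A N] [IsScalarTower A B N] [Module.Finite B N] (p : Ideal A) [p.IsPrime] :
    ∃ J : Ideal B, J.FG ∧ J ≤ Module.annihilator B N ∧
      ∀ x : PrimeSpectrum (p.Fiber B), FlatCA.fiberIdeal p J ≤ x.asIdeal ↔ x ∈ Module.support (p.Fiber B) (FlatCA.fiberMod p B N) := by
  let _ : Algebra B (p.Fiber B) := Algebra.TensorProduct.rightAlgebra
  have hN : IsNoetherianRing (p.Fiber B) :=
    Algebra.FiniteType.isNoetherianRing p.ResidueField (p.Fiber B)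
  have h1 : (FlatCA.fiberIdeal p (Module.annihilator B N)).FG := hN.noetherian _
  obtain ⟨s, hs, hs'⟩ := (Submodule.fg_span_iff_fg_span_finset_subset _).mp
    (show (Submodule.span (p.Fiber B) ((Algebra.TensorProduct.includeRight (R := A)
      (A := p.ResidueField) (B := B)).toRingHom '' (Module.annihilator B N : Set B))).FG from h1)
  classical
  obtain ⟨t, ht, rfl⟩ := Finset.subset_set_image_iff.mp hs
  refine ⟨Ideal.span (t : Set B), ⟨t, rfl⟩, Ideal.span_le.mpr ht, fun x => ?_⟩
  have h2 : FlatCA.fiberIdeal p (Ideal.span (t : Set B)) =
      FlatCA.fiberIdeal p (Module.annihilator B N) := by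
    rw [FlatCA.fiberIdeal, Ideal.map_span, FlatCA.fiberIdeal]
    rw [Finset.coe_image] at hs'
    exact hs'.symm
  rw [h2]
  exact (Groth.Agent.Flat2C.SupportBaseChange.mem_support_baseChange_iff_annihilator_map_le N x).symm

end Groth.Agent.S1276
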