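import Groth.Statements.S1281
import Groth.Agent.Flat2C.GlueBlow

set_option autoImplicit false
universe u
open FlatMor

namespace Groth.Agent.S1281

open AlgebraicGeometry CategoryTheory Limits in
/-- Stacks Tag 0F3X: let S be quasi-compact and quasi-separated and let j₁ : U → X₁, j₂ : U → X₂ be open immersions over S, with U, X₁, X₂ separated and of finite type over S. Then there are a scheme X separated and of finite type over S, blow-ups b_i : X_i' → X_i in finite type quasi-coherent ideals with support disjoint from the image of U, open immersions X_i' → X over S, and lifts U → X_i' of j_i, such that the two composites U → X_i' → X agree. -/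
theorem result {U X₁ X₂ S : Scheme.{u}} [CompactSpace S] [QuasiSeparatedSpace S]
    (gU : U ⟶ S) (g₁ : X₁ ⟶ S) (g₂ : X₂ ⟶ S)
    [IsSeparated gU] [LocallyOfFiniteType gU] [QuasiCompact gU]
    [IsSeparated g₁] [LocallyOfFiniteType g₁] [QuasiCompact g₁]
    [IsSeparated g₂] [LocallyOfFiniteType g₂] [QuasiCompact g₂]
    (j₁ : U ⟶ X₁) (j₂ : U ⟶ X₂) [IsOpenImmersion j₁] [IsOpenImmersion j₂] (hj₁ : j₁ ≫ g₁ = gU) (hj₂ : j₂ ≫ g₂ = gU) :
    ∃ (X : Scheme.{u}) (q : X ⟶ S) (_ : IsSeparated q) (_ : LocallyOfFiniteType q) (_ : QuasiCompact q)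
      (𝓘₁ : X₁.IdealSheafData) (𝓘₂ : X₂.IdealSheafData) (X₁' X₂' : Scheme.{u}) (b₁ : X₁' ⟶ X₁) (b₂ : X₂' ⟶ X₂)
      (o₁ : X₁' ⟶ X) (o₂ : X₂' ⟶ X) (u₁ : U ⟶ X₁') (u₂ : U ⟶ X₂'),
      BlowUp.IsBlowUp b₁ 𝓘₁ ∧ BlowUp.IsAdmissibleFor j₁.opensRange 𝓘₁ ∧
      BlowUp.IsBlowUp b₂ 𝓘₂ ∧ BlowUp.IsAdmissibleFor j₂.opensRange 𝓘₂ ∧
      IsOpenImmersion o₁ ∧ IsOpenImmersion o₂ ∧ o₁ ≫ q = b₁ ≫ g₁ ∧ o₂ ≫ q = b₂ ≫ g₂ ∧
      u₁ ≫ b₁ = j₁ ∧ u₂ ≫ b₂ = j₂ ∧ u₁ ≫ o₁ = u₂ ≫ o₂ := by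
  have hcU : CompactSpace U := QuasiCompact.compactSpace_of_compactSpace gU
  have hU₁ : IsCompact (j₁.opensRange : Set X₁) := isCompact_range j₁.continuous
  have hU₂ : IsCompact (j₂.opensRange : Set X₂) := isCompact_range j₂.continuous
  have h : (j₁.isoOpensRange.hom ≫ j₁.opensRange.ι) ≫ g₁ = (j₂.isoOpensRange.hom ≫ j₂.opensRange.ι) ≫ g₂ := by
    rw [Scheme.Hom.isoOpensRange_hom_ι, Scheme.Hom.isoOpensRange_hom_ι, hj₁, hj₂]
  have hc₁ : IsClosedImmersion (pullback.lift (f := j₁.opensRange.ι ≫ g₁) (g := g₂) j₁.isoOpensRange.hom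
      (j₂.isoOpensRange.hom ≫ j₂.opensRange.ι) (by rw [← h, Category.assoc])) := by
    have : IsClosedImmersion (pullback.lift (f := j₁.opensRange.ι ≫ g₁) (g := g₂) j₁.isoOpensRange.hom
      (j₂.isoOpensRange.hom ≫ j₂.opensRange.ι) (by rw [← h, Category.assoc]) ≫ pullback.fst _ _) := by
      rw [pullback.lift_fst]
      infer_instance
    exact IsClosedImmersion.of_comp _ (pullback.fst (j₁.opensRange.ι ≫ g₁) g₂)
  have hc₂ : IsClosedImmersion (pullback.lift (f := g₁) (g := j₂.opensRange.ι ≫ g₂)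
      (j₁.isoOpensRange.hom ≫ j₁.opensRange.ι) j₂.isoOpensRange.hom (by rw [h, Category.assoc])) := by
    have : IsClosedImmersion (pullback.lift (f := g₁) (g := j₂.opensRange.ι ≫ g₂)
      (j₁.isoOpensRange.hom ≫ j₁.opensRange.ι) j₂.isoOpensRange.hom (by rw [h, Category.assoc]) ≫
        pullback.snd _ _) := by
      rw [pullback.lift_snd]
      infer_instance
    exact IsClosedImmersion.of_comp _ (pullback.snd g₁ (j₂.opensRange.ι ≫ g₂))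
  obtain ⟨X, q, hq₁, hq₂, hq₃, 𝓘₁, 𝓘₂, X₁', X₂', b₁, b₂, o₁, o₂, ho₁, ho₂, u₁, u₂, hb₁, hI₁, hb₂, hI₂, e₁, e₂, e₃, e₄,
    e₅, -, -⟩ := Groth.Agent.Flat2C.GlueBlow.exists_glue g₁ g₂ j₁.opensRange j₂.opensRange hU₁ hU₂
    j₁.isoOpensRange.hom j₂.isoOpensRange.hom h hc₁ hc₂
  refine ⟨X, q, hq₁, hq₂, hq₃, 𝓘₁, 𝓘₂, X₁', X₂', b₁, b₂, o₁, o₂, j₁.isoOpensRange.hom ≫ u₁,
    j₂.isoOpensRange.hom ≫ u₂, hb₁, hI₁, hb₂, hI₂, ho₁, ho₂, e₁, e₂, ?_, ?_, ?_⟩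
  · rw [Category.assoc, e₃, Scheme.Hom.isoOpensRange_hom_ι]
  · rw [Category.assoc, e₄, Scheme.Hom.isoOpensRange_hom_ι]
  · rw [Category.assoc, e₅, Category.assoc]

end Groth.Agent.S1281
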