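import Groth.Statements.S1284
import Groth.Agent.Flat2C.FlatteningAlg
import Groth.Agent.Flat2C.BlowExist
import Groth.Agent.Flat2C.StrictTr
import Groth.Agent.Flat2C.LqfDense
import Groth.Agent.S1240
-- import your own Groth.Agent.* helpers here

set_option autoImplicit false
universe u
open FlatMor

namespace Groth.Agent.S1284

open AlgebraicGeometry CategoryTheory Limits in
/-- Stacks Tag 0B49: let φ : X → S be proper with S quasi-compact and quasi-separated, and U ⊆ S a quasi-compact open over which φ is finite locally free. Then there is a U-admissible blow-up b : S' → S such that the strict transform X'' of X (the closed subscheme of X ×_S S' cut out by the functions locally killed by a power of the pulled-back exceptional ideal) is finite locally free over S'. -/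
theorem result {X S : Scheme.{u}} [CompactSpace S] [QuasiSeparatedSpace S]
    (φ : X ⟶ S) [IsProper φ] (U : S.Opens) (hU : IsCompact (U : Set S)) (hfl : Mor2.IsFinLocFree (φ ∣_ U)) :
    ∃ (𝓘 : S.IdealSheafData) (S' : Scheme.{u}) (b : S' ⟶ S), BlowUp.IsBlowUp b 𝓘 ∧ BlowUp.IsAdmissibleFor U 𝓘 ∧
      ∀ (X' : Scheme.{u}) (p₁ : X' ⟶ X) (p₂ : X' ⟶ S'), IsPullback p₁ p₂ φ b →
      ∀ (𝒥 : X'.IdealSheafData),
        (∀ (W : X'.affineOpens) (a : Γ(X', W.1)), a ∈ 𝒥.ideal W ↔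
          BlowUp.KilledByPowerNear ((𝓘.comap φ).comap p₁) (Coh.structureModule X') W a) →
        Mor2.IsFinLocFree (𝒥.subschemeι ≫ p₂) := by
  obtain ⟨hfin, hflat, hlfp⟩ := hfl
  obtain ⟨𝓘, h𝓘, h𝓘s, H⟩ := Groth.Agent.Flat2C.GlobFlat.exists_flat_center
    Groth.Agent.Flat2C.FlatteningAlg.ringFlattening φ U hU
  obtain ⟨S', b, hb⟩ := Groth.Agent.Flat2C.BlowExist.exists_isBlowUp 𝓘
  refine ⟨𝓘, S', b, hb, ⟨h𝓘, ?_⟩, ?_⟩
  · rw [h𝓘s]
    exact disjoint_compl_left
  · intro X' p₁ p₂ hc 𝒥 h𝒥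
    obtain ⟨h1, h2⟩ := H b hb.1 p₁ p₂ hc 𝒥 h𝒥
    have hp : IsProper p₂ := MorphismProperty.of_isPullback hc ‹IsProper φ›
    have hq : IsProper (𝒥.subschemeι ≫ p₂) := inferInstance
    have hdense : Dense ((b ⁻¹ᵁ U : S'.Opens) : Set S') := by
      have h3 := Groth.Agent.Flat2C.StrictTr.closure_compl_of_isEff hb.1
      rw [dense_iff_closure_eq, ← h3]
      congr 1
      ext x
      have h4 : x ∈ ((𝓘.comap b).support : Set S') ↔ b x ∉ (U : Set S) := by
        rw [Scheme.IdealSheafData.support_comap]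
        have : b x ∈ (𝓘.support : Set S) ↔ b x ∈ (U : Set S)ᶜ := by rw [h𝓘s]
        exact this
      change b x ∈ (U : Set S) ↔ x ∉ ((𝓘.comap b).support : Set S')
      rw [h4, not_not]
    obtain ⟨a, ha⟩ := Groth.Agent.Flat2C.LqfDense.exists_isPullback_restrict hc U
    have hfin' : IsFinite (p₂ ∣_ (b ⁻¹ᵁ U)) := MorphismProperty.of_isPullback ha hfin
    have hlqf : LocallyQuasiFinite ((𝒥.subschemeι ≫ p₂) ∣_ (b ⁻¹ᵁ U)) := by
      rw [morphismRestrict_comp]
      have h5 : IsClosedImmersion (𝒥.subschemeι ∣_ (p₂ ⁻¹ᵁ (b ⁻¹ᵁ U))) :=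
        IsZariskiLocalAtTarget.restrict (P := @IsClosedImmersion) inferInstance _
      have h6 : LocallyQuasiFinite (𝒥.subschemeι ∣_ (p₂ ⁻¹ᵁ (b ⁻¹ᵁ U))) := inferInstance
      have h7 : LocallyQuasiFinite (p₂ ∣_ (b ⁻¹ᵁ U)) := inferInstance
      exact MorphismProperty.comp_mem _ _ _ h6 h7
    have hdim : ∀ x, FlatMor.fibreDimAt (𝒥.subschemeι ≫ p₂) x ≤ (0 : ℕ) :=
      Groth.Agent.S1240.result (𝒥.subschemeι ≫ p₂) (b ⁻¹ᵁ U) hdense 0
        (fun x hx ↦ by
          simpa using Groth.Agent.Flat2C.LqfDense.fibreDimAt_le_zero_of_restrict _ (b ⁻¹ᵁ U) x hx)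
        (Or.inl h2)
    have hQ : LocallyQuasiFinite (𝒥.subschemeι ≫ p₂) :=
      Groth.Agent.Flat2C.LqfDense.locallyQuasiFinite_of_fibreDimAt _ (by simpa using hdim)
    exact ⟨.of_isProper_of_locallyQuasiFinite _, h1, h2⟩

end Groth.Agent.S1284
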