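import Groth.Statements.S1285
-- import your own Groth.Agent.* helpers here
import Groth.Agent.Flat2C.SmoothDim
import Groth.Agent.Flat2C.SupportBaseChange

set_option autoImplicit false
universe u
open FlatMor

namespace Groth.Agent.S1285

open TensorProduct

attribute [local instance] Algebra.TensorProduct.rightAlgebra

/-- The support of the fibre module of a finite module. -/
theorem mem_support_fiberMod_iff {R S : Type u} [CommRing R] [CommRing S] [Algebra R S]
    (N : Type u) [AddCommGroup N] [Module S N] [Module R N] [IsScalarTower R S N]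
    [Module.Finite S N] (p : Ideal R) [p.IsPrime] (x : PrimeSpectrum (p.Fiber S)) :
    x ∈ Module.support (p.Fiber S) (FlatCA.fiberMod p S N) ↔
      Module.annihilator S N ≤ x.asIdeal.comap (algebraMap S (p.Fiber S)) := by
  rw [← Ideal.map_le_iff_le_comap]
  exact Groth.Agent.Flat2C.SupportBaseChange.mem_support_baseChange_iff_annihilator_map_le N x

theorem comap_comap {R D : Type u} [CommRing R] [CommRing D] [Algebra R D] (p : Ideal R)
    [p.IsPrime] (x : PrimeSpectrum (p.Fiber D)) :
    (x.asIdeal.comap (algebraMap D (p.Fiber D))).comap (algebraMap R D) = p := by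
  have := ((PrimeSpectrum.primesOverOrderIsoFiber R D p).symm x).2.2
  exact this.1.symm

/-- If `Q` vanishes at the generic point of an irreducible fibre then its dimension drops. -/
theorem supportDim_fiberMod_lt {R D : Type u} [CommRing R] [CommRing D] [Algebra R D]
    (Q : Type u) [AddCommGroup Q] [Module D Q] [Module R Q] [IsScalarTower R D Q]
    [Module.Finite D Q] (p : Ideal R) [p.IsPrime] [hP : (p.map (algebraMap R D)).IsPrime]
    (hQ : Subsingleton ((p.map (algebraMap R D)).ResidueField ⊗[D] Q)) (n : ℕ)
    (hn : ringKrullDim (p.Fiber D) ≤ n) :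
    Module.supportDim (p.Fiber D) (FlatCA.fiberMod p D Q) < (n : WithBot ℕ∞) := by
  have hann : ¬ Module.annihilator D Q ≤ p.map (algebraMap R D) := by
    intro h
    have h1 : (⟨p.map (algebraMap R D), hP⟩ : PrimeSpectrum D) ∈ Module.support D Q := by
      rw [Module.mem_support_iff_of_finite]
      exact h
    rw [Module.mem_support_iff_nontrivial_residueField_tensorProduct] at h1
    exact not_subsingleton_iff_nontrivial.mpr h1 hQ
  by_cases hne : Nonempty (Module.support (p.Fiber D) (FlatCA.fiberMod p D Q))
  · obtain ⟨⟨x₀, hx₀⟩⟩ := hne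
    have hle : ∀ x : PrimeSpectrum (p.Fiber D),
        p.map (algebraMap R D) ≤ x.asIdeal.comap (algebraMap D (p.Fiber D)) := fun x =>
      Ideal.map_le_iff_le_comap.mpr (comap_comap p x).ge
    have hover : (p.map (algebraMap R D)).LiesOver p := by
      refine ⟨le_antisymm Ideal.le_comap_map ?_⟩
      calc (p.map (algebraMap R D)).comap (algebraMap R D) ≤
          (x₀.asIdeal.comap (algebraMap D (p.Fiber D))).comap (algebraMap R D) :=
            Ideal.comap_mono (hle x₀)
        _ = p := comap_comap p x₀
    let y₀ : PrimeSpectrum (p.Fiber D) := PrimeSpectrum.primesOverOrderIsoFiber R D p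
      ⟨p.map (algebraMap R D), hP, hover⟩
    have hy₀ : y₀.asIdeal.comap (algebraMap D (p.Fiber D)) = p.map (algebraMap R D) := by
      have : (PrimeSpectrum.primesOverOrderIsoFiber R D p).symm y₀ =
          ⟨p.map (algebraMap R D), hP, hover⟩ := OrderIso.symm_apply_apply _ _
      exact congrArg Subtype.val this
    have hbot : ∀ x : PrimeSpectrum (p.Fiber D), y₀ ≤ x := by
      intro x
      rw [← OrderIso.le_iff_le (PrimeSpectrum.primesOverOrderIsoFiber R D p).symm]
      change y₀.asIdeal.comap (algebraMap D (p.Fiber D)) ≤
        x.asIdeal.comap (algebraMap D (p.Fiber D))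
      rw [hy₀]
      exact hle x
    have hnot : y₀ ∉ Module.support (p.Fiber D) (FlatCA.fiberMod p D Q) := by
      rw [mem_support_fiberMod_iff, hy₀]
      exact hann
    have hlen : ∀ s : LTSeries (Module.support (p.Fiber D) (FlatCA.fiberMod p D Q)),
        s.length + 1 ≤ n := by
      intro s
      let s' : LTSeries (PrimeSpectrum (p.Fiber D)) := s.map Subtype.val (fun _ _ h => h)
      have hlt : y₀ < s'.head := by
        refine lt_of_le_of_ne (hbot _) fun h => hnot ?_
        rw [h]
        exact s.head.2
      have h1 := Order.LTSeries.length_le_krullDim (RelSeries.cons s' y₀ hlt)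
      have h2 := h1.trans hn
      have h3 : (RelSeries.cons s' y₀ hlt).length = s.length + 1 := by
        simp [s']
      rw [h3] at h2
      exact_mod_cast h2
    have hn1 : 1 ≤ n := by
      have := hlen (RelSeries.singleton _ ⟨x₀, hx₀⟩)
      omega
    have h4 : Module.supportDim (p.Fiber D) (FlatCA.fiberMod p D Q) ≤ ((n - 1 : ℕ) : WithBot ℕ∞) := by
      refine iSup_le fun s => ?_
      have := hlen s
      have h5 : s.length ≤ n - 1 := by omega
      exact_mod_cast h5
    refine lt_of_le_of_lt h4 ?_
    have : n - 1 < n := by omega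
    exact_mod_cast this
  · rw [not_nonempty_iff] at hne
    rw [Module.supportDim, Order.krullDim_eq_bot]
    exact WithBot.bot_lt_coe _

/-- Comparison of the dimension of the fibre module over `S` and over `D`. -/
theorem supportDim_fiberMod_le {R S : Type u} [CommRing R] [CommRing S] [Algebra R S]
    (N : Type u) [AddCommGroup N] [Module S N] [Module R N] [IsScalarTower R S N]
    [Module.Finite S N] (p : Ideal R) [p.IsPrime]
    (C D G : Type u) [CommRing C] [CommRing D] [Algebra S C] [Algebra R C] [IsScalarTower R S C]
    [Algebra R D] [Algebra D C] [IsScalarTower R D C] [AddCommGroup G] [Module C G] [Module S G]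
    [IsScalarTower S C G] [Module D G] [IsScalarTower D C G] [Module R G] [IsScalarTower R D G]
    [Module.Finite D C] [Module.Finite D G] (e : N ≃ₗ[S] G)
    (hsurj : Function.Surjective (algebraMap S C)) :
    Module.supportDim (p.Fiber S) (FlatCA.fiberMod p S N) ≤
      Module.supportDim (p.Fiber D) (FlatCA.fiberMod p D G) := by
  have key : ∀ x : Module.support (p.Fiber S) (FlatCA.fiberMod p S N),
      ∃ Q : Ideal C, Q.IsPrime ∧ Q.comap (algebraMap S C) =
        x.1.asIdeal.comap (algebraMap S (p.Fiber S)) ∧
        Module.annihilator D G ≤ Q.comap (algebraMap D C) := by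
    rintro ⟨x, hx⟩
    rw [mem_support_fiberMod_iff] at hx
    set q := x.asIdeal.comap (algebraMap S (p.Fiber S)) with hq
    have hact : ∀ s : S, (∀ g : G, (algebraMap S C s) • g = 0) → s ∈ q := by
      intro s hs
      refine hx ?_
      rw [Module.mem_annihilator]
      intro m
      apply e.injective
      rw [map_smul, map_zero, ← algebraMap_smul C s (e m)]
      exact hs _
    have hker : RingHom.ker (algebraMap S C) ≤ q := by
      intro s hs
      refine hact s fun g => ?_
      rw [RingHom.mem_ker.mp hs, zero_smul]
    refine ⟨q.map (algebraMap S C), Ideal.map_isPrime_of_surjective hsurj hker, ?_, ?_⟩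
    · rw [Ideal.comap_map_of_surjective _ hsurj]
      exact sup_eq_left.mpr hker
    · intro d hd
      obtain ⟨s, hs⟩ := hsurj (algebraMap D C d)
      rw [Ideal.mem_comap, ← hs]
      refine Ideal.mem_map_of_mem _ (hact s fun g => ?_)
      rw [hs, algebraMap_smul]
      exact Module.mem_annihilator.mp hd g
  choose Q hQprime hQS hQann using key
  have hover : ∀ x, ((Q x).comap (algebraMap D C)).LiesOver p := by
    intro x
    refine ⟨?_⟩
    change p = ((Q x).comap (algebraMap D C)).comap (algebraMap R D)
    rw [Ideal.comap_comap, ← IsScalarTower.algebraMap_eq, IsScalarTower.algebraMap_eq R S C,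
      ← Ideal.comap_comap, hQS, comap_comap]
  let F : Module.support (p.Fiber S) (FlatCA.fiberMod p S N) →
      Module.support (p.Fiber D) (FlatCA.fiberMod p D G) := fun x =>
    ⟨PrimeSpectrum.primesOverOrderIsoFiber R D p
      ⟨(Q x).comap (algebraMap D C), Ideal.IsPrime.comap _, hover x⟩, by
        rw [mem_support_fiberMod_iff]
        have : (PrimeSpectrum.primesOverOrderIsoFiber R D p).symm
            (PrimeSpectrum.primesOverOrderIsoFiber R D p
              ⟨(Q x).comap (algebraMap D C), Ideal.IsPrime.comap _, hover x⟩) =
            ⟨(Q x).comap (algebraMap D C), Ideal.IsPrime.comap _, hover x⟩ :=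
          OrderIso.symm_apply_apply _ _
        exact (hQann x).trans (congrArg Subtype.val this).ge⟩
  refine Order.krullDim_le_of_strictMono F ?_
  intro x y hxy
  have h1 : x.1.asIdeal.comap (algebraMap S (p.Fiber S)) <
      y.1.asIdeal.comap (algebraMap S (p.Fiber S)) := by
    have := (PrimeSpectrum.primesOverOrderIsoFiber R S p).symm.strictMono (show x.1 < y.1 from hxy)
    exact this
  rw [← hQS, ← hQS] at h1
  have h2 : Q x < Q y := by
    refine lt_of_le_not_ge ?_ fun h => h1.not_ge (Ideal.comap_mono h)
    intro c hc
    obtain ⟨s, rfl⟩ := hsurj c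
    exact h1.le hc
  have h3 : (Q x).comap (algebraMap D C) < (Q y).comap (algebraMap D C) := by
    refine lt_of_le_of_ne (Ideal.comap_mono h2.le) fun h => h2.ne ?_
    have := hQprime x
    have := hQprime y
    exact Algebra.QuasiFinite.eq_of_le_of_under_eq (R := D) (Q x) (Q y) h2.le h
  change PrimeSpectrum.primesOverOrderIsoFiber R D p
      ⟨(Q x).comap (algebraMap D C), Ideal.IsPrime.comap _, hover x⟩ <
      PrimeSpectrum.primesOverOrderIsoFiber R D p
      ⟨(Q y).comap (algebraMap D C), Ideal.IsPrime.comap _, hover y⟩
  exact (PrimeSpectrum.primesOverOrderIsoFiber R D p).strictMono h3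

/-- Elements of a finite module forming a basis of the fibre at a prime. -/
theorem exists_bijective_baseChange {D : Type u} [CommRing D] (G : Type u) [AddCommGroup G]
    [Module D G] [Module.Finite D G] (K : Type u) [Field K] [Algebra D K] :
    ∃ (r : ℕ) (α : (Fin r → D) →ₗ[D] G), Function.Bijective (α.baseChange K) := by
  have hspan : ⊤ ≤ Submodule.span K (Set.range fun g : G => (1 : K) ⊗ₜ[D] g) := by
    rintro x -
    induction x with
    | zero => exact zero_mem _
    | add x y hx hy => exact add_mem hx hy
    | tmul k g =>
      have : k ⊗ₜ[D] g = k • ((1 : K) ⊗ₜ[D] g) := by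
        rw [TensorProduct.smul_tmul', smul_eq_mul, mul_one]
      rw [this]
      exact Submodule.smul_mem _ _ (Submodule.subset_span ⟨g, rfl⟩)
  let b := Module.Basis.ofSpan hspan
  have hb : ∀ i, ∃ g : G, b i = (1 : K) ⊗ₜ[D] g := fun i => by
    obtain ⟨g, hg⟩ := Module.Basis.ofSpan_subset hspan ⟨i, rfl⟩
    exact ⟨g, hg.symm⟩
  choose g hg using hb
  have hfin := Module.Finite.finite_basis b
  let ε := Finite.equivFin ((linearIndepOn_empty K id).extend (Set.empty_subset
    (Set.range fun g : G => (1 : K) ⊗ₜ[D] g)))
  let b' := b.reindex ε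
  let B := (Pi.basisFun D (Fin (Nat.card ((linearIndepOn_empty K id).extend (Set.empty_subset
    (Set.range fun g : G => (1 : K) ⊗ₜ[D] g))))))
  let α := B.constr D (fun i => g (ε.symm i))
  refine ⟨_, α, ?_⟩
  have : α.baseChange K = ((B.baseChange K).equiv b' (Equiv.refl _)).toLinearMap := by
    refine (B.baseChange K).ext fun i => ?_
    rw [Module.Basis.baseChange_apply, LinearMap.baseChange_tmul, Module.Basis.constr_basis,
      ← Module.Basis.baseChange_apply, LinearEquiv.coe_coe, Module.Basis.equiv_apply,
      Equiv.refl_apply, Module.Basis.reindex_apply, hg]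
  rw [this]
  exact LinearEquiv.bijective _

/-- Stacks Tag 05HF (ring form): let (C, D, G) be a one-step dévissage of N/S/R over the prime p (see FlatCA.IsOneStepDevissage), and suppose pD is prime (the generic point of the fibre of Spec D). Then there are r > 0 and a D-linear map α from D^r to G which becomes bijective after base change to the residue field of pD; moreover for every such α the support of the fibre module over p of the cokernel of α has dimension strictly less than that of the fibre module of N. -/
theorem result {R S : Type u} [CommRing R] [CommRing S] [Algebra R S] [Algebra.FiniteType R S]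
    (N : Type u) [AddCommGroup N] [Module S N] [Module R N] [IsScalarTower R S N] [Module.Finite S N] (p : Ideal R) [p.IsPrime]
    (C D G : Type u) [CommRing C] [CommRing D] [Algebra S C] [Algebra R C] [IsScalarTower R S C]
    [Algebra R D] [Algebra D C] [IsScalarTower R D C] [AddCommGroup G] [Module C G] [Module S G] [IsScalarTower S C G]
    [Module D G] [IsScalarTower D C G] [Module R G] [IsScalarTower R D G]
    (n : ℕ) (h : FlatCA.IsOneStepDevissage R S N p C D G n) [(p.map (algebraMap R D)).IsPrime] :
    (∃ (r : ℕ) (α : (Fin r → D) →ₗ[D] G), 0 < r ∧ Function.Bijective (α.baseChange (p.map (algebraMap R D)).ResidueField)) ∧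
    ∀ (r : ℕ) (α : (Fin r → D) →ₗ[D] G), Function.Bijective (α.baseChange (p.map (algebraMap R D)).ResidueField) →
      Module.supportDim (p.Fiber D) (FlatCA.fiberMod p D (G ⧸ LinearMap.range α)) < (n : WithBot ℕ∞) := by
  obtain ⟨⟨e⟩, hsurj, hfpC, hfinC, hfinG, hsm, hgi, hdim⟩ := h
  have hn : ringKrullDim (p.Fiber D) ≤ n :=
    Groth.Agent.Flat2C.SmoothDim.ringKrullDim_fiber_le n R D hsm p
  have : Module.Finite D G := Module.Finite.trans C G
  have hdrop : ∀ (r : ℕ) (α : (Fin r → D) →ₗ[D] G),
      Function.Bijective (α.baseChange (p.map (algebraMap R D)).ResidueField) →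
      Module.supportDim (p.Fiber D) (FlatCA.fiberMod p D (G ⧸ LinearMap.range α)) <
        (n : WithBot ℕ∞) := by
    intro r α hα
    refine supportDim_fiberMod_lt _ p ?_ n hn
    have hex : Function.Exact (α.baseChange (p.map (algebraMap R D)).ResidueField)
        ((LinearMap.range α).mkQ.baseChange (p.map (algebraMap R D)).ResidueField) :=
      lTensor_exact _ (LinearMap.exact_map_mkQ_range α) (Submodule.mkQ_surjective _)
    have hsurj' : Function.Surjective
        ((LinearMap.range α).mkQ.baseChange (p.map (algebraMap R D)).ResidueField) :=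
      LinearMap.lTensor_surjective _ (Submodule.mkQ_surjective _)
    refine subsingleton_of_forall_eq 0 fun y => ?_
    obtain ⟨x, rfl⟩ := hsurj' y
    exact (hex x).mpr (hα.2 x)
  refine ⟨?_, hdrop⟩
  obtain ⟨r, α, hα⟩ := exists_bijective_baseChange (D := D) G (p.map (algebraMap R D)).ResidueField
  refine ⟨r, α, ?_, hα⟩
  by_contra hr
  obtain rfl : r = 0 := by omega
  have h1 : Module.supportDim (p.Fiber D) (FlatCA.fiberMod p D G) < (n : WithBot ℕ∞) := by
    refine supportDim_fiberMod_lt _ p ?_ n hn
    refine subsingleton_of_forall_eq 0 fun y => ?_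
    obtain ⟨x, rfl⟩ := hα.2 y
    have : Subsingleton ((p.map (algebraMap R D)).ResidueField ⊗[D] (Fin 0 → D)) := inferInstance
    rw [Subsingleton.elim x 0, map_zero]
  have h2 := supportDim_fiberMod_le N p C D G e hsurj
  rw [hdim] at h2
  exact absurd h1 (not_lt.mpr h2)

end Groth.Agent.S1285
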