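import Groth.Statements.S1287
import Groth.Agent.Flat2B.ProjGeomInt
import Groth.Agent.Flat2C.AffineAlg
import Groth.Agent.Flat2C.FibreInj
import Groth.Agent.Flat2C.ContentAux
import Groth.Agent.Flat2C.LocRelations
import Groth.Agent.Flat2C.MinorsAtPrime
import Groth.Agent.Flat2C.FreeAway
import Mathlib.RingTheory.Flat.TorsionFree
import Mathlib.RingTheory.Flat.Stability

set_option autoImplicit false
universe u
open FlatMor

namespace Groth.Agent.S1287

open Matrix in
theorem key {R S : Type u} [CommRing R] [CommRing S] [Algebra R S] [Module.Projective R S]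
    (hgi : FlatCA.GeomIntegralFibres R S) (f : R) (r : ℕ)
    (M : Type u) [AddCommGroup M] [Module S M] [Module.Finite S M]
    (hfp : Module.FinitePresentation (Localization.Away (algebraMap R S f)) (LocalizedModule (Submonoid.powers (algebraMap R S f)) M))
    (hfree : ∀ (p : Ideal R) [p.IsPrime] [(p.map (algebraMap R S)).IsPrime], f ∉ p →
      Module.Free (Localization.AtPrime (p.map (algebraMap R S))) (LocalizedModule (p.map (algebraMap R S)).primeCompl M) ∧
      Module.rank (Localization.AtPrime (p.map (algebraMap R S))) (LocalizedModule (p.map (algebraMap R S)).primeCompl M) = r) :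
    ∃ I : Ideal R, I.FG ∧ I.radical = (Ideal.span {f}).radical ∧ ∀ a ∈ I,
      ∀ (R' S' M' : Type u) [CommRing R'] [Algebra R R'] [CommRing S'] [Algebra S S'] [Algebra R' S'] [Algebra R S']
        [IsScalarTower R S S'] [IsScalarTower R R' S']
        [Algebra.IsPushout R R' S S']
        [AddCommGroup M'] [Module S' M'] [Module S M'] [IsScalarTower S S' M']
        (φ : M →ₗ[S] M'), IsBaseChange S' φ → algebraMap R R' a ∈ nonZeroDivisors R' →
        I.map (algebraMap R R') = Ideal.span {algebraMap R R' a} →
        ∀ (p' : Ideal R') [p'.IsPrime],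
          ∃ g : S', g ∉ p'.map (algebraMap R' S') ∧
            Module.Free (Localization.Away g)
              (LocalizedModule (Submonoid.powers g) (M' ⧸ FlatCA.powTorsion S' (algebraMap R S' a) M')) ∧
            Module.rank (Localization.Away g)
              (LocalizedModule (Submonoid.powers g) (M' ⧸ FlatCA.powTorsion S' (algebraMap R S' a) M')) = r := by
  classical
  -- generators and relations
  obtain ⟨k, gen, hgen⟩ := Module.Finite.exists_fin (R := S) (M := M)
  let ι := Fin k ⊕ Fin r
  have hι : Fintype.card ι = k + r := by simp [ι]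
  let e : ι → M := Sum.elim gen (fun _ => 0)
  have he : ∀ x : M, ∃ c : ι → S, x = ∑ i, c i • e i := by
    intro x
    have hx : x ∈ Submodule.span S (Set.range gen) := by rw [hgen]; trivial
    obtain ⟨c, hc⟩ := (Submodule.mem_span_range_iff_exists_fun S).mp hx
    exact ⟨Sum.elim c 0, by simp [ι, e, hc]⟩
  let π : (ι → S) →ₗ[S] M := Fintype.linearCombination S e
  have hπ : ∀ x : ι → S, π x = ∑ i, x i • e i := fun x => Fintype.linearCombination_apply S e x
  have hπs : Function.Surjective π := fun y => by
    obtain ⟨c, hc⟩ := he y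
    exact ⟨c, by rw [hπ, hc]⟩
  obtain ⟨m, κ, hκ, hκ'⟩ := Flat2C.LocRelations.exists_relations (algebraMap R S f) π hπs hfp
  let A : Matrix ι (Fin m) S := Matrix.of fun i j => κ j i
  have hA : ∀ j, ∑ i, A i j • e i = 0 := fun j => by
    have := hκ j
    rw [hπ] at this
    exact this
  have hA' : ∀ x : ι → S, ∑ i, x i • e i = 0 →
      ∃ (N : ℕ) (z : Fin m → S), algebraMap R S f ^ N • x = A *ᵥ z := by
    intro x hx
    rw [← hπ] at hx
    obtain ⟨N, z, hz⟩ := hκ' x hx
    refine ⟨N, z, ?_⟩
    rw [hz]
    ext i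
    simp [A, Matrix.mulVec, dotProduct, mul_comm]
  -- the minors at the generic points of the fibres
  have hmin : ∀ (p : Ideal R) [p.IsPrime], f ∉ p →
      (∀ (ρ : Fin k ⊕ Unit → ι) (γ : Fin k ⊕ Unit → Fin m), ∃ t : S, t ∉ p.map (algebraMap R S) ∧
        t * (A.submatrix ρ γ).det = 0) ∧
      ∃ (α : Fin k → ι) (β : Fin k → Fin m), (A.submatrix α β).det ∉ p.map (algebraMap R S) := by
    intro p _ hfp
    have hq := Flat2C.FibreInj.isPrime_map hgi p
    obtain ⟨h1, h2⟩ := hfree p hfp
    exact Flat2C.MinorsAtPrime.minors_atPrime k r hι e he A hA (algebraMap R S f) hA'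
      (p.map (algebraMap R S))
      (fun h => hfp ((Flat2C.FibreInj.algebraMap_mem_map_iff hgi p f).mp h)) h1 h2
  -- the large minors
  have hbig : ∀ (ρ : Fin k ⊕ Unit → ι) (γ : Fin k ⊕ Unit → Fin m),
      ∃ n : ℕ, f ^ n • (A.submatrix ρ γ).det = 0 := fun ρ γ =>
    Flat2C.FibreInj.exists_pow_smul_eq_zero hgi f _ (fun p _ hfp => (hmin p hfp).1 ρ γ)
  choose n hn using hbig
  let N₀ : ℕ := Finset.univ.sup (fun x : (Fin k ⊕ Unit → ι) × (Fin k ⊕ Unit → Fin m) => n x.1 x.2)
  have hN₀ : ∀ (ρ : Fin k ⊕ Unit → ι) (γ : Fin k ⊕ Unit → Fin m),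
      f ^ N₀ • (A.submatrix ρ γ).det = 0 := by
    intro ρ γ
    have h1 : n ρ γ ≤ N₀ :=
      Finset.le_sup (f := fun x : (Fin k ⊕ Unit → ι) × (Fin k ⊕ Unit → Fin m) => n x.1 x.2)
        (Finset.mem_univ (ρ, γ))
    obtain ⟨d, hd⟩ := Nat.exists_eq_add_of_le h1
    rw [hd, add_comm, pow_add, mul_smul, hn, smul_zero]
  -- coordinates
  obtain ⟨c, hc⟩ := (inferInstance : Module.Projective R S)
  let G : (Fin k → ι) × (Fin k → Fin m) → S := fun x => (A.submatrix x.1 x.2).det
  let I₀ : Ideal R := Flat2C.ContentAux.content c G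
  have hfI₀ : f ∈ I₀.radical := by
    rw [Ideal.radical_eq_sInf, Submodule.mem_sInf]
    rintro p ⟨hJp, hp⟩
    by_contra hfp
    obtain ⟨-, α, β, hαβ⟩ := hmin p hfp
    exact hαβ (Flat2C.ContentAux.mem_of_content_le c hc G p hJp (α, β))
  refine ⟨Ideal.span {f} * I₀, ?_, ?_, ?_⟩
  · exact Submodule.FG.mul ⟨{f}, by simp⟩ (Flat2C.ContentAux.content_fg c G)
  · rw [Ideal.radical_mul, inf_eq_left, Ideal.radical_le_radical_iff, Ideal.span_singleton_le_iff_mem]
    exact hfI₀
  intro a ha R' S' M' _ _ _ _ _ _ _ _ _ _ _ _ _ φ hφ hanzd hImap p' _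
  obtain ⟨y, hy, hfy⟩ := Ideal.mem_span_singleton_mul.mp ha
  have hnzd : algebraMap R R' f ∈ nonZeroDivisors R' ∧ algebraMap R R' y ∈ nonZeroDivisors R' := by
    rw [← mul_mem_nonZeroDivisors, ← map_mul, hfy]
    exact hanzd
  have hI₀map : I₀.map (algebraMap R R') = Ideal.span {algebraMap R R' y} := by
    apply le_antisymm
    · rw [Ideal.map_le_iff_le_comap]
      intro x hx
      rw [Ideal.mem_comap]
      have h1 : algebraMap R R' (f * x) ∈ Ideal.span {algebraMap R R' a} := by
        rw [← hImap]
        exact Ideal.mem_map_of_mem _ (Ideal.mul_mem_mul (Ideal.mem_span_singleton_self f) hx)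
      obtain ⟨w, hw⟩ := Ideal.mem_span_singleton.mp h1
      rw [Ideal.mem_span_singleton]
      refine ⟨w, ?_⟩
      rw [← hfy, map_mul, map_mul, mul_assoc] at hw
      have h2 : algebraMap R R' f * (algebraMap R R' x - algebraMap R R' y * w) = 0 := by
        rw [mul_sub, hw, sub_self]
      exact sub_eq_zero.mp ((mem_nonZeroDivisors_iff.mp hnzd.1).1 _ h2)
    · rw [Ideal.span_singleton_le_iff_mem]
      exact Ideal.mem_map_of_mem _ hy
  have hpush' : Algebra.IsPushout R S R' S' := Algebra.IsPushout.symm inferInstance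
  have hflatR : Module.Flat R S := inferInstance
  have hflat : Module.Flat R' S' :=
    Module.Flat.isBaseChange R R' S S' (Algebra.IsPushout.out (R := R) (S := R') (R' := S) (S' := S'))
  have hgi' : FlatCA.GeomIntegralFibres R' S' := Flat2A.GeomInt.baseChange hgi R' S'
  have hprime := Flat2C.FibreInj.isPrime_map hgi' p'
  obtain ⟨G', hG', hG'p⟩ := Flat2C.ContentAux.exists_div c hc (R' := R') (S' := S') G
    (algebraMap R R' y) hnzd.2 hI₀map
  obtain ⟨⟨α, β⟩, hαβ⟩ := hG'p p' (Ideal.IsPrime.ne_top inferInstance)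
  have hreg : ∀ x : S', algebraMap R S' y * x = 0 → x = 0 := by
    intro x hx
    have h1 := Module.Flat.isSMulRegular_of_nonZeroDivisors (M := S') hnzd.2
    apply h1
    change algebraMap R R' y • x = algebraMap R R' y • (0 : S')
    rw [smul_zero, Algebra.smul_def, ← IsScalarTower.algebraMap_apply, hx]
  have hregf : ∀ x : S', algebraMap R S' f * x = 0 → x = 0 := by
    intro x hx
    have h1 := Module.Flat.isSMulRegular_of_nonZeroDivisors (M := S') hnzd.1
    apply h1
    change algebraMap R R' f • x = algebraMap R R' f • (0 : S')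
    rw [smul_zero, Algebra.smul_def, ← IsScalarTower.algebraMap_apply, hx]
  have hrega : ∀ x : S', algebraMap R S' a * x = 0 → x = 0 := by
    intro x hx
    rw [← hfy, map_mul, mul_assoc] at hx
    exact hreg _ (hregf _ hx)
  have hpow : ∀ b : S', (∀ x : S', b * x = 0 → x = 0) → ∀ (n : ℕ) (x : S'), b ^ n * x = 0 → x = 0 := by
    intro b hb n
    induction n with
    | zero => intro x hx; simpa using hx
    | succ n ih =>
      intro x hx
      rw [pow_succ, mul_assoc] at hx
      exact hb _ (ih _ hx)
  have hG'' : ∀ i, algebraMap S S' (G i) = algebraMap R S' y * G' i := by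
    intro i
    rw [hG', Algebra.smul_def, ← IsScalarTower.algebraMap_apply]
  refine ⟨G' (α, β), hαβ, ?_⟩
  have hα : Function.Injective α := by
    intro s s' hss'
    by_contra hne
    apply hαβ
    have h1 : G (α, β) = 0 := by
      apply Matrix.det_zero_of_row_eq hne
      ext j
      simp [hss']
    have h2 := hG'' (α, β)
    rw [h1, map_zero] at h2
    rw [hreg _ h2.symm]
    exact zero_mem _
  let q := (FlatCA.powTorsion S' (algebraMap R S' a) M').mkQ
  have hq : ∀ x : M', q x = 0 ↔ ∃ n : ℕ, algebraMap R S' a ^ n • x = 0 := by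
    intro x
    rw [Submodule.mkQ_apply, Submodule.Quotient.mk_eq_zero, Flat2C.FreeAway.mem_powTorsion]
  refine Flat2C.FreeAway.free_away k r hι (fun i => q (φ (e i))) ?_ α hα (G' (α, β))
    (fun i s => G' (Function.update α s i, β)) ?_ ?_ ?_ ?_
  · intro x
    obtain ⟨x, rfl⟩ := Submodule.mkQ_surjective _ x
    obtain ⟨c, hc⟩ := Flat2C.FreeAway.exists_comb_baseChange φ hφ e he x
    refine ⟨c, ?_⟩
    change q x = _
    conv_lhs => rw [hc]
    rw [map_sum]
    simp_rw [map_smul]
  · intro s
    have h1 := Flat2C.MinorsAux.sum_cramer_smul A e hA α β s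
    have h2 := congrArg φ h1
    rw [map_zero, map_sum] at h2
    have h3 : algebraMap R S' y • ∑ i, G' (Function.update α s i, β) • φ (e i) = 0 := by
      rw [← h2, Finset.smul_sum]
      refine Finset.sum_congr rfl fun i _ => ?_
      rw [smul_smul, ← hG'', map_smul, algebraMap_smul]
    have h4 : q (∑ i, G' (Function.update α s i, β) • φ (e i)) = 0 := by
      rw [hq]
      refine ⟨1, ?_⟩
      rw [pow_one, ← hfy, map_mul, mul_smul, h3, smul_zero]
    rw [← h4, map_sum]
    simp_rw [map_smul]
  · intro s s'
    by_cases h : s' = s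
    · subst h
      rw [if_pos rfl, Function.update_eq_self]
    · rw [if_neg h]
      have h1 : G (Function.update α s (α s'), β) = 0 := by
        apply Matrix.det_zero_of_row_eq h
        ext j
        simp [h]
      have h2 := hG'' (Function.update α s (α s'), β)
      rw [h1, map_zero] at h2
      exact hreg _ h2.symm
  · intro x hx hsum i
    have h1 : q (∑ i, x i • φ (e i)) = 0 := by
      rw [map_sum]
      simp_rw [map_smul]
      exact hsum
    rw [hq] at h1
    obtain ⟨n₁, hn₁⟩ := h1
    have h2 : ∑ i, (algebraMap R S' a ^ n₁ • x) i • φ (e i) = 0 := by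
      simp_rw [Pi.smul_apply, smul_assoc]
      rw [← Finset.smul_sum]
      exact hn₁
    obtain ⟨N₁, z, hz⟩ := Flat2C.FreeAway.exists_relation_baseChange φ hφ e he A (algebraMap R S f)
      hA' _ h2
    have h3 := Flat2C.MinorsAux.mul_det_mul_mulVec (A.map (algebraMap S S'))
      (algebraMap R S' f ^ N₀) (by
        intro ρ γ
        have h4 := congrArg (algebraMap S S') (hN₀ ρ γ)
        rw [map_zero, Algebra.smul_def, map_mul, ← IsScalarTower.algebraMap_apply, map_pow,
          RingHom.map_det] at h4
        exact h4) z α β (by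
        intro s
        rw [← hz]
        simp [hx]) i
    refine ⟨1, ?_⟩
    have h5 : ((A.map (algebraMap S S')).submatrix α β).det = algebraMap R S' y * G' (α, β) := by
      rw [← hG'', RingHom.map_det]
      rfl
    rw [← hz, h5, Pi.smul_apply, Pi.smul_apply, ← IsScalarTower.algebraMap_apply, smul_eq_mul,
      smul_eq_mul] at h3
    have h6 : algebraMap R S' f ^ N₀ * (algebraMap R S' y * (algebraMap R S' f ^ N₁ *
        (algebraMap R S' a ^ n₁ * (G' (α, β) ^ 1 * x i)))) = 0 := by
      rw [← h3]
      ring
    exact hpow _ hrega n₁ _ (hpow _ hregf N₁ _ (hreg _ (hpow _ hregf N₀ _ h6)))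
  · rintro ⟨n, hn⟩
    apply hαβ
    apply hprime.mem_of_pow_mem n
    rw [hn]
    exact zero_mem _

open TensorProduct in
/-- Stacks Tag 0810: let R be a ring, f ∈ R, r ≥ 0, S a finitely presented flat R-algebra all of whose fibre rings are geometrically integral, and M a finite S-module such that M_f is finitely presented over S_f and such that for every prime p of R not containing f, with q = pS, the localization M_q is free of rank r over S_q. Then there is a finitely generated ideal I of R with V(I) = V(f) such that for every a ∈ I, writing R' = R[I/a] for the affine blow-up algebra, S' = S ⊗_R R' and M' for the base change of M to S' modulo its a-power torsion (any models of the base change): for every prime p' of R' there is g ∈ S' outside p'S' with M'_g free of rank r over S'_g. -/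
theorem result {R S : Type u} [CommRing R] [CommRing S] [Algebra R S] [Algebra.FinitePresentation R S] [Module.Flat R S]
    (hgi : FlatCA.GeomIntegralFibres R S) (f : R) (r : ℕ)
    (M : Type u) [AddCommGroup M] [Module S M] [Module R M] [IsScalarTower R S M] [Module.Finite S M]
    (hfp : Module.FinitePresentation (Localization.Away (algebraMap R S f)) (LocalizedModule (Submonoid.powers (algebraMap R S f)) M))
    (hfree : ∀ (p : Ideal R) [p.IsPrime] [(p.map (algebraMap R S)).IsPrime], f ∉ p →
      Module.Free (Localization.AtPrime (p.map (algebraMap R S))) (LocalizedModule (p.map (algebraMap R S)).primeCompl M) ∧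
      Module.rank (Localization.AtPrime (p.map (algebraMap R S))) (LocalizedModule (p.map (algebraMap R S)).primeCompl M) = r) :
    ∃ I : Ideal R, I.FG ∧ I.radical = (Ideal.span {f}).radical ∧ ∀ a ∈ I,
      ∀ (S' M' : Type u) [CommRing S'] [Algebra S S'] [Algebra (BlowUp.affineAlgebra R I a) S'] [Algebra R S']
        [IsScalarTower R S S'] [IsScalarTower R (BlowUp.affineAlgebra R I a) S']
        [Algebra.IsPushout R S (BlowUp.affineAlgebra R I a) S']
        [AddCommGroup M'] [Module S' M'] [Module S M'] [IsScalarTower S S' M']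
        (φ : M →ₗ[S] M'), IsBaseChange S' φ →
        ∀ (p' : Ideal (BlowUp.affineAlgebra R I a)) [p'.IsPrime],
          ∃ g : S', g ∉ p'.map (algebraMap (BlowUp.affineAlgebra R I a) S') ∧
            Module.Free (Localization.Away g)
              (LocalizedModule (Submonoid.powers g) (M' ⧸ FlatCA.powTorsion S' (algebraMap R S' a) M')) ∧
            Module.rank (Localization.Away g)
              (LocalizedModule (Submonoid.powers g) (M' ⧸ FlatCA.powTorsion S' (algebraMap R S' a) M')) = r := by
  have hproj : Module.Projective R S :=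
    Flat2B.ProjGeomInt.projective_of_geomIntegralFibres R S hgi
  obtain ⟨I, hI1, hI2, hI3⟩ := key hgi f r M hfp hfree
  refine ⟨I, hI1, hI2, fun a ha S' M' _ _ _ _ _ _ _ _ _ _ _ φ hφ p' _ => ?_⟩
  have hpush : Algebra.IsPushout R (BlowUp.affineAlgebra R I a) S S' :=
    Algebra.IsPushout.symm inferInstance
  exact hI3 a ha (BlowUp.affineAlgebra R I a) S' M' φ hφ
    (Flat2C.AffineAlg.algebraMap_mem_nonZeroDivisors I a)
    (Flat2C.AffineAlg.map_eq_span I a ha) p'

end Groth.Agent.S1287
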