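import Groth.Statements.S1288
import Groth.Agent.Flat2C.DomProper

set_option autoImplicit false
universe u
open FlatMor

namespace Groth.Agent.S1288

open AlgebraicGeometry CategoryTheory Limits in
/-- Stacks Tag 0F3Z: let S be quasi-compact and quasi-separated, g : U → S separated and of finite type, V ⊆ U a quasi-compact open, and j : V → Y a quasi-compact open immersion over S into a scheme Y proper over S. Then there are a blow-up b : Y' → Y in a finite type ideal with support disjoint from j(V), an open V' of Y' containing b⁻¹(j(V)), and a proper morphism h : V' → U which extends V → U: on b⁻¹(j(V)) it is the identification with V followed by the inclusion of V in U. -/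
theorem result {U S Y : Scheme.{u}} [CompactSpace S] [QuasiSeparatedSpace S]
    (g : U ⟶ S) [IsSeparated g] [LocallyOfFiniteType g] [QuasiCompact g]
    (V : U.Opens) (hV : IsCompact (V : Set U)) (j : (V : Scheme.{u}) ⟶ Y) [IsOpenImmersion j] [QuasiCompact j]
    (πY : Y ⟶ S) [IsProper πY] (hj : j ≫ πY = V.ι ≫ g) :
    ∃ (𝓘 : Y.IdealSheafData) (Y' : Scheme.{u}) (b : Y' ⟶ Y), BlowUp.IsBlowUp b 𝓘 ∧ BlowUp.IsAdmissibleFor j.opensRange 𝓘 ∧
      ∃ (V' : Y'.Opens) (hle : b ⁻¹ᵁ j.opensRange ≤ V') (h : (V' : Scheme.{u}) ⟶ U),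
        IsProper h ∧
        ∃ k : ((b ⁻¹ᵁ j.opensRange : Y'.Opens) : Scheme.{u}) ⟶ V,
          k ≫ j = (b ∣_ j.opensRange) ≫ j.opensRange.ι ∧ Y'.homOfLE hle ≫ h = k ≫ V.ι := by
  obtain ⟨𝓘, h1, h2⟩ := Groth.Agent.Flat2C.DomProper.exists_proper_extension g V hV j πY hj
  obtain ⟨Y', b, hb⟩ := Groth.Agent.Flat2C.BlowExist.exists_isBlowUp 𝓘
  exact ⟨𝓘, Y', b, hb, h1, h2 Y' b hb.1 (Groth.Agent.Flat2C.BlowProper.isProper_of_isBlowUp hb h1.1)⟩

end Groth.Agent.S1288
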