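import Groth.Statements.S1289
-- import your own Groth.Agent.* helpers here
import Groth.Agent.Flat2F.EtaleCentre
import Groth.Agent.Flat2F.EtaleStrict
import Groth.Agent.Flat2C.BlowExist

set_option autoImplicit false
universe u
open FlatMor

namespace Groth.Agent.S1289

open Groth.Agent.Flat2F.EtaleCentre Groth.Agent.Flat2F.EtaleStrict Groth.Agent.Flat2C.Glob in

open AlgebraicGeometry CategoryTheory Limits in
/-- Stacks Tag 0814: let S be quasi-compact and quasi-separated, f : X → S a morphism, F a quasi-coherent O_X-module and U ⊆ S a quasi-compact open. Suppose given finitely many commutative diagrams: quasi-compact étale e_i : S_i → S jointly covering S, étale j_i : X_i → X jointly covering X, morphisms f_i : X_i → S_i with j_i ∘ f = f_i ∘ e_i (as maps to S), and blow-ups b_i : S_i* → S_i in finite type ideals supported away from e_i⁻¹(U) such that every strict transform of j_i^*F on X_i ×_{S_i} S_i*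 is flat over S_i*. Then there is a U-admissible blow-up b : S' → S such that every strict transform of F on X ×_S S' is flat over S'. -/
theorem result {X S : Scheme.{u}} [CompactSpace S] [QuasiSeparatedSpace S]
    (f : X ⟶ S) (F : X.Modules) (hqc : Coh.IsQCoh F) (U : S.Opens) (hU : IsCompact (U : Set S))
    {k : ℕ} (Si Xi : Fin k → Scheme.{u}) (e : ∀ i, Si i ⟶ S) (j : ∀ i, Xi i ⟶ X) (fi : ∀ i, Xi i ⟶ Si i)
    [∀ i, Etale (e i)] [∀ i, QuasiCompact (e i)] [∀ i, Etale (j i)]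
    (hcovS : ∀ s : S, ∃ i x, (e i).base x = s) (hcovX : ∀ x : X, ∃ i y, (j i).base y = x)
    (hcomm : ∀ i, j i ≫ f = fi i ≫ e i)
    (𝓘 : ∀ i, (Si i).IdealSheafData) (Sst : Fin k → Scheme.{u}) (b : ∀ i, Sst i ⟶ Si i)
    (hb : ∀ i, BlowUp.IsBlowUp (b i) (𝓘 i) ∧ BlowUp.IsAdmissibleFor ((e i) ⁻¹ᵁ U) (𝓘 i))
    (hflat : ∀ i (X' : Scheme.{u}) (p₁ : X' ⟶ Xi i) (p₂ : X' ⟶ Sst i), IsPullback p₁ p₂ (fi i) (b i) →
      ∀ (G : X'.Modules) (π : (Scheme.Modules.pullback p₁).obj ((Scheme.Modules.pullback (j i)).obj F) ⟶ G),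
        BlowUp.IsStrictTransform p₁ ((𝓘 i).comap (fi i)) ((Scheme.Modules.pullback (j i)).obj F) G π → FlatMod.IsFlatOver p₂ G) :
    ∃ (𝓙 : S.IdealSheafData) (S' : Scheme.{u}) (b' : S' ⟶ S), BlowUp.IsBlowUp b' 𝓙 ∧ BlowUp.IsAdmissibleFor U 𝓙 ∧
      ∀ (X' : Scheme.{u}) (p₁ : X' ⟶ X) (p₂ : X' ⟶ S'), IsPullback p₁ p₂ f b' →
      ∀ (G : X'.Modules) (π : (Scheme.Modules.pullback p₁).obj F ⟶ G),
        BlowUp.IsStrictTransform p₁ (𝓙.comap f) F G π → FlatMod.IsFlatOver p₂ G := by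
  classical
  have hScompact : ∀ i, CompactSpace (Si i) := fun i => QuasiCompact.compactSpace_of_compactSpace (e i)
  choose V K J' htV hKadm hK using fun i => exists_centre U hU (e i) (𝓘 i) (hb i).2.1 (hb i).2.2
  have hfin : ∀ i, ∃ t : Finset (Si i), ∀ s : Si i, ∃ σ ∈ t, s ∈ V i σ := by
    intro i
    obtain ⟨t, ht⟩ := (isCompact_univ : IsCompact (Set.univ : Set (Si i))).elim_finite_subcover
      (fun σ => ((V i σ : (Si i).Opens) : Set (Si i))) (fun σ => (V i σ).2)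
      (fun s _ => Set.mem_iUnion.2 ⟨s, htV i s⟩)
    refine ⟨t, fun s => ?_⟩
    obtain ⟨σ, hσ, hs⟩ := Set.mem_iUnion₂.1 (ht (Set.mem_univ s))
    exact ⟨σ, hσ, hs⟩
  choose t ht using hfin
  let Λ : Finset (Σ i, Si i) := Finset.univ.sigma t
  let 𝓙 : S.IdealSheafData := ∏ l ∈ Λ, K l.1 l.2
  have hJft : BlowUp.IsFiniteTypeIdeal 𝓙 := ft_prod Λ (fun l => K l.1 l.2) (fun l _ => (hKadm l.1 l.2).1)
  obtain ⟨S', b', hb'⟩ := Groth.Agent.Flat2C.BlowExist.exists_isBlowUp 𝓙 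
  refine ⟨𝓙, S', b', hb', ⟨hJft, ?_⟩, ?_⟩
  · have := support_prod_subset Λ (fun l => K l.1 l.2) ((U : Set S)ᶜ) (fun l _ x hx hxU =>
      Set.disjoint_left.mp (hKadm l.1 l.2).2 hx hxU)
    exact Set.disjoint_left.mpr fun x hx hxU => this hx hxU
  · intro X' p₁ p₂ H G π hG x'
    obtain ⟨i, y, hy⟩ := hcovX (p₁ x')
    obtain ⟨σ, hσ, hyσ⟩ := ht i (fi i y)
    have hdvd : K i σ ∣ 𝓙 := Finset.dvd_prod_of_mem (fun l : Σ i, Si i => K l.1 l.2) 
      (a := ⟨i, σ⟩) (Finset.mem_sigma.2 ⟨Finset.mem_univ i, hσ⟩)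
    exact isFlatOverAt_of_etale_local f F 𝓙 hJft b' hb'.1 (e i) (j i) (fi i) (hcomm i) (𝓘 i) (hb i).2.1 (b i)
      (hb i).1 (hflat i) (V i σ) (K i σ) (J' i σ) (hK i σ) hdvd p₁ p₂ H G π hG x' y hyσ hy.symm

end Groth.Agent.S1289
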