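import Groth.Statements.S1291
import Groth.Agent.Flat2C.FittingZero
import Groth.Agent.Flat2C.UnramifiedIdem
import Mathlib.RingTheory.TensorProduct.Finite
import Mathlib.LinearAlgebra.TensorProduct.RightExactness

set_option autoImplicit false
universe u
open FlatMor

namespace Groth.Agent.S1291

open TensorProduct Groth.Agent.Flat2C.UnramifiedIdem Groth.Agent.Flat2C.FittingZero

/-- A quotient of a finite, finitely presented module algebra by a finitely generated ideal is a
finitely presented module. -/
theorem fp_quotient {A C : Type u} [CommRing A] [CommRing C] [Algebra A C] [Module.Finite A C]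
    [Module.FinitePresentation A C] (J : Ideal C) (hJ : J.FG) :
    Module.FinitePresentation A (C ⧸ J) := by
  refine Module.finitePresentation_of_surjective (Ideal.Quotient.mkₐ A J).toLinearMap
    Ideal.Quotient.mk_surjective ?_
  have h1 : LinearMap.ker (Ideal.Quotient.mkₐ A J).toLinearMap = J.restrictScalars A := by
    ext x
    simp [Ideal.Quotient.eq_zero_iff_mem]
  rw [h1]
  have h2 : Module.Finite C J := Module.Finite.of_fg hJ
  have h3 : Module.Finite A J := Module.Finite.trans C J
  exact Module.Finite.iff_fg.mp (show Module.Finite A (J.restrictScalars A) from h3)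

/-- The decomposition of `B ⊗ (C/J)`. -/
theorem exists_equiv {A C B : Type u} [CommRing A] [CommRing C] [CommRing B] [Algebra A C]
    [Algebra A B] [Algebra C B] [IsScalarTower A C B] (J : Ideal C)
    (e : B ⊗[A] C) (he1 : mulMap A C B e = 1)
    (he2 : ∀ x : B ⊗[A] C, x * e = algebraMap B (B ⊗[A] C) (mulMap A C B x) * e) :
    Nonempty ((B ⊗[A] (C ⧸ J)) ≃ₗ[B] (B ⧸ J.map (algebraMap C B)) ×
      ((B ⊗[A] C) ⧸ (J.map (Algebra.TensorProduct.includeRight : C →ₐ[A] B ⊗[A] C) ⊔
        Ideal.span {e}))) := by
  set JE : Ideal (B ⊗[A] C) := J.map (Algebra.TensorProduct.includeRight : C →ₐ[A] B ⊗[A] C) with hJE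
  set J₁ := J.map (algebraMap C B) with hJ₁
  let Φ : B ⊗[A] C →ₗ[B] (B ⧸ J₁) × ((B ⊗[A] C) ⧸ (JE ⊔ Ideal.span {e})) :=
    ((Ideal.Quotient.mkₐ B J₁).toLinearMap ∘ₗ (mulMap A C B).toLinearMap).prod
      (Ideal.Quotient.mkₐ B (JE ⊔ Ideal.span {e})).toLinearMap
  have hμJ : ∀ x ∈ JE, mulMap A C B x ∈ J₁ := by
    intro x hx
    have : JE ≤ J₁.comap (mulMap A C B) := by
      rw [hJE, Ideal.map_le_iff_le_comap]
      intro j hj
      rw [Ideal.mem_comap, Ideal.mem_comap, Algebra.TensorProduct.includeRight_apply, mulMap_tmul,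
        one_mul]
      exact Ideal.mem_map_of_mem _ hj
    exact this hx
  have hJ₁e : ∀ b ∈ J₁, algebraMap B (B ⊗[A] C) b * e ∈ JE := by
    intro b hb
    induction hb using Submodule.span_induction with
    | mem b hb =>
      obtain ⟨j, hj, rfl⟩ := hb
      have := he2 (1 ⊗ₜ j)
      rw [mulMap_tmul, one_mul] at this
      rw [← this]
      exact Ideal.mul_mem_right _ _ (Ideal.mem_map_of_mem
        (Algebra.TensorProduct.includeRight : C →ₐ[A] B ⊗[A] C) hj)
    | zero => rw [map_zero, zero_mul]; exact JE.zero_mem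
    | add x y _ _ hx hy => rw [map_add, add_mul]; exact JE.add_mem hx hy
    | smul c x _ hx => rw [smul_eq_mul, map_mul, mul_assoc]; exact JE.mul_mem_left _ hx
  have hΦker : LinearMap.ker Φ = JE.restrictScalars B := by
    ext x
    have h1 : x ∈ LinearMap.ker Φ ↔ mulMap A C B x ∈ J₁ ∧ x ∈ JE ⊔ Ideal.span {e} := by
      rw [LinearMap.mem_ker, ← Ideal.Quotient.eq_zero_iff_mem, ← Ideal.Quotient.eq_zero_iff_mem]
      exact Prod.ext_iff
    rw [h1, Submodule.restrictScalars_mem]
    constructor
    · rintro ⟨h2, h3⟩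
      obtain ⟨j, hj, y, hy, rfl⟩ := Submodule.mem_sup.mp h3
      obtain ⟨z, rfl⟩ := Ideal.mem_span_singleton'.mp hy
      refine JE.add_mem hj ?_
      rw [he2]
      refine hJ₁e _ ?_
      rw [map_add, map_mul, he1, mul_one] at h2
      exact (Ideal.add_mem_iff_right _ (hμJ j hj)).mp h2
    · intro hx
      exact ⟨hμJ x hx, Ideal.mem_sup_left hx⟩
  have hΦsurj : Function.Surjective Φ := by
    rintro ⟨b, n⟩
    obtain ⟨b, rfl⟩ := Ideal.Quotient.mk_surjective b
    obtain ⟨x, rfl⟩ := Ideal.Quotient.mk_surjective n
    refine ⟨x * (1 - e) + algebraMap B _ b * e, Prod.ext ?_ ?_⟩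
    · change Ideal.Quotient.mk J₁ (mulMap A C B _) = _
      congr 1
      rw [map_add, map_mul, map_sub, map_one, he1, sub_self, mul_zero, zero_add, map_mul, he1,
        mul_one, AlgHom.commutes, Algebra.algebraMap_self, RingHom.id_apply]
    · change Ideal.Quotient.mk _ _ = Ideal.Quotient.mk _ _
      rw [Ideal.Quotient.eq]
      refine Ideal.mem_sup_right (Ideal.mem_span_singleton'.mpr ⟨algebraMap B _ b - x, ?_⟩)
      ring
  let g : B ⊗[A] C →ₐ[B] B ⊗[A] (C ⧸ J) :=
    Algebra.TensorProduct.map (AlgHom.id B B) (Ideal.Quotient.mkₐ A J)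
  have hgs : Function.Surjective g :=
    Algebra.TensorProduct.map_surjective (S := B) _ _ Function.surjective_id
      Ideal.Quotient.mk_surjective
  have hgker : LinearMap.ker g.toLinearMap = JE.restrictScalars B := by
    have := Algebra.TensorProduct.lTensor_ker (A := B) (Ideal.Quotient.mkₐ A J)
      Ideal.Quotient.mk_surjective
    have h4 : RingHom.ker (Ideal.Quotient.mkₐ A J) = J := Ideal.mk_ker
    rw [h4] at this
    ext x
    rw [Submodule.restrictScalars_mem, hJE, ← this]
    rfl
  exact ⟨(g.toLinearMap.quotKerEquivOfSurjective hgs).symm ≪≫ₗ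
    Submodule.quotEquivOfEq _ _ (hgker.trans hΦker.symm) ≪≫ₗ
    Φ.quotKerEquivOfSurjective hΦsurj⟩

/-- Stacks Tag 0812: let A → C be finite locally free of rank d (C a finite projective A-module of constant rank d), h ∈ C such that C_h is étale over A, and J an ideal of C. Let I be the zeroth Fitting ideal of C/J regarded as a finite A-module. Then the extension of I to C_h equals J·J' for some ideal J' of C_h (J extended to C_h); and if J is finitely generated then so are I and J'. -/
theorem result {A C : Type u} [CommRing A] [CommRing C] [Algebra A C] [Module.Finite A C] [Module.Projective A C]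
    (d : ℕ) (hd : ∀ p : PrimeSpectrum A, Module.rankAtStalk (R := A) C p = d)
    (h : C) [Algebra.Etale A (Localization.Away h)] (J : Ideal C) :
    ∃ J' : Ideal (Localization.Away h),
      (FlatCA.fittingZero A (C ⧸ J)).map (algebraMap A (Localization.Away h)) = J.map (algebraMap C (Localization.Away h)) * J' ∧
      (J.FG → (FlatCA.fittingZero A (C ⧸ J)).FG ∧ J'.FG) := by
  obtain ⟨e, he1, he2⟩ := exists_elem (A := A) (C := C) h (Localization.Away h)
  obtain ⟨E⟩ := exists_equiv J e he1 he2
  let N := ((Localization.Away h ⊗[A] C) ⧸ (J.map (Algebra.TensorProduct.includeRight :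
    C →ₐ[A] Localization.Away h ⊗[A] C) ⊔ Ideal.span {e}))
  have hfinC : Module.FinitePresentation A C := Module.finitePresentation_of_projective A C
  have hfin : Module.Finite A (C ⧸ J) := inferInstance
  have hfinN : Module.Finite (Localization.Away h) N := inferInstance
  refine ⟨FlatCA.fittingZero (Localization.Away h) N, ?_, fun hJ => ⟨?_, ?_⟩⟩
  · rw [← fittingZero_baseChange, fittingZero_congr E, fittingZero_quotient_prod]
  · have := fp_quotient (A := A) J hJ
    exact fittingZero_fg
  · have hfp : Module.FinitePresentation (Localization.Away h) (Localization.Away h ⊗[A] C) :=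
      inferInstance
    have : Module.FinitePresentation (Localization.Away h) N := by
      refine fp_quotient _ (Submodule.FG.sup (Ideal.FG.map hJ _) ⟨{e}, by simp⟩)
    exact fittingZero_fg

end Groth.Agent.S1291

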