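import Groth.Statements.S1292
import Groth.Agent.S1235
import Groth.Agent.Flat2C.TorAmpRestr
-- import your own Groth.Agent.* helpers here

set_option autoImplicit false
universe u
open CategoryTheory
attribute [local instance] HasDerivedCategory.standard
open FlatMor

namespace Groth.Agent.S1292

open IsLocalRing in
/-- Stacks Tag 0DK0 (ring form, S = Spec A; equivalences (1)⇔(2)⇔(3) for an object over the strict henselization and (4)⇔(5) for an object over the henselization; tor amplitude in the flat-representative form): let p be a prime of A, Ah a henselization and Ash a strict henselization of A_p with Ash an Ah-algebra compatibly, and a ≤ b integers. For K in D(Ash): K, with scalars restricted to A_p, is represented by a complex of flat modules in degrees [a, b] if and only if the same holds with scalars restricted to Ah, if and only if K itself is so represented over Ash. For L in D(Ah): L restricted to A_p has this property if and only if L has it over Ah. -/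
theorem result {A : Type u} [CommRing A] (p : Ideal A) [p.IsPrime]
    (Ah Ash : Type u) [CommRing Ah] [IsLocalRing Ah] [CommRing Ash] [IsLocalRing Ash]
    [Algebra (Localization.AtPrime p) Ah] [IsLocalHom (algebraMap (Localization.AtPrime p) Ah)] [Hensel.IsHenselization (Localization.AtPrime p) Ah]
    [Algebra (Localization.AtPrime p) Ash] [IsLocalHom (algebraMap (Localization.AtPrime p) Ash)] [Hensel.IsStrictHenselization (Localization.AtPrime p) Ash]
    [Algebra Ah Ash] [IsScalarTower (Localization.AtPrime p) Ah Ash]
    (a b : ℤ) (K : Dual.D Ash) (L : Dual.D Ah) :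
    [DRing.HasTorAmplitudeIn (Localization.AtPrime p) a b ((DRing.restrictD (algebraMap (Localization.AtPrime p) Ash)).obj K),
     DRing.HasTorAmplitudeIn Ah a b ((DRing.restrictD (algebraMap Ah Ash)).obj K),
     DRing.HasTorAmplitudeIn Ash a b K].TFAE ∧
    (DRing.HasTorAmplitudeIn (Localization.AtPrime p) a b ((DRing.restrictD (algebraMap (Localization.AtPrime p) Ah)).obj L) ↔
      DRing.HasTorAmplitudeIn Ah a b L) := by
  have key : ∀ (M : Type u) [AddCommGroup M] [Module Ash M] [Module Ah M] [Module (Localization.AtPrime p) M]
      [IsScalarTower Ah Ash M] [IsScalarTower (Localization.AtPrime p) Ash M]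
      [IsScalarTower (Localization.AtPrime p) Ah M],
      (Module.Flat (Localization.AtPrime p) M ↔ Module.Flat Ash M) ∧ (Module.Flat Ah M ↔ Module.Flat Ash M) := by
    intro M _ _ _ _ _ _ _
    have h := (S1235.result p Ah Ash M M).1
    exact ⟨h.out 0 2, h.out 1 2⟩
  -- the ring map `A_p → Ash`
  have k1 : ∀ M : ModuleCat.{u} Ash, Module.Flat (Localization.AtPrime p)
      ((ModuleCat.restrictScalars (algebraMap (Localization.AtPrime p) Ash)).obj M) ↔ Module.Flat Ash M := by
    intro M
    let _ : Module Ah M := Module.compHom M (algebraMap Ah Ash)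
    let _ : Module (Localization.AtPrime p) M := Module.compHom M (algebraMap (Localization.AtPrime p) Ash)
    have : IsScalarTower Ah Ash M := ⟨fun x y z => by
      rw [Algebra.smul_def, mul_smul]; rfl⟩
    have : IsScalarTower (Localization.AtPrime p) Ash M := ⟨fun x y z => by
      rw [Algebra.smul_def, mul_smul]; rfl⟩
    have : IsScalarTower (Localization.AtPrime p) Ah M := ⟨fun x y z => by
      rw [Algebra.smul_def]
      change (algebraMap Ah Ash (algebraMap _ Ah x * y)) • z = (algebraMap (Localization.AtPrime p) Ash x) • (algebraMap Ah Ash y) • z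
      rw [map_mul, mul_smul, ← IsScalarTower.algebraMap_apply]⟩
    exact (key M).1
  have k2 : ∀ M : ModuleCat.{u} Ash, Module.Flat Ah
      ((ModuleCat.restrictScalars (algebraMap Ah Ash)).obj M) ↔ Module.Flat Ash M := by
    intro M
    let _ : Module Ah M := Module.compHom M (algebraMap Ah Ash)
    let _ : Module (Localization.AtPrime p) M := Module.compHom M (algebraMap (Localization.AtPrime p) Ash)
    have : IsScalarTower Ah Ash M := ⟨fun x y z => by
      rw [Algebra.smul_def, mul_smul]; rfl⟩
    have : IsScalarTower (Localization.AtPrime p) Ash M := ⟨fun x y z => by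
      rw [Algebra.smul_def, mul_smul]; rfl⟩
    have : IsScalarTower (Localization.AtPrime p) Ah M := ⟨fun x y z => by
      rw [Algebra.smul_def]
      change (algebraMap Ah Ash (algebraMap _ Ah x * y)) • z = (algebraMap (Localization.AtPrime p) Ash x) • (algebraMap Ah Ash y) • z
      rw [map_mul, mul_smul, ← IsScalarTower.algebraMap_apply]⟩
    exact (key M).2
  have k3 : ∀ M : ModuleCat.{u} Ah, Module.Flat (Localization.AtPrime p)
      ((ModuleCat.restrictScalars (algebraMap (Localization.AtPrime p) Ah)).obj M) ↔ Module.Flat Ah M := by
    intro M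
    let _ : Module (Localization.AtPrime p) M := Module.compHom M (algebraMap (Localization.AtPrime p) Ah)
    have : IsScalarTower (Localization.AtPrime p) Ah M := ⟨fun x y z => by
      rw [Algebra.smul_def, mul_smul]; rfl⟩
    exact (S1235.result p Ah Ash PUnit M).2
  constructor
  · tfae_have 3 → 1 := Flat2C.TorAmpRestr.hasTorAmplitudeIn_restrict _ (fun M => (k1 M).2) a b K
    tfae_have 1 → 3 := Flat2C.TorAmpRestr.hasTorAmplitudeIn_of_restrict _ (fun M => (k1 M).2) (fun M => (k1 M).1) a b K
    tfae_have 3 → 2 := Flat2C.TorAmpRestr.hasTorAmplitudeIn_restrict _ (fun M => (k2 M).2) a b K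
    tfae_have 2 → 3 := Flat2C.TorAmpRestr.hasTorAmplitudeIn_of_restrict _ (fun M => (k2 M).2) (fun M => (k2 M).1) a b K
    tfae_finish
  · exact ⟨Flat2C.TorAmpRestr.hasTorAmplitudeIn_of_restrict _ (fun M => (k3 M).2) (fun M => (k3 M).1) a b L,
      Flat2C.TorAmpRestr.hasTorAmplitudeIn_restrict _ (fun M => (k3 M).2) a b L⟩

end Groth.Agent.S1292
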