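import Groth.Statements.S1295
import Groth.Agent.Fdesc.PureDescend
import Groth.Agent.Fdesc.PureModel
import Groth.Agent.Fdesc.DirColimLift

set_option autoImplicit false
universe u
open FlatMor

namespace Groth.Agent.S1295

section

/-- the model over a finitely generated `ℤ`-algebra, flat along the fibre -/
theorem exists_model_flat_fibre {A B N : Type u} [CommRing A] [CommRing B] [Algebra A B]
    [Algebra.FinitePresentation A B] [AddCommGroup N] [Module B N] [Module A N] [IsScalarTower A B N]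
    [Module.FinitePresentation B N] (p : Ideal A) [p.IsPrime]
    (hflat : ∀ (q : Ideal B) [q.IsPrime], q.LiesOver p → FlatCA.FlatAt A q N) :
    ∃ (A₁ B₁ N₁ : Type u) (_ : CommRing A₁) (_ : Algebra A₁ A) (_ : CommRing B₁) (_ : Algebra A₁ B₁) (_ : Algebra B₁ B)
      (_ : Algebra A₁ B) (_ : IsScalarTower A₁ A B) (_ : IsScalarTower A₁ B₁ B) (_ : AddCommGroup N₁)
      (_ : Module B₁ N₁) (_ : Module A₁ N₁) (_ : IsScalarTower A₁ B₁ N₁) (_ : Module B₁ N) (_ : IsScalarTower B₁ B N)
      (g : N₁ →ₗ[B₁] N), Algebra.FiniteType ℤ A₁ ∧ Algebra.IsPushout A₁ A B₁ B ∧ Algebra.FiniteType A₁ B₁ ∧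
      Module.Finite B₁ N₁ ∧ IsBaseChange B g ∧
      ∀ (q : Ideal B₁) [q.IsPrime], q.LiesOver (p.comap (algebraMap A₁ A)) → FlatCA.FlatAt A₁ q N₁ := by
  obtain ⟨A₀, B₀, N₀, _, _, _, _, _, _, _, _, _, _, g₀, h1, -, h2, h3, -, h4, h5⟩ :=
    FlatA.Model.exists_model (R := A) (S := B) (M := N) ∅ ∅
  have : Algebra.FiniteType ℤ A₀ := A₀.fg_iff_finiteType.mp h1
  have : IsNoetherianRing A₀ := Algebra.FiniteType.isNoetherianRing ℤ A₀
  obtain ⟨A', hA', H⟩ := Fdesc.PureModel.exists_fg_flat_fibre (A₀ := A₀) g₀ h5 p hflat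
  have : Algebra.FiniteType A₀ A' := A'.fg_iff_finiteType.mp hA'
  obtain ⟨B₁, N₁, _, _, _, _, _, _, _, _, _, _, _, _, _, _, _, _, g₁, hg₁, h6, h7⟩ :=
    Fdesc.PureModel.exists_level (A₀ := A₀) (B₀ := B₀) (N₀ := N₀) (A := A) (B := B) A'
  have _ : IsScalarTower A₀ B₁ B := IsScalarTower.of_algebraMap_eq fun x ↦ by
    have h1 := IsScalarTower.algebraMap_apply A₀ B₀ B x
    have h2 := IsScalarTower.algebraMap_apply B₀ B₁ B (algebraMap A₀ B₀ x)
    have h3 := IsScalarTower.algebraMap_apply A₀ B₀ B₁ x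
    rw [h1, h2, ← h3]
  have po : Algebra.IsPushout A' A B₁ B := by
    rw [← Algebra.IsPushout.comp_iff A₀ A' B₀ B₁]
    infer_instance
  let _ : Module B₁ N := Module.compHom N (algebraMap B₁ B)
  have _ : IsScalarTower B₁ B N := IsScalarTower.of_algebraMap_smul fun _ _ ↦ rfl
  have _ : IsScalarTower B₀ B₁ N := IsScalarTower.of_algebraMap_smul fun r x ↦ by
    change algebraMap B₁ B (algebraMap B₀ B₁ r) • x = _
    rw [← IsScalarTower.algebraMap_apply B₀ B₁ B, algebraMap_smul]
  let g : N₁ →ₗ[B₁] N := hg₁.lift g₀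
  have hg : IsBaseChange B g := by
    apply IsBaseChange.of_comp hg₁
    rw [hg₁.lift_comp]
    exact h5
  exact ⟨A', B₁, N₁, inferInstance, inferInstance, inferInstance, inferInstance, inferInstance, inferInstance,
    inferInstance, inferInstance, inferInstance, inferInstance, inferInstance, inferInstance, inferInstance,
    inferInstance, g, Algebra.FiniteType.trans (R := ℤ) (S := A₀) (A := A') inferInstance inferInstance, po, inferInstance, inferInstance, hg,
    fun q _ hq => H B₁ N₁ g₁ hg₁ q hq⟩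

end

/-- Stacks Tag 05MA (ring form, X = Spec B and the S_i = Spec A_i affine): let A be the colimit of a directed system of rings (A_i), p a prime of A with contractions p_i, B a finitely presented A-algebra and N a finitely presented B-module which is pure along the fibre over p and flat over A at every prime of B over p. Then for some index i there are a finitely presented A_i-algebra B_i with B ≅ B_i ⊗_{A_i} A and a finitely presented B_i-module N_i with N ≅ N_i ⊗_{B_i} B, such that N_i is pure along the fibre over p_i and flat over A_i at every prime of B_i over p_i. -/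
theorem result {ι : Type u} [Preorder ι] (G : ι → Type u) [∀ i, CommRing (G i)]
    (g : ∀ i j, i ≤ j → G i →+* G j) {A : Type u} [CommRing A] [∀ i, Algebra (G i) A] (hcolim : FlatCA.IsDirectedColimitRing G g A)
    {B : Type u} [CommRing B] [Algebra A B] [Algebra.FinitePresentation A B]
    (N : Type u) [AddCommGroup N] [Module B N] [Module A N] [IsScalarTower A B N] [Module.FinitePresentation B N]
    (p : Ideal A) [p.IsPrime] (hpure : FlatCA.IsPureAlong A B N p)
    (hflat : ∀ (q : Ideal B) [q.IsPrime], q.LiesOver p → FlatCA.FlatAt A q N) :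
    ∃ (i : ι) (Bi Ni : Type u) (_ : CommRing Bi) (_ : Algebra (G i) Bi) (_ : Algebra Bi B) (_ : Algebra (G i) B)
      (_ : IsScalarTower (G i) A B) (_ : IsScalarTower (G i) Bi B)
      (_ : AddCommGroup Ni) (_ : Module Bi Ni) (_ : Module (G i) Ni) (_ : IsScalarTower (G i) Bi Ni)
      (_ : Module Bi N) (_ : IsScalarTower Bi B N) (f : Ni →ₗ[Bi] N),
      Algebra.FinitePresentation (G i) Bi ∧ Algebra.IsPushout (G i) Bi A B ∧ Module.FinitePresentation Bi Ni ∧ IsBaseChange B f ∧
      FlatCA.IsPureAlong (G i) Bi Ni (p.comap (algebraMap (G i) A)) ∧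
      ∀ (q : Ideal Bi) [q.IsPrime], q.LiesOver (p.comap (algebraMap (G i) A)) → FlatCA.FlatAt (G i) q Ni := by
  obtain ⟨A₁, B₁, N₁, _, _, _, _, _, _, _, _, _, _, _, _, _, _, f₁, h1, h2, h3, h4, hf₁, h5⟩ :=
    exists_model_flat_fibre (A := A) (B := B) (N := N) p hflat
  have n1 : IsNoetherianRing A₁ := Algebra.FiniteType.isNoetherianRing ℤ A₁
  have fp1 : Algebra.FinitePresentation A₁ B₁ := (Algebra.FinitePresentation.of_finiteType).mp inferInstance
  have n2 : IsNoetherianRing B₁ := Algebra.FiniteType.isNoetherianRing A₁ B₁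
  have fp2 : Module.FinitePresentation B₁ N₁ := Module.finitePresentation_of_finite B₁ N₁
  have hno : Fdesc.PureDescend.NoImp A₁ B₁ N₁ A p :=
    (Fdesc.PureDescend.isPureAlong_iff_noImp h2.symm f₁ hf₁ p).mp hpure
  obtain ⟨A₂, hA₂, H⟩ := Fdesc.PureDescend.exists_fg_noImp p h5 hno
  have ft1 : Algebra.FiniteType A₁ A₂ := A₂.fg_iff_finiteType.mp hA₂
  have ft2 : Algebra.FiniteType ℤ A₂ := Algebra.FiniteType.trans (R := ℤ) (S := A₁) (A := A₂) inferInstance inferInstance
  obtain ⟨j, w, hw⟩ := Fdesc.DirColimLift.exists_lift G g hcolim (R := A₂) A₂.val.toRingHom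
  let i1 : Algebra A₁ (G j) := (w.comp (algebraMap A₁ A₂)).toAlgebra
  have s1 : IsScalarTower A₁ (G j) A := IsScalarTower.of_algebraMap_eq fun x => by
    have h6 := RingHom.congr_fun hw (algebraMap A₁ A₂ x)
    exact h6.symm
  let u : A₂ →ₐ[A₁] G j := { w with commutes' := fun r => rfl }
  let v : G j →ₐ[A₁] A := IsScalarTower.toAlgHom A₁ (G j) A
  have huv : v.comp u = A₂.val := AlgHom.ext fun x => RingHom.congr_fun hw x
  have hnoC := H (G j) u v huv
  -- the structures
  let Bj := TensorProduct A₁ (G j) B₁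
  let a1 : Algebra B₁ Bj := Algebra.TensorProduct.rightAlgebra
  let Nj := TensorProduct B₁ Bj N₁
  let a2 : Algebra (G j) B := ((algebraMap A B).comp (algebraMap (G j) A)).toAlgebra
  have s2 : IsScalarTower (G j) A B := IsScalarTower.of_algebraMap_eq fun x => rfl
  have s3 : IsScalarTower A₁ (G j) B := IsScalarTower.of_algebraMap_eq fun x => by
    rw [IsScalarTower.algebraMap_apply (G j) A B, ← IsScalarTower.algebraMap_apply A₁ (G j) A,
      ← IsScalarTower.algebraMap_apply A₁ A B]
  let φ : Bj →ₐ[A₁] B := Algebra.TensorProduct.lift (IsScalarTower.toAlgHom A₁ (G j) B)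
    (IsScalarTower.toAlgHom A₁ B₁ B) (fun _ _ => Commute.all _ _)
  let a3 : Algebra Bj B := φ.toRingHom.toAlgebra
  have s4 : IsScalarTower (G j) Bj B := IsScalarTower.of_algebraMap_eq fun x => by
    change _ = φ (TensorProduct.tmul A₁ x 1)
    rw [Algebra.TensorProduct.lift_tmul, map_one, mul_one]
    rfl
  have s5 : IsScalarTower B₁ Bj B := IsScalarTower.of_algebraMap_eq fun x => by
    change _ = φ (TensorProduct.tmul A₁ 1 x)
    rw [Algebra.TensorProduct.lift_tmul, map_one, one_mul]
    rfl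
  have s6 : IsScalarTower A₁ Bj B := IsScalarTower.of_algebraMap_eq fun x => (φ.commutes x).symm
  let m1 : Module Bj N := Module.compHom N (algebraMap Bj B)
  have s7 : IsScalarTower Bj B N := IsScalarTower.of_algebraMap_smul fun _ _ ↦ rfl
  have s8 : IsScalarTower B₁ Bj N := IsScalarTower.of_algebraMap_smul fun r x ↦ by
    change algebraMap Bj B (algebraMap B₁ Bj r) • x = _
    rw [← IsScalarTower.algebraMap_apply B₁ Bj B, algebraMap_smul]
  have po1 : Algebra.IsPushout A₁ B₁ (G j) Bj := inferInstance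
  have po2 : Algebra.IsPushout A₁ (G j) B₁ Bj := po1.symm
  have po3 : Algebra.IsPushout (G j) A Bj B := by
    rw [← Algebra.IsPushout.comp_iff A₁ (G j) B₁ Bj]
    exact h2
  have hb : IsBaseChange Bj (TensorProduct.mk B₁ Bj N₁ 1) := TensorProduct.isBaseChange B₁ N₁ Bj
  let f : Nj →ₗ[Bj] N := hb.lift f₁
  have hf : IsBaseChange B f := by
    apply IsBaseChange.of_comp hb
    rw [hb.lift_comp]
    exact hf₁
  refine ⟨j, Bj, Nj, inferInstance, inferInstance, a3, a2, s2, s4, inferInstance, inferInstance, inferInstance,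
    inferInstance, m1, s7, f, inferInstance, po3.symm, inferInstance, hf, ?_, ?_⟩
  · rw [Fdesc.PureDescend.isPureAlong_iff_noImp po1 (TensorProduct.mk B₁ Bj N₁ 1) hb]
    exact hnoC
  · intro q _ hq
    refine FlatA.FlatModel.flat_localizedModule_of_isPushout (R₀ := A₁) (S₀ := B₁) (TensorProduct.mk B₁ Bj N₁ 1) hb q
      (q.under B₁) rfl (h5 (q.under B₁) ⟨?_⟩)
    have h7 : (p.comap (algebraMap (G j) A)).comap (algebraMap A₁ (G j)) = p.comap (algebraMap A₁ A) := by
      rw [Ideal.comap_comap, ← IsScalarTower.algebraMap_eq]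
    rw [← h7, hq.over]
    change Ideal.comap _ (Ideal.comap _ _) = Ideal.comap _ (Ideal.comap _ _)
    rw [Ideal.comap_comap, Ideal.comap_comap, ← IsScalarTower.algebraMap_eq, ← IsScalarTower.algebraMap_eq]

end Groth.Agent.S1295
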