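import Groth.Statements.S1296
import Groth.Agent.Flat2C.ImpurityDescent

set_option autoImplicit false
universe u
open FlatMor

namespace Groth.Agent.S1296

open TensorProduct

section

variable {A B A' B' : Type u} [CommRing A] [CommRing B] [Algebra A B] [CommRing A'] [CommRing B'] [Algebra A A']
  [Algebra B B'] [Algebra A' B'] [Algebra A B'] [IsScalarTower A B B'] [IsScalarTower A A' B']

/-- the canonical map from `A₁ ⊗ B` -/
noncomputable def toB' (A₁ : Type u) [CommRing A₁] [Algebra A A₁] [Algebra A₁ A'] [IsScalarTower A A₁ A'] :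
    A₁ ⊗[A] B →ₐ[A] B' :=
  Algebra.TensorProduct.lift ((IsScalarTower.toAlgHom A A' B').comp (IsScalarTower.toAlgHom A A₁ A'))
    (IsScalarTower.toAlgHom A B B') (fun _ _ => mul_comm _ _)

theorem toB'_tmul (A₁ : Type u) [CommRing A₁] [Algebra A A₁] [Algebra A₁ A'] [IsScalarTower A A₁ A'] (a : A₁) (b : B) :
    toB' (B := B) (B' := B') (A' := A') A₁ (a ⊗ₜ[A] b) = algebraMap A' B' (algebraMap A₁ A' a) * algebraMap B B' b := by
  exact Algebra.TensorProduct.lift_tmul _ _ _ _ _

end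

/-- Stacks Tag 05IZ (ring form, X = Spec B affine, T = Spec A' with A' the colimit of a directed system of A-algebras A'_i): let B be a finite type A-algebra, N a finite B-module, p a prime of A, and suppose given an impurity of N above p with base change ring A' and points t' ⊆ t. Then for some index i there is an impurity of N above p whose base change ring is A'_i (up to an A-isomorphism) and whose point t corresponds to the contraction of t to A'_i. -/
theorem result {A B : Type u} [CommRing A] [CommRing B] [Algebra A B] [Algebra.FiniteType A B]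
    (N : Type u) [AddCommGroup N] [Module B N] [Module.Finite B N] (p : Ideal A) [p.IsPrime]
    {ι : Type u} [Preorder ι] (G : ι → Type u) [∀ i, CommRing (G i)] [∀ i, Algebra A (G i)]
    (g : ∀ i j, i ≤ j → G i →ₐ[A] G j)
    (A' : Type u) [CommRing A'] [Algebra A A'] [∀ i, Algebra (G i) A'] [∀ i, IsScalarTower A (G i) A']
    (hcolim : FlatCA.IsDirectedColimitRing G (fun i j h => (g i j h).toRingHom) A')
    (B' N' : Type u) [CommRing B'] [Algebra B B'] [Algebra A' B'] [Algebra A B'] [IsScalarTower A B B'] [IsScalarTower A A' B']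
    [AddCommGroup N'] [Module B' N'] [Module B N'] [IsScalarTower B B' N'] [Module A' N'] [IsScalarTower A' B' N']
    (f : N →ₗ[B] N') (t' t : Ideal A') [t'.IsPrime] [t.IsPrime] (P : Ideal B') [P.IsPrime]
    (himp : FlatCA.IsImpurity A B N p A' B' N' f t' t P) :
    ∃ i : ι, FlatCA.HasImpurity A B N p (fun A'' _ _ t'' => ∃ e : A'' ≃ₐ[A] G i, t''.map e = t.comap (algebraMap (G i) A')) := by
  classical
  obtain ⟨hdir, hne, hid, hcomp, hcompat, hsurj, hzero⟩ := hcolim
  have himp' := himp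
  obtain ⟨hpo, hf, htt, htp, hPt, hass, hcl⟩ := himp'
  -- eventually in the image
  have hA : ∀ a : A', ∃ i, ∀ j, i ≤ j → ∃ x : G j, algebraMap (G j) A' x = a := by
    intro a
    obtain ⟨i, x, hx⟩ := hsurj a
    refine ⟨i, fun j hij => ⟨g i j hij x, ?_⟩⟩
    have := RingHom.congr_fun (hcompat i j hij) x
    rw [← hx, ← this]
    rfl
  have hor : ∀ (P₁ P₂ : ι → Prop), (∃ i, ∀ j, i ≤ j → P₁ j) → (∃ i, ∀ j, i ≤ j → P₂ j) →
      ∃ i, ∀ j, i ≤ j → P₁ j ∧ P₂ j := by
    rintro P₁ P₂ ⟨i, hi⟩ ⟨j, hj⟩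
    obtain ⟨k, hik, hjk⟩ := hdir.directed i j
    exact ⟨k, fun l hkl => ⟨hi l (hik.trans hkl), hj l (hjk.trans hkl)⟩⟩
  have hB : ∀ b : B', ∃ i, ∀ j, i ≤ j → ∃ x : G j ⊗[A] B, toB' (B' := B') (A' := A') (G j) x = b := by
    intro b
    obtain ⟨y, rfl⟩ := (Algebra.IsPushout.equiv A A' B B' (h := hpo.symm)).surjective b
    induction y with
    | zero => 
      obtain ⟨i⟩ := hne
      exact ⟨i, fun j _ => ⟨0, by simp⟩⟩
    | tmul a b =>
      obtain ⟨i, hi⟩ := hA a
      refine ⟨i, fun j hij => ?_⟩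
      obtain ⟨x, hx⟩ := hi j hij
      refine ⟨x ⊗ₜ b, ?_⟩
      rw [toB'_tmul, hx, Algebra.IsPushout.equiv_tmul]
    | add x y hx hy =>
      obtain ⟨i, hi⟩ := hor _ _ hx hy
      refine ⟨i, fun j hij => ?_⟩
      obtain ⟨⟨x', hx'⟩, ⟨y', hy'⟩⟩ := hi j hij
      exact ⟨x' + y', by rw [map_add, map_add, hx', hy']⟩
  have hI : ∀ y ∈ t.map (algebraMap A' B'), ∃ i, ∀ j, i ≤ j → ∃ x ∈ (t.comap (algebraMap (G j) A')).map
      (algebraMap (G j) (G j ⊗[A] B)), toB' (B' := B') (A' := A') (G j) x = y := by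
    intro y hy
    induction hy using Submodule.span_induction with
    | mem x hx =>
      obtain ⟨a, ha, rfl⟩ := hx
      obtain ⟨i, hi⟩ := hA a
      refine ⟨i, fun j hij => ?_⟩
      obtain ⟨x, hx⟩ := hi j hij
      refine ⟨algebraMap _ _ x, Ideal.mem_map_of_mem _ (by simpa [hx] using ha), ?_⟩
      rw [Algebra.TensorProduct.algebraMap_apply, toB'_tmul]
      simp [hx]
    | zero =>
      obtain ⟨i⟩ := hne
      exact ⟨i, fun j _ => ⟨0, zero_mem _, by simp⟩⟩
    | add x y _ _ hx hy =>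
      obtain ⟨i, hi⟩ := hor _ _ hx hy
      refine ⟨i, fun j hij => ?_⟩
      obtain ⟨⟨x', hx', hx''⟩, ⟨y', hy', hy''⟩⟩ := hi j hij
      exact ⟨x' + y', add_mem hx' hy', by rw [map_add, hx'', hy'']⟩
    | smul b x _ hx =>
      obtain ⟨i, hi⟩ := hor _ _ (hB b) hx
      refine ⟨i, fun j hij => ?_⟩
      obtain ⟨⟨b', hb'⟩, ⟨x', hx', hx''⟩⟩ := hi j hij
      exact ⟨b' * x', Ideal.mul_mem_left _ _ hx', by rw [map_mul, hx'', hb']; rfl⟩
  obtain ⟨s, hst, hs⟩ := Flat2C.ImpurityDescent.exists_mem_sup_of_closure_misses t P hcl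
  obtain ⟨x, hx, y, hy, hxy⟩ := Submodule.mem_sup.mp hs
  obtain ⟨i, hi⟩ := hor _ _ (hA s) (hI y hy)
  obtain ⟨⟨s₁, hs₁⟩, ⟨y₁, hy₁, hy₁'⟩⟩ := hi i le_rfl
  refine ⟨i, ?_⟩
  -- the structures at stage `i`
  let φ : G i ⊗[A] B →ₐ[A] B' := toB' (B' := B') (A' := A') (G i)
  let a1 : Algebra B (G i ⊗[A] B) := Algebra.TensorProduct.rightAlgebra
  let a2 : Algebra (G i ⊗[A] B) B' := φ.toRingHom.toAlgebra
  let a3 : Algebra (G i) B' := ((algebraMap A' B').comp (algebraMap (G i) A')).toAlgebra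
  have j1 : IsScalarTower (G i) A' B' := IsScalarTower.of_algebraMap_eq fun _ => rfl
  have j2 : IsScalarTower (G i) (G i ⊗[A] B) B' := IsScalarTower.of_algebraMap_eq fun x => by
    change _ = φ (algebraMap (G i) (G i ⊗[A] B) x)
    rw [Algebra.TensorProduct.algebraMap_apply, toB'_tmul]
    simp; rfl
  have j3 : IsScalarTower B (G i ⊗[A] B) B' := IsScalarTower.of_algebraMap_eq fun x => by
    change _ = φ ((1 : G i) ⊗ₜ[A] x)
    rw [toB'_tmul]
    simp
  have hpo₁ : Algebra.IsPushout A B (G i) (G i ⊗[A] B) := inferInstance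
  have hs₁t : algebraMap (G i) A' s₁ ∉ t := by rw [hs₁]; exact hst
  have hmem : algebraMap (G i) (G i ⊗[A] B) s₁ ∈ P.comap (algebraMap (G i ⊗[A] B) B') ⊔
      (t.comap (algebraMap (G i) A')).map (algebraMap (G i) (G i ⊗[A] B)) := by
    have h1 : algebraMap (G i) (G i ⊗[A] B) s₁ = (algebraMap (G i) (G i ⊗[A] B) s₁ - y₁) + y₁ := by ring
    rw [h1]
    refine Submodule.add_mem_sup ?_ hy₁
    change φ _ ∈ P
    have h2 : φ (algebraMap (G i) (G i ⊗[A] B) s₁) = algebraMap A' B' s := by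
      rw [Algebra.TensorProduct.algebraMap_apply, toB'_tmul]
      simp [hs₁]
    have h3 : φ y₁ = y := hy₁'
    rw [map_sub, h2, h3, ← hxy]
    simpa using hx
  have key := Flat2C.ImpurityDescent.isImpurity_descend (A := A) (A₁ := G i) (A' := A') (B := B)
    (B₁ := G i ⊗[A] B) (B' := B') hpo₁ N ((G i ⊗[A] B) ⊗[B] N) N'
    (TensorProduct.mk B (G i ⊗[A] B) N 1) (TensorProduct.isBaseChange B N (G i ⊗[A] B)) f p t' t P himp s₁ hs₁t hmem
  exact ⟨G i, G i ⊗[A] B, (G i ⊗[A] B) ⊗[B] N, inferInstance, inferInstance, inferInstance, a1, inferInstance,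
    inferInstance, inferInstance, inferInstance, inferInstance, inferInstance, inferInstance, inferInstance, inferInstance, inferInstance,
    TensorProduct.mk B (G i ⊗[A] B) N 1, t'.comap (algebraMap (G i) A'), t.comap (algebraMap (G i) A'),
    inferInstance, inferInstance, P.comap (algebraMap (G i ⊗[A] B) B'), inferInstance, key, AlgEquiv.refl, by
      change Ideal.map (RingHom.id (G i)) _ = _
      rw [Ideal.map_id]⟩


end Groth.Agent.S1296
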