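import Groth.Statements.S1300
import Groth.Agent.Flat2C.FibreDensity

set_option autoImplicit false
universe u
open FlatMor

namespace Groth.Agent.S1300

open AlgebraicGeometry CategoryTheory Limits in
/-- Stacks Tag 0573: let f be of finite type with irreducible target and let U be an open of the source whose trace on the generic fibre is scheme theoretically dense in it (the inclusion has trivial kernel ideal sheaf). Then over some nonempty open of the target the trace of U on every fibre is scheme theoretically dense in that fibre. -/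
theorem result {X Y : Scheme.{u}} (f : X ⟶ Y) [IrreducibleSpace ↑Y] [LocallyOfFiniteType f] [QuasiCompact f]
    (U : X.Opens) (h : IsSchemeTheoreticallyDominant (f.fiberι (genericPoint ↑Y) ⁻¹ᵁ U).ι) :
    ∃ V : Y.Opens, (V : Set ↑Y).Nonempty ∧ ∀ y ∈ V, IsSchemeTheoreticallyDominant (f.fiberι y ⁻¹ᵁ U).ι := by
  obtain ⟨_, ⟨W, hW, rfl⟩, hηW, -⟩ := Y.isBasis_affineOpens.exists_subset_of_mem_open
    (Set.mem_univ (genericPoint Y)) isOpen_univ
  have hcomp : IsCompact ((f ⁻¹ᵁ W : X.Opens) : Set X) := f.isCompact_preimage hW.isCompact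
  obtain ⟨s, hs, hsW⟩ := isCompact_and_isOpen_iff_finite_and_eq_biUnion_affineOpens.mp ⟨hcomp, (f ⁻¹ᵁ W).2⟩
  have : Finite s := hs
  have hle : ∀ i : s, (i.1 : X.Opens) ≤ f ⁻¹ᵁ W := by
    intro i x hx
    change x ∈ ((f ⁻¹ᵁ W : X.Opens) : Set X)
    rw [hsW]
    exact Set.mem_biUnion i.2 hx
  choose a ha ha' using fun i : s => Flat2C.FibreDensity.exists_nearby f hW hηW i.1.2 (hle i) U
    (Flat2C.FibreDensity.locDense_of_dominant f i.1.1 U _ h)
  refine ⟨W ⊓ ⟨⋂ i : s, (Y.basicOpen (a i) : Set Y), isOpen_iInter_of_finite fun i => (Y.basicOpen (a i)).2⟩,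
    ⟨genericPoint Y, hηW, Set.mem_iInter.mpr ha⟩, ?_⟩
  rintro y ⟨hyW, hy⟩
  refine Flat2C.FibreDensity.dominant_of_locDense f (fun i : s => i.1.1) U y
    (fun i => Flat2C.FibreSections.isAffineOpen_fiber f y hW hyW i.1.2 (hle i)) ?_
    (fun i => ha' i y (Set.mem_iInter.mp hy i))
  intro x hx
  have : x ∈ ((f ⁻¹ᵁ W : X.Opens) : Set X) := by
    change f x ∈ W
    rw [hx]; exact hyW
  rw [hsW] at this
  obtain ⟨i, hi, hxi⟩ := Set.mem_iUnion₂.mp this
  exact ⟨⟨i, hi⟩, hxi⟩

end Groth.Agent.S1300
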