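import Groth.Statements.S1298
import Groth.Agent.S1300
import Groth.Agent.Flat2C.GenericReduced

set_option autoImplicit false
universe u
open FlatMor

namespace Groth.Agent.S1298

theorem dense_preimage_iff {F X : Type*} [TopologicalSpace F] [TopologicalSpace X] (e : F → X)
    (he : Topology.IsInducing e) (U : Set X) :
    Dense (e ⁻¹' U) ↔ ∀ O : Set X, IsOpen O → (O ∩ Set.range e).Nonempty → (O ∩ (Set.range e ∩ U)).Nonempty := by
  rw [dense_iff_inter_open]
  constructor
  · rintro h O hO ⟨_, hx, x, rfl⟩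
    obtain ⟨y, hy, hyU⟩ := h (e ⁻¹' O) (hO.preimage he.continuous) ⟨x, hx⟩
    exact ⟨e y, hy, ⟨y, rfl⟩, hyU⟩
  · intro h V hV hne
    obtain ⟨O, hO, rfl⟩ := he.isOpen_iff.mp hV
    obtain ⟨x, hx⟩ := hne
    obtain ⟨_, hy, ⟨y, rfl⟩, hyU⟩ := h O hO ⟨e x, hx, x, rfl⟩
    exact ⟨y, hy, hyU⟩

theorem nowhereDense_iff {F : Type*} [TopologicalSpace F] {Z : Set F} (hZ : IsClosed Z) :
    IsNowhereDense Z ↔ Dense Zᶜ := by
  rw [hZ.isNowhereDense_iff, interior_eq_empty_iff_dense_compl]

open AlgebraicGeometry CategoryTheory Limits in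
/-- Stacks Tag 054X: let f be of finite type with irreducible target and let Z be a closed subset of the source whose trace on the generic fibre is nowhere dense there. Then over some nonempty open of the target every fibre of Z is nowhere dense in the corresponding fibre of f. -/
theorem result {X Y : Scheme.{u}} (f : X ⟶ Y) [IrreducibleSpace ↑Y] [LocallyOfFiniteType f] [QuasiCompact f]
    (Z : Set ↑X) (hZ : IsClosed Z) (h : IsNowhereDense ((f.fiberι (genericPoint ↑Y)) ⁻¹' Z)) :
    ∃ V : Y.Opens, (V : Set ↑Y).Nonempty ∧ ∀ y ∈ V, IsNowhereDense ((f.fiberι y) ⁻¹' Z) := by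
  let i : X.nilradical.subscheme ⟶ X := X.nilradical.subschemeι
  have : IsReduced X.nilradical.subscheme := Flat2C.GenericReduced.isReduced_subscheme_nilradical X
  have hi : Set.range i = Set.univ := by
    rw [Scheme.IdealSheafData.range_subschemeι]; rfl
  let g := i ≫ f
  let U : X.Opens := ⟨Zᶜ, hZ.isOpen_compl⟩
  have hind : ∀ y : Y, Topology.IsInducing (i ∘ g.fiberι y) := fun y =>
    i.isEmbedding.isInducing.comp (g.fiberι y).isEmbedding.isInducing
  have hrange : ∀ y : Y, Set.range (i ∘ g.fiberι y) = Set.range (f.fiberι y) := by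
    intro y
    rw [Set.range_comp, Scheme.Hom.range_fiberι, Scheme.Hom.range_fiberι]
    ext x
    constructor
    · rintro ⟨x', hx', rfl⟩
      exact hx'
    · intro hx
      obtain ⟨x', rfl⟩ : x ∈ Set.range i := by rw [hi]; trivial
      exact ⟨x', hx, rfl⟩
  have key : ∀ y : Y, Dense ((f.fiberι y) ⁻¹' Zᶜ) ↔ Dense ((g.fiberι y) ⁻¹' (i ⁻¹' Zᶜ)) := by
    intro y
    rw [dense_preimage_iff _ (f.fiberι y).isEmbedding.isInducing, ← hrange y, ← dense_preimage_iff _ (hind y)]
    rfl
  have hdom : IsSchemeTheoreticallyDominant (g.fiberι (genericPoint ↑Y) ⁻¹ᵁ (i ⁻¹ᵁ U)).ι := by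
    rw [isSchemeTheoreticallyDominant_iff_isDominant, isDominant_iff, DenseRange, Scheme.Opens.range_ι]
    rw [nowhereDense_iff (hZ.preimage (f.fiberι _).continuous)] at h
    exact (key _).mp h
  obtain ⟨V, hV, H⟩ := S1300.result g (i ⁻¹ᵁ U) hdom
  refine ⟨V, hV, fun y hy => ?_⟩
  have h1 := H y hy
  have h2 : IsDominant (g.fiberι y ⁻¹ᵁ (i ⁻¹ᵁ U)).ι := inferInstance
  rw [isDominant_iff, DenseRange, Scheme.Opens.range_ι] at h2
  rw [nowhereDense_iff (hZ.preimage (f.fiberι _).continuous)]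
  exact (key y).mpr h2

end Groth.Agent.S1298
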