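import Groth.Statements.S1303
-- import your own Groth.Agent.* helpers here

set_option autoImplicit false
universe u
open FlatMor

namespace Groth.Agent.S1303

open AlgebraicGeometry CategoryTheory Limits in
/-- Stacks Tag 09ZV, part (3): for a morphism of thickenings, that is a commutative square whose horizontal maps are thickenings (closed immersions that are surjective on points), the morphism between the thin schemes is quasi-compact if and only if the morphism between the thick ones is. -/
theorem result {X X' S S' : Scheme.{u}} (iX : X ⟶ X') (iS : S ⟶ S') (f : X ⟶ S) (f' : X' ⟶ S')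
    (hX : MoreMor.IsThickening iX) (hS : MoreMor.IsThickening iS) (w : iX ≫ f' = f ≫ iS) :
    QuasiCompact f ↔ QuasiCompact f' := by
  obtain ⟨hX1, hX2⟩ := hX
  obtain ⟨hS1, hS2⟩ := hS
  have wpt : ∀ x, f' (iX x) = iS (f x) := fun x => by
    rw [← Scheme.Hom.comp_apply, w, Scheme.Hom.comp_apply]
  constructor
  · intro hf
    constructor
    intro U hU hU'
    have h1 : IsCompact (iS ⁻¹' U) := iS.isClosedEmbedding.isCompact_preimage hU'
    have h2 : IsCompact (f ⁻¹' (iS ⁻¹' U)) := hf.isCompact_preimage _ (hU.preimage iS.continuous) h1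
    have h3 : f' ⁻¹' U = iX '' (f ⁻¹' (iS ⁻¹' U)) := by
      ext x'
      obtain ⟨x, rfl⟩ := iX.surjective x'
      simp only [Set.mem_preimage, Set.mem_image]
      constructor
      · intro h
        exact ⟨x, by rw [← wpt]; exact h, rfl⟩
      · rintro ⟨y, hy, hxy⟩
        rw [← hxy, wpt]
        exact hy
    rw [h3]
    exact h2.image iX.continuous
  · intro hf'
    constructor
    intro U hU hU'
    have h0 : ∃ V : Set S', IsOpen V ∧ iS ⁻¹' V = U := (iS.isClosedEmbedding.isInducing.isOpen_iff).1 hU
    obtain ⟨V, hV, rfl⟩ := h0
    have h1 : IsCompact V := by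
      have := hU'.image iS.continuous
      rwa [Set.image_preimage_eq _ iS.surjective] at this
    have h2 := hf'.isCompact_preimage V hV h1
    have h3 : f ⁻¹' (iS ⁻¹' V) = iX ⁻¹' (f' ⁻¹' V) := by
      ext x
      simp only [Set.mem_preimage]
      rw [wpt]
    rw [h3]
    exact iX.isClosedEmbedding.isCompact_preimage h2

end Groth.Agent.S1303
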