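import Groth.Statements.S1305
import Groth.Agent.S1302
import Groth.Agent.S1304

set_option autoImplicit false
universe u
open FlatMor

namespace Groth.Agent.S1305

open AlgebraicGeometry CategoryTheory Limits in
/-- Stacks Tag 09ZV, part (5): for a morphism of thickenings, that is a commutative square whose horizontal maps are thickenings (closed immersions that are surjective on points), the morphism between the thin schemes is integral if and only if the morphism between the thick ones is. -/
theorem result {X X' S S' : Scheme.{u}} (iX : X ⟶ X') (iS : S ⟶ S') (f : X ⟶ S) (f' : X' ⟶ S')
    (hX : MoreMor.IsThickening iX) (hS : MoreMor.IsThickening iS) (w : iX ≫ f' = f ≫ iS) :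
    IsIntegralHom f ↔ IsIntegralHom f' := by
  rw [IsIntegralHom.iff_universallyClosed_and_isAffineHom,
    IsIntegralHom.iff_universallyClosed_and_isAffineHom,
    Groth.Agent.S1302.result iX iS f f' hX hS w, Groth.Agent.S1304.result iX iS f f' hX hS w]

end Groth.Agent.S1305
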