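import Groth.Statements.S1306

set_option autoImplicit false
universe u
open FlatMor

namespace Groth.Agent.S1306

open AlgebraicGeometry CategoryTheory Limits in
theorem quasiCompact_of_comp_surjective {X Y Z : Scheme.{u}} (f : X ⟶ Y) (g : Y ⟶ Z)
    [hs : Surjective f] [h : QuasiCompact (f ≫ g)] : QuasiCompact g := by
  constructor
  intro U hU hUc
  have h1 := h.isCompact_preimage U hU hUc
  have h2 : g ⁻¹' U = f '' ((f ≫ g) ⁻¹' U) := by
    ext y
    constructor
    · intro hy
      obtain ⟨x, rfl⟩ := hs.surj y
      exact ⟨x, by simpa using hy, rfl⟩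
    · rintro ⟨x, hx, rfl⟩
      simpa using hx
  rw [h2]
  exact h1.image f.continuous


open AlgebraicGeometry CategoryTheory Limits in
/-- Stacks Tag 09ZV, part (6): for a morphism of thickenings, that is a commutative square whose horizontal maps are thickenings (closed immersions that are surjective on points), the morphism between the thin schemes is quasi-separated if and only if the morphism between the thick ones is. -/
theorem result {X X' S S' : Scheme.{u}} (iX : X ⟶ X') (iS : S ⟶ S') (f : X ⟶ S) (f' : X' ⟶ S')
    (hX : MoreMor.IsThickening iX) (hS : MoreMor.IsThickening iS) (w : iX ≫ f' = f ≫ iS) :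
    QuasiSeparated f ↔ QuasiSeparated f' := by
  obtain ⟨hX1, hX2⟩ := hX
  obtain ⟨hS1, hS2⟩ := hS
  constructor
  · intro hf
    have hfS : QuasiSeparated (iX ≫ f') := by rw [w]; infer_instance
    let φ : pullback (iX ≫ f') (iX ≫ f') ⟶ pullback f' f' :=
      pullback.map _ _ _ _ iX iX (𝟙 _) (by simp) (by simp)
    have h1 : iX ≫ pullback.diagonal f' = pullback.diagonal (iX ≫ f') ≫ φ := by
      apply pullback.hom_ext
      · simp only [Category.assoc, pullback.diagonal_fst, Category.comp_id, φ, pullback.lift_fst,
          pullback.map, pullback.diagonal_fst_assoc]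
      · simp only [Category.assoc, pullback.diagonal_snd, Category.comp_id, φ, pullback.lift_snd,
          pullback.map, pullback.diagonal_snd_assoc]
    have hφ : QuasiCompact φ :=
      MorphismProperty.pullbackMap (P := @QuasiCompact) (f := iX ≫ f') (g := iX ≫ f') (f' := f')
        (g' := f') (i₁ := iX) (i₂ := iX) inferInstance inferInstance rfl rfl
    have h2 : QuasiCompact (iX ≫ pullback.diagonal f') := by
      rw [h1]; infer_instance
    exact ⟨quasiCompact_of_comp_surjective iX _⟩
  · intro hf'
    have h1 : QuasiSeparated (f ≫ iS) := by rw [← w]; infer_instance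
    exact QuasiSeparated.of_comp f iS

end Groth.Agent.S1306
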