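import Groth.Statements.S1307

set_option autoImplicit false
universe u
open FlatMor

namespace Groth.Agent.S1307

open AlgebraicGeometry CategoryTheory Limits in
/-- Stacks Tag 09ZV, part (7): for a morphism of thickenings, that is a commutative square whose horizontal maps are thickenings (closed immersions that are surjective on points), the morphism between the thin schemes is universally injective if and only if the morphism between the thick ones is. -/
theorem result {X X' S S' : Scheme.{u}} (iX : X ⟶ X') (iS : S ⟶ S') (f : X ⟶ S) (f' : X' ⟶ S')
    (hX : MoreMor.IsThickening iX) (hS : MoreMor.IsThickening iS) (w : iX ≫ f' = f ≫ iS) :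
    UniversallyInjective f ↔ UniversallyInjective f' := by
  obtain ⟨hX1, hX2⟩ := hX
  obtain ⟨hS1, hS2⟩ := hS
  constructor
  · intro hf
    have h1 : UniversallyInjective (iX ≫ f') := by
      rw [w]
      exact MorphismProperty.comp_mem _ _ _ hf inferInstance
    constructor
    intro X'' Y'' i₁ i₂ f'' H
    have h2 := UniversallyInjective.universally_injective _ _ _
      ((IsPullback.of_hasPullback i₁ iX).paste_horiz H)
    have hs : Surjective (pullback.fst i₁ iX) :=
      MorphismProperty.of_isPullback (IsPullback.of_hasPullback i₁ iX).flip hX2
    intro a b hab
    obtain ⟨a, rfl⟩ := hs.surj a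
    obtain ⟨b, rfl⟩ := hs.surj b
    have : (pullback.fst i₁ iX ≫ f'') a = (pullback.fst i₁ iX ≫ f'') b := by
      simpa only [Scheme.Hom.comp_apply] using hab
    exact congrArg _ (h2 this)
  · intro hf'
    have h1 : UniversallyInjective (f ≫ iS) := by
      rw [← w]
      exact MorphismProperty.comp_mem _ _ _ inferInstance hf'
    refine ((tfae_universallyInjective f).out 0 1).mpr ?_
    have h2 := ((tfae_universallyInjective (f ≫ iS)).out 0 1).mp h1
    intro K _ a b hab
    exact h2 K (by simpa only [Category.assoc] using congrArg (· ≫ iS) hab)

end Groth.Agent.S1307
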