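import Groth.Statements.S1308

set_option autoImplicit false
universe u
open FlatMor

namespace Groth.Agent.S1308

open AlgebraicGeometry CategoryTheory Limits in
/-- A thickening is universally open. -/
theorem thickening_universallyOpen {X X' : Scheme.{u}} (i : X ⟶ X') (h : MoreMor.IsThickening i) :
    UniversallyOpen i := by
  obtain ⟨h1, h2⟩ := h
  constructor
  intro X'' Y'' i₁ i₂ f'' H
  have h3 : IsClosedImmersion f'' := MorphismProperty.of_isPullback H.flip h1
  have h4 : Surjective f'' := MorphismProperty.of_isPullback H.flip h2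
  have h5 : IsHomeomorph f'' := 
    isHomeomorph_iff_continuous_isClosedMap_bijective.mpr ⟨f''.continuous,
      f''.isClosedEmbedding.isClosedMap, f''.isClosedEmbedding.injective, h4.surj⟩
  exact h5.isOpenMap


open AlgebraicGeometry CategoryTheory Limits in
/-- Stacks Tag 09ZV, part (8): for a morphism of thickenings, that is a commutative square whose horizontal maps are thickenings (closed immersions that are surjective on points), the morphism between the thin schemes is universally open if and only if the morphism between the thick ones is. -/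
theorem result {X X' S S' : Scheme.{u}} (iX : X ⟶ X') (iS : S ⟶ S') (f : X ⟶ S) (f' : X' ⟶ S')
    (hX : MoreMor.IsThickening iX) (hS : MoreMor.IsThickening iS) (w : iX ≫ f' = f ≫ iS) :
    UniversallyOpen f ↔ UniversallyOpen f' := by
  have hX3 := thickening_universallyOpen iX hX
  have hS3 := thickening_universallyOpen iS hS
  obtain ⟨hX1, hX2⟩ := hX
  obtain ⟨hS1, hS2⟩ := hS
  constructor
  · intro hf
    have h1 : UniversallyOpen (iX ≫ f') := by
      rw [w]; infer_instance
    constructor
    intro X'' Y'' i₁ i₂ f'' H
    have h2 := UniversallyOpen.universally_isOpenMap _ _ _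
      ((IsPullback.of_hasPullback i₁ iX).paste_horiz H)
    have hs : Surjective (pullback.fst i₁ iX) :=
      MorphismProperty.of_isPullback (IsPullback.of_hasPullback i₁ iX).flip hX2
    intro U hU
    have h3 := h2 _ (hU.preimage (pullback.fst i₁ iX).continuous)
    convert h3 using 1
    ext y
    constructor
    · rintro ⟨a, ha, rfl⟩
      obtain ⟨a, rfl⟩ := hs.surj a
      exact ⟨a, ha, by simp⟩
    · rintro ⟨a, ha, rfl⟩
      exact ⟨_, ha, by simp⟩
  · intro hf'
    have h1 : UniversallyOpen (f ≫ iS) := by
      rw [← w]; infer_instance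
    constructor
    intro X'' Y'' i₁ i₂ f'' H
    -- base change of `f ≫ iS` along `i₂ ≫ iS`
    have H4 : IsPullback f'' i₁ (i₂ ≫ iS) (f ≫ iS) := by
      have e : f'' ≫ i₂ ≫ iS = i₁ ≫ f ≫ iS := by
        rw [← Category.assoc, H.w, Category.assoc]
      exact ⟨⟨e⟩, ⟨PullbackCone.isLimitOfCompMono i₂ f iS (PullbackCone.mk f'' i₁ H.w) H.isLimit⟩⟩
    exact UniversallyOpen.universally_isOpenMap _ _ _ H4

end Groth.Agent.S1308
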