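import Groth.Statements.S1309
import Groth.Agent.Flat2C.ThickAlg

set_option autoImplicit false
universe u
open FlatMor

namespace Groth.Agent.S1309

open AlgebraicGeometry CategoryTheory Limits in
/-- Stacks Tag 09ZW, part (2): let S ⟶ S' be a finite order thickening and let X be the base change of a scheme X' over S' to S (so X ⟶ X' is again a thickening). Then X ⟶ S is locally of finite type if and only if X' ⟶ S' is. -/
theorem result {X X' S S' : Scheme.{u}} (iX : X ⟶ X') (iS : S ⟶ S') (f : X ⟶ S) (f' : X' ⟶ S')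
    (hS : MoreMor.IsFiniteOrderThickening iS) (hc : IsPullback iX f f' iS) :
    LocallyOfFiniteType f ↔ LocallyOfFiniteType f' := by
  obtain ⟨⟨hS1, hS2⟩, hn⟩ := hS
  constructor
  · intro hf
    refine ⟨fun {U} hU {V} hV e => ?_⟩
    have e' : iX ⁻¹ᵁ V ≤ f ⁻¹ᵁ (iS ⁻¹ᵁ U) := by
      rw [← Scheme.Hom.comp_preimage, ← hc.w, Scheme.Hom.comp_preimage]
      exact iX.preimage_mono e
    have : IsClosedImmersion iX := MorphismProperty.of_isPullback hc.flip ‹_›
    obtain ⟨h1, h2⟩ := Flat2C.Thick.surjective_app_and_ker_app hc hU hV e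
    have h3 := Flat2C.Thick.isPushout_appLE hc hU hV e
    have h4 : (f.appLE (iS ⁻¹ᵁ U) (iX ⁻¹ᵁ V) e').hom.FiniteType :=
      hf.finiteType_appLE (hU.preimage iS) (hV.preimage iX) e'
    refine Flat2C.ThickAlg.finiteType_of_isNilpotent (f'.appLE U V e).hom (iS.app U).hom (iX.app V).hom
      (f.appLE (iS ⁻¹ᵁ U) (iX ⁻¹ᵁ V) e').hom ?_ (iS.app_surjective U hU) h1 h2
      (Flat2C.Thick.isNilpotent_ker_app iS hn hU) h4
    rw [← CommRingCat.hom_comp, ← CommRingCat.hom_comp, h3.w]
  · intro hf'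
    exact MorphismProperty.of_isPullback hc hf'

end Groth.Agent.S1309
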