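import Groth.Statements.S1310
import Groth.Agent.Flat2C.ThickAlg

set_option autoImplicit false
universe u
open FlatMor

namespace Groth.Agent.S1310

open AlgebraicGeometry CategoryTheory Limits in
/-- Stacks Tag 09ZW, part (5): let S ⟶ S' be a finite order thickening and let X be the base change of a scheme X' over S' to S (so X ⟶ X' is again a thickening). Then X ⟶ S is formally unramified if and only if X' ⟶ S' is. (The source states this as the vanishing of the sheaf of relative differentials; formal unramifiedness is the equivalent phrasing available here.) -/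
theorem result {X X' S S' : Scheme.{u}} (iX : X ⟶ X') (iS : S ⟶ S') (f : X ⟶ S) (f' : X' ⟶ S')
    (hS : MoreMor.IsFiniteOrderThickening iS) (hc : IsPullback iX f f' iS) :
    FormallyUnramified f ↔ FormallyUnramified f' := by
  obtain ⟨⟨hS1, hS2⟩, hn⟩ := hS
  constructor
  · intro hf
    refine ⟨fun {U} hU {V} hV e => ?_⟩
    have e' : iX ⁻¹ᵁ V ≤ f ⁻¹ᵁ (iS ⁻¹ᵁ U) := by
      rw [← Scheme.Hom.comp_preimage, ← hc.w, Scheme.Hom.comp_preimage]
      exact iX.preimage_mono e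
    have : IsClosedImmersion iX := MorphismProperty.of_isPullback hc.flip ‹_›
    obtain ⟨h1, h2⟩ := Flat2C.Thick.surjective_app_and_ker_app hc hU hV e
    have h3 := Flat2C.Thick.isPushout_appLE hc hU hV e
    have h4 : (f.appLE (iS ⁻¹ᵁ U) (iX ⁻¹ᵁ V) e').hom.FormallyUnramified :=
      hf.formallyUnramified_appLE (hU.preimage iS) (hV.preimage iX) e'
    have hn' : IsNilpotent (RingHom.ker (iX.app V).hom) :=
      Flat2C.Thick.isNilpotent_ker_app iX (Flat2C.Thick.isNilpotent_ker_of_isPullback hc hn) hV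
    algebraize [(f'.appLE U V e).hom, (iS.app U).hom, (iX.app V).hom,
      (f.appLE (iS ⁻¹ᵁ U) (iX ⁻¹ᵁ V) e').hom, (f'.appLE U V e ≫ iX.app V).hom]
    have : IsScalarTower Γ(S', U) Γ(S, iS ⁻¹ᵁ U) Γ(X, iX ⁻¹ᵁ V) := by
      refine .of_algebraMap_eq' ?_
      change (f'.appLE U V e ≫ iX.app V).hom = (iS.app U ≫ f.appLE (iS ⁻¹ᵁ U) (iX ⁻¹ᵁ V) e').hom
      rw [h3.w]
    have : IsScalarTower Γ(S', U) Γ(X', V) Γ(X, iX ⁻¹ᵁ V) := .of_algebraMap_eq' rfl
    have hpush : Algebra.IsPushout Γ(S', U) Γ(S, iS ⁻¹ᵁ U) Γ(X', V) Γ(X, iX ⁻¹ᵁ V) :=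
      (CommRingCat.isPushout_iff_isPushout (R := Γ(S', U)) (S := Γ(X', V)) (R' := Γ(S, iS ⁻¹ᵁ U))
        (S' := Γ(X, iX ⁻¹ᵁ V))).mp h3.flip
    exact Flat2C.ThickAlg.formallyUnramified_of_isNilpotent (R' := Γ(S', U)) (R := Γ(S, iS ⁻¹ᵁ U))
      (A' := Γ(X', V)) (A := Γ(X, iX ⁻¹ᵁ V)) h1 hn'
  · intro hf'
    exact MorphismProperty.of_isPullback hc hf'

end Groth.Agent.S1310
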