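import Groth.Statements.S1311
import Groth.Agent.S1310

set_option autoImplicit false
universe u
open FlatMor

namespace Groth.Agent.S1311

open AlgebraicGeometry CategoryTheory Limits in
/-- Stacks Tag 09ZW, part (9): let S ⟶ S' be a finite order thickening and let X be the base change of a scheme X' over S' to S (so X ⟶ X' is again a thickening). Then X ⟶ S is a monomorphism if and only if X' ⟶ S' is. -/
theorem result {X X' S S' : Scheme.{u}} (iX : X ⟶ X') (iS : S ⟶ S') (f : X ⟶ S) (f' : X' ⟶ S')
    (hS : MoreMor.IsFiniteOrderThickening iS) (hc : IsPullback iX f f' iS) :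
    Mono f ↔ Mono f' := by
  obtain ⟨⟨hS1, hS2⟩, hn⟩ := id hS
  constructor
  · intro hf
    have hfu : FormallyUnramified f := inferInstance
    have hfu' : FormallyUnramified f' := (S1310.result iX iS f f' hS hc).mp hfu
    refine ⟨fun {Z} g₁ g₂ h => ?_⟩
    -- restrict along the thickening `Z ×_{S'} S → Z`
    let i : pullback (g₁ ≫ f') iS ⟶ Z := pullback.fst (g₁ ≫ f') iS
    have hi : IsNilpotent i.ker :=
      Flat2C.Thick.isNilpotent_ker_of_isPullback (IsPullback.of_hasPullback (g₁ ≫ f') iS) hn
    have hig : i ≫ g₁ = i ≫ g₂ := by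
      let a₁ : pullback (g₁ ≫ f') iS ⟶ X := hc.lift (i ≫ g₁) (pullback.snd (g₁ ≫ f') iS)
        (by rw [Category.assoc]; exact pullback.condition)
      let a₂ : pullback (g₁ ≫ f') iS ⟶ X := hc.lift (i ≫ g₂) (pullback.snd (g₁ ≫ f') iS)
        (by rw [Category.assoc, ← h]; exact pullback.condition)
      have ha : a₁ = a₂ := by
        rw [← cancel_mono f]
        simp only [a₁, a₂, IsPullback.lift_snd]
      calc i ≫ g₁ = a₁ ≫ iX := (hc.lift_fst _ _ _).symm
        _ = a₂ ≫ iX := by rw [ha]
        _ = i ≫ g₂ := hc.lift_fst _ _ _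
    exact FormallyUnramified.hom_ext i hi f' hig h
  · intro hf'
    exact MorphismProperty.of_isPullback (P := MorphismProperty.monomorphisms Scheme) hc hf'

end Groth.Agent.S1311
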