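import Groth.Statements.S1312
import Mathlib.AlgebraicGeometry.Morphisms.QuasiFinite

set_option autoImplicit false
universe u
open FlatMor

namespace Groth.Agent.S1312

open AlgebraicGeometry CategoryTheory Limits in
/-- Stacks Tag 0BPG, part (1): let Y ⟶ Y' be a thickening, let X be the base change to Y of a scheme X' over Y', and assume both X ⟶ Y and X' ⟶ Y' are locally of finite type. Then X ⟶ Y is locally quasi-finite if and only if X' ⟶ Y' is. -/
theorem result {X X' Y Y' : Scheme.{u}} (iX : X ⟶ X') (iY : Y ⟶ Y') (f : X ⟶ Y) (f' : X' ⟶ Y')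
    (hY : MoreMor.IsThickening iY) (hc : IsPullback iX f f' iY) [LocallyOfFiniteType f] [LocallyOfFiniteType f'] :
    LocallyQuasiFinite f ↔ LocallyQuasiFinite f' := by
  obtain ⟨hY1, hY2⟩ := hY
  have hX1 : IsClosedImmersion iX := MorphismProperty.of_isPullback hc.flip hY1
  have hX2 : Surjective iX := MorphismProperty.of_isPullback hc.flip hY2
  constructor
  · intro hf
    rw [locallyQuasiFinite_iff_isDiscrete_preimage_singleton] at hf ⊢
    intro y'
    obtain ⟨y, rfl⟩ := hY2.surj y'
    have : f' ⁻¹' {iY y} = iX '' (f ⁻¹' {y}) := by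
      ext x'
      obtain ⟨x, rfl⟩ := hX2.surj x'
      have h1 : f' (iX x) = iY (f x) := by
        rw [← Scheme.Hom.comp_apply, hc.w, Scheme.Hom.comp_apply]
      constructor
      · intro hx
        refine ⟨x, ?_, rfl⟩
        simp only [Set.mem_preimage, Set.mem_singleton_iff] at hx ⊢
        rw [h1] at hx
        exact iY.isClosedEmbedding.injective hx
      · rintro ⟨z, hz, hzx⟩
        have := iX.isClosedEmbedding.injective hzx
        subst this
        simp only [Set.mem_preimage, Set.mem_singleton_iff] at hz ⊢
        rw [h1, hz]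
    rw [this]
    exact (hf y).image iX.isClosedEmbedding.isInducing
  · intro hf'
    exact MorphismProperty.of_isPullback hc hf'

end Groth.Agent.S1312
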