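import Groth.Statements.S1313
import Mathlib.AlgebraicGeometry.Morphisms.QuasiFinite
import Mathlib.AlgebraicGeometry.Morphisms.Proper
import Mathlib.AlgebraicGeometry.Morphisms.Finite
import Mathlib.AlgebraicGeometry.Morphisms.ClosedImmersion
import Mathlib.AlgebraicGeometry.Morphisms.Flat

set_option autoImplicit false
universe u
open FlatMor

namespace Groth.Agent.S1313

open AlgebraicGeometry CategoryTheory Limits in
/-- Nakayama step. -/
lemma surj_of_finite {A' B' A B : Type*} [CommRing A'] [CommRing B'] [CommRing A] [CommRing B]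
    (φ : A' →+* B') (p : A' →+* A) (q : B' →+* B) (ψ : A →+* B) (hφ : φ.Finite)
    (hp : Function.Surjective p) (hψ : Function.Surjective ψ) (comm : ψ.comp p = q.comp φ)
    (hker : RingHom.ker q ≤ (RingHom.ker p).map φ)
    (hnil : RingHom.ker p ≤ Ideal.jacobson ⊥) : Function.Surjective φ := by
  algebraize [φ]
  have key : (⊤ : Submodule A' B') ≤ LinearMap.range (Algebra.linearMap A' B') := by
    apply Submodule.le_of_le_smul_of_le_jacobson_bot (I := RingHom.ker p) Module.Finite.fg_top hnil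
    intro b _
    obtain ⟨a, ha⟩ := hψ (q b)
    obtain ⟨a', rfl⟩ := hp a
    have h1 : b - φ a' ∈ RingHom.ker q := by
      rw [RingHom.mem_ker, map_sub, ← ha]
      have := RingHom.congr_fun comm a'
      simp only [RingHom.comp_apply] at this
      rw [this, sub_self]
    have h2 := hker h1
    have h3 : b - φ a' ∈ (RingHom.ker p) • (⊤ : Submodule A' B') := by
      rw [Ideal.smul_top_eq_map]
      exact h2
    have : b = φ a' + (b - φ a') := by ring
    rw [this]
    refine Submodule.add_mem_sup ⟨a', rfl⟩ h3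
  intro b
  obtain ⟨a, ha⟩ := key (show b ∈ ⊤ from trivial)
  exact ⟨a, ha⟩

open AlgebraicGeometry CategoryTheory Limits in
lemma ker_le_of_isPushout {A' B' A B : CommRingCat.{u}} (φ : A' ⟶ B') (p : A' ⟶ A) (q : B' ⟶ B)
    (ψ : A ⟶ B) (h : IsPushout φ p q ψ) (hp : Function.Surjective p) :
    RingHom.ker q.hom ≤ (RingHom.ker p.hom).map φ.hom := by
  let I := (RingHom.ker p.hom).map φ.hom
  let g₀ : { g : A' →+* (B' ⧸ I) // RingHom.ker p.hom ≤ RingHom.ker g } :=
    ⟨(Ideal.Quotient.mk I).comp φ.hom, by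
      intro a ha
      rw [RingHom.mem_ker, RingHom.comp_apply, Ideal.Quotient.eq_zero_iff_mem]
      exact Ideal.mem_map_of_mem _ ha⟩
  let g : A ⟶ CommRingCat.of (B' ⧸ I) := CommRingCat.ofHom ((p.hom.liftOfSurjective hp) g₀)
  have hg : φ ≫ CommRingCat.ofHom (Ideal.Quotient.mk I) = p ≫ g := by
    ext a
    exact (RingHom.liftOfSurjective_comp_apply p.hom hp g₀ a).symm
  let d := h.desc _ _ hg
  intro b hb
  have h1 : (q ≫ d) b = Ideal.Quotient.mk I b := by
    rw [h.inl_desc]; rfl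
  rw [CommRingCat.comp_apply, show q b = 0 from hb, map_zero] at h1
  exact Ideal.Quotient.eq_zero_iff_mem.mp h1.symm

open AlgebraicGeometry CategoryTheory Limits in
lemma ker_app_le_nilradical {Y Y' : Scheme.{u}} (iY : Y ⟶ Y') [Surjective iY] (U : Y'.Opens)
    (hU : IsAffineOpen U) : RingHom.ker (iY.app U).hom ≤ nilradical Γ(Y', U) := by
  intro a ha
  rw [mem_nilradical, Scheme.isNilpotent_iff_basicOpen_eq_bot_of_isCompact hU.isCompact]
  have h1 : iY ⁻¹ᵁ (Y'.basicOpen a) = ⊥ := by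
    rw [Scheme.preimage_basicOpen, show iY.app U a = 0 from ha, Scheme.basicOpen_zero]
  apply le_bot_iff.mp
  intro y hy
  obtain ⟨x, rfl⟩ := iY.surjective y
  have : x ∈ iY ⁻¹ᵁ (Y'.basicOpen a) := hy
  rw [h1] at this
  exact this.elim

open AlgebraicGeometry CategoryTheory Limits in
/-- Stacks Tag 0BPG, part (3): let Y ⟶ Y' be a thickening, let X be the base change to Y of a scheme X' over Y', and assume both X ⟶ Y and X' ⟶ Y' are locally of finite type. Then X ⟶ Y is a closed immersion if and only if X' ⟶ Y' is. -/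
theorem result {X X' Y Y' : Scheme.{u}} (iX : X ⟶ X') (iY : Y ⟶ Y') (f : X ⟶ Y) (f' : X' ⟶ Y')
    (hY : MoreMor.IsThickening iY) (hc : IsPullback iX f f' iY) [LocallyOfFiniteType f] [LocallyOfFiniteType f'] :
    IsClosedImmersion f ↔ IsClosedImmersion f' := by
  obtain ⟨hY1, hY2⟩ := hY
  have hX1 : IsClosedImmersion iX := MorphismProperty.of_isPullback hc.flip hY1
  have hX2 : Surjective iX := MorphismProperty.of_isPullback hc.flip hY2
  constructor
  · intro hf
    have huc : UniversallyClosed f' := by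
      have : UniversallyClosed (iX ≫ f') := by
        rw [hc.w]; infer_instance
      exact UniversallyClosed.of_comp_surjective iX f'
    have hemb : Topology.IsClosedEmbedding f' := by
      refine .of_continuous_injective_isClosedMap f'.continuous ?_ f'.isClosedMap
      intro x' y' hxy
      obtain ⟨x, rfl⟩ := iX.surjective x'
      obtain ⟨y, rfl⟩ := iX.surjective y'
      rw [← Scheme.Hom.comp_apply, ← Scheme.Hom.comp_apply, hc.w] at hxy
      rw [(f ≫ iY).isClosedEmbedding.injective hxy]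
    have haff : IsAffineHom f' := isAffineHom_of_isInducing f' hemb.isInducing hemb.isClosed_range
    have hprop : IsProper f' := { }
    have hfin : IsFinite f' := IsFinite.iff_isProper_and_isAffineHom.mpr ⟨hprop, haff⟩
    rw [isClosedImmersion_iff_isAffineHom]
    refine ⟨haff, fun U hU ↦ ?_⟩
    have hpush := (isIso_pushoutSection_iff hc.flip (US := U) (UT := f' ⁻¹ᵁ U) (UX := iY ⁻¹ᵁ U) le_rfl le_rfl
      (UY := f ⁻¹ᵁ iY ⁻¹ᵁ U ⊓ iX ⁻¹ᵁ f' ⁻¹ᵁ U) rfl).mp
      (isIso_pushoutSection_of_isAffineOpen hc.flip (US := U) (UT := f' ⁻¹ᵁ U) (UX := iY ⁻¹ᵁ U) le_rfl le_rfl rfl hU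
        (hU.preimage f') (hU.preimage iY))
    have hUaff := hU.preimage iY
    have hsurj : Function.Surjective (iY.appLE U (iY ⁻¹ᵁ U) le_rfl) := by
      rw [Scheme.Hom.appLE_eq_app]
      exact iY.app_surjective U hU
    have hinf : f ⁻¹ᵁ iY ⁻¹ᵁ U ⊓ iX ⁻¹ᵁ f' ⁻¹ᵁ U = f ⁻¹ᵁ iY ⁻¹ᵁ U := by
      rw [inf_eq_left, ← Scheme.Hom.comp_preimage, ← Scheme.Hom.comp_preimage, hc.w]
    have hsurj2 : Function.Surjective (f.appLE (iY ⁻¹ᵁ U) (f ⁻¹ᵁ iY ⁻¹ᵁ U ⊓ iX ⁻¹ᵁ f' ⁻¹ᵁ U) inf_le_left) := by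
      have : f.appLE (iY ⁻¹ᵁ U) (f ⁻¹ᵁ iY ⁻¹ᵁ U ⊓ iX ⁻¹ᵁ f' ⁻¹ᵁ U) inf_le_left =
        f.app (iY ⁻¹ᵁ U) ≫ X.presheaf.map (eqToHom hinf).op := rfl
      rw [this]
      exact (ConcreteCategory.bijective_of_isIso (X.presheaf.map (eqToHom hinf).op)).2.comp (f.app_surjective _ hUaff)
    have hker := ker_le_of_isPushout _ _ _ _ hpush.flip hsurj
    have := surj_of_finite (f'.appLE U (f' ⁻¹ᵁ U) le_rfl).hom (iY.appLE U (iY ⁻¹ᵁ U) le_rfl).hom
      (iX.appLE (f' ⁻¹ᵁ U) (f ⁻¹ᵁ iY ⁻¹ᵁ U ⊓ iX ⁻¹ᵁ f' ⁻¹ᵁ U) inf_le_right).hom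
      (f.appLE (iY ⁻¹ᵁ U) (f ⁻¹ᵁ iY ⁻¹ᵁ U ⊓ iX ⁻¹ᵁ f' ⁻¹ᵁ U) inf_le_left).hom
      (by rw [Scheme.Hom.appLE_eq_app]; exact IsFinite.finite_app f' U hU) hsurj hsurj2
      (by
        have := hpush.w
        rw [← CommRingCat.hom_comp, ← CommRingCat.hom_comp, this]) hker
      (by
        rw [Scheme.Hom.appLE_eq_app]
        exact (ker_app_le_nilradical iY U hU).trans (by
          rw [nilradical_eq_sInf, Ideal.jacobson]
          exact le_sInf fun J hJ ↦ sInf_le hJ.2.isPrime))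
    rwa [Scheme.Hom.appLE_eq_app] at this
  · intro hf'
    exact MorphismProperty.of_isPullback hc hf'

end Groth.Agent.S1313
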