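import Groth.Statements.S1314
import Groth.Agent.Flat2D.ThickUnram

set_option autoImplicit false
universe u
open FlatMor

namespace Groth.Agent.S1314

open AlgebraicGeometry CategoryTheory Limits in
/-- Stacks Tag 0BPG, part (4): let Y ⟶ Y' be a thickening, let X be the base change to Y of a scheme X' over Y', and assume both X ⟶ Y and X' ⟶ Y' are locally of finite type. Then X ⟶ Y is formally unramified if and only if X' ⟶ Y' is. (The source states this as the vanishing of the sheaf of relative differentials; formal unramifiedness is the equivalent phrasing available here.) -/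
theorem result {X X' Y Y' : Scheme.{u}} (iX : X ⟶ X') (iY : Y ⟶ Y') (f : X ⟶ Y) (f' : X' ⟶ Y')
    (hY : MoreMor.IsThickening iY) (hc : IsPullback iX f f' iY) [LocallyOfFiniteType f] [LocallyOfFiniteType f'] :
    FormallyUnramified f ↔ FormallyUnramified f' := by
  obtain ⟨hcl, hsurj⟩ := hY
  constructor
  · intro hf
    refine ⟨fun {U} hU {V} hV e => ?_⟩
    have hUT : IsAffineOpen (iY ⁻¹ᵁ U) := hU.preimage iY
    have hUY' : IsAffineOpen (iX ⁻¹ᵁ V ⊓ f ⁻¹ᵁ (iY ⁻¹ᵁ U)) := by
      have : IsClosedImmersion iX := MorphismProperty.of_isPullback hc.flip hcl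
      have h1 : iX ⁻¹ᵁ V ⊓ f ⁻¹ᵁ (iY ⁻¹ᵁ U) = iX ⁻¹ᵁ V := by
        rw [inf_eq_left, ← Scheme.Hom.comp_preimage, ← hc.w, Scheme.Hom.comp_preimage]
        exact iX.preimage_mono e
      rw [h1]
      exact hV.preimage iX
    have hiso := isIso_pushoutSection_of_isAffineOpen hc (US := U) (UT := iY ⁻¹ᵁ U) (UX := V)
      le_rfl e rfl hU hUT hV
    rw [isIso_pushoutSection_iff] at hiso
    refine Flat2D.ThickUnram.unram_of_isPushout _ _ _ _ hiso ?_ ?_ ?_ ?_
    · rw [Scheme.Hom.appLE_eq_app]
      exact iY.app_surjective U hU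
    · rw [Scheme.Hom.appLE_eq_app]
      exact Flat2D.ThickUnram.ker_app_le_nilradical iY U hU
    · exact f'.finiteType_appLE hU hV e
    · exact f.formallyUnramified_appLE hUT hUY' _
  · intro hf
    exact MorphismProperty.of_isPullback hc hf

end Groth.Agent.S1314
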