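import Groth.Statements.S1315
import Groth.Agent.S1314
import Groth.Agent.Flat2D.ThickMono

set_option autoImplicit false
universe u
open FlatMor

namespace Groth.Agent.S1315

open AlgebraicGeometry CategoryTheory Limits in
/-- Stacks Tag 0BPG, part (6): let Y ⟶ Y' be a thickening, let X be the base change to Y of a scheme X' over Y', and assume both X ⟶ Y and X' ⟶ Y' are locally of finite type. Then X ⟶ Y is a monomorphism if and only if X' ⟶ Y' is. -/
theorem result {X X' Y Y' : Scheme.{u}} (iX : X ⟶ X') (iY : Y ⟶ Y') (f : X ⟶ Y) (f' : X' ⟶ Y')
    (hY : MoreMor.IsThickening iY) (hc : IsPullback iX f f' iY) [LocallyOfFiniteType f] [LocallyOfFiniteType f'] :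
    Mono f ↔ Mono f' := by
  have ⟨hcl, hsurj⟩ := hY
  constructor
  · intro hf
    have hfu : FormallyUnramified f := inferInstance
    have hfu' : FormallyUnramified f' := (Groth.Agent.S1314.result iX iY f f' hY hc).mp hfu
    have hui : UniversallyInjective f' :=
      Flat2D.ThickMono.universallyInjective_of_thickening hc
    have hs : Surjective (pullback.diagonal f') := (UniversallyInjective.iff_diagonal f').mp hui
    have ho : IsOpenImmersion (pullback.diagonal f') := inferInstance
    have : IsIso (pullback.diagonal f') := by
      have : Epi (pullback.diagonal f').base := by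
        rw [TopCat.epi_iff_surjective]
        exact (pullback.diagonal f').surjective
      exact IsOpenImmersion.isIso (pullback.diagonal f')
    exact (pullback.isIso_diagonal_iff f').mp this
  · intro hf
    exact MorphismProperty.of_isPullback (P := MorphismProperty.monomorphisms Scheme.{u}) hc hf

end Groth.Agent.S1315
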