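import Groth.Statements.S1316
import Groth.Agent.S1315
import Groth.Agent.Flat2D.ThickImm

set_option autoImplicit false
universe u
open FlatMor

namespace Groth.Agent.S1316

open AlgebraicGeometry CategoryTheory Limits in
/-- Stacks Tag 0BPG, part (7): let Y ⟶ Y' be a thickening, let X be the base change to Y of a scheme X' over Y', and assume both X ⟶ Y and X' ⟶ Y' are locally of finite type. Then X ⟶ Y is an immersion if and only if X' ⟶ Y' is. -/
theorem result {X X' Y Y' : Scheme.{u}} (iX : X ⟶ X') (iY : Y ⟶ Y') (f : X ⟶ Y) (f' : X' ⟶ Y')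
    (hY : MoreMor.IsThickening iY) (hc : IsPullback iX f f' iY) [LocallyOfFiniteType f] [LocallyOfFiniteType f'] :
    IsImmersion f ↔ IsImmersion f' := by
  have ⟨hcl, hsurj⟩ := hY
  constructor
  · intro hf
    have hhomeo : IsHomeomorph iY :=
      isHomeomorph_iff_isEmbedding_surjective.mpr ⟨iY.isEmbedding, iY.surjective⟩
    obtain ⟨U', hU'⟩ : ∃ U' : Y'.Opens, iY ⁻¹ᵁ U' = f.coborderRange := by
      refine ⟨⟨iY '' (f.coborderRange : Set Y), hhomeo.isOpenMap _ f.coborderRange.isOpen⟩, ?_⟩
      ext x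
      change iY x ∈ iY '' (f.coborderRange : Set Y) ↔ _
      rw [hhomeo.injective.mem_set_image]
    have hrange : Set.range f' ⊆ Set.range U'.ι := by
      have hsX : Surjective iX := MorphismProperty.of_isPullback hc.flip hsurj
      rintro _ ⟨x', rfl⟩
      obtain ⟨x, rfl⟩ := iX.surjective x'
      rw [Scheme.Opens.range_ι, ← Scheme.Hom.comp_apply, hc.w, Scheme.Hom.comp_apply]
      change f x ∈ iY ⁻¹ᵁ U'
      rw [hU']
      exact subset_coborder ⟨x, rfl⟩
    let g' : X' ⟶ U' := IsOpenImmersion.lift U'.ι f' hrange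
    have hg' : g' ≫ U'.ι = f' := IsOpenImmersion.lift_fac _ _ _
    let g : X ⟶ (iY ⁻¹ᵁ U' : Y.Opens) := f.liftCoborder ≫ (Y.isoOfEq hU'.symm).hom
    have hg : g ≫ (iY ⁻¹ᵁ U').ι = f := by
      simp [g]
    have hgc : IsClosedImmersion g := inferInstance
    have hcg : IsPullback iX g g' (iY ∣_ U') := by
      have h2 : IsPullback (iY ∣_ U') (iY ⁻¹ᵁ U').ι U'.ι iY := isPullback_morphismRestrict iY U'
      refine IsPullback.of_bot (h₁₁ := iX) (h₂₁ := iY ∣_ U') (h₃₁ := iY) (v₁₁ := g) (v₁₂ := g')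
        (v₂₁ := (iY ⁻¹ᵁ U').ι) (v₂₂ := U'.ι) ?_ ?_ h2
      · rw [hg, hg']
        exact hc
      · rw [← cancel_mono U'.ι, Category.assoc, Category.assoc, hg', morphismRestrict_ι,
          ← Category.assoc, hg, hc.w]
    have hY' : MoreMor.IsThickening (iY ∣_ U') := ⟨inferInstance, IsZariskiLocalAtTarget.restrict hsurj U'⟩
    have : LocallyOfFiniteType g' := by
      have : LocallyOfFiniteType (g' ≫ U'.ι) := by rw [hg']; infer_instance
      exact locallyOfFiniteType_of_comp g' U'.ι
    have : IsClosedImmersion g' :=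
      Flat2D.ThickImm.isClosedImmersion_of_thickening hY' hcg
    rw [← hg']
    infer_instance
  · intro hf
    exact MorphismProperty.of_isPullback hc hf

end Groth.Agent.S1316
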