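import Groth.Statements.S1317
import Groth.Agent.Flat2D.NilpFlat2

set_option autoImplicit false
universe u
open FlatMor

namespace Groth.Agent.S1317

open AlgebraicGeometry CategoryTheory Limits in
/-- the kernel of a finite order thickening is nilpotent on affine opens -/
theorem isNilpotent_ker {S S' : Scheme.{u}} (iS : S ⟶ S') (hS : MoreMor.IsFiniteOrderThickening iS)
    (W : S'.affineOpens) : IsNilpotent (RingHom.ker (iS.app W.1).hom) := by
  obtain ⟨⟨h1, h2⟩, n, hn⟩ := hS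
  refine ⟨n, ?_⟩
  rw [← Scheme.Hom.ker_apply iS W]
  have h3 := congrArg (fun I : S'.IdealSheafData => I.ideal W) hn
  simp only [Scheme.IdealSheafData.ideal_pow, Pi.pow_apply] at h3
  exact h3

open AlgebraicGeometry CategoryTheory Limits in
/-- Stacks Tag 06AG, part (1): let S ⟶ S' be a finite order thickening, let X' ⟶ Y' be a morphism of schemes over S' with X' flat over S', and let X ⟶ Y be its base change to S. Then X ⟶ Y is flat if and only if X' ⟶ Y' is. -/
theorem result {X X' Y Y' S S' : Scheme.{u}} (iX : X ⟶ X') (iY : Y ⟶ Y') (iS : S ⟶ S')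
    (f : X ⟶ Y) (f' : X' ⟶ Y') (g : Y ⟶ S) (g' : Y' ⟶ S')
    (hS : MoreMor.IsFiniteOrderThickening iS) (hcX : IsPullback iX (f ≫ g) (f' ≫ g') iS) (hcY : IsPullback iY g g' iS)
    (w : iX ≫ f' = f ≫ iY) [Flat (f' ≫ g')] :
    Flat f ↔ Flat f' := by
  have hc : IsPullback iX f f' iY := IsPullback.of_bot hcX w hcY
  constructor
  · intro hf
    have hclS : IsClosedImmersion iS := hS.1.1
    have hclY : IsClosedImmersion iY := MorphismProperty.of_isPullback hcY.flip hclS
    rw [HasRingHomProperty.iff_exists_appLE (P := @Flat)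
      (RingHom.Flat.stableUnderComposition.stableUnderCompositionWithLocalizationAway
        RingHom.Flat.holdsForLocalizationAway).1]
    intro x
    obtain ⟨W, hW, hxW, -⟩ := TopologicalSpace.Opens.isBasis_iff_nbhd.mp S'.isBasis_affineOpens
      (TopologicalSpace.Opens.mem_top (g' (f' x)))
    obtain ⟨V, hV, hxV, hVW⟩ := TopologicalSpace.Opens.isBasis_iff_nbhd.mp Y'.isBasis_affineOpens
      (show f' x ∈ g' ⁻¹ᵁ W from hxW)
    obtain ⟨U, hU, hxU, hUV⟩ := TopologicalSpace.Opens.isBasis_iff_nbhd.mp X'.isBasis_affineOpens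
      (show x ∈ f' ⁻¹ᵁ V from hxV)
    refine ⟨⟨V, hV⟩, ⟨U, hU⟩, hxU, hUV, ?_⟩
    have eY : iY ⁻¹ᵁ V = iY ⁻¹ᵁ V ⊓ g ⁻¹ᵁ (iS ⁻¹ᵁ W) := by
      refine le_antisymm (le_inf le_rfl ?_) inf_le_left
      rw [← Scheme.Hom.comp_preimage, ← hcY.w, Scheme.Hom.comp_preimage]
      exact fun y hy => hVW hy
    have eX : iX ⁻¹ᵁ U = iX ⁻¹ᵁ U ⊓ f ⁻¹ᵁ (iY ⁻¹ᵁ V) := by
      refine le_antisymm (le_inf le_rfl ?_) inf_le_left
      rw [← Scheme.Hom.comp_preimage, ← hc.w, Scheme.Hom.comp_preimage]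
      exact fun y hy => hUV hy
    have hiY : IsAffineOpen (iY ⁻¹ᵁ V) := hV.preimage iY
    have hiX : IsAffineOpen (iX ⁻¹ᵁ U) := by
      have : IsClosedImmersion iX := MorphismProperty.of_isPullback hc.flip hclY
      exact hU.preimage iX
    have pY := (isIso_pushoutSection_iff hcY (US := W) (UT := iS ⁻¹ᵁ W) (UX := V)
      (UY := iY ⁻¹ᵁ V) le_rfl hVW eY).1 (isIso_pushoutSection_of_isAffineOpen hcY le_rfl hVW eY hW
        (hW.preimage iS) hV)
    have pX := (isIso_pushoutSection_iff hc (US := V) (UT := iY ⁻¹ᵁ V) (UX := U)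
      (UY := iX ⁻¹ᵁ U) le_rfl hUV eX).1 (isIso_pushoutSection_of_isAffineOpen hc le_rfl hUV eX hV
        hiY hU)
    refine Groth.Agent.Flat2D.NilpFlat2.ringHom_flat_of_isPushout pY.flip pX.flip ?_ ?_ ?_ ?_
    · rw [← Scheme.Hom.app_eq_appLE]
      exact iS.app_surjective W hW
    · rw [← Scheme.Hom.app_eq_appLE]
      exact isNilpotent_ker iS hS ⟨W, hW⟩
    · rw [Scheme.Hom.appLE_comp_appLE]
      exact HasRingHomProperty.appLE (P := @Flat) (f' ≫ g') inferInstance ⟨W, hW⟩ ⟨U, hU⟩ _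
    · exact HasRingHomProperty.appLE (P := @Flat) f hf ⟨_, hiY⟩ ⟨_, hiX⟩ _
  · intro hf'
    exact MorphismProperty.of_isPullback hc hf'

end Groth.Agent.S1317
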