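import Groth.Statements.S1322
-- import your own Groth.Agent.* helpers here
import Groth.Agent.S1314
import Groth.Agent.S1317
import Groth.Agent.S1320
import Groth.Agent.Flat2D.DeformFib

set_option autoImplicit false
universe u
open FlatMor

namespace Groth.Agent.S1322

open AlgebraicGeometry CategoryTheory Limits in
/-- Stacks Tag 06AG, part (19): let S ⟶ S' be a finite order thickening, let X' ⟶ Y' be a morphism of schemes over S' with X' flat over S', and let X ⟶ Y be its base change to S. Then X ⟶ Y is étale if and only if X' ⟶ Y' is. -/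
theorem result {X X' Y Y' S S' : Scheme.{u}} (iX : X ⟶ X') (iY : Y ⟶ Y') (iS : S ⟶ S')
    (f : X ⟶ Y) (f' : X' ⟶ Y') (g : Y ⟶ S) (g' : Y' ⟶ S')
    (hS : MoreMor.IsFiniteOrderThickening iS) (hcX : IsPullback iX (f ≫ g) (f' ≫ g') iS) (hcY : IsPullback iY g g' iS)
    (w : iX ≫ f' = f ≫ iY) [Flat (f' ≫ g')] :
    Etale f ↔ Etale f' := by
  have hc : IsPullback iX f f' iY := Flat2D.DeformFib.isPullback_top hcX hcY w
  refine ⟨fun h => ?_, fun h => MorphismProperty.of_isPullback hc h⟩
  have h1 : Flat f' := (S1317.result iX iY iS f f' g g' hS hcX hcY w).mp inferInstance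
  have h2 : LocallyOfFinitePresentation f' :=
    (S1320.result iX iY iS f f' g g' hS hcX hcY w).mp inferInstance
  have : IsClosedImmersion iS := hS.1.1
  have : Surjective iS := hS.1.2
  have h3 : IsClosedImmersion iY := MorphismProperty.of_isPullback hcY.flip ‹_›
  have h4 : Surjective iY := MorphismProperty.of_isPullback hcY.flip ‹_›
  have h5 : FormallyUnramified f' := (S1314.result iX iY f f' ⟨h3, h4⟩ hc).mp inferInstance
  exact Etale.iff_flat_and_formallyUnramified.mpr ⟨h1, h5, h2⟩

end Groth.Agent.S1322
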