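import Groth.Statements.S1323
-- import your own Groth.Agent.* helpers here
import Groth.Agent.S1317
import Groth.Agent.S1320
import Groth.Agent.Flat2D.ThickTop

set_option autoImplicit false
universe u
open FlatMor

namespace Groth.Agent.S1323

open AlgebraicGeometry CategoryTheory Limits in
/-- Stacks Tag 06AG, part (23): let S ⟶ S' be a finite order thickening, let X' ⟶ Y' be a morphism of schemes over S' with X' flat over S', and let X ⟶ Y be its base change to S. Then X ⟶ Y is finite locally free of rank d if and only if X' ⟶ Y' is. -/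
theorem result (d : ℕ) {X X' Y Y' S S' : Scheme.{u}} (iX : X ⟶ X') (iY : Y ⟶ Y') (iS : S ⟶ S')
    (f : X ⟶ Y) (f' : X' ⟶ Y') (g : Y ⟶ S) (g' : Y' ⟶ S')
    (hS : MoreMor.IsFiniteOrderThickening iS) (hcX : IsPullback iX (f ≫ g) (f' ≫ g') iS) (hcY : IsPullback iY g g' iS)
    (w : iX ≫ f' = f ≫ iY) [Flat (f' ≫ g')] :
    Mor2.IsFinLocFreeOfDeg d f ↔ Mor2.IsFinLocFreeOfDeg d f' := by
  have hc : IsPullback iX f f' iY := Flat2D.DeformFib.isPullback_top hcX hcY w
  have : IsClosedImmersion iS := hS.1.1
  have : Surjective iS := hS.1.2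
  have h3 : IsClosedImmersion iY := MorphismProperty.of_isPullback hcY.flip ‹_›
  have h4 : Surjective iY := MorphismProperty.of_isPullback hcY.flip ‹_›
  constructor
  · rintro ⟨⟨hf1, hf2, hf3⟩, hd⟩
    have h1 : Flat f' := (S1317.result iX iY iS f f' g g' hS hcX hcY w).mp inferInstance
    have h2 : LocallyOfFinitePresentation f' :=
      (S1320.result iX iY iS f f' g g' hS hcX hcY w).mp inferInstance
    have h5 : IsFinite f' := Flat2D.ThickTop.isFinite hc
    refine ⟨⟨h5, h1, h2⟩, fun y' => ?_⟩
    obtain ⟨y, rfl⟩ := iY.surjective y'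
    rw [← Scheme.Hom.finrank_of_isPullback iX f f' iY hc y]
    exact hd y
  · rintro ⟨⟨hf1, hf2, hf3⟩, hd⟩
    refine ⟨⟨MorphismProperty.of_isPullback hc hf1, MorphismProperty.of_isPullback hc hf2,
      MorphismProperty.of_isPullback hc hf3⟩, fun y => ?_⟩
    rw [Scheme.Hom.finrank_of_isPullback iX f f' iY hc y]
    exact hd _

end Groth.Agent.S1323
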