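import Groth.Statements.S1328
import Groth.Agent.Flat2D.GenFibComp

set_option autoImplicit false
universe u
open FlatMor

namespace Groth.Agent.S1328

open AlgebraicGeometry CategoryTheory Limits in
/-- Stacks Tag 0554: let f be of finite type with irreducible target. If the generic fibre has exactly n irreducible components, then over some nonempty open of the target every fibre has at least n irreducible components. -/
theorem result {X Y : Scheme.{u}} (f : X ⟶ Y) [IrreducibleSpace ↑Y] [LocallyOfFiniteType f] [QuasiCompact f] (n : ℕ)
    (h : (irreducibleComponents ↑(f.fiber (genericPoint ↑Y))).encard = n) :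
    ∃ V : Y.Opens, (V : Set ↑Y).Nonempty ∧ ∀ y ∈ V, (n : ℕ∞) ≤ (irreducibleComponents ↑(f.fiber y)).encard := by
  obtain ⟨U, hU, hne, hd⟩ := Flat2D.GenFibComp.exists_disjoint_opens_of_encard_eq h
  obtain ⟨V, hV, H⟩ := Flat2D.GenFibComp.exists_opens_of_disjoint_family f U hU hne hd
  refine ⟨V, hV, fun y hy => ?_⟩
  obtain ⟨U', hU', hne', hd', -⟩ := H y hy
  exact Flat2D.GenFibComp.le_encard_irreducibleComponents U' hU' hne' hd'

end Groth.Agent.S1328
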