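import Groth.Statements.S1334
import Groth.Agent.Flat2D.GeomFib

set_option autoImplicit false
universe u
open FlatMor

namespace Groth.Agent.S1334

open AlgebraicGeometry CategoryTheory Limits in
/-- Stacks Tag 0556: the function on the target counting the irreducible components of the geometric fibres (fibres base changed to a separable closure of the residue field) is compatible with base change: for a cartesian square it is obtained on the new base by composing with the map to the old base. (This expresses that the count does not depend on the separably closed field used.) -/
theorem result {X Y X' Y' : Scheme.{u}} (f : X ⟶ Y) (f' : X' ⟶ Y') (g' : X' ⟶ X) (g : Y' ⟶ Y)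
    (hc : IsPullback g' f' f g) (y' : Y') :
    MoreMor.nGeomIrredComp f' y' = MoreMor.nGeomIrredComp f (g y') := by
  exact Groth.Agent.Flat2D.GeomFib.nGeomIrredComp_baseChange f f' g' g hc y'

end Groth.Agent.S1334
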