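import Groth.Statements.S1335
import Groth.Agent.Flat2D.GeomFib

set_option autoImplicit false
universe u
open FlatMor

namespace Groth.Agent.S1335

open AlgebraicGeometry CategoryTheory Limits in
/-- Stacks Tag 055F: the function on the target counting the connected components of the geometric fibres is compatible with base change: for a cartesian square it is obtained on the new base by composing with the map to the old base. -/
theorem result {X Y X' Y' : Scheme.{u}} (f : X ⟶ Y) (f' : X' ⟶ Y') (g' : X' ⟶ X) (g : Y' ⟶ Y)
    (hc : IsPullback g' f' f g) (y' : Y') :
    MoreMor.nGeomConnComp f' y' = MoreMor.nGeomConnComp f (g y') := by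
  exact Groth.Agent.Flat2D.GeomFib.nGeomConnComp_baseChange f f' g' g hc y'

end Groth.Agent.S1335
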