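import Groth.Statements.S1338
import Groth.Agent.S1334
import Groth.Agent.S1336
import Groth.Agent.Flat2D.ConstrBC

set_option autoImplicit false
universe u
open FlatMor

namespace Groth.Agent.S1338

open AlgebraicGeometry CategoryTheory Limits in
/-- Stacks Tag 055B: for a morphism of finite presentation, each level set of the function counting the irreducible components of the geometric fibres is locally constructible in the target. -/
theorem result {X Y : Scheme.{u}} (f : X ⟶ Y) [LocallyOfFinitePresentation f] [QuasiCompact f] [QuasiSeparated f] (n : ℕ∞) :
    Topology.IsLocallyConstructible {y : ↑Y | MoreMor.nGeomIrredComp f y = n} := by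
  exact Groth.Agent.Flat2D.ConstrBC.isLocallyConstructible (fun f => MoreMor.nGeomIrredComp f)
    (fun f f' g' g hc y' => Groth.Agent.S1334.result f f' g' g hc y')
    (fun f _ _ _ _ _ y => Groth.Agent.S1336.result f y) f n

end Groth.Agent.S1338
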