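import Groth.Statements.S1344
import Groth.Agent.S1343
import Groth.Agent.Flat2D.DimLoc
import Groth.Agent.Flat2D.LfpComp
import Groth.Agent.VarietyB.DimTop

set_option autoImplicit false
universe u
open FlatMor

namespace Groth.Agent.S1344

open AlgebraicGeometry CategoryTheory Limits in
/-- Stacks Tag 0AFG: let f be locally of finite type between locally Noetherian schemes and Cohen–Macaulay at every point. Then for every point x of the source with image y, the local dimension of the source at x equals the local dimension of the target at y plus the local dimension at x of the fibre over y. -/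
theorem result {X Y : Scheme.{u}} (f : X ⟶ Y) [IsLocallyNoetherian X] [IsLocallyNoetherian Y] [LocallyOfFiniteType f]
    (hf : ∀ x : X, MoreMor.IsCMAt f x) (x : X) :
    FlatMor.localDim ↑X x = FlatMor.localDim ↑Y (f x) + FlatMor.fibreDimAt f x := by
  have hflat : Flat f := Flat.of_stalkMap f fun y => (hf y).1
  have hfib : LocallyOfFiniteType (f.fiberToSpecResidueField (f x)) :=
    MorphismProperty.pullback_snd _ _ inferInstance
  obtain ⟨d, hd⟩ := @Flat2D.DimLoc.exists_localDim_eq _ (Y.residueField (f x)) _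
    (f.fiberToSpecResidueField (f x)) hfib (f.asFiber x)
  have hd' : FlatMor.fibreDimAt f x = d := hd
  obtain ⟨U, g, hxU, hg, hgf, hgq⟩ := (Groth.Agent.S1343.result f x d hd').mp (hf x)
  have hlfp : LocallyOfFinitePresentation (g ≫ (𝔸(ULift.{u} (Fin d); Y) ↘ Y)) := by
    rw [hg]
    infer_instance
  have hglfp : LocallyOfFinitePresentation g :=
    Flat2D.LfpComp.lfp_of_comp g (𝔸(ULift.{u} (Fin d); Y) ↘ Y)
  have h1 : FlatMor.localDim (U : Scheme.{u}) (⟨x, hxU⟩ : U) = FlatMor.localDim X x :=
    VarietyB.DimTop.localDim_opens U ⟨x, hxU⟩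
  have h2 := Flat2D.DimMap.localDim_eq_of_flat_locallyQuasiFinite g (⟨x, hxU⟩ : U)
  have h3 := Flat2D.DimLoc.localDim_affineSpace (ULift.{u} (Fin d)) Y (g (⟨x, hxU⟩ : U))
  have h4 : (𝔸(ULift.{u} (Fin d); Y) ↘ Y) (g (⟨x, hxU⟩ : U)) = f x := by
    rw [← Scheme.Hom.comp_apply, hg]
    rfl
  rw [← h1, h2, h3, h4, hd', Nat.card_eq_fintype_card, Fintype.card_ulift, Fintype.card_fin]

end Groth.Agent.S1344
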