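import Groth.Statements.S1348
import Groth.Agent.Flat2D.SliceAway

set_option autoImplicit false
universe u
open FlatMor

namespace Groth.Agent.S1348

open AlgebraicGeometry CategoryTheory Limits in
/-- Stacks Tag 056Y: let f be locally of finite presentation and flat at a point x with image s, and let h be an element of the maximal ideal of the local ring at x whose image in the local ring of the fibre (the local ring at x modulo the ideal generated by the maximal ideal at s) is a nonzerodivisor. Then there is an affine open neighbourhood U of x and a nonzerodivisor of its coordinate ring with germ h at x (so its zero locus is an effective Cartier divisor of U through x) whose zero scheme is flat and locally of finite presentation over the base. -/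
theorem result {X S : Scheme.{u}} (f : X ⟶ S) [LocallyOfFinitePresentation f] (x : X)
    (hflat : (f.stalkMap x).hom.Flat) (h : X.presheaf.stalk x) (hm : h ∈ IsLocalRing.maximalIdeal (X.presheaf.stalk x))
    (hreg : Ideal.Quotient.mk (Ideal.map (f.stalkMap x).hom (IsLocalRing.maximalIdeal (S.presheaf.stalk (f x)))) h ∈
      nonZeroDivisors (X.presheaf.stalk x ⧸ Ideal.map (f.stalkMap x).hom (IsLocalRing.maximalIdeal (S.presheaf.stalk (f x))))) :
    ∃ (U : X.Opens) (hU : IsAffineOpen U) (hx : x ∈ U) (h' : Γ(X, U)), X.presheaf.germ U x hx h' = h ∧ h' ∈ nonZeroDivisors Γ(X, U) ∧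
      Flat (Spec.map (CommRingCat.ofHom (Ideal.Quotient.mk (Ideal.span {h'}))) ≫ hU.fromSpec ≫ f) ∧
      LocallyOfFinitePresentation (Spec.map (CommRingCat.ofHom (Ideal.Quotient.mk (Ideal.span {h'}))) ≫ hU.fromSpec ≫ f) := by
  obtain ⟨V, hV, hfV, -⟩ := exists_isAffineOpen_mem_and_subset (X := S) (x := f x) (U := ⊤) trivial
  obtain ⟨W, hxW, h₀, hh₀⟩ := X.presheaf.exists_germ_eq h
  obtain ⟨U, hU, hxU, hUW⟩ := exists_isAffineOpen_mem_and_subset (X := X) (x := x)
    (U := W ⊓ f ⁻¹ᵁ V) ⟨hxW, hfV⟩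
  have hUW' : U ≤ W := hUW.trans inf_le_left
  have hUV : U ≤ f ⁻¹ᵁ V := hUW.trans inf_le_right
  let h₁ : Γ(X, U) := X.presheaf.map (homOfLE hUW').op h₀
  have hh₁ : X.presheaf.germ U x hxU h₁ = h := by
    rw [← hh₀]
    exact X.presheaf.germ_res_apply (homOfLE hUW') x hxU h₀
  -- the ring-level data
  letI algRA : Algebra Γ(S, V) Γ(X, U) := (f.appLE V U hUV).hom.toAlgebra
  letI algRRp : Algebra Γ(S, V) (S.presheaf.stalk (f x)) := S.presheaf.algebra_section_stalk ⟨f x, hfV⟩
  letI algAAq : Algebra Γ(X, U) (X.presheaf.stalk x) := X.presheaf.algebra_section_stalk ⟨x, hxU⟩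
  letI algRpAq : Algebra (S.presheaf.stalk (f x)) (X.presheaf.stalk x) := (f.stalkMap x).hom.toAlgebra
  letI algRAq : Algebra Γ(S, V) (X.presheaf.stalk x) :=
    ((algebraMap Γ(X, U) (X.presheaf.stalk x)).comp (algebraMap Γ(S, V) Γ(X, U))).toAlgebra
  haveI : IsScalarTower Γ(S, V) Γ(X, U) (X.presheaf.stalk x) := IsScalarTower.of_algebraMap_eq' rfl
  haveI : IsScalarTower Γ(S, V) (S.presheaf.stalk (f x)) (X.presheaf.stalk x) :=
    IsScalarTower.of_algebraMap_eq fun r => by
      change X.presheaf.germ U x hxU (f.appLE V U hUV r) = f.stalkMap x (S.presheaf.germ V (f x) hfV r)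
      rw [Scheme.Hom.germ_stalkMap_apply, Scheme.Hom.appLE, CommRingCat.comp_apply,
        X.presheaf.germ_res_apply]
  haveI : Algebra.FinitePresentation Γ(S, V) Γ(X, U) :=
    f.finitePresentation_appLE hV hU hUV
  haveI : IsLocalHom (algebraMap (S.presheaf.stalk (f x)) (X.presheaf.stalk x)) :=
    inferInstanceAs (IsLocalHom (f.stalkMap x).hom)
  haveI : IsLocalization.AtPrime (S.presheaf.stalk (f x)) (hV.primeIdealOf ⟨f x, hfV⟩).asIdeal :=
    hV.isLocalization_stalk ⟨f x, hfV⟩
  haveI : IsLocalization.AtPrime (X.presheaf.stalk x) (hU.primeIdealOf ⟨x, hxU⟩).asIdeal :=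
    hU.isLocalization_stalk ⟨x, hxU⟩
  haveI : Module.Flat (S.presheaf.stalk (f x)) (X.presheaf.stalk x) := hflat
  have hcomap : (hU.primeIdealOf ⟨x, hxU⟩).asIdeal.comap (algebraMap Γ(S, V) Γ(X, U)) =
      (hV.primeIdealOf ⟨f x, hfV⟩).asIdeal :=
    congrArg PrimeSpectrum.asIdeal (IsAffineOpen.comap_primeIdealOf_appLE V hV U hU hUV hxU)
  have hq : h₁ ∈ (hU.primeIdealOf ⟨x, hxU⟩).asIdeal := by
    rw [← IsLocalization.AtPrime.to_map_mem_maximal_iff (X.presheaf.stalk x)
      (hU.primeIdealOf ⟨x, hxU⟩).asIdeal h₁]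
    change X.presheaf.germ U x hxU h₁ ∈ _
    rw [hh₁]
    exact hm
  obtain ⟨g, hg, hg2⟩ := Flat2D.SliceAway.exists_away (R := Γ(S, V)) (A := Γ(X, U))
    (Rp := S.presheaf.stalk (f x)) (Aq := X.presheaf.stalk x) (hV.primeIdealOf ⟨f x, hfV⟩).asIdeal
    (hU.primeIdealOf ⟨x, hxU⟩).asIdeal hcomap h₁ hq (by
      intro b hb
      change X.presheaf.germ U x hxU h₁ * b ∈ _ at hb
      rw [hh₁] at hb
      change b ∈ Ideal.map (f.stalkMap x).hom (IsLocalRing.maximalIdeal (S.presheaf.stalk (f x)))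
      rw [← Ideal.Quotient.eq_zero_iff_mem]
      rw [mem_nonZeroDivisors_iff_right] at hreg
      apply hreg
      rw [← map_mul, mul_comm, Ideal.Quotient.eq_zero_iff_mem]
      exact hb)
  have hxg : x ∈ X.basicOpen g := by
    rw [X.mem_basicOpen g x hxU]
    exact (IsLocalization.AtPrime.isUnit_to_map_iff (X.presheaf.stalk x)
      (hU.primeIdealOf ⟨x, hxU⟩).asIdeal g).mpr hg
  haveI hloc : IsLocalization.Away g Γ(X, X.basicOpen g) := hU.isLocalization_basicOpen g
  have hle : X.basicOpen g ≤ U := X.basicOpen_le g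
  have hUV' : X.basicOpen g ≤ f ⁻¹ᵁ V := hle.trans hUV
  letI algRAg : Algebra Γ(S, V) Γ(X, X.basicOpen g) := (f.appLE V (X.basicOpen g) hUV').hom.toAlgebra
  have hmap : ∀ a : Γ(X, U), algebraMap Γ(X, U) Γ(X, X.basicOpen g) a =
      X.presheaf.map (homOfLE hle).op a := fun _ => rfl
  haveI : IsScalarTower Γ(S, V) Γ(X, U) Γ(X, X.basicOpen g) :=
    IsScalarTower.of_algebraMap_eq fun r => by
      rw [hmap]
      change f.appLE V (X.basicOpen g) hUV' r = X.presheaf.map (homOfLE hle).op (f.appLE V U hUV r)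
      rw [← CommRingCat.comp_apply, Scheme.Hom.appLE_map]
  obtain ⟨hnzd, hfl⟩ := hg2 Γ(X, X.basicOpen g)
  rw [hmap] at hnzd hfl
  set h' : Γ(X, X.basicOpen g) := X.presheaf.map (homOfLE hle).op h₁ with hh'
  refine ⟨X.basicOpen g, hU.basicOpen g, hxg, h', ?_, hnzd, ?_, ?_⟩
  · rw [← hh₁]
    exact X.presheaf.germ_res_apply (homOfLE hle) x hxg h₁
  · rw [← hV.SpecMap_appLE_fromSpec f (hU.basicOpen g) hUV', ← Category.assoc, ← Spec.map_comp]
    have h1 : Flat (Spec.map (f.appLE V (X.basicOpen g) hUV' ≫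
        CommRingCat.ofHom (Ideal.Quotient.mk (Ideal.span {h'})))) := by
      rw [HasRingHomProperty.Spec_iff (P := @Flat)]
      exact hfl
    infer_instance
  · have h2 : LocallyOfFinitePresentation
        (Spec.map (CommRingCat.ofHom (Ideal.Quotient.mk (Ideal.span {h'})))) := by
      rw [HasRingHomProperty.Spec_iff (P := @LocallyOfFinitePresentation)]
      refine RingHom.FinitePresentation.of_surjective _ Ideal.Quotient.mk_surjective ?_
      rw [CommRingCat.hom_ofHom, Ideal.mk_ker]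
      exact ⟨{h'}, by simp⟩
    infer_instance

end Groth.Agent.S1348
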