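import Groth.Statements.S1349
import Groth.Agent.S1459
import Groth.Agent.Ega4dB.FibStalkOpen
import Groth.Agent.Ega4dB.ClosedStalk
import Groth.Agent.CalgB.CMPoly
import Groth.Agent.Flat2D.FiberStalk
import Groth.Agent.Flat2D.SliceQF

set_option autoImplicit false
universe u
open FlatMor

namespace Groth.Agent.S1349

open IsLocalRing RingTheory.Sequence

theorem eq_zero_of_add_natCast_eq {a : WithBot ℕ∞} {n : ℕ}
    (h : a + (n : WithBot ℕ∞) = n) : a = 0 := by
  induction a using WithBot.recBotCoe with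
  | bot => simp at h
  | coe a =>
    induction a using ENat.recTopCoe with
    | top =>
      have : ((⊤ : ℕ∞) : WithBot ℕ∞) + ((n : ℕ∞) : WithBot ℕ∞) = ((n : ℕ∞) : WithBot ℕ∞) := h
      rw [← WithBot.coe_add, WithBot.coe_eq_coe] at this
      simp at this
    | coe m =>
      have : ((m : ℕ∞) : WithBot ℕ∞) + ((n : ℕ∞) : WithBot ℕ∞) = ((n : ℕ∞) : WithBot ℕ∞) := h
      rw [← WithBot.coe_add, WithBot.coe_eq_coe] at this
      have h2 : m + n = n := by exact_mod_cast this
      have h3 : m = 0 := by omega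
      subst h3; rfl

open AlgebraicGeometry CategoryTheory Limits in
/-- Stacks Tag 0570: let f be locally of finite presentation and Cohen–Macaulay at a point x which is closed in its fibre. Then there are an open neighbourhood V of x and a regular closed immersion i into V whose image contains x, such that the composite Z ⟶ V ⟶ X ⟶ S is flat, locally of finite presentation and locally quasi-finite, and x is the only point of (the image of) Z lying over the image of x. -/
theorem result {X S : Scheme.{u}} (f : X ⟶ S) [LocallyOfFinitePresentation f] (x : X)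
    (hcm : MoreMor.IsCMAt f x) (hcl : IsClosed ({f.asFiber x} : Set ↑(f.fiber (f x)))) :
    ∃ (V : X.Opens) (Z : Scheme.{u}) (i : Z ⟶ (V : Scheme.{u})), Mor2.IsRegularClosedImmersion i ∧ x ∈ Set.range ⇑(i ≫ V.ι) ∧
      Flat (i ≫ V.ι ≫ f) ∧ LocallyOfFinitePresentation (i ≫ V.ι ≫ f) ∧ LocallyQuasiFinite (i ≫ V.ι ≫ f) ∧
      ∀ z : Z, f (V.ι (i z)) = f x → V.ι (i z) = x := by
  obtain ⟨hflat, hCM⟩ := hcm
  -- the fibre ring
  let I₀ : Ideal (X.presheaf.stalk x) := Flat2D.PbStalk.fiberIdeal f x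
  have hCM' : LocCoh.IsCohenMacaulayLocalRing (X.presheaf.stalk x ⧸ I₀) :=
    (Flat2D.FiberStalk.isCohenMacaulayLocalRing_iff_of_ringEquiv
      (Flat2D.PbStalk.fiberStalkEquiv f x)).2 hCM
  obtain ⟨rs, hmem, hwr, hlen⟩ :=
    CalgB.CMPoly.exists_seq_of_isCohenMacaulayLocalRing (X.presheaf.stalk x ⧸ I₀)
  have hreg : IsRegular (X.presheaf.stalk x ⧸ I₀) rs :=
    (IsLocalRing.isRegular_iff_isWeaklyRegular_of_subset_maximalIdeal hmem).2 hwr
  obtain ⟨hs, hhs⟩ := Divis.RegImm.exists_lift_list (Ideal.Quotient.mk I₀)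
    Ideal.Quotient.mk_surjective rs
  subst hhs
  have hdim : ringKrullDim ((X.presheaf.stalk x ⧸ I₀) ⧸
      Ideal.ofList (hs.map (Ideal.Quotient.mk I₀))) = 0 := by
    have h1 := ringKrullDim_add_length_eq_ringKrullDim_of_isRegular _ hreg
    rw [← hlen] at h1
    exact eq_zero_of_add_natCast_eq h1
  obtain ⟨U, hU, hx, hs', hmap, hregj, ⟨z, hz⟩, hfl, hlfp, -⟩ :=
    S1459.result f x hflat hs hreg
  let j : Spec (CommRingCat.of (Γ(X, U) ⧸ Ideal.ofList hs')) ⟶ (U : Scheme.{u}) :=
    Spec.map (CommRingCat.ofHom (Ideal.Quotient.mk (Ideal.ofList hs'))) ≫ hU.isoSpec.inv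
  have hj : j ≫ U.ι = Spec.map (CommRingCat.ofHom (Ideal.Quotient.mk (Ideal.ofList hs'))) ≫
      hU.fromSpec := by
    simp only [j, Category.assoc]; rfl
  have hj' : j ≫ U.ι ≫ f = (Spec.map (CommRingCat.ofHom (Ideal.Quotient.mk (Ideal.ofList hs'))) ≫
      hU.fromSpec) ≫ f := by
    rw [← hj]; rfl
  have hz' : U.ι (j z) = x := by
    rw [← hz]
    exact congr($(hj) z)
  rw [← Category.assoc] at hfl hlfp
  subst hz
  have hdimz : ringKrullDim (CInt.fiberStalk (j ≫ U.ι ≫ f) z) = 0 := by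
    rw [hj']
    unfold CInt.fiberStalk
    rw [← ringKrullDim_eq_of_ringEquiv (Flat2D.PbStalk.fiberStalkEquiv _ z)]
    obtain ⟨e⟩ := Ega4dB.FibStalkOpen.nonempty_equiv_of_surjective
      (Spec.map (CommRingCat.ofHom (Ideal.Quotient.mk (Ideal.ofList hs'))) ≫ hU.fromSpec) f z
      (Scheme.Hom.stalkMap_surjective _ z) _
      (Ega4dB.ClosedStalk.ker_specQuot_stalkMap hU (Ideal.ofList hs') z)
    rw [ringKrullDim_eq_of_ringEquiv e, ← hdim]
    refine ringKrullDim_eq_of_ringEquiv (Ideal.quotEquivOfEq ?_)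
    rw [Ideal.map_ofList, Ideal.map_ofList, ← hmap]
  have hcl' : IsClosed ({f.asFiber (U.ι (j z))} : Set (f.fiber (f (U.ι (j z))))) := by
    rw [hz']; exact hcl
  have key := Flat2D.SliceQF.exists_quasiFinite_shrink f U j hregj z hcl'
    (by rw [hj']; exact hfl) (by rw [hj']; exact hlfp) hdimz
  rwa [hz'] at key

end Groth.Agent.S1349
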