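import Groth.Statements.S1350
import Mathlib.AlgebraicGeometry.Stalk
import Mathlib.RingTheory.Smooth.Basic
import Mathlib.RingTheory.Smooth.Locus

set_option autoImplicit false
universe u
open FlatMor

namespace Groth.Agent.S1350

theorem formallySmooth_of_local_lifting {A C : Type u} [CommRing A] [CommRing C] [IsLocalRing C]
    [Algebra A C]
    (H : ∀ (B' : Type u) [CommRing B'] [IsLocalRing B'] [Algebra A B'] (φ : B' →ₐ[A] C),
      Function.Surjective φ → RingHom.ker φ.toRingHom ^ 2 = ⊥ →
        ∃ g : C →ₐ[A] B', φ.comp g = AlgHom.id A C) :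
    Algebra.FormallySmooth A C := by
  classical
  let P₀ := MvPolynomial C A
  let π₀ : P₀ →ₐ[A] C := MvPolynomial.aeval id
  have hπ₀ : Function.Surjective π₀ := fun c =>
    ⟨MvPolynomial.X c, MvPolynomial.aeval_X _ _⟩
  let q : Ideal P₀ := (IsLocalRing.maximalIdeal C).comap π₀.toRingHom
  have hq : q.IsPrime := Ideal.IsPrime.comap _
  let P := Localization.AtPrime q
  have hu : ∀ y : q.primeCompl, IsUnit (π₀ y) := by
    intro y
    by_contra hy
    exact y.2 ((IsLocalRing.mem_maximalIdeal _).mpr hy)
  let π : P →ₐ[A] C := IsLocalization.liftAlgHom (M := q.primeCompl) (f := π₀) hu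
  have hπ : ∀ y : P₀, π (algebraMap P₀ P y) = π₀ y := fun y => by
    simp [π]
  have hsurj : Function.Surjective π := fun c => by
    obtain ⟨y, rfl⟩ := hπ₀ c
    exact ⟨algebraMap P₀ P y, hπ y⟩
  have h1 : Algebra.FormallySmooth P₀ P := Algebra.FormallySmooth.of_isLocalization q.primeCompl
  have h2 : Algebra.FormallySmooth A P := Algebra.FormallySmooth.comp A P₀ P
  let J := RingHom.ker π.toRingHom
  have hs : Function.Surjective π.kerSquareLift :=
    Ideal.Quotient.lift_surjective_of_surjective _ _ hsurj
  have hnt : Nontrivial (P ⧸ J ^ 2) := by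
    have : Function.Surjective π.kerSquareLift.toRingHom := hs
    exact this.nontrivial
  have hl : IsLocalRing (P ⧸ J ^ 2) := IsLocalRing.of_surjective' (Ideal.Quotient.mk (J^2)) Ideal.Quotient.mk_surjective
  have sqz : RingHom.ker π.kerSquareLift.toRingHom ^ 2 = ⊥ := by
    rw [AlgHom.ker_kerSquareLift, Ideal.cotangentIdeal_square]
  obtain ⟨g, hg⟩ := H (P ⧸ J ^ 2) π.kerSquareLift hs sqz
  exact Algebra.FormallySmooth.of_split π g hg

open AlgebraicGeometry CategoryTheory Limits in
theorem exists_stalk_hom {X : Scheme.{u}} {R : CommRingCat.{u}} [IsLocalRing R] (γ : Spec R ⟶ X)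
    (x : X) (h : γ (IsLocalRing.closedPoint R) = x) :
    ∃ g : X.presheaf.stalk x ⟶ R, IsLocalHom g.hom ∧ Spec.map g ≫ X.fromSpecStalk x = γ := by
  subst h
  exact ⟨Scheme.stalkClosedPointTo γ, inferInstance,
    Scheme.Spec_stalkClosedPointTo_fromSpecStalk γ⟩

open AlgebraicGeometry CategoryTheory Limits in
theorem comp_apply_eq {X Y Z : Scheme.{u}} (f : X ⟶ Y) (g : Y ⟶ Z) (h : X ⟶ Z) (w : f ≫ g = h)
    (x : X) : g (f x) = h x := by
  rw [← w]; rfl

theorem closedPoint_eq {B B' : Type u} [CommRing B] [CommRing B'] [IsLocalRing B] [IsLocalRing B']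
    (φ : B' →+* B) (hφ : Function.Surjective φ) :
    PrimeSpectrum.comap φ (IsLocalRing.closedPoint B) = IsLocalRing.closedPoint B' := by
  have : IsLocalHom φ := IsLocalHom.of_surjective φ hφ
  exact IsLocalRing.comap_closedPoint φ

open AlgebraicGeometry CategoryTheory Limits in
/-- Stacks Tag 02HX, (1) ⇔ (2): let S be locally Noetherian and f locally of finite type (here phrased as locally of finite presentation, which is equivalent over a locally Noetherian base and needed to speak of the smooth locus), and let x be a point of the source. Then x lies in the smooth locus of f if and only if for every surjection of local rings B' → B with square-zero kernel, every morphism Spec B → X sending the closed point to x and every morphism Spec B' → S making the square commute, there is a lift Spec B' → X compatible with both. -/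
theorem result {X S : Scheme.{u}} (f : X ⟶ S) [IsLocallyNoetherian S] [LocallyOfFinitePresentation f] (x : X) :
    x ∈ f.smoothLocus ↔ ∀ (B B' : Type u) [CommRing B] [CommRing B'] [IsLocalRing B] [IsLocalRing B'] (φ : B' →+* B),
      Function.Surjective φ → RingHom.ker φ ^ 2 = ⊥ →
      ∀ (α : Spec (CommRingCat.of B) ⟶ X) (β : Spec (CommRingCat.of B') ⟶ S),
        α (IsLocalRing.closedPoint B) = x → Spec.map (CommRingCat.ofHom φ) ≫ β = α ≫ f →
        ∃ γ : Spec (CommRingCat.of B') ⟶ X, Spec.map (CommRingCat.ofHom φ) ≫ γ = α ∧ γ ≫ f = β := by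
  rw [Scheme.Hom.mem_smoothLocus]
  constructor
  · intro hsm B B' _ _ _ _ φ hφ hk α β hα w
    obtain ⟨a, -, ha⟩ := exists_stalk_hom α x hα
    have hβ : β (IsLocalRing.closedPoint B') = f x := by
      rw [← closedPoint_eq φ hφ]
      have h1 := comp_apply_eq _ _ _ w (IsLocalRing.closedPoint B)
      have h2 := comp_apply_eq α f _ rfl (IsLocalRing.closedPoint B)
      rw [hα] at h2
      exact h1.trans h2.symm
    obtain ⟨b, -, hb⟩ := exists_stalk_hom β (f x) hβ
    have hab : b ≫ CommRingCat.ofHom φ = f.stalkMap x ≫ a := by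
      apply Spec.map_injective
      rw [← cancel_mono (S.fromSpecStalk (f x)), Spec.map_comp, Spec.map_comp, Category.assoc,
        Category.assoc, hb, w, Scheme.SpecMap_stalkMap_fromSpecStalk, ← ha, Category.assoc]
    let A := S.presheaf.stalk (f x)
    let C := X.presheaf.stalk x
    let _ : Algebra A C := (f.stalkMap x).hom.toAlgebra
    have : Algebra.FormallySmooth A C := hsm
    let _ : Algebra A B' := b.hom.toAlgebra
    let _ : Algebra A B := (φ.comp b.hom).toAlgebra
    let φ' : B' →ₐ[A] B := { φ with commutes' := fun r => rfl }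
    let a' : C →ₐ[A] B := { a.hom with commutes' := fun r => (congr($(hab).hom r)).symm }
    let l : C →ₐ[A] B' := Algebra.FormallySmooth.liftOfSurjective a' φ' hφ ⟨2, hk⟩
    have hl : φ'.comp l = a' := Algebra.FormallySmooth.comp_liftOfSurjective a' φ' hφ ⟨2, hk⟩
    refine ⟨Spec.map (CommRingCat.ofHom l.toRingHom) ≫ X.fromSpecStalk x, ?_, ?_⟩
    · rw [← Spec.map_comp_assoc, ← ha]
      congr 2
      ext r
      exact congr($hl r)
    · rw [Category.assoc, ← Scheme.SpecMap_stalkMap_fromSpecStalk, ← Spec.map_comp_assoc, ← hb]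
      congr 2
      ext r
      exact l.commutes r
  · intro H
    let A := S.presheaf.stalk (f x)
    let C := X.presheaf.stalk x
    let _ : Algebra A C := (f.stalkMap x).hom.toAlgebra
    change Algebra.FormallySmooth A C
    apply formallySmooth_of_local_lifting
    intro B' _ _ _ φ hφ hk
    obtain ⟨γ, hγ₁, hγ₂⟩ := H C B' φ.toRingHom hφ hk (X.fromSpecStalk x)
      (Spec.map (CommRingCat.ofHom (algebraMap A B')) ≫ S.fromSpecStalk (f x))
      Scheme.fromSpecStalk_closedPoint (by
        rw [← Spec.map_comp_assoc, ← Scheme.SpecMap_stalkMap_fromSpecStalk]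
        congr 2
        ext r
        exact φ.commutes r)
    have hγ : γ (IsLocalRing.closedPoint B') = x := by
      rw [← closedPoint_eq φ.toRingHom hφ]
      have h1 := comp_apply_eq _ _ _ hγ₁ (IsLocalRing.closedPoint C)
      exact h1.trans Scheme.fromSpecStalk_closedPoint
    obtain ⟨g, -, hg⟩ := exists_stalk_hom γ x hγ
    have h1 : g ≫ CommRingCat.ofHom φ.toRingHom = 𝟙 _ := by
      apply Spec.map_injective
      rw [← cancel_mono (X.fromSpecStalk x), Spec.map_comp, Category.assoc, hg, hγ₁]
      rw [Spec.map_id]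
      exact (Category.id_comp (X.fromSpecStalk x)).symm
    have h2 : f.stalkMap x ≫ g = CommRingCat.ofHom (algebraMap A B') := by
      apply Spec.map_injective
      rw [← cancel_mono (S.fromSpecStalk (f x)), Spec.map_comp, Category.assoc,
        Scheme.SpecMap_stalkMap_fromSpecStalk, reassoc_of% hg, hγ₂]
    refine ⟨{ g.hom with commutes' := fun r => congr($(h2).hom r) }, ?_⟩
    ext r
    exact congr($(h1).hom r)

end Groth.Agent.S1350
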