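import Groth.Statements.S1355
import Groth.Agent.Flat2E.GeomConnSep
import Groth.Agent.Flat2E.EtaleResidueExt

set_option autoImplicit false
universe u
open FlatMor

namespace Groth.Agent.S1355

section Helpers

open AlgebraicGeometry CategoryTheory Limits

lemma connectedSpace_of_iso {X Y : Scheme.{u}} (e : X ≅ Y) [ConnectedSpace X] : ConnectedSpace Y :=
  e.hom.homeomorph.connectedSpace_iff.mp inferInstance

/-- `(X_s) ×_{κ(s)} T ≅ X ×_S T`. -/
noncomputable def fibreIso {X S T : Scheme.{u}} (f : X ⟶ S) (s : S) (t : T ⟶ Spec (S.residueField s)) :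
    pullback (f.fiberToSpecResidueField s) t ≅ pullback f (t ≫ S.fromSpecResidueField s) :=
  pullbackLeftPullbackSndIso f (S.fromSpecResidueField s) t

end Helpers

open AlgebraicGeometry CategoryTheory Limits in
/-- Stacks Tag 03GZ: let f : X → S and s a point of S. The fibre of f over s is geometrically connected if and only if for every étale morphism U → S and every point u over s, the fibre over u of the base change of f to U is connected. -/
theorem result {X S : Scheme.{u}} (f : X ⟶ S) (s : S) :
    GeometricallyConnected (f.fiberToSpecResidueField s) ↔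
      ∀ (U : Scheme.{u}) (g : U ⟶ S) (u : U), Etale g → g u = s → ConnectedSpace ↑((pullback.snd f g).fiber u) := by
  constructor
  · rintro h U g u hg rfl
    have h1 : ConnectedSpace ↥(pullback (f.fiberToSpecResidueField (g u)) (Spec.map (g.residueFieldMap u))) :=
      pullback_of_geometrically h.geometrically_connectedSpace _ (Spec.map (g.residueFieldMap u))
    have h2 := connectedSpace_of_iso (fibreIso f (g u) (Spec.map (g.residueFieldMap u)))
    rw [Scheme.Hom.SpecMap_residueFieldMap_fromSpecResidueField] at h2
    exact connectedSpace_of_iso (pullbackLeftPullbackSndIso f g (U.fromSpecResidueField u)).symm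
  · intro h
    refine Groth.Agent.Flat2E.GeomConnSep.geometricallyConnected_of_forall_finite_separable 
      (S.residueField s) (f.fiberToSpecResidueField s) ?_
    intro K _ _ _ _
    obtain ⟨U, g, u, e, -, hg, hgu, he⟩ := Groth.Agent.Flat2E.EtaleResidueExt.exists_etale_nbhd s K
    have h1 : ConnectedSpace ↥(pullback (pullback.snd f g) (U.fromSpecResidueField u)) := h U g u hg hgu
    have h2 : ConnectedSpace ↥(pullback f (U.fromSpecResidueField u ≫ g)) :=
      connectedSpace_of_iso (pullbackLeftPullbackSndIso f g (U.fromSpecResidueField u))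
    have h3 : ConnectedSpace ↥(pullback f (Spec.map e.hom ≫ U.fromSpecResidueField u ≫ g)) :=
      connectedSpace_of_iso (asIso (pullback.map f (U.fromSpecResidueField u ≫ g) f 
        (Spec.map e.hom ≫ U.fromSpecResidueField u ≫ g) (𝟙 _) (Spec.map e.inv) (𝟙 _) (by simp) 
        (by rw [← Spec.map_comp_assoc, e.hom_inv_id, Spec.map_id, Category.id_comp, Category.comp_id])))
    rw [he] at h3
    exact connectedSpace_of_iso (fibreIso f s _).symm

end Groth.Agent.S1355
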