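import Groth.Statements.S1358
import Groth.Agent.S1629
import Groth.Agent.Flat2E.GenericQS
import Groth.Agent.Flat2E.GenericFibre
import Groth.Agent.Flat2E.PurInsepScheme
import Groth.Agent.Ega1.ReducedSub

set_option autoImplicit false
universe u
open FlatMor

namespace Groth.Agent.S1358

section

open AlgebraicGeometry CategoryTheory Limits

lemma surjective_nilradical_subschemeι (X : Scheme.{u}) : Surjective X.nilradical.subschemeι := by
  refine ⟨Set.range_eq_univ.mp ?_⟩
  rw [Scheme.IdealSheafData.range_subschemeι, Scheme.support_nilradical]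
  rfl

/-- geometric reducedness of the generic fibre of the reduction -/
lemma geomReduced_genericFibre {X1 Y' S W : Scheme.{u}} [IsIntegral Y'] (h0 : X1 ⟶ Y') (p : W ⟶ S)
    (E : h0.fiber (genericPoint Y') ≅ W) (e : Spec (Y'.residueField (genericPoint Y')) ≅ S)
    (hE : E.hom ≫ p = h0.fiberToSpecResidueField (genericPoint Y') ≫ e.hom)
    (H : GeometricallyReduced (W.nilradical.subschemeι ≫ p)) :
    GeometricallyReduced ((X1.nilradical.subschemeι ≫ h0).fiberToSpecResidueField (genericPoint Y')) := by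
  have hred : IsReduced X1.nilradical.subscheme := Ega1.ReducedSub.isReduced_subscheme_radical ⊥
  have hsurj : Surjective X1.nilradical.subschemeι := surjective_nilradical_subschemeι _
  -- the fibre of the reduction
  have hh0 : IsPullback (h0.fiberι (genericPoint Y')) (h0.fiberToSpecResidueField (genericPoint Y')) h0
      (Y'.fromSpecResidueField (genericPoint Y')) := IsPullback.of_hasPullback _ _
  have hh1 : IsPullback ((X1.nilradical.subschemeι ≫ h0).fiberι (genericPoint Y'))
      ((X1.nilradical.subschemeι ≫ h0).fiberToSpecResidueField (genericPoint Y')) (X1.nilradical.subschemeι ≫ h0)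
      (Y'.fromSpecResidueField (genericPoint Y')) := IsPullback.of_hasPullback _ _
  let j0 : (X1.nilradical.subschemeι ≫ h0).fiber (genericPoint Y') ⟶ h0.fiber (genericPoint Y') :=
    hh0.lift ((X1.nilradical.subschemeι ≫ h0).fiberι _ ≫ X1.nilradical.subschemeι)
      ((X1.nilradical.subschemeι ≫ h0).fiberToSpecResidueField _) (by rw [Category.assoc, hh1.w])
  have hj0' : j0 ≫ h0.fiberToSpecResidueField _ = (X1.nilradical.subschemeι ≫ h0).fiberToSpecResidueField _ :=
    hh0.lift_snd _ _ _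
  have hj0 : IsPullback ((X1.nilradical.subschemeι ≫ h0).fiberι _) j0 X1.nilradical.subschemeι (h0.fiberι (genericPoint Y')) := by
    refine IsPullback.of_bot (v₂₁ := h0.fiberToSpecResidueField (genericPoint Y'))
      (v₂₂ := h0) (h₃₁ := Y'.fromSpecResidueField (genericPoint Y')) ?_ ?_ ?_
    · rw [hj0']
      exact hh1
    · exact (hh0.lift_fst _ _ _).symm
    · exact hh0
  have hcl : IsClosedImmersion j0 := MorphismProperty.of_isPullback hj0 (inferInstance : IsClosedImmersion X1.nilradical.subschemeι)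
  have hsj : Surjective j0 := MorphismProperty.of_isPullback hj0 hsurj
  have hrj : IsReduced ((X1.nilradical.subschemeι ≫ h0).fiber (genericPoint Y')) :=
    Flat2E.GenericFibre.isReduced_genericFiber (X1.nilradical.subschemeι ≫ h0)
  have hsE : Surjective (j0 ≫ E.hom) := inferInstance
  have hker : (j0 ≫ E.hom).ker = W.nilradical.subschemeι.ker := by
    rw [Flat2E.GenericFibre.ker_eq_nilradical (j0 ≫ E.hom), Scheme.IdealSheafData.ker_subschemeι]
  obtain ⟨J, hJ⟩ := Flat2E.SpreadScheme.exists_iso_of_ker_eq (j0 ≫ E.hom) _ hker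
  rw [← hj0', ← MorphismProperty.cancel_right_of_respectsIso @GeometricallyReduced _ e.hom, Category.assoc, ← hE,
    ← Category.assoc, ← hJ, Category.assoc, MorphismProperty.cancel_left_of_respectsIso @GeometricallyReduced]
  exact H

/-- restriction of the generic fibre to an open -/
lemma geomReduced_restrict {X1 Y' : Scheme.{u}} [IsIntegral Y'] (h : X1 ⟶ Y') (U : Y'.Opens) [IsIntegral (U : Scheme.{u})]
    (H : GeometricallyReduced (h.fiberToSpecResidueField (genericPoint Y'))) :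
    GeometricallyReduced ((h ∣_ U).fiberToSpecResidueField (genericPoint U)) := by
  have h1 := isPullback_fiberToSpecResidueField_of_isPullback (isPullback_morphismRestrict h U).flip (genericPoint U)
  refine MorphismProperty.of_isPullback h1 ?_
  have h2 : U.ι (genericPoint U) = genericPoint Y' := genericPoint_eq_of_isOpenImmersion U.ι
  rw [h2]
  exact H

lemma isPullback_of_comp_mono {C : Type*} [Category C] {P A B D E : C} {t : P ⟶ A} {l : P ⟶ B} {r : A ⟶ D} {b : B ⟶ D}
    (m : D ⟶ E) [Mono m] (H : IsPullback t l (r ≫ m) (b ≫ m)) : IsPullback t l r b := by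
  have hw : t ≫ r = l ≫ b := by
    rw [← cancel_mono m, Category.assoc, Category.assoc]
    exact H.w
  refine ⟨⟨hw⟩, ⟨PullbackCone.IsLimit.mk _ (fun s => H.lift s.fst s.snd (by
      rw [← Category.assoc, ← Category.assoc, s.condition])) (fun s => H.lift_fst _ _ _) (fun s => H.lift_snd _ _ _) ?_⟩⟩
  intro s k h1 h2
  apply H.hom_ext
  · rw [h1, H.lift_fst]
  · rw [h2, H.lift_snd]

/-- shrinking -/
lemma finish {X Y Y1 : Scheme.{u}} (f : X ⟶ Y) [QuasiCompact f] {V : Y.Opens} [IsIntegral Y1]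
    (g : Y1 ⟶ (V : Scheme.{u})) [IsFinite g] (hg : FlatMor.IsUnivHomeo g) (W : Y1.Opens) (hW : (W : Set Y1).Nonempty)
    {X2 : Scheme.{u}} (i : X2 ⟶ pullback f (g ≫ V.ι)) [IsClosedImmersion i] [Surjective i] [IsReduced X2]
    (hfl : Flat ((i ≫ pullback.snd _ _) ∣_ W)) (hfp : LocallyOfFinitePresentation ((i ≫ pullback.snd _ _) ∣_ W))
    (hqs : QuasiSeparated ((i ≫ pullback.snd _ _) ∣_ W))
    (hgr : GeometricallyReduced ((i ≫ pullback.snd _ _).fiberToSpecResidueField (genericPoint Y1))) :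
    ∃ (V : Y.Opens) (Y' : Scheme.{u}) (g : Y' ⟶ (V : Scheme.{u})) (X' : Scheme.{u}) (r : X' ⟶ pullback f (g ≫ V.ι)) (hY' : IsIntegral Y'),
      (V : Set ↑Y).Nonempty ∧ IsAffine Y' ∧ IsFinite g ∧ FlatMor.IsUnivHomeo g ∧ IsClosedImmersion r ∧ Surjective r ∧ IsReduced X' ∧
      Flat (r ≫ pullback.snd f (g ≫ V.ι)) ∧ LocallyOfFinitePresentation (r ≫ pullback.snd f (g ≫ V.ι)) ∧
      QuasiCompact (r ≫ pullback.snd f (g ≫ V.ι)) ∧ QuasiSeparated (r ≫ pullback.snd f (g ≫ V.ι)) ∧
      GeometricallyReduced ((r ≫ pullback.snd f (g ≫ V.ι)).fiberToSpecResidueField (genericPoint ↑Y')) := by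
  have hhomeo : IsHomeomorph g := MorphismProperty.universally_le _ _ hg
  -- the small open
  have hO : IsOpen (V.ι '' (g '' (W : Set Y1))) :=
    V.ι.isOpenEmbedding.isOpenMap _ (hhomeo.isOpenMap _ W.isOpen)
  obtain ⟨w0, hw0⟩ := hW
  obtain ⟨_, ⟨V2, hV2, rfl⟩, hV2w, hV2le⟩ := Y.isBasis_affineOpens.exists_subset_of_mem_open
    (show V.ι (g w0) ∈ V.ι '' (g '' (W : Set Y1)) from ⟨_, ⟨_, hw0, rfl⟩, rfl⟩) hO
  have hle : V2 ≤ V := by
    intro y hy
    obtain ⟨v, -, rfl⟩ := hV2le hy
    exact v.2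
  have hleW : (g ≫ V.ι) ⁻¹ᵁ V2 ≤ W := by
    intro x hx
    obtain ⟨_, ⟨w, hw, rfl⟩, h⟩ := hV2le (show (g ≫ V.ι) x ∈ V2 from hx)
    rw [Scheme.Hom.comp_apply] at h
    have h1 := hhomeo.injective (V.ι.isOpenEmbedding.injective h)
    rwa [← h1]
  let U : Y1.Opens := (g ≫ V.ι) ⁻¹ᵁ V2
  let g2 : (U : Scheme.{u}) ⟶ (V2 : Scheme.{u}) := (g ≫ V.ι) ∣_ V2
  have hU : Nonempty (U : Scheme.{u}) := ⟨⟨w0, hV2w⟩⟩
  have hUint : IsIntegral (U : Scheme.{u}) := isIntegral_of_isOpenImmersion U.ι
  have hg2 : IsPullback U.ι g2 g (Y.homOfLE hle) := by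
    apply isPullback_of_comp_mono V.ι
    rw [Scheme.homOfLE_ι]
    exact (isPullback_morphismRestrict (g ≫ V.ι) V2).flip
  have hg2f : IsFinite g2 := MorphismProperty.of_isPullback hg2 inferInstance
  have hg2u : FlatMor.IsUnivHomeo g2 := by
    have : FlatMor.IsUnivHomeo.IsStableUnderBaseChange :=
      inferInstanceAs (MorphismProperty.universally _).IsStableUnderBaseChange
    exact MorphismProperty.of_isPullback hg2 hg
  have hV2aff : IsAffine (V2 : Scheme.{u}) := hV2
  have hUaff : IsAffine (U : Scheme.{u}) := isAffine_of_isAffineHom g2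
  -- the pullback squares
  have hw : g2 ≫ (Scheme.Opens.ι V2) = U.ι ≫ (g ≫ V.ι) := morphismRestrict_ι _ _
  have hP1 : IsPullback (pullback.fst f (g ≫ V.ι)) (pullback.snd f (g ≫ V.ι)) f (g ≫ V.ι) := IsPullback.of_hasPullback _ _
  have hP2 : IsPullback (pullback.fst f (g2 ≫ (Scheme.Opens.ι V2))) (pullback.snd f (g2 ≫ (Scheme.Opens.ι V2))) f (g2 ≫ (Scheme.Opens.ι V2)) := IsPullback.of_hasPullback _ _
  let m : pullback f (g2 ≫ (Scheme.Opens.ι V2)) ⟶ pullback f (g ≫ V.ι) :=
    hP1.lift (pullback.fst _ _) (pullback.snd _ _ ≫ U.ι) (by rw [hP2.w, hw, Category.assoc])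
  have hm2 : m ≫ pullback.snd f (g ≫ V.ι) = pullback.snd f (g2 ≫ (Scheme.Opens.ι V2)) ≫ U.ι := hP1.lift_snd _ _ _
  have hm1 : m ≫ pullback.fst f (g ≫ V.ι) = pullback.fst f (g2 ≫ (Scheme.Opens.ι V2)) := hP1.lift_fst _ _ _
  have hP3 : IsPullback m (pullback.snd f (g2 ≫ (Scheme.Opens.ι V2))) (pullback.snd f (g ≫ V.ι)) U.ι := by
    refine IsPullback.of_right (h₁₂ := pullback.fst f (g ≫ V.ι)) (h₂₂ := g ≫ V.ι) (v₁₃ := f) ?_ hm2 hP1
    rw [hm1, ← hw]
    exact hP2
  have hR := (isPullback_morphismRestrict (i ≫ pullback.snd f (g ≫ V.ι)) U).flip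
  let h := i ≫ pullback.snd f (g ≫ V.ι)
  let r : (h ⁻¹ᵁ U : Scheme.{u}) ⟶ pullback f (g2 ≫ (Scheme.Opens.ι V2)) :=
    hP3.lift ((h ⁻¹ᵁ U).ι ≫ i) (h ∣_ U) (by rw [Category.assoc]; exact hR.w)
  have hr1 : r ≫ m = (h ⁻¹ᵁ U).ι ≫ i := hP3.lift_fst _ _ _
  have hr2 : r ≫ pullback.snd f (g2 ≫ (Scheme.Opens.ι V2)) = h ∣_ U := hP3.lift_snd _ _ _
  have hP4 : IsPullback (h ⁻¹ᵁ U).ι r i m := by
    refine IsPullback.of_bot (v₂₁ := pullback.snd f (g2 ≫ (Scheme.Opens.ι V2)))
      (v₂₂ := pullback.snd f (g ≫ V.ι)) (h₃₁ := U.ι) ?_ hr1.symm hP3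
    rw [hr2]
    exact hR
  have hqc : QuasiCompact h := inferInstance
  refine ⟨V2, U, g2, (h ⁻¹ᵁ U : Scheme.{u}), r, hUint, ⟨_, hV2w⟩, hUaff, hg2f, hg2u,
    MorphismProperty.of_isPullback hP4 (inferInstance : IsClosedImmersion i),
    MorphismProperty.of_isPullback hP4 (inferInstance : Surjective i), ?_, ?_⟩
  · infer_instance
  · rw [hr2]
    exact ⟨Flat2E.GenericQS.restrict_of_le @Flat h hleW hfl,
      Flat2E.GenericQS.restrict_of_le @LocallyOfFinitePresentation h hleW hfp, inferInstance,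
      Flat2E.GenericQS.restrict_of_le @QuasiSeparated h hleW hqs, geomReduced_restrict h U hgr⟩

end

open AlgebraicGeometry CategoryTheory Limits in
/-- Stacks Tag 0550: let f be of finite type with irreducible target Y. Then there are a nonempty open V of Y, a finite universal homeomorphism g from an integral affine scheme Y' to V, and a reduced scheme X' with a surjective closed immersion into the base change of X to Y' (so X' is the reduction of that base change), such that X' → Y' is flat and of finite presentation and its generic fibre is geometrically reduced. -/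
theorem result {X Y : Scheme.{u}} (f : X ⟶ Y) [IrreducibleSpace ↑Y] [LocallyOfFiniteType f] [QuasiCompact f] :
    ∃ (V : Y.Opens) (Y' : Scheme.{u}) (g : Y' ⟶ (V : Scheme.{u})) (X' : Scheme.{u}) (r : X' ⟶ pullback f (g ≫ V.ι)) (hY' : IsIntegral Y'),
      (V : Set ↑Y).Nonempty ∧ IsAffine Y' ∧ IsFinite g ∧ FlatMor.IsUnivHomeo g ∧ IsClosedImmersion r ∧ Surjective r ∧ IsReduced X' ∧
      Flat (r ≫ pullback.snd f (g ≫ V.ι)) ∧ LocallyOfFinitePresentation (r ≫ pullback.snd f (g ≫ V.ι)) ∧
      QuasiCompact (r ≫ pullback.snd f (g ≫ V.ι)) ∧ QuasiSeparated (r ≫ pullback.snd f (g ≫ V.ι)) ∧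
      GeometricallyReduced ((r ≫ pullback.snd f (g ≫ V.ι)).fiberToSpecResidueField (genericPoint ↑Y')) := by
  let K := Y.residueField (genericPoint Y)
  let F := f.fiber (genericPoint Y)
  let : F.Over (Spec (CommRingCat.of K)) := ⟨f.fiberToSpecResidueField (genericPoint Y)⟩
  have hlft : LocallyOfFiniteType (F ↘ (Spec (CommRingCat.of K))) :=
    (inferInstance : LocallyOfFiniteType (pullback.snd f (Y.fromSpecResidueField (genericPoint Y))))
  have hqc : QuasiCompact (F ↘ (Spec (CommRingCat.of K))) :=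
    (inferInstance : QuasiCompact (pullback.snd f (Y.fromSpecResidueField (genericPoint Y))))
  have hfin : (irreducibleComponents (F : Type u)).Finite := by
    have : IsNoetherianRing K := inferInstanceAs (IsNoetherianRing (Y.residueField (genericPoint Y)))
    have : IsLocallyNoetherian F := LocallyOfFiniteType.isLocallyNoetherian (F ↘ (Spec (CommRingCat.of K)))
    have : CompactSpace F := inferInstanceAs (CompactSpace (f.fiber (genericPoint Y)))
    have : IsNoetherian F := {}
    exact TopologicalSpace.NoetherianSpace.finite_irreducibleComponents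
  obtain ⟨k', _, _, hk', hpi, H⟩ := S1629.result K F hfin
  obtain ⟨V, B, _, _, g, hV, hgf, hgu, e, he⟩ := Flat2E.PurInsepScheme.exists_spread_scheme (Y := Y) k'
  obtain ⟨E, hE⟩ := Flat2E.SpreadScheme.exists_fiber_iso f (g ≫ V.ι) (genericPoint Y) (genericPoint (Spec (CommRingCat.of B)))
    (CommRingCat.ofHom (algebraMap K k')) e he
  have hgr := geomReduced_genericFibre (pullback.snd f (g ≫ V.ι)) _ E e hE H
  have : IsReduced (pullback f (g ≫ V.ι)).nilradical.subscheme := Ega1.ReducedSub.isReduced_subscheme_radical ⊥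
  have := surjective_nilradical_subschemeι (pullback f (g ≫ V.ι))
  obtain ⟨a, ha, hfl, hfp⟩ := Flat2E.GenericQS.exists_flat
    ((pullback f (g ≫ V.ι)).nilradical.subschemeι ≫ pullback.snd f (g ≫ V.ι))
  obtain ⟨b, hb, hqs⟩ := Flat2E.GenericQS.exists_quasiSeparated
    ((pullback f (g ≫ V.ι)).nilradical.subschemeι ≫ pullback.snd f (g ≫ V.ι))
  have hle1 : (PrimeSpectrum.basicOpen (a * b) : (Spec (CommRingCat.of B)).Opens) ≤ PrimeSpectrum.basicOpen a :=
    PrimeSpectrum.basicOpen_mul_le_left _ _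
  have hle2 : (PrimeSpectrum.basicOpen (a * b) : (Spec (CommRingCat.of B)).Opens) ≤ PrimeSpectrum.basicOpen b :=
    PrimeSpectrum.basicOpen_mul_le_right _ _
  exact finish f g hgu (PrimeSpectrum.basicOpen (a * b)) ⟨(⊥ : PrimeSpectrum B), fun h =>
      mul_ne_zero ha hb h⟩ (pullback f (g ≫ V.ι)).nilradical.subschemeι
    (Flat2E.GenericQS.restrict_of_le @Flat _ hle1 hfl)
    (Flat2E.GenericQS.restrict_of_le @LocallyOfFinitePresentation _ hle1 hfp)
    (Flat2E.GenericQS.restrict_of_le @QuasiSeparated _ hle2 hqs) hgr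

end Groth.Agent.S1358
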