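import Groth.Statements.S1359
import Groth.Agent.Flat2E.SmoothInf
import Mathlib.AlgebraicGeometry.Morphisms.ClosedImmersion

set_option autoImplicit false
universe u
open FlatMor

namespace Groth.Agent.S1359

open AlgebraicGeometry CategoryTheory Limits

/-- The local structure of the base change of `f` to a closed subscheme. -/
theorem exists_pushout_quotient {P : MorphismProperty Scheme.{u}}
    {Q : ∀ {R S : Type u} [CommRing R] [CommRing S], (R →+* S) → Prop} [HasRingHomProperty P Q]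
    {X S : Scheme.{u}} (f : X ⟶ S) (I : S.IdealSheafData) (hP : P (pullback.snd f I.subschemeι))
    {U : S.Opens} (hU : IsAffineOpen U) {V : X.Opens} (hV : IsAffineOpen V) (hVU : V ≤ f ⁻¹ᵁ U) :
    ∃ (C D : CommRingCat.{u}) (a : Γ(S, U) ⟶ C) (b : Γ(X, V) ⟶ D) (c : C ⟶ D),
      IsPushout (f.appLE U V hVU) a b c ∧ Function.Surjective a.hom ∧
        RingHom.ker a.hom = I.ideal ⟨U, hU⟩ ∧ Q c.hom := by
  have H : IsPullback (pullback.fst f I.subschemeι) (pullback.snd f I.subschemeι) f I.subschemeι :=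
    IsPullback.of_hasPullback _ _
  have hUT : IsAffineOpen (I.subschemeι ⁻¹ᵁ U) := hU.preimage I.subschemeι
  have hUST : (I.subschemeι ⁻¹ᵁ U) ≤ I.subschemeι ⁻¹ᵁ U := le_rfl
  let UY := (pullback.fst f I.subschemeι) ⁻¹ᵁ V ⊓ (pullback.snd f I.subschemeι) ⁻¹ᵁ (I.subschemeι ⁻¹ᵁ U)
  have hUY' : IsAffineOpen UY := by
    have : IsAffine _ := hU
    have : IsAffine _ := hV
    have : IsAffine _ := hUT
    exact .of_isIso (Scheme.Hom.isPullback_resLE H hUST hVU (UY := UY) rfl).isoPullback.hom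
  have hpo := (isIso_pushoutSection_iff H hUST hVU (UY := UY) rfl).mp
    (isIso_pushoutSection_of_isAffineOpen H hUST hVU rfl hU hUT hV)
  refine ⟨_, _, _, _, _, hpo, ?_, ?_, ?_⟩
  · have := I.subschemeι_app_surjective ⟨U, hU⟩
    rw [Scheme.Hom.appLE_eq_app]
    exact this
  · rw [Scheme.Hom.appLE_eq_app]
    exact I.ker_subschemeι_app ⟨U, hU⟩
  · exact HasRingHomProperty.appLE P _ hP ⟨_, hUT⟩ ⟨_, hUY'⟩ _

/-- If `f x` lies in the support of `I`, then the prime of `x` contains the extension of the ideal. -/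
theorem map_ideal_le_primeIdealOf {X S : Scheme.{u}} (f : X ⟶ S) (I : S.IdealSheafData) (x : X) (hx : f x ∈ I.support)
    {U : S.Opens} (hU : IsAffineOpen U) {V : X.Opens} (hV : IsAffineOpen V) (hVU : V ≤ f ⁻¹ᵁ U) (hxV : x ∈ V) :
    (I.ideal ⟨U, hU⟩).map (f.appLE U V hVU).hom ≤ (hV.primeIdealOf ⟨x, hxV⟩).asIdeal := by
  rw [Ideal.map_le_iff_le_comap]
  have h1 := IsAffineOpen.comap_primeIdealOf_appLE U hU V hV hVU hxV
  have h2 := congrArg PrimeSpectrum.asIdeal h1
  rw [PrimeSpectrum.comap_asIdeal] at h2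
  rw [h2]
  have h3 := (Scheme.IdealSheafData.mem_support_iff_of_mem (U := ⟨U, hU⟩) (hVU hxV)).mp hx
  intro r hr
  by_contra hr'
  have h4 : hU.primeIdealOf ⟨f x, hVU hxV⟩ ∈ PrimeSpectrum.basicOpen r := hr'
  rw [← SetLike.mem_coe, ← hU.fromSpec_preimage_basicOpen] at h4
  have h5 : hU.fromSpec (hU.primeIdealOf ⟨f x, hVU hxV⟩) ∈ S.basicOpen r := h4
  rw [hU.fromSpec_primeIdealOf] at h5
  rw [Scheme.mem_zeroLocus_iff] at h3
  exact h3 r hr h5

/-- Stacks Tag 0A43, part (1): let S be locally Noetherian, f : X → S of finite type, and Z the closed subscheme of S cut out by an ideal sheaf I, with infinitesimal neighbourhoods cut out by the powers of I. If the base change of f to every infinitesimal neighbourhood is smooth, then every point of X lying over Z is in the smooth locus of f. -/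
theorem result {X S : Scheme.{u}} (f : X ⟶ S) [IsLocallyNoetherian S] [LocallyOfFinitePresentation f] [QuasiCompact f]
    (I : S.IdealSheafData) (h : ∀ n : ℕ, Smooth (pullback.snd f (I ^ (n + 1)).subschemeι)) (x : X) (hx : f x ∈ I.support) :
    x ∈ f.smoothLocus := by
  obtain ⟨_, ⟨U, hU, rfl⟩, hxU, -⟩ :=
    S.isBasis_affineOpens.exists_subset_of_mem_open (Set.mem_univ (f x)) isOpen_univ
  obtain ⟨_, ⟨V, hV, rfl⟩, hxV, hVU⟩ :=
    X.isBasis_affineOpens.exists_subset_of_mem_open hxU (U.2.preimage f.continuous)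
  have hN : IsNoetherianRing Γ(S, U) := IsLocallyNoetherian.component_noetherian ⟨U, hU⟩
  have hfp := f.finitePresentation_appLE hU hV hVU
  rw [Scheme.Hom.mem_smoothLocus, formallySmooth_stalkMap_iff U hU V hV hVU hxV]
  let := (f.appLE U V hVU).hom.toAlgebra
  have : Algebra.FinitePresentation Γ(S, U) Γ(X, V) := hfp
  refine Flat2E.SmoothInf.isSmoothAt_of_forall_pow (I.ideal ⟨U, hU⟩) (fun n => ?_) _
    (map_ideal_le_primeIdealOf f I x hx hU hV hVU hxV)
  obtain ⟨C, D, a, b, c, hpo, ha, hk, hc⟩ :=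
    exists_pushout_quotient (P := @Smooth) f (I ^ (n + 1)) (h n) hU hV hVU
  algebraize [a.hom, b.hom, c.hom, c.hom.comp a.hom]
  have hT : IsScalarTower Γ(S, U) Γ(X, V) D := .of_algebraMap_eq' congr($(hpo.w).hom).symm
  have : Algebra.IsPushout Γ(S, U) C Γ(X, V) D := (CommRingCat.isPushout_iff_isPushout.mp hpo).symm
  have hC : Algebra.Smooth C D := hc
  exact Flat2E.SmoothInf.smooth_quotient_of_isPushout (C := C) (D := D) _ ha hk

end Groth.Agent.S1359
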