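import Groth.Statements.S1360
import Groth.Agent.S1359

set_option autoImplicit false
universe u
open FlatMor

namespace Groth.Agent.S1360

open AlgebraicGeometry CategoryTheory Limits

/-- Étaleness near a point from étaleness at the prime in a chart. -/
theorem exists_etale_of_isEtaleAt {X S : Scheme.{u}} (f : X ⟶ S) [LocallyOfFinitePresentation f]
    {U : S.Opens} (hU : IsAffineOpen U) {V : X.Opens} (hV : IsAffineOpen V) (hVU : V ≤ f ⁻¹ᵁ U) (x : X) (hxV : x ∈ V)
    (h : letI := (f.appLE U V hVU).hom.toAlgebra; Algebra.IsEtaleAt Γ(S, U) (hV.primeIdealOf ⟨x, hxV⟩).asIdeal) :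
    ∃ W : X.Opens, x ∈ W ∧ Etale (W.ι ≫ f) := by
  have hfp := f.finitePresentation_appLE hU hV hVU
  algebraize [(f.appLE U V hVU).hom]
  obtain ⟨r, hrx, hr⟩ := Algebra.exists_etale_of_isEtaleAt (R := Γ(S, U))
    (hV.primeIdealOf ⟨x, hxV⟩).asIdeal
  have hW : IsAffineOpen (X.basicOpen r) := hV.basicOpen r
  have hWU : X.basicOpen r ≤ f ⁻¹ᵁ U := (X.basicOpen_le r).trans hVU
  have hxW : x ∈ X.basicOpen r := by
    have h4 : hV.primeIdealOf ⟨x, hxV⟩ ∈ PrimeSpectrum.basicOpen r := hrx
    rw [← SetLike.mem_coe, ← hV.fromSpec_preimage_basicOpen] at h4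
    have h5 : hV.fromSpec (hV.primeIdealOf ⟨x, hxV⟩) ∈ X.basicOpen r := h4
    rwa [hV.fromSpec_primeIdealOf] at h5
  have hE : (f.appLE U (X.basicOpen r) hWU).hom.Etale := by
    have := hV.isLocalization_basicOpen r
    rw [← RingHom.etale_algebraMap] at hr
    convert!
      RingHom.Etale.propertyIsLocal.respectsIso.1 _
        (IsLocalization.algEquiv (.powers r) _ Γ(X, X.basicOpen r)).toRingEquiv hr
    ext y
    have h1 : algebraMap Γ(S, U) (Localization (Submonoid.powers r)) y =
      algebraMap Γ(X, V) (Localization (Submonoid.powers r)) ((f.appLE U V hVU).hom y) := rfl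
    change _ = (IsLocalization.algEquiv (Submonoid.powers r) (Localization (Submonoid.powers r)) Γ(X, X.basicOpen r))
      (algebraMap Γ(S, U) (Localization (Submonoid.powers r)) y)
    rw [h1, AlgEquiv.commutes, RingHom.algebraMap_toAlgebra, ← ConcreteCategory.comp_apply]
    exact congr($((f.appLE_map hVU (homOfLE (X.basicOpen_le r)).op).symm).hom y)
  refine ⟨X.basicOpen r, hxW, ?_⟩
  have hres : Etale (f.resLE U (X.basicOpen r) hWU) := by
    have : IsAffine _ := hU
    have : IsAffine _ := hW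
    rw [HasRingHomProperty.iff_of_isAffine (P := @Etale)]
    exact (RingHom.Etale.propertyIsLocal.respectsIso.arrow_mk_iso_iff
      (arrowResLEAppIso f U _ hWU)).mpr hE
  rw [← Scheme.Hom.resLE_comp_ι f hWU]
  infer_instance

/-- Stacks Tag 0A43, part (2): let S be locally Noetherian, f : X → S of finite type, and Z the closed subscheme of S cut out by an ideal sheaf I. If the base change of f to every infinitesimal neighbourhood of Z is étale, then every point of X over Z has an open neighbourhood on which f is étale. -/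
theorem result {X S : Scheme.{u}} (f : X ⟶ S) [IsLocallyNoetherian S] [LocallyOfFinitePresentation f] [QuasiCompact f]
    (I : S.IdealSheafData) (h : ∀ n : ℕ, Etale (pullback.snd f (I ^ (n + 1)).subschemeι)) (x : X) (hx : f x ∈ I.support) :
    ∃ U : X.Opens, x ∈ U ∧ Etale (U.ι ≫ f) := by
  obtain ⟨_, ⟨U, hU, rfl⟩, hxU, -⟩ :=
    S.isBasis_affineOpens.exists_subset_of_mem_open (Set.mem_univ (f x)) isOpen_univ
  obtain ⟨_, ⟨V, hV, rfl⟩, hxV, hVU⟩ :=
    X.isBasis_affineOpens.exists_subset_of_mem_open hxU (U.2.preimage f.continuous)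
  have hN : IsNoetherianRing Γ(S, U) := IsLocallyNoetherian.component_noetherian ⟨U, hU⟩
  have hfp := f.finitePresentation_appLE hU hV hVU
  refine exists_etale_of_isEtaleAt f hU hV hVU x hxV ?_
  let := (f.appLE U V hVU).hom.toAlgebra
  have : Algebra.FinitePresentation Γ(S, U) Γ(X, V) := hfp
  refine Flat2E.SmoothInf.isEtaleAt_of_forall_pow (I.ideal ⟨U, hU⟩) (fun n => ?_) _
    (S1359.map_ideal_le_primeIdealOf f I x hx hU hV hVU hxV)
  obtain ⟨C, D, a, b, c, hpo, ha, hk, hc⟩ :=
    S1359.exists_pushout_quotient (P := @Etale) f (I ^ (n + 1)) (h n) hU hV hVU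
  algebraize [a.hom, b.hom, c.hom, c.hom.comp a.hom]
  have hT : IsScalarTower Γ(S, U) Γ(X, V) D := .of_algebraMap_eq' congr($(hpo.w).hom).symm
  have : Algebra.IsPushout Γ(S, U) C Γ(X, V) D := (CommRingCat.isPushout_iff_isPushout.mp hpo).symm
  have hC : Algebra.Etale C D := hc
  exact Flat2E.SmoothInf.etale_quotient_of_isPushout (C := C) (D := D) _ ha hk

end Groth.Agent.S1360
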