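import Groth.Statements.S1362
import Mathlib.RingTheory.NoetherNormalization
import Mathlib.Topology.Spectral.ConstructibleTopology
import Mathlib.RingTheory.KrullDimension.Polynomial
import Mathlib.RingTheory.KrullDimension.Field
import Mathlib.RingTheory.Ideal.HasGoingUp
import Mathlib.RingTheory.RingHom.QuasiFinite
import Mathlib.RingTheory.RingHom.Finite
import Mathlib.RingTheory.Spectrum.Prime.ConstructibleSet
import Mathlib.RingTheory.TensorProduct.MvPolynomial

set_option autoImplicit false
universe u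
open FlatMor

namespace Groth.Agent.S1362
section helpers

section equivT
open Polynomial MvPolynomial Ideal Nat RingHom List

variable {k : Type*} [Field k] {n : ℕ} (up : ℕ) (f : MvPolynomial (Fin (n + 1)) k)
variable (v w : Fin (n + 1) →₀ ℕ)

variable {v} in
lemma lt_up (vlt : ∀ i, v i < up) : ∀ l ∈ ofFn v, l < up := by
  intro l hl
  rw [List.mem_ofFn] at hl
  obtain ⟨i, rfl⟩ := hl
  exact vlt i

/-- `r` maps `(i : Fin (n + 1))` to `up ^ i`. -/
local notation3 "r" => fun (i : Fin (n + 1)) ↦ up ^ i.1

/-- We construct an algebra map `T1 f c` which maps `X_i` into `X_i + c • X_0 ^ r_i` when `i ≠ 0`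
and `X_0` to `X_0`. -/
noncomputable abbrev T1 (c : k) :
    MvPolynomial (Fin (n + 1)) k →ₐ[k] MvPolynomial (Fin (n + 1)) k :=
  aeval fun i ↦ if i = 0 then X 0 else X i + c • X 0 ^ r i

lemma t1_comp_t1_neg (c : k) : (T1 (n := n) up c).comp (T1 up (-c)) = AlgHom.id _ _ := by
  rw [comp_aeval, ← MvPolynomial.aeval_X_left]
  ext i v
  cases i using Fin.cases <;> simp

/-- `T1 f 1` leads to an algebra equiv `T f`. -/
noncomputable abbrev T : MvPolynomial (Fin (n + 1)) k ≃ₐ[k] MvPolynomial (Fin (n + 1)) k :=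
  AlgEquiv.ofAlgHom (T1 up 1) (T1 up (-1))
  (t1_comp_t1_neg up 1) (by simpa using t1_comp_t1_neg (n := n) (k := k) up (-1))

lemma sum_r_mul_ne (hup : 1 < up) (vlt : ∀ i, v i < up) (wlt : ∀ i, w i < up) (ne : v ≠ w) :
    ∑ x : Fin (n + 1), r x * v x ≠ ∑ x : Fin (n + 1), r x * w x := by
  intro h
  refine ne <| Finsupp.ext <| congrFun <| ofFn_inj.mp ?_
  apply ofDigits_inj_of_len_eq hup
    (by simp) (lt_up up vlt) (lt_up up wlt)
  simpa only [ofDigits_eq_sum_mapIdx, mapIdx_eq_ofFn, get_ofFn, length_ofFn,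
    Fin.val_cast, mul_comm, sum_ofFn] using! h

lemma degreeOf_zero_t (hup : 0 < up) {a : k} (ha : a ≠ 0) : ((T up) (monomial v a)).degreeOf 0 =
    ∑ i : Fin (n + 1), (r i) * v i := by
  rw [← natDegree_finSuccEquiv, monomial_eq, Finsupp.prod_pow v fun a ↦ X a]
  simp only [Fin.prod_univ_succ, Fin.sum_univ_succ, map_mul, map_prod, map_pow,
    AlgEquiv.ofAlgHom_apply, MvPolynomial.aeval_C, MvPolynomial.aeval_X, if_pos, Fin.succ_ne_zero,
    ite_false, one_smul, map_add, finSuccEquiv_X_zero, finSuccEquiv_X_succ, algebraMap_eq]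
  have h (i : Fin n) :
      (Polynomial.C (X (R := k) i) + Polynomial.X ^ r i.succ) ^ v i.succ ≠ 0 := by
    refine pow_ne_zero (v i.succ) (leadingCoeff_ne_zero.mp ?_)
    rw [add_comm, leadingCoeff_X_pow_add_C (by positivity)]
    exact one_ne_zero
  rw [natDegree_mul (by simp [ha]) (mul_ne_zero (by simp) (Finset.prod_ne_zero_iff.mpr
    (fun i _ ↦ h i))), natDegree_mul (by simp) (Finset.prod_ne_zero_iff.mpr (fun i _ ↦ h i)),
    natDegree_prod _ _ (fun i _ ↦ h i), natDegree_finSuccEquiv, degreeOf_C]
  simpa only [natDegree_pow, zero_add, natDegree_X, mul_one, Fin.val_zero, pow_zero, one_mul,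
    add_right_inj] using Finset.sum_congr rfl (fun i _ ↦ by
    rw [add_comm (Polynomial.C _), natDegree_X_pow_add_C, mul_comm])

/-- `T` maps different monomials of `f` to polynomials with different degrees in `X_0`. -/
lemma degreeOf_t_ne_of_ne (hup : 2 + f.totalDegree ≤ up)
    (hv : v ∈ f.support) (hw : w ∈ f.support) (ne : v ≠ w) :
    (T up <| monomial v <| coeff v f).degreeOf 0 ≠
    (T up <| monomial w <| coeff w f).degreeOf 0 := by
  rw [degreeOf_zero_t _ _ (by lia) <| mem_support_iff.mp hv,
    degreeOf_zero_t _ _ (by lia) <| mem_support_iff.mp hw]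
  refine sum_r_mul_ne up v w (by lia) (fun i ↦ ?_) (fun i ↦ ?_) ne <;>
  exact lt_of_le_of_lt ((monomial_le_degreeOf i ‹_›).trans (degreeOf_le_totalDegree f i))
    (by lia)

lemma leadingCoeff_finSuccEquiv_t (hup : 0 < up) :
    (finSuccEquiv k n ((T up) ((monomial v) (coeff v f)))).leadingCoeff =
    algebraMap k _ (coeff v f) := by
  rw [monomial_eq, Finsupp.prod_fintype]
  · simp only [map_mul, map_prod, leadingCoeff_mul, leadingCoeff_prod]
    rw [AlgEquiv.ofAlgHom_apply, algHom_C, algebraMap_eq, finSuccEquiv_apply,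
      eval₂Hom_C, coe_comp]
    simp only [AlgEquiv.ofAlgHom_apply, Function.comp_apply, leadingCoeff_C, map_pow,
      leadingCoeff_pow, algebraMap_eq]
    have : ∀ j, ((finSuccEquiv k n) ((T1 up) 1 (X j))).leadingCoeff = 1 := fun j ↦ by
      by_cases h : j = 0
      · simp [h, finSuccEquiv_apply]
      · simp only [aeval_eq_bind₁, bind₁_X_right, if_neg h, one_smul, map_add, map_pow]
        obtain ⟨i, rfl⟩ := Fin.exists_succ_eq.mpr h
        simp only [finSuccEquiv_X_succ, finSuccEquiv_X_zero, add_comm]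
        rw [leadingCoeff_X_pow_add_C (by positivity)]
    simp only [this, one_pow, Finset.prod_const_one, mul_one]
  exact fun i ↦ pow_zero _

/-- `T` maps `f` into some polynomial in `X_0` such that the leading coefficient is invertible. -/
lemma T_leadingcoeff_isUnit (hup : 2 + f.totalDegree ≤ up) (fne : f ≠ 0) :
    IsUnit (finSuccEquiv k n (T up f)).leadingCoeff := by
  have hup0 : 0 < up := by omega
  obtain ⟨v, vin, vs⟩ := Finset.exists_max_image f.support
    (fun v ↦ (T up ((monomial v) (coeff v f))).degreeOf 0) (support_nonempty.mpr fne)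
  set h := fun w ↦ (MvPolynomial.monomial w) (coeff w f)
  simp only [← natDegree_finSuccEquiv] at vs
  replace vs : ∀ x ∈ f.support \ {v}, (finSuccEquiv k n ((T up) (h x))).degree <
      (finSuccEquiv k n ((T up) (h v))).degree := by
    intro x hx
    obtain ⟨h1, h2⟩ := Finset.mem_sdiff.mp hx
    apply degree_lt_degree <| lt_of_le_of_ne (vs x h1) ?_
    simpa only [natDegree_finSuccEquiv]
      using degreeOf_t_ne_of_ne up f _ _ hup h1 vin <| ne_of_not_mem_cons h2
  have coeff : (finSuccEquiv k n ((T up) (h v + ∑ x ∈ f.support \ {v}, h x))).leadingCoeff =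
      (finSuccEquiv k n ((T up) (h v))).leadingCoeff := by
    simp only [map_add, map_sum]
    rw [add_comm]
    apply leadingCoeff_add_of_degree_lt <| (lt_of_le_of_lt <| degree_sum_le _ _) ?_
    have h2 : h v ≠ 0 := by simpa [h] using mem_support_iff.mp vin
    replace h2 : (finSuccEquiv k n ((T up) (h v))) ≠ 0 := fun eq ↦ h2 <|
      by simpa only [map_eq_zero_iff _ (AlgEquiv.injective _)] using eq
    exact (Finset.sup_lt_iff <| Ne.bot_lt (fun x ↦ h2 <| degree_eq_bot.mp x)).mpr vs
  have hf : h v + ∑ x ∈ f.support \ {v}, h x = f := by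
    conv_rhs => rw [← f.support_sum_monomial_coeff]
    rw [Finset.sum_eq_add_sum_sdiff_singleton_of_mem vin h]
  rw [hf] at coeff
  rw [coeff, leadingCoeff_finSuccEquiv_t up f v hup0]
  exact (mem_support_iff.mp vin).isUnit.map MvPolynomial.C

end equivT

open MvPolynomial

/-- The basic elimination step over a field, with a uniform exponent. -/
lemma finite_aeval_sub {k : Type*} [Field k] {n : ℕ} {A : Type*} [CommRing A] [Algebra k A]
    (φ : MvPolynomial (Fin (n + 1)) k →ₐ[k] A) (hφ : φ.Finite)
    (G : MvPolynomial (Fin (n + 1)) k) (hG : G ≠ 0) (hφG : φ G = 0)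
    (up : ℕ) (hup : 2 + G.totalDegree ≤ up) :
    (MvPolynomial.aeval (fun i : Fin n => φ (X i.succ) - φ (X 0) ^ (up ^ (i.1 + 1))) :
      MvPolynomial (Fin n) k →ₐ[k] A).Finite := by
  set ψ : MvPolynomial (Fin n) k →ₐ[k] A :=
    (MvPolynomial.aeval (fun i : Fin n => φ (X i.succ) - φ (X 0) ^ (up ^ (i.1 + 1)))) with hψ
  have hA : Algebra.FiniteType k A := by
    have h1 : (φ.toRingHom.comp (algebraMap k (MvPolynomial (Fin (n+1)) k))).FiniteType :=
      (RingHom.FiniteType.of_finite hφ).comp (RingHom.finiteType_algebraMap.mpr inferInstance)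
    have h2 : φ.toRingHom.comp (algebraMap k (MvPolynomial (Fin (n+1)) k)) = algebraMap k A :=
      φ.comp_algebraMap
    rw [h2] at h1
    exact RingHom.finiteType_algebraMap.mp h1
  -- the transported map
  let χ : Polynomial (MvPolynomial (Fin n) k) →ₐ[k] A :=
    (φ.comp (T up).symm.toAlgHom).comp (finSuccEquiv k n).symm.toAlgHom
  have hχfin : χ.toRingHom.Finite := by
    have h1 : (φ.toRingHom.comp ((T (k := k) (n := n) up).symm.toAlgHom.toRingHom.comp
        (finSuccEquiv k n).symm.toAlgHom.toRingHom)).Finite := by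
      refine RingHom.Finite.comp hφ (RingHom.Finite.comp ?_ ?_)
      · exact RingHom.Finite.of_surjective _ (T up).symm.surjective
      · exact RingHom.Finite.of_surjective _ (finSuccEquiv k n).symm.surjective
    exact h1
  have hχC : χ.toRingHom.comp (Polynomial.C) = ψ.toRingHom := by
    have : (χ.comp ((Algebra.ofId (MvPolynomial (Fin n) k)
      (Polynomial (MvPolynomial (Fin n) k))).restrictScalars k)) = ψ := by
      apply MvPolynomial.algHom_ext
      intro i
      have h1 : (finSuccEquiv k n).symm (Polynomial.C (X i)) = X i.succ := by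
        rw [AlgEquiv.symm_apply_eq, finSuccEquiv_X_succ]
      have h2 : (T (k := k) up).symm (X i.succ) = X i.succ - X 0 ^ (up ^ (i.1 + 1)) := by
        change T1 (k := k) up (-1) (X i.succ) = _
        simp [sub_eq_add_neg]
      change φ ((T up).symm ((finSuccEquiv k n).symm (Polynomial.C (X i)))) = _
      rw [h1, h2, hψ, aeval_X, map_sub, map_pow]
    exact congrArg AlgHom.toRingHom this
  have hker : finSuccEquiv k n (T up G) ∈ RingHom.ker χ.toRingHom := by
    rw [RingHom.mem_ker]
    change φ ((T up).symm ((finSuccEquiv k n).symm (finSuccEquiv k n (T up G)))) = 0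
    rw [AlgEquiv.symm_apply_apply, AlgEquiv.symm_apply_apply, hφG]
  have hu := T_leadingcoeff_isUnit up G hup hG
  have hint : ψ.toRingHom.IsIntegral := by
    rw [← hχC]
    have h1 := (Polynomial.monic_of_isUnit_leadingCoeff_inv_smul hu).quotient_isIntegral
      (I := RingHom.ker χ.toRingHom) (Submodule.smul_of_tower_mem _ hu.unit⁻¹.val hker)
    let L : (Polynomial (MvPolynomial (Fin n) k) ⧸ RingHom.ker χ.toRingHom) →+* A :=
      Ideal.Quotient.lift (RingHom.ker χ.toRingHom) χ.toRingHom (fun a ha => ha)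
    have h2 : RingHom.IsIntegral (R := Polynomial (MvPolynomial (Fin n) k) ⧸ RingHom.ker χ.toRingHom)
        (A := A) L := by
      refine RingHom.Finite.to_isIntegral ?_
      refine RingHom.Finite.of_comp_finite (f := Ideal.Quotient.mk _) ?_
      rw [Ideal.Quotient.lift_comp_mk]
      exact hχfin
    have := h1.trans _ _ h2
    exact this
  refine hint.to_finite ?_
  refine RingHom.FiniteType.of_comp_finiteType (f := algebraMap k _) ?_
  have h2 : ψ.toRingHom.comp (algebraMap k (MvPolynomial (Fin n) k)) = algebraMap k A :=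
    ψ.comp_algebraMap
  rw [h2]
  exact RingHom.finiteType_algebraMap.mpr hA


open Topology in
/-- Compactness of the constructible topology, in elementary form. -/
lemma exists_finset_of_forall_constructible {R : Type*} [CommRing R] {ι : Type*}
    (P : ι → PrimeSpectrum R → Prop)
    (h : ∀ p : PrimeSpectrum R, ∃ i, ∃ (a : R) (I : Finset R), a ∉ p.asIdeal ∧
      ((I : Set R) ⊆ p.asIdeal) ∧
      ∀ q : PrimeSpectrum R, a ∉ q.asIdeal → (I : Set R) ⊆ q.asIdeal → P i q) :
    ∃ t : Finset ι, ∀ q, ∃ i ∈ t, P i q := by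
  classical
  choose i a I ha hI hP using h
  let V : PrimeSpectrum R → Set (PrimeSpectrum R) := fun p =>
    (PrimeSpectrum.basicOpen (a p) : Set _) ∩ PrimeSpectrum.zeroLocus (I p : Set R)
  let U : PrimeSpectrum R → Set (WithConstructibleTopology (PrimeSpectrum R)) := fun p =>
    WithTopology.ofTopology ⁻¹' (V p)
  have hV : ∀ p, IsOpen[constructibleTopology (PrimeSpectrum R)] (V p) := by
    intro p
    refine (constructibleTopology (PrimeSpectrum R)).isOpen_inter _ _ ?_ ?_
    · exact (PrimeSpectrum.isCompact_basicOpen _).isOpen_constructibleTopology_of_isOpen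
        PrimeSpectrum.isOpen_basicOpen
    · refine IsCompact.isOpen_constructibleTopology_of_isClosed ?_
        (PrimeSpectrum.isClosed_zeroLocus _)
      exact (PrimeSpectrum.isCompact_isOpen_iff.mpr ⟨I p, rfl⟩).1
  have hU : ∀ p, IsOpen (U p) := fun p => by
    rw [WithConstructibleTopology.isOpen_iff]
    exact hV p
  obtain ⟨t, ht⟩ := isCompact_univ.elim_finite_subcover U hU (by
    intro x _
    simp only [Set.mem_iUnion]
    refine ⟨x.ofTopology, ?_, ?_⟩
    · exact ha _
    · exact hI _)
  refine ⟨t.image i, fun q => ?_⟩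
  have := ht (Set.mem_univ (WithTopology.toTopology _ q))
  simp only [Set.mem_iUnion] at this
  obtain ⟨p, hp, hq⟩ := this
  exact ⟨i p, Finset.mem_image_of_mem _ hp, hP p q hq.1 hq.2⟩

/-- an injective integral map does not decrease the Krull dimension. -/
lemma ringKrullDim_le_of_isIntegral_of_injective {R S : Type*} [CommRing R] [CommRing S]
    (f : R →+* S) (hf : f.IsIntegral) (hinj : Function.Injective f) :
    ringKrullDim R ≤ ringKrullDim S := by
  let _ := f.toAlgebra
  have : Algebra.IsIntegral R S := ⟨hf⟩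
  have hfs : FaithfulSMul R S := (faithfulSMul_iff_algebraMap_injective R S).mpr hinj
  refine iSup_le fun l => ?_
  obtain ⟨P, hP, hP'⟩ := (Ideal.nonempty_primesOver (S := S) l.head.asIdeal)
  obtain ⟨L, hL, -, -⟩ := Ideal.exists_ltSeries_of_hasGoingUp (S := S) l P
  rw [← hL]
  exact le_iSup (fun (p : LTSeries (PrimeSpectrum S)) => (p.length : WithBot ℕ∞)) L

open TensorProduct

/-- fibrewise finiteness of the map from the polynomial ring given by `s`. -/
def FibFin {R S : Type*} [CommRing R] [CommRing S] [Algebra R S] {n : ℕ} (s : Fin n → S) : Prop :=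
  ∀ (p : Ideal R) [p.IsPrime], (MvPolynomial.aeval (fun i => (1 ⊗ₜ s i : p.Fiber S)) :
    MvPolynomial (Fin n) p.ResidueField →ₐ[p.ResidueField] p.Fiber S).Finite

lemma aeval_fiber {R S : Type*} [CommRing R] [CommRing S] [Algebra R S] {n : ℕ} (s : Fin n → S)
    (p : Ideal R) [p.IsPrime] (G : MvPolynomial (Fin n) R) :
    (MvPolynomial.aeval (fun i => (1 ⊗ₜ s i : p.Fiber S)) :
    MvPolynomial (Fin n) p.ResidueField →ₐ[p.ResidueField] p.Fiber S)
      (MvPolynomial.map (algebraMap R p.ResidueField) G) = 1 ⊗ₜ (MvPolynomial.aeval s G) := by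
  rw [MvPolynomial.aeval_map_algebraMap]
  change _ = (Algebra.TensorProduct.includeRight : S →ₐ[R] p.Fiber S) _
  rw [← AlgHom.comp_apply, MvPolynomial.comp_aeval]
  rfl

lemma fibFin_of_surjective {R S : Type*} [CommRing R] [CommRing S] [Algebra R S] {n : ℕ}
    (s : Fin n → S) (hs : Function.Surjective (MvPolynomial.aeval (R := R) s)) :
    FibFin (R := R) s := by
  intro p _
  refine RingHom.Finite.of_surjective _ ?_
  intro z
  induction z using TensorProduct.induction_on with
  | zero => exact ⟨0, map_zero _⟩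
  | tmul a b =>
    obtain ⟨G, rfl⟩ := hs b
    refine ⟨a • MvPolynomial.map (algebraMap R p.ResidueField) G, ?_⟩
    change (MvPolynomial.aeval (fun i => (1 ⊗ₜ s i : p.Fiber S)) :
      MvPolynomial (Fin n) p.ResidueField →ₐ[p.ResidueField] p.Fiber S) _ = _
    rw [map_smul, aeval_fiber, smul_tmul', smul_eq_mul, mul_one]
  | add x y hx hy =>
    obtain ⟨x', rfl⟩ := hx
    obtain ⟨y', rfl⟩ := hy
    exact ⟨x' + y', map_add _ _ _⟩

attribute [local instance] Algebra.TensorProduct.rightAlgebra in
lemma exists_mul_mem_map_of_tmul_eq_zero {R S : Type*} [CommRing R] [CommRing S] [Algebra R S]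
    (p : Ideal R) [p.IsPrime] (b : S) (h : (1 ⊗ₜ b : p.Fiber S) = 0) :
    ∃ r ∉ p, algebraMap R S r * b ∈ p.map (algebraMap R S) := by
  have e := Ideal.Fiber.algEquivAux₁ (S := S) p
  have h1 : e (1 ⊗ₜ b) = algebraMap S _ b := e.commutes b
  rw [h, map_zero] at h1
  replace h1 := h1.symm
  rw [IsScalarTower.algebraMap_apply S (Localization (Algebra.algebraMapSubmonoid S p.primeCompl)),
    Ideal.Quotient.algebraMap_eq, Ideal.Quotient.eq_zero_iff_mem,
    IsLocalization.mem_map_algebraMap_iff (Algebra.algebraMapSubmonoid S p.primeCompl)] at h1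
  obtain ⟨⟨a, m⟩, hm⟩ := h1
  rw [← map_mul, IsLocalization.eq_iff_exists (Algebra.algebraMapSubmonoid S p.primeCompl)] at hm
  obtain ⟨c, hc⟩ := hm
  obtain ⟨_, m, hm', rfl⟩ := m
  obtain ⟨_, c, hc', rfl⟩ := c
  refine ⟨c * m, p.primeCompl.mul_mem hc' hm', ?_⟩
  rw [map_mul]
  have h2 : algebraMap R S c * algebraMap R S m * b = algebraMap R S c * (b * algebraMap R S m) := by
    ring
  rw [h2]
  refine (congrArg (fun z => z ∈ p.map (algebraMap R S)) hc).mpr ?_
  exact Ideal.mul_mem_left _ _ a.2

/-- vanishing in the fibre is a constructible condition -/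
lemma fiber_tmul_eq_zero {R S : Type*} [CommRing R] [CommRing S] [Algebra R S]
    (p : Ideal R) [p.IsPrime] (b : S) (h : (1 ⊗ₜ b : p.Fiber S) = 0) :
    ∃ (a : R) (I : Finset R), a ∉ p ∧ (I : Set R) ⊆ p ∧
      ∀ q : PrimeSpectrum R, a ∉ q.asIdeal → (I : Set R) ⊆ q.asIdeal →
        (1 ⊗ₜ b : q.asIdeal.Fiber S) = 0 := by
  classical
  obtain ⟨r, hr, hrb⟩ := exists_mul_mem_map_of_tmul_eq_zero p b h
  obtain ⟨T, hT, hT'⟩ := Submodule.mem_span_finite_of_mem_span hrb
  obtain ⟨I, hI, rfl⟩ := Finset.subset_set_image_iff.mp hT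
  refine ⟨r, I, hr, hI, fun q hq hIq => ?_⟩
  have h1 : (1 ⊗ₜ (algebraMap R S r * b) : q.asIdeal.Fiber S) = 0 := by
    have : algebraMap R S r * b ∈ RingHom.ker
        (Algebra.TensorProduct.includeRight : S →ₐ[R] q.asIdeal.Fiber S).toRingHom := by
      refine (Ideal.span_le.mpr ?_) hT'
      intro x hx
      simp only [Finset.coe_image, Set.mem_image, Finset.mem_coe] at hx
      obtain ⟨i, hi, rfl⟩ := hx
      change (Algebra.TensorProduct.includeRight : S →ₐ[R] q.asIdeal.Fiber S) _ = 0
      rw [AlgHom.commutes, IsScalarTower.algebraMap_apply R q.asIdeal.ResidueField,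
        Ideal.algebraMap_residueField_eq_zero.mpr (hIq hi), map_zero]
    exact this
  have h2 : (algebraMap R q.asIdeal.ResidueField r) • (1 ⊗ₜ b : q.asIdeal.Fiber S) = 0 := by
    rw [← h1, ← Algebra.smul_def, tmul_smul, algebraMap_smul]
  refine (IsUnit.smul_eq_zero ?_).mp h2
  rw [isUnit_iff_ne_zero, ne_eq, Ideal.algebraMap_residueField_eq_zero]
  exact hq


lemma totalDegree_map_le' {R S : Type*} [CommSemiring R] [CommSemiring S] {σ : Type*} (f : R →+* S)
    (G : MvPolynomial σ R) : (MvPolynomial.map f G).totalDegree ≤ G.totalDegree := by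
  exact Finset.sup_mono (MvPolynomial.support_map_subset _ _)

lemma fibFin_step {R S : Type*} [CommRing R] [CommRing S] [Algebra R S] {n : ℕ}
    (s : Fin (n + 1) → S) (hs : FibFin (R := R) s)
    (hd : ∀ p : PrimeSpectrum R, ringKrullDim (p.asIdeal.Fiber S) ≤ n) :
    ∃ s' : Fin n → S, FibFin (R := R) s' := by
  classical
  let P : MvPolynomial (Fin (n+1)) R → PrimeSpectrum R → Prop := fun G q =>
    MvPolynomial.map (algebraMap R q.asIdeal.ResidueField) G ≠ 0 ∧
      (1 ⊗ₜ (MvPolynomial.aeval s G) : q.asIdeal.Fiber S) = 0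
  obtain ⟨t, ht⟩ := exists_finset_of_forall_constructible P (by
    intro p
    have hfin := hs p.asIdeal
    have hninj : ¬ Function.Injective (MvPolynomial.aeval (fun i => (1 ⊗ₜ s i : p.asIdeal.Fiber S)) :
        MvPolynomial (Fin (n+1)) p.asIdeal.ResidueField →ₐ[p.asIdeal.ResidueField]
          p.asIdeal.Fiber S) := by
      intro hinj
      have h1 := ringKrullDim_le_of_isIntegral_of_injective _ (RingHom.Finite.to_isIntegral hfin) hinj
      rw [MvPolynomial.ringKrullDim_of_isNoetherianRing, ringKrullDim_eq_zero_of_field] at h1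
      have h2 := h1.trans (hd p)
      simp only [Nat.card_eq_fintype_card, Fintype.card_fin, zero_add] at h2
      norm_cast at h2
      omega
    obtain ⟨g, hg0, hg⟩ : ∃ g, (MvPolynomial.aeval (fun i => (1 ⊗ₜ s i : p.asIdeal.Fiber S)) :
        MvPolynomial (Fin (n+1)) p.asIdeal.ResidueField →ₐ[p.asIdeal.ResidueField]
          p.asIdeal.Fiber S) g = 0 ∧ g ≠ 0 := by
      by_contra hcon
      push Not at hcon
      exact hninj ((injective_iff_map_eq_zero _).mpr hcon)
    let e := MvPolynomial.algebraTensorAlgEquiv (σ := Fin (n+1)) R p.asIdeal.ResidueField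
    obtain ⟨r, hr, G, hG⟩ := Ideal.Fiber.exists_smul_eq_one_tmul p.asIdeal (e.symm g)
    have hG' : MvPolynomial.map (algebraMap R p.asIdeal.ResidueField) G = r • g := by
      have := congrArg e hG
      rw [MvPolynomial.algebraTensorAlgEquiv_tmul, one_smul] at this
      rw [← this, ← algebraMap_smul p.asIdeal.ResidueField r, map_smul, e.apply_symm_apply,
        algebraMap_smul]
    have hr' : algebraMap R p.asIdeal.ResidueField r ≠ 0 := by
      rwa [ne_eq, Ideal.algebraMap_residueField_eq_zero]
    have hG0 : MvPolynomial.map (algebraMap R p.asIdeal.ResidueField) G ≠ 0 := by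
      rw [hG', ← algebraMap_smul p.asIdeal.ResidueField r]
      exact smul_ne_zero hr' hg
    have hG1 : (1 ⊗ₜ (MvPolynomial.aeval s G) : p.asIdeal.Fiber S) = 0 := by
      rw [← aeval_fiber, hG', ← algebraMap_smul p.asIdeal.ResidueField r, map_smul, hg0, smul_zero]
    obtain ⟨a, I, ha, hI, haI⟩ := fiber_tmul_eq_zero p.asIdeal _ hG1
    obtain ⟨m, hm⟩ := MvPolynomial.ne_zero_iff.mp hG0
    rw [MvPolynomial.coeff_map, ne_eq, Ideal.algebraMap_residueField_eq_zero] at hm
    refine ⟨G, a * MvPolynomial.coeff m G, I, p.asIdeal.primeCompl.mul_mem ha hm, hI, ?_⟩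
    intro q hq hIq
    refine ⟨?_, haI q (fun h => hq (Ideal.mul_mem_right _ _ h)) hIq⟩
    rw [MvPolynomial.ne_zero_iff]
    refine ⟨m, ?_⟩
    rw [MvPolynomial.coeff_map, ne_eq, Ideal.algebraMap_residueField_eq_zero]
    exact fun h => hq (Ideal.mul_mem_left _ _ h))
  let up : ℕ := 2 + t.sup MvPolynomial.totalDegree
  refine ⟨fun i => s i.succ - s 0 ^ (up ^ (i.1 + 1)), fun p hp => ?_⟩
  obtain ⟨G, hGt, hG0, hG1⟩ := ht ⟨p, hp⟩
  have h := finite_aeval_sub (MvPolynomial.aeval (fun i => (1 ⊗ₜ s i : p.Fiber S)) :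
        MvPolynomial (Fin (n+1)) p.ResidueField →ₐ[p.ResidueField]
          p.Fiber S) (hs p) (MvPolynomial.map (algebraMap R p.ResidueField) G) hG0
          (by rw [aeval_fiber]; exact hG1) up (by
            have h1 := totalDegree_map_le' (algebraMap R p.ResidueField) G
            have h2 := Finset.le_sup (f := MvPolynomial.totalDegree) hGt
            simp only [up]
            omega)
  have h3 : (fun i : Fin n => (1 ⊗ₜ (s i.succ - s 0 ^ (up ^ (i.1 + 1))) : p.Fiber S)) =
      fun i : Fin n => (MvPolynomial.aeval (fun i => (1 ⊗ₜ s i : p.Fiber S)) :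
        MvPolynomial (Fin (n+1)) p.ResidueField →ₐ[p.ResidueField] p.Fiber S) (X i.succ) -
        (MvPolynomial.aeval (fun i => (1 ⊗ₜ s i : p.Fiber S)) :
        MvPolynomial (Fin (n+1)) p.ResidueField →ₐ[p.ResidueField] p.Fiber S) (X 0) ^
          (up ^ (i.1 + 1)) := by
    funext i
    rw [aeval_X, aeval_X, tmul_sub, Algebra.TensorProduct.tmul_pow, one_pow]
  rw [h3]
  exact h


lemma fibFin_succ {R S : Type*} [CommRing R] [CommRing S] [Algebra R S] {n : ℕ}
    (s : Fin n → S) (hs : FibFin (R := R) s) : FibFin (R := R) (Fin.cons 0 s : Fin (n + 1) → S) := by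
  intro p _
  refine RingHom.Finite.of_comp_finite (f := (MvPolynomial.rename (R := p.ResidueField)
    (Fin.succ : Fin n → Fin (n+1))).toRingHom) ?_
  have h : ((MvPolynomial.aeval (fun i => (1 ⊗ₜ (Fin.cons 0 s : Fin (n + 1) → S) i : p.Fiber S)) :
    MvPolynomial (Fin (n + 1)) p.ResidueField →ₐ[p.ResidueField] p.Fiber S).comp
      (MvPolynomial.rename (R := p.ResidueField) (Fin.succ : Fin n → Fin (n+1)))) =
      MvPolynomial.aeval (fun i => (1 ⊗ₜ s i : p.Fiber S)) := by
    apply MvPolynomial.algHom_ext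
    intro i
    simp
  have h2 := hs p
  rw [← h] at h2
  exact h2

lemma exists_fibFin {R S : Type*} [CommRing R] [CommRing S] [Algebra R S] [Algebra.FiniteType R S]
    (d : ℕ) (hd : ∀ p : PrimeSpectrum R, ringKrullDim (p.asIdeal.Fiber S) ≤ d) :
    ∃ s : Fin d → S, FibFin (R := R) s := by
  obtain ⟨n, f, hf⟩ := Algebra.FiniteType.iff_quotient_mvPolynomial''.mp
    (inferInstance : Algebra.FiniteType R S)
  have h0 : ∃ s : Fin n → S, FibFin (R := R) s := by
    refine ⟨fun i => f (X i), fibFin_of_surjective _ ?_⟩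
    have : (MvPolynomial.aeval (R := R) fun i => f (X i)) = f := by
      apply MvPolynomial.algHom_ext
      intro i
      simp
    rw [this]
    exact hf
  rcases le_total n d with hnd | hnd
  · induction d, hnd using Nat.le_induction with
    | base => exact h0
    | succ m hm ih =>
      clear ih
      clear hd
      induction m, hm using Nat.le_induction with
      | base => 
        obtain ⟨s, hs⟩ := h0
        exact ⟨_, fibFin_succ s hs⟩
      | succ m hm ih =>
        obtain ⟨s, hs⟩ := ih
        exact ⟨_, fibFin_succ s hs⟩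
  · obtain ⟨k, rfl⟩ := Nat.exists_eq_add_of_le hnd
    clear hnd hf f
    induction k with
    | zero => exact h0
    | succ k ih =>
      apply ih
      obtain ⟨s, hs⟩ := h0
      exact fibFin_step s hs (fun p => (hd p).trans (by norm_cast; omega))

lemma quasiFinite_of_fibFin {R S : Type*} [CommRing R] [CommRing S] [Algebra R S] {n : ℕ}
    (s : Fin n → S) (hs : FibFin (R := R) s) :
    (MvPolynomial.aeval (R := R) s).toRingHom.QuasiFinite := by
  let _ : Algebra (MvPolynomial (Fin n) R) S := (MvPolynomial.aeval (R := R) s).toRingHom.toAlgebra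
  have _ : IsScalarTower R (MvPolynomial (Fin n) R) S :=
    IsScalarTower.of_algebraMap_eq' (MvPolynomial.aeval (R := R) s).comp_algebraMap.symm
  change Algebra.QuasiFinite (MvPolynomial (Fin n) R) S
  refine ⟨fun P _ => ?_⟩
  let p : Ideal R := P.comap (algebraMap R (MvPolynomial (Fin n) R))
  have hp : p.IsPrime := inferInstance
  have hfin := hs p
  let f : p.ResidueField →ₐ[R] P.Fiber S :=
    (Algebra.TensorProduct.includeLeft : P.ResidueField →ₐ[R] P.Fiber S).comp
      (Ideal.ResidueField.mapₐ p P (Algebra.ofId R (MvPolynomial (Fin n) R)) rfl)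
  let g : S →ₐ[R] P.Fiber S :=
    (Algebra.TensorProduct.includeRight : S →ₐ[MvPolynomial (Fin n) R] P.Fiber S).restrictScalars R
  let h : p.Fiber S →ₐ[R] P.Fiber S := Algebra.TensorProduct.lift f g (fun _ _ => .all _ _)
  let κ : p.ResidueField →+* P.ResidueField :=
    (Ideal.ResidueField.mapₐ p P (Algebra.ofId R (MvPolynomial (Fin n) R)) rfl).toRingHom
  let ev : MvPolynomial (Fin n) p.ResidueField →+* P.ResidueField :=
    MvPolynomial.eval₂Hom κ (fun i => algebraMap (MvPolynomial (Fin n) R) P.ResidueField (X i))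
  have hev : ∀ G, h (MvPolynomial.aeval (fun i => (1 ⊗ₜ s i : p.Fiber S)) G) =
      algebraMap P.ResidueField (P.Fiber S) (ev G) := by
    intro G
    suffices hh : h.toRingHom.comp (MvPolynomial.aeval (R := p.ResidueField)
        (fun i => (1 ⊗ₜ s i : p.Fiber S))).toRingHom =
        (algebraMap P.ResidueField (P.Fiber S)).comp ev from DFunLike.congr_fun hh G
    apply MvPolynomial.ringHom_ext
    · intro a
      change h (MvPolynomial.aeval (R := p.ResidueField)
        (fun i => (1 ⊗ₜ s i : p.Fiber S)) (C a)) = algebraMap P.ResidueField (P.Fiber S) (ev (C a))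
      have h1 : ev (C a) = κ a := MvPolynomial.eval₂Hom_C _ _ _
      rw [h1, MvPolynomial.aeval_C]
      change h (a ⊗ₜ 1) = _
      rw [Algebra.TensorProduct.lift_tmul, map_one, mul_one]
      rfl
    · intro i
      change h (MvPolynomial.aeval (R := p.ResidueField)
        (fun i => (1 ⊗ₜ s i : p.Fiber S)) (X i)) = algebraMap P.ResidueField (P.Fiber S) (ev (X i))
      have h1 : ev (X i) = algebraMap (MvPolynomial (Fin n) R) P.ResidueField (X i) :=
        MvPolynomial.eval₂Hom_X' _ _ _
      rw [h1, MvPolynomial.aeval_X, Algebra.TensorProduct.lift_tmul, map_one, one_mul]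
      have h2 : s i = algebraMap (MvPolynomial (Fin n) R) S (X i) := by
        change _ = MvPolynomial.aeval (R := R) s (X i)
        rw [MvPolynomial.aeval_X]
      rw [h2]
      change (Algebra.TensorProduct.includeRight : S →ₐ[MvPolynomial (Fin n) R] P.Fiber S) _ = _
      rw [AlgHom.commutes]
      rfl
  let _ : Algebra (MvPolynomial (Fin n) p.ResidueField) (p.Fiber S) :=
    (MvPolynomial.aeval (R := p.ResidueField) (fun i => (1 ⊗ₜ s i : p.Fiber S))).toRingHom.toAlgebra
  have hfin' : Module.Finite (MvPolynomial (Fin n) p.ResidueField) (p.Fiber S) := hfin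
  obtain ⟨T, hT⟩ := hfin'.fg_top
  classical
  have key : ∀ w : p.Fiber S, h w ∈ Submodule.span P.ResidueField (T.image h : Set (P.Fiber S)) := by
    intro w
    have hw : w ∈ Submodule.span (MvPolynomial (Fin n) p.ResidueField) (T : Set (p.Fiber S)) := by
      rw [hT]; trivial
    induction hw using Submodule.span_induction with
    | mem x hx => exact Submodule.subset_span (Finset.mem_coe.mpr (Finset.mem_image_of_mem h hx))
    | zero => rw [map_zero]; exact Submodule.zero_mem _
    | add x y _ _ hx hy => rw [map_add]; exact Submodule.add_mem _ hx hy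
    | smul G x _ hx =>
      have : G • x = MvPolynomial.aeval (R := p.ResidueField)
        (fun i => (1 ⊗ₜ s i : p.Fiber S)) G * x := rfl
      rw [this, map_mul, hev, ← Algebra.smul_def]
      exact Submodule.smul_mem _ _ hx
  refine ⟨⟨T.image h, ?_⟩⟩
  rw [eq_top_iff]
  intro z _
  induction z using TensorProduct.induction_on with
  | zero => exact Submodule.zero_mem _
  | tmul a b =>
    have h1 : (a ⊗ₜ b : P.Fiber S) = a • h (1 ⊗ₜ b) := by
      rw [Algebra.TensorProduct.lift_tmul, map_one, one_mul]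
      change _ = a • (1 ⊗ₜ b)
      rw [smul_tmul', smul_eq_mul, mul_one]
    rw [h1]
    exact Submodule.smul_mem _ _ (key _)
  | add x y hx hy => exact Submodule.add_mem _ (hx trivial) (hy trivial)

end helpers

/-- Stacks Tag 0GTG (weak relative Noether normalization): for a finite type ring map R → S whose fibre rings have dimensions with maximum exactly d: there is an R-algebra map from the polynomial ring R[t_1, ..., t_d] to S which is quasi-finite (here: every fibre ring is finite over the residue field; S is of finite type over the polynomial ring automatically). -/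
theorem result {R S : Type u} [CommRing R] [CommRing S] [Algebra R S] [Algebra.FiniteType R S] (d : ℕ)
    (hd : ⨆ p : PrimeSpectrum R, ringKrullDim (p.asIdeal.Fiber S) = (d : WithBot ℕ∞)) :
    ∃ φ : MvPolynomial (Fin d) R →ₐ[R] S, φ.toRingHom.QuasiFinite := by
  obtain ⟨s, hs⟩ := exists_fibFin (R := R) (S := S) d (fun p => (le_iSup (fun p : PrimeSpectrum R =>
    ringKrullDim (p.asIdeal.Fiber S)) p).trans hd.le)
  exact ⟨MvPolynomial.aeval (R := R) s, quasiFinite_of_fibFin s hs⟩

end Groth.Agent.S1362
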