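import Groth.Statements.S1368
import Groth.Agent.Flat2E.RelAssSch

set_option autoImplicit false
universe u
open FlatMor

namespace Groth.Agent.S1368

open AlgebraicGeometry CategoryTheory Limits in
/-- Stacks Tag 05KP: let f be of finite type with irreducible target, F a quasi-coherent module of finite type on the source and U an open of the source. If the associated points of F restricted to the generic fibre all lie in U, then over some nonempty open of the target the associated points of F restricted to every fibre lie in U. -/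
theorem result {X Y : Scheme.{u}} (f : X ⟶ Y) [IrreducibleSpace ↑Y] [LocallyOfFiniteType f] [QuasiCompact f]
    (F : X.Modules) (hF : Coh.IsCoh F) (U : X.Opens)
    (h : ∀ x ∈ MoreMor.relAss f F, f x = genericPoint ↑Y → x ∈ U) :
    ∃ V : Y.Opens, (V : Set ↑Y).Nonempty ∧ ∀ x ∈ MoreMor.relAss f F, f x ∈ V → x ∈ U := by
  classical
  obtain ⟨W, hW, hηW, -⟩ := exists_isAffineOpen_mem_and_subset
    (x := genericPoint ↑Y) (U := ⊤) trivial
  have hcomp : IsCompact ((f ⁻¹ᵁ W : X.Opens) : Set X) :=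
    QuasiCompact.isCompact_preimage _ W.isOpen hW.isCompact
  obtain ⟨s, hs, hs'⟩ := isCompact_and_isOpen_iff_finite_and_eq_biUnion_affineOpens.mp
    ⟨hcomp, (f ⁻¹ᵁ W).isOpen⟩
  have hle : ∀ i ∈ s, (i : X.Opens) ≤ f ⁻¹ᵁ W := by
    intro i hi x hx
    have : x ∈ ((f ⁻¹ᵁ W : X.Opens) : Set X) := by
      rw [hs']
      exact Set.mem_biUnion hi hx
    exact this
  have key : ∀ i : X.affineOpens, ∃ V : Y.Opens, genericPoint ↑Y ∈ V ∧
      (i ∈ s → ∀ x ∈ MoreMor.relAss f F, x ∈ (i : X.Opens) → f x ∈ V → x ∈ U) := by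
    intro i
    by_cases hi : i ∈ s
    · obtain ⟨V, hV, h'⟩ := Groth.Agent.Flat2E.RelAssSch.exists_chart_subset f i.2 hW (hle i hi)
        hF (genericPoint ↑Y) hηW (fun y _ => genericPoint_specializes y) U h
      exact ⟨V, hV, fun _ => h'⟩
    · exact ⟨⊤, trivial, fun h => (hi h).elim⟩
  choose V hV hV' using key
  refine ⟨W ⊓ ⟨⋂ i ∈ s, (V i : Set Y), hs.isOpen_biInter fun i _ => (V i).isOpen⟩,
    ⟨genericPoint ↑Y, hηW, Set.mem_iInter₂.mpr fun i _ => hV i⟩, ?_⟩
  rintro x hxr ⟨hxW, hxV⟩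
  have hx : x ∈ ((f ⁻¹ᵁ W : X.Opens) : Set X) := hxW
  rw [hs'] at hx
  obtain ⟨i, hi, hxi⟩ := Set.mem_iUnion₂.mp hx
  exact hV' i hi x hxr hxi (Set.mem_iInter₂.mp hxV i hi)

end Groth.Agent.S1368
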