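import Groth.Statements.S1369
import Groth.Agent.Flat2E.RelAssSch

set_option autoImplicit false
universe u
open FlatMor

namespace Groth.Agent.S1369

open AlgebraicGeometry CategoryTheory Limits in
/-- Stacks Tag 05KN: let f be of finite type with irreducible target, F a quasi-coherent module of finite type on the source and U an open of the source. If some associated point of F restricted to the generic fibre is not in U, then over some nonempty open of the target every fibre carries an associated point of F (restricted to that fibre) outside U. -/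
theorem result {X Y : Scheme.{u}} (f : X ⟶ Y) [IrreducibleSpace ↑Y] [LocallyOfFiniteType f] [QuasiCompact f]
    (F : X.Modules) (hF : Coh.IsCoh F) (U : X.Opens)
    (h : ∃ x ∈ MoreMor.relAss f F, f x = genericPoint ↑Y ∧ x ∉ U) :
    ∃ V : Y.Opens, (V : Set ↑Y).Nonempty ∧ ∀ y ∈ V, ∃ x ∈ MoreMor.relAss f F, f x = y ∧ x ∉ U := by
  obtain ⟨x, hxr, hfx, hxU⟩ := h
  obtain ⟨W, hW, hfxW, -⟩ := exists_isAffineOpen_mem_and_subset
    (x := f x) (U := ⊤) trivial
  obtain ⟨T, hT, hxT, hTW⟩ := exists_isAffineOpen_mem_and_subset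
    (x := x) (U := f ⁻¹ᵁ W) hfxW
  obtain ⟨V, hV, h⟩ := Groth.Agent.Flat2E.RelAssSch.exists_chart_point f hT hW hTW x hxT hF hxr
  refine ⟨V, ⟨f x, hV⟩, fun y hy => ?_⟩
  obtain ⟨x', hx'r, hxx', rfl⟩ := h y hy (by rw [hfx]; exact genericPoint_specializes y)
  exact ⟨x', hx'r, rfl, fun h => hxU (hxx'.mem_open U.isOpen h)⟩

end Groth.Agent.S1369
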