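import Groth.Statements.S1370
import Groth.Agent.Flat2E.RelAssCons

set_option autoImplicit false
universe u
open FlatMor

namespace Groth.Agent.S1370

open AlgebraicGeometry CategoryTheory Limits in
/-- Stacks Tag 05KR: let f be of finite presentation, F a quasi-coherent module of finite presentation on the source, and U an open of the source which is quasi-compact over the target. Then the set of points y of the target such that all associated points of F restricted to the fibre over y lie in U is locally constructible. -/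
theorem result {X Y : Scheme.{u}} (f : X ⟶ Y) [LocallyOfFinitePresentation f] [QuasiCompact f] [QuasiSeparated f]
    (F : X.Modules) (hFq : Coh.IsQCoh F) (hFp : CohB1.IsFP F) (U : X.Opens) [QuasiCompact (U.ι ≫ f)] :
    Topology.IsLocallyConstructible {y : ↑Y | ∀ x ∈ MoreMor.relAss f F, f x = y → x ∈ U} := by
  classical
  intro y
  obtain ⟨W, hW, hyW, -⟩ := exists_isAffineOpen_mem_and_subset
    (x := y) (U := ⊤) trivial
  refine ⟨W, W.isOpen.mem_nhds hyW, W.isOpen, ?_⟩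
  have hcomp : IsCompact ((f ⁻¹ᵁ W : X.Opens) : Set X) :=
    QuasiCompact.isCompact_preimage _ W.isOpen hW.isCompact
  have hqs : IsQuasiSeparated ((f ⁻¹ᵁ W : X.Opens) : Set X) :=
    f.isQuasiSeparated_preimage hW.isQuasiSeparated
  have hUW : IsCompact ((U ⊓ f ⁻¹ᵁ W : X.Opens) : Set X) := by
    have h1 : IsCompact ((U.ι ≫ f) ⁻¹' (W : Set Y)) :=
      QuasiCompact.isCompact_preimage _ W.isOpen hW.isCompact
    have h2 : ((U ⊓ f ⁻¹ᵁ W : X.Opens) : Set X) = U.ι '' ((U.ι ≫ f) ⁻¹' (W : Set Y)) := by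
      ext x
      constructor
      · rintro ⟨hxU, hxW⟩
        exact ⟨⟨x, hxU⟩, hxW, rfl⟩
      · rintro ⟨x', hx', rfl⟩
        exact ⟨x'.2, hx'⟩
    rw [h2]
    exact h1.image U.ι.continuous
  obtain ⟨s, hs, hs'⟩ := isCompact_and_isOpen_iff_finite_and_eq_biUnion_affineOpens.mp
    ⟨hcomp, (f ⁻¹ᵁ W).isOpen⟩
  have hle : ∀ i ∈ s, (i : X.Opens) ≤ f ⁻¹ᵁ W := by
    intro i hi x hx
    have : x ∈ ((f ⁻¹ᵁ W : X.Opens) : Set X) := by
      rw [hs']
      exact Set.mem_biUnion hi hx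
    exact this
  have hTi : ∀ i ∈ s, IsCompact ((U ⊓ (i : X.Opens) : X.Opens) : Set X) := by
    intro i hi
    have h := hqs _ _ (inf_le_right : U ⊓ f ⁻¹ᵁ W ≤ f ⁻¹ᵁ W) (U ⊓ f ⁻¹ᵁ W).isOpen hUW
      (hle i hi) (i : X.Opens).isOpen i.2.isCompact
    convert h using 1
    ext x
    exact ⟨fun hx => ⟨⟨hx.1, hle i hi hx.2⟩, hx.2⟩, fun hx => ⟨hx.1.1, hx.2⟩⟩
  have key : ∀ i : X.affineOpens, ∃ E : Set (PrimeSpectrum Γ(Y, W)), Topology.IsConstructible E ∧
      (i ∈ s → ∀ (y : Y) (hy : y ∈ W), hW.primeIdealOf ⟨y, hy⟩ ∈ E ↔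
        ∀ x ∈ MoreMor.relAss f F, x ∈ (i : X.Opens) → f x = y → x ∈ U) := by
    intro i
    by_cases hi : i ∈ s
    · obtain ⟨E, hE, h'⟩ := Groth.Agent.Flat2E.RelAssCons.exists_locus_chart f F hFq hFp i.2 hW
        (hle i hi) U (hTi i hi)
      exact ⟨E, hE, fun _ => h'⟩
    · exact ⟨∅, Topology.IsConstructible.empty, fun h => (hi h).elim⟩
  choose E hE hE' using key
  have hcons : Topology.IsConstructible (⋂ i ∈ s, E i) :=
    Topology.IsConstructible.biInter hs fun i _ => hE i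
  have := hcons.preimage_of_isOpenEmbedding
    (Groth.Agent.Flat2E.RelAssCons.isOpenEmbedding_primeIdealOf hW)
  suffices h : (Subtype.val ⁻¹' {y : ↑Y | ∀ x ∈ MoreMor.relAss f F, f x = y → x ∈ U} : Set W) =
      hW.primeIdealOf ⁻¹' (⋂ i ∈ s, E i) by
    exact h ▸ this
  ext ⟨z, hz⟩
  refine Iff.trans ?_ (Set.mem_iInter₂ (x := hW.primeIdealOf ⟨z, hz⟩)
    (s := fun i (_ : i ∈ s) => E i)).symm
  constructor
  · intro H i hi
    exact (hE' i hi z hz).mpr fun x hx _ hfx => H x hx hfx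
  · intro H x hx hfx
    have hxW : x ∈ ((f ⁻¹ᵁ W : X.Opens) : Set X) := by
      change f x ∈ W
      rw [hfx]; exact hz
    rw [hs'] at hxW
    obtain ⟨i, hi, hxi⟩ := Set.mem_iUnion₂.mp hxW
    exact (hE' i hi z hz).mp (H i hi) x hx hxi hfx

end Groth.Agent.S1370
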