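import Groth.Statements.S1371
import Groth.Agent.Flat2E.GenFlat

set_option autoImplicit false
universe u
open FlatMor

namespace Groth.Agent.S1371

/-- Stacks Tag 0H40: let R be a Noetherian domain, R → A → B ring maps of finite type, M a finite A-module, N a finite B-module and u : M → N an A-linear map. Then there is a nonzero f in R such that the cokernel of u, localized at f, is a flat module over R[1/f]. -/
theorem result {R A B : Type u} [CommRing R] [IsDomain R] [IsNoetherianRing R] [CommRing A] [CommRing B]
    [Algebra R A] [Algebra A B] [Algebra R B] [IsScalarTower R A B] [Algebra.FiniteType R A] [Algebra.FiniteType A B]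
    {M N : Type u} [AddCommGroup M] [Module A M] [Module R M] [IsScalarTower R A M] [Module.Finite A M]
    [AddCommGroup N] [Module B N] [Module A N] [Module R N] [IsScalarTower A B N] [IsScalarTower R A N] [Module.Finite B N]
    (u : M →ₗ[A] N) :
    ∃ f : R, f ≠ 0 ∧ Module.Flat (Localization.Away f)
      (LocalizedModule (Submonoid.powers f) (N ⧸ (LinearMap.range u).restrictScalars R)) := by
  have hA0 : Flat2E.GenFlat.AllGF R A := by
    intro Q _ _ _ _ hQ
    have := Flat2E.GenFlat.GF.quot_of_finiteType Flat2E.GenFlat.AllGF.self A Q (⊥ : Submodule R Q)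
      Submodule.fg_bot
    exact this.of_linearEquiv (Submodule.quotEquivOfEqBot (⊥ : Submodule R Q) rfl)
  have : IsNoetherianRing A := Algebra.FiniteType.isNoetherianRing R A
  have hfg : (LinearMap.range u).FG := by
    rw [← Submodule.map_top]
    exact Module.Finite.fg_top.map u
  obtain ⟨f, hf, h⟩ := Flat2E.GenFlat.GF.quot_of_finiteType hA0 B N (LinearMap.range u) hfg
  refine ⟨f, hf, ?_⟩
  have h1 : Flat2E.GenFlat.FlatAway R f (N ⧸ (LinearMap.range u).restrictScalars R) :=
    h.of_linearEquiv (Submodule.Quotient.restrictScalarsEquiv R (LinearMap.range u)).symm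
  have h2 : Module.Flat (Localization.Away f)
      (TensorProduct R (Localization.Away f) (N ⧸ (LinearMap.range u).restrictScalars R)) :=
    (Module.flat_iff_of_isLocalization (Localization.Away f) (Submonoid.powers f)
      (M := TensorProduct R (Localization.Away f)
        (N ⧸ (LinearMap.range u).restrictScalars R))).2 h1
  exact Module.Flat.of_linearEquiv (LocalizedModule.equivTensorProduct (Submonoid.powers f)
    (N ⧸ (LinearMap.range u).restrictScalars R))

end Groth.Agent.S1371
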