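import Groth.Statements.S1372
import Groth.Agent.Flat2E.UnivOpen
import Mathlib.RingTheory.TensorProduct.MvPolynomial

set_option autoImplicit false
universe u
open FlatMor

namespace Groth.Agent.S1372

attribute [local instance] MvPolynomial.algebraMvPolynomial in
open AlgebraicGeometry CategoryTheory Limits in
lemma isOpenMap_map_of_universallyOpen {A B : Type u} [CommRing A] [CommRing B] [Algebra A B]
    {d : ℕ} (h : UniversallyOpen (Spec.map (CommRingCat.ofHom (algebraMap A B)))) :
    IsOpenMap (PrimeSpectrum.comap (MvPolynomial.map (σ := Fin d) (algebraMap A B))) := by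
  have hpb := isPullback_SpecMap_of_isPushout _ _ _ _
      (CommRingCat.isPushout_of_isPushout A B (MvPolynomial (Fin d) A) (MvPolynomial (Fin d) B))
  have h1 : UniversallyOpen (Spec.map (CommRingCat.ofHom
        (algebraMap (MvPolynomial (Fin d) A) (MvPolynomial (Fin d) B)))) :=
      MorphismProperty.of_isPullback hpb h
  exact (Spec.map (CommRingCat.ofHom
        (algebraMap (MvPolynomial (Fin d) A) (MvPolynomial (Fin d) B)))).isOpenMap

open AlgebraicGeometry CategoryTheory Limits in
/-- Stacks Tag 0F33: let A → B be a ring map and b_1, ..., b_d elements generating B as an A-module. Let h = Σ x_i b_i in the polynomial ring B[x_1, ..., x_d]. Then universal openness of Spec B → Spec A is equivalent to openness of the image in Spec A[x_1, ..., x_d] of the basic open D(h). -/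
theorem result {A B : Type u} [CommRing A] [CommRing B] [Algebra A B] {d : ℕ} (b : Fin d → B)
    (hb : Submodule.span A (Set.range b) = ⊤) :
    UniversallyOpen (Spec.map (CommRingCat.ofHom (algebraMap A B))) ↔
      IsOpen (PrimeSpectrum.comap (MvPolynomial.map (σ := Fin d) (algebraMap A B)) ''
        (PrimeSpectrum.basicOpen (∑ i : Fin d, MvPolynomial.X i * MvPolynomial.C (b i)) : Set (PrimeSpectrum (MvPolynomial (Fin d) B)))) := by
  constructor
  · intro h
    exact isOpenMap_map_of_universallyOpen h _ (PrimeSpectrum.basicOpen _).isOpen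
  · intro h
    refine Groth.Agent.Flat2E.UnivOpen.universallyOpen_Spec_map_of_linear.{u, 0} ?_
    intro A' _ _ g
    obtain ⟨a, rfl⟩ := Groth.Agent.Flat2E.UnivOpen.exists_sum_tmul_of_span b hb g
    exact ⟨Fin d, inferInstance, a, b, rfl, h⟩

end Groth.Agent.S1372
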