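import Groth.Statements.S1373
import Groth.Agent.Flat2E.UnivOpen
import Mathlib.RingTheory.TensorProduct.MvPolynomial

set_option autoImplicit false
universe u
open FlatMor

namespace Groth.Agent.S1373

open AlgebraicGeometry CategoryTheory Limits in
/-- The affine case. -/
lemma affine_case {A B : CommRingCat.{u}} (φ : A ⟶ B)
    (h : ∀ n : ℕ, IsOpenMap ⇑(AffineSpace.map (ULift.{u} (Fin n)) (Spec.map φ))) :
    UniversallyOpen (Spec.map φ) := by
  let _ : Algebra A B := φ.hom.toAlgebra
  refine Groth.Agent.Flat2E.UnivOpen.universallyOpen_Spec_map_of_linear.{u, u} (A := A) (B := B) ?_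
  intro A' _ _ g
  obtain ⟨n, a, b, rfl⟩ := Groth.Agent.Flat2E.UnivOpen.exists_sum_tmul g
  refine ⟨ULift.{u} (Fin n), inferInstance, fun i => a i.down, fun i => b i.down, ?_, ?_⟩
  · rw [← Equiv.ulift.symm.sum_comp]
    rfl
  · have h1 : IsOpenMap ⇑(Spec.map (CommRingCat.ofHom
        (MvPolynomial.map (σ := ULift.{u} (Fin n)) φ.hom))) := by
      have h2 := h n
      rw [AffineSpace.map_SpecMap] at h2
      have h3 : IsOpenMap ⇑((AffineSpace.SpecIso (ULift.{u} (Fin n)) B).inv ≫
          ((AffineSpace.SpecIso (ULift.{u} (Fin n)) B).hom ≫ Spec.map (CommRingCat.ofHom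
        (MvPolynomial.map (σ := ULift.{u} (Fin n)) φ.hom)) ≫
          (AffineSpace.SpecIso (ULift.{u} (Fin n)) A).inv) ≫
            (AffineSpace.SpecIso (ULift.{u} (Fin n)) A).hom) := by
        rw [Scheme.Hom.comp_base, TopCat.coe_comp, Scheme.Hom.comp_base _
          (AffineSpace.SpecIso (ULift.{u} (Fin n)) A).hom, TopCat.coe_comp]
        exact ((AffineSpace.SpecIso _ A).hom.homeomorph.isOpenMap.comp h2).comp
          (AffineSpace.SpecIso _ B).inv.homeomorph.isOpenMap
      simpa using h3
    exact h1 _ (PrimeSpectrum.basicOpen _).isOpen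

open AlgebraicGeometry CategoryTheory Limits in
lemma isOpenImmersion_map (n : Type u) {X Y : Scheme.{u}} (j : X ⟶ Y) [IsOpenImmersion j] :
    IsOpenImmersion (AffineSpace.map n j) :=
  MorphismProperty.of_isPullback (AffineSpace.isPullback_map (n := n) j).flip inferInstance

open AlgebraicGeometry CategoryTheory Limits in
lemma general_case {X S : Scheme.{u}} (f : X ⟶ S)
    (h : ∀ n : ℕ, IsOpenMap ⇑(AffineSpace.map (ULift.{u} (Fin n)) f)) : UniversallyOpen f := by
  wlog hS : ∃ A, S = Spec A generalizing X S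
  · rw [IsZariskiLocalAtTarget.iff_of_openCover (P := @UniversallyOpen) S.affineCover]
    intro i
    dsimp only [Scheme.Cover.pullbackHom]
    refine this _ (fun n => ?_) ⟨_, rfl⟩
    have := isOpenImmersion_map (ULift.{u} (Fin n)) (pullback.fst f (S.affineCover.f i))
    have := isOpenImmersion_map (ULift.{u} (Fin n)) (S.affineCover.f i)
    have h1 : IsOpenMap ⇑(AffineSpace.map (ULift.{u} (Fin n)) (pullback.fst f (S.affineCover.f i)) ≫
        AffineSpace.map (ULift.{u} (Fin n)) f) := by
      rw [Scheme.Hom.comp_base, TopCat.coe_comp]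
      exact (h n).comp (Scheme.Hom.isOpenEmbedding _).isOpenMap
    rw [← AffineSpace.map_comp, pullback.condition, AffineSpace.map_comp, Scheme.Hom.comp_base,
      TopCat.coe_comp] at h1
    intro U hU
    have h2 := (h1 U hU).preimage
      (AffineSpace.map (ULift.{u} (Fin n)) (S.affineCover.f i)).continuous
    rw [Set.image_comp, Set.preimage_image_eq _ (Scheme.Hom.isOpenEmbedding _).injective] at h2
    exact h2
  obtain ⟨A, rfl⟩ := hS
  wlog hX : ∃ B, X = Spec B generalizing X
  · rw [IsZariskiLocalAtSource.iff_of_openCover (P := @UniversallyOpen) X.affineCover]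
    intro i
    refine this _ (fun n => ?_) ⟨_, rfl⟩
    have := isOpenImmersion_map (ULift.{u} (Fin n)) (X.affineCover.f i)
    rw [AffineSpace.map_comp, Scheme.Hom.comp_base, TopCat.coe_comp]
    exact (h n).comp (Scheme.Hom.isOpenEmbedding _).isOpenMap
  obtain ⟨B, rfl⟩ := hX
  obtain ⟨φ, rfl⟩ := Spec.map_surjective f
  exact affine_case φ h

open AlgebraicGeometry CategoryTheory Limits in
/-- Stacks Tag 0F31, (1) ⇔ (3): a morphism f : X → S is universally open if and only if for every n the induced morphism from affine n-space over X to affine n-space over S is open. -/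
theorem result {X S : Scheme.{u}} (f : X ⟶ S) :
    UniversallyOpen f ↔ ∀ n : ℕ, IsOpenMap ⇑(AffineSpace.map (ULift.{u} (Fin n)) f) := by
  refine ⟨fun h n => ?_, general_case f⟩
  have h1 : UniversallyOpen (AffineSpace.map (ULift.{u} (Fin n)) f) :=
    MorphismProperty.of_isPullback (AffineSpace.isPullback_map (n := ULift.{u} (Fin n)) f).flip h
  exact Scheme.Hom.isOpenMap _

end Groth.Agent.S1373
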