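import Groth.Statements.S1381
import Groth.Agent.Flat2E.FibreCrit3
import Groth.Agent.Flat2E.Thick
import Groth.Agent.Fga.FibFlat
-- import your own Groth.Agent.* helpers here

set_option autoImplicit false
universe u
open FlatMor

namespace Groth.Agent.S1381

open AlgebraicGeometry CategoryTheory Limits in
theorem isPullback_fiberMap {X Y S : Scheme.{u}} (f : X ⟶ Y) (g : Y ⟶ S) (s : S) :
    IsPullback ((f ≫ g).fiberι s) (MoreMor.fiberMap f g s) f (g.fiberι s) := by
  have h1 := Fga.FibFlat.isPullback_fiber (f ≫ g) s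
  have h2 := Fga.FibFlat.isPullback_fiber g s
  rw [← Fga.FibFlat.fiberMap_toSpec f g s] at h1
  exact IsPullback.of_bot h1 (Fga.FibFlat.fiberMap_fiberι f g s).symm h2

open AlgebraicGeometry CategoryTheory Limits in
/-- Stacks Tag 0CF4, part (1): let S ⟶ S' be an arbitrary thickening, let X' ⟶ Y' be a morphism of schemes over S' with X' flat and locally of finite presentation over S' and Y' locally of finite type over S', and let X ⟶ Y be its base change to S. Then X ⟶ Y is flat if and only if X' ⟶ Y' is. -/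
theorem result {X X' Y Y' S S' : Scheme.{u}} (iX : X ⟶ X') (iY : Y ⟶ Y') (iS : S ⟶ S')
    (f : X ⟶ Y) (f' : X' ⟶ Y') (g : Y ⟶ S) (g' : Y' ⟶ S')
    (hS : MoreMor.IsThickening iS) (hcX : IsPullback iX (f ≫ g) (f' ≫ g') iS) (hcY : IsPullback iY g g' iS)
    (w : iX ≫ f' = f ≫ iY) [Flat (f' ≫ g')] [LocallyOfFinitePresentation (f' ≫ g')] [LocallyOfFiniteType g'] :
    Flat f ↔ Flat f' := by
  have hsq : IsPullback iX f f' iY := IsPullback.of_bot hcX w hcY
  constructor
  · intro hf
    have hlfp : LocallyOfFinitePresentation f' :=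
      Flat2E.Thick.locallyOfFinitePresentation_of_comp f' g'
    rw [Flat.iff_flat_stalkMap]
    intro x'
    have hflat : Flat (f' ≫ g') := inferInstance
    rw [Flat.iff_flat_stalkMap] at hflat
    refine ((Flat2E.FibreCrit.fibre_criterion f' g' x').mp ⟨hflat x', ?_⟩).2
    suffices h : Flat (MoreMor.fiberMap f' g' (g' (f' x'))) by
      rw [Flat.iff_flat_stalkMap] at h
      exact h _
    have := hS.1
    obtain ⟨s, hs⟩ := hS.2.surj (g' (f' x'))
    rw [← hs]
    have hiso := Flat2E.Thick.isIso_residueFieldMap_of_surjectiveOnStalks iS s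
    have hfac : S'.fromSpecResidueField (iS s) =
        inv (Spec.map (iS.residueFieldMap s)) ≫ S.fromSpecResidueField s ≫ iS := by
      rw [IsIso.eq_inv_comp]
      exact Scheme.Hom.SpecMap_residueFieldMap_fromSpecResidueField iS s
    obtain ⟨j, hj1, -⟩ : ∃ j : g'.fiber (iS s) ⟶ Y, j ≫ iY = g'.fiberι (iS s) ∧
        j ≫ g = g'.fiberToSpecResidueField (iS s) ≫ inv (Spec.map (iS.residueFieldMap s)) ≫
          S.fromSpecResidueField s := by
      refine ⟨hcY.lift (g'.fiberι (iS s)) (g'.fiberToSpecResidueField (iS s) ≫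
        inv (Spec.map (iS.residueFieldMap s)) ≫ S.fromSpecResidueField s) ?_,
        hcY.lift_fst _ _ _, hcY.lift_snd _ _ _⟩
      rw [(Fga.FibFlat.isPullback_fiber g' (iS s)).w, hfac]
      simp only [Category.assoc]
    have h1 := isPullback_fiberMap f' g' (iS s)
    have h2 : IsPullback (hsq.lift ((f' ≫ g').fiberι (iS s)) (MoreMor.fiberMap f' g' (iS s) ≫ j)
        (by rw [Category.assoc, hj1, h1.w])) (MoreMor.fiberMap f' g' (iS s)) f j := by
      refine IsPullback.of_right ?_ (hsq.lift_snd _ _ _) hsq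
      rw [hsq.lift_fst, hj1]
      exact h1
    exact MorphismProperty.of_isPullback h2 hf
  · intro hf'
    exact MorphismProperty.of_isPullback hsq hf'

end Groth.Agent.S1381
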