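import Groth.Statements.S1382
import Groth.Agent.S1381
import Groth.Agent.Flat2E.Thick

set_option autoImplicit false
universe u
open FlatMor

namespace Groth.Agent.S1382

open AlgebraicGeometry CategoryTheory Limits in
/-- Stacks Tag 0CF4, part (2): let S ⟶ S' be an arbitrary thickening, let X' ⟶ Y' be a morphism of schemes over S' with X' flat and locally of finite presentation over S' and Y' locally of finite type over S', and let X ⟶ Y be its base change to S. Then X ⟶ Y is an isomorphism if and only if X' ⟶ Y' is. -/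
theorem result {X X' Y Y' S S' : Scheme.{u}} (iX : X ⟶ X') (iY : Y ⟶ Y') (iS : S ⟶ S')
    (f : X ⟶ Y) (f' : X' ⟶ Y') (g : Y ⟶ S) (g' : Y' ⟶ S')
    (hS : MoreMor.IsThickening iS) (hcX : IsPullback iX (f ≫ g) (f' ≫ g') iS) (hcY : IsPullback iY g g' iS)
    (w : iX ≫ f' = f ≫ iY) [Flat (f' ≫ g')] [LocallyOfFinitePresentation (f' ≫ g')] [LocallyOfFiniteType g'] :
    IsIso f ↔ IsIso f' := by
  have hc : IsPullback iX f f' iY := IsPullback.of_bot hcX w hcY
  have hcl : IsClosedImmersion iS := hS.1
  have hsurj : Surjective iS := hS.2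
  have hclY : IsClosedImmersion iY := MorphismProperty.of_isPullback hcY.flip hcl
  have hsurjY : Surjective iY := MorphismProperty.of_isPullback hcY.flip hsurj
  have hlfp : LocallyOfFinitePresentation f' :=
    Flat2E.Thick.locallyOfFinitePresentation_of_comp f' g'
  have hflat : Flat f → Flat f' := (S1381.result iX iY iS f f' g g' hS hcX hcY w).mp
  refine ⟨fun h ↦ ?_, fun h ↦ ?_⟩
  · have := hflat inferInstance
    exact Flat2E.Thick.isIso_of_isPullback hc
  · exact hc.isIso_snd_of_isIso

end Groth.Agent.S1382
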