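import Groth.Statements.S1385
import Groth.Agent.S1381
import Groth.Agent.S1314
import Groth.Agent.Flat2D.LfpComp

set_option autoImplicit false
universe u
open FlatMor

namespace Groth.Agent.S1385

open AlgebraicGeometry CategoryTheory Limits in
/-- Stacks Tag 0CF4, part (17): let S ⟶ S' be an arbitrary thickening, let X' ⟶ Y' be a morphism of schemes over S' with X' flat and locally of finite presentation over S' and Y' locally of finite type over S', and let X ⟶ Y be its base change to S. Then X ⟶ Y is étale if and only if X' ⟶ Y' is. -/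
theorem result {X X' Y Y' S S' : Scheme.{u}} (iX : X ⟶ X') (iY : Y ⟶ Y') (iS : S ⟶ S')
    (f : X ⟶ Y) (f' : X' ⟶ Y') (g : Y ⟶ S) (g' : Y' ⟶ S')
    (hS : MoreMor.IsThickening iS) (hcX : IsPullback iX (f ≫ g) (f' ≫ g') iS) (hcY : IsPullback iY g g' iS)
    (w : iX ≫ f' = f ≫ iY) [Flat (f' ≫ g')] [LocallyOfFinitePresentation (f' ≫ g')] [LocallyOfFiniteType g'] :
    Etale f ↔ Etale f' := by
  have ⟨hcl, hsurj⟩ := hS
  have hcX' : IsPullback iX f f' iY := by
    refine IsPullback.of_bot ?_ w hcY
    exact hcX
  have hlfp' : LocallyOfFinitePresentation f' := Flat2D.LfpComp.lfp_of_comp f' g'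
  constructor
  · intro hf
    have hfl : Flat f := inferInstance
    have hfl' : Flat f' := (Groth.Agent.S1381.result iX iY iS f f' g g' hS hcX hcY w).mp hfl
    have hiY : MoreMor.IsThickening iY :=
      ⟨MorphismProperty.of_isPullback hcY.flip hcl, MorphismProperty.of_isPullback hcY.flip hsurj⟩
    have hun : FormallyUnramified f' :=
      (Groth.Agent.S1314.result iX iY f f' hiY hcX').mp inferInstance
    exact Etale.of_formallyUnramified_of_flat f'
  · intro hf
    exact MorphismProperty.of_isPullback hcX' hf

end Groth.Agent.S1385
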