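import Groth.Statements.S1387
import Groth.Agent.Flat2E.VertGen
import Groth.Agent.CycB.RelDim2
import Groth.Agent.Fdesc.QCohStalk

set_option autoImplicit false
universe u
open FlatMor

namespace Groth.Agent.S1387

section Helpers

open AlgebraicGeometry CategoryTheory Limits Cardinal CycB.RelDim CycB.TrdegAlg

/-- the generic point goes to the generic point -/
theorem map_genericPoint {X S : Scheme.{u}} (f : X ⟶ S) [IrreducibleSpace ↑S] [IrreducibleSpace ↑X]
    [IsDominant f] : f (genericPoint ↑X) = genericPoint ↑S := by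
  have h1 : IsGenericPoint (f (genericPoint ↑X)) (closure (f '' Set.univ)) :=
    (genericPoint_spec ↑X).image f.continuous
  have h2 : closure (f '' Set.univ) = Set.univ := by
    rw [Set.image_univ]
    exact (f.denseRange).closure_range
  rw [h2] at h1
  exact h1.eq (genericPoint_spec ↑S)

theorem fiberι_map {X S : Scheme.{u}} (f : X ⟶ S) (s : S) (w : f.fiber s) : f (f.fiberι s w) = s := by
  have : f.fiberι s w ∈ Set.range (f.fiberι s) := ⟨w, rfl⟩
  rw [Scheme.Hom.range_fiberι] at this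
  exact this

/-- A point of the fibre. -/
theorem exists_fiber {X S : Scheme.{u}} (f : X ⟶ S) (s : S) (x : X) (hx : f x = s) :
    ∃ w : f.fiber s, f.fiberι s w = x := by
  subst hx
  exact ⟨f.asFiber x, f.fiberι_asFiber x⟩

theorem exists_rtd_generic {X S : Scheme.{u}} (f : X ⟶ S) [IrreducibleSpace ↑S] [IrreducibleSpace ↑X]
    [IsDominant f] [LocallyOfFiniteType f] :
    ∃ n : ℕ, rtd f (genericPoint ↑X) = n ∧
      topologicalKrullDim ↑(f.fiber (genericPoint ↑S)) ≤ n := by
  obtain ⟨w, hw⟩ := exists_fiber f _ _ (map_genericPoint f)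
  obtain ⟨n, hn, hn'⟩ := exists_dim_closure_fiber f (genericPoint ↑S) w
  rw [hw] at hn
  refine ⟨n, hn, ?_⟩
  have huniv : closure {w} = (Set.univ : Set (f.fiber (genericPoint ↑S))) := by
    rw [Set.eq_univ_iff_forall]
    intro v
    rw [← specializes_iff_mem_closure]
    have : f.fiberι _ w ⤳ f.fiberι _ v := by
      rw [hw]
      exact genericPoint_specializes _
    exact (f.fiberι _).isEmbedding.isInducing.specializes_iff.mp this
  rw [← hn', huniv]
  exact (IsHomeomorph.topologicalKrullDim_eq _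
    (Homeomorph.Set.univ ↑(f.fiber (genericPoint ↑S))).isHomeomorph).ge

theorem rtd_le {X S : Scheme.{u}} (f : X ⟶ S) [LocallyOfFiniteType f] (s : S) (n : ℕ)
    (hn : topologicalKrullDim ↑(f.fiber s) ≤ n) (x : X) (hx : f x = s) : rtd f x ≤ n := by
  obtain ⟨w, hw⟩ := exists_fiber f _ _ hx
  obtain ⟨m, hm, hm'⟩ := exists_dim_closure_fiber f s w
  rw [hw] at hm
  rw [hm]
  have := (topologicalKrullDim_subspace_le (f.fiber s) (closure {w})).trans hn
  rw [hm'] at this
  exact_mod_cast this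

/-- Key point: the vertical divisor contains a point of large transcendence degree above each of its
points. -/
theorem exists_generization {X S : Scheme.{u}} (f : X ⟶ S) [IrreducibleSpace ↑S]
    [IrreducibleSpace ↑X] [IsDominant f] [LocallyOfFiniteType f] (n : ℕ)
    (hn : rtd f (genericPoint ↑X) = n) (s : S) (hdim : ∀ w : X, f w = s → rtd f w ≤ n)
    (Z : X.IdealSheafData) (hZ : ∀ x : X, ∃ (U : X.Opens) (hU : IsAffineOpen U) (g : Γ(X, U)), x ∈ U ∧ Z.ideal ⟨U, hU⟩ = Ideal.span {g})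
    (hη : ∀ x ∈ (Z.support : Set ↑X), f x ≠ genericPoint ↑S) (x : X) (hx : f x = s)
    (hxZ : x ∈ (Z.support : Set ↑X)) :
    ∃ w : X, f w = s ∧ w ⤳ x ∧ w ∈ (Z.support : Set ↑X) ∧ (n : Cardinal) ≤ rtd f w := by
  obtain ⟨U, hU, g, hxU, hideal⟩ := hZ x
  obtain ⟨V, hV, hxV, -⟩ := exists_isAffineOpen_mem_and_subset (X := S) (x := f x) (U := ⊤) trivial
  obtain ⟨U', hU', hxU', hle⟩ := exists_isAffineOpen_mem_and_subset (x := x) (U := U ⊓ f ⁻¹ᵁ V)
    ⟨hxU, hxV⟩
  have hU'U : U' ≤ U := fun w hw => (hle hw).1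
  have e : U' ≤ f ⁻¹ᵁ V := fun w hw => (hle hw).2
  let g' : Γ(X, U') := X.presheaf.map (homOfLE hU'U).op g
  let φ := (f.appLE V U' e).hom
  have hφ : φ.FiniteType := f.finiteType_appLE hV hU' e
  -- membership in Z
  have hmem : ∀ (w : X) (hw : w ∈ U'), w ∈ (Z.support : Set ↑X) ↔
      g' ∈ (hU'.primeIdealOf ⟨w, hw⟩).asIdeal := by
    intro w hw
    have h1 : w ∈ (Z.support : Set ↑X) ↔ w ∉ X.basicOpen g := by
      change w ∈ Z.support ↔ _
      rw [Scheme.IdealSheafData.mem_support_iff_of_mem (U := ⟨U, hU⟩) (hU'U hw)]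
      rw [Scheme.mem_zeroLocus_iff]
      constructor
      · intro h
        refine h g ?_
        rw [hideal]
        exact Ideal.mem_span_singleton_self g
      · intro h a ha hwa
        rw [hideal] at ha
        obtain ⟨b, rfl⟩ := Ideal.mem_span_singleton'.mp ha
        rw [Scheme.basicOpen_mul] at hwa
        exact h hwa.2
    have h2 : w ∈ X.basicOpen g ↔ w ∈ X.basicOpen g' := by
      rw [Scheme.basicOpen_res]
      exact ⟨fun h => ⟨hw, h⟩, fun h => h.2⟩
    rw [h1, h2, Fdesc.QCohStalk.mem_basicOpen_iff hU' w hw, not_not]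
  let ξ := genericPoint ↑X
  have hξU : ∀ (W : X.Opens) (w : X), w ∈ W → ξ ∈ W := fun W w hw =>
    (genericPoint_specializes w).mem_open W.2 hw
  let q0 := (hU'.primeIdealOf ⟨ξ, hξU U' x hxU'⟩).asIdeal
  have hq0 : q0.IsPrime := (hU'.primeIdealOf ⟨ξ, hξU U' x hxU'⟩).isPrime
  let P := (hU'.primeIdealOf ⟨x, hxU'⟩).asIdeal
  have hP : P.IsPrime := (hU'.primeIdealOf ⟨x, hxU'⟩).isPrime
  -- points from primes
  have hpt : ∀ (Q : Ideal Γ(X, U')) (_ : Q.IsPrime), ∃ (w : X) (hw : w ∈ U'),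
      (hU'.primeIdealOf ⟨w, hw⟩).asIdeal = Q := by
    intro Q hQ
    have hw : hU'.fromSpec ⟨Q, hQ⟩ ∈ U' := by
      have := hU'.range_fromSpec
      exact this.le ⟨_, rfl⟩
    refine ⟨hU'.fromSpec ⟨Q, hQ⟩, hw, ?_⟩
    have h2 := hU'.fromSpec_primeIdealOf ⟨hU'.fromSpec ⟨Q, hQ⟩, hw⟩
    have h3 := hU'.fromSpec.isOpenEmbedding.injective h2
    rw [h3]
  have hcomap : ∀ (w : X) (hw : w ∈ U'), (hU'.primeIdealOf ⟨w, hw⟩).asIdeal.comap φ =
      (hV.primeIdealOf ⟨f w, e hw⟩).asIdeal := fun w hw =>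
    congrArg PrimeSpectrum.asIdeal (IsAffineOpen.comap_primeIdealOf_appLE V hV U' hU' e hw)
  have hrtd : ∀ (w : X) (hw : w ∈ U') (p : Ideal Γ(S, V))
      (hp : p = (hU'.primeIdealOf ⟨w, hw⟩).asIdeal.comap φ),
      trd (Ideal.quotientMap (hU'.primeIdealOf ⟨w, hw⟩).asIdeal φ hp.le) = rtd f w := by
    intro w hw p hp
    exact (rtd_eq_trd_quotientMap f hV hU' e w hw (e hw) p (hp.trans (hcomap w hw)) hp.le).symm
  obtain ⟨Q, hQ, h, hq0Q, hQP, hgQ, hnQ⟩ := Flat2E.VertGen.general_case φ hφ q0 P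
    (primeIdealOf_le_of_specializes hU' (genericPoint_specializes x) hxU' _) g'
    ((hmem x hxU').mp hxZ) (by
      intro Q hQ _ hQ0 hgQ
      obtain ⟨w, hw, rfl⟩ := hpt Q hQ
      have h1 : w ∈ (Z.support : Set ↑X) := (hmem w hw).mpr hgQ
      apply hη w h1
      rw [hcomap, hcomap] at hQ0
      rw [← map_genericPoint f]
      exact primeIdealOf_inj hV _ _ (PrimeSpectrum.ext hQ0))
    n (by rw [hrtd ξ _ _ rfl, hn]) (by
      intro Q hQ _ h
      obtain ⟨w, hw, rfl⟩ := hpt Q hQ
      rw [hrtd w hw _ h]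
      apply hdim
      rw [← hx]
      rw [hcomap, hcomap] at h
      exact primeIdealOf_inj hV _ _ (PrimeSpectrum.ext h.symm))
  obtain ⟨w, hw, rfl⟩ := hpt Q hQ
  refine ⟨w, ?_, ?_, (hmem w hw).mpr hgQ, ?_⟩
  · rw [← hx]
    rw [hcomap, hcomap] at h
    exact primeIdealOf_inj hV _ _ (PrimeSpectrum.ext h.symm)
  · have h1 : hU'.primeIdealOf ⟨w, hw⟩ ≤ hU'.primeIdealOf ⟨x, hxU'⟩ := hQP
    rw [PrimeSpectrum.le_iff_specializes] at h1
    have := h1.map hU'.fromSpec.continuous
    rwa [hU'.fromSpec_primeIdealOf, hU'.fromSpec_primeIdealOf] at this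
  · rw [hrtd w hw _ h] at hnQ
    exact hnQ

end Helpers

open AlgebraicGeometry CategoryTheory Limits in
/-- Stacks Tag 053R: let f : X → S be dominant and locally of finite type with X and S irreducible, let η be the generic point of S and s a point with dim X_s ≤ dim X_η, and let Z be a locally principal closed subscheme of X (its ideal sheaf is generated by one section on an affine neighbourhood of each point) whose generic fibre is empty. Then, set-theoretically, the fibre of Z over s is a union of irreducible components of the fibre of X over s. -/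
theorem result {X S : Scheme.{u}} (f : X ⟶ S) [IrreducibleSpace ↑S] [IrreducibleSpace ↑X] [IsDominant f] [LocallyOfFiniteType f]
    (s : S) (hdim : topologicalKrullDim ↑(f.fiber s) ≤ topologicalKrullDim ↑(f.fiber (genericPoint ↑S)))
    (Z : X.IdealSheafData) (hZ : ∀ x : X, ∃ (U : X.Opens) (hU : IsAffineOpen U) (g : Γ(X, U)), x ∈ U ∧ Z.ideal ⟨U, hU⟩ = Ideal.span {g})
    (hη : ∀ x ∈ (Z.support : Set ↑X), f x ≠ genericPoint ↑S) :
    ∀ x : ↑(f ⁻¹' {s}), (x : ↑X) ∈ (Z.support : Set ↑X) →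
      ∃ C ∈ irreducibleComponents ↑(f ⁻¹' {s}), x ∈ C ∧ Subtype.val '' C ⊆ (Z.support : Set ↑X) := by
  obtain ⟨n, hn, hn'⟩ := exists_rtd_generic f
  have hle : ∀ w : X, f w = s → CycB.RelDim.rtd f w ≤ n := fun w hw => rtd_le f s n (hdim.trans hn') w hw
  rintro ⟨x, hx⟩ hxZ
  obtain ⟨w, hws, hwx, hwZ, hnw⟩ := exists_generization f n hn s hle Z hZ hη x hx hxZ
  have hws' : w ∈ f ⁻¹' {s} := hws
  -- generic in its fibre
  have hgen : ∀ v : X, f v = s → v ⤳ w → v = w := by
    intro v hv hvw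
    by_contra hne
    have h1 := CycB.RelDim.rtd_lt_of_specializes f hvw hne (hv.trans hws.symm)
    exact absurd (hnw.trans_lt h1) (not_lt.mpr (hle v hv))
  have hemb : Topology.IsInducing (Subtype.val : ↑(f ⁻¹' {s}) → X) := Topology.IsInducing.subtypeVal
  refine ⟨closure {⟨w, hws'⟩}, ⟨isIrreducible_singleton.closure, ?_⟩, ?_, ?_⟩
  · intro T hT hTle
    -- use the homeomorphism with the fibre, which is sober
    let e := f.fiberHomeo s
    have hT' : IsIrreducible (closure (e.symm '' T)) :=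
      (hT.image _ e.symm.continuous.continuousOn).closure
    obtain ⟨t, ht⟩ := QuasiSober.sober hT' isClosed_closure
    have htT : ∀ y ∈ T, e t ⤳ y := by
      intro y hy
      have h1 : t ⤳ e.symm y := by
        rw [specializes_iff_mem_closure, ht.def]
        exact subset_closure ⟨y, hy, rfl⟩
      have h2 := h1.map e.continuous
      rwa [e.apply_symm_apply] at h2
    have h3 : e t ⤳ ⟨w, hws'⟩ := htT _ (hTle (subset_closure rfl))
    have h4 : (e t).1 ⤳ w := h3.map continuous_subtype_val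
    have h5 : (e t).1 = w := hgen _ (e t).2 h4
    have h6 : e t = ⟨w, hws'⟩ := Subtype.ext h5
    intro y hy
    have := htT y hy
    rw [h6] at this
    exact specializes_iff_mem_closure.mp this
  · rw [← specializes_iff_mem_closure]
    exact hemb.specializes_iff.mp hwx
  · rintro _ ⟨y, hy, rfl⟩
    rw [← specializes_iff_mem_closure] at hy
    have h1 : w ⤳ y.1 := hy.map continuous_subtype_val
    exact h1.mem_closed Z.support.isClosed hwZ

end Groth.Agent.S1387
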