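import Groth.Statements.S1389
-- import your own Groth.Agent.* helpers here

set_option autoImplicit false
universe u
open FlatMor

namespace Groth.Agent.S1389

open AlgebraicGeometry CategoryTheory Limits in
/-- Stacks Tag 057A, part (2): let (U, u) and (U', u') be étale neighbourhoods of a point s of S and h₁, h₂ two S-morphisms U → U' sending u to u' which induce the same map of residue fields κ(u') → κ(u). Then there is an étale neighbourhood (U'', u'') of s with an S-morphism h : U'' → U sending u'' to u and with h followed by h₁ equal to h followed by h₂. -/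
theorem result {S U U' : Scheme.{u}} (s : S) (g : U ⟶ S) (g' : U' ⟶ S) [Etale g] [Etale g'] (u : U) (u' : U')
    (hu : g u = s) (hu' : g' u' = s) (h₁ h₂ : U ⟶ U') (w₁ : h₁ ≫ g' = g) (w₂ : h₂ ≫ g' = g) (e₁ : h₁ u = u') (e₂ : h₂ u = u')
    (hres : (U'.residueFieldCongr e₁).inv ≫ h₁.residueFieldMap u = (U'.residueFieldCongr e₂).inv ≫ h₂.residueFieldMap u) :
    ∃ (U'' : Scheme.{u}) (g'' : U'' ⟶ S) (u'' : U'') (h : U'' ⟶ U), Etale g'' ∧ g'' u'' = s ∧ h ≫ g = g'' ∧ h u'' = u ∧ h ≫ h₁ = h ≫ h₂ := by
  -- the two maps agree on `Spec κ(u)`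
  have key : U.fromSpecResidueField u ≫ h₁ = U.fromSpecResidueField u ≫ h₂ := by
    have a₁ : U.fromSpecResidueField u ≫ h₁ =
        Spec.map ((U'.residueFieldCongr e₁).inv ≫ h₁.residueFieldMap u) ≫
          U'.fromSpecResidueField u' := by
      rw [Spec.map_comp, Category.assoc, Scheme.residueFieldCongr_inv,
        Scheme.residueFieldCongr_fromSpecResidueField,
        Scheme.Hom.SpecMap_residueFieldMap_fromSpecResidueField]
    have a₂ : U.fromSpecResidueField u ≫ h₂ =
        Spec.map ((U'.residueFieldCongr e₂).inv ≫ h₂.residueFieldMap u) ≫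
          U'.fromSpecResidueField u' := by
      rw [Spec.map_comp, Category.assoc, Scheme.residueFieldCongr_inv,
        Scheme.residueFieldCongr_fromSpecResidueField,
        Scheme.Hom.SpecMap_residueFieldMap_fromSpecResidueField]
    rw [a₁, a₂, hres]
  let p : U ⟶ pullback g' g' := pullback.lift h₁ h₂ (w₁.trans w₂.symm)
  have hp1 : p ≫ pullback.fst g' g' = h₁ := pullback.lift_fst _ _ _
  have hp2 : p ≫ pullback.snd g' g' = h₂ := pullback.lift_snd _ _ _
  let U'' : Scheme.{u} := pullback p (pullback.diagonal g')
  let h : U'' ⟶ U := pullback.fst p (pullback.diagonal g')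
  have e : h ≫ p = pullback.snd p (pullback.diagonal g') ≫ pullback.diagonal g' :=
    pullback.condition
  have hh : h ≫ h₁ = h ≫ h₂ := by
    have e1 : h ≫ h₁ = pullback.snd p (pullback.diagonal g') := by
      rw [← hp1, ← Category.assoc, e, Category.assoc, pullback.diagonal_fst, Category.comp_id]
    have e2 : h ≫ h₂ = pullback.snd p (pullback.diagonal g') := by
      rw [← hp2, ← Category.assoc, e, Category.assoc, pullback.diagonal_snd, Category.comp_id]
    rw [e1, e2]
  have hopen : IsOpenImmersion h := inferInstance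
  let q : Spec (U.residueField u) ⟶ U'' :=
    pullback.lift (U.fromSpecResidueField u) (U.fromSpecResidueField u ≫ h₁) (by
      apply pullback.hom_ext
      · rw [Category.assoc, hp1, Category.assoc, pullback.diagonal_fst, Category.comp_id]
      · rw [Category.assoc, hp2, Category.assoc, pullback.diagonal_snd, Category.comp_id, key])
  have hq : q ≫ h = U.fromSpecResidueField u := pullback.lift_fst _ _ _
  let pt : Spec (U.residueField u) := IsLocalRing.closedPoint (U.residueField u)
  have hpt : h (q pt) = u := by
    rw [← Scheme.Hom.comp_apply, hq, Scheme.fromSpecResidueField_apply]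
  refine ⟨U'', h ≫ g, q pt, h, inferInstance, ?_, rfl, hpt, hh⟩
  rw [Scheme.Hom.comp_apply, hpt, hu]

end Groth.Agent.S1389
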