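import Groth.Statements.S1390
import Mathlib.RingTheory.Unramified.LocalStructure
import Mathlib.RingTheory.AdjoinRoot
import Mathlib.AlgebraicGeometry.PullbackCarrier
import Mathlib.RingTheory.Flat.FaithfullyFlat.Basic
import Mathlib.RingTheory.Finiteness.ModuleFinitePresentation

set_option autoImplicit false
universe u
open FlatMor

namespace Groth.Agent.S1390

section Helpers

open AlgebraicGeometry CategoryTheory Limits TensorProduct


lemma exists_prime_tensor {R A B : Type u} [CommRing R] [CommRing A] [CommRing B] [Algebra R A] [Algebra R B]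
    (q : PrimeSpectrum A) (t : PrimeSpectrum B)
    (h : q.comap (algebraMap R A) = t.comap (algebraMap R B)) :
    ∃ r : PrimeSpectrum (A ⊗[R] B), r.comap Algebra.TensorProduct.includeLeftRingHom = q ∧
      r.comap (Algebra.TensorProduct.includeRight (R := R) (A := A) (B := B)).toRingHom = t := by
  obtain ⟨z, hz1, hz2⟩ := Scheme.Pullback.exists_preimage_pullback
    (f := Spec.map (CommRingCat.ofHom (algebraMap R A))) (g := Spec.map (CommRingCat.ofHom (algebraMap R B)))
    q t (by exact h)
  refine ⟨(pullbackSpecIso R A B).hom z, ?_, ?_⟩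
  · have : (Spec.map (CommRingCat.ofHom (Algebra.TensorProduct.includeLeftRingHom (R := R) (A := A) (B := B)))) 
      ((pullbackSpecIso R A B).hom z) = q := by
      rw [← hz1, ← pullbackSpecIso_inv_fst, ← Scheme.Hom.comp_apply]
      simp
    exact this
  · have : (Spec.map (CommRingCat.ofHom (RingHomClass.toRingHom (Algebra.TensorProduct.includeRight (R := R) (A := A) (B := B)))))
      ((pullbackSpecIso R A B).hom z) = t := by
      rw [← hz2, ← pullbackSpecIso_inv_snd, ← Scheme.Hom.comp_apply]
      simp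
    exact this

lemma key {R A B : Type u} [CommRing R] [CommRing A] [CommRing B] [Algebra R A] [Algebra R B]
    (P : StandardEtalePresentation R A) (hB : (P.f.map (algebraMap R B)).Splits)
    (q : PrimeSpectrum A) (t : PrimeSpectrum B)
    (h : q.comap (algebraMap R A) = t.comap (algebraMap R B)) :
    ∃ b : B, b ∉ t.asIdeal ∧ ∃ φ : A →ₐ[R] Localization.Away b,
      ∀ t' : PrimeSpectrum (Localization.Away b), t'.comap (algebraMap B _) = t →
        t'.comap φ.toRingHom = q := by
  obtain ⟨r, hrq, hrt⟩ := exists_prime_tensor q t h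
  let K := r.asIdeal.ResidueField
  let ιA : A →ₐ[R] K := (Algebra.ofId (A ⊗[R] B) K |>.restrictScalars R).comp Algebra.TensorProduct.includeLeft
  let ιB : B →ₐ[R] K := (Algebra.ofId (A ⊗[R] B) K |>.restrictScalars R).comp Algebra.TensorProduct.includeRight
  have hA : ∀ a : A, ιA a = 0 ↔ a ∈ q.asIdeal := by
    intro a
    rw [← hrq]
    simp only [AlgHom.coe_comp, AlgHom.coe_restrictScalars', Function.comp_apply,
      Algebra.TensorProduct.includeLeft_apply, Algebra.ofId_apply, PrimeSpectrum.comap_asIdeal,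
      Ideal.mem_comap, Algebra.TensorProduct.includeLeftRingHom_apply, ιA]
    exact Ideal.algebraMap_residueField_eq_zero
  have hBt : ∀ b : B, ιB b = 0 ↔ b ∈ t.asIdeal := by
    intro b
    rw [← hrt]
    simp only [AlgHom.coe_comp, AlgHom.coe_restrictScalars', Function.comp_apply, Algebra.ofId_apply, PrimeSpectrum.comap_asIdeal,
      Ideal.mem_comap, ιB]
    exact Ideal.algebraMap_residueField_eq_zero
  -- find the root
  obtain ⟨b, hb0, hb⟩ : ∃ b : B, Polynomial.aeval b P.f = 0 ∧ ιB b = ιA P.x := by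
    obtain ⟨m, hm⟩ := Polynomial.splits_iff_exists_multiset.mp hB
    rw [(P.monic_f.map (algebraMap R B)).leadingCoeff, Polynomial.C_1, one_mul] at hm
    have h0 : Polynomial.aeval (ιA P.x) P.f = 0 := by
      rw [Polynomial.aeval_algHom_apply, P.hasMap.1, map_zero]
    have h1 : Polynomial.aeval (ιA P.x) P.f = 
        (m.map fun b => ιA P.x - ιB b).prod := by
      have : Polynomial.aeval (ιA P.x) P.f = Polynomial.eval₂ ιB.toRingHom (ιA P.x) (P.f.map (algebraMap R B)) := by
        rw [Polynomial.eval₂_map, Polynomial.aeval_def]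
        congr 1
        exact ιB.comp_algebraMap.symm
      rw [this, hm, ← Polynomial.coe_eval₂RingHom, map_multiset_prod, Multiset.map_map]
      congr 1
      refine Multiset.map_congr rfl fun b _ => ?_
      simp
    rw [h1] at h0
    obtain ⟨b, hbm, hb⟩ := Multiset.mem_map.mp (Multiset.prod_eq_zero_iff.mp h0)
    refine ⟨b, ?_, (sub_eq_zero.mp hb).symm⟩
    rw [← Polynomial.eval_map_algebraMap, hm, Polynomial.eval_multiset_prod]
    refine Multiset.prod_eq_zero (Multiset.mem_map.mpr ?_)
    exact ⟨Polynomial.X - Polynomial.C b, Multiset.mem_map_of_mem _ hbm, by simp⟩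
  have hg : ιB (Polynomial.aeval b P.g) = ιA (Polynomial.aeval P.x P.g) := by
    rw [← Polynomial.aeval_algHom_apply, hb, Polynomial.aeval_algHom_apply]
  have hgK : ιB (Polynomial.aeval b P.g) ≠ 0 := by
    rw [hg]
    exact (P.hasMap.2.map ιA).ne_zero
  set g : B := Polynomial.aeval b P.g with hgdef
  have hmap : P.HasMap (algebraMap B (Localization.Away g) b) := by
    refine ⟨?_, ?_⟩
    · rw [Polynomial.aeval_algebraMap_apply, hb0, map_zero]
    · rw [Polynomial.aeval_algebraMap_apply, ← hgdef]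
      exact IsLocalization.Away.algebraMap_isUnit g
  refine ⟨g, fun h => hgK ((hBt _).mpr h), (P.lift _ hmap).comp P.equivRing.toAlgHom, ?_⟩
  intro t' ht'
  let ψ : Localization.Away g →ₐ[R] K := IsLocalization.Away.liftAlgHom (A := R) (R := B) g (f := ιB) (Ne.isUnit hgK)
  have hψ : ∀ b, ψ (algebraMap B _ b) = ιB b := by
    intro b
    simp [ψ]
  have hψt : (PrimeSpectrum.comap (ψ : Localization.Away g →+* K) ⊥) = t' := by
    apply PrimeSpectrum.localization_comap_injective (Localization.Away g) (Submonoid.powers g)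
    rw [ht']
    ext b
    simp [hψ, hBt]
  rw [← hψt]
  have hcomp : ψ.comp ((P.lift _ hmap).comp P.equivRing.toAlgHom) = ιA := by
    apply P.hom_ext
    simp [hψ, hb]
  ext a
  rw [← hA a, ← hcomp]
  simp



lemma exists_stdEtale {U S : Scheme.{u}} (e : U ⟶ S) [Etale e] (u : U) {V : S.Opens} (hV : IsAffineOpen V)
    (hu : e u ∈ V) :
    ∃ (A : Type u) (_ : CommRing A) (_ : Algebra Γ(S, V) A) (_ : Algebra.IsStandardEtale Γ(S, V) A)
      (a : Spec (.of A) ⟶ U) (_ : IsOpenImmersion a) (q : Spec (.of A)), a q = u ∧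
        a ≫ e = Spec.map (CommRingCat.ofHom (algebraMap Γ(S, V) A)) ≫ hV.fromSpec := by
  obtain ⟨U', hU', huU', hU'V⟩ := exists_isAffineOpen_mem_and_subset (X := U) (x := u) (U := e ⁻¹ᵁ V) hu
  have het : (e.appLE V U' hU'V).hom.Etale := e.etale_appLE hV hU' hU'V
  algebraize [(e.appLE V U' hU'V).hom]
  let q₀ : PrimeSpectrum Γ(U, U') := hU'.primeIdealOf ⟨u, huU'⟩
  have hq₀ : hU'.fromSpec q₀ = u := hU'.fromSpec_primeIdealOf ⟨u, huU'⟩
  obtain ⟨f, hf, hfs⟩ := Algebra.IsEtaleAt.exists_isStandardEtale (R := Γ(S, V)) q₀.asIdeal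
  have hmem : q₀ ∈ Set.range (PrimeSpectrum.comap (algebraMap Γ(U, U') (Localization.Away f))) := by
    rw [PrimeSpectrum.localization_away_comap_range _ f]
    exact hf
  obtain ⟨q, hq⟩ := hmem
  refine ⟨Localization.Away f, inferInstance, inferInstance, hfs, 
    Spec.map (CommRingCat.ofHom (algebraMap Γ(U, U') (Localization.Away f))) ≫ hU'.fromSpec, ?_, q, ?_, ?_⟩
  · infer_instance
  · rw [Scheme.Hom.comp_apply]
    rw [← hq₀]
    congr 1
  · rw [Category.assoc, ← IsAffineOpen.SpecMap_appLE_fromSpec e hV hU' hU'V, ← Category.assoc, ← Spec.map_comp]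
    congr 2

end Helpers

open AlgebraicGeometry CategoryTheory Limits in
/-- Stacks Tag 02LG: let (U, u) be an étale neighbourhood of (S, s), i.e. U → S étale with u over s. Then there are an affine open neighbourhood V of s and a surjective, finite, flat morphism of finite presentation π : T → V such that every point t of T over s has an open neighbourhood W_t with an S-morphism W_t → U sending t to u. -/
theorem result {U S : Scheme.{u}} (e : U ⟶ S) [Etale e] (u : U) (s : S) (hu : e u = s) :
    ∃ (V : S.Opens) (T : Scheme.{u}) (π : T ⟶ (V : Scheme.{u})), s ∈ V ∧ IsAffineOpen V ∧ Surjective π ∧ IsFinite π ∧ Flat π ∧ LocallyOfFinitePresentation π ∧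
      ∀ t : T, V.ι (π t) = s → ∃ (W : T.Opens) (h : (W : Scheme.{u}) ⟶ U), t ∈ W ∧ h ≫ e = W.ι ≫ π ≫ V.ι ∧ ∀ ht : t ∈ W, h ⟨t, ht⟩ = u := by
  obtain ⟨V, hV, hsV, -⟩ := exists_isAffineOpen_mem_and_subset (X := S) (x := s) (U := ⊤) trivial
  obtain ⟨A, _, _, _, a, _, q, hq, ha⟩ := exists_stdEtale e u hV (hu ▸ hsV)
  obtain ⟨P⟩ := (inferInstance : Nonempty (StandardEtalePresentation Γ(S, V) A))
  have : Nontrivial Γ(S, V) := by
    have : Nonempty V := ⟨⟨s, hsV⟩⟩
    infer_instance
  obtain ⟨B, _, _, _, _, _, hB⟩ := P.monic_f.exists_splits_map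
  have hπ : (Spec.map (CommRingCat.ofHom (algebraMap Γ(S, V) B)) ≫ hV.isoSpec.inv) ≫ V.ι = 
      Spec.map (CommRingCat.ofHom (algebraMap Γ(S, V) B)) ≫ hV.fromSpec := by
    simp
  refine ⟨V, Spec (.of B), Spec.map (CommRingCat.ofHom (algebraMap Γ(S, V) B)) ≫ hV.isoSpec.inv, hsV, hV, ?_, ?_, ?_, ?_, ?_⟩
  · have : Surjective (Spec.map (CommRingCat.ofHom (algebraMap Γ(S, V) B))) := by
      refine ⟨PrimeSpectrum.comap_surjective_of_faithfullyFlat (A := Γ(S, V)) (B := B)⟩
    infer_instance
  · have : IsFinite (Spec.map (CommRingCat.ofHom (algebraMap Γ(S, V) B))) := by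
      rw [IsFinite.SpecMap_iff]
      exact RingHom.finite_algebraMap.mpr inferInstance
    infer_instance
  · have : Flat (Spec.map (CommRingCat.ofHom (algebraMap Γ(S, V) B))) := by
      rw [Flat.SpecMap_iff]
      exact RingHom.flat_algebraMap_iff.mpr inferInstance
    infer_instance
  · have : LocallyOfFinitePresentation (Spec.map (CommRingCat.ofHom (algebraMap Γ(S, V) B))) := by
      rw [HasRingHomProperty.Spec_iff (P := @LocallyOfFinitePresentation)]
      apply RingHom.finitePresentation_algebraMap.mpr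
      have : Module.FinitePresentation Γ(S, V) B := Module.finitePresentation_of_projective _ _
      exact Algebra.FinitePresentation.of_finitePresentation _ _
    infer_instance
  intro t ht
  have ht' : hV.fromSpec (Spec.map (CommRingCat.ofHom (algebraMap Γ(S, V) B)) t) = s := by
    rw [← Scheme.Hom.comp_apply, ← hπ, Scheme.Hom.comp_apply, ht]
  have hq' : hV.fromSpec (Spec.map (CommRingCat.ofHom (algebraMap Γ(S, V) A)) q) = s := by
    rw [← Scheme.Hom.comp_apply, ← ha, Scheme.Hom.comp_apply, hq, hu]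
  have hqt : PrimeSpectrum.comap (algebraMap Γ(S, V) A) q = PrimeSpectrum.comap (algebraMap Γ(S, V) B) t := by
    exact hV.fromSpec.isOpenEmbedding.injective (hq'.trans ht'.symm)
  obtain ⟨b, hbt, φ, hφ⟩ := key P hB q t hqt
  let W : (Spec (.of B)).Opens := PrimeSpectrum.basicOpen b
  let j : (W : Scheme.{u}) ⟶ Spec (.of (Localization.Away b)) := (basicOpenIsoSpecAway (R := .of B) b).hom
  have hj : j ≫ Spec.map (CommRingCat.ofHom (algebraMap B (Localization.Away b))) = W.ι :=
    basicOpenIsoSpecAway_hom_SpecMap (R := .of B) b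
  refine ⟨W, j ≫ Spec.map (CommRingCat.ofHom φ.toRingHom) ≫ a, hbt, ?_, ?_⟩
  · rw [hπ, ← hj, Category.assoc, Category.assoc, Category.assoc, ha, 
      ← Spec.map_comp_assoc, ← Spec.map_comp_assoc]
    congr 3
    ext x
    exact ((φ.commutes x).trans (IsScalarTower.algebraMap_apply _ B _ x))
  · intro htb
    rw [Scheme.Hom.comp_apply, Scheme.Hom.comp_apply, ← hq]
    congr 1
    apply hφ
    have h1 : Spec.map (CommRingCat.ofHom (algebraMap B (Localization.Away b))) (j ⟨t, htb⟩) = t := by
      rw [← Scheme.Hom.comp_apply, hj]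
      rfl
    exact h1

end Groth.Agent.S1390
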