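import Groth.Statements.S1392
import Groth.Agent.Fdesc.FlatBC

set_option autoImplicit false
universe u
open FlatMor

namespace Groth.Agent.S1392

section Helpers

open AlgebraicGeometry CategoryTheory Limits TensorProduct
open Groth.Agent.Fdesc.Skyscraper Groth.Agent.Fdesc.PullbackStalk Groth.Agent.Fdesc.StalkExt
  Groth.Agent.Fdesc.FlatBC Groth.Agent.Fdesc

/-- In a flat cube, if `T` is flat over `R` then `U` is flat over `S`. -/
lemma flat_of_productMap {R S T U : Type u} [CommRing R] [CommRing S] [CommRing T] [CommRing U]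
    [Algebra R S] [Algebra R T] [Algebra R U] [Algebra S U] [Algebra T U]
    [IsScalarTower R S U] [IsScalarTower R T U] [Module.Flat R T]
    (h : (Algebra.TensorProduct.productMap (IsScalarTower.toAlgHom R S U)
      (IsScalarTower.toAlgHom R T U)).toRingHom.Flat) : Module.Flat S U := by
  algebraize [(Algebra.TensorProduct.productMap (IsScalarTower.toAlgHom R S U)
      (IsScalarTower.toAlgHom R T U)).toRingHom]
  have : IsScalarTower S (S ⊗[R] T) U := .of_algebraMap_eq fun s => by
    change _ = (Algebra.TensorProduct.productMap (IsScalarTower.toAlgHom R S U)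
      (IsScalarTower.toAlgHom R T U)) (s ⊗ₜ 1)
    simp
  exact Module.Flat.trans S (S ⊗[R] T) U

variable {P X Y' Y : Scheme.{u}} {p : P ⟶ X} {q : P ⟶ Y'} {f : X ⟶ Y} {g : Y' ⟶ Y}

theorem flat_crossMap' (w : p ≫ f = q ≫ g) (z : P) (hg : (g.stalkMap (q z)).hom.Flat) : 
    (crossMap w z).hom.Flat := by
  rw [crossMap, CommRingCat.hom_comp]
  refine RingHom.Flat.comp (RingHom.Flat.of_bijective ?_) hg
  have h : g.base (q.base z) = f.base (p.base z) := by
    have := congrArg (fun k : P ⟶ Y => k.base z) w
    simpa using this.symm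
  exact (ConcreteCategory.isIso_iff_bijective _).mp
    (inferInstanceAs (IsIso (Y.presheaf.stalkCongr (.of_eq h)).inv))

/-- Flatness of modules descends along a base change flat at the relevant point. -/
theorem isFlatOverAt_of_pullback' (H : IsPullback p q f g) (M : X.Modules) (z : P)
    (hg : (g.stalkMap (q z)).hom.Flat)
    (h : FlatMod.IsFlatOverAt q ((Scheme.Modules.pullback p).obj M) z) :
    FlatMod.IsFlatOverAt f M (p.base z) := by
  letI := stalkAlg f (p.base z)
  letI : Algebra (Y.presheaf.stalk (f.base (p.base z))) (Y'.presheaf.stalk (q.base z)) :=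
    (crossMap H.w z).hom.toAlgebra
  letI := stalkAlg p z
  letI := stalkAlg q z
  letI : Algebra (Y.presheaf.stalk (f.base (p.base z))) (P.presheaf.stalk z) :=
    (f.stalkMap (p.base z) ≫ p.stalkMap z).hom.toAlgebra
  haveI : IsScalarTower (Y.presheaf.stalk (f.base (p.base z))) (X.presheaf.stalk (p.base z))
    (P.presheaf.stalk z) := IsScalarTower.of_algebraMap_eq fun _ => rfl
  haveI : IsScalarTower (Y.presheaf.stalk (f.base (p.base z))) (Y'.presheaf.stalk (q.base z))
    (P.presheaf.stalk z) := IsScalarTower.of_algebraMap_eq fun r =>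
      (ConcreteCategory.congr_hom (crossMap_comp H.w z) r).symm
  letI := FlatMod.moduleStalkOver f M (p.base z)
  haveI := isScalarTower f M (p.base z)
  letI := FlatMod.moduleStalkOver q ((Scheme.Modules.pullback p).obj M) z
  haveI := isScalarTower q ((Scheme.Modules.pullback p).obj M) z
  haveI : Module.Flat (Y.presheaf.stalk (f.base (p.base z))) (Y'.presheaf.stalk (q.base z)) :=
    flat_crossMap' H.w z hg
  haveI : Module.Flat (X.presheaf.stalk (p.base z)) (P.presheaf.stalk z) :=
    flat_of_productMap (flat_productMap_stalk H z)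
  haveI : IsLocalHom (algebraMap (X.presheaf.stalk (p.base z)) (P.presheaf.stalk z)) :=
    inferInstanceAs (IsLocalHom (p.stalkMap z).hom)
  haveI : Module.FaithfullyFlat (X.presheaf.stalk (p.base z)) (P.presheaf.stalk z) :=
    Module.FaithfullyFlat.of_flat_of_isLocalHom
  haveI : Module.Flat (Y'.presheaf.stalk (q.base z))
    (((Scheme.Modules.pullback p).obj M).presheaf.stalk z) := h
  haveI : Module.Flat (Y'.presheaf.stalk (q.base z))
      (P.presheaf.stalk z ⊗[X.presheaf.stalk (p.base z)] M.presheaf.stalk (p.base z)) :=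
    Module.Flat.of_linearEquiv
      ((stalkPullbackEquiv p M z).restrictScalars (Y'.presheaf.stalk (q.base z)))
  haveI : Module.Flat (Y.presheaf.stalk (f.base (p.base z)))
      (P.presheaf.stalk z ⊗[X.presheaf.stalk (p.base z)] M.presheaf.stalk (p.base z)) :=
    Module.Flat.trans (Y.presheaf.stalk (f.base (p.base z))) (Y'.presheaf.stalk (q.base z)) _
  exact FlatAlg.flat_of_flat_tensor (S' := P.presheaf.stalk z) ‹_›

end Helpers

open AlgebraicGeometry CategoryTheory Limits in
/-- Stacks Tag 047C, part (2): in a cartesian square X' = S' ×_S X with projections g' : X' → X and f' : X' → S', if g : S' → S is flat at f' x' and the pullback of a quasi-coherent O_X-module F to X' is flat over S' at x', then F is flat over S at g' x'. -/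
theorem result {X S X' S' : Scheme.{u}} (f : X ⟶ S) (f' : X' ⟶ S') (g' : X' ⟶ X) (g : S' ⟶ S) (hc : IsPullback g' f' f g)
    (F : X.Modules) (hF : Coh.IsQCoh F) (x' : X') (hg : (g.stalkMap (f' x')).hom.Flat)
    (h : FlatMod.IsFlatOverAt f' ((Scheme.Modules.pullback g').obj F) x') :
    FlatMod.IsFlatOverAt f F (g' x') := by
  exact isFlatOverAt_of_pullback' hc F x' hg h

end Groth.Agent.S1392
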