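import Groth.Statements.S1393
import Groth.Agent.Flat2E.FlatFree
import Groth.Agent.Ega1.StalkFP
import Groth.Agent.Desc.FPSections
import Groth.Agent.Divis.StalkMod
import Groth.Agent.Ega3B.LocFree

set_option autoImplicit false
universe u
open FlatMor

namespace Groth.Agent.S1393

open AlgebraicGeometry CategoryTheory Limits in
/-- Stacks Tag 080Q: let f : X → S be of finite presentation, F a finitely presented quasi-coherent O_X-module and x a point with image s. If F is flat over S at x and the stalk at x of the restriction of F to the fibre, namely F_x / m_s F_x, is flat over the local ring of the fibre at x, namely O_{X,x} / m_s O_{X,x}, then F is free of finite rank on some open neighbourhood of x. -/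
theorem result {X S : Scheme.{u}} (f : X ⟶ S) [LocallyOfFinitePresentation f] [QuasiCompact f] [QuasiSeparated f]
    (F : X.Modules) (hFq : Coh.IsQCoh F) (hFp : CohB1.IsFP F) (x : X) (h1 : FlatMod.IsFlatOverAt f F x)
    (h2 : Module.Flat (↑(X.presheaf.stalk x) ⧸ Ideal.map (f.stalkMap x).hom (IsLocalRing.maximalIdeal ↑(S.presheaf.stalk (f x))))
      (↑(F.presheaf.stalk x) ⧸ (Ideal.map (f.stalkMap x).hom (IsLocalRing.maximalIdeal ↑(S.presheaf.stalk (f x))) • (⊤ : Submodule ↑(X.presheaf.stalk x) ↑(F.presheaf.stalk x))))) :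
    ∃ (U : X.Opens) (n : ℕ), x ∈ U ∧ Nonempty (F.restrict U.ι ≅ FlatMod.freeMod (↑U) n) := by
  -- the stalk is free
  have hfree : Module.Free (X.presheaf.stalk x) (F.presheaf.stalk x) := by
    let _ : Algebra (S.presheaf.stalk (f x)) (X.presheaf.stalk x) := (f.stalkMap x).hom.toAlgebra
    let _ : Module (S.presheaf.stalk (f x)) (F.presheaf.stalk x) := FlatMod.moduleStalkOver f F x
    have : IsScalarTower (S.presheaf.stalk (f x)) (X.presheaf.stalk x) (F.presheaf.stalk x) :=
      ⟨fun a b m => by rw [Algebra.smul_def, mul_smul]; rfl⟩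
    have hfp := Ega1.StalkFP.finitePresentation_stalk F hFq hFp x
    have hflat : Module.Flat (S.presheaf.stalk (f x)) (F.presheaf.stalk x) := h1
    have hloc : IsLocalHom (f.stalkMap x).hom := inferInstance
    have hJ : (IsLocalRing.maximalIdeal (S.presheaf.stalk (f x))).map
        (algebraMap (S.presheaf.stalk (f x)) (X.presheaf.stalk x)) ≤
          IsLocalRing.maximalIdeal (X.presheaf.stalk x) :=
      ((IsLocalRing.local_hom_TFAE (f.stalkMap x).hom).out 0 2).mp hloc
    exact Flat2E.FlatFree.free_of_flat_of_flat_quotient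
      (IsLocalRing.maximalIdeal (S.presheaf.stalk (f x))) hJ h2
  obtain ⟨U, hU, hx, -⟩ := exists_isAffineOpen_mem_and_subset (x := x) (U := ⊤) trivial
  have hfp := Desc.FPSections.finitePresentation_sections hU hFq hFp
  have hq : F.IsQuasicoherent := hFq
  have hmem : hU.primeIdealOf ⟨x, hx⟩ ∈ Module.freeLocus Γ(X, U) Γ(F, U) := by
    refine Divis.StalkMod.stalk_elim F hFq hU x hx ?_
    intro _ _ _ _ l _ _ _
    rw [Module.mem_freeLocus_of_isLocalization _ (X.presheaf.stalk x) (F.presheaf.stalk x) l]
    exact hfree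
  obtain ⟨V, hxV, -, e⟩ := Ega3B.LocFree.exists_restrict_iso_freeMod_of_mem_freeLocus F
    hU ⟨x, hx⟩ hmem
  exact ⟨V, _, hxV, e⟩

end Groth.Agent.S1393
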