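import Groth.Statements.S1394
import Mathlib.RingTheory.ZariskisMainTheorem
import Mathlib.RingTheory.Ideal.KrullsHeightTheorem

set_option autoImplicit false
universe u
open FlatMor

namespace Groth.Agent.S1394

/-- In a Noetherian local domain, if a nonzero element lies in every nonzero prime, then every nonzero
prime is the maximal ideal. -/
theorem eq_maximal_of_forall_mem {D : Type*} [CommRing D] [IsDomain D] [IsLocalRing D] [IsNoetherianRing D]
    (f : D) (hf : f ≠ 0) (hf' : ∀ p : Ideal D, p.IsPrime → p ≠ ⊥ → f ∈ p)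
    (p : Ideal D) [hp : p.IsPrime] (hpb : p ≠ ⊥) : p = IsLocalRing.maximalIdeal D := by
  classical
  have hmin : ∀ q : Ideal D, q.IsPrime → q ≠ ⊥ → q.height ≤ 1 → q ∈ (Ideal.span {f}).minimalPrimes := by
    intro q hq hqb hqh
    refine ⟨⟨hq, by simpa [Ideal.span_le] using hf' q hq hqb⟩, ?_⟩
    rintro q' ⟨hq', hfq'⟩ hle
    by_contra hne
    have hlt : q' < q := lt_of_le_not_ge hle hne
    have hne' : q' ≠ ⊥ := by
      rintro rfl
      apply hf
      simpa using hfq' (Ideal.mem_span_singleton_self f)
    have h1 := Ideal.height_strict_mono_of_isPrime_of_isPrime hlt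
    have h2 : q'.height < 1 := lt_of_lt_of_le h1 hqh
    rw [Order.lt_one_iff] at h2
    exact hne' (Ideal.height_eq_zero_iff_eq_bot.mp h2)
  have hfin := Ideal.finite_minimalPrimes_of_isNoetherianRing D (Ideal.span {f})
  have hmb : IsLocalRing.maximalIdeal D ≠ ⊥ := by
    intro h
    exact hpb (le_bot_iff.mp (h ▸ IsLocalRing.le_maximalIdeal_of_isPrime p))
  have hsub : ((IsLocalRing.maximalIdeal D : Ideal D) : Set D) ⊆
      ⋃ i ∈ (hfin.toFinset : Set (Ideal D)), ((id i : Ideal D) : Set D) := by
    intro x hx
    by_cases hx0 : x = 0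
    · subst hx0
      obtain ⟨y, hy, hy0⟩ := Submodule.exists_mem_ne_zero_of_ne_bot hmb
      obtain ⟨q, hq, hyq⟩ := Ideal.exists_minimalPrimes_le (I := Ideal.span {f}) (J := p)
        (by simpa [Ideal.span_le] using hf' p hp hpb)
      simp only [Set.mem_iUnion, id]
      exact ⟨q, by simpa using hq, q.zero_mem⟩
    · obtain ⟨q, hq⟩ := Ideal.nonempty_minimalPrimes (I := Ideal.span {x}) (by
        rw [Ne, Ideal.span_singleton_eq_top]
        exact hx)
      have hqp := hq.1.1
      have hxq : x ∈ q := hq.1.2 (Ideal.mem_span_singleton_self x)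
      have hqb : q ≠ ⊥ := by
        rintro rfl
        exact hx0 (by simpa using hxq)
      have := Ideal.height_le_one_of_isPrincipal_of_mem_minimalPrimes _ q hq
      simp only [Set.mem_iUnion, id]
      exact ⟨q, by simpa using hmin q hqp hqb this, hxq⟩
  rw [Ideal.subset_union_prime (f := id) ⊥ ⊥ (by
    intro i hi _ _
    simp at hi
    exact hi.1.1)] at hsub
  obtain ⟨q, hq, hle⟩ := hsub
  have hq' : q ∈ (Ideal.span {f}).minimalPrimes := by simpa using hq
  have hqp := hq'.1.1
  have heq : q = IsLocalRing.maximalIdeal D :=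
    le_antisymm (IsLocalRing.le_maximalIdeal_of_isPrime q) hle
  refine le_antisymm (IsLocalRing.le_maximalIdeal_of_isPrime p) ?_
  rw [← heq]
  exact hq'.2 ⟨hp, by simpa [Ideal.span_le] using hf' p hp hpb⟩ (heq ▸ IsLocalRing.le_maximalIdeal_of_isPrime p)

/-- The algebra part. -/
theorem quasiFinite_of_forall_prime {A D : Type*} [CommRing A] [CommRing D] [IsLocalRing A] [IsLocalRing D]
    [IsNoetherianRing D] [Algebra A D] [IsLocalHom (algebraMap A D)] [Algebra.EssFiniteType A D]
    [Module.Finite A (IsLocalRing.ResidueField D)]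
    (h : ∀ p : Ideal D, p.IsPrime → (IsLocalRing.maximalIdeal A).map (algebraMap A D) ≤ p →
      p = IsLocalRing.maximalIdeal D) : Algebra.QuasiFinite A D := by
  classical
  let C := Algebra.EssFiniteType.subalgebra A D
  let m : Ideal C := (IsLocalRing.maximalIdeal D).comap (algebraMap C D)
  have hm : m.IsPrime := inferInstance
  have hM : Algebra.EssFiniteType.submonoid A D = m.primeCompl := by
    ext x
    simp only [Algebra.EssFiniteType.submonoid, Submonoid.mem_comap, IsUnit.mem_submonoid_iff,
      Ideal.mem_primeCompl_iff, m, Ideal.mem_comap, IsLocalRing.mem_maximalIdeal, mem_nonunits_iff, not_not]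
    rfl
  have hloc : IsLocalization.AtPrime D m := by
    have := Algebra.EssFiniteType.isLocalization (R := A) (S := D)
    rw [hM] at this
    exact this
  let e : Localization.AtPrime m ≃ₐ[C] D := IsLocalization.algEquiv m.primeCompl _ _
  have hw : Algebra.WeaklyQuasiFiniteAt A m := by
    rw [Algebra.weaklyQuasiFiniteAt_iff]
    have hmu : m.under A = IsLocalRing.maximalIdeal A := by
      have h1 : m.under A = (IsLocalRing.maximalIdeal D).comap (algebraMap A D) := by
        simp only [m, Ideal.under, Ideal.comap_comap, ← IsScalarTower.algebraMap_eq]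
      rw [h1]
      exact IsLocalRing.maximalIdeal_comap (algebraMap A D)
    let J : Ideal D := (IsLocalRing.maximalIdeal A).map (algebraMap A D)
    have hJ : J ≤ IsLocalRing.maximalIdeal D := by
      rw [Ideal.map_le_iff_le_comap, IsLocalRing.maximalIdeal_comap (algebraMap A D)]
    let φ : (D ⧸ J) →ₐ[A] (D ⧸ IsLocalRing.maximalIdeal D) := Ideal.Quotient.factorₐ A hJ
    have : Module.Finite A (D ⧸ IsLocalRing.maximalIdeal D) :=
      inferInstanceAs (Module.Finite A (IsLocalRing.ResidueField D))
    have hfin : Module.Finite A (D ⧸ J) := by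
      refine Module.finite_of_surjective_of_ker_le_nilradical φ (Ideal.Quotient.factor_surjective hJ) ?_ 
        (IsNoetherian.noetherian _)
      intro x hx
      rw [nilradical_eq_sInf, Ideal.mem_sInf]
      intro P hP
      replace hP : P.IsPrime := hP
      obtain ⟨x, rfl⟩ := Ideal.Quotient.mk_surjective x
      have h1 : P.comap (Ideal.Quotient.mk J) = IsLocalRing.maximalIdeal D := by
        refine h _ inferInstance ?_
        intro y hy
        rw [Ideal.mem_comap, Ideal.Quotient.eq_zero_iff_mem.mpr hy]
        exact P.zero_mem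
      rw [← Ideal.mem_comap, h1]
      have : φ (Ideal.Quotient.mk J x) = 0 := hx
      exact Ideal.Quotient.eq_zero_iff_mem.mp this
    have hq : Algebra.QuasiFinite A (D ⧸ J) := inferInstance
    refine (Algebra.QuasiFinite.iff_of_algEquiv (Ideal.quotientEquivAlg _ J (e.restrictScalars A) ?_)).mpr hq
    rw [hmu]
    change J = Ideal.map ((e.restrictScalars A : Localization.AtPrime m →ₐ[A] D) : Localization.AtPrime m →+* D) _
    rw [Ideal.map_map]
    have : algebraMap A D = ((e.restrictScalars A : Localization.AtPrime m →ₐ[A] D) : Localization.AtPrime m →+* D).comp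
      (algebraMap A (Localization.AtPrime m)) := 
      ((e.restrictScalars A : Localization.AtPrime m →ₐ[A] D).comp_algebraMap).symm
    rw [← this]
  have := Algebra.QuasiFiniteAt.of_weaklyQuasiFiniteAt (R := A) m
  exact (Algebra.QuasiFinite.iff_of_algEquiv (e.restrictScalars A)).mp this

/-- Stacks Tag 05GT: let A → B be a local homomorphism of local rings with A Noetherian, B essentially of finite type over A and the residue field of B finite over that of A. Let V be an open of Spec B containing some prime not lying over the maximal ideal of A. Then V contains a prime q, not lying over the maximal ideal of A, such that B/q is quasi-finite over A (every fibre ring finite over the residue field; in the source B/q is moreover a localization of a finite type quasi-finite A-algebra, which implies this). -/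
theorem result {A B : Type u} [CommRing A] [CommRing B] [IsLocalRing A] [IsLocalRing B] [IsNoetherianRing A]
    [Algebra A B] [IsLocalHom (algebraMap A B)] [Algebra.EssFiniteType A B]
    [Module.Finite (IsLocalRing.ResidueField A) (IsLocalRing.ResidueField B)]
    (V : Set (PrimeSpectrum B)) (hV : IsOpen V) (hne : ∃ q ∈ V, q.asIdeal.comap (algebraMap A B) ≠ IsLocalRing.maximalIdeal A) :
    ∃ q ∈ V, q.asIdeal.comap (algebraMap A B) ≠ IsLocalRing.maximalIdeal A ∧ Algebra.QuasiFinite A (B ⧸ q.asIdeal) := by
  classical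
  have hBN : IsNoetherianRing B := Algebra.EssFiniteType.isNoetherianRing A B
  -- choose a maximal ideal among the primes of `V` not lying over the maximal ideal
  let T : Set (Ideal B) := {I | ∃ q ∈ V, q.asIdeal.comap (algebraMap A B) ≠ IsLocalRing.maximalIdeal A ∧ q.asIdeal = I}
  have hT : T.Nonempty := by
    obtain ⟨q, hq, hq'⟩ := hne
    exact ⟨q.asIdeal, q, hq, hq', rfl⟩
  obtain ⟨I, ⟨q, hqV, hqm, rfl⟩, hmax⟩ := set_has_maximal_iff_noetherian.mpr hBN T hT
  refine ⟨q, hqV, hqm, ?_⟩
  -- the complement of `V` is `zeroLocus J`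
  obtain ⟨J, hJ⟩ := (PrimeSpectrum.isClosed_iff_zeroLocus_ideal _).mp hV.isClosed_compl
  have hV' : ∀ p : PrimeSpectrum B, p ∉ V ↔ J ≤ p.asIdeal := by
    intro p
    rw [← Set.mem_compl_iff, hJ]
    rfl
  have hJq : ¬ J ≤ q.asIdeal := fun h => (hV' q).mpr h hqV
  obtain ⟨j, hjJ, hjq⟩ := SetLike.not_le_iff_exists.mp hJq
  have hle : q.asIdeal.comap (algebraMap A B) ≤ IsLocalRing.maximalIdeal A :=
    IsLocalRing.le_maximalIdeal_of_isPrime _
  obtain ⟨a, ham, haq⟩ := SetLike.not_le_iff_exists.mp (fun h => hqm (le_antisymm hle h))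
  have haq' : algebraMap A B a ∉ q.asIdeal := haq
  -- the domain `D`
  let D := B ⧸ q.asIdeal
  have : IsDomain D := inferInstance
  have : IsLocalRing D := IsLocalRing.of_surjective' (Ideal.Quotient.mk q.asIdeal) Ideal.Quotient.mk_surjective
  have : IsNoetherianRing D := inferInstance
  have hloc : IsLocalHom (Ideal.Quotient.mk q.asIdeal) := IsLocalHom.of_surjective _ Ideal.Quotient.mk_surjective
  have : IsLocalHom (algebraMap A D) := by
    have : algebraMap A D = (Ideal.Quotient.mk q.asIdeal).comp (algebraMap A B) := rfl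
    rw [this]
    exact RingHom.isLocalHom_comp _ _
  have hprime : ∀ p : Ideal D, p.IsPrime → p ≠ ⊥ → Ideal.Quotient.mk q.asIdeal (j * algebraMap A B a) ∈ p := by
    intro p hp hpb
    by_contra hnot
    rw [map_mul] at hnot
    let P : PrimeSpectrum B := ⟨p.comap (Ideal.Quotient.mk q.asIdeal), inferInstance⟩
    have hqP : q.asIdeal ≤ P.asIdeal := by
      intro x hx
      change Ideal.Quotient.mk q.asIdeal x ∈ p
      rw [Ideal.Quotient.eq_zero_iff_mem.mpr hx]
      exact p.zero_mem
    have hPV : P ∈ V := by
      by_contra h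
      have := (hV' P).mp h hjJ
      exact hnot (p.mul_mem_right _ this)
    have hPm : P.asIdeal.comap (algebraMap A B) ≠ IsLocalRing.maximalIdeal A := by
      intro h
      have : a ∈ P.asIdeal.comap (algebraMap A B) := h ▸ ham
      exact hnot (p.mul_mem_left _ this)
    have hlt : ¬ q.asIdeal < P.asIdeal := hmax P.asIdeal ⟨P, hPV, hPm, rfl⟩
    have heq : P.asIdeal = q.asIdeal := by
      by_contra hne
      exact hlt (lt_of_le_of_ne hqP (Ne.symm hne))
    apply hpb
    rw [eq_bot_iff]
    intro x hx
    obtain ⟨x, rfl⟩ := Ideal.Quotient.mk_surjective x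
    have : x ∈ P.asIdeal := hx
    rw [heq] at this
    exact Ideal.Quotient.eq_zero_iff_mem.mpr this
  have hne0 : Ideal.Quotient.mk q.asIdeal (j * algebraMap A B a) ≠ 0 := by
    rw [Ne, Ideal.Quotient.eq_zero_iff_mem]
    intro h
    rcases q.2.mem_or_mem h with h | h
    · exact hjq h
    · exact haq' h
  have : Module.Finite A (IsLocalRing.ResidueField B) := .trans (IsLocalRing.ResidueField A) _
  have : IsLocalHom (Ideal.Quotient.mkₐ A q.asIdeal) := ⟨fun a ha => hloc.map_nonunit a ha⟩
  have : Module.Finite A (IsLocalRing.ResidueField D) := by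
    refine .of_surjective (IsLocalRing.ResidueField.mapAlgHom (Ideal.Quotient.mkₐ A q.asIdeal)).toLinearMap ?_
    intro x
    obtain ⟨x, rfl⟩ := IsLocalRing.residue_surjective x
    obtain ⟨x, rfl⟩ := Ideal.Quotient.mk_surjective x
    exact ⟨IsLocalRing.residue B x, rfl⟩
  refine quasiFinite_of_forall_prime (A := A) (D := D) fun p hp hle => ?_
  refine eq_maximal_of_forall_mem _ hne0 hprime p ?_
  rintro rfl
  have : algebraMap A D a = 0 := by
    simpa using hle (Ideal.mem_map_of_mem _ ham)
  exact haq' (Ideal.Quotient.eq_zero_iff_mem.mp this)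

end Groth.Agent.S1394
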