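import Groth.Statements.S1395
import Groth.Agent.Flat2E.ValTriv9

set_option autoImplicit false
universe u
open FlatMor

namespace Groth.Agent.S1395

open AlgebraicGeometry CategoryTheory Limits in
/-- Stacks Tag 0EX8: over a valuation ring A consider a proper, flat morphism of finite presentation f : X → Spec A and an invertible O_X-module L. If L is trivial on the generic fibre, the closed fibre is integral, and the global functions of the generic fibre are just the fraction field (the residue field of the generic point), then L is trivial. -/
theorem result {A : Type u} [CommRing A] [IsDomain A] [ValuationRing A] {X : Scheme.{u}}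
    (f : X ⟶ Spec (CommRingCat.of A)) [IsProper f] [Flat f] [LocallyOfFinitePresentation f] (L : X.Modules) (hL : PicF.IsInvertible L)
    (htriv : Nonempty ((Scheme.Modules.pullback (f.fiberι (genericPoint ↑(Spec (CommRingCat.of A))))).obj L ≅
      Coh.structureModule (f.fiber (genericPoint ↑(Spec (CommRingCat.of A))))))
    (hint : IsIntegral (f.fiber (IsLocalRing.closedPoint A)))
    (h0 : Function.Bijective ((f.fiberToSpecResidueField (genericPoint ↑(Spec (CommRingCat.of A)))).appTop)) :
    Nonempty (L ≅ Coh.structureModule X) := by
  obtain ⟨i⟩ := htriv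
  have ht₀ : Groth.Agent.Fdesc.LocGen.IsGen (Groth.Agent.Fdesc.LocGen.sec i.inv ⊤) :=
    (Groth.Agent.Fdesc.LocGen.isIso_iff_isGen i.inv).mp inferInstance
  have hcs : CompactSpace X := by
    have : QuasiCompact f := inferInstance
    exact (HasAffineProperty.iff_of_isAffine (P := @QuasiCompact)).mp this
  have hqs : QuasiSeparatedSpace X := by
    have : QuasiSeparated f := inferInstance
    exact (HasAffineProperty.iff_of_isAffine (P := @QuasiSeparated)).mp this
  obtain ⟨s, hs⟩ := Groth.Agent.Flat2E.ValTriv9.exists_section f L hL _ ht₀
  obtain ⟨s', hs'⟩ := Groth.Agent.Flat2E.ValTriv8.main f hL s hs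
  have : IsIso (Groth.Agent.Fdesc.LocGen.homOf s') := by
    rw [Groth.Agent.Fdesc.LocGen.isIso_iff_isGen]
    simpa using hs'
  exact ⟨(asIso (Groth.Agent.Fdesc.LocGen.homOf s')).symm⟩

end Groth.Agent.S1395
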