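import Groth.Statements.S1396
import Groth.Agent.Flat2F.QuasiAffine

set_option autoImplicit false
universe u
open FlatMor

namespace Groth.Agent.S1396

open AlgebraicGeometry CategoryTheory Limits in
/-- Stacks Tag 0F1U, (1) ⇔ (4): a morphism f : X → Y is ind-quasi-affine (the preimage of every affine open is a scheme all of whose quasi-compact opens are quasi-affine) if and only if for every quasi-compact quasi-separated open V of Y and every quasi-compact open U of the preimage of V, the induced morphism U → V is quasi-affine (quasi-compact with quasi-affine preimages of affine opens). -/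
theorem result {X Y : Scheme.{u}} (f : X ⟶ Y) :
    MoreMor.IsIndQuasiAffineHom f ↔ ∀ (V : Y.Opens), IsCompact (V : Set ↑Y) → IsQuasiSeparated (V : Set ↑Y) →
      ∀ (U : X.Opens) (hUV : U ≤ f ⁻¹ᵁ V), IsCompact (U : Set ↑X) → MoreMor.IsQuasiAffineHom (f.resLE V U hUV) := by
  constructor
  · intro h V hV hV' U hUV hU
    rw [Groth.Agent.Flat2F.QuasiAffine.indHom_iff] at h
    have : CompactSpace (U : Scheme.{u}) := isCompact_iff_compactSpace.mp hU
    have : QuasiSeparatedSpace (V : Scheme.{u}) :=
      (isQuasiSeparated_iff_quasiSeparatedSpace _ V.2).mp hV'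
    have hqc : QuasiCompact (f.resLE V U hUV) := inferInstance
    refine ⟨hqc, fun W hW ↦ ?_⟩
    rw [Groth.Agent.Flat2F.QuasiAffine.opens_image_iff]
    refine h (V.ι ''ᵁ W) (hW.image_of_isOpenImmersion _) _ ?_ ?_
    · rintro _ ⟨x, hx, rfl⟩
      refine ⟨_, hx, ?_⟩
      exact congrArg (fun φ : (U : Scheme.{u}) ⟶ Y => φ x) (Scheme.Hom.resLE_comp_ι f hUV)
    · refine IsCompact.image ?_ U.ι.continuous
      exact (f.resLE V U hUV).isCompact_preimage hW.isCompact
  · intro h
    rw [Groth.Agent.Flat2F.QuasiAffine.indHom_iff]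
    intro V hV U hUV hU
    have : IsAffine (V : Scheme.{u}) := hV
    have := (h V hV.isCompact hV.isQuasiSeparated U hUV hU).2 ⊤ (isAffineOpen_top _)
    rw [Scheme.Hom.preimage_top] at this
    exact Groth.Agent.Flat2F.QuasiAffine.opens_top_iff.mp this

end Groth.Agent.S1396
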