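import Groth.Statements.S1397
import Groth.Agent.Flat2F.QuasiAffine

set_option autoImplicit false
universe u
open FlatMor

namespace Groth.Agent.S1397

open AlgebraicGeometry CategoryTheory Limits in
/-- Stacks Tag 0F1V: ind-quasi-affine morphisms are stable under composition. -/
theorem result {X Y Z : Scheme.{u}} (f : X ⟶ Y) (g : Y ⟶ Z) (hf : MoreMor.IsIndQuasiAffineHom f) (hg : MoreMor.IsIndQuasiAffineHom g) :
    MoreMor.IsIndQuasiAffineHom (f ≫ g) := by
  rw [Groth.Agent.Flat2F.QuasiAffine.indHom_iff] at hf hg ⊢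
  intro W hW U hUW hU
  obtain ⟨V, hVc, hUV, hVW⟩ := Groth.Agent.Flat2F.QuasiAffine.exists_compact_opens_between
    (U := g ⁻¹ᵁ W) (hU.image f.continuous) (Set.image_subset_iff.mpr hUW)
  have hVq := hg W hW V hVW hVc
  have hUV' : U ≤ f ⁻¹ᵁ V := fun x hx ↦ hUV ⟨x, hx, rfl⟩
  refine Groth.Agent.Flat2F.QuasiAffine.opens_of_basicOpens_target f hUV' hU fun x hx ↦ ?_
  obtain ⟨r, hxr, hr⟩ :=
    Groth.Agent.Flat2F.QuasiAffine.exists_affine_basicOpen hVq (hUV' hx)
  exact ⟨r, hxr, hf _ hr _ inf_le_right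
    (Groth.Agent.Flat2F.QuasiAffine.isCompact_inf_basicOpen f hUV' hU _)⟩

end Groth.Agent.S1397
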