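import Groth.Statements.S1399
import Groth.Agent.Flat2F.QuasiAffine

set_option autoImplicit false
universe u
open FlatMor

namespace Groth.Agent.S1399

open AlgebraicGeometry CategoryTheory Limits in
/-- Stacks Tag 0F1X: if g ∘ f is ind-quasi-affine then so is f. -/
theorem result {X Y Z : Scheme.{u}} (f : X ⟶ Y) (g : Y ⟶ Z) (h : MoreMor.IsIndQuasiAffineHom (f ≫ g)) :
    MoreMor.IsIndQuasiAffineHom f := by
  refine Groth.Agent.Flat2F.QuasiAffine.indHom_of_local f fun y ↦ ?_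
  rw [Groth.Agent.Flat2F.QuasiAffine.indHom_iff] at h
  obtain ⟨_, ⟨W, hW, rfl⟩, hyW, -⟩ :=
    Z.isBasis_affineOpens.exists_subset_of_mem_open (Set.mem_univ (g y)) isOpen_univ
  refine ⟨g ⁻¹ᵁ W, hyW, fun V _ hVW U hUV hU ↦ h W hW U ?_ hU⟩
  exact hUV.trans (fun x hx ↦ hVW hx)

end Groth.Agent.S1399
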