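import Groth.Statements.S1400
import Groth.Agent.Flat2F.QAff

set_option autoImplicit false
universe u
open FlatMor

namespace Groth.Agent.S1400

open AlgebraicGeometry CategoryTheory Limits in
/-- Stacks Tag 0AP7: the base change of an ind-quasi-affine morphism is ind-quasi-affine. -/
theorem result {X S X' S' : Scheme.{u}} (f : X ⟶ S) (f' : X' ⟶ S') (g' : X' ⟶ X) (g : S' ⟶ S)
    (hc : IsPullback g' f' f g) (hf : MoreMor.IsIndQuasiAffineHom f) : MoreMor.IsIndQuasiAffineHom f' := by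
  rw [Flat2F.QAff.isIndQuasiAffineHom_iff] at hf ⊢
  intro V' U' hV' hUV hU'
  refine Flat2F.QAff.isQuasiAffine_of_affine_target_cover f' hV' hU' hUV fun x hx => ?_
  obtain ⟨W, hW, hxW, -⟩ := exists_isAffineOpen_mem_and_subset (x := g (f' x)) (U := ⊤) trivial
  obtain ⟨W', hW', hxW', hWW'⟩ := exists_isAffineOpen_mem_and_subset (x := f' x) (U := g ⁻¹ᵁ W) hxW
  refine ⟨W', hxW', fun U'' _ hU''W' hU'' => ?_⟩
  -- a quasi-compact open `T` of `X` with `g' U'' ⊆ T ⊆ f⁻¹ W`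
  have h1 : g' '' (U'' : Set X') ⊆ (f ⁻¹ᵁ W : X.Opens) := by
    rintro _ ⟨y, hy, rfl⟩
    have : f (g' y) = g (f' y) := by
      rw [← Scheme.Hom.comp_apply, ← Scheme.Hom.comp_apply, hc.w]
    change f (g' y) ∈ W
    rw [this]
    exact hWW' (hU''W' hy)
  obtain ⟨T, hT, hUT, hTW⟩ : ∃ T : X.Opens, IsCompact (T : Set X) ∧ g' '' (U'' : Set X') ⊆ T ∧ T ≤ f ⁻¹ᵁ W := by
    obtain ⟨T, hT, hTo, h2, h3⟩ := PrespectralSpace.exists_isCompact_and_isOpen_between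
      (hU''.image g'.continuous) (f ⁻¹ᵁ W).2 h1
    exact ⟨⟨T, hTo⟩, hT, h2, h3⟩
  have hTq := hf W T hW hTW hT
  have hpb := Scheme.Hom.isPullback_resLE hc (US := W) (UT := W') (UX := T) (UY := g' ⁻¹ᵁ T ⊓ f' ⁻¹ᵁ W') hWW' hTW rfl
  have : IsAffine (W : Scheme.{u}) := hW
  have : IsAffine (W' : Scheme.{u}) := hW'
  have haff : IsAffineHom (g'.resLE T (g' ⁻¹ᵁ T ⊓ f' ⁻¹ᵁ W') inf_le_left) :=
    MorphismProperty.of_isPullback hpb.flip inferInstance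
  have := Scheme.IsQuasiAffine.of_isAffineHom (g'.resLE T (g' ⁻¹ᵁ T ⊓ f' ⁻¹ᵁ W') inf_le_left)
  refine Flat2F.QAff.isQuasiAffine_of_le (le_inf ?_ hU''W') hU'' this
  intro y hy
  exact hUT ⟨y, hy, rfl⟩

end Groth.Agent.S1400
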