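import Groth.Statements.S1401
import Groth.Agent.Flat2F.QAffDescent
import Groth.Agent.S1400

set_option autoImplicit false
universe u
open FlatMor

namespace Groth.Agent.S1401

open AlgebraicGeometry CategoryTheory Limits in
/-- Stacks Tag 0AP8 (descent direction): let S' → S be flat, surjective and quasi-compact and let f' be the base change of f : X → S to S'. If f' is ind-quasi-affine then so is f. -/
theorem result {X S X' S' : Scheme.{u}} (f : X ⟶ S) (f' : X' ⟶ S') (g' : X' ⟶ X) (g : S' ⟶ S)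
    [Flat g] [Surjective g] [QuasiCompact g] (hc : IsPullback g' f' f g) (hf' : MoreMor.IsIndQuasiAffineHom f') : MoreMor.IsIndQuasiAffineHom f := by
  rw [Flat2F.QAff.isIndQuasiAffineHom_iff]
  intro V U hV hUV hU
  -- an affine scheme `T` with a flat surjective map to `g⁻¹ V`
  have hcV : CompactSpace (g ⁻¹ᵁ V : Scheme.{u}) :=
    isCompact_iff_compactSpace.1 (QuasiCompact.isCompact_preimage (f := g) _ V.2 hV.isCompact)
  obtain ⟨T, p, hp1, hp2, hT⟩ := Scheme.exists_hom_isAffine_of_isZariskiLocalAtSource @Flat.{u}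
    (g ⁻¹ᵁ V : Scheme.{u})
  have hc₁ : IsPullback (pullback.fst f' (p ≫ (g ⁻¹ᵁ V).ι) ≫ g') (pullback.snd f' (p ≫ (g ⁻¹ᵁ V).ι)) f
      ((p ≫ (g ⁻¹ᵁ V).ι) ≫ g) :=
    (IsPullback.of_hasPullback f' (p ≫ (g ⁻¹ᵁ V).ι)).paste_horiz hc
  have hf₁ : MoreMor.IsIndQuasiAffineHom (pullback.snd f' (p ≫ (g ⁻¹ᵁ V).ι)) :=
    Groth.Agent.S1400.result _ _ _ _ (IsPullback.of_hasPullback f' (p ≫ (g ⁻¹ᵁ V).ι)) hf'
  rw [Flat2F.QAff.isIndQuasiAffineHom_iff] at hf₁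
  generalize hq : (p ≫ (g ⁻¹ᵁ V).ι) ≫ g = q at hc₁
  generalize pullback.fst f' (p ≫ (g ⁻¹ᵁ V).ι) ≫ g' = g₁' at hc₁
  generalize pullback.snd f' (p ≫ (g ⁻¹ᵁ V).ι) = f₁ at hc₁ hf₁
  have hqV : (⊤ : T.Opens) ≤ q ⁻¹ᵁ V := by
    intro t _
    rw [← hq]
    exact (p t).2
  have hpb := Scheme.Hom.isPullback_resLE hc₁ (US := V) (UT := ⊤) (UX := U) (UY := g₁' ⁻¹ᵁ U ⊓ f₁ ⁻¹ᵁ ⊤) hqV hUV rfl
  have : IsAffine (V : Scheme.{u}) := hV
  have : CompactSpace (U : Scheme.{u}) := isCompact_iff_compactSpace.1 hU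
  have : IsAffine ((⊤ : T.Opens) : Scheme.{u}) := isAffineOpen_top T
  have hflat : Flat (q.resLE V ⊤ hqV) := by
    have : Flat q := by rw [← hq]; infer_instance
    infer_instance
  have hsurj : Surjective (q.resLE V ⊤ hqV) := by
    constructor
    rintro ⟨v, hv⟩
    obtain ⟨s, rfl⟩ := g.surjective v
    obtain ⟨t, ht⟩ := p.surjective ⟨s, hv⟩
    refine ⟨⟨t, trivial⟩, Subtype.ext ?_⟩
    have h1 : (q.resLE V ⊤ hqV ≫ V.ι) ⟨t, trivial⟩ = q t := by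
      rw [Scheme.Hom.resLE_comp_ι]; rfl
    refine Eq.trans h1 ?_
    rw [← hq]
    change g (p t).1 = g s
    rw [ht]
  refine Flat2F.QAffDescent.isQuasiAffine_of_isPullback_of_flat_surjective hpb ?_
  refine hf₁ ⊤ _ (isAffineOpen_top T) (by simp) ?_
  have haff : IsAffineHom (g₁'.resLE U (g₁' ⁻¹ᵁ U ⊓ f₁ ⁻¹ᵁ ⊤) inf_le_left) :=
    MorphismProperty.of_isPullback hpb.flip inferInstance
  rw [isCompact_iff_compactSpace]
  exact QuasiCompact.compactSpace_of_compactSpace (g₁'.resLE U (g₁' ⁻¹ᵁ U ⊓ f₁ ⁻¹ᵁ ⊤) inf_le_left)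

end Groth.Agent.S1401
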