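import Groth.Statements.S1403
import Groth.Agent.Flat2F.FlatIndep
-- import your own Groth.Agent.* helpers here

set_option autoImplicit false
universe u
open FlatMor

namespace Groth.Agent.S1403

/-- Stacks Tag 053T: let A → B be an injective local homomorphism of local domains with B essentially of finite type and flat over A. Then dim(B / m_A B) + trdeg_{κ(A)} κ(B) = trdeg_A B; all three quantities are finite here, and the statement gives them as natural numbers d, e with d + e the transcendence degree of B over A. -/
theorem result {A B : Type u} [CommRing A] [CommRing B] [IsDomain A] [IsDomain B] [IsLocalRing A] [IsLocalRing B]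
    [Algebra A B] [IsLocalHom (algebraMap A B)] [FaithfulSMul A B] [Algebra.EssFiniteType A B] [Module.Flat A B] :
    ∃ d e : ℕ, ringKrullDim (B ⧸ Ideal.map (algebraMap A B) (IsLocalRing.maximalIdeal A)) = d ∧
      Algebra.trdeg (IsLocalRing.ResidueField A) (IsLocalRing.ResidueField B) = e ∧ Algebra.trdeg A B = (d + e : ℕ) := by
  have hloc : (IsLocalRing.maximalIdeal A).map (algebraMap A B) ≤ IsLocalRing.maximalIdeal B := by
    rw [Ideal.map_le_iff_le_comap]
    intro x hx
    rw [Ideal.mem_comap, IsLocalRing.mem_maximalIdeal, mem_nonunits_iff]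
    intro hu
    exact (IsLocalRing.mem_maximalIdeal _).mp hx (isUnit_of_map_unit (algebraMap A B) x hu)
  have hnoeth := Groth.Agent.Flat2F.LocalParams.isNoetherianRing_quotient (A := A) (B := B) _ le_rfl
  obtain ⟨s, hsm, hsd, hs⟩ := Groth.Agent.Flat2F.LocalParams.exists_params _ hloc
  obtain ⟨T, hTe, hT⟩ := Groth.Agent.Flat2F.LocalParams.exists_trans (A := A) (B := B)
  refine ⟨s.card, T.card, hsd.symm, hTe.symm, le_antisymm ?_ ?_⟩
  · -- the inequality from Zariski's main theorem
    let D := Algebra.adjoin A ((s : Set B) ∪ T)
    have hA : Set.range (algebraMap A B) ⊆ Set.range (algebraMap D B) := by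
      rintro _ ⟨a, rfl⟩
      exact ⟨algebraMap A D a, rfl⟩
    have hsT : (s : Set B) ∪ T ⊆ Set.range (algebraMap D B) := fun x hx =>
      ⟨⟨x, Algebra.subset_adjoin hx⟩, rfl⟩
    have : Algebra.EssFiniteType D B := Algebra.EssFiniteType.of_comp A D B
    have halg : Algebra.IsAlgebraic D B := by
      refine Groth.Agent.Flat2F.LocalZMT.isAlgebraic_of_zmt ?_ ?_
      · exact Groth.Agent.Flat2F.LocalParams.exists_pow_mem (A := A) (s : Set B) hA
          (Set.subset_union_left.trans hsT) hsm hs
      · exact Groth.Agent.Flat2F.LocalParams.exists_polynomial (A := A) (T : Set B) hA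
          (Set.subset_union_right.trans hsT) hT
    have h1 := Algebra.IsAlgebraic.trdeg_le_cardinalMk A ((s : Set B) ∪ T)
    refine h1.trans ((Cardinal.mk_union_le _ _).trans ?_)
    simp
  · -- the inequality from flatness
    have h1 := Groth.Agent.Flat2F.FlatIndep.le_trdeg_of_flat (A := A) (B := B) s.card hsd.le
    rw [← hTe] at h1
    exact_mod_cast h1

end Groth.Agent.S1403
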