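import Groth.Statements.S1404
import Groth.Agent.Flat2F.LocalParams
import Groth.Agent.Flat2F.GoingDownAux
-- import your own Groth.Agent.* helpers here

set_option autoImplicit false
universe u
open FlatMor

namespace Groth.Agent.S1404

/-- Stacks Tag 053S: let A → B be an injective local homomorphism of local domains with B essentially of finite type over A, and g an element of the maximal ideal of B lying in no minimal prime over m_A B. Assume dim(B / m_A B) + trdeg_{κ(A)} κ(B) = trdeg_A B (with all three finite). Then A → B/gB is injective. -/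
theorem result {A B : Type u} [CommRing A] [CommRing B] [IsDomain A] [IsDomain B] [IsLocalRing A] [IsLocalRing B]
    [Algebra A B] [IsLocalHom (algebraMap A B)] [FaithfulSMul A B] [Algebra.EssFiniteType A B]
    (g : B) (hg : g ∈ IsLocalRing.maximalIdeal B)
    (hmin : ∀ q ∈ (Ideal.map (algebraMap A B) (IsLocalRing.maximalIdeal A)).minimalPrimes, g ∉ q)
    (d e : ℕ) (hd : ringKrullDim (B ⧸ Ideal.map (algebraMap A B) (IsLocalRing.maximalIdeal A)) = d)
    (he : Algebra.trdeg (IsLocalRing.ResidueField A) (IsLocalRing.ResidueField B) = e) (hsum : Algebra.trdeg A B = (d + e : ℕ)) :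
    Function.Injective (algebraMap A (B ⧸ Ideal.span {g})) := by
  have hloc : (IsLocalRing.maximalIdeal A).map (algebraMap A B) ≤ IsLocalRing.maximalIdeal B := by
    rw [Ideal.map_le_iff_le_comap]
    intro x hx
    rw [Ideal.mem_comap, IsLocalRing.mem_maximalIdeal, mem_nonunits_iff]
    intro hu
    exact (IsLocalRing.mem_maximalIdeal _).mp hx (isUnit_of_map_unit (algebraMap A B) x hu)
  let I := (IsLocalRing.maximalIdeal A).map (algebraMap A B)
  let J := I ⊔ Ideal.span {g}
  have hJm : J ≤ IsLocalRing.maximalIdeal B :=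
    sup_le hloc ((Ideal.span_singleton_le_iff_mem _).mpr hg)
  have hnoeth : IsNoetherianRing (B ⧸ J) :=
    Groth.Agent.Flat2F.LocalParams.isNoetherianRing_quotient (A := A) (B := B) J le_sup_left
  obtain ⟨s, hsm, hsd, hs⟩ := Groth.Agent.Flat2F.LocalParams.exists_params J hJm
  obtain ⟨T, hTe, hT⟩ := Groth.Agent.Flat2F.LocalParams.exists_trans (A := A) (B := B)
  have hgJ : g ∈ J := Ideal.mem_sup_right (Ideal.mem_span_singleton_self g)
  have hcard : s.card + 1 ≤ d :=
    Groth.Agent.Flat2F.LocalParams.add_one_le_of_notMem_minimalPrimes I J le_sup_left g hgJ hmin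
      _ _ hsd.le hd.le
  have hTcard : T.card = e := by
    rw [he] at hTe
    exact_mod_cast hTe
  -- the subring `A₁`
  let A₁ := Algebra.adjoin A ((s : Set B) ∪ T)
  have hA : ∀ a, algebraMap A B a ∈ Set.range (algebraMap A₁ B) := fun a =>
    ⟨algebraMap A A₁ a, rfl⟩
  have hsT : (s : Set B) ∪ T ⊆ Set.range (algebraMap A₁ B) := fun x hx =>
    ⟨⟨x, Algebra.subset_adjoin hx⟩, rfl⟩
  have hess : Algebra.EssFiniteType A₁ B := Algebra.EssFiniteType.of_comp A A₁ B
  -- Zariski's main theorem applies to every `D` containing `A₁` and `g`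
  have hzmt : ∀ (D : Type u) [CommRing D] [Algebra D B],
      Set.range (algebraMap A₁ B) ⊆ Set.range (algebraMap D B) → g ∈ Set.range (algebraMap D B) →
      (∀ x ∈ IsLocalRing.maximalIdeal B, ∃ n : ℕ,
        x ^ n ∈ ((IsLocalRing.maximalIdeal B).under D).map (algebraMap D B)) ∧
      (∀ x : IsLocalRing.ResidueField B, ∃ p : Polynomial D,
        p.map ((IsLocalRing.residue B).comp (algebraMap D B)) ≠ 0 ∧
        p.eval₂ ((IsLocalRing.residue B).comp (algebraMap D B)) x = 0) := by
    intro D _ _ hD hgD
    have hAD : Set.range (algebraMap A B) ⊆ Set.range (algebraMap D B) := by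
      rintro _ ⟨a, rfl⟩
      exact hD (hA a)
    constructor
    · refine Groth.Agent.Flat2F.LocalParams.exists_pow_mem (A := A) (insert g (s : Set B)) hAD ?_ ?_ ?_
      · rw [Set.insert_subset_iff]
        exact ⟨hgD, (Set.subset_union_left.trans hsT).trans hD⟩
      · rw [Set.insert_subset_iff]
        exact ⟨hg, hsm⟩
      · intro x hx
        obtain ⟨k, hk⟩ := hs x hx
        refine ⟨k, ?_⟩
        rw [Set.insert_eq, Ideal.span_union, ← sup_assoc]
        exact hk
    · exact Groth.Agent.Flat2F.LocalParams.exists_polynomial (A := A) (T : Set B) hAD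
        ((Set.subset_union_right.trans hsT).trans hD) hT
  -- `g` is transcendental over `A₁`
  have hgt : Transcendental A₁ g := by
    intro halg
    let D := Algebra.adjoin A₁ {g}
    have hessD : Algebra.EssFiniteType D B := Algebra.EssFiniteType.of_comp A₁ D B
    obtain ⟨h1, h2⟩ := hzmt D (by
      rintro _ ⟨a, rfl⟩
      exact ⟨algebraMap A₁ D a, rfl⟩) ⟨⟨g, Algebra.subset_adjoin rfl⟩, rfl⟩
    have h3 : Algebra.IsAlgebraic D B := Groth.Agent.Flat2F.LocalZMT.isAlgebraic_of_zmt h1 h2
    have h4 : Algebra.IsAlgebraic A₁ D := by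
      rw [← Subalgebra.isAlgebraic_iff]
      exact Algebra.isAlgebraic_adjoin_singleton_iff.mpr halg
    have h5 : Algebra.IsAlgebraic A₁ B := Algebra.IsAlgebraic.trans A₁ D B
    have h6 := Algebra.IsAlgebraic.trdeg_le_cardinalMk A ((s : Set B) ∪ T)
    have h7 := h6.trans (Cardinal.mk_union_le _ _)
    rw [hsum] at h7
    have h8 : ((d + e : ℕ) : Cardinal.{u}) ≤ ((s.card + T.card : ℕ) : Cardinal.{u}) := by
      refine h7.trans ?_
      simp
    have h9 : d + e ≤ s.card + T.card := by exact_mod_cast h8
    omega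
  -- the main argument
  let _ : Algebra (Polynomial A₁) B := (Polynomial.aeval (R := A₁) g).toRingHom.toAlgebra
  have htower : IsScalarTower A₁ (Polynomial A₁) B := IsScalarTower.of_algebraMap_eq (fun r =>
    ((Polynomial.aeval g).commutes r).symm)
  have hfaith : FaithfulSMul (Polynomial A₁) B := by
    rw [faithfulSMul_iff_algebraMap_injective]
    exact transcendental_iff_injective.mp hgt
  have hX : algebraMap (Polynomial A₁) B Polynomial.X = g := Polynomial.aeval_X g
  have hessX : Algebra.EssFiniteType (Polynomial A₁) B :=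
    Algebra.EssFiniteType.of_comp A₁ (Polynomial A₁) B
  obtain ⟨h1, h2⟩ := hzmt (Polynomial A₁) (by
    rintro _ ⟨a, rfl⟩
    exact ⟨Polynomial.C a, ((Polynomial.aeval g).commutes a)⟩) ⟨Polynomial.X, hX⟩
  rw [injective_iff_map_eq_zero]
  intro a ha
  have hdvd : g ∣ algebraMap A B a := by
    rw [← Ideal.mem_span_singleton]
    exact Ideal.Quotient.eq_zero_iff_mem.mp ha
  have h3 := Groth.Agent.Flat2F.GoingDownAux.eq_zero_of_dvd A₁ B (by rwa [hX])
    (Groth.Agent.Flat2F.LocalZMT.zmt_local h1 h2) (algebraMap A A₁ a) (by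
      rw [hX, ← Polynomial.algebraMap_eq, ← IsScalarTower.algebraMap_apply]
      exact hdvd)
  exact FaithfulSMul.algebraMap_injective A B (by
    rw [map_zero]
    exact congrArg Subtype.val h3)

end Groth.Agent.S1404
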