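import Groth.Statements.S1406
-- import your own Groth.Agent.* helpers here
import Groth.Agent.Flat2F.LocNoeth

set_option autoImplicit false
universe u
open FlatMor

namespace Groth.Agent.S1406

open AlgebraicGeometry CategoryTheory Limits in
/-- Stacks Tag 0392, locality on the source: let a : X' → X be flat, locally of finite presentation and surjective. Then all fibres of f : X → Y are locally Noetherian if and only if all fibres of a ≫ f are. -/
theorem result {X X' Y : Scheme.{u}} (f : X ⟶ Y) (a : X' ⟶ X) [Flat a] [LocallyOfFinitePresentation a] [Surjective a] :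
    (∀ y : Y, IsLocallyNoetherian (f.fiber y)) ↔ ∀ y : Y, IsLocallyNoetherian ((a ≫ f).fiber y) := by
  have e : ∀ y, pullback a (f.fiberι y) ≅ (a ≫ f).fiber y := fun y =>
    pullbackRightPullbackFstIso f (Y.fromSpecResidueField y) a
  constructor
  · intro H y
    have := H y
    have h1 : IsLocallyNoetherian (pullback a (f.fiberι y)) :=
      LocallyOfFiniteType.isLocallyNoetherian (pullback.snd a (f.fiberι y))
    exact isLocallyNoetherian_of_isOpenImmersion (e y).inv
  · intro H y
    have := H y
    have h1 : IsLocallyNoetherian (pullback a (f.fiberι y)) :=
      isLocallyNoetherian_of_isOpenImmersion (e y).hom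
    exact Flat2F.LocNoeth.isLocallyNoetherian_of_flat_surjective_universallyOpen (pullback.snd a (f.fiberι y))

end Groth.Agent.S1406
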