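import Groth.Statements.S1409
-- import your own Groth.Agent.* helpers here
import Mathlib.RingTheory.Flat.EquationalCriterion
import Mathlib.RingTheory.Ideal.GoingDown
import Mathlib.RingTheory.Flat.FaithfullyFlat.Algebra

set_option autoImplicit false
universe u
open FlatMor

namespace Groth.Agent.S1409

section aux

variable {ι : Type u} [Preorder ι] [IsDirected ι (· ≤ ·)] [Nonempty ι] (G : ι → Type u) [∀ i, CommRing (G i)]
    (f : ∀ i j, i ≤ j → G i →+* G j)

/-- finitely many elements of a directed colimit come from one stage above `i`. -/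
lemma exists_common (i : ι) {l : ℕ} (x : Fin l → Ring.DirectLimit G fun i j h => ⇑(f i j h)) :
    ∃ (j : ι) (_ : i ≤ j) (z : Fin l → G j), ∀ k, Ring.DirectLimit.of G (fun i j h => ⇑(f i j h)) j (z k) = x k := by
  classical
  choose j z hz using fun k => Ring.DirectLimit.exists_of (x k)
  obtain ⟨m, hm⟩ := (insert i (Finset.univ.image j)).exists_le
  refine ⟨m, hm i (Finset.mem_insert_self _ _), fun k => f (j k) m (hm _ (Finset.mem_insert_of_mem
    (Finset.mem_image_of_mem _ (Finset.mem_univ k)))) (z k), fun k => ?_⟩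
  rw [← hz k]
  exact Ring.DirectLimit.of_f (f := fun i j h => ⇑(f i j h)) _ _

variable [DirectedSystem G fun i j h => f i j h]

lemma flat_of (hf : ∀ i j (h : i ≤ j), letI := (f i j h).toAlgebra
      Module.FaithfullyFlat (G i) (G j)) (i : ι) :
    letI := (Ring.DirectLimit.of G (fun i j h => ⇑(f i j h)) i).toAlgebra
    Module.Flat (G i) (Ring.DirectLimit G fun i j h => ⇑(f i j h)) := by
  let := (Ring.DirectLimit.of G (fun i j h => ⇑(f i j h)) i).toAlgebra
  refine Module.Flat.of_forall_isTrivialRelation ?_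
  intro l a x h
  obtain ⟨j, hij, z, hz⟩ := exists_common G f i x
  have h1 : Ring.DirectLimit.of G (fun i j h => ⇑(f i j h)) j (∑ k, f i j hij (a k) * z k) = 0 := by
    rw [map_sum, ← h]
    refine Finset.sum_congr rfl fun k _ => ?_
    rw [map_mul, hz, Algebra.smul_def]
    congr 1
    exact Ring.DirectLimit.of_f (f := fun i j h => ⇑(f i j h)) _ _
  obtain ⟨m, hjm, hm⟩ := Ring.DirectLimit.of.zero_exact h1
  have him := hij.trans hjm
  let := (f i m him).toAlgebra
  have : Module.FaithfullyFlat (G i) (G m) := hf i m him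
  have h2 : ∑ k, a k • f j m hjm (z k) = 0 := by
    rw [← hm, map_sum]
    refine Finset.sum_congr rfl fun k _ => ?_
    rw [map_mul, Algebra.smul_def]
    congr 1
    exact (DirectedSystem.map_map' (f := fun i j h => (f i j h)) hij hjm _).symm
  obtain ⟨n, b, y, hy, hb⟩ := Module.Flat.isTrivialRelation_of_sum_smul_eq_zero h2
  refine ⟨n, b, fun k => Ring.DirectLimit.of G (fun i j h => ⇑(f i j h)) m (y k), fun k => ?_, hb⟩
  have h3 : x k = Ring.DirectLimit.of G (fun i j h => ⇑(f i j h)) m (f j m hjm (z k)) := by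
    rw [← hz k]
    exact (Ring.DirectLimit.of_f (f := fun i j h => ⇑(f i j h)) _ _).symm
  have hyk : f j m hjm (z k) = ∑ j, b k j • y j := hy k
  rw [h3, hyk, map_sum]
  refine Finset.sum_congr rfl fun k' _ => ?_
  rw [Algebra.smul_def, Algebra.smul_def, map_mul]
  congr 1
  exact (Ring.DirectLimit.of_f (f := fun i j h => ⇑(f i j h)) _ _)

lemma faithfullyFlat_of (hf : ∀ i j (h : i ≤ j), letI := (f i j h).toAlgebra
      Module.FaithfullyFlat (G i) (G j)) (i : ι) :
    letI := (Ring.DirectLimit.of G (fun i j h => ⇑(f i j h)) i).toAlgebra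
    Module.FaithfullyFlat (G i) (Ring.DirectLimit G fun i j h => ⇑(f i j h)) := by
  let := (Ring.DirectLimit.of G (fun i j h => ⇑(f i j h)) i).toAlgebra
  rw [Module.FaithfullyFlat.iff_flat_and_ideal_smul_eq_top]
  refine ⟨flat_of G f hf i, fun I hI => ?_⟩
  have key : ∀ x ∈ I.map (Ring.DirectLimit.of G (fun i j h => ⇑(f i j h)) i),
      ∃ (j : ι) (hij : i ≤ j) (z : G j), z ∈ I.map (f i j hij) ∧ Ring.DirectLimit.of G (fun i j h => ⇑(f i j h)) j z = x := by
    intro x hx
    refine Submodule.span_induction ?_ ?_ ?_ ?_ hx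
    · rintro _ ⟨y, hy, rfl⟩
      refine ⟨i, le_rfl, f i i le_rfl y, Ideal.mem_map_of_mem _ hy, ?_⟩
      exact Ring.DirectLimit.of_f (f := fun i j h => ⇑(f i j h)) _ _
    · exact ⟨i, le_rfl, 0, Submodule.zero_mem _, map_zero _⟩
    · rintro x y _ _ ⟨j, hij, z, hz, rfl⟩ ⟨j', hij', z', hz', rfl⟩
      obtain ⟨m, hm, hm'⟩ := exists_ge_ge j j'
      refine ⟨m, hij.trans hm, f j m hm z + f j' m hm' z', Submodule.add_mem _ ?_ ?_, ?_⟩
      · have := Ideal.mem_map_of_mem (f j m hm) hz
        rwa [Ideal.map_map, show (f j m hm).comp (f i j hij) = f i m (hij.trans hm) from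
          RingHom.ext fun a => DirectedSystem.map_map' (f := fun i j h => (f i j h)) hij hm a] at this
      · have := Ideal.mem_map_of_mem (f j' m hm') hz'
        rwa [Ideal.map_map, show (f j' m hm').comp (f i j' hij') = f i m (hij'.trans hm') from
          RingHom.ext fun a => DirectedSystem.map_map' (f := fun i j h => (f i j h)) hij' hm' a] at this
      · rw [map_add]
        congr 1
        · exact Ring.DirectLimit.of_f (f := fun i j h => ⇑(f i j h)) _ _
        · exact Ring.DirectLimit.of_f (f := fun i j h => ⇑(f i j h)) _ _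
    · rintro a x _ ⟨j, hij, z, hz, rfl⟩
      obtain ⟨j', b, rfl⟩ := Ring.DirectLimit.exists_of a
      obtain ⟨m, hm, hm'⟩ := exists_ge_ge j j'
      refine ⟨m, hij.trans hm, f j' m hm' b * f j m hm z, Ideal.mul_mem_left _ _ ?_, ?_⟩
      · have := Ideal.mem_map_of_mem (f j m hm) hz
        rwa [Ideal.map_map, show (f j m hm).comp (f i j hij) = f i m (hij.trans hm) from
          RingHom.ext fun a => DirectedSystem.map_map' (f := fun i j h => (f i j h)) hij hm a] at this
      · rw [map_mul]
        congr 1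
        · exact Ring.DirectLimit.of_f (f := fun i j h => ⇑(f i j h)) _ _
        · exact Ring.DirectLimit.of_f (f := fun i j h => ⇑(f i j h)) _ _
  have h1 : (1 : Ring.DirectLimit G fun i j h => ⇑(f i j h)) ∈ I.map (Ring.DirectLimit.of G (fun i j h => ⇑(f i j h)) i) := by
    have : (1 : Ring.DirectLimit G fun i j h => ⇑(f i j h)) ∈ I • (⊤ : Submodule (G i) (Ring.DirectLimit G fun i j h => ⇑(f i j h))) := by
      rw [hI]; trivial
    rw [Ideal.smul_top_eq_map] at this
    exact this
  obtain ⟨j, hij, z, hz, hz1⟩ := key _ h1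
  have h2 : Ring.DirectLimit.of G (fun i j h => ⇑(f i j h)) j (z - 1) = 0 := by
    rw [map_sub, hz1, map_one, sub_self]
  obtain ⟨m, hjm, hm⟩ := Ring.DirectLimit.of.zero_exact h2
  rw [map_sub, map_one, sub_eq_zero] at hm
  have h3 : (1 : G m) ∈ I.map (f i m (hij.trans hjm)) := by
    rw [← hm]
    have := Ideal.mem_map_of_mem (f j m hjm) hz
    rwa [Ideal.map_map, show (f j m hjm).comp (f i j hij) = f i m (hij.trans hjm) from
      RingHom.ext fun a => DirectedSystem.map_map' (f := fun i j h => (f i j h)) hij hjm a] at this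
  let := (f i m (hij.trans hjm)).toAlgebra
  have h4 : Module.FaithfullyFlat (G i) (G m) := hf i m _
  rw [Module.FaithfullyFlat.iff_flat_and_ideal_smul_eq_top] at h4
  refine h4.2 I ?_
  rw [Ideal.smul_top_eq_map]
  have h5 : I.map (algebraMap (G i) (G m)) = ⊤ := (Ideal.eq_top_iff_one _).mpr h3
  rw [h5]
  rfl

end aux

/-- Minimal primes map to minimal primes under a flat ring map. -/
lemma minimalPrimes_map {A B : Type u} [CommRing A] [CommRing B] [Algebra A B] [Module.Flat A B] :
    Set.MapsTo (Ideal.comap (algebraMap A B)) (minimalPrimes B) (minimalPrimes A) := by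
  intro P hP
  have hPp : P.IsPrime := Ideal.minimalPrimes_isPrime hP
  rw [minimalPrimes_eq_minimals] at hP ⊢
  refine ⟨Ideal.IsPrime.comap _, fun q hq hle => ?_⟩
  have hq' : q.IsPrime := hq
  have : P.LiesOver (Ideal.comap (algebraMap A B) P) := ⟨rfl⟩
  obtain ⟨Q, hQP, hQ, hQq⟩ := Ideal.exists_ideal_le_liesOver_of_le (p := q) (q := Ideal.comap (algebraMap A B) P) P hle
  have h1 : P ≤ Q := hP.2 hQ hQP
  rw [hQq.over]
  exact Ideal.comap_mono h1

/-- Minimal primes surject under a faithfully flat ring map. -/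
lemma minimalPrimes_surj {A B : Type u} [CommRing A] [CommRing B] [Algebra A B] [Module.FaithfullyFlat A B] :
    minimalPrimes A ⊆ (Ideal.comap (algebraMap A B)) '' minimalPrimes B := by
  intro q hq
  have hqp : q.IsPrime := Ideal.minimalPrimes_isPrime hq
  obtain ⟨P, hP⟩ := PrimeSpectrum.comap_surjective_of_faithfullyFlat (A := A) (B := B) ⟨q, hqp⟩
  obtain ⟨Q, hQ, hQP⟩ := Ideal.exists_minimalPrimes_le (I := ⊥) (J := P.asIdeal) bot_le
  refine ⟨Q, hQ, ?_⟩
  have h1 := minimalPrimes_map (A := A) (B := B) hQ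
  rw [minimalPrimes_eq_minimals] at hq
  have h2 : Ideal.comap (algebraMap A B) Q ≤ q := by
    have : q = Ideal.comap (algebraMap A B) P.asIdeal := by
      have := congrArg PrimeSpectrum.asIdeal hP
      exact this.symm
    rw [this]
    exact Ideal.comap_mono hQP
  exact le_antisymm h2 (hq.2 (Ideal.minimalPrimes_isPrime h1) h2)

/-- Stacks Tag 0CB3: let (R_i) be a directed system of commutative rings whose transition maps are faithfully flat, with colimit R. Then, counting in the extended natural numbers, the minimal primes of R are exactly as numerous as the supremum over i of the count of minimal primes of R_i. -/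
theorem result {ι : Type u} [Preorder ι] [IsDirected ι (· ≤ ·)] [Nonempty ι] (G : ι → Type u) [∀ i, CommRing (G i)]
    (f : ∀ i j, i ≤ j → G i →+* G j) [DirectedSystem G fun i j h => f i j h]
    (hf : ∀ i j (h : i ≤ j), letI := (f i j h).toAlgebra
      Module.FaithfullyFlat (G i) (G j)) :
    (minimalPrimes (Ring.DirectLimit G fun i j h => ⇑(f i j h))).encard = ⨆ i, (minimalPrimes (G i)).encard := by
  classical
  apply le_antisymm
  · rw [← not_lt]
    intro hlt
    -- the supremum is finite
    obtain ⟨N, hN⟩ : ∃ N : ℕ, ((⨆ i, (minimalPrimes (G i)).encard : ℕ∞)) = N := by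
      obtain ⟨N, hN⟩ := ENat.ne_top_iff_exists.mp (ne_top_of_lt hlt)
      exact ⟨N, hN.symm⟩
    rw [hN] at hlt
    obtain ⟨t, ht, htc⟩ := Set.exists_subset_encard_eq (Order.add_one_le_of_lt hlt)
    have htf : t.Finite := by
      apply Set.finite_of_encard_le_coe (k := N + 1)
      rw [htc]; rfl
    -- separate the elements of t
    have hsep : ∀ P ∈ t, ∀ Q ∈ t, P ≠ Q → ∃ i : ι, ∀ j, i ≤ j →
        Ideal.comap (Ring.DirectLimit.of G (fun i j h => ⇑(f i j h)) j) P ≠
        Ideal.comap (Ring.DirectLimit.of G (fun i j h => ⇑(f i j h)) j) Q := by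
      intro P _ Q _ hPQ
      by_contra! hcon
      apply hPQ
      ext x
      obtain ⟨i, y, rfl⟩ := Ring.DirectLimit.exists_of x
      obtain ⟨j, hij, hj⟩ := hcon i
      have := congrArg (fun I => f i j hij y ∈ I) hj
      simp only [Ideal.mem_comap, eq_iff_iff] at this
      have h1 := Ring.DirectLimit.of_f (f := fun i j h => ⇑(f i j h)) hij y
      rw [← h1]
      exact this
    obtain ⟨m, hm⟩ : ∃ m : ι, ∀ P ∈ t, ∀ Q ∈ t, P ≠ Q →
        Ideal.comap (Ring.DirectLimit.of G (fun i j h => ⇑(f i j h)) m) P ≠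
        Ideal.comap (Ring.DirectLimit.of G (fun i j h => ⇑(f i j h)) m) Q := by
      choose! k hk using hsep
      let T := htf.toFinset
      obtain ⟨m, hm⟩ := ((T ×ˢ T).image (fun PQ => k PQ.1 PQ.2)).exists_le
      refine ⟨m, fun P hP Q hQ hPQ => hk P hP Q hQ hPQ m (hm _ ?_)⟩
      rw [Finset.mem_image]
      exact ⟨(P, Q), by simp [T, hP, hQ], rfl⟩
    let := (Ring.DirectLimit.of G (fun i j h => ⇑(f i j h)) m).toAlgebra
    have : Module.Flat (G m) (Ring.DirectLimit G fun i j h => ⇑(f i j h)) := flat_of G f hf m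
    have h1 : t.encard ≤ (minimalPrimes (G m)).encard := by
      refine Set.encard_le_encard_of_injOn (f := Ideal.comap (Ring.DirectLimit.of G (fun i j h => ⇑(f i j h)) m)) ?_ ?_
      · intro P hP
        exact minimalPrimes_map (A := G m) (B := Ring.DirectLimit G fun i j h => ⇑(f i j h)) (ht hP)
      · intro P hP Q hQ h
        by_contra hne
        exact hm P hP Q hQ hne h
    have h2 : (minimalPrimes (G m)).encard ≤ N := by
      rw [← hN]
      exact le_iSup (fun i => (minimalPrimes (G i)).encard) m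
    rw [htc] at h1
    have h3 := h1.trans h2
    exact absurd h3 (by
      rw [not_le]
      exact_mod_cast Nat.lt_succ_self N)
  · refine iSup_le fun i => ?_
    let := (Ring.DirectLimit.of G (fun i j h => ⇑(f i j h)) i).toAlgebra
    have : Module.FaithfullyFlat (G i) (Ring.DirectLimit G fun i j h => ⇑(f i j h)) := faithfullyFlat_of G f hf i
    have h1 := minimalPrimes_surj (A := G i) (B := Ring.DirectLimit G fun i j h => ⇑(f i j h))
    exact (Set.encard_le_encard h1).trans (Set.encard_image_le _ _)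

end Groth.Agent.S1409
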