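import Groth.Statements.S1411
-- import your own Groth.Agent.* helpers here
import Groth.Agent.Flat2F.AvoidElement
import Mathlib.Topology.NoetherianSpace

set_option autoImplicit false
universe u
open FlatMor

namespace Groth.Agent.S1411

open TopologicalSpace in
theorem isOpen_singleton_of_noetherianSpace {α : Type*} [TopologicalSpace α] [NoetherianSpace α]
    [QuasiSober α] (t : α) (hcl : IsClosed ({t} : Set α)) (hgen : ∀ y : α, y ⤳ t → y = t) :
    IsOpen ({t} : Set α) := by
  have hirr : irreducibleComponent t = {t} := by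
    have h1 : IsIrreducible (irreducibleComponent t) := isIrreducible_irreducibleComponent
    have h2 : IsClosed (irreducibleComponent t) := isClosed_irreducibleComponent
    obtain ⟨η, hη⟩ := QuasiSober.sober h1 h2
    have h3 : η ⤳ t := hη.specializes mem_irreducibleComponent
    have h4 : η = t := hgen η h3
    subst h4
    rw [← hη.def, hcl.closure_eq]
  obtain ⟨o, ho, hne, hle⟩ := NoetherianSpace.exists_isOpen_nonempty_subset_irreducibleComponent
    (irreducibleComponent t) (irreducibleComponent_mem_irreducibleComponents t)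
  rw [hirr] at hle
  have : o = {t} := by
    apply Set.Subset.antisymm hle
    obtain ⟨y, hy⟩ := hne
    have := hle hy
    rw [Set.mem_singleton_iff] at this
    subst this
    exact Set.singleton_subset_iff.mpr hy
  rwa [this] at ho

open AlgebraicGeometry CategoryTheory Limits in
theorem isOpen_singleton_of_isLocallyNoetherian (T : Scheme.{u}) [IsLocallyNoetherian T] (t : T)
    (hcl : IsClosed ({t} : Set T)) (hgen : ∀ y : T, y ⤳ t → y = t) :
    IsOpen ({t} : Set T) := by
  obtain ⟨_, ⟨W : T.Opens, hW, rfl⟩, htW, -⟩ := T.isBasis_affineOpens.exists_subset_of_mem_open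
      (Set.mem_univ t) isOpen_univ
  have : IsAffine W := hW
  have : IsNoetherian (W : Scheme.{u}) := { }
  have : TopologicalSpace.NoetherianSpace (W : Scheme.{u}) := inferInstance
  have key := isOpen_singleton_of_noetherianSpace (α := (W : Scheme.{u})) (⟨t, htW⟩ : W)
    (by
      have := hcl.preimage W.ι.continuous
      convert this using 1
      ext y
      simp only [Set.mem_singleton_iff, Set.mem_preimage]
      constructor
      · rintro rfl; rfl
      · intro h; exact Subtype.ext h)
    (by
      intro y hy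
      have := hy.map W.ι.continuous
      exact Subtype.ext (hgen _ this))
  have := W.ι.isOpenEmbedding.isOpenMap _ key
  rw [Set.image_singleton] at this
  exact this

open AlgebraicGeometry CategoryTheory Limits in
/-- Stacks Tag 05GU: let f : X → S be locally of finite type with S locally Noetherian, x a point closed in its fibre, and U an open of X containing a point x' specializing to x with f x' ≠ f x. Then there is a closed subscheme Z of X passing through x such that Z → S is quasi-finite at x and Z contains a point z ∈ U with z ⤳ x and f z ≠ f x. -/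
theorem result {X S : Scheme.{u}} (f : X ⟶ S) [LocallyOfFiniteType f] [IsLocallyNoetherian S] (x : X)
    (hcl : IsClosed (Subtype.val ⁻¹' {x} : Set ↑(f ⁻¹' {f x}))) (U : X.Opens) (hx' : ∃ x' : X, x' ∈ U ∧ x' ⤳ x ∧ f x' ≠ f x) :
    ∃ (I : X.IdealSheafData) (z₀ x₀ : ↑I.subscheme), I.subschemeι x₀ = x ∧ (I.subschemeι ≫ f).QuasiFiniteAt x₀ ∧
      I.subschemeι z₀ ∈ U ∧ I.subschemeι z₀ ⤳ x ∧ f (I.subschemeι z₀) ≠ f x := by
  have : IsLocallyNoetherian X := LocallyOfFiniteType.isLocallyNoetherian f
  obtain ⟨x', hx'U, hx'x, hfx'⟩ := hx'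
  let ψ := X.fromSpecStalk x
  -- fibre over `f x` in terms of primes
  have hfib : ∀ P : Spec (X.presheaf.stalk x), f (ψ P) = f x ↔
      (IsLocalRing.maximalIdeal (S.presheaf.stalk (f x))).map (f.stalkMap x).hom ≤ P.asIdeal := by
    intro P
    have h1 : f (ψ P) = S.fromSpecStalk (f x) (Spec.map (f.stalkMap x) P) := by
      rw [← Scheme.Hom.comp_apply, ← Scheme.Hom.comp_apply, Scheme.SpecMap_stalkMap_fromSpecStalk]
    have h2 : f x = S.fromSpecStalk (f x) (IsLocalRing.closedPoint _) :=
      Scheme.fromSpecStalk_closedPoint.symm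
    rw [h1]
    conv_lhs => rhs; rw [h2]
    rw [(S.fromSpecStalk (f x)).isEmbedding.injective.eq_iff]
    rw [Ideal.map_le_iff_le_comap]
    constructor
    · intro h
      have := congrArg PrimeSpectrum.asIdeal h
      exact this.ge
    · intro h
      apply PrimeSpectrum.ext
      exact ((IsLocalRing.maximalIdeal.isMaximal _).eq_of_le
        (Ideal.IsPrime.ne_top (Ideal.comap_isPrime _ _)) h).symm
  obtain ⟨P₀, rfl⟩ : x' ∈ Set.range ψ := by
    rw [Scheme.range_fromSpecStalk]; exact hx'x
  -- h₁
  obtain ⟨_, ⟨h₁, rfl⟩, hP₀h₁, hh₁U⟩ :=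
    (PrimeSpectrum.isTopologicalBasis_basic_opens (R := X.presheaf.stalk x)).exists_subset_of_mem_open
      (show P₀ ∈ (ψ ⁻¹' (U : Set X)) from hx'U) (U.2.preimage ψ.continuous)
  -- h₂
  have hnle : ¬ (IsLocalRing.maximalIdeal (S.presheaf.stalk (f x))).map (f.stalkMap x).hom ≤ P₀.asIdeal :=
    fun h => hfx' ((hfib P₀).mpr h)
  obtain ⟨h₂, hh₂, hh₂P⟩ := Set.not_subset.mp hnle
  have hh : h₁ * h₂ ∉ P₀.asIdeal := fun hmem =>
    (P₀.isPrime.mem_or_mem hmem).elim (fun h => hP₀h₁ h) (fun h => hh₂P h)
  obtain ⟨Q, hQ, -, hhQ, hQmax⟩ :=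
    Groth.Agent.Flat2F.AvoidElement.exists_prime_avoiding (h₁ * h₂) P₀.asIdeal hh
  let q : Spec (X.presheaf.stalk x) := ⟨Q, hQ⟩
  let z : X := ψ q
  have hzU : z ∈ U := by
    apply hh₁U
    show h₁ ∉ Q
    exact fun h => hhQ (Ideal.mul_mem_right _ _ h)
  have hfz : f z ≠ f x := by
    intro h
    exact hhQ (Ideal.mul_mem_left _ _ ((hfib q).mp h hh₂))
  have hzx : z ⤳ x := by
    have : z ∈ Set.range ψ := ⟨q, rfl⟩
    rw [Scheme.range_fromSpecStalk] at this
    exact this
  let C : TopologicalSpace.Closeds X := ⟨closure {z}, isClosed_closure⟩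
  let I : X.IdealSheafData := Scheme.IdealSheafData.vanishingIdeal C
  have hrange : Set.range I.subschemeι = closure {z} := by
    rw [Scheme.IdealSheafData.range_subschemeι]
    exact Scheme.IdealSheafData.coe_support_vanishingIdeal C
  obtain ⟨z₀, hz₀⟩ : z ∈ Set.range I.subschemeι := by
    rw [hrange]; exact subset_closure rfl
  obtain ⟨x₀, hx₀⟩ : x ∈ Set.range I.subschemeι := by
    rw [hrange]; exact hzx.mem_closure
  refine ⟨I, z₀, x₀, hx₀, ?_, by rwa [hz₀], by rwa [hz₀], by rwa [hz₀]⟩
  rw [Scheme.Hom.quasiFiniteAt_iff_isOpen_singleton_asFiber]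
  set g := I.subschemeι ≫ f with hg
  have : LocallyOfFiniteType g := by rw [hg]; infer_instance
  have hgx₀ : g x₀ = f x := by rw [hg, Scheme.Hom.comp_apply, hx₀]
  have : LocallyOfFiniteType (g.fiberToSpecResidueField (g x₀)) :=
    MorphismProperty.pullback_snd _ _ inferInstance
  have : IsLocallyNoetherian (g.fiber (g x₀)) :=
    LocallyOfFiniteType.isLocallyNoetherian (g.fiberToSpecResidueField (g x₀))
  have hinj : Function.Injective (fun y => I.subschemeι (g.fiberι (g x₀) y)) :=
    I.subschemeι.isEmbedding.injective.comp (g.fiberι (g x₀)).isEmbedding.injective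
  have hcont : Continuous (fun y => I.subschemeι (g.fiberι (g x₀) y)) :=
    I.subschemeι.continuous.comp (g.fiberι (g x₀)).continuous
  have ht : I.subschemeι (g.fiberι (g x₀) (g.asFiber x₀)) = x := by
    rw [Scheme.Hom.fiberι_asFiber, hx₀]
  have hfy : ∀ y : g.fiber (g x₀), f (I.subschemeι (g.fiberι (g x₀) y)) = f x := by
    intro y
    have : g.fiberι (g x₀) y ∈ Set.range (g.fiberι (g x₀)) := ⟨y, rfl⟩
    rw [Scheme.Hom.range_fiberι] at this
    rw [← hgx₀]
    rw [← Scheme.Hom.comp_apply]
    exact this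
  apply isOpen_singleton_of_isLocallyNoetherian
  · let φ : g.fiber (g x₀) → ↑(f ⁻¹' {f x}) := fun y => ⟨I.subschemeι (g.fiberι (g x₀) y), hfy y⟩
    have hφ : Continuous φ := hcont.subtype_mk _
    have := hcl.preimage hφ
    convert this using 1
    ext y
    simp only [Set.mem_singleton_iff, Set.mem_preimage, φ]
    constructor
    · rintro rfl; exact ht
    · intro h; exact hinj (h.trans ht.symm)
  · intro y hy
    apply hinj
    have h1 : I.subschemeι (g.fiberι (g x₀) y) ⤳ x := by
      have := hy.map hcont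
      simp only at this
      rwa [ht] at this
    have h2 : z ⤳ I.subschemeι (g.fiberι (g x₀) y) := by
      rw [specializes_iff_mem_closure, ← hrange]
      exact ⟨_, rfl⟩
    obtain ⟨P, hP⟩ : I.subschemeι (g.fiberι (g x₀) y) ∈ Set.range ψ := by
      rw [Scheme.range_fromSpecStalk]; exact h1
    have h3 : q ⤳ P := by
      rw [← ψ.isEmbedding.isInducing.specializes_iff, hP]
      exact h2
    have h4 : Q ≤ P.asIdeal := (PrimeSpectrum.le_iff_specializes _ _).mpr h3
    have h5 := (hfib P).mp (by rw [hP]; exact hfy y)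
    have h6 := hQmax P.asIdeal P.isPrime h4 (Ideal.mul_mem_left _ _ (h5 hh₂))
    have h7 : P = IsLocalRing.closedPoint _ := PrimeSpectrum.ext h6
    show I.subschemeι (g.fiberι (g x₀) y) = I.subschemeι (g.fiberι (g x₀) (g.asFiber x₀))
    rw [← hP, ht, h7]
    exact Scheme.fromSpecStalk_closedPoint

end Groth.Agent.S1411
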