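import Groth.Statements.S1416
import Groth.Agent.Flat2F.SuppTrdeg
import Groth.Agent.FormalA.Support
import Groth.Agent.Desc.DimMap

set_option autoImplicit false
universe u
open FlatMor

namespace Groth.Agent.S1416

open AlgebraicGeometry CategoryTheory Cardinal

open Groth.Agent.CycB.RelDim in
theorem dim_eq {X S : Scheme.{u}} (f : X ⟶ S) (C : Set X) (s : S) :
    topologicalKrullDim ↑(f ⁻¹' {s} ∩ C) = topologicalKrullDim ↑((f.fiberι s) ⁻¹' C) := by
  have h1 : (f.fiberι s) '' ((f.fiberι s) ⁻¹' C) = f ⁻¹' {s} ∩ C := by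
    rw [Set.image_preimage_eq_inter_range, Scheme.Hom.range_fiberι, Set.inter_comm]
  rw [← h1]
  exact (IsHomeomorph.topologicalKrullDim_eq _
    ((f.fiberι s).isEmbedding.homeomorphImage ((f.fiberι s) ⁻¹' C)).isHomeomorph).symm

attribute [local instance] specializationOrder

open Groth.Agent.CycB.RelDim in
theorem length_le {X S : Scheme.{u}} (f : X ⟶ S) [LocallyOfFiniteType f] (C : Set X) (s : S)
    (n : ℕ) : ∀ (p : @LTSeries ↑((f.fiberι s) ⁻¹' C) (specializationOrder _).toPreorder),
      p.length = n →
      (n : Cardinal.{u}) ≤ rtd f (f.fiberι s (p.last : f.fiber s)) := by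
  induction n with
  | zero => intro p _; simp
  | succ n ih =>
    intro p hp
    have h1 := ih p.eraseLast (by simp [hp])
    have h2 : @LT.lt _ (specializationOrder _).toPreorder.toLT p.eraseLast.last p.last :=
      p.eraseLast_last_rel_last (by omega)
    have h3 : (p.last : f.fiber s) ⤳ (p.eraseLast.last : f.fiber s) :=
      Topology.IsInducing.subtypeVal.specializes_iff.mpr
        (@LT.lt.le _ (specializationOrder _).toPreorder _ _ h2)
    have h4 : (p.last : f.fiber s) ≠ (p.eraseLast.last : f.fiber s) := fun h ↦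
      (@LT.lt.ne _ (specializationOrder _).toPreorder _ _ h2) (Subtype.ext h.symm)
    have hy : ∀ w : f.fiber s, f (f.fiberι s w) = s := by
      intro w
      have : f.fiberι s w ∈ Set.range (f.fiberι s) := ⟨w, rfl⟩
      rw [Scheme.Hom.range_fiberι] at this
      exact this
    have h5 := rtd_lt_of_specializes f (h3.map (f.fiberι s).continuous)
      (fun h ↦ h4 ((f.fiberι s).isEmbedding.injective h)) (by rw [hy, hy])
    have h6 := h1.trans_lt h5
    have h7 := rtd_lt_aleph0 f (f.fiberι s (p.last : f.fiber s))
    obtain ⟨m, hm⟩ := Cardinal.lt_aleph0.mp h7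
    rw [hm] at h6 ⊢
    exact_mod_cast h6

open AlgebraicGeometry CategoryTheory Limits in
/-- Stacks Tag 0H3X: let f : X → S be locally of finite type with S irreducible with generic point η, and F a quasi-coherent O_X-module of finite type which is flat over S. If the support of F in the fibre over η has dimension ≤ r then the support of F in every fibre has dimension ≤ r (supports in fibres taken as subspaces of X: the points of the fibre where the stalk of F is nonzero). -/
theorem result {X S : Scheme.{u}} (f : X ⟶ S) [LocallyOfFiniteType f] [IrreducibleSpace ↑S]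
    (F : X.Modules) (hF : Coh.IsCoh F) (hfl : FlatMod.IsFlatOver f F) (r : WithBot ℕ∞)
    (h : topologicalKrullDim ↑(f ⁻¹' {genericPoint ↑S} ∩ CohB1.support F) ≤ r) (s : S) :
    topologicalKrullDim ↑(f ⁻¹' {s} ∩ CohB1.support F) ≤ r := by
  have hcl : IsClosed (CohB1.support F) := FormalA.Support.isClosed_support F hF.2
  have hclZ : IsClosed ((f.fiberι s) ⁻¹' (CohB1.support F)) :=
    hcl.preimage (f.fiberι s).continuous
  have : QuasiSober ↑((f.fiberι s) ⁻¹' (CohB1.support F)) :=
    hclZ.isClosedEmbedding_subtypeVal.quasiSober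
  rw [dim_eq, Desc.DimMap.topologicalKrullDim_eq]
  refine iSup_le fun p ↦ ?_
  have h1 := length_le f (CohB1.support F) s p.length p rfl
  obtain ⟨ξ, hξ, hξη, hξF, hξn⟩ := Flat2F.SuppTrdeg.exists_generization f F hF _ (hfl _)
    (p.last.2 : f.fiberι s (p.last : f.fiber s) ∈ CohB1.support F) (genericPoint ↑S)
    ((genericPoint_spec ↑S).specializes trivial) p.length h1
  have hmem : ξ ∈ Set.range (f.fiberι (genericPoint ↑S)) := by
    rw [Scheme.Hom.range_fiberι]; exact hξη
  obtain ⟨z, rfl⟩ := hmem
  obtain ⟨m, hm, hm'⟩ := CycB.RelDim.exists_dim_closure_fiber f (genericPoint ↑S) z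
  rw [hm] at hξn
  have hnm : p.length ≤ m := by exact_mod_cast hξn
  rw [dim_eq] at h
  refine le_trans ?_ h
  have hclη : IsClosed ((f.fiberι (genericPoint ↑S)) ⁻¹' (CohB1.support F)) :=
    hcl.preimage (f.fiberι (genericPoint ↑S)).continuous
  have hsub : closure {z} ⊆ (f.fiberι (genericPoint ↑S)) ⁻¹' (CohB1.support F) :=
    closure_minimal (Set.singleton_subset_iff.mpr hξF) hclη
  refine le_trans ?_ (Topology.IsInducing.topologicalKrullDim_le
    (Topology.IsEmbedding.inclusion hsub).isInducing)
  rw [hm']
  exact_mod_cast hnm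

end Groth.Agent.S1416
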