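import Groth.Statements.S1417
import Groth.Agent.Flat2F.SmallExt
import Mathlib.AlgebraicGeometry.Stalk

set_option autoImplicit false
universe u
open FlatMor

namespace Groth.Agent.S1417

open AlgebraicGeometry CategoryTheory Limits in
lemma exists_map_fromSpec {X : Scheme.{u}} {U : X.Opens} (hU : IsAffineOpen U) {R : CommRingCat.{u}}
    (a : Spec R ⟶ X) (h : a ⁻¹ᵁ U = ⊤) : ∃ φ : Γ(X, U) ⟶ R, Spec.map φ ≫ hU.fromSpec = a := by
  refine ⟨Spec.preimage (IsOpenImmersion.lift hU.fromSpec a ?_), ?_⟩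
  · rw [hU.range_fromSpec]
    rintro _ ⟨x, rfl⟩
    have : x ∈ a ⁻¹ᵁ U := h ▸ trivial
    exact this
  · rw [Spec.map_preimage, IsOpenImmersion.lift_fac]

open AlgebraicGeometry CategoryTheory Limits in
lemma smooth_of_lifting {X S : Scheme.{u}} (f : X ⟶ S) [IsLocallyNoetherian S]
    [LocallyOfFiniteType f]
    (H : ∀ (B B' : Type u) [CommRing B] [CommRing B'] [IsArtinianRing B] [IsArtinianRing B'] [IsLocalRing B] [IsLocalRing B']
      (φ : B' →+* B) (ε : B'), Function.Surjective φ → RingHom.ker φ = Ideal.span {ε} → (∀ m ∈ IsLocalRing.maximalIdeal B', ε * m = 0) →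
      ∀ (α : Spec (CommRingCat.of B) ⟶ X) (β : Spec (CommRingCat.of B') ⟶ S), LocallyOfFiniteType β →
        Spec.map (CommRingCat.ofHom φ) ≫ β = α ≫ f →
        ∃ γ : Spec (CommRingCat.of B') ⟶ X, Spec.map (CommRingCat.ofHom φ) ≫ γ = α ∧ γ ≫ f = β) :
    Smooth f := by
  refine ⟨fun {U} hU {V} hV e ↦ ?_⟩
  have hft := f.finiteType_appLE hU hV e
  have : IsNoetherianRing Γ(S, U) := IsLocallyNoetherian.component_noetherian ⟨U, hU⟩
  algebraize [(f.appLE U V e).hom]
  have : Algebra.FinitePresentation Γ(S, U) Γ(X, V) := Algebra.FinitePresentation.of_finiteType.mp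
    inferInstance
  refine ⟨Algebra.smoothLocus_eq_univ_iff.mp ?_, this⟩
  rw [Set.eq_univ_iff_forall]
  intro p
  obtain ⟨q, hq, hpq⟩ := p.asIdeal.exists_le_maximal p.2.ne_top
  let q' : PrimeSpectrum Γ(X, V) := ⟨q, hq.isPrime⟩
  have hqs : q' ∈ Algebra.smoothLocus Γ(S, U) Γ(X, V) := by
    refine Flat2F.SmallExt.formallySmooth_of_lifting q ?_
    intro B' _ _ _ _ _ ε hε hε' g
    have : Nontrivial (B' ⧸ Ideal.span {ε}) := by
      rw [Ideal.Quotient.nontrivial_iff]
      intro h
      have h1 : (1 : B') ∈ IsLocalRing.maximalIdeal B' := by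
        have h2 : Ideal.span {ε} ≤ IsLocalRing.maximalIdeal B' := by
          rwa [Ideal.span_singleton_le_iff_mem]
        exact h2 (h ▸ Submodule.mem_top)
      exact (Ideal.ne_top_iff_one _).mp (Ideal.IsPrime.ne_top
        (I := IsLocalRing.maximalIdeal B') inferInstance) h1
    have : IsLocalRing (B' ⧸ Ideal.span {ε}) :=
      IsLocalRing.of_surjective' (Ideal.Quotient.mk _) Ideal.Quotient.mk_surjective
    let a : Γ(S, U) ⟶ CommRingCat.of B' := CommRingCat.ofHom (algebraMap Γ(S, U) B')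
    let b : Γ(X, V) ⟶ CommRingCat.of (B' ⧸ Ideal.span {ε}) := CommRingCat.ofHom g.toRingHom
    let φ : CommRingCat.of B' ⟶ CommRingCat.of (B' ⧸ Ideal.span {ε}) :=
      CommRingCat.ofHom (Ideal.Quotient.mk (Ideal.span {ε}))
    have hab : a ≫ φ = f.appLE U V e ≫ b := by
      refine CommRingCat.hom_ext (RingHom.ext fun x ↦ ?_)
      exact (g.commutes x).symm
    have hβ : LocallyOfFiniteType (Spec.map a ≫ hU.fromSpec) := by
      have : LocallyOfFiniteType (Spec.map a) := by
        rw [HasRingHomProperty.Spec_iff (P := @LocallyOfFiniteType)]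
        exact RingHom.finiteType_algebraMap.mpr inferInstance
      infer_instance
    obtain ⟨γ, hγ1, hγ2⟩ := H (B' ⧸ Ideal.span {ε}) B' (Ideal.Quotient.mk _) ε
      Ideal.Quotient.mk_surjective (Ideal.mk_ker) (fun m hm ↦ hε' m hm)
      (Spec.map b ≫ hV.fromSpec) (Spec.map a ≫ hU.fromSpec) hβ (by
        change Spec.map φ ≫ _ = _
        rw [Category.assoc, ← hU.SpecMap_appLE_fromSpec f hV e, ← Spec.map_comp_assoc, hab,
          Spec.map_comp_assoc])
    change Spec.map φ ≫ γ = _ at hγ1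
    have hloc : IsLocalHom φ.hom :=
      IsLocalHom.of_surjective (Ideal.Quotient.mk (Ideal.span {ε})) Ideal.Quotient.mk_surjective
    have hγV : γ ⁻¹ᵁ V = ⊤ := by
      refine Scheme.preimage_eq_top_of_closedPoint_mem (R := CommRingCat.of B') γ ?_
      have h1 : γ (IsLocalRing.closedPoint B') =
          (Spec.map φ ≫ γ) (IsLocalRing.closedPoint (B' ⧸ Ideal.span {ε})) := by
        rw [Scheme.Hom.comp_apply]
        congr 1
        exact (Spec_closedPoint (f := φ)).symm
      rw [h1, hγ1, Scheme.Hom.comp_apply]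
      have : hV.fromSpec (Spec.map b (IsLocalRing.closedPoint (B' ⧸ Ideal.span {ε}))) ∈
        Set.range hV.fromSpec := ⟨_, rfl⟩
      rwa [hV.range_fromSpec] at this
    obtain ⟨ψ, hψ⟩ := exists_map_fromSpec hV γ hγV
    have h1 : ψ ≫ φ = b := by
      rw [← hψ, ← Spec.map_comp_assoc, cancel_mono, Spec.map_inj] at hγ1
      exact hγ1
    have h2 : f.appLE U V e ≫ ψ = a := by
      rw [← hψ, Category.assoc, ← hU.SpecMap_appLE_fromSpec f hV e, ← Spec.map_comp_assoc,
        cancel_mono, Spec.map_inj] at hγ2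
      exact hγ2
    refine ⟨{ toRingHom := ψ.hom, commutes' := fun r ↦ congr($h2 r) }, ?_⟩
    exact AlgHom.ext fun x ↦ congr($h1 x)
  have hspec : p ⤳ q' := (PrimeSpectrum.le_iff_specializes _ _).mp hpq
  exact hspec.mem_open Algebra.isOpen_smoothLocus hqs

open AlgebraicGeometry CategoryTheory Limits in
/-- Stacks Tag 02HY: let S be locally Noetherian and f : X → S locally of finite type. Then f is smooth if and only if for every small extension B' → B of Artinian local rings (a surjection whose kernel is generated by one element annihilated by the maximal ideal), every morphism Spec B → X and every morphism Spec B' → S locally of finite type making the square commute, there is a lift Spec B' → X. -/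
theorem result {X S : Scheme.{u}} (f : X ⟶ S) [IsLocallyNoetherian S] [LocallyOfFiniteType f] :
    Smooth f ↔ ∀ (B B' : Type u) [CommRing B] [CommRing B'] [IsArtinianRing B] [IsArtinianRing B'] [IsLocalRing B] [IsLocalRing B']
      (φ : B' →+* B) (ε : B'), Function.Surjective φ → RingHom.ker φ = Ideal.span {ε} → (∀ m ∈ IsLocalRing.maximalIdeal B', ε * m = 0) →
      ∀ (α : Spec (CommRingCat.of B) ⟶ X) (β : Spec (CommRingCat.of B') ⟶ S), LocallyOfFiniteType β →
        Spec.map (CommRingCat.ofHom φ) ≫ β = α ≫ f →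
        ∃ γ : Spec (CommRingCat.of B') ⟶ X, Spec.map (CommRingCat.ofHom φ) ≫ γ = α ∧ γ ≫ f = β := by
  refine ⟨fun hf B B' _ _ _ _ _ _ φ ε hφ hker hε α β _ h ↦ ?_, smooth_of_lifting f⟩
  obtain ⟨_, ⟨U, hU, rfl⟩, hxU, -⟩ :=
    S.isBasis_affineOpens.exists_subset_of_mem_open
      (Set.mem_univ (f (α (IsLocalRing.closedPoint B)))) isOpen_univ
  obtain ⟨_, ⟨V, hV, rfl⟩, hxV, hVU⟩ :=
    X.isBasis_affineOpens.exists_subset_of_mem_open hxU (U.2.preimage f.continuous)
  have hVU : V ≤ f ⁻¹ᵁ U := hVU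
  have hloc : IsLocalHom (CommRingCat.ofHom φ).hom := IsLocalHom.of_surjective φ hφ
  obtain ⟨a, ha⟩ := exists_map_fromSpec hV α
    (Scheme.preimage_eq_top_of_closedPoint_mem (R := CommRingCat.of B) α hxV)
  obtain ⟨b, hb⟩ := exists_map_fromSpec hU β
    (Scheme.preimage_eq_top_of_closedPoint_mem (R := CommRingCat.of B') β (by
      have h1 : β (IsLocalRing.closedPoint B') =
          (Spec.map (CommRingCat.ofHom φ) ≫ β) (IsLocalRing.closedPoint B) := by
        rw [Scheme.Hom.comp_apply]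
        congr 1
        exact (Spec_closedPoint (f := CommRingCat.ofHom φ)).symm
      rw [h1, h, Scheme.Hom.comp_apply]
      exact hxU))
  have hab : b ≫ CommRingCat.ofHom φ = f.appLE U V hVU ≫ a := by
    rw [← ha, ← hb, Category.assoc, ← hU.SpecMap_appLE_fromSpec f hV hVU,
      ← Spec.map_comp_assoc, ← Spec.map_comp_assoc, cancel_mono, Spec.map_inj] at h
    exact h
  have hsm := f.smooth_appLE hU hV hVU
  algebraize [(f.appLE U V hVU).hom, b.hom, (f.appLE U V hVU ≫ a).hom]
  let a' : Γ(X, V) →ₐ[Γ(S, U)] B := { toRingHom := a.hom, commutes' := fun r ↦ rfl }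
  let φ' : B' →ₐ[Γ(S, U)] B := { toRingHom := φ, commutes' := fun r ↦ congr($hab r) }
  have hnil : IsNilpotent (RingHom.ker (φ' : B' →+* B)) := by
    refine ⟨2, ?_⟩
    have h0 : RingHom.ker (φ' : B' →+* B) = Ideal.span {ε} := hker
    rw [h0, pow_two, Ideal.span_singleton_mul_span_singleton, hε ε, Ideal.zero_eq_bot,
      Ideal.span_singleton_eq_bot]
    refine IsLocalRing.le_maximalIdeal (RingHom.ker_ne_top φ) ?_
    rw [hker]
    exact Ideal.mem_span_singleton_self ε
  let l := Algebra.FormallySmooth.liftOfSurjective a' φ' hφ hnil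
  have hl : φ'.comp l = a' := Algebra.FormallySmooth.comp_liftOfSurjective a' φ' hφ hnil
  refine ⟨Spec.map (CommRingCat.ofHom l.toRingHom) ≫ hV.fromSpec, ?_, ?_⟩
  · rw [← Spec.map_comp_assoc, ← ha]
    congr 2
    exact CommRingCat.hom_ext (RingHom.ext fun x ↦ congr($hl x))
  · rw [Category.assoc, ← hU.SpecMap_appLE_fromSpec f hV hVU, ← Spec.map_comp_assoc, ← hb]
    congr 2
    exact CommRingCat.hom_ext (RingHom.ext fun x ↦ l.commutes x)

end Groth.Agent.S1417
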