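import Groth.Statements.S1430
import Groth.Agent.Flat2F.TrdegDim
import Groth.Agent.Flat2F.PowPert
-- import your own Groth.Agent.* helpers here

set_option autoImplicit false
universe u
open FlatMor

namespace Groth.Agent.S1430

open Polynomial in
/-- Stacks Tag 0GTF: let R → S be of finite type, d ≥ 0 and a, b ∈ S. View S as an algebra over R[x] via x ↦ a; if all fibre rings of Spec S → Spec R[x] have dimension ≤ d, then there is n₀ such that for all n ≥ n₀ the same holds for the R[x]-algebra structure x ↦ a^n + b. -/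
theorem result {R S : Type u} [CommRing R] [CommRing S] [Algebra R S] [Algebra.FiniteType R S]
    (d : ℕ) (a b : S)
    (ha : ∀ P : PrimeSpectrum R[X], letI := (Polynomial.aeval (R := R) a).toRingHom.toAlgebra
      ringKrullDim (P.asIdeal.Fiber S) ≤ d) :
    ∃ n₀ : ℕ, ∀ n ≥ n₀, ∀ P : PrimeSpectrum R[X], letI := (Polynomial.aeval (R := R) (a ^ n + b)).toRingHom.toAlgebra
      ringKrullDim (P.asIdeal.Fiber S) ≤ d := by
  have hft : ∀ c : S, letI := (Polynomial.aeval (R := R) c).toRingHom.toAlgebra
      Algebra.FiniteType R[X] S := by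
    intro c
    let _ := (Polynomial.aeval (R := R) c).toRingHom.toAlgebra
    have : IsScalarTower R R[X] S := IsScalarTower.of_algebraMap_eq (fun r =>
      ((Polynomial.aeval c).commutes r).symm)
    exact Algebra.FiniteType.of_restrictScalars_finiteType R R[X] S
  have key : ∀ c : S, (∀ P : PrimeSpectrum R[X],
      letI := (Polynomial.aeval (R := R) c).toRingHom.toAlgebra
      ringKrullDim (P.asIdeal.Fiber S) ≤ d) ↔
      ∀ (q : Ideal S) [q.IsPrime], Groth.Agent.Flat2F.PowPert.fib R c q ≤ d := by
    intro c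
    let _ := (Polynomial.aeval (R := R) c).toRingHom.toAlgebra
    have := hft c
    exact Groth.Agent.Flat2F.TrdegDim.forall_ringKrullDim_fiber_le_iff (A := R[X]) (S := S) d
  obtain ⟨n₀, hn₀⟩ := Groth.Agent.Flat2F.PowPert.fib_le_of_forall_fib_le d a b ((key a).mp ha)
  exact ⟨n₀, fun n hn => (key (a ^ n + b)).mpr (hn₀ n hn)⟩

end Groth.Agent.S1430
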