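import Groth.Statements.S1432
-- import your own Groth.Agent.* helpers here

set_option autoImplicit false
universe u
open FlatMor

namespace Groth.Agent.S1432

open AlgebraicGeometry CategoryTheory Limits in
/-- The lifting property against spectra of injective ring maps. -/
def Lifts {X Y : Scheme.{u}} (f : X ⟶ Y) : Prop :=
  ∀ (A B : Type u) [CommRing A] [CommRing B] (φ : A →+* B), Function.Injective φ →
      ∀ (a : Spec (CommRingCat.of B) ⟶ X) (b : Spec (CommRingCat.of A) ⟶ Y), Spec.map (CommRingCat.ofHom φ) ≫ b = a ≫ f →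
        ∃ l : Spec (CommRingCat.of A) ⟶ X, Spec.map (CommRingCat.ofHom φ) ≫ l = a ∧ l ≫ f = b

open AlgebraicGeometry CategoryTheory Limits in
lemma lifts_of_isClosedImmersion {X Y : Scheme.{u}} (f : X ⟶ Y) [IsClosedImmersion f] : Lifts f := by
  intro A B _ _ φ hφ a b h
  let s : Spec (CommRingCat.of B) ⟶ pullback f b := pullback.lift a (Spec.map (CommRingCat.ofHom φ)) h.symm
  have hs : s ≫ pullback.snd f b = Spec.map (CommRingCat.ofHom φ) := pullback.lift_snd _ _ _
  have : IsIso (pullback.snd f b) := by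
    apply IsClosedImmersion.isIso_of_injective_of_isAffine
    have h0 := Scheme.ΓSpecIso_naturality (CommRingCat.ofHom φ)
    have h1 : Function.Injective ((Spec.map (CommRingCat.ofHom φ)).appTop ≫ (Scheme.ΓSpecIso (CommRingCat.of B)).hom).hom := by
      rw [h0, CommRingCat.hom_comp, RingHom.coe_comp]
      exact Function.Injective.comp hφ (ConcreteCategory.bijective_of_isIso (Scheme.ΓSpecIso (CommRingCat.of A)).hom).1
    rw [← hs, Scheme.Hom.comp_appTop, Category.assoc, CommRingCat.hom_comp, RingHom.coe_comp] at h1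
    exact h1.of_comp
  refine ⟨inv (pullback.snd f b) ≫ pullback.fst f b, ?_, ?_⟩
  · rw [← hs, Category.assoc, IsIso.hom_inv_id_assoc]
    exact pullback.lift_fst _ _ _
  · rw [Category.assoc, pullback.condition, IsIso.inv_hom_id_assoc]

open AlgebraicGeometry CategoryTheory Limits in
lemma lifts_baseChange {X Y Y' : Scheme.{u}} (f : X ⟶ Y) (g : Y' ⟶ Y) (hf : Lifts f) :
    Lifts (pullback.snd f g) := by
  intro A B _ _ φ hφ a b h
  obtain ⟨l, hl1, hl2⟩ := hf A B φ hφ (a ≫ pullback.fst f g) (b ≫ g) (by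
    rw [Category.assoc, pullback.condition, ← Category.assoc, h, Category.assoc])
  refine ⟨pullback.lift l b hl2, ?_, pullback.lift_snd _ _ _⟩
  apply pullback.hom_ext
  · rw [Category.assoc, pullback.lift_fst, hl1]
  · rw [Category.assoc, pullback.lift_snd, h]

open AlgebraicGeometry CategoryTheory Limits in
lemma isAffine_of_lifts {X Y : Scheme.{u}} [IsAffine Y] [CompactSpace X] (f : X ⟶ Y) (hf : Lifts f) :
    IsAffine X := by
  let 𝒰 : X.OpenCover := X.affineCover.finiteSubcover
  have : Finite 𝒰.I₀ := inferInstance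
  let T : Scheme.{u} := ∐ fun i : 𝒰.I₀ => 𝒰.X i
  let π : T ⟶ X := Sigma.desc 𝒰.f
  have hT : IsAffine T := inferInstance
  have hπ : ∀ i, Sigma.ι (fun i : 𝒰.I₀ => 𝒰.X i) i ≫ π = 𝒰.f i := fun i => Sigma.ι_desc _ _
  have hinj : Function.Injective π.appTop.hom := by
    rw [RingHom.injective_iff_ker_eq_bot, RingHom.ker_eq_bot_iff_eq_zero]
    intro s hs
    refine Scheme.zero_of_zero_cover s 𝒰 (fun i => ?_)
    have h1 : (𝒰.f i).appTop = π.appTop ≫ (Sigma.ι (fun i : 𝒰.I₀ => 𝒰.X i) i).appTop := by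
      rw [← hπ i, Scheme.Hom.comp_appTop]
    change (𝒰.f i).appTop.hom s = 0
    rw [h1, CommRingCat.hom_comp, RingHom.comp_apply, hs, map_zero]
  obtain ⟨l, hl1, hl2⟩ := hf Γ(X, ⊤) Γ(T, ⊤) π.appTop.hom hinj (T.isoSpec.inv ≫ π)
    (Spec.map f.appTop ≫ Y.isoSpec.inv) (by
      rw [← cancel_epi T.isoSpec.hom]
      change T.toSpecΓ ≫ Spec.map π.appTop ≫ Spec.map f.appTop ≫ Y.isoSpec.inv = _
      rw [← Scheme.toSpecΓ_naturality_assoc, ← Scheme.toSpecΓ_naturality_assoc]
      change π ≫ f ≫ Y.isoSpec.hom ≫ Y.isoSpec.inv = _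
      simp)
  have h1 : X.toSpecΓ ≫ l = 𝟙 X := by
    refine Scheme.Cover.hom_ext 𝒰 _ _ fun i => ?_
    rw [← hπ i, Category.assoc, Category.assoc]
    congr 1
    rw [← Category.assoc, Scheme.toSpecΓ_naturality, Category.assoc]
    have : Spec.map π.appTop ≫ l = T.isoSpec.inv ≫ π := hl1
    rw [this]
    change T.isoSpec.hom ≫ T.isoSpec.inv ≫ π = _
    simp
  have h2 : l ≫ X.toSpecΓ = 𝟙 _ := by
    apply ext_of_isAffine
    have h2 : (X.toSpecΓ ≫ (l ≫ X.toSpecΓ)).appTop = X.toSpecΓ.appTop := by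
      rw [← Category.assoc, h1, Category.id_comp]
    rw [Scheme.Hom.comp_appTop, Scheme.toSpecΓ_appTop] at h2
    rw [Scheme.Hom.id_appTop, ← cancel_mono (Scheme.ΓSpecIso Γ(X, ⊤)).hom]
    exact h2.trans (Category.id_comp _).symm
  have : IsIso X.toSpecΓ := ⟨l, h1, h2⟩
  exact ⟨this⟩

open AlgebraicGeometry CategoryTheory Limits in
lemma isClosedImmersion_of_lifts_of_isAffine {X Y : Scheme.{u}} [IsAffine Y] [IsAffine X] (f : X ⟶ Y) (hf : Lifts f) :
    IsClosedImmersion f := by
  apply IsClosedImmersion.of_surjective_of_isAffine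
  let φ : Γ(Y, ⊤) →+* Γ(X, ⊤) := f.appTop.hom
  obtain ⟨l, hl1, hl2⟩ := hf φ.range Γ(X, ⊤) φ.range.subtype Subtype.val_injective X.isoSpec.inv
    (Spec.map (CommRingCat.ofHom φ.rangeRestrict) ≫ Y.isoSpec.inv) (by
      rw [← Category.assoc, ← Spec.map_comp, ← CommRingCat.ofHom_comp]
      have h0 : φ.range.subtype.comp φ.rangeRestrict = φ := rfl
      rw [h0, ← cancel_epi X.isoSpec.hom]
      change X.toSpecΓ ≫ Spec.map f.appTop ≫ Y.isoSpec.inv = _
      rw [← Scheme.toSpecΓ_naturality_assoc]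
      change f ≫ Y.isoSpec.hom ≫ Y.isoSpec.inv = _
      simp)
  have h0 := Scheme.ΓSpecIso_naturality (CommRingCat.ofHom φ.range.subtype)
  have h1 : Function.Surjective (Spec.map (CommRingCat.ofHom φ.range.subtype) ≫ l).appTop.hom := by
    have h5 : Function.Surjective ((X.isoSpec.hom ≫ X.isoSpec.inv).appTop).hom := by
      rw [Iso.hom_inv_id, Scheme.Hom.id_appTop]
      exact fun x => ⟨x, rfl⟩
    have h6 : Function.Surjective (X.isoSpec.inv).appTop.hom := by
      intro x
      obtain ⟨y, hy⟩ := h5 (X.isoSpec.hom.appTop.hom x)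
      rw [Scheme.Hom.comp_appTop, CommRingCat.hom_comp, RingHom.comp_apply] at hy
      refine ⟨y, ?_⟩
      have h7 : Function.Injective (X.isoSpec.hom).appTop.hom := by
        have h8 : Function.Injective ((X.isoSpec.inv ≫ X.isoSpec.hom).appTop).hom := by
          rw [Iso.inv_hom_id, Scheme.Hom.id_appTop]
          exact fun x y h => h
        rw [Scheme.Hom.comp_appTop, CommRingCat.hom_comp, RingHom.coe_comp] at h8
        exact h8.of_comp
      exact h7 hy
    rw [hl1]
    exact h6
  rw [Scheme.Hom.comp_appTop, CommRingCat.hom_comp, RingHom.coe_comp] at h1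
  have h2 := h1.of_comp
  have h3 : Function.Surjective ((Spec.map (CommRingCat.ofHom φ.range.subtype)).appTop ≫
      (Scheme.ΓSpecIso (CommRingCat.of Γ(X, ⊤))).hom).hom := by
    rw [CommRingCat.hom_comp, RingHom.coe_comp]
    exact (ConcreteCategory.bijective_of_isIso (Scheme.ΓSpecIso (CommRingCat.of Γ(X, ⊤))).hom).2.comp h2
  rw [h0, CommRingCat.hom_comp, RingHom.coe_comp] at h3
  have h4 : Function.Surjective φ.range.subtype := h3.of_comp
  intro x
  obtain ⟨⟨y, z, hz⟩, rfl⟩ := h4 x
  exact ⟨z, hz⟩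

open AlgebraicGeometry CategoryTheory Limits in
/-- Stacks Tag 0H2S (extensive criterion for closed immersions): for a quasi-compact morphism f : X → Y, being a closed immersion is equivalent to the following lifting property: for each injective ring map A → B and each commutative square with Spec B → X on top and Spec A → Y at the bottom there is a lift Spec A → X making both triangles commute. -/
theorem result {X Y : Scheme.{u}} (f : X ⟶ Y) [QuasiCompact f] :
    IsClosedImmersion f ↔ ∀ (A B : Type u) [CommRing A] [CommRing B] (φ : A →+* B), Function.Injective φ →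
      ∀ (a : Spec (CommRingCat.of B) ⟶ X) (b : Spec (CommRingCat.of A) ⟶ Y), Spec.map (CommRingCat.ofHom φ) ≫ b = a ≫ f →
        ∃ l : Spec (CommRingCat.of A) ⟶ X, Spec.map (CommRingCat.ofHom φ) ≫ l = a ∧ l ≫ f = b := by
  refine ⟨fun h => lifts_of_isClosedImmersion f, fun h => ?_⟩
  rw [IsZariskiLocalAtTarget.iff_of_openCover (P := @IsClosedImmersion) Y.affineCover]
  intro i
  have h1 : Lifts (pullback.snd f (Y.affineCover.f i)) := lifts_baseChange f _ h
  have hY : IsAffine (Y.affineCover.X i) := inferInstance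
  have : CompactSpace ↥(pullback f (Y.affineCover.f i)) :=
    QuasiCompact.compactSpace_of_compactSpace (pullback.snd f (Y.affineCover.f i))
  have := isAffine_of_lifts _ h1
  exact isClosedImmersion_of_lifts_of_isAffine (pullback.snd f (Y.affineCover.f i)) h1

end Groth.Agent.S1432
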