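import Groth.Statements.S1433
-- import your own Groth.Agent.* helpers here

set_option autoImplicit false
universe u
open FlatMor

namespace Groth.Agent.S1433

open AlgebraicGeometry CategoryTheory Limits in
/-- Stacks Tag 0H2Q: if the canonical morphism X → Spec Γ(X, O_X) has a retraction, then X is affine. -/
theorem result (X : Scheme.{u}) (r : Spec Γ(X, ⊤) ⟶ X) (h : X.toSpecΓ ≫ r = 𝟙 X) : IsAffine X := by
  have h1 : r ≫ X.toSpecΓ = 𝟙 _ := by
    apply ext_of_isAffine
    have h2 : (X.toSpecΓ ≫ (r ≫ X.toSpecΓ)).appTop = X.toSpecΓ.appTop := by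
      rw [← Category.assoc, h, Category.id_comp]
    rw [Scheme.Hom.comp_appTop, Scheme.toSpecΓ_appTop] at h2
    rw [Scheme.Hom.id_appTop, ← cancel_mono (Scheme.ΓSpecIso Γ(X, ⊤)).hom]
    exact h2.trans (Category.id_comp _).symm
  have : IsIso X.toSpecΓ := ⟨r, h, h1⟩
  exact ⟨this⟩

end Groth.Agent.S1433
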