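import Groth.Statements.S1434
-- import your own Groth.Agent.* helpers here

set_option autoImplicit false
universe u
open FlatMor

namespace Groth.Agent.S1434

open AlgebraicGeometry CategoryTheory Limits in
/-- Stacks Tag 04EZ, part (1), for a closed subscheme: let Z ⊂ X be the closed subscheme cut out by an ideal sheaf I and Z' the one cut out by I², its first order infinitesimal neighbourhood. Given a first order thickening T → T', a morphism a : T → Z and a morphism b : T' → X compatible with them, there is a unique morphism T' → Z' through which b factors (compatibility with a is then automatic). -/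
theorem result {X T T' : Scheme.{u}} (I : X.IdealSheafData) (t : T ⟶ T') (ht : MoreMor.IsFirstOrderThickening t)
    (a : T ⟶ I.subscheme) (b : T' ⟶ X) (w : a ≫ I.subschemeι = t ≫ b) :
    ∃! a' : T' ⟶ (I ^ 2).subscheme, a' ≫ (I ^ 2).subschemeι = b := by
  have hcl : IsClosedImmersion (I ^ 2).subschemeι := inferInstance
  have hcl' : IsClosedImmersion t := ht.1.1
  have hmono : Mono (I ^ 2).subschemeι := inferInstance
  have key : ∀ (U : X.affineOpens) (r : Γ(X, U)), r ∈ I.ideal U → t.app (b ⁻¹ᵁ U) (b.app U r) = 0 := by
    intro U r hr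
    have h1 : (a ≫ I.subschemeι).app U r = 0 := by
      have h2 : I.subschemeι.app U r = 0 := by
        have h3 : I.subschemeι.ker.ideal U ≤ RingHom.ker (I.subschemeι.app U).hom :=
          I.subschemeι.ideal_ker_le U
        rw [Scheme.IdealSheafData.ker_subschemeι] at h3
        exact h3 hr
      rw [Scheme.Hom.comp_app]
      change (a.app _) (I.subschemeι.app U r) = 0
      rw [h2, map_zero]
    have h4 : (t ≫ b).app U r = 0 := by
      rw [← w]
      exact h1
    rw [Scheme.Hom.comp_app] at h4
    exact h4
  have hker : (I ^ 2).subschemeι.ker ≤ b.ker := by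
    rw [Scheme.IdealSheafData.ker_subschemeι]
    refine Scheme.IdealSheafData.le_ofIdeals_iff.2 fun U => ?_
    rw [Scheme.IdealSheafData.ideal_pow, Pi.pow_apply, pow_two, Ideal.mul_le]
    intro r hr s hs
    rw [RingHom.mem_ker, map_mul]
    apply TopCat.Presheaf.section_ext T'.sheaf
    intro x hx
    obtain ⟨W, hW, hxW, hWU⟩ := exists_isAffineOpen_mem_and_subset (x := x) (U := b ⁻¹ᵁ U) hx
    have hr' : ∀ r : Γ(X, U), r ∈ I.ideal U →
        T'.presheaf.map (homOfLE hWU).op (b.app U r) ∈ t.ker.ideal ⟨W, hW⟩ := by
      intro r hr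
      rw [Scheme.Hom.ker_apply, RingHom.mem_ker]
      have := congr($(t.naturality (homOfLE hWU).op) (b.app U r))
      simp only [CommRingCat.comp_apply] at this
      refine this.trans ?_
      rw [key U r hr, map_zero]
    have h5 : T'.presheaf.map (homOfLE hWU).op (b.app U r) * T'.presheaf.map (homOfLE hWU).op (b.app U s) = 0 := by
      have h6 := Ideal.mul_mem_mul (hr' r hr) (hr' s hs)
      have h7 : t.ker.ideal ⟨W, hW⟩ * t.ker.ideal ⟨W, hW⟩ = ⊥ := by
        have := congr(Scheme.IdealSheafData.ideal $(ht.2) ⟨W, hW⟩)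
        simpa using this
      rw [h7] at h6
      simpa using h6
    rw [← map_mul] at h5
    have h8 := congr(T'.presheaf.germ W x hxW $h5)
    rw [map_zero] at h8
    change T'.presheaf.germ (b ⁻¹ᵁ U) x hx _ = T'.presheaf.germ (b ⁻¹ᵁ U) x hx _
    rw [map_zero, ← T'.presheaf.germ_res_apply (homOfLE hWU) x hxW]
    exact h8
  refine ⟨IsClosedImmersion.lift (I ^ 2).subschemeι b hker, IsClosedImmersion.lift_fac _ _ hker, ?_⟩
  intro a' ha'
  rw [← cancel_mono (I ^ 2).subschemeι, ha']
  exact (IsClosedImmersion.lift_fac _ _ hker).symm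

end Groth.Agent.S1434
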