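import Groth.Statements.S1438
import Groth.Agent.Flat2G.AffStrat

set_option autoImplicit false
universe u
open FlatMor

namespace Groth.Agent.S1438

open AlgebraicGeometry CategoryTheory Limits in
/-- Stacks Tag 0F2W: a separated scheme with an open covering by n + 1 affine opens has affine stratification number at most n: it admits an affine stratification with index set {0, …, n}. -/
theorem result (X : Scheme.{u}) [X.IsSeparated] (n : ℕ) (U : Fin (n + 1) → X.Opens)
    (hU : ∀ i, IsAffineOpen (U i)) (hcov : ⨆ i, U i = ⊤) :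
    MoreMor.HasAffineStratification X n := by
  classical
  have hex : ∀ x : X, (Finset.univ.filter (fun i => x ∈ U i)).Nonempty := by
    intro x
    have hx : x ∈ ⨆ i, U i := by rw [hcov]; trivial
    obtain ⟨i, hi⟩ := TopologicalSpace.Opens.mem_iSup.mp hx
    exact ⟨i, by simpa using hi⟩
  let s : X → Fin (n + 1) := fun x => (Finset.univ.filter (fun i => x ∈ U i)).max' (hex x)
  have hs1 : ∀ x, x ∈ U (s x) := fun x => by
    have := Finset.max'_mem _ (hex x)
    simpa using this
  have hs2 : ∀ x i, x ∈ U i → i ≤ s x := fun x i hi =>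
    Finset.le_max' _ _ (by simpa using hi)
  have hle : ∀ i : Fin (n + 1), IsClosed {x : X | s x ≤ i} := by
    intro i
    have : {x : X | s x ≤ i} = ⋂ (j : Fin (n + 1)) (_ : i < j), ((U j : Set X))ᶜ := by
      ext x
      simp only [Set.mem_setOf_eq, Set.mem_iInter, Set.mem_compl_iff, SetLike.mem_coe]
      constructor
      · intro h j hj hx
        exact absurd (hs2 x j hx) (not_le.mpr (lt_of_le_of_lt h hj))
      · intro h
        by_contra hlt
        exact h (s x) (not_le.mp hlt) (hs1 x)
    rw [this]
    exact isClosed_iInter fun j => isClosed_iInter fun _ => (U j).isOpen.isClosed_compl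
  refine ⟨s, hle, fun i => ?_⟩
  have : IsAffine (U i : Scheme.{u}) := hU i
  have hA : IsAffineHom (U i).ι := by
    have : IsAffineHom ((U i).ι ≫ terminal.from X) := inferInstance
    exact IsAffineHom.of_comp (U i).ι (terminal.from X)
  obtain ⟨Z, ι, h1, h2, h3, h4⟩ := Flat2G.AffStrat.exists_affine_immersion (U i) (hU i) _ (hle i)
  refine ⟨Z, ι, h1, h2, h3, ?_⟩
  rw [h4]
  ext x
  simp only [Set.mem_inter_iff, SetLike.mem_coe, Set.mem_setOf_eq]
  constructor
  · rintro ⟨hx, hx'⟩
    exact le_antisymm hx' (hs2 x i hx)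
  · rintro rfl
    exact ⟨hs1 x, le_rfl⟩

end Groth.Agent.S1438
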