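import Groth.Statements.S1440
import Mathlib.Topology.Spectral.ConstructibleTopology
import Mathlib.RingTheory.Localization.Away.Basic
import Mathlib.RingTheory.Localization.Integer
import Mathlib.RingTheory.FinitePresentation
import Mathlib.RingTheory.RingHom.FinitePresentation

set_option autoImplicit false
universe u
open FlatMor

namespace Groth.Agent.S1440

theorem algebra_key {R A K : Type u} [CommRing R] [CommRing A] [Algebra R A]
    [Algebra.FinitePresentation R A] [Field K] [Algebra R K]
    (hfrac : ∀ b : K, ∃ a s : R, algebraMap R K s ≠ 0 ∧ algebraMap R K s * b = algebraMap R K a)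
    (ψ : A →ₐ[R] K) :
    ∃ (s : R) (J : Ideal (Localization.Away s)), J.FG ∧
      Nonempty (A →ₐ[R] (Localization.Away s ⧸ J)) ∧
      Nonempty ((Localization.Away s ⧸ J) →ₐ[R] K) := by
  classical
  obtain ⟨n, f, hf, G, hG⟩ := Algebra.FinitePresentation.out (R := R) (A := A)
  choose a s hs has using hfrac
  let x : Fin n → K := fun i => ψ (f (MvPolynomial.X i))
  let S : R := ∏ i, s (x i)
  have hS : algebraMap R K S ≠ 0 := by
    simp only [S, map_prod]
    exact Finset.prod_ne_zero_iff.mpr (fun i _ => hs _)
  have hcd : ∀ i, ∃ c : R, algebraMap R K S * x i = algebraMap R K c := by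
    intro i
    refine ⟨(∏ j ∈ Finset.univ.erase i, s (x j)) * a (x i), ?_⟩
    rw [map_mul, ← has, ← mul_assoc, ← map_mul, Finset.prod_erase_mul _ _ (Finset.mem_univ i)]
  choose c hc using hcd
  let RS := Localization.Away S
  have hunit : IsUnit (algebraMap R K S) := hS.isUnit
  let toK : RS →ₐ[R] K := IsLocalization.liftAlgHom (M := Submonoid.powers S) (f := Algebra.ofId R K) (by
    rintro ⟨_, k, rfl⟩
    simp only [map_pow]
    exact hunit.pow k)
  have htoK : ∀ r : R, toK (algebraMap R RS r) = algebraMap R K r := fun r => toK.commutes r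
  let t : Fin n → RS := fun i => IsLocalization.mk' RS (c i) (⟨S, 1, by simp⟩ : Submonoid.powers S)
  have ht : ∀ i, toK (t i) = x i := by
    intro i
    have h1 : t i * algebraMap R RS S = algebraMap R RS (c i) :=
      IsLocalization.mk'_spec RS (c i) (⟨S, 1, by simp⟩ : Submonoid.powers S)
    have h2 := congrArg toK h1
    rw [map_mul, htoK, htoK, ← hc, mul_comm (toK (t i))] at h2
    exact mul_left_cancel₀ hS h2
  let θ : MvPolynomial (Fin n) R →ₐ[R] RS := MvPolynomial.aeval t
  have hθ : toK.comp θ = ψ.comp f := by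
    apply MvPolynomial.algHom_ext
    intro i
    simp [θ, ht, x]
  let J : Ideal RS := Ideal.span (θ '' (G : Set (MvPolynomial (Fin n) R)))
  refine ⟨S, J, ⟨G.image θ, by simp only [Finset.coe_image]; rfl⟩, ?_, ?_⟩
  · -- map from A
    refine ⟨?_⟩
    have hker : ∀ p, f p = 0 → ((Ideal.Quotient.mkₐ R J).comp θ) p = 0 := by
      intro p hp
      have hp' : p ∈ Ideal.span (G : Set (MvPolynomial (Fin n) R)) := by
        have : p ∈ RingHom.ker f := hp
        rw [show RingHom.ker f = Ideal.span (G : Set (MvPolynomial (Fin n) R)) from hG.symm] at this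
        exact this
      have : θ p ∈ J := by
        have h3 := Ideal.mem_map_of_mem (θ : MvPolynomial (Fin n) R →+* RS) hp'
        rw [Ideal.map_span] at h3
        exact h3
      exact Ideal.Quotient.eq_zero_iff_mem.mpr this
    exact (Ideal.Quotient.liftₐ (RingHom.ker f) ((Ideal.Quotient.mkₐ R J).comp θ) (fun p hp => hker p hp)).comp
      (Ideal.quotientKerAlgEquivOfSurjective hf).symm.toAlgHom
  · refine ⟨Ideal.Quotient.liftₐ J toK ?_⟩
    intro r hr
    have hJ : J ≤ RingHom.ker toK := by
      rw [Ideal.span_le]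
      rintro _ ⟨g, hg, rfl⟩
      have h1 : toK (θ g) = ψ (f g) := congrArg (fun F => F g) (congrArg DFunLike.coe hθ)
      change toK (θ g) = 0
      rw [h1]
      have : g ∈ RingHom.ker f := by
        rw [show RingHom.ker f = Ideal.span (G : Set (MvPolynomial (Fin n) R)) from hG.symm]
        exact Ideal.subset_span hg
      rw [show f g = 0 from this, map_zero]
    exact hJ hr

open Topology in
/-- Constructible sets are clopen in the constructible topology. -/
theorem isOpen_constructible {X : Type*} [TopologicalSpace X] [CompactSpace X] {s : Set X}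
    (hs : Topology.IsConstructible s) :
    IsOpen[constructibleTopology X] s ∧ IsOpen[constructibleTopology X] sᶜ := by
  induction hs using Topology.IsConstructible.empty_union_induction with
  | open_retrocompact U hUopen hUcomp =>
    have hc : IsCompact U := by
      have := hUcomp isCompact_univ isOpen_univ
      simpa using this
    exact ⟨hc.isOpen_constructibleTopology_of_isOpen hUopen,
      IsCompact.isOpen_constructibleTopology_of_isClosed (by simpa using hc) hUopen.isClosed_compl⟩
  | union s hs t ht hs' ht' =>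
    refine ⟨@IsOpen.union X _ _ (constructibleTopology X) hs'.1 ht'.1, ?_⟩
    rw [Set.compl_union]
    exact @IsOpen.inter X (constructibleTopology X) _ _ hs'.2 ht'.2
  | compl s hs hs' => exact ⟨hs'.2, by simpa using hs'.1⟩

open Topology in
/-- Finite subcover by constructible sets. -/
theorem exists_finite_subcover {X : Type*} [TopologicalSpace X] [CompactSpace X] [QuasiSober X]
    [PrespectralSpace X] [QuasiSeparatedSpace X] (W : X → Set X) (hW : ∀ x, Topology.IsConstructible (W x))
    (hx : ∀ x, x ∈ W x) : ∃ T : Finset X, ∀ x, ∃ t ∈ T, x ∈ W t := by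
  have hcomp : @CompactSpace X (constructibleTopology X) := by
    have h := (inferInstance : CompactSpace (WithConstructibleTopology X))
    exact @Function.Surjective.compactSpace _ _ _ (constructibleTopology X) _
      (WithTopology.continuous_ofTopology _) h (WithTopology.ofTopology_surjective _)
  obtain ⟨T, hT⟩ := @IsCompact.elim_finite_subcover X (constructibleTopology X) Set.univ X
    (@isCompact_univ X (constructibleTopology X) hcomp) W (fun x => (isOpen_constructible (hW x)).1)
    (fun x _ => Set.mem_iUnion.mpr ⟨x, hx x⟩)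
  refine ⟨T, fun x => ?_⟩
  have := hT (Set.mem_univ x)
  simpa using this

open AlgebraicGeometry CategoryTheory Limits in
theorem local_step {X Y : Scheme.{u}} (f : X ⟶ Y) [LocallyOfFinitePresentation f] [QuasiSeparatedSpace ↑Y]
    (y : Y) (hcd : ∃ x : X, f x = y ∧ Function.Bijective (f.residueFieldMap x)) :
    ∃ (Z : Scheme.{u}) (z : Z ⟶ Y), CompactSpace Z ∧ y ∈ Set.range ⇑z ∧
      IsImmersion z ∧ LocallyOfFinitePresentation z ∧ QuasiCompact z ∧ QuasiSeparated z ∧
        ∃ s : Z ⟶ pullback f z, s ≫ pullback.snd f z = 𝟙 Z := by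
  obtain ⟨x, rfl, hbij⟩ := hcd
  obtain ⟨V, hV, hxV, -⟩ := exists_isAffineOpen_mem_and_subset (x := f x) (U := ⊤) trivial
  obtain ⟨U, hU, hxU, hUV⟩ := exists_isAffineOpen_mem_and_subset (x := x) (U := f ⁻¹ᵁ V) hxV
  let R := Γ(Y, V)
  let A := Γ(X, U)
  let φ : R ⟶ A := f.appLE V U hUV
  have hφ : φ.hom.FinitePresentation := f.finitePresentation_appLE hV hU hUV
  let K := Y.residueField (f x)
  let e : R ⟶ K := Y.evaluation V (f x) hxV
  have hcomm : φ ≫ X.evaluation U x hxU = e ≫ f.residueFieldMap x := by
    rw [Scheme.evaluation_naturality]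
    simp only [φ, Scheme.Hom.appLE, Category.assoc, ← Scheme.germ_residue]
    rw [TopCat.Presheaf.germ_res_assoc]
  let eqv : K ≃+* X.residueField x := RingEquiv.ofBijective (f.residueFieldMap x).hom hbij
  let ψ₀ : A →+* K := eqv.symm.toRingHom.comp (X.evaluation U x hxU).hom
  have hψ₀ : ψ₀.comp φ.hom = e.hom := by
    ext r
    have h1 : (X.evaluation U x hxU).hom (φ.hom r) = (f.residueFieldMap x).hom (e.hom r) :=
      congrArg (fun F => F.hom r) hcomm
    change eqv.symm ((X.evaluation U x hxU).hom (φ.hom r)) = e.hom r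
    rw [h1]
    exact eqv.symm_apply_apply (e.hom r)
  algebraize [φ.hom, e.hom]
  let ψ : A →ₐ[R] K := { ψ₀ with commutes' := fun r => congrArg (fun F => F r) hψ₀ }
  have hfrac : ∀ b : K, ∃ a s : R, algebraMap R K s ≠ 0 ∧ algebraMap R K s * b = algebraMap R K a := by
    intro b
    obtain ⟨b', rfl⟩ := Y.residue_surjective (f x) b
    have hloc := hV.isLocalization_stalk ⟨f x, hxV⟩
    let _ := Y.presheaf.algebra_section_stalk ⟨f x, hxV⟩
    obtain ⟨⟨a, s⟩, has⟩ := IsLocalization.surj (hV.primeIdealOf ⟨f x, hxV⟩).asIdeal.primeCompl b'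
    refine ⟨a, s, ?_, ?_⟩
    · intro h0
      have hu : IsUnit (algebraMap R (Y.presheaf.stalk (f x)) s) := IsLocalization.map_units _ s
      have hu2 : IsUnit ((Y.residue (f x)).hom (algebraMap R (Y.presheaf.stalk (f x)) s)) := hu.map _
      apply hu2.ne_zero
      exact h0
    · have := congrArg (Y.residue (f x)).hom has
      rw [map_mul, mul_comm] at this
      exact this
  obtain ⟨s, J, hJ, ⟨g⟩, ⟨k⟩⟩ := algebra_key hfrac ψ
  have hfp1 : Algebra.FinitePresentation R (Localization.Away s) := IsLocalization.Away.finitePresentation s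
  have hfp2 : Algebra.FinitePresentation R (Localization.Away s ⧸ J) := Algebra.FinitePresentation.quotient hJ
  let Z := Spec (CommRingCat.of (Localization.Away s ⧸ J))
  let z₀ : Z ⟶ Spec R := Spec.map (CommRingCat.ofHom (algebraMap R (Localization.Away s ⧸ J)))
  let z : Z ⟶ Y := z₀ ≫ hV.fromSpec
  have hz₀ : z₀ = Spec.map (CommRingCat.ofHom (Ideal.Quotient.mk J)) ≫ Spec.map (CommRingCat.ofHom (algebraMap R (Localization.Away s))) := by
    rw [← Spec.map_comp]
    rfl
  have i1 : IsImmersion z₀ := by
    rw [hz₀]
    have : IsOpenImmersion (Spec.map (CommRingCat.ofHom (algebraMap R (Localization.Away s)))) :=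
      IsOpenImmersion.of_isLocalization s
    have hci : IsClosedImmersion (Spec.map (CommRingCat.ofHom (Ideal.Quotient.mk J))) :=
      IsClosedImmersion.spec_of_surjective _ Ideal.Quotient.mk_surjective
    exact IsImmersion.comp _ _
  have i2 : LocallyOfFinitePresentation z₀ := by
    rw [HasRingHomProperty.Spec_iff (P := @LocallyOfFinitePresentation)]
    exact (RingHom.finitePresentation_algebraMap).mpr hfp2
  refine ⟨Z, z, inferInstance, ?_, inferInstance, inferInstance, inferInstance, inferInstance, ?_⟩
  · have h1 : k.toRingHom.comp (algebraMap R (Localization.Away s ⧸ J)) = e.hom := by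
      ext r
      exact k.commutes r
    have h2 : Spec.map (CommRingCat.ofHom k.toRingHom) ≫ z = Y.fromSpecResidueField (f x) := by
      have h3 : Spec.map (CommRingCat.ofHom k.toRingHom) ≫ z₀ = Spec.map e := by
        rw [← Spec.map_comp]
        congr 1
        ext r
        exact k.commutes r
      simp only [z]
      rw [← Category.assoc, h3]
      simp only [e, ← Scheme.germ_residue, Spec.map_comp, Category.assoc]
      rw [Scheme.fromSpecResidueField, ← hV.fromSpecStalk_eq_fromSpecStalk hxV, IsAffineOpen.fromSpecStalk]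
    refine ⟨(Spec.map (CommRingCat.ofHom k.toRingHom)) (IsLocalRing.closedPoint K), ?_⟩
    rw [← Scheme.Hom.comp_apply, h2]
    exact Scheme.fromSpecResidueField_apply _ _
  · have hg : (g.toRingHom).comp φ.hom = algebraMap R (Localization.Away s ⧸ J) := by
      ext r
      exact g.commutes r
    have hc : (Spec.map (CommRingCat.ofHom g.toRingHom) ≫ hU.fromSpec) ≫ f = 𝟙 Z ≫ z := by
      rw [Category.assoc, ← IsAffineOpen.SpecMap_appLE_fromSpec f hV hU hUV, Category.id_comp, ← Category.assoc,
        ← Spec.map_comp]
      simp only [z]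
      congr 2
      ext r
      exact g.commutes r
    exact ⟨pullback.lift _ _ hc, pullback.lift_snd _ _ hc⟩

open AlgebraicGeometry CategoryTheory Limits in
/-- Stacks Tag 0GTL: let f : X → Y be locally of finite presentation with Y quasi-compact and quasi-separated, and assume f is completely decomposed: every point y of Y is the image of a point x at which the residue field extension is trivial. Then there are finitely many immersions Z_i → Y of finite presentation, jointly surjective, such that each base change X ×_Y Z_i → Z_i admits a section. -/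
theorem result {X Y : Scheme.{u}} (f : X ⟶ Y) [LocallyOfFinitePresentation f] [CompactSpace ↑Y] [QuasiSeparatedSpace ↑Y]
    (hcd : ∀ y : Y, ∃ x : X, f x = y ∧ Function.Bijective (f.residueFieldMap x)) :
    ∃ (n : ℕ) (Z : Fin n → Scheme.{u}) (z : ∀ i, Z i ⟶ Y), (∀ y : Y, ∃ i, y ∈ Set.range ⇑(z i)) ∧
      ∀ i, IsImmersion (z i) ∧ LocallyOfFinitePresentation (z i) ∧ QuasiCompact (z i) ∧ QuasiSeparated (z i) ∧
        ∃ s : Z i ⟶ pullback f (z i), s ≫ pullback.snd f (z i) = 𝟙 (Z i) := by
  classical
  choose Z z hc hy h1 h2 h3 h4 h5 using fun y => local_step f y (hcd y)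
  obtain ⟨T, hT⟩ := exists_finite_subcover (fun y => Set.range (z y)) (fun y => by
    have := h2 y
    have := h3 y
    have := (z y).isConstructible_image (s := Set.univ) Topology.IsConstructible.univ
    rwa [Set.image_univ] at this) hy
  refine ⟨T.card, fun i => Z (T.equivFin.symm i), fun i => z (T.equivFin.symm i), ?_, fun i => ⟨h1 _, h2 _, h3 _, h4 _, h5 _⟩⟩
  intro y
  obtain ⟨t, ht, hyt⟩ := hT y
  obtain ⟨i, hi⟩ := T.equivFin.symm.surjective ⟨t, ht⟩
  refine ⟨i, ?_⟩
  change y ∈ Set.range (z (T.equivFin.symm i).1)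
  rw [hi]
  exact hyt

end Groth.Agent.S1440
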