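import Groth.Statements.S1483
import Groth.Agent.Ega1.FibFlat
import Groth.Agent.Ega1.StalkFP
import Mathlib.RingTheory.Flat.Stability
import Mathlib.AlgebraicGeometry.Morphisms.FiniteType

set_option autoImplicit false
universe u
open FlatMor

namespace Groth.Agent.S1483

open AlgebraicGeometry CategoryTheory Limits in
/-- Stacks Tag 039C (critère de platitude par fibres), pointwise equivalence for a module: let f : X → Y be a morphism over S with X locally of finite presentation and Y locally of finite type over S, F a finitely presented quasi-coherent O_X-module, and x a point with images y and s at which the stalk F_x is nonzero. Then F is flat over S at x and F_x / m_s F_x is flat over O_{Y,y} / m_s O_{Y,y} if and only if Y → S is flat at y and F is flat over Y at x. (The source's additional openness of the locus of such x inside the support of F is not restated here; the structure-sheaf companion row carries it for F = O_X.) -/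
theorem result {X Y S : Scheme.{u}} (f : X ⟶ Y) (g : Y ⟶ S) [LocallyOfFinitePresentation (f ≫ g)] [LocallyOfFiniteType g]
    (F : X.Modules) (hq : Coh.IsQCoh F) (hfp : CohB1.IsFP F) (x : X) (hx : Nontrivial ↑(F.presheaf.stalk x)) :
    letI := FlatMod.moduleStalkOver f F x
    (FlatMod.IsFlatOverAt (f ≫ g) F x ∧
      Module.Flat (↑(Y.presheaf.stalk (f x)) ⧸ Ideal.map (g.stalkMap (f x)).hom (IsLocalRing.maximalIdeal ↑(S.presheaf.stalk (g (f x)))))
        (↑(F.presheaf.stalk x) ⧸ (Ideal.map (g.stalkMap (f x)).hom (IsLocalRing.maximalIdeal ↑(S.presheaf.stalk (g (f x)))) •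
          (⊤ : Submodule ↑(Y.presheaf.stalk (f x)) ↑(F.presheaf.stalk x))))) ↔
    ((g.stalkMap (f x)).hom.Flat ∧ FlatMod.IsFlatOverAt f F x) := by
  have hFP : Module.FinitePresentation (X.presheaf.stalk x) (F.presheaf.stalk x) :=
    Groth.Agent.Ega1.StalkFP.finitePresentation_stalk F hq hfp x
  let : Algebra (S.presheaf.stalk (g (f x))) (Y.presheaf.stalk (f x)) := (g.stalkMap (f x)).hom.toAlgebra
  let : Algebra (Y.presheaf.stalk (f x)) (X.presheaf.stalk x) := (f.stalkMap x).hom.toAlgebra
  let : Algebra (S.presheaf.stalk (g (f x))) (X.presheaf.stalk x) := ((f ≫ g).stalkMap x).hom.toAlgebra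
  have : IsScalarTower (S.presheaf.stalk (g (f x))) (Y.presheaf.stalk (f x)) (X.presheaf.stalk x) :=
    IsScalarTower.of_algebraMap_eq' (congrArg CommRingCat.Hom.hom (Scheme.Hom.stalkMap_comp f g x))
  have : IsLocalHom (algebraMap (S.presheaf.stalk (g (f x))) (Y.presheaf.stalk (f x))) :=
    inferInstanceAs (IsLocalHom (g.stalkMap (f x)).hom)
  have : IsLocalHom (algebraMap (Y.presheaf.stalk (f x)) (X.presheaf.stalk x)) :=
    inferInstanceAs (IsLocalHom (f.stalkMap x).hom)
  have hS : Algebra.EssFiniteType (S.presheaf.stalk (g (f x))) (Y.presheaf.stalk (f x)) :=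
    LocallyOfFiniteType.stalkMap g (f x)
  have hS' : CAlgX.IsEssFinitePresentation (S.presheaf.stalk (g (f x))) (X.presheaf.stalk x) :=
    Groth.Agent.Ega1.StalkFP.essFP_stalkMap (f ≫ g) x
  let iM : Module (Y.presheaf.stalk (f x)) (F.presheaf.stalk x) := FlatMod.moduleStalkOver f F x
  let iR : Module (S.presheaf.stalk (g (f x))) (F.presheaf.stalk x) :=
    FlatMod.moduleStalkOver (f ≫ g) F x
  have : IsScalarTower (Y.presheaf.stalk (f x)) (X.presheaf.stalk x) (F.presheaf.stalk x) :=
    ⟨fun a b m => by rw [Algebra.smul_def, mul_smul]; rfl⟩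
  have : IsScalarTower (S.presheaf.stalk (g (f x))) (X.presheaf.stalk x) (F.presheaf.stalk x) :=
    ⟨fun a b m => by rw [Algebra.smul_def, mul_smul]; rfl⟩
  have : IsScalarTower (S.presheaf.stalk (g (f x))) (Y.presheaf.stalk (f x)) (F.presheaf.stalk x) :=
    IsScalarTower.of_algebraMap_smul fun r m => by
      rw [← algebraMap_smul (X.presheaf.stalk x) (algebraMap (S.presheaf.stalk (g (f x)))
        (Y.presheaf.stalk (f x)) r) m, ← IsScalarTower.algebraMap_apply, algebraMap_smul]
  constructor
  · rintro ⟨h1, h2⟩
    have h1' : Module.Flat (S.presheaf.stalk (g (f x))) (F.presheaf.stalk x) := h1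
    exact Groth.Agent.Ega1.FibFlat.flat_of_fibre (S' := X.presheaf.stalk x) hS hS' h2
  · rintro ⟨h1, h2⟩
    have h1' : Module.Flat (S.presheaf.stalk (g (f x))) (Y.presheaf.stalk (f x)) := h1
    have h2' : Module.Flat (Y.presheaf.stalk (f x)) (F.presheaf.stalk x) := h2
    refine ⟨?_, ?_⟩
    · exact (Module.Flat.trans (S.presheaf.stalk (g (f x))) (Y.presheaf.stalk (f x)) (F.presheaf.stalk x) :)
    · let I := Ideal.map (g.stalkMap (f x)).hom
        (IsLocalRing.maximalIdeal ↑(S.presheaf.stalk (g (f x))))
      have h3 : Module.Flat (Y.presheaf.stalk (f x) ⧸ I)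
          (TensorProduct (Y.presheaf.stalk (f x)) (Y.presheaf.stalk (f x) ⧸ I)
            (F.presheaf.stalk x)) := inferInstance
      exact Module.Flat.of_linearEquiv (LinearEquiv.extendScalarsOfSurjective
        (S := Y.presheaf.stalk (f x) ⧸ I) Ideal.Quotient.mk_surjective
        (TensorProduct.quotTensorEquivQuotSMul (F.presheaf.stalk x) I)).symm

end Groth.Agent.S1483
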