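import Groth.Statements.S1441
import Groth.Agent.S1483
import Groth.Agent.Flat2G.FlatLocus
import Groth.Agent.Flat2G.FibreFlatAt
import Groth.Agent.Ega43.FPOfComp

set_option autoImplicit false
universe u
open FlatMor

namespace Groth.Agent.S1441

section helpers

open AlgebraicGeometry CategoryTheory Limits

theorem isFlatOverAt_of_iso {X Y : Scheme.{u}} (f : X ⟶ Y) {F G : X.Modules} (e : F ≅ G) (x : X)
    (h : FlatMod.IsFlatOverAt f F x) : FlatMod.IsFlatOverAt f G x := by
  let σ : F.presheaf.stalk x ≃+ G.presheaf.stalk x :=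
    { toFun := Fdesc.Skyscraper.stalkMap e.hom x
      invFun := Fdesc.Skyscraper.stalkMap e.inv x
      left_inv := fun t => by
        have := Fdesc.Skyscraper.stalkMap_comp e.hom e.inv x
        rw [Iso.hom_inv_id, Fdesc.Skyscraper.stalkMap_id] at this
        exact congr($this t).symm
      right_inv := fun t => by
        have := Fdesc.Skyscraper.stalkMap_comp e.inv e.hom x
        rw [Iso.inv_hom_id, Fdesc.Skyscraper.stalkMap_id] at this
        exact congr($this t).symm
      map_add' := map_add _ }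
  let := FlatMod.moduleStalkOver f F x
  let := FlatMod.moduleStalkOver f G x
  refine (Ega3B.FlatRestrict.flat_iff_of_semilinear (RingEquiv.refl _) σ ?_).mp h
  intro r m
  exact (Fdesc.Skyscraper.stalkMap e.hom x).map_smul ((f.stalkMap x).hom r) m

/-- flatness on the fibre implies flatness (for modules flat over the base) -/
theorem isFlatOverAt_of_fiber {X Y S : Scheme.{u}} (f : X ⟶ Y) (g : Y ⟶ S) [LocallyOfFinitePresentation (f ≫ g)] [LocallyOfFiniteType g]
    (F : X.Modules) (hq : Coh.IsQCoh F) (hfp : CohB1.IsFP F) (s : S) (z : (f ≫ g).fiber s)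
    (hfl : FlatMod.IsFlatOverAt (f ≫ g) F ((f ≫ g).fiberι s z))
    (h : FlatMod.IsFlatOverAt (MoreMor.fiberMap f g s) ((Scheme.Modules.pullback ((f ≫ g).fiberι s)).obj F) z) :
    FlatMod.IsFlatOverAt f F ((f ≫ g).fiberι s z) := by
  by_cases hx : Nontrivial ↑(F.presheaf.stalk ((f ≫ g).fiberι s z))
  · exact ((S1483.result f g F hq hfp _ hx).mp ⟨hfl, Flat2G.FibreFlatAt.flat_quotient_fiber f g F s z h⟩).2
  · rw [not_nontrivial_iff_subsingleton] at hx
    let := FlatMod.moduleStalkOver f F ((f ≫ g).fiberι s z)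
    exact (inferInstance : Module.Flat (Y.presheaf.stalk (f ((f ≫ g).fiberι s z))) (F.presheaf.stalk ((f ≫ g).fiberι s z)))

theorem fiberMap_fiberι {X Y S : Scheme.{u}} (f : X ⟶ Y) (g : Y ⟶ S) (s : S) :
    MoreMor.fiberMap f g s ≫ g.fiberι s = (f ≫ g).fiberι s ≫ f :=
  pullback.lift_fst _ _ _

theorem fiberMap_toSpec {X Y S : Scheme.{u}} (f : X ⟶ Y) (g : Y ⟶ S) (s : S) :
    MoreMor.fiberMap f g s ≫ g.fiberToSpecResidueField s = (f ≫ g).fiberToSpecResidueField s :=
  pullback.lift_snd _ _ _

theorem isPullback_fiberMap_fiberι {X Y S : Scheme.{u}} (f : X ⟶ Y) (g : Y ⟶ S) (s : S) :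
    IsPullback (MoreMor.fiberMap f g s) ((f ≫ g).fiberι s) (g.fiberι s) f := by
  have H2 : IsPullback (g.fiberToSpecResidueField s) (g.fiberι s) (S.fromSpecResidueField s) g :=
    (IsPullback.of_hasPullback g (S.fromSpecResidueField s)).flip
  have H1 : IsPullback (MoreMor.fiberMap f g s ≫ g.fiberToSpecResidueField s) ((f ≫ g).fiberι s)
      (S.fromSpecResidueField s) (f ≫ g) := by
    rw [fiberMap_toSpec]
    exact (IsPullback.of_hasPullback (f ≫ g) (S.fromSpecResidueField s)).flip
  exact IsPullback.of_right H1 (fiberMap_fiberι f g s) H2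

theorem exists_fibTo {X S X' S' : Scheme.{u}} {gX : X' ⟶ X} {f' : X' ⟶ S'} {f : X ⟶ S} {h : S' ⟶ S}
    (hX : IsPullback gX f' f h) (s' : S') :
    ∃ a : f'.fiber s' ⟶ f.fiber (h s'), a ≫ f.fiberι (h s') = f'.fiberι s' ≫ gX ∧
      IsPullback a (f'.fiberToSpecResidueField s') (f.fiberToSpecResidueField (h s')) (Spec.map (h.residueFieldMap s')) :=
  ⟨_, pullback.lift_fst _ _ _, isPullback_fiberToSpecResidueField_of_isPullback hX s'⟩

theorem main {X Y S : Scheme.{u}} (f : X ⟶ Y) (g : Y ⟶ S) [LocallyOfFinitePresentation (f ≫ g)] [LocallyOfFiniteType g]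
    (F : X.Modules) (hq : Coh.IsQCoh F) (hfp : CohB1.IsFP F) (hfl : FlatMod.IsFlatOver (f ≫ g) F)
    {X' Y' S' : Scheme.{u}} (h : S' ⟶ S) (gY : Y' ⟶ Y) (g' : Y' ⟶ S') (hY : IsPullback gY g' g h)
    (gX : X' ⟶ X) (f' : X' ⟶ Y') (hX : IsPullback gX (f' ≫ g') (f ≫ g) h) (w : gX ≫ f = f' ≫ gY)
    (s' : S') (z' : (f' ≫ g').fiber s')
    (H : FlatMod.IsFlatOverAt f' ((Scheme.Modules.pullback gX).obj F) ((f' ≫ g').fiberι s' z')) :
    FlatMod.IsFlatOverAt f F (gX ((f' ≫ g').fiberι s' z')) := by
  -- step 1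
  have H1 := Fdesc.FlatBC.isFlatOverAt_pullback (isPullback_fiberMap_fiberι f' g' s').flip _ z' H
  -- the maps of fibres
  obtain ⟨a, ha1, PX⟩ := exists_fibTo hX s'
  obtain ⟨b, hb1, PY⟩ := exists_fibTo hY s'
  -- step 3: the square of maps of fibres
  have PF : IsPullback a (MoreMor.fiberMap f' g' s') (MoreMor.fiberMap f g (h s')) b := by
    rw [← fiberMap_toSpec f g, ← fiberMap_toSpec f' g'] at PX
    refine IsPullback.of_bot PX ?_ PY
    apply (IsPullback.of_hasPullback g (S.fromSpecResidueField (h s'))).hom_ext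
    · have e1 : (a ≫ MoreMor.fiberMap f g (h s')) ≫ g.fiberι (h s') =
          (MoreMor.fiberMap f' g' s' ≫ b) ≫ g.fiberι (h s') := by
        rw [Category.assoc, Category.assoc, fiberMap_fiberι, hb1, ← Category.assoc, ha1, Category.assoc, w,
          ← Category.assoc (MoreMor.fiberMap f' g' s'), fiberMap_fiberι, Category.assoc]
      exact e1
    · have e2 : (a ≫ MoreMor.fiberMap f g (h s')) ≫ g.fiberToSpecResidueField (h s') =
          (MoreMor.fiberMap f' g' s' ≫ b) ≫ g.fiberToSpecResidueField (h s') := by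
        rw [Category.assoc, Category.assoc, PY.w]
        exact PX.w.trans (Category.assoc _ _ _)
      exact e2
  have : Flat b := by
    have : Flat (Spec.map (h.residueFieldMap s')) := inferInstance
    exact MorphismProperty.of_isPullback PY.flip this
  let e : (Scheme.Modules.pullback ((f' ≫ g').fiberι s')).obj ((Scheme.Modules.pullback gX).obj F) ≅
      (Scheme.Modules.pullback a).obj ((Scheme.Modules.pullback ((f ≫ g).fiberι (h s'))).obj F) :=
    (Scheme.Modules.pullbackComp ((f' ≫ g').fiberι s') gX).app F ≪≫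
      (Scheme.Modules.pullbackCongr ha1.symm).app F ≪≫
      ((Scheme.Modules.pullbackComp a ((f ≫ g).fiberι (h s'))).app F).symm
  have H2 := isFlatOverAt_of_iso _ e z' H1
  have H3 := Fdesc.FlatBC.isFlatOverAt_of_pullback PF _ z' H2
  have H4 := isFlatOverAt_of_fiber f g F hq hfp (h s') (a z') (hfl _) H3
  have H5 : (f ≫ g).fiberι (h s') (a z') = gX ((f' ≫ g').fiberι s' z') := congr($ha1 z')
  rwa [H5] at H4

end helpers

open AlgebraicGeometry CategoryTheory Limits in
/-- Stacks Tag 05VJ: let f : X → Y be a morphism over S with X locally of finite presentation and Y locally of finite type over S, and F a finitely presented quasi-coherent O_X-module flat over S. Then the set U of points where F is flat over Y is open in X, and for any base change S' → S (with X', Y', F' the base changes) the corresponding set for F' over Y' is the preimage of U. -/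
theorem result {X Y S : Scheme.{u}} (f : X ⟶ Y) (g : Y ⟶ S) [LocallyOfFinitePresentation (f ≫ g)] [LocallyOfFiniteType g]
    (F : X.Modules) (hq : Coh.IsQCoh F) (hfp : CohB1.IsFP F) (hfl : FlatMod.IsFlatOver (f ≫ g) F) :
    IsOpen {x : ↑X | FlatMod.IsFlatOverAt f F x} ∧
      ∀ {X' Y' S' : Scheme.{u}} (h : S' ⟶ S) (gY : Y' ⟶ Y) (g' : Y' ⟶ S') (hY : IsPullback gY g' g h)
        (gX : X' ⟶ X) (f' : X' ⟶ Y') (hX : IsPullback gX (f' ≫ g') (f ≫ g) h) (w : gX ≫ f = f' ≫ gY),
        {x' : ↑X' | FlatMod.IsFlatOverAt f' ((Scheme.Modules.pullback gX).obj F) x'} = gX ⁻¹' {x : ↑X | FlatMod.IsFlatOverAt f F x} := by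
  constructor
  · have : LocallyOfFinitePresentation f := Ega43.FPOfComp.locallyOfFinitePresentation_of_comp f g
    exact Flat2G.FlatLocus.isOpen_flatLocus f F hq hfp
  · intro X' Y' S' h gY g' hY gX f' hX w
    have P : IsPullback gX f' f gY := IsPullback.of_bot (hX.flip.flip) w hY
    ext x'
    constructor
    · intro H
      have h1 : (f' ≫ g').fiberι ((f' ≫ g') x') ((f' ≫ g').asFiber x') = x' := (f' ≫ g').fiberι_asFiber x'
      have H' : FlatMod.IsFlatOverAt f' ((Scheme.Modules.pullback gX).obj F)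
          ((f' ≫ g').fiberι ((f' ≫ g') x') ((f' ≫ g').asFiber x')) := by
        rw [h1]
        exact H
      have := main f g F hq hfp hfl h gY g' hY gX f' hX w _ _ H'
      rw [h1] at this
      exact this
    · intro H
      exact Fdesc.FlatBC.isFlatOverAt_pullback P F x' H

end Groth.Agent.S1441
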