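import Groth.Statements.S1445
import Groth.Agent.Flat2G.FinModel
import Groth.Agent.Flat2G.UnivFin

set_option autoImplicit false
universe u
open FlatMor

namespace Groth.Agent.S1445

open AlgebraicGeometry CategoryTheory Limits TensorProduct

/-- The standard model of a pullback over affine schemes. -/
lemma isPullback_model {X Y Y' : Scheme.{u}} (f : X ⟶ Y) [IsAffine X] [IsAffine Y] (b : Y' ⟶ Y)
    (A' : Type u) [CommRing A'] [Algebra Γ(Y, ⊤) A'] (e' : Spec (.of A') ≅ Y')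
    (h : e'.hom ≫ b = Spec.map (CommRingCat.ofHom (algebraMap Γ(Y, ⊤) A')) ≫ Y.isoSpec.inv) :
    letI : Algebra Γ(Y, ⊤) Γ(X, ⊤) := f.appTop.hom.toAlgebra
    IsPullback (Spec.map (CommRingCat.ofHom
        (Algebra.TensorProduct.includeLeftRingHom : Γ(X, ⊤) →+* Γ(X, ⊤) ⊗[Γ(Y, ⊤)] A')) ≫ X.isoSpec.inv)
      (Spec.map (CommRingCat.ofHom (Algebra.TensorProduct.includeRight :
        A' →ₐ[Γ(Y, ⊤)] Γ(X, ⊤) ⊗[Γ(Y, ⊤)] A').toRingHom) ≫ e'.hom) f b := by
  let : Algebra Γ(Y, ⊤) Γ(X, ⊤) := f.appTop.hom.toAlgebra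
  have h1 := Groth.Agent.Flat2G.UnivFin.isPullback_tensor (A := Γ(Y, ⊤)) (B := Γ(X, ⊤)) A'
  refine IsPullback.of_iso h1 (Iso.refl _) X.isoSpec.symm e' Y.isoSpec.symm ?_ ?_ ?_ ?_
  · simp
  · simp
  · exact Scheme.isoSpec_inv_naturality f
  · simp [h]

lemma isFinite_transfer {P Q Y : Scheme.{u}} (θ : P ⟶ Q) [IsIso θ] (q : Q ⟶ Y) (p : P ⟶ Y) (h : θ ≫ q = p)
    (D : Q.Opens) : IsFinite ((θ ⁻¹ᵁ D).ι ≫ p) ↔ IsFinite (D.ι ≫ q) := by
  have h1 : (θ ⁻¹ᵁ D).ι ≫ p = (θ ∣_ D) ≫ D.ι ≫ q := by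
    rw [← Category.assoc, morphismRestrict_ι, Category.assoc, h]
  rw [h1]
  exact MorphismProperty.cancel_left_of_respectsIso @IsFinite _ _

lemma key_lemma {P Q X Y Y' Yu : Scheme.{u}} {f : X ⟶ Y} {b : Y' ⟶ Y} {a : Yu ⟶ Y} {p : P ⟶ X} {q : P ⟶ Y'}
    (hP : IsPullback p q f b) {pu : Q ⟶ X} {qu : Q ⟶ Yu} (hPu : IsPullback pu qu f a) (c : Y' ⟶ Yu)
    (h₁ : f ≫ 𝟙 Y = 𝟙 X ≫ f) (h₂ : b ≫ 𝟙 Y = c ≫ a) (m : P ⟶ Q) (hm₁ : m ≫ pu = p) (hm₂ : m ≫ qu = q ≫ c) :
    hP.isoPullback.hom ≫ pullback.map f b f a (𝟙 X) c (𝟙 Y) h₁ h₂ ≫ hPu.isoPullback.inv = m := by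
  rw [← Category.assoc, Iso.comp_inv_eq]
  apply pullback.hom_ext
  · have h3 : pullback.map f b f a (𝟙 X) c (𝟙 Y) h₁ h₂ ≫ pullback.fst f a = pullback.fst f b := by
      rw [pullback.map]
      exact (pullback.lift_fst _ _ _).trans (Category.comp_id _)
    rw [Category.assoc, Category.assoc, h3, hPu.isoPullback_hom_fst, hP.isoPullback_hom_fst, hm₁]
  · have h3 : pullback.map f b f a (𝟙 X) c (𝟙 Y) h₁ h₂ ≫ pullback.snd f a = pullback.snd f b ≫ c := by
      rw [pullback.map]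
      exact pullback.lift_snd _ _ _
    rw [Category.assoc, Category.assoc, h3, hPu.isoPullback_hom_snd, hm₂, hP.isoPullback_hom_snd_assoc]

open AlgebraicGeometry CategoryTheory Limits in
/-- Stacks Tag 0F3N: let f : X → Y be quasi-finite and of finite presentation with X and Y affine. Then there are a morphism Y_u → Y of finite presentation and an open U_u of Y_u ×_Y X finite over Y_u such that for every morphism Y' → Y with Y' affine and every open U' of Y' ×_Y X finite over Y', some morphism Y' → Y_u over Y pulls U_u back to U'. -/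
theorem result {X Y : Scheme.{u}} (f : X ⟶ Y) [IsAffine X] [IsAffine Y] [LocallyQuasiFinite f] [LocallyOfFinitePresentation f] :
    ∃ (Yu : Scheme.{u}) (a : Yu ⟶ Y) (Uu : (pullback f a).Opens), LocallyOfFinitePresentation a ∧ QuasiCompact a ∧ QuasiSeparated a ∧
      IsFinite (Uu.ι ≫ pullback.snd f a) ∧
      ∀ (Y' : Scheme.{u}) (b : Y' ⟶ Y) (U' : (pullback f b).Opens), IsAffine Y' → IsFinite (U'.ι ≫ pullback.snd f b) →
        ∃ (c : Y' ⟶ Yu) (hc : c ≫ a = b),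
          (pullback.map f b f a (𝟙 X) c (𝟙 Y) ((Category.comp_id f).trans (Category.id_comp f).symm) ((Category.comp_id b).trans hc.symm)) ⁻¹ᵁ Uu = U' := by
  let : Algebra Γ(Y, ⊤) Γ(X, ⊤) := f.appTop.hom.toAlgebra
  have hqf : Algebra.QuasiFinite Γ(Y, ⊤) Γ(X, ⊤) :=
    (HasRingHomProperty.iff_of_isAffine (P := @LocallyQuasiFinite)).mp (inferInstance : LocallyQuasiFinite f)
  have hfp : Algebra.FinitePresentation Γ(Y, ⊤) Γ(X, ⊤) :=
    (HasRingHomProperty.iff_of_isAffine (P := @LocallyOfFinitePresentation)).mp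
      (inferInstance : LocallyOfFinitePresentation f)
  obtain ⟨C, _, _, j, _, _, _⟩ := Groth.Agent.Flat2G.FinModel.exists_finite_model (A := Γ(Y, ⊤)) (B := Γ(X, ⊤))
  obtain ⟨Au, _, _, e, hAu, hfin, huniv⟩ := Groth.Agent.Flat2G.UnivFin.exists_versal (A := Γ(Y, ⊤)) (B := Γ(X, ⊤)) j
  let a : Spec (.of Au) ⟶ Y := Spec.map (CommRingCat.ofHom (algebraMap Γ(Y, ⊤) Au)) ≫ Y.isoSpec.inv
  have hPu := isPullback_model f a Au (Iso.refl _) (by simp [a])
  let θu := hPu.isoPullback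
  have ha : LocallyOfFinitePresentation a := by
    have : LocallyOfFinitePresentation (Spec.map (CommRingCat.ofHom (algebraMap Γ(Y, ⊤) Au))) := by
      rw [HasRingHomProperty.Spec_iff (P := @LocallyOfFinitePresentation)]
      exact RingHom.finitePresentation_algebraMap.mpr hAu
    infer_instance
  refine ⟨Spec (.of Au), a, θu.inv ⁻¹ᵁ (PrimeSpectrum.basicOpen e : (Spec (.of (Γ(X, ⊤) ⊗[Γ(Y, ⊤)] Au))).Opens), ha,
    inferInstance, inferInstance, ?_, ?_⟩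
  · refine (isFinite_transfer θu.inv (Spec.map (CommRingCat.ofHom (Algebra.TensorProduct.includeRight :
        Au →ₐ[Γ(Y, ⊤)] Γ(X, ⊤) ⊗[Γ(Y, ⊤)] Au).toRingHom)) (pullback.snd f a) ?_ _).mpr hfin
    rw [Iso.inv_comp_eq, hPu.isoPullback_hom_snd]
    simp
  · intro Y' b U' hY' hU'
    let : Algebra Γ(Y, ⊤) Γ(Y', ⊤) := b.appTop.hom.toAlgebra
    have hP := isPullback_model f b Γ(Y', ⊤) Y'.isoSpec.symm (Scheme.isoSpec_inv_naturality b).symm
    let θ := hP.isoPullback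
    have hθ : IsFinite ((θ.hom ⁻¹ᵁ U').ι ≫ Spec.map (CommRingCat.ofHom (Algebra.TensorProduct.includeRight :
        Γ(Y', ⊤) →ₐ[Γ(Y, ⊤)] Γ(X, ⊤) ⊗[Γ(Y, ⊤)] Γ(Y', ⊤)).toRingHom)) := by
      have h1 := (isFinite_transfer θ.hom (pullback.snd f b) _ rfl U').mpr hU'
      rw [hP.isoPullback_hom_snd, ← Category.assoc] at h1
      exact (MorphismProperty.cancel_right_of_respectsIso @IsFinite _ _).mp h1
    obtain ⟨φ, hφ⟩ := huniv Γ(Y', ⊤) (θ.hom ⁻¹ᵁ U') hθ
    let c : Y' ⟶ Spec (.of Au) := Y'.isoSpec.hom ≫ Spec.map (CommRingCat.ofHom φ.toRingHom)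
    have hc : c ≫ a = b := by
      have h2 : Spec.map (CommRingCat.ofHom φ.toRingHom) ≫ Spec.map (CommRingCat.ofHom (algebraMap Γ(Y, ⊤) Au)) =
          Spec.map b.appTop := by
        rw [← Spec.map_comp, ← CommRingCat.ofHom_comp]
        congr 1
        ext x
        exact φ.commutes x
      simp only [c, a, Category.assoc]
      rw [reassoc_of% h2, Scheme.isoSpec_inv_naturality, Iso.hom_inv_id_assoc]
    refine ⟨c, hc, ?_⟩
    have key : θ.hom ≫ pullback.map f b f a (𝟙 X) c (𝟙 Y) ((Category.comp_id f).trans (Category.id_comp f).symm)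
        ((Category.comp_id b).trans hc.symm) ≫ θu.inv =
        Spec.map (CommRingCat.ofHom (Algebra.TensorProduct.map (AlgHom.id Γ(Y, ⊤) Γ(X, ⊤)) φ).toRingHom) := by
      refine key_lemma hP hPu c _ _ _ ?_ ?_
      · rw [← Category.assoc, ← Spec.map_comp, ← CommRingCat.ofHom_comp]
        congr 3
        ext x
        simp
      · simp only [c, Iso.symm_hom, Iso.refl_hom, Category.assoc, Iso.inv_hom_id_assoc]
        rw [Category.comp_id, ← Spec.map_comp, ← Spec.map_comp, ← CommRingCat.ofHom_comp, ← CommRingCat.ofHom_comp]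
        congr 2
    have h3 : θ.hom ⁻¹ᵁ ((pullback.map f b f a (𝟙 X) c (𝟙 Y) ((Category.comp_id f).trans (Category.id_comp f).symm)
        ((Category.comp_id b).trans hc.symm)) ⁻¹ᵁ (θu.inv ⁻¹ᵁ
          (PrimeSpectrum.basicOpen e : (Spec (.of (Γ(X, ⊤) ⊗[Γ(Y, ⊤)] Au))).Opens))) = θ.hom ⁻¹ᵁ U' := by
      rw [hφ, ← Scheme.Hom.comp_preimage, ← Scheme.Hom.comp_preimage, Category.assoc, key]
      rfl
    have h4 := congrArg (fun W => θ.inv ⁻¹ᵁ W) h3
    simp only [← Scheme.Hom.comp_preimage θ.inv θ.hom, Iso.inv_hom_id, Scheme.Hom.id_preimage] at h4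
    exact h4

end Groth.Agent.S1445
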