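import Groth.Statements.S1446
import Groth.Agent.Flat2G.RelAssSch
import Groth.Agent.Flat2G.AffPrimes
import Groth.Agent.CohqB.FiniteType2

set_option autoImplicit false
universe u
open FlatMor

namespace Groth.Agent.S1446

open AlgebraicGeometry CategoryTheory Limits in
/-- Stacks Tag 05F1: let f : X → S be locally of finite type, F a quasi-coherent O_X-module of finite type, and ξ a point of the relative assassin of F with closure Z. Then there is a nonempty subset V of Z, open in Z, such that for every point x of V, if x is a generic point of an irreducible component of the fibre of V through x then x lies in the relative assassin of F. -/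
theorem result {X S : Scheme.{u}} (f : X ⟶ S) [LocallyOfFiniteType f]
    (F : X.Modules) (hF : Coh.IsCoh F) (ξ : X) (hξ : ξ ∈ MoreMor.relAss f F) :
    ∃ V : Set ↑X, V ⊆ closure {ξ} ∧ IsOpen (Subtype.val ⁻¹' V : Set ↑(closure ({ξ} : Set ↑X))) ∧ V.Nonempty ∧
      ∀ (x : X) (hx : x ∈ V), (∃ C ∈ irreducibleComponents ↑(V ∩ f ⁻¹' {f x}), IsGenericPoint (⟨x, hx, rfl⟩ : ↑(V ∩ f ⁻¹' {f x})) C) →
        x ∈ MoreMor.relAss f F := by
  obtain ⟨W, hW, hξW, -⟩ := exists_isAffineOpen_mem_and_subset (X := S) (x := f ξ) (U := ⊤) trivial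
  obtain ⟨U, hU, hξU, hUW⟩ := exists_isAffineOpen_mem_and_subset (X := X) (x := ξ) (U := f ⁻¹ᵁ W) hξW
  have e : U ≤ f ⁻¹ᵁ W := hUW
  have hq := hF.1
  have hfin : Module.Finite Γ(X, U) Γ(F, U) := CohqB.FiniteType2.finite_sections_of_isFT F hF.2 hU
  let _ := (f.appLE W U e).hom.toAlgebra
  have hft : Algebra.FiniteType Γ(S, W) Γ(X, U) := f.finiteType_appLE hW hU e
  have hRA := (Flat2G.RelAssSch.mem_relAss_iff f F hF.1 hU hW e ξ hξU).mp hξ
  obtain ⟨g, hg, hgen⟩ := Flat2G.GenericAss.exists_generic_RA (A := Γ(S, W)) (B := Γ(X, U)) (M := Γ(F, U))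
    (hU.primeIdealOf ⟨ξ, hξU⟩).asIdeal hRA
  have hmem : ∀ (z : X) (hz : z ∈ U), z ∈ X.basicOpen g ↔ g ∉ (hU.primeIdealOf ⟨z, hz⟩).asIdeal :=
    fun z hz => Fdesc.QCohStalk.mem_basicOpen_iff hU z hz g
  refine ⟨closure {ξ} ∩ X.basicOpen g, Set.inter_subset_left, ?_, ⟨ξ, subset_closure rfl, (hmem ξ hξU).mpr hg⟩, ?_⟩
  · have : (Subtype.val ⁻¹' (closure {ξ} ∩ (X.basicOpen g : Set X)) : Set ↑(closure ({ξ} : Set ↑X))) =
        Subtype.val ⁻¹' (X.basicOpen g : Set X) := by
      ext z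
      simp [z.2]
    rw [this]
    exact (X.basicOpen g).isOpen.preimage continuous_subtype_val
  · rintro x hx ⟨C, hC, hxC⟩
    have hxU : x ∈ U := X.basicOpen_le g hx.2
    refine (Flat2G.RelAssSch.mem_relAss_iff f F hF.1 hU hW e x hxU).mpr ?_
    refine hgen _ (hU.primeIdealOf ⟨x, hxU⟩).isPrime ?_ ((hmem x hxU).mp hx.2) ?_
    · rw [Flat2G.AffPrimes.primeIdealOf_le_iff hU]
      exact specializes_iff_mem_closure.mpr hx.1
    · intro x' hx' hqx' hx'x hunder
      let z : X := hU.fromSpec ⟨x', hx'⟩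
      have hzU : z ∈ U := Flat2G.AffPrimes.fromSpec_mem hU _
      have hzx' : (hU.primeIdealOf ⟨z, hzU⟩).asIdeal = x' := by
        rw [Flat2G.AffPrimes.primeIdealOf_fromSpec hU ⟨x', hx'⟩]
      have hzx : z ⤳ x := by
        rw [← Flat2G.AffPrimes.primeIdealOf_le_iff hU z x hzU hxU, hzx']
        exact hx'x
      have hξz : ξ ⤳ z := by
        rw [← Flat2G.AffPrimes.primeIdealOf_le_iff hU ξ z hξU hzU, hzx']
        exact hqx'
      have hzg : z ∈ X.basicOpen g := by
        rw [hmem z hzU, hzx']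
        exact fun h => (hmem x hxU).mp hx.2 (hx'x h)
      have hfz : f z = f x := by
        apply Flat2G.AffPrimes.primeIdealOf_injective hW (f z) (f x) (e hzU) (e hxU)
        rw [← Flat2G.RelAssSch.primeIdealOf_under f hU hW e z hzU, ← Flat2G.RelAssSch.primeIdealOf_under f hU hW e x hxU, hzx']
        exact hunder
      have hz : z ∈ closure {ξ} ∩ (X.basicOpen g : Set X) := ⟨specializes_iff_mem_closure.mp hξz, hzg⟩
      have heq := Flat2G.AffPrimes.eq_of_specializes_of_isGenericPoint hC hxC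
        (z := (⟨z, hz, hfz⟩ : ↑((closure {ξ} ∩ (X.basicOpen g : Set X)) ∩ f ⁻¹' {f x})))
        (Topology.IsInducing.subtypeVal.specializes_iff.mp hzx)
      have heq' : z = x := congrArg Subtype.val heq
      have : ∀ (w : X) (hw : w ∈ U), w = x → (hU.primeIdealOf ⟨w, hw⟩).asIdeal = (hU.primeIdealOf ⟨x, hxU⟩).asIdeal := by
        rintro w hw rfl
        rfl
      rw [← hzx']
      exact this z hzU heq'

end Groth.Agent.S1446
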