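import Groth.Statements.S1447
import Groth.Agent.Flat2G.FibreDegreeF

set_option autoImplicit false
universe u
open FlatMor

namespace Groth.Agent.S1447

open AlgebraicGeometry CategoryTheory Limits in
/-- Stacks Tag 07RY: for a separated, flat, locally quasi-finite morphism f : X → S which is locally of finite presentation, assume the fibres of f over all field-valued points have rank (of their ring of global functions) at most n. Then there is a function deg : S → ℕ bounded by n with every sublevel set {deg ≤ r} closed (equivalently a chain of closed subsets ∅ ⊂ Z_0 ⊂ ... ⊂ Z_n = S with strata {deg = r}) such that for every morphism g : T → S and every r, the base change of f to T is finite locally free of degree r if and only if deg ∘ g is constant with value r. -/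
theorem result {X S : Scheme.{u}} (f : X ⟶ S) [Flat f] [LocallyOfFinitePresentation f] [IsSeparated f] [LocallyQuasiFinite f]
    (n : ℕ) (hn : ∀ (K : Type u) [Field K] (g : Spec (CommRingCat.of K) ⟶ S), (letI := ((Scheme.ΓSpecIso (CommRingCat.of K)).inv ≫ (pullback.snd f g).appTop).hom.toAlgebra
        Module.rank K (Γ(pullback f g, ⊤) : Type u)) ≤ (n : Cardinal.{u})) :
    ∃ deg : ↑S → ℕ, (∀ s, deg s ≤ n) ∧ (∀ r : ℕ, IsClosed {s : ↑S | deg s ≤ r}) ∧
      ∀ (T : Scheme.{u}) (g : T ⟶ S) (r : ℕ), Mor2.IsFinLocFreeOfDeg r (pullback.snd f g) ↔ ∀ t : T, deg (g t) = r := by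
  have hb : ∀ (s : S) (d : ℕ), Flat2G.FibreDegreeC.Good f d s → d ≤ n := by
    intro s d hd
    obtain ⟨K, _, γ, p, rfl⟩ := Flat2G.FibreDegreeB.exists_field_point s
    have sq := IsPullback.of_hasPullback f γ
    have h1 := (Flat2G.FibreDegreeD.good_iff_le_rkS sq p).mp hd
    rw [Flat2G.FibreDegreeA.rkS_top_eq] at h1
    exact_mod_cast h1.trans (hn K γ)
  have hbdd : ∀ s, BddAbove {d | Flat2G.FibreDegreeC.Good f d s} := fun s => ⟨n, fun d hd => hb s d hd⟩
  refine ⟨Flat2G.FibreDegreeF.deg f, fun s => ?_, fun r => ?_, fun T g r => ?_⟩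
  · exact hb s _ ((Flat2G.FibreDegreeF.le_deg_iff f (hbdd s) _).mp le_rfl)
  · exact Flat2G.FibreDegreeF.isClosed_deg_le f hbdd r
  · exact Flat2G.FibreDegreeE.isFinLocFreeOfDeg_iff f _
      (fun s d => Flat2G.FibreDegreeF.le_deg_iff f (hbdd s) d) T g r

end Groth.Agent.S1447
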