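import Groth.Statements.S1448
import Groth.Agent.Flat2G.FibreDegreeG

set_option autoImplicit false
universe u
open FlatMor

namespace Groth.Agent.S1448

open AlgebraicGeometry CategoryTheory Limits in
/-- Stacks Tag 07RZ: consider a separated, flat, quasi-compact and locally quasi-finite morphism f : X → S which is locally of finite presentation. Then there is a function deg : S → ℕ with every sublevel set {deg ≤ r} closed and every level set retrocompact, such that for every morphism g : T → S and every r, the base change of f to T is finite locally free of degree r if and only if deg ∘ g is constant with value r. -/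
theorem result {X S : Scheme.{u}} (f : X ⟶ S) [Flat f] [LocallyOfFinitePresentation f] [IsSeparated f] [LocallyQuasiFinite f] [QuasiCompact f] :
    ∃ deg : ↑S → ℕ, (∀ r : ℕ, IsClosed {s : ↑S | deg s ≤ r}) ∧ (∀ r : ℕ, IsRetrocompact {s : ↑S | deg s = r}) ∧
      ∀ (T : Scheme.{u}) (g : T ⟶ S) (r : ℕ), Mor2.IsFinLocFreeOfDeg r (pullback.snd f g) ↔ ∀ t : T, deg (g t) = r := by
  have hbdd := Flat2G.FibreDegreeF.bddAbove_of_quasiCompact f
  refine ⟨Flat2G.FibreDegreeF.deg f, fun r => ?_, fun r => ?_, fun T g r => ?_⟩
  · exact Flat2G.FibreDegreeF.isClosed_deg_le f hbdd r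
  · exact Flat2G.FibreDegreeG.isRetrocompact_deg_eq f r
  · exact Flat2G.FibreDegreeE.isFinLocFreeOfDeg_iff f _
      (fun s d => Flat2G.FibreDegreeF.le_deg_iff f (hbdd s) d) T g r

end Groth.Agent.S1448
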