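import Groth.Statements.S1449
import Groth.Agent.Flat2G.FibreDegreeD

set_option autoImplicit false
universe u
open FlatMor

namespace Groth.Agent.S1449

open AlgebraicGeometry CategoryTheory Limits in
/-- Stacks Tag 086R: consider a separated, flat, locally quasi-finite morphism f : X → S which is locally of finite presentation. Then there are opens S = U_0 ⊇ U_1 ⊇ U_2 ⊇ ... of S with the property that a morphism from the spectrum of a field to S lands in U_d exactly when the base change of X to that field has rank (of its ring of global functions over the field) at least d. -/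
theorem result {X S : Scheme.{u}} (f : X ⟶ S) [Flat f] [LocallyOfFinitePresentation f] [IsSeparated f] [LocallyQuasiFinite f] :
    ∃ U : ℕ → S.Opens, Antitone U ∧ U 0 = ⊤ ∧ ∀ (K : Type u) [Field K] (g : Spec (CommRingCat.of K) ⟶ S) (d : ℕ),
      Set.range ⇑g ⊆ (U d : Set ↑S) ↔ (d : Cardinal.{u}) ≤ (letI := ((Scheme.ΓSpecIso (CommRingCat.of K)).inv ≫ (pullback.snd f g).appTop).hom.toAlgebra
        Module.rank K (Γ(pullback f g, ⊤) : Type u)) := by
  refine ⟨fun d => ⟨{s | Flat2G.FibreDegreeC.Good f d s}, Flat2G.FibreDegreeC.isOpen_good f d⟩,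
    fun d e hde s hs => Flat2G.FibreDegreeC.Good.mono hde hs, ?_, ?_⟩
  · ext s
    exact ⟨fun _ => trivial, fun _ => Flat2G.FibreDegreeC.Good.zero f s⟩
  · intro K _ g d
    rw [← Flat2G.FibreDegreeA.rkS_top_eq]
    let p : Spec (CommRingCat.of K) := IsLocalRing.closedPoint K
    rw [← Flat2G.FibreDegreeD.good_iff_le_rkS (IsPullback.of_hasPullback f g) p]
    refine ⟨fun h => h ⟨p, rfl⟩, ?_⟩
    rintro h _ ⟨p', rfl⟩
    rw [Flat2G.FibreDegreeD.eq_of_field p' p]
    exact h

end Groth.Agent.S1449
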