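import Groth.Statements.S1452
import Groth.Agent.S1451
import Groth.Agent.Flat2G.EtaleSource

set_option autoImplicit false
universe u
open FlatMor

namespace Groth.Agent.S1452


open AlgebraicGeometry CategoryTheory Limits in
/-- Stacks Tag 0GSA: let f : X → Y and g : Y → Z with Y integral and the local ring of Y at y = f x geometrically unibranch; assume g ∘ f is étale on an open neighbourhood of x and some generization of x maps to the generic point of Y. Then f is étale on an open neighbourhood of x and g is étale on an open neighbourhood of y. -/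
theorem result {X Y Z : Scheme.{u}} (f : X ⟶ Y) (g : Y ⟶ Z) [IsIntegral Y] (x : X)
    (hY : CAlg2.IsGeomUnibranch (Y.presheaf.stalk (f x))) (het : ∃ U : X.Opens, x ∈ U ∧ Etale (U.ι ≫ f ≫ g))
    (hsp : ∃ x' : X, x' ⤳ x ∧ f x' = genericPoint ↑Y) :
    (∃ U : X.Opens, x ∈ U ∧ Etale (U.ι ≫ f)) ∧ ∃ V : Y.Opens, f x ∈ V ∧ Etale (V.ι ≫ g) := by
  obtain ⟨U, hxU, hU⟩ := het
  -- f is unramified and of finite type near x
  have hft : LocallyOfFiniteType ((U.ι ≫ f) ≫ g) := by rw [Category.assoc]; infer_instance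
  have hftf : LocallyOfFiniteType (U.ι ≫ f) := locallyOfFiniteType_of_comp (U.ι ≫ f) g
  have hunr : FormallyUnramified ((U.ι ≫ f) ≫ g) := by rw [Category.assoc]; infer_instance
  have hunrf : FormallyUnramified (U.ι ≫ f) := FormallyUnramified.of_comp (U.ι ≫ f) g
  obtain ⟨x', hx', hfx'⟩ := hsp
  have hx'U : x' ∈ U := hx'.mem_open U.2 hxU
  obtain ⟨W', hxW', hW'⟩ := S1451.result (U.ι ≫ f) (⟨x, hxU⟩ : U.toScheme) hY
    ⟨⟨x', hx'U⟩, by
      rw [← U.ι.isOpenEmbedding.isEmbedding.isInducing.specializes_iff]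
      exact hx', hfx'⟩
    ⟨⊤, trivial, MorphismProperty.comp_mem @FormallyUnramified _ _ inferInstance hunrf⟩
  let W : X.Opens := U.ι ''ᵁ W'
  have hxW : x ∈ W := ⟨⟨x, hxU⟩, hxW', rfl⟩
  have hWU : W ≤ U := by
    rintro _ ⟨y, -, rfl⟩
    exact y.2
  have hWf : Etale (W.ι ≫ f) := by
    have h1 : (U.ι.isoImage W').inv ≫ W'.ι ≫ U.ι ≫ f = W.ι ≫ f := by
      rw [← Scheme.Hom.isoImage_inv_ι]
      simp only [Category.assoc]
    rw [← h1]
    infer_instance
  refine ⟨⟨W, hxW, hWf⟩, ?_⟩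
  have hWfg : Etale (W.ι ≫ f ≫ g) := by
    rw [← X.homOfLE_ι hWU, Category.assoc]
    infer_instance
  let V : Y.Opens := ⟨Set.range (W.ι ≫ f), (W.ι ≫ f).isOpenMap.isOpen_range⟩
  refine ⟨V, ⟨⟨x, hxW⟩, rfl⟩, ?_⟩
  let l : (W : Scheme.{u}) ⟶ V := IsOpenImmersion.lift V.ι (W.ι ≫ f) (by
    rw [Scheme.Opens.range_ι]
    exact subset_rfl)
  have hl : l ≫ V.ι = W.ι ≫ f := IsOpenImmersion.lift_fac _ _ _
  have hle : Etale l := by
    have : Etale (l ≫ V.ι) := by rw [hl]; exact hWf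
    exact Etale.of_comp l V.ι
  have hls : Surjective l := by
    refine ⟨fun v => ?_⟩
    obtain ⟨w, hw⟩ := v.2
    refine ⟨w, ?_⟩
    apply V.ι.isOpenEmbedding.injective
    rw [← Scheme.Hom.comp_apply, hl, hw]
    rfl
  have : Etale (l ≫ V.ι ≫ g) := by
    rw [← Category.assoc, hl, Category.assoc]
    exact hWfg
  exact Flat2G.EtaleSource.etale_of_comp l (V.ι ≫ g)

end Groth.Agent.S1452
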