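import Groth.Statements.S1455
import Groth.Agent.Flat2G.FlatStratAlg
import Groth.Agent.Flat2G.StratGlue
import Groth.Agent.Flat2G.FlatPull
import Groth.Agent.CohqA.FinSec
import Groth.Agent.Divis.IdealFT

set_option autoImplicit false
universe u
open FlatMor

namespace Groth.Agent.S1455

open AlgebraicGeometry CategoryTheory Limits Groth.Agent.Flat2G.FlatPull Groth.Agent.Flat2G.FlatStratAlg
  Groth.Agent.Flat2G.StratGlue in
/-- affine opens with finitely presented sections -/
theorem exists_affine_fp {X : Scheme.{u}} (F : X.Modules) (hq : Coh.IsQCoh F) (hfp : CohB1.IsFP F)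
    (W : X.Opens) (x : X) (hx : x ∈ W) : ∃ V : X.Opens, IsAffineOpen V ∧ x ∈ V ∧ V ≤ W ∧
      Module.FinitePresentation Γ(X, V) Γ(F, V) := by
  obtain ⟨U, hxU, hU⟩ := (Groth.Agent.CohqA.FinLocal.isFP_iff F).mp hfp x
  obtain ⟨_, ⟨V, hV, rfl⟩, hxV, hVU⟩ :=
    X.isBasis_affineOpens.exists_subset_of_mem_open (show x ∈ U ⊓ W from ⟨hxU, hx⟩) (U ⊓ W).2
  exact ⟨V, hV, hxV, fun y hy => (hVU hy).2, (Groth.Agent.CohqA.AffSec.gfp_iff hV hq).mp
    (Groth.Agent.CohqA.FinSec.gfp_of_le (fun y hy => (hVU hy).1) hU)⟩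

open AlgebraicGeometry CategoryTheory Limits Groth.Agent.Flat2G.FlatPull Groth.Agent.Flat2G.FlatStratAlg
  Groth.Agent.Flat2G.StratGlue in
/-- finite affine cover of a preimage with finitely presented sections -/
theorem exists_finite_cover {X S : Scheme.{u}} (f : X ⟶ S) [QuasiCompact f]
    (F : X.Modules) (hq : Coh.IsQCoh F) (hfp : CohB1.IsFP F) (U : S.Opens) (hU : IsAffineOpen U) :
    ∃ (n : ℕ) (V : Fin n → X.Opens), (∀ j, IsAffineOpen (V j)) ∧ (∀ j, V j ≤ f ⁻¹ᵁ U) ∧
      (∀ j, Module.FinitePresentation Γ(X, V j) Γ(F, V j)) ∧ ∀ x ∈ f ⁻¹ᵁ U, ∃ j, x ∈ V j := by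
  classical
  have hc : IsCompact ((f ⁻¹ᵁ U : X.Opens) : Set X) := f.isCompact_preimage hU.isCompact
  choose V hV hxV hVU hVfp using fun x : (f ⁻¹ᵁ U : X.Opens) =>
    exists_affine_fp F hq hfp (f ⁻¹ᵁ U) x.1 x.2
  obtain ⟨t, ht⟩ := hc.elim_finite_subcover (fun x => (V x : Set X)) (fun x => (V x).2)
    (fun x hx => Set.mem_iUnion.mpr ⟨⟨x, hx⟩, hxV ⟨x, hx⟩⟩)
  refine ⟨t.card, fun j => V (t.equivFin.symm j), fun j => hV _, fun j => hVU _, fun j => hVfp _,
    fun x hx => ?_⟩
  have := ht hx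
  simp only [Set.mem_iUnion] at this
  obtain ⟨y, hy, hxy⟩ := this
  exact ⟨t.equivFin ⟨y, hy⟩, by simpa using hxy⟩

open AlgebraicGeometry CategoryTheory Limits Groth.Agent.Flat2G.FlatPull Groth.Agent.Flat2G.FlatStratAlg
  Groth.Agent.Flat2G.StratGlue TensorProduct in
/-- flatness of the pull back to a stratum -/
theorem isFlatOver_stratum {X S : Scheme.{u}} (f : X ⟶ S) (F : X.Modules) (hq : Coh.IsQCoh F)
    (I J : S.IdealSheafData) (U : S.affineOpens)
    (hIJ : (I.support : Set S) \ (J.support : Set S) ⊆ ((U : S.Opens) : Set S))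
    {n : ℕ} (V : Fin n → X.Opens) (hV : ∀ j, IsAffineOpen (V j)) (hVU : ∀ j, V j ≤ f ⁻¹ᵁ U)
    (hcov : ∀ x ∈ f ⁻¹ᵁ U, ∃ j, x ∈ V j)
    (hP : ∀ j, letI := moduleOver f (hVU j) F
      FlatOn Γ(S, U) (I.ideal U) (J.ideal U) Γ(F, V j)) :
    FlatMod.IsFlatOver
        (pullback.snd f ((I.subschemeι ⁻¹ᵁ J.support.compl).ι ≫ I.subschemeι))
        ((Scheme.Modules.pullback (pullback.fst f ((I.subschemeι ⁻¹ᵁ J.support.compl).ι ≫
          I.subschemeι))).obj F) := by
  intro x'
  let g : (I.subschemeι ⁻¹ᵁ J.support.compl : Scheme.{u}) ⟶ S :=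
    (I.subschemeι ⁻¹ᵁ J.support.compl).ι ≫ I.subschemeι
  let p := pullback.fst f g
  let q := pullback.snd f g
  have hcond : f (p x') = g (q x') := by
    rw [← Scheme.Hom.comp_apply, ← Scheme.Hom.comp_apply, pullback.condition]
  have hgI : g (q x') ∈ I.support := by
    have : g (q x') ∈ Set.range I.subschemeι := ⟨_, rfl⟩
    rwa [Scheme.IdealSheafData.range_subschemeι] at this
  have hgJ : g (q x') ∉ J.support := (q x').2
  have hgU : g (q x') ∈ (U : S.Opens) := hIJ ⟨hgI, hgJ⟩
  obtain ⟨j, hj⟩ := hcov (p x') (show f (p x') ∈ (U : S.Opens) by rw [hcond]; exact hgU)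
  refine isFlatOverAt_of_flat (IsPullback.of_hasPullback f g) x' U.2 (hV j) (hVU j) hj hgU F hq ?_
  letI := (toStalk (q x') g U hgU).hom.toAlgebra
  letI := moduleOver f (hVU j) F
  refine hP j _ ?_ ?_
  · rw [Ideal.map_eq_bot_iff_le_ker]
    intro s hs
    have h1 : I.subschemeι.app U s = 0 := by
      have := I.ker_subschemeι_app U
      rw [← this] at hs
      exact hs
    have h6 : g.app U s = 0 := by
      change (I.subschemeι ⁻¹ᵁ J.support.compl).ι.app _ (I.subschemeι.app U s) = 0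
      rw [h1, map_zero]
    change (I.subschemeι ⁻¹ᵁ J.support.compl : Scheme.{u}).presheaf.germ _ _ hgU
      (g.app U s) = 0
    rw [h6, map_zero]
  · have h2 := (J.mem_support_iff_of_mem (U := U) hgU).not.mp hgJ
    rw [Scheme.mem_zeroLocus_iff] at h2
    push Not at h2
    obtain ⟨s, hs, hgs⟩ := h2
    rw [Ideal.eq_top_iff_one]
    have h3 : IsUnit (toStalk (q x') g U hgU s) := by
      have h4 : q x' ∈ (I.subschemeι ⁻¹ᵁ J.support.compl : Scheme.{u}).basicOpen (g.app U s) := by
        rw [← Scheme.preimage_basicOpen]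
        exact hgs
      exact (Scheme.mem_basicOpen (I.subschemeι ⁻¹ᵁ J.support.compl : Scheme.{u}) (g.app U s)
        (q x') hgU).mp h4
    have h5 : toStalk (q x') g U hgU s ∈ (J.ideal U).map (algebraMap Γ(S, U) _) :=
      Ideal.mem_map_of_mem _ hs
    exact (Ideal.eq_top_iff_one _).mp (Ideal.eq_top_of_isUnit_mem _ h5 h3)

open AlgebraicGeometry CategoryTheory Limits in
/-- Stacks Tag 0ASY (generic flatness stratification): let f : X → S be of finite presentation with X and S quasi-compact and quasi-separated, and F a finitely presented quasi-coherent O_X-module. Then there are t ≥ 0 and ideal sheaves I_0 ≤ I_1 ≤ ... ≤ I_t = O_S on S, each of finite type, with I_0 cutting out a thickening of S (its support is all of S), such that for each i the pullback of F to the part of X over the locally closed stratum supp(I_i) ∖ supp(I_{i+1}) is flat over that stratum. -/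
theorem result {X S : Scheme.{u}} (f : X ⟶ S) [LocallyOfFinitePresentation f] [QuasiCompact f] [QuasiSeparated f]
    [CompactSpace ↑S] [QuasiSeparatedSpace ↑S] (F : X.Modules) (hq : Coh.IsQCoh F) (hfp : CohB1.IsFP F) :
    ∃ (t : ℕ) (I : Fin (t + 1) → S.IdealSheafData), Monotone I ∧ I (Fin.last t) = ⊤ ∧ ((I 0).support : Set ↑S) = Set.univ ∧
      (∀ i, ∀ U : S.affineOpens, ((I i).ideal U).FG) ∧
      ∀ i : Fin t, FlatMod.IsFlatOver
        (pullback.snd f (((I i.castSucc).subschemeι ⁻¹ᵁ (I i.succ).support.compl).ι ≫ (I i.castSucc).subschemeι))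
        ((Scheme.Modules.pullback (pullback.fst f (((I i.castSucc).subschemeι ⁻¹ᵁ (I i.succ).support.compl).ι ≫ (I i.castSucc).subschemeι))).obj F) := by
  classical
  -- finite affine cover of the base
  obtain ⟨t, ht⟩ := (isCompact_univ : IsCompact (Set.univ : Set S)).elim_finite_subcover
    (fun U : S.affineOpens => ((U : S.Opens) : Set S)) (fun U => U.1.2) (fun x _ => by
      obtain ⟨_, ⟨V, hV, rfl⟩, hxV, -⟩ :=
        S.isBasis_affineOpens.exists_subset_of_mem_open (Set.mem_univ x) isOpen_univ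
      exact Set.mem_iUnion.mpr ⟨⟨V, hV⟩, hxV⟩)
  let U : t → S.affineOpens := fun a => a.1
  have hU : ⨆ a, (U a : S.Opens) = ⊤ := by
    rw [eq_top_iff]
    intro x _
    have := ht (Set.mem_univ x)
    simp only [Set.mem_iUnion] at this
    obtain ⟨V, hV, hxV⟩ := this
    exact TopologicalSpace.Opens.mem_iSup.mpr ⟨⟨V, hV⟩, hxV⟩
  choose n V hV hVU hVfp hcov using fun a : t => exists_finite_cover f F hq hfp (U a) (U a).2
  let P : ∀ a : t, Ideal Γ(S, (U a : S.Opens)) → Ideal Γ(S, (U a : S.Opens)) → Prop :=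
    fun a I J => ∀ j, letI := Groth.Agent.Flat2G.FlatPull.moduleOver f (hVU a j) F
      Groth.Agent.Flat2G.FlatStratAlg.FlatOn Γ(S, U a) I J Γ(F, V a j)
  obtain ⟨k, I, hmono, hlast, hsupp, hFT, hI⟩ :=
    Groth.Agent.Flat2G.StratGlue.exists_stratification U P
      (fun I W hW hIW => Groth.Agent.Divis.IdealFT.exists_ft_eqOn I W hW hIW)
      (fun a I I' J J' h h1 h2 j => by
        letI := Groth.Agent.Flat2G.FlatPull.moduleOver f (hVU a j) F
        exact (h j).mono' h1 h2)
      (fun a J j => by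
        letI := Groth.Agent.Flat2G.FlatPull.moduleOver f (hVU a j) F
        intro C _ _ h1 h2
        rw [Ideal.map_top] at h1
        haveI : Subsingleton C := by
          refine subsingleton_of_zero_eq_one ?_
          have h3 : (1 : C) ∈ (⊥ : Ideal C) := h1.le Submodule.mem_top
          exact ((Submodule.mem_bot _).mp h3).symm
        haveI : Subsingleton (TensorProduct Γ(S, (U a : S.Opens)) C Γ(F, V a j)) :=
          Module.subsingleton C _
        infer_instance)
      (fun a => by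
        letI : ∀ j, Algebra Γ(S, (U a : S.Opens)) Γ(X, V a j) := fun j =>
          (f.appLE (U a) (V a j) (hVU a j)).hom.toAlgebra
        letI : ∀ j, Module Γ(S, (U a : S.Opens)) Γ(F, V a j) := fun j =>
          Groth.Agent.Flat2G.FlatPull.moduleOver f (hVU a j) F
        haveI : ∀ j, IsScalarTower Γ(S, (U a : S.Opens)) Γ(X, V a j) Γ(F, V a j) := fun j =>
          IsScalarTower.of_algebraMap_smul fun r x => rfl
        haveI : ∀ j, Algebra.FinitePresentation Γ(S, (U a : S.Opens)) Γ(X, V a j) := fun j =>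
          f.finitePresentation_appLE (U a).2 (hV a j) (hVU a j)
        haveI := hVfp a
        exact Groth.Agent.Flat2G.FlatStratAlg.exists_flat_chain (A := Γ(S, (U a : S.Opens)))
          (B := fun j => Γ(X, V a j)) (M := fun j => Γ(F, V a j))) hU
  refine ⟨k, I, hmono, hlast, hsupp, hFT, fun i => ?_⟩
  obtain ⟨a, ha, hPa⟩ := hI i
  exact isFlatOver_stratum f F hq (I i.castSucc) (I i.succ) (U a) ha (V a) (hV a) (hVU a) (hcov a) hPa

end Groth.Agent.S1455
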