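import Groth.Statements.S1456
import Groth.Agent.Flat2G.StratAffine

set_option autoImplicit false
universe u
open FlatMor

namespace Groth.Agent.S1456

open AlgebraicGeometry CategoryTheory Limits Groth.Agent.Flat2G.StratBase Groth.Agent.Flat2G.StratField
  Groth.Agent.Flat2G.StratSpread Groth.Agent.Flat2G.PITower Groth.Agent.Flat2G.StratAffine in
lemma aux {X S : Scheme.{u}} (f : X ⟶ S) [LocallyOfFinitePresentation f] [QuasiCompact f] [QuasiSeparated f]
    (η : S) (hη : IsField (S.presheaf.stalk η)) :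
    ∃ (U : S.Opens) (V : Scheme.{u}) (v : V ⟶ (U : Scheme.{u})), η ∈ U ∧ Good v ∧
      HasSmoothStrat (pullback.snd f (v ≫ U.ι)) := by
  -- an affine neighbourhood in which every prime number which is zero at `η` is zero
  obtain ⟨U₀, hU₀, hηU, hprime⟩ : ∃ U₀ : S.Opens, IsAffineOpen U₀ ∧ η ∈ U₀ ∧
      ∀ q : ℕ, q.Prime → (q : S.presheaf.stalk η) = 0 → (q : Γ(S, U₀)) = 0 := by
    by_cases hex : ∃ q : ℕ, q.Prime ∧ (q : S.presheaf.stalk η) = 0
    · obtain ⟨q, hq, hq0⟩ := hex
      have h1 : (S.presheaf.germ ⊤ η trivial).hom (q : Γ(S, ⊤)) = (S.presheaf.germ ⊤ η trivial).hom 0 := by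
        rw [map_natCast, map_zero]
        exact hq0
      obtain ⟨W', hηW', iU, iV, h2⟩ := S.presheaf.germ_eq (U := ⊤) (V := ⊤) η trivial trivial _ _ h1
      obtain ⟨U₀, hU₀, hηU₀, hUW⟩ := exists_isAffineOpen_mem_and_subset (U := W') (x := η) hηW'
      refine ⟨U₀, hU₀, hηU₀, fun q' hq' hq'0 ↦ ?_⟩
      obtain rfl : q' = q := by
        by_contra hne
        have hcop : Nat.Coprime q' q := (Nat.coprime_primes hq' hq).mpr hne
        have h3 : ((1 : ℤ) : S.presheaf.stalk η) = 0 := by
          have h4 := Int.gcd_eq_gcd_ab q' q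
          rw [Int.gcd_natCast_natCast, hcop.gcd_eq_one] at h4
          have h5 := congr_arg (Int.cast : ℤ → S.presheaf.stalk η) h4
          push_cast at h5 ⊢
          rw [h5, hq0, hq'0]
          ring
        have : Nontrivial (S.presheaf.stalk η) := hη.nontrivial
        simp at h3
      have h6 := congr_arg (S.presheaf.map (homOfLE (show U₀ ≤ W' from hUW)).op).hom h2
      simp only [map_natCast, map_zero] at h6
      exact h6
    · obtain ⟨U₀, hU₀, hηU₀, -⟩ := exists_isAffineOpen_mem_and_subset (U := ⊤) (x := η) trivial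
      exact ⟨U₀, hU₀, hηU₀, fun q hq hq0 ↦ absurd ⟨q, hq, hq0⟩ hex⟩
  let A := Γ(S, U₀)
  let _ : Algebra A (S.presheaf.stalk η) := TopCat.Presheaf.algebra_section_stalk S.presheaf ⟨η, hηU⟩
  have hloc : IsLocalization.AtPrime (S.presheaf.stalk η) (hU₀.primeIdealOf ⟨η, hηU⟩).asIdeal :=
    hU₀.isLocalization_stalk ⟨η, hηU⟩
  have key : ∀ (K : Type u) [CommRing K] [Algebra A K] (_ : IsField K)
      (_ : ∀ q : ℕ, q.Prime → (q : K) = 0 → (q : A) = 0)
      (_ : IsLocalization (hU₀.primeIdealOf ⟨η, hηU⟩).asIdeal.primeCompl K),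
      ∃ m ∈ (hU₀.primeIdealOf ⟨η, hηU⟩).asIdeal.primeCompl, ∃ (V : Scheme.{u})
        (v : V ⟶ Spec (CommRingCat.of (Localization.Away m))), Good v ∧
        HasSmoothStrat (pullback.snd (pullback.snd f hU₀.fromSpec) (v ≫ specAway m)) := by
    intro K iK iA hK hqK hlocK
    obtain ⟨F, hF⟩ : ∃ F : Field K, F.toCommRing = iK := ⟨hK.toField, rfl⟩
    subst hF
    have : CompactSpace ↥(pullback f hU₀.fromSpec) :=
      QuasiCompact.compactSpace_of_compactSpace (pullback.snd f hU₀.fromSpec)
    have : QuasiSeparatedSpace ↥(pullback f hU₀.fromSpec) :=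
      quasiSeparatedSpace_of_quasiSeparated (pullback.snd f hU₀.fromSpec)
    exact exists_good_hasSmoothStrat (A := A) (K := K) _ hqK (pullback.snd f hU₀.fromSpec)
  obtain ⟨m, hm, V, v, hv, hstrat⟩ := key (S.presheaf.stalk η) hη hprime hloc
  let j : Spec (CommRingCat.of (Localization.Away m)) ⟶ S := specAway m ≫ hU₀.fromSpec
  refine ⟨j.opensRange, V, v ≫ j.isoOpensRange.hom, ?_, ?_, ?_⟩
  · have h1 : hU₀.primeIdealOf ⟨η, hηU⟩ ∈
        Set.range (PrimeSpectrum.comap (algebraMap A (Localization.Away m))) := by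
      rw [PrimeSpectrum.localization_away_comap_range (Localization.Away m) m]
      exact hm
    obtain ⟨y, hy⟩ := h1
    refine ⟨y, ?_⟩
    change (specAway m ≫ hU₀.fromSpec) y = η
    rw [Scheme.Hom.comp_apply, show specAway m y = hU₀.primeIdealOf ⟨η, hηU⟩ from hy]
    exact hU₀.fromSpec_primeIdealOf ⟨η, hηU⟩
  · exact hv.comp ⟨inferInstance, inferInstance, inferInstance, inferInstance, inferInstance⟩
  · refine hasSmoothStrat_of_isPullback_of_isPullback
      (isPullback_snd_snd f hU₀.fromSpec (v ≫ specAway m)) (.of_hasPullback _ _) ?_ hstrat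
    simp [j]

open AlgebraicGeometry CategoryTheory Limits in
/-- Stacks Tag 0H43: for f : X → S of finite presentation with S reduced and for η generic in an irreducible component of S, there are an open U ∋ η of S, a morphism V → U which is finite locally free, surjective and universally injective, and, on X_V = X ×_S V, ideal sheaves J_0 ≤ J_1 ≤ ... ≤ J_t = O of finite type with J_0 cutting out a thickening of X_V, such that each locally closed stratum supp(J_i) ∖ supp(J_{i+1}), as a subscheme of the closed subscheme cut out by J_i, is smooth over V. -/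
theorem result {X S : Scheme.{u}} (f : X ⟶ S) [LocallyOfFinitePresentation f] [QuasiCompact f] [QuasiSeparated f] [IsReduced S]
    (η : S) (W : Set ↑S) (hW : W ∈ irreducibleComponents ↑S) (hη : IsGenericPoint η W) :
    ∃ (U : S.Opens) (V : Scheme.{u}) (v : V ⟶ (U : Scheme.{u})), η ∈ U ∧ Surjective v ∧ UniversallyInjective v ∧ Mor2.IsFinLocFree v ∧
      ∃ (t : ℕ) (J : Fin (t + 1) → (pullback f (v ≫ U.ι)).IdealSheafData), Monotone J ∧ J (Fin.last t) = ⊤ ∧
        ((J 0).support : Set ↑(pullback f (v ≫ U.ι))) = Set.univ ∧ (∀ i, ∀ O : (pullback f (v ≫ U.ι)).affineOpens, ((J i).ideal O).FG) ∧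
        ∀ i : Fin t, Smooth (((J i.castSucc).subschemeι ⁻¹ᵁ (J i.succ).support.compl).ι ≫ (J i.castSucc).subschemeι ≫ pullback.snd f (v ≫ U.ι)) := by
  have hcl : closure {η} ∈ irreducibleComponents S := by
    have : closure {η} = W := hη
    rw [this]
    exact hW
  obtain ⟨U, V, v, h1, h2, t, J, h3, h4, h5, h6, h7⟩ :=
    aux f η (isField_stalk_of_closure_mem_irreducibleComponents S η hcl)
  refine ⟨U, V, v, h1, h2.surj, h2.inj, ⟨h2.finite, h2.flat, h2.lfp⟩, t, J, h3, h4, h5, h6, fun i ↦ ?_⟩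
  have := h7 i
  rw [Category.assoc] at this
  exact this

end Groth.Agent.S1456
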