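import Groth.Statements.S1458
import Mathlib.RingTheory.Finiteness.ModuleFinitePresentation
import Mathlib.LinearAlgebra.TensorProduct.RightExactness
import Mathlib.LinearAlgebra.TensorProduct.Pi

set_option autoImplicit false
universe u
open FlatMor

namespace Groth.Agent.S1458

open TensorProduct in
theorem exists_rep {A M A' : Type u} [CommRing A] [AddCommGroup M] [Module A M] [CommRing A'] [Algebra A A']
    {n : ℕ} (f : (Fin n → A) →ₗ[A] M) (hf : Function.Surjective f) (e : M ⊗[A] A') :
    ∃ x : Fin n → A', e = ∑ i, f (Pi.single i 1) ⊗ₜ[A] x i := by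
  induction e with
  | zero => exact ⟨0, by simp⟩
  | add a b ha hb =>
    obtain ⟨x, rfl⟩ := ha
    obtain ⟨y, rfl⟩ := hb
    exact ⟨x + y, by simp [TensorProduct.tmul_add, Finset.sum_add_distrib]⟩
  | tmul m a =>
    obtain ⟨v, rfl⟩ := hf m
    refine ⟨fun i => v i • a, ?_⟩
    conv_lhs => rw [← Finset.univ_sum_single v, map_sum, TensorProduct.sum_tmul]
    refine Finset.sum_congr rfl fun i _ => ?_
    rw [← TensorProduct.smul_tmul, ← map_smul]
    congr 2
    ext j
    by_cases h : j = i
    · subst h; simp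
    · simp [Pi.single_eq_of_ne h]

open TensorProduct in
theorem exists_coeff {A M A' : Type u} [CommRing A] [AddCommGroup M] [Module A M] [CommRing A'] [Algebra A A']
    {n m : ℕ} (f : (Fin n → A) →ₗ[A] M) (hf : Function.Surjective f)
    (g : (Fin m → A) →ₗ[A] (Fin n → A)) (hfg : Function.Exact g f) (y : Fin n → A')
    (hy : ∑ k, f (Pi.single k 1) ⊗ₜ[A] y k = 0) :
    ∃ a : Fin m → A', ∀ k, y k = ∑ l, algebraMap A A' (g (Pi.single l 1) k) * a l := by
  set z : (Fin n → A) ⊗[A] A' := ∑ k, (Pi.single k 1) ⊗ₜ[A] y k with hz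
  have h1 : f.rTensor A' z = 0 := by
    simp only [hz, map_sum, LinearMap.rTensor_tmul]
    exact hy
  obtain ⟨w, hw⟩ := (rTensor_exact A' hfg hf z).1 h1
  obtain ⟨a, rfl⟩ := exists_rep (A' := A') (LinearMap.id : (Fin m → A) →ₗ[A] _) Function.surjective_id w
  refine ⟨a, fun k => ?_⟩
  have h2 := congrArg (TensorProduct.lift ((LinearMap.lsmul A A').comp (LinearMap.proj k : (Fin n → A) →ₗ[A] A))) hw
  simp only [map_sum, LinearMap.rTensor_tmul, TensorProduct.lift.tmul, hz, LinearMap.id_apply,
    LinearMap.comp_apply, LinearMap.proj_apply, LinearMap.lsmul_apply, Algebra.smul_def] at h2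
  rw [h2, Finset.sum_eq_single k]
  · simp
  · intro b _ hb
    simp [Pi.single_eq_of_ne (Ne.symm hb)]
  · simp


open TensorProduct in
/-- Stacks Tag 0F3M: let A → B be a finite ring map of finite presentation. Then there are a finitely presented A-algebra A_u and an idempotent e_u of B ⊗_A A_u such that for every A-algebra A' and every idempotent e of B ⊗_A A' there is an A-algebra map A_u → A' whose induced map B ⊗ A_u → B ⊗ A' sends e_u to e. -/
theorem result {A B : Type u} [CommRing A] [CommRing B] [Algebra A B] [Module.Finite A B] [Algebra.FinitePresentation A B] :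
    ∃ (Au : Type u) (_ : CommRing Au) (_ : Algebra A Au) (eu : B ⊗[A] Au), Algebra.FinitePresentation A Au ∧ IsIdempotentElem eu ∧
      ∀ (A' : Type u) [CommRing A'] [Algebra A A'] (e : B ⊗[A] A'), IsIdempotentElem e →
        ∃ φ : Au →ₐ[A] A', Algebra.TensorProduct.map (AlgHom.id A B) φ eu = e := by
  have : Module.FinitePresentation A B := Module.FinitePresentation.of_finite_of_finitePresentation A B
  obtain ⟨n, m, f, g, hf, hfg⟩ := Module.FinitePresentation.exists_fin' A B
  let b : Fin n → B := fun i => f (Pi.single i 1)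
  have hb : ∀ x : B, ∃ v : Fin n → A, x = ∑ i, v i • b i := by
    intro x
    obtain ⟨v, rfl⟩ := hf x
    refine ⟨v, ?_⟩
    conv_lhs => rw [← Finset.univ_sum_single v, map_sum]
    refine Finset.sum_congr rfl fun i _ => ?_
    simp only [b]
    rw [← map_smul]
    congr 1
    ext j
    by_cases h : j = i
    · subst h; simp
    · simp [Pi.single_eq_of_ne h]
  choose c hc using fun i j => hb (b i * b j)
  let P : Type u := MvPolynomial (Fin n ⊕ Fin m) A
  let X : Fin n → P := fun i => MvPolynomial.X (Sum.inl i)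
  let Y : Fin m → P := fun l => MvPolynomial.X (Sum.inr l)
  let rel : Fin n → P := fun k => (∑ i, ∑ j, X i * X j * algebraMap A P (c i j k)) - X k -
    ∑ l, algebraMap A P (g (Pi.single l 1) k) * Y l
  let I : Ideal P := Ideal.span (Set.range rel)
  have hI : I.FG := Submodule.fg_span (Set.finite_range rel)
  -- general computation
  have key : ∀ (A' : Type u) [CommRing A'] [Algebra A A'] (x : Fin n → A'),
      (∑ i, b i ⊗ₜ[A] x i) * (∑ i, b i ⊗ₜ[A] x i) - (∑ i, b i ⊗ₜ[A] x i) =
        ∑ k, b k ⊗ₜ[A] ((∑ i, ∑ j, x i * x j * algebraMap A A' (c i j k)) - x k) := by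
    intro A' _ _ x
    rw [Finset.sum_mul_sum]
    simp only [Algebra.TensorProduct.tmul_mul_tmul, hc, TensorProduct.sum_tmul,
      TensorProduct.tmul_sub, Finset.sum_sub_distrib, TensorProduct.tmul_sum]
    congr 1
    have : ∀ i j k, (c i j k • b k) ⊗ₜ[A] (x i * x j) = b k ⊗ₜ[A] (x i * x j * algebraMap A A' (c i j k)) := by
      intro i j k
      rw [TensorProduct.smul_tmul, Algebra.smul_def, mul_comm]
    simp only [this]
    rw [Finset.sum_comm (s := Finset.univ (α := Fin n)) (t := Finset.univ (α := Fin n))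
      (f := fun k i => ∑ j, b k ⊗ₜ[A] (x i * x j * algebraMap A A' (c i j k)))]
    refine Finset.sum_congr rfl fun i _ => ?_
    rw [Finset.sum_comm]
  have hrel : ∀ l, ∑ k, (g (Pi.single l 1) k) • b k = 0 := by
    intro l
    have h1 : f (g (Pi.single l 1)) = 0 := (hfg _).2 ⟨_, rfl⟩
    conv_lhs at h1 => rw [← Finset.univ_sum_single (g (Pi.single l 1)), map_sum]
    rw [← h1]
    refine Finset.sum_congr rfl fun i _ => ?_
    simp only [b]
    rw [← map_smul]
    congr 1
    ext j
    by_cases h : j = i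
    · subst h; simp
    · simp [Pi.single_eq_of_ne h]
  refine ⟨P ⧸ I, inferInstance, inferInstance, ∑ i, b i ⊗ₜ[A] (Ideal.Quotient.mk I (X i)), ?_, ?_, ?_⟩
  · exact Algebra.FinitePresentation.quotient hI
  · rw [IsIdempotentElem, ← sub_eq_zero, key]
    have h1 : ∀ k, ((∑ i, ∑ j, (Ideal.Quotient.mk I (X i)) * (Ideal.Quotient.mk I (X j)) * algebraMap A (P ⧸ I) (c i j k)) - (Ideal.Quotient.mk I (X k))) =
        ∑ l, algebraMap A (P ⧸ I) (g (Pi.single l 1) k) * Ideal.Quotient.mk I (Y l) := by
      intro k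
      have h2 : Ideal.Quotient.mk I (rel k) = 0 := Ideal.Quotient.eq_zero_iff_mem.2 (Ideal.subset_span ⟨k, rfl⟩)
      simp only [rel, map_sub, map_sum, map_mul] at h2
      rw [sub_eq_zero] at h2
      exact h2
    simp only [h1, TensorProduct.tmul_sum]
    rw [Finset.sum_comm]
    refine Finset.sum_eq_zero fun l _ => ?_
    have : ∀ k, b k ⊗ₜ[A] (algebraMap A (P ⧸ I) (g (Pi.single l 1) k) * Ideal.Quotient.mk I (Y l)) =
        ((g (Pi.single l 1) k) • b k) ⊗ₜ[A] (Ideal.Quotient.mk I (Y l)) := by
      intro k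
      rw [TensorProduct.smul_tmul]
      congr 1
      exact (Algebra.smul_def _ _).symm
    simp only [this]
    rw [← TensorProduct.sum_tmul, hrel, TensorProduct.zero_tmul]
  · intro A' _ _ e he
    obtain ⟨x, rfl⟩ := exists_rep f hf e
    rw [IsIdempotentElem, ← sub_eq_zero, key] at he
    obtain ⟨a, ha⟩ := exists_coeff f hf g hfg _ he
    let ψ : P →ₐ[A] A' := MvPolynomial.aeval (Sum.elim x a)
    have hX : ∀ i, ψ (X i) = x i := fun i => MvPolynomial.aeval_X _ _
    have hY : ∀ i, ψ (Y i) = a i := fun i => MvPolynomial.aeval_X _ _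
    have hψ : ∀ p ∈ I, ψ p = 0 := by
      intro p hp
      have : I ≤ RingHom.ker ψ.toRingHom := by
        rw [Ideal.span_le]
        rintro _ ⟨k, rfl⟩
        simp only [SetLike.mem_coe, RingHom.mem_ker, AlgHom.toRingHom_eq_coe, RingHom.coe_coe]
        simp only [rel, map_sub, map_sum, map_mul, AlgHom.commutes]
        simp only [hX, hY]
        rw [ha k, sub_self]
      exact this hp
    refine ⟨Ideal.Quotient.liftₐ I ψ hψ, ?_⟩
    rw [map_sum]
    refine Finset.sum_congr rfl fun i _ => ?_
    rw [Algebra.TensorProduct.map_tmul]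
    change b i ⊗ₜ[A] (ψ (X i)) = _
    rw [hX]

end Groth.Agent.S1458
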