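import Groth.Statements.S1461
import Groth.Agent.S0434
import Groth.Agent.Flat2G.ApproxGeom

set_option autoImplicit false
universe u
open FlatMor

namespace Groth.Agent.S1461

open AlgebraicGeometry CategoryTheory Limits in
/-- Stacks Tag 05FG: let f : X → S be a morphism of finite presentation between affine schemes whose fibres are geometrically reduced. Then f is the base change of a morphism of finite type f₀ : X₀ → S₀ between affine schemes with S₀ of finite type over ℤ, where f₀ can be chosen with the same property. -/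
theorem result {X S : Scheme.{u}} (f : X ⟶ S) [IsAffine X] [IsAffine S] [LocallyOfFinitePresentation f] [GeometricallyReduced f] :
    ∃ (X₀ S₀ : Scheme.{u}) (f₀ : X₀ ⟶ S₀) (g : S ⟶ S₀) (g' : X ⟶ X₀), IsAffine X₀ ∧ IsAffine S₀ ∧ IsPullback g' f f₀ g ∧
      Algebra.FiniteType ℤ Γ(S₀, ⊤) ∧ LocallyOfFiniteType f₀ ∧ GeometricallyReduced f₀ := by
  have hP := Flat2G.ApproxGeom.fibrewiseProp.{u} Flat2G.ApproxGeom.descendsField_isReduced (by
    intro X Y f _ _ _ _ _ h
    obtain ⟨V, hV, hf⟩ := S0434.result f ((geometricallyReduced_iff _).mpr h)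
    exact ⟨V, hV, (geometricallyReduced_iff _).mp hf⟩)
  obtain ⟨X₀, S₀, f₀, g, g', h1, h2, h3, h4, h5, h6⟩ := Flat2G.ApproxProp.approx hP f ((geometricallyReduced_iff _).mp ‹_›)
  exact ⟨X₀, S₀, f₀, g, g', h1, h2, h3, h4, h5, (geometricallyReduced_iff _).mpr h6⟩

end Groth.Agent.S1461
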