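import Groth.Statements.S1470
import Groth.Agent.Flat2G.RelAssVal8
import Groth.Agent.Flat2G.RelAssSch
import Groth.Agent.Flat2G.AffPrimes
import Groth.Agent.CohqB.FiniteType2
import Groth.Agent.Flat2C.FlatSec
import Groth.Agent.Flat2D.RelDimClosure
import Groth.Agent.Flat2D.RelDimClosure2
import Groth.Agent.CycB.RelDim
-- import your own Groth.Agent.* helpers here

set_option autoImplicit false
universe u
open FlatMor

namespace Groth.Agent.S1470


open AlgebraicGeometry CategoryTheory Limits in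
theorem main {X S : Scheme.{u}} (f : X ⟶ S) [LocallyOfFiniteType f]
    (F : X.Modules) (hF : Coh.IsCoh F) (y : X) (hy : y ∈ MoreMor.relAss f F) (x : X) (hx : x ∈ closure ({y} : Set ↑X))
    (hgen : ∃ C ∈ irreducibleComponents ↑(closure ({y} : Set ↑X) ∩ f ⁻¹' {f x}),
      IsGenericPoint (⟨x, hx, rfl⟩ : ↑(closure ({y} : Set ↑X) ∩ f ⁻¹' {f x})) C)
    (hfl : FlatMod.IsFlatOverAt f F x) :
    x ∈ MoreMor.relAss f F ∧ Groth.Agent.CycB.RelDim.rtd f x ≤ Groth.Agent.CycB.RelDim.rtd f y := by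
  obtain ⟨W, hW, hxW, -⟩ := exists_isAffineOpen_mem_and_subset (X := S) (x := f x) (U := ⊤) trivial
  obtain ⟨U, hU, hxU, hUW⟩ := exists_isAffineOpen_mem_and_subset (X := X) (x := x) (U := f ⁻¹ᵁ W) hxW
  have e : U ≤ f ⁻¹ᵁ W := hUW
  have hyx : y ⤳ x := specializes_iff_mem_closure.mpr hx
  have hyU : y ∈ U := hyx.mem_open U.isOpen hxU
  have hqc : Coh.IsQCoh F := hF.1
  have hfin : Module.Finite Γ(X, U) Γ(F, U) := CohqB.FiniteType2.finite_sections_of_isFT F hF.2 hU
  let i1 : Algebra Γ(S, W) Γ(X, U) := Flat2C.FlatSec.algebraOver f e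
  let i2 : Module Γ(S, W) Γ(F, U) := Flat2C.FlatSec.moduleOver f F e
  have i3 : IsScalarTower Γ(S, W) Γ(X, U) Γ(F, U) := Flat2C.FlatSec.isScalarTower_over f F e
  have hft : Algebra.FiniteType Γ(S, W) Γ(X, U) := f.finiteType_appLE hW hU e
  have hRA := (Flat2G.RelAssSch.mem_relAss_iff f F hF.1 hU hW e y hyU).mp hy
  have hflat := (Flat2C.FlatSec.isFlatOverAt_iff_flatAt f F hU hW e hF.1 x hxU).mp hfl
  obtain ⟨C, hC, hxC⟩ := hgen
  have hle : (hU.primeIdealOf ⟨y, hyU⟩).asIdeal ≤ (hU.primeIdealOf ⟨x, hxU⟩).asIdeal := by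
    rw [Flat2G.AffPrimes.primeIdealOf_le_iff hU]
    exact hyx
  obtain ⟨h1, h2⟩ := Flat2G.RelAssVal.main_alg (A := Γ(S, W)) (B := Γ(X, U)) (M := Γ(F, U))
    (hU.primeIdealOf ⟨y, hyU⟩).asIdeal (hU.primeIdealOf ⟨x, hxU⟩).asIdeal hle (by
      intro Q hQ hyQ hsQ hQx
      let z : X := hU.fromSpec ⟨Q, hQ⟩
      have hzU : z ∈ U := Flat2G.AffPrimes.fromSpec_mem hU _
      have hzx' : (hU.primeIdealOf ⟨z, hzU⟩).asIdeal = Q := by
        rw [Flat2G.AffPrimes.primeIdealOf_fromSpec hU ⟨Q, hQ⟩]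
      have hzx : z ⤳ x := by
        rw [← Flat2G.AffPrimes.primeIdealOf_le_iff hU z x hzU hxU, hzx']
        exact hQx
      have hyz : y ⤳ z := by
        rw [← Flat2G.AffPrimes.primeIdealOf_le_iff hU y z hyU hzU, hzx']
        exact hyQ
      have hunder : Q.comap (f.appLE W U e).hom = (hU.primeIdealOf ⟨x, hxU⟩).asIdeal.comap (f.appLE W U e).hom :=
        le_antisymm (Ideal.comap_mono hQx) (Ideal.map_le_iff_le_comap.mp hsQ)
      have hfz : f z = f x := by
        apply Flat2G.AffPrimes.primeIdealOf_injective hW (f z) (f x) (e hzU) (e hxU)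
        rw [← Flat2G.RelAssSch.primeIdealOf_under f hU hW e z hzU,
          ← Flat2G.RelAssSch.primeIdealOf_under f hU hW e x hxU, hzx']
        exact hunder
      have heq := Flat2G.AffPrimes.eq_of_specializes_of_isGenericPoint hC hxC
        (z := (⟨z, specializes_iff_mem_closure.mp hyz, hfz⟩ : ↑(closure ({y} : Set ↑X) ∩ f ⁻¹' {f x})))
        (Topology.IsInducing.subtypeVal.specializes_iff.mp hzx)
      have heq' : z = x := congrArg Subtype.val heq
      have : ∀ (w : X) (hw : w ∈ U), w = x → (hU.primeIdealOf ⟨w, hw⟩).asIdeal = (hU.primeIdealOf ⟨x, hxU⟩).asIdeal := by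
        rintro w hw rfl
        rfl
      rw [← hzx']
      exact this z hzU heq') hflat hRA
  refine ⟨(Flat2G.RelAssSch.mem_relAss_iff f F hF.1 hU hW e x hxU).mpr h1, ?_⟩
  have hux := Flat2G.RelAssSch.primeIdealOf_under f hU hW e x hxU
  have huy := Flat2G.RelAssSch.primeIdealOf_under f hU hW e y hyU
  have h3 := Flat2G.RelAssVal.trd_le_of_algIndep (A := Γ(S, W)) (B := Γ(X, U))
    (hU.primeIdealOf ⟨y, hyU⟩).asIdeal (hU.primeIdealOf ⟨x, hxU⟩).asIdeal
    (hW.primeIdealOf ⟨f y, e hyU⟩).asIdeal (hW.primeIdealOf ⟨f x, e hxU⟩).asIdeal huy.symm hux.symm h2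
  rw [CycB.RelDim.rtd_eq_trd_quotientMap f hW hU e x hxU (e hxU) _ rfl hux.symm.le,
    CycB.RelDim.rtd_eq_trd_quotientMap f hW hU e y hyU (e hyU) _ rfl huy.symm.le]
  exact h3


open AlgebraicGeometry CategoryTheory Limits in
/-- Stacks Tag 0GSI: let f : X → S be locally of finite type, F a quasi-coherent O_X-module of finite type, and y a point of the relative assassin of F with image t; let Y be the closure of y. For a point s of S and a point x of the fibre of Y over s which is generic in an irreducible component of that fibre, if F is flat over S at x then x belongs to the relative assassin of F and the local dimension of the fibre of Y over s at x equals the dimension of the fibre of Y over t (fibres taken as subspaces of X). -/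
theorem result {X S : Scheme.{u}} (f : X ⟶ S) [LocallyOfFiniteType f]
    (F : X.Modules) (hF : Coh.IsCoh F) (y : X) (hy : y ∈ MoreMor.relAss f F) (s : S) (x : X) (hx : x ∈ closure ({y} : Set ↑X)) (hxs : f x = s)
    (hgen : ∃ C ∈ irreducibleComponents ↑(closure ({y} : Set ↑X) ∩ f ⁻¹' {s}), IsGenericPoint (⟨x, hx, hxs⟩ : ↑(closure ({y} : Set ↑X) ∩ f ⁻¹' {s})) C)
    (hfl : FlatMod.IsFlatOverAt f F x) :
    x ∈ MoreMor.relAss f F ∧
      FlatMor.localDim ↑(closure ({y} : Set ↑X) ∩ f ⁻¹' {s}) ⟨x, hx, hxs⟩ = topologicalKrullDim ↑(closure ({y} : Set ↑X) ∩ f ⁻¹' {f y}) := by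
  subst hxs
  obtain ⟨h1, h2⟩ := main f F hF y hy x hx hgen hfl
  refine ⟨h1, ?_⟩
  rw [Flat2D.RelDimClosure.localDim_eq_iff_rtd_eq f y (f x) x hx rfl hgen]
  exact le_antisymm h2 (Flat2D.RelDimClosure.rtd_le_of_isGenericPoint f y (f x) x hx rfl hgen)

end Groth.Agent.S1470
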