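import Groth.Statements.S1471
import Mathlib.AlgebraicGeometry.Morphisms.Flat
import Mathlib.AlgebraicGeometry.Stalk
import Mathlib.AlgebraicGeometry.Morphisms.SchemeTheoreticallyDominant

set_option autoImplicit false
universe u
open FlatMor

namespace Groth.Agent.S1471

open AlgebraicGeometry CategoryTheory Limits in
theorem flat_fromSpecStalk (Y : Scheme.{u}) (y : Y) : Flat (Y.fromSpecStalk y) := by
  obtain ⟨_, ⟨U, hU, rfl⟩, hyU, -⟩ :=
    Y.isBasis_affineOpens.exists_subset_of_mem_open (Set.mem_univ y) isOpen_univ
  rw [← hU.fromSpecStalk_eq_fromSpecStalk hyU]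
  dsimp only [IsAffineOpen.fromSpecStalk]
  have : Flat (Spec.map (Y.presheaf.germ U y hyU)) := by
    rw [Flat.SpecMap_iff]
    let : Algebra Γ(Y, U) (Y.presheaf.stalk y) := (Y.presheaf.germ U y hyU).hom.toAlgebra
    have := hU.isLocalization_stalk ⟨y, hyU⟩
    exact IsLocalization.flat (Y.presheaf.stalk y) (hU.primeIdealOf ⟨y, hyU⟩).asIdeal.primeCompl
  have h2 : Flat hU.fromSpec := inferInstance
  exact Flat.comp _ _

open AlgebraicGeometry CategoryTheory Limits in
theorem isReduced_of_flat_preimmersion {X Y : Scheme.{u}} (f : X ⟶ Y) [Flat f] [IsPreimmersion f]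
    [IsReduced Y] : IsReduced X := by
  have : ∀ x : X, _root_.IsReduced (X.presheaf.stalk x) := by
    intro x
    have hsurj : Function.Surjective (f.stalkMap x).hom := f.stalkMap_surjective x
    have hinj : Function.Injective (f.stalkMap x).hom := by
      algebraize [(f.stalkMap x).hom]
      have : Module.FaithfullyFlat (Y.presheaf.stalk (f x)) (X.presheaf.stalk x) :=
        @Module.FaithfullyFlat.of_flat_of_isLocalHom _ _ _ _ _ _ _
          (Flat.stalkMap f x) (f.toLRSHom.prop x)
      exact (RingHom.FaithfullyFlat.injective ‹_›)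
    exact isReduced_of_injective (RingEquiv.ofBijective _ ⟨hinj, hsurj⟩).symm
      (RingEquiv.ofBijective _ ⟨hinj, hsurj⟩).symm.injective
  exact isReduced_of_isReduced_stalk X

open AlgebraicGeometry CategoryTheory Limits in
theorem subsingleton_stalk {Y : Scheme.{u}} (η : Y) (W : Set ↑Y) (hW : W ∈ irreducibleComponents ↑Y)
    (hη : IsGenericPoint η W) : Subsingleton (PrimeSpectrum (Y.presheaf.stalk η)) := by
  refine ⟨fun a b => ?_⟩
  have h : ∀ a : Spec (Y.presheaf.stalk η), a = IsLocalRing.closedPoint (Y.presheaf.stalk η) := by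
    intro a
    apply (Y.fromSpecStalk η).isEmbedding.injective
    rw [Scheme.fromSpecStalk_closedPoint]
    have h1 : Y.fromSpecStalk η a ⤳ η := by
      have : Y.fromSpecStalk η a ∈ Set.range (Y.fromSpecStalk η) := ⟨a, rfl⟩
      rwa [Scheme.range_fromSpecStalk] at this
    have h2 : W ⊆ closure {Y.fromSpecStalk η a} := by
      rw [← hη.def]
      exact closure_minimal (by simpa using h1.mem_closure) isClosed_closure
    have h3 : closure {Y.fromSpecStalk η a} ⊆ W := hW.2 isIrreducible_singleton.closure h2
    have h4 : IsGenericPoint (Y.fromSpecStalk η a) W := le_antisymm h3 h2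
    exact h4.eq hη
  exact (h a).trans (h b).symm

open AlgebraicGeometry CategoryTheory Limits in
/-- Stacks Tag 054Z: let f : X → Y and η a generic point of an irreducible component of Y. Then the fibre over η of the composite X_red → X → Y is reduced; since it is a closed subscheme of X_η with the same underlying set, this says (X_η)_red = (X_red)_η. -/
theorem result {X Y : Scheme.{u}} (f : X ⟶ Y) (η : Y) (W : Set ↑Y) (hW : W ∈ irreducibleComponents ↑Y) (hη : IsGenericPoint η W) :
    IsReduced ((X.nilradical.subschemeι ≫ f).fiber η) := by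
  have hred : IsReduced X.nilradical.subscheme := by
    have : ∀ i, IsReduced (X.nilradical.subschemeCover.openCover.X i) := by
      intro (U : X.affineOpens)
      change IsReduced (Spec (.of (Γ(X, U) ⧸ X.nilradical.ideal U)))
      have : _root_.IsReduced (Γ(X, U) ⧸ X.nilradical.ideal U) := by
        rw [← Ideal.isRadical_iff_quotient_reduced]
        exact Ideal.radical_isRadical _
      infer_instance
    exact IsReduced.of_openCover (𝒰 := X.nilradical.subschemeCover.openCover)
  generalize X.nilradical.subschemeι ≫ f = g
  have hflat := flat_fromSpecStalk Y η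
  have hP : IsReduced (pullback g (Y.fromSpecStalk η)) := by
    have h1 : Flat (pullback.fst g (Y.fromSpecStalk η)) := inferInstance
    have h2 : IsPreimmersion (pullback.fst g (Y.fromSpecStalk η)) := inferInstance
    exact isReduced_of_flat_preimmersion (pullback.fst g (Y.fromSpecStalk η))
  have hsub := subsingleton_stalk η W hW hη
  let r : Spec (Y.residueField η) ⟶ Spec (Y.presheaf.stalk η) := Spec.map (Y.residue η)
  have hr : r ≫ Y.fromSpecStalk η = Y.fromSpecResidueField η := rfl
  have hrc : IsClosedImmersion r := IsClosedImmersion.spec_of_surjective _ (Y.residue_surjective η)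
  have hrs : Surjective r := ⟨fun x => ⟨IsLocalRing.closedPoint _, Subsingleton.elim (α := PrimeSpectrum _) _ _⟩⟩
  let c : pullback g (Y.fromSpecResidueField η) ⟶ pullback g (Y.fromSpecStalk η) := pullback.lift (pullback.fst _ _) (pullback.snd _ _ ≫ r) (by
    rw [Category.assoc, hr, pullback.condition])
  have hc : IsPullback c (pullback.snd g (Y.fromSpecResidueField η)) (pullback.snd g (Y.fromSpecStalk η)) r := by
    refine IsPullback.of_right (h₁₂ := pullback.fst g (Y.fromSpecStalk η)) (h₂₂ := Y.fromSpecStalk η) (v₁₃ := g) ?_ ?_ ?_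
    · rw [pullback.lift_fst, hr]
      exact IsPullback.of_hasPullback _ _
    · exact pullback.lift_snd _ _ _
    · exact IsPullback.of_hasPullback _ _
  have hcc : IsClosedImmersion c := MorphismProperty.of_isPullback hc.flip hrc
  have hcs : Surjective c := MorphismProperty.of_isPullback hc.flip hrs
  have hiso : IsIso c := isIso_of_isClosedImmersion_of_surjective c
  have hfin : IsReduced (pullback g (Y.fromSpecResidueField η)) := isReduced_of_isOpenImmersion c
  exact hfin

end Groth.Agent.S1471
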