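import Groth.Statements.S1474
import Groth.Agent.Flat2G.FibAlgBC
-- import your own Groth.Agent.* helpers here

set_option autoImplicit false
universe u
open FlatMor

namespace Groth.Agent.S1474

open AlgebraicGeometry CategoryTheory Limits Groth.Agent.Flat2G.FibAlgGeom Groth.Agent.Flat2G.FibAlgLoc in
lemma flat_iff {X Y : Scheme.{u}} (f : X ⟶ Y) :
    (∀ (U : X.Opens) (V : Y.Opens) (_ : IsAffineOpen U) (_ : IsAffineOpen V) (hUV : U ≤ f ⁻¹ᵁ V),
      letI := (f.appLE V U hUV).hom.toAlgebra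
      Module.Flat Γ(Y, V) Γ(X, U)) ↔ Flat f := by
  rw [HasRingHomProperty.iff_appLE (P := @Flat)]
  exact ⟨fun H V U hUV ↦ H U.1 V.1 U.2 V.2 hUV, fun H U V hU hV hUV ↦ H ⟨V, hV⟩ ⟨U, hU⟩ hUV⟩

open AlgebraicGeometry CategoryTheory Limits Groth.Agent.Flat2G.FibAlgGeom Groth.Agent.Flat2G.FibAlgLoc in
lemma regular_iff {X Y : Scheme.{u}} (f : X ⟶ Y) :
    (∀ (U : X.Opens) (V : Y.Opens) (_ : IsAffineOpen U) (_ : IsAffineOpen V) (hUV : U ≤ f ⁻¹ᵁ V),
      letI := (f.appLE V U hUV).hom.toAlgebra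
      CAlg.IsRegularHom Γ(Y, V) Γ(X, U)) ↔
    Flat f ∧ ∀ y, SA (GQ (fun R _ ↦ IsRegularRing R)) (f.fiberToSpecResidueField y) := by
  rw [← flat_iff, ← forall_fiber_iff (GQ.fieldLocal RingLocal.isRegularRing)]
  constructor
  · intro H
    refine ⟨fun U V hU hV hUV ↦ (H U V hU hV hUV).1, fun U V hU hV hUV p hp ↦ ?_⟩
    let := (f.appLE V U hUV).hom.toAlgebra
    rw [gq_algebraMap]
    exact (H U V hU hV hUV).2 p
  · intro H U V hU hV hUV
    refine ⟨H.1 U V hU hV hUV, fun p hp ↦ ?_⟩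
    have := H.2 U V hU hV hUV p
    rw [gq_algebraMap] at this
    exact this

open AlgebraicGeometry CategoryTheory Limits Groth.Agent.Flat2G.FibAlgGeom Groth.Agent.Flat2G.FibAlgLoc in
lemma sa_iff {Z : Scheme.{u}} {k : CommRingCat.{u}} (h : Z ⟶ Spec k) :
    SA (GQ (fun R _ ↦ IsRegularRing R)) h ↔ ∀ W : Z.Opens, IsAffineOpen W →
      GQ (fun R _ ↦ IsRegularRing R)
        ((Scheme.ΓSpecIso k).inv ≫ h.appTop ≫ Z.presheaf.map (homOfLE (le_top : W ≤ ⊤)).op).hom := by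
  have hQ := (GQ.fieldLocal RingLocal.isRegularRing.{u}).respectsIso
  refine ⟨fun H W hW ↦ ?_, fun H W ↦ ?_⟩
  · have h1 := H ⟨W, hW⟩
    rw [CommRingCat.hom_comp, hQ.cancel_left_isIso]
    convert! h1
  · have h1 := H W.1 W.2
    rw [CommRingCat.hom_comp, hQ.cancel_left_isIso] at h1
    convert! h1


open AlgebraicGeometry CategoryTheory Limits in
/-- Stacks Tag 07R8, (2) ⇔ (3): let f : X → Y have locally Noetherian fibres. Then the ring maps O_Y(V) → O_X(U) are regular for all affine opens U ⊆ f⁻¹(V) if and only if f is flat and every fibre X_y is geometrically regular over κ(y), i.e. every affine open of X_y has Noetherian, geometrically regular coordinate ring over κ(y). -/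
theorem result {X Y : Scheme.{u}} (f : X ⟶ Y) (hN : ∀ y : Y, IsLocallyNoetherian (f.fiber y)) :
    (∀ (U : X.Opens) (V : Y.Opens) (hU : IsAffineOpen U) (hV : IsAffineOpen V) (hUV : U ≤ f ⁻¹ᵁ V),
        letI := (f.appLE V U hUV).hom.toAlgebra
        CAlg.IsRegularHom Γ(Y, V) Γ(X, U)) ↔
      Flat f ∧ ∀ (y : Y) (W : (f.fiber y).Opens), IsAffineOpen W →
        letI : Algebra ↑(Y.residueField y) ↑Γ(f.fiber y, W) := ((Scheme.ΓSpecIso (Y.residueField y)).inv ≫ (f.fiberToSpecResidueField y).appTop ≫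
          (f.fiber y).presheaf.map (homOfLE le_top).op).hom.toAlgebra
        IsNoetherianRing ↑Γ(f.fiber y, W) ∧ CAlg.IsGeometricallyRegular ↑(Y.residueField y) ↑Γ(f.fiber y, W) := by
  rw [regular_iff]
  refine and_congr_right fun _ ↦ forall_congr' fun y ↦ ?_
  rw [sa_iff]
  exact Iff.rfl

end Groth.Agent.S1474
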