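import Groth.Statements.S1478
import Groth.Agent.Smoothlim.OmegaStalk
import Mathlib.RingTheory.Support

set_option autoImplicit false
universe u
open FlatMor

namespace Groth.Agent.S1478

open AlgebraicGeometry CategoryTheory Limits

lemma isZero_iff_stalk {X : Scheme.{u}} (M : X.Modules) :
    IsZero M ↔ ∀ x : X, Subsingleton (M.presheaf.stalk x) := by
  constructor
  · intro h x
    have hid : 𝟙 M = 0 := (IsZero.iff_id_eq_zero M).mp h
    have hsec : ∀ (U : X.Opens) (s : Γ(M, U)), s = 0 := by
      intro U s
      exact congr(($hid).app U s)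
    refine ⟨fun a b => ?_⟩
    obtain ⟨U, hxU, s, rfl⟩ := TopCat.Presheaf.exists_germ_eq M.presheaf a
    obtain ⟨V, hxV, t, rfl⟩ := TopCat.Presheaf.exists_germ_eq M.presheaf b
    rw [hsec U s, hsec V t, map_zero, map_zero]
  · intro h
    rw [IsZero.iff_id_eq_zero]
    ext U s
    change s = 0
    refine TopCat.Presheaf.section_ext ⟨M.presheaf, M.isSheaf⟩ U s 0 ?_
    intro x hx
    exact (h x).elim _ _

lemma subsingleton_iff_localized {A : Type u} [CommRing A] (M : Type u) [AddCommGroup M]
    [Module A M] :
    Subsingleton M ↔ ∀ p : PrimeSpectrum A, Subsingleton (LocalizedModule p.asIdeal.primeCompl M) := by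
  rw [← Module.support_eq_empty_iff (R := A)]
  constructor
  · intro h p
    rw [← not_nontrivial_iff_subsingleton, ← Module.mem_support_iff, h]
    exact Set.notMem_empty p
  · intro h
    ext p
    rw [Module.mem_support_iff, ← not_subsingleton_iff_nontrivial]
    simp [h p]

/-- Stacks Tag 02H9, for separated morphisms (where the sheaf of differentials is literally the conormal sheaf of the closed diagonal): a separated morphism f : X → S is formally unramified if and only if Ω_{X/S}, the conormal sheaf of the diagonal, is the zero O_X-module. -/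
theorem result {X S : Scheme.{u}} (f : X ⟶ S) [IsSeparated f] :
    FormallyUnramified f ↔ IsZero (Omega.sheaf f) := by
  rw [isZero_iff_stalk]
  constructor
  · intro hf x
    obtain ⟨V, hV, hsV, -⟩ := TopologicalSpace.Opens.isBasis_iff_nbhd.mp S.isBasis_affineOpens
      (show f x ∈ (⊤ : S.Opens) from trivial)
    obtain ⟨U, hU, hxU, hUV⟩ := TopologicalSpace.Opens.isBasis_iff_nbhd.mp X.isBasis_affineOpens
      (show x ∈ f ⁻¹ᵁ V from hsV)
    have hcomm : IsAffineOpen.fromSpec hU ≫ f =
        Spec.map (f.appLE V U hUV) ≫ IsAffineOpen.fromSpec hV :=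
      (IsAffineOpen.SpecMap_appLE_fromSpec f hV hU hUV).symm
    have key := Groth.Agent.Smoothlim.OmegaStalk.subsingleton_stalk_omega (f.appLE V U hUV) f
      (IsAffineOpen.fromSpec hU) (IsAffineOpen.fromSpec hV) hcomm
      (IsAffineOpen.primeIdealOf hU ⟨x, hxU⟩)
    rw [IsAffineOpen.fromSpec_primeIdealOf hU ⟨x, hxU⟩] at key
    rw [key]
    let := (f.appLE V U hUV).hom.toAlgebra
    have h1 : Algebra.FormallyUnramified Γ(S, V) Γ(X, U) := f.formallyUnramified_appLE hV hU hUV
    have h2 : Subsingleton (Ω[Γ(X, U)⁄Γ(S, V)]) := inferInstance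
    infer_instance
  · intro h
    rw [formallyUnramified_iff]
    intro V hV U hU hUV
    have hcomm : IsAffineOpen.fromSpec hU ≫ f =
        Spec.map (f.appLE V U hUV) ≫ IsAffineOpen.fromSpec hV :=
      (IsAffineOpen.SpecMap_appLE_fromSpec f hV hU hUV).symm
    let := (f.appLE V U hUV).hom.toAlgebra
    have h2 : Subsingleton (Ω[Γ(X, U)⁄Γ(S, V)]) := by
      rw [subsingleton_iff_localized (A := Γ(X, U))]
      intro p
      exact (Groth.Agent.Smoothlim.OmegaStalk.subsingleton_stalk_omega (f.appLE V U hUV) f
        (IsAffineOpen.fromSpec hU) (IsAffineOpen.fromSpec hV) hcomm p).mp (h _)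
    exact ⟨h2⟩

end Groth.Agent.S1478
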