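import Groth.Statements.S1480
import Mathlib

set_option autoImplicit false
universe u
open FlatMor

namespace Groth.Agent.S1480

section Helpers



open AlgebraicGeometry CategoryTheory Limits

/-- Elementwise form of the conclusion -/
def RPh {A B : Type u} [CommRing A] [CommRing B] (φ : A →+* B) (g : B) : Prop :=
  ∃ (F : Ideal A) (r : ℕ), 0 < r ∧ ∃ v : Fin r → B,
    (∀ c : Fin r → A, (∀ k, c k ∈ F) → ∑ k, φ (c k) * v k = 0 → ∀ k, c k = 0) ∧
    ∃ c : Fin r → A, (∀ k, c k ∈ F) ∧ ∑ k, φ (c k) * v k = g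

theorem RPh_of_equiv {A B A' B' : Type u} [CommRing A] [CommRing B] [CommRing A'] [CommRing B']
    (φ : A →+* B) (φ' : A' →+* B') (eA : A ≃+* A') (eB : B ≃+* B')
    (h : ∀ a, eB (φ a) = φ' (eA a)) (g : B) (H : RPh φ' (eB g)) : RPh φ g := by
  obtain ⟨F, r, hr, v, h1, c, hc, h2⟩ := H
  refine ⟨F.comap (eA : A →+* A'), r, hr, fun k => eB.symm (v k), ?_, fun k => eA.symm (c k), ?_, ?_⟩
  · intro c hc hs k
    have := h1 (fun k => eA (c k)) (fun k => hc k) (by
      have := congrArg eB hs
      simpa [h] using this) k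
    simpa using this
  · intro k
    change eA (eA.symm (c k)) ∈ F
    rw [RingEquiv.apply_symm_apply]
    exact hc k
  · apply eB.injective
    simp only [map_sum, map_mul, h, RingEquiv.apply_symm_apply, h2]

/-- scheme-level -/
def P {X S : Scheme.{u}} (f : X ⟶ S) (g : Γ(X, ⊤)) : Prop :=
  ∃ (U : S.Opens) (_ : IsAffineOpen U) (V : X.Opens) (_ : IsAffineOpen V) (hVU : V ≤ f ⁻¹ᵁ U),
      X.presheaf.map (homOfLE le_top).op g ≠ (0 : Γ(X, V)) ∧
      RPh (f.appLE U V hVU).hom (X.presheaf.map (homOfLE le_top).op g)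

theorem P_of_open {X S X' S' : Scheme.{u}} (f : X ⟶ S) (f' : X' ⟶ S') (j : X' ⟶ X) (i : S' ⟶ S)
    [IsOpenImmersion j] [IsOpenImmersion i] (w : f' ≫ i = j ≫ f) (g : Γ(X, ⊤))
    (H : P f' (j.appTop g)) : P f g := by
  obtain ⟨U', hU', V', hV', hVU', hne, H⟩ := H
  have hVU : j ''ᵁ V' ≤ f ⁻¹ᵁ (i ''ᵁ U') := by
    rintro _ ⟨x, hx, rfl⟩
    refine ⟨f' x, hVU' hx, ?_⟩
    exact congrArg (fun t => t x) w
  have hres : (j.appIso V').hom (X.presheaf.map (homOfLE le_top).op g) =
      X'.presheaf.map (homOfLE le_top).op (j.appTop g) := by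
    have : X.presheaf.map (homOfLE (le_top : j ''ᵁ V' ≤ ⊤)).op ≫ (j.appIso V').hom =
      j.appTop ≫ X'.presheaf.map (homOfLE (le_top : V' ≤ ⊤)).op := by
      rw [Scheme.Hom.appIso_hom', Scheme.Hom.map_appLE]
      rfl
    exact congrArg (fun t => t.hom g) this
  have hcomp : f.appLE (i ''ᵁ U') (j ''ᵁ V') hVU ≫ (j.appIso V').hom =
      (i.appIso U').hom ≫ f'.appLE U' V' hVU' := by
    rw [Scheme.Hom.appIso_hom', Scheme.Hom.appIso_hom', Scheme.Hom.appLE_comp_appLE,
      Scheme.Hom.appLE_comp_appLE]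
    congr 1
    exact w.symm
  refine ⟨i ''ᵁ U', hU'.image_of_isOpenImmersion i, j ''ᵁ V', hV'.image_of_isOpenImmersion j, hVU,
    ?_, ?_⟩
  · intro h0
    apply hne
    rw [← hres, h0, map_zero]
  · refine RPh_of_equiv _ (f'.appLE U' V' hVU').hom (i.appIso U').commRingCatIsoToRingEquiv
      (j.appIso V').commRingCatIsoToRingEquiv ?_ _ ?_
    · intro a
      exact congrArg (fun t => t.hom a) hcomp
    · exact hres ▸ H

/-- ring-level version -/
def Pr {A B : Type u} [CommRing A] [CommRing B] (φ : A →+* B) (g : B) : Prop :=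
  P (Spec.map (CommRingCat.ofHom φ)) ((Scheme.ΓSpecIso (.of B)).inv g)

theorem Pr_of_RPh {A B : Type u} [CommRing A] [CommRing B] (φ : A →+* B) (g : B) (hg : g ≠ 0)
    (H : RPh φ g) : Pr φ g := by
  refine ⟨⊤, isAffineOpen_top _, ⊤, isAffineOpen_top _, le_top, ?_, ?_⟩
  · have h1 : ((Spec (.of B)).presheaf.map (homOfLE (le_top : (⊤ : (Spec (.of B)).Opens) ≤ ⊤)).op) = 𝟙 _ := by
      exact (Spec (.of B)).presheaf.map_id _
    rw [h1]
    intro h2
    apply hg
    have h3 := congrArg (Scheme.ΓSpecIso (.of B)).hom h2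
    simpa using h3
  · have h1 : ((Spec (.of B)).presheaf.map (homOfLE (le_top : (⊤ : (Spec (.of B)).Opens) ≤ ⊤)).op) = 𝟙 _ := by
      exact (Spec (.of B)).presheaf.map_id _
    rw [h1]
    refine RPh_of_equiv _ φ (Scheme.ΓSpecIso (.of A)).commRingCatIsoToRingEquiv
      (Scheme.ΓSpecIso (.of B)).commRingCatIsoToRingEquiv ?_ _ ?_
    · intro a
      have h2 : (Spec.map (CommRingCat.ofHom φ)).appTop ≫ (Scheme.ΓSpecIso (.of B)).hom =
        (Scheme.ΓSpecIso (.of A)).hom ≫ CommRingCat.ofHom φ := Scheme.ΓSpecIso_naturality _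
      have h3 : (Spec.map (CommRingCat.ofHom φ)).appLE ⊤ ⊤ le_top = (Spec.map (CommRingCat.ofHom φ)).appTop :=
        Scheme.Hom.appLE_eq_app _
      rw [h3]
      exact congrArg (fun t => t.hom a) h2
    · have h4 : (Scheme.ΓSpecIso (.of B)).commRingCatIsoToRingEquiv ((𝟙 ((Spec (.of B)).presheaf.obj _) : _ ⟶ _) ((Scheme.ΓSpecIso (.of B)).inv g)) = g := by
        change (Scheme.ΓSpecIso (.of B)).hom ((Scheme.ΓSpecIso (.of B)).inv g) = g
        simp
      exact Eq.mpr (congrArg (RPh φ) h4) H

theorem Pr_loc {A B A' B' : Type u} [CommRing A] [CommRing B] [CommRing A'] [CommRing B']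
    [Algebra A A'] [Algebra B B'] (a : A) (b : B) [IsLocalization.Away a A'] [IsLocalization.Away b B']
    (φ : A →+* B) (φ' : A' →+* B') (h : φ'.comp (algebraMap A A') = (algebraMap B B').comp φ) (g : B)
    (H : Pr φ' (algebraMap B B' g)) : Pr φ g := by
  have := IsOpenImmersion.of_isLocalization (R := A) (S := A') a
  have := IsOpenImmersion.of_isLocalization (R := B) (S := B') b
  refine P_of_open _ (Spec.map (CommRingCat.ofHom φ')) (Spec.map (CommRingCat.ofHom (algebraMap B B')))
    (Spec.map (CommRingCat.ofHom (algebraMap A A'))) ?_ _ ?_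
  · rw [← Spec.map_comp, ← Spec.map_comp]
    congr 1
    apply CommRingCat.hom_ext
    exact h
  · have h1 := Scheme.ΓSpecIso_inv_naturality (CommRingCat.ofHom (algebraMap B B'))
    have h2 := congrArg (fun t => t.hom g) h1
    have h3 : (Spec.map (CommRingCat.ofHom (algebraMap B B'))).appTop ((Scheme.ΓSpecIso (.of B)).inv g) =
      (Scheme.ΓSpecIso (.of B')).inv (algebraMap B B' g) := h2.symm
    rw [h3]
    exact H

theorem rp_of_basis {A B : Type u} [CommRing A] [CommRing B] [Algebra A B] [Module.Flat A B]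
    (I : Ideal A) (hI : I.FG) (g : B) (hg : ∀ i ∈ I, i • g = 0) {r : ℕ} (hr : 0 < r) (v : Fin r → B)
    (hspan : ∀ y : B, ∃ c : Fin r → A, y - ∑ k, c k • v k ∈ I.map (algebraMap A B))
    (hind : ∀ c : Fin r → A, ∑ k, c k • v k ∈ I.map (algebraMap A B) → ∀ k, c k ∈ I) :
    RPh (algebraMap A B) g := by
  simp only [RPh, ← Algebra.smul_def]
  classical
  refine ⟨Submodule.annihilator (I : Submodule A A), r, hr, v, ?_, ?_⟩
  · intro c hc h l
    obtain ⟨κ, a, y, hy1, hy2⟩ := Module.Flat.isTrivialRelation_of_sum_smul_eq_zero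
      (R := A) (M := B) (f := c) (x := v) h
    choose d hd using fun j => hspan (y j)
    have key : ∀ k l, (if k = l then 1 else 0) - ∑ j, a k j * d j l ∈ I := by
      intro k
      refine hind _ ?_
      have h1 : ∑ l, ((if k = l then 1 else 0) - ∑ j, a k j * d j l) • v l =
          ∑ j, a k j • (y j - ∑ l, d j l • v l) := by
        simp only [sub_smul, Finset.sum_sub_distrib, ite_smul, one_smul, zero_smul,
          Finset.sum_ite_eq, Finset.mem_univ, if_true, smul_sub]
        rw [← hy1 k]
        congr 1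
        simp only [Finset.sum_smul, Finset.smul_sum, mul_smul]
        rw [Finset.sum_comm]
      rw [h1]
      refine Ideal.sum_mem _ fun j _ => ?_
      rw [Algebra.smul_def]
      exact Ideal.mul_mem_left _ _ (hd j)
    have h2 : c l = ∑ k, c k * ((if k = l then 1 else 0) - ∑ j, a k j * d j l) +
        ∑ j, (∑ k, c k * a k j) * d j l := by
      simp only [mul_sub, Finset.sum_sub_distrib, mul_ite, mul_one, mul_zero, Finset.sum_ite_eq',
        Finset.mem_univ, if_true, Finset.sum_mul, Finset.mul_sum]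
      rw [Finset.sum_comm (γ := Fin κ)]
      simp only [mul_assoc, sub_add_cancel]
    rw [h2]
    have h3 : ∀ k, c k * ((if k = l then 1 else 0) - ∑ j, a k j * d j l) = 0 := fun k => by
      have := (Submodule.mem_annihilator.mp (hc k)) _ (key k l)
      simpa using this
    simp only [h3, Finset.sum_const_zero, zero_add]
    refine Finset.sum_eq_zero fun j _ => ?_
    rw [hy2 j, zero_mul]
  · have : Module.Finite A I := Module.Finite.of_fg hI
    obtain ⟨k, a, y, h1, h2⟩ := Module.Flat.exists_factorization_of_comp_eq_zero_of_free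
      (f := (Submodule.subtype I : I →ₗ[A] A)) (x := LinearMap.toSpanSingleton A B g)
      (by ext i; simpa using hg i.1 i.2)
    have hα : ∀ j, a 1 j ∈ Submodule.annihilator (I : Submodule A A) := by
      intro j
      rw [Submodule.mem_annihilator]
      intro i hi
      have h3 := congrArg (fun t => t ⟨i, hi⟩ j) h2
      have h4 : a i j = 0 := by simpa using h3
      have h5 : a i = i • a 1 := by rw [← map_smul]; simp
      rw [h5] at h4
      simpa [mul_comm] using h4
    have hg' : g = ∑ j, a 1 j • y (Finsupp.single j 1) := by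
      have h3 : g = y (a 1) := by
        have := congrArg (fun t => t 1) h1
        simpa using this
      rw [h3]
      conv_lhs => rw [← Finsupp.univ_sum_single (a 1)]
      rw [map_sum]
      refine Finset.sum_congr rfl fun j _ => ?_
      rw [← map_smul]
      simp
    choose d hd using fun j => hspan (y (Finsupp.single j 1))
    refine ⟨fun l => ∑ j, a 1 j * d j l, fun l => Ideal.sum_mem _ fun j _ => Ideal.mul_mem_right _ _ (hα j), ?_⟩
    have h6 : ∀ j, ∀ z ∈ I.map (algebraMap A B), a 1 j • z = 0 := by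
      intro j z hz
      refine Submodule.span_induction ?_ ?_ ?_ ?_ hz
      · rintro _ ⟨i, hi, rfl⟩
        have := Submodule.mem_annihilator.mp (hα j) i hi
        rw [Algebra.smul_def, ← map_mul]
        rw [smul_eq_mul] at this
        rw [this, map_zero]
      · simp
      · intro x y _ _ hx hy
        rw [smul_add, hx, hy, add_zero]
      · intro b x _ hx
        rw [smul_eq_mul, ← mul_smul_comm, hx, mul_zero]
    have h7 : ∀ j, a 1 j • y (Finsupp.single j 1) = a 1 j • ∑ l, d j l • v l := by
      intro j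
      rw [← sub_eq_zero, ← smul_sub]
      exact h6 j _ (hd j)
    conv_rhs => rw [hg']
    simp only [h7, Finset.smul_sum, Finset.sum_smul, mul_smul]
    rw [Finset.sum_comm]





/-- A finitely presented flat module is locally free, elementwise form -/
theorem locally_free_elem {R M : Type u} [CommRing R] [AddCommGroup M] [Module R M]
    [Module.FinitePresentation R M] [Module.Flat R M] (p : Ideal R) [p.IsPrime] :
    ∃ (r : R) (_ : r ∉ p) (n : ℕ) (v : Fin n → M),
      (∀ y : M, ∃ (m : ℕ) (c : Fin n → R), r ^ m • y = ∑ k, c k • v k) ∧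
      (∀ c : Fin n → R, ∑ k, c k • v k = 0 → ∃ m : ℕ, ∀ k, r ^ m * c k = 0) := by
  classical
  have : Module.Free (Localization.AtPrime p) (LocalizedModule p.primeCompl M) :=
    Module.free_of_flat_of_isLocalRing
  let b₀ := Module.Free.chooseBasis (Localization.AtPrime p) (LocalizedModule p.primeCompl M)
  obtain ⟨r, hr, b₁, -⟩ := Module.FinitePresentation.exists_basis_localizedModule_powers p.primeCompl
    (LocalizedModule.mkLinearMap p.primeCompl M) (Localization.AtPrime p) b₀
  let e := Fintype.equivFin (Module.Free.ChooseBasisIndex (Localization.AtPrime p) (LocalizedModule p.primeCompl M))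
  let b := b₁.reindex e
  let n := Fintype.card (Module.Free.ChooseBasisIndex (Localization.AtPrime p) (LocalizedModule p.primeCompl M))
  let ι := LocalizedModule.mkLinearMap (Submonoid.powers r) M
  have hmk : ∀ k : Fin n, ∃ (v : M) (s : Submonoid.powers r), s • b k = ι v := by
    intro k
    obtain ⟨⟨v, s⟩, h⟩ := IsLocalizedModule.surj (Submonoid.powers r) ι (b k)
    exact ⟨v, s, h⟩
  choose v s hvs using hmk
  refine ⟨r, hr, n, v, ?_, ?_⟩
  · intro y
    -- invertible scalars
    have hsu : ∀ k, IsUnit (algebraMap R (Localization (Submonoid.powers r)) (s k)) := fun k =>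
      IsLocalization.map_units _ (s k)
    choose u hu using hsu
    have h1 : ι y = ∑ k, (b.repr (ι y) k * ((u k)⁻¹ : _ˣ)) • ι (v k) := by
      conv_lhs => rw [← b.sum_repr (ι y)]
      refine Finset.sum_congr rfl fun k _ => ?_
      rw [← hvs k, mul_smul]
      congr 1
      have h2 : (s k) • b k = (u k : Localization (Submonoid.powers r)) • b k := by
        rw [hu k, algebraMap_smul]
        rfl
      rw [h2, ← mul_smul, Units.inv_mul, one_smul]
    obtain ⟨⟨_, t, rfl⟩, ht⟩ := IsLocalization.exist_integer_multiples_of_finite (Submonoid.powers r)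
      (fun k => (b.repr (ι y) k * ((u k)⁻¹ : _ˣ)))
    choose c hc using ht
    have h3 : ι (r ^ t • y - ∑ k, c k • v k) = 0 := by
      rw [map_sub, map_smul, map_sum, h1, Finset.smul_sum, sub_eq_zero]
      refine Finset.sum_congr rfl fun k _ => ?_
      rw [map_smul, ← algebraMap_smul (Localization (Submonoid.powers r)) (c k), hc k, smul_assoc]
    obtain ⟨⟨_, t', rfl⟩, ht'⟩ := (IsLocalizedModule.eq_zero_iff (Submonoid.powers r) ι).mp h3
    refine ⟨t' + t, fun k => r ^ t' * c k, ?_⟩
    have h4 : r ^ t' • (r ^ t • y - ∑ k, c k • v k) = 0 := ht'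
    rw [smul_sub, sub_eq_zero, Finset.smul_sum] at h4
    rw [pow_add, mul_smul, h4]
    simp only [mul_smul]
    rfl
  · intro c hc
    have h1 : ∑ k, (algebraMap R (Localization (Submonoid.powers r)) (c k * s k)) • b k = 0 := by
      have := congrArg ι hc
      rw [map_sum, map_zero] at this
      rw [← this]
      refine Finset.sum_congr rfl fun k _ => ?_
      rw [map_smul, ← hvs k, map_mul, mul_smul, algebraMap_smul, algebraMap_smul]
      rfl
    have h2 := (Fintype.linearIndependent_iff.mp b.linearIndependent) _ h1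
    have h3 : ∀ k, ∃ m : ℕ, r ^ m * c k = 0 := by
      intro k
      obtain ⟨⟨_, t, rfl⟩, ht⟩ := (IsLocalization.map_eq_zero_iff (Submonoid.powers r) _ _).mp (h2 k)
      obtain ⟨t', ht'⟩ := (s k).2
      refine ⟨t + t', ?_⟩
      have h4 : r ^ t * (c k * s k) = 0 := ht
      have h5 : (s k : R) = r ^ t' := ht'.symm
      rw [h5] at h4
      rw [pow_add]
      linear_combination h4
    choose m hm using h3
    refine ⟨∑ k, m k, fun k => ?_⟩
    obtain ⟨d, hd⟩ := Nat.exists_eq_add_of_le (Finset.single_le_sum (fun i _ => Nat.zero_le (m i)) (Finset.mem_univ k))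
    rw [hd, pow_add]
    linear_combination r ^ d * hm k


section

variable {A B : Type u} [CommRing A] [CommRing B] [Algebra A B]

/-- elementwise local freeness modulo I -/
theorem exists_free_mod [Module.Flat A B] [Algebra.FinitePresentation A B]
    (I : Ideal A) (hfin : Module.Finite A (B ⧸ I.map (algebraMap A B)))
    (p : Ideal A) [p.IsPrime] (hIp : I ≤ p) :
    ∃ (a : A) (_ : a ∉ p) (n : ℕ) (v : Fin n → B),
      (∀ y : B, ∃ (m : ℕ) (c : Fin n → A), a ^ m • y - ∑ k, c k • v k ∈ I.map (algebraMap A B)) ∧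
      (∀ c : Fin n → A, ∑ k, c k • v k ∈ I.map (algebraMap A B) → ∃ m : ℕ, ∀ k, a ^ m * c k ∈ I) := by
  let e := Algebra.TensorProduct.quotIdealMapEquivQuotTensor B I
  have h1 : Module.Flat (A ⧸ I) (B ⧸ I.map (algebraMap A B)) :=
    Module.Flat.of_linearEquiv e.toLinearEquiv
  have h2 : Algebra.FinitePresentation (A ⧸ I) (B ⧸ I.map (algebraMap A B)) :=
    Algebra.FinitePresentation.equiv e.symm
  have h3 : Module.Finite (A ⧸ I) (B ⧸ I.map (algebraMap A B)) :=
    Module.Finite.of_restrictScalars_finite A _ _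
  have h4 : Module.FinitePresentation (A ⧸ I) (B ⧸ I.map (algebraMap A B)) :=
    Module.FinitePresentation.of_finite_of_finitePresentation _ _
  have h5 : (p.map (Ideal.Quotient.mk I)).IsPrime :=
    Ideal.map_isPrime_of_surjective Ideal.Quotient.mk_surjective (by rwa [Ideal.mk_ker])
  obtain ⟨r, hr, n, v, hv1, hv2⟩ := locally_free_elem (R := A ⧸ I) (M := B ⧸ I.map (algebraMap A B))
    (p.map (Ideal.Quotient.mk I))
  obtain ⟨a, rfl⟩ := Ideal.Quotient.mk_surjective r
  choose w hw using fun k => Ideal.Quotient.mk_surjective (v k)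
  refine ⟨a, fun h => hr (Ideal.mem_map_of_mem _ h), n, w, ?_, ?_⟩
  · intro y
    obtain ⟨m, c, hc⟩ := hv1 (Ideal.Quotient.mk _ y)
    choose d hd using fun k => Ideal.Quotient.mk_surjective (c k)
    refine ⟨m, d, ?_⟩
    rw [← Ideal.Quotient.eq_zero_iff_mem, map_sub, sub_eq_zero]
    rw [← map_pow] at hc
    simp only [← hd, ← hw] at hc
    rw [map_sum]
    exact hc
  · intro c hc
    rw [← Ideal.Quotient.eq_zero_iff_mem, map_sum] at hc
    obtain ⟨m, hm⟩ := hv2 (fun k => Ideal.Quotient.mk I (c k)) (by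
      rw [← hc]
      simp only [← hw]
      rfl)
    refine ⟨m, fun k => ?_⟩
    rw [← Ideal.Quotient.eq_zero_iff_mem, map_mul, map_pow]
    exact hm k

end



section

variable {A B : Type u} [CommRing A] [CommRing B] [Algebra A B]

theorem exists_loc (a : A) (b : B) :
    ∃ (A' B' : Type u) (_ : CommRing A') (_ : CommRing B') (_ : Algebra A A') (_ : Algebra B B')
      (_ : Algebra A' B') (_ : Algebra A B') (_ : IsScalarTower A A' B') (_ : IsScalarTower A B B'),
      IsLocalization.Away a A' ∧ IsLocalization.Away (algebraMap A B a * b) B' := by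
  have hu : IsUnit (algebraMap A (Localization.Away (algebraMap A B a * b)) a) := by
    rw [IsScalarTower.algebraMap_apply A B (Localization.Away (algebraMap A B a * b))]
    have h1 : IsUnit (algebraMap B (Localization.Away (algebraMap A B a * b)) (algebraMap A B a * b)) :=
      IsLocalization.Away.algebraMap_isUnit _
    rw [map_mul] at h1
    exact isUnit_of_mul_isUnit_left h1
  let _ : Algebra (Localization.Away a) (Localization.Away (algebraMap A B a * b)) :=
    (IsLocalization.Away.lift a (g := algebraMap A (Localization.Away (algebraMap A B a * b))) hu).toAlgebra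
  have : IsScalarTower A (Localization.Away a) (Localization.Away (algebraMap A B a * b)) :=
    IsScalarTower.of_algebraMap_eq' (IsLocalization.Away.lift_comp a hu).symm
  exact ⟨Localization.Away a, Localization.Away (algebraMap A B a * b), inferInstance, inferInstance,
    inferInstance, inferInstance, inferInstance, inferInstance, this, inferInstance, inferInstance,
    inferInstance⟩

variable {A' B' : Type u} [CommRing A'] [CommRing B'] [Algebra A A'] [Algebra B B'] [Algebra A' B']
  [Algebra A B'] [IsScalarTower A A' B'] [IsScalarTower A B B'] (a : A) (b : B)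
  [IsLocalization.Away a A'] [IsLocalization.Away (algebraMap A B a * b) B']

include a b in
theorem loc_flat [Module.Flat A B] : Module.Flat A' B' := by
  have h1 : Module.Flat B B' := IsLocalization.flat B' (Submonoid.powers (algebraMap A B a * b))
  have h2 : Module.Flat A B' := Module.Flat.trans A B B'
  exact (Module.flat_iff_of_isLocalization A' (Submonoid.powers a) B').mpr h2

include a b in
theorem loc_fp [Algebra.FinitePresentation A B] : Algebra.FinitePresentation A' B' := by
  have h1 : Algebra.FinitePresentation B B' := IsLocalization.Away.finitePresentation (algebraMap A B a * b)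
  have h2 : Algebra.FinitePresentation A B' := Algebra.FinitePresentation.trans A B B'
  have h3 : Algebra.FiniteType A A' := IsLocalization.finiteType_of_monoid_fg (Submonoid.powers a) A'
  exact Algebra.FinitePresentation.of_restrict_scalars_finitePresentation A A' B'

/-- existence of the extended prime -/
theorem loc_prime (q : Ideal B) [q.IsPrime] (ha : algebraMap A B a ∉ q) (hb : b ∉ q) :
    ∃ q' : Ideal B', q'.IsPrime ∧ q'.comap (algebraMap B B') = q := by
  have h1 : (⟨q, ‹_›⟩ : PrimeSpectrum B) ∈ Set.range (PrimeSpectrum.comap (algebraMap B B')) := by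
    rw [PrimeSpectrum.localization_away_comap_range B' (algebraMap A B a * b)]
    change algebraMap A B a * b ∉ q
    intro h
    rcases (Ideal.IsPrime.mem_or_mem ‹_› h) with h | h
    · exact ha h
    · exact hb h
  obtain ⟨q', hq'⟩ := h1
  exact ⟨q'.asIdeal, q'.2, congrArg PrimeSpectrum.asIdeal hq'⟩

include a b in
theorem loc_ann (q : Ideal B) (q' : Ideal B') (hq' : q'.IsPrime)
    (hqq' : q'.comap (algebraMap B B') = q) (g : B) (hg : ∀ x, x * g = 0 → x ∈ q) :
    ∀ x, x * algebraMap B B' g = 0 → x ∈ q' := by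
  intro x hx
  obtain ⟨⟨y, s⟩, hy⟩ := IsLocalization.surj (Submonoid.powers (algebraMap A B a * b)) x
  have h1 : algebraMap B B' (y * g) = 0 := by
    rw [map_mul, ← hy]
    dsimp
    linear_combination (algebraMap B B' s) * hx
  obtain ⟨t, ht⟩ := (IsLocalization.map_eq_zero_iff (Submonoid.powers (algebraMap A B a * b)) B' _).mp h1
  have h2 : (t : B) * y ∈ q := hg _ (by rw [mul_assoc]; exact ht)
  have h3 : algebraMap B B' (t * y) ∈ q' := by
    rw [← Ideal.mem_comap, hqq']
    exact h2
  rw [map_mul] at h3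
  have h4 : algebraMap B B' y ∈ q' := by
    refine (hq'.mem_or_mem h3).resolve_left ?_
    intro h5
    exact hq'.ne_top (Ideal.eq_top_of_isUnit_mem _ h5 (IsLocalization.map_units B' t))
  rw [← hy] at h4
  refine (hq'.mem_or_mem h4).resolve_right ?_
  intro h5
  exact hq'.ne_top (Ideal.eq_top_of_isUnit_mem _ h5 (IsLocalization.map_units B' s))

end


section

variable {A B : Type u} [CommRing A] [CommRing B] [Algebra A B]

theorem L4 [Module.Flat A B] [Algebra.FinitePresentation A B]
    (I : Ideal A) (hI : I.FG) (g : B) (hg : ∀ i ∈ I, i • g = 0) (q : Ideal B) [q.IsPrime]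
    (hq : ∀ x, x * g = 0 → x ∈ q)
    (hfin : Module.Finite A (B ⧸ I.map (algebraMap A B))) : Pr (algebraMap A B) g := by
  let p := q.comap (algebraMap A B)
  have hIp : I ≤ p := fun i hi => hq _ (by rw [← Algebra.smul_def]; exact hg i hi)
  have hIq : I.map (algebraMap A B) ≤ q := Ideal.map_le_iff_le_comap.mpr hIp
  obtain ⟨a, ha, n, v, hv1, hv2⟩ := exists_free_mod I hfin p hIp
  have haq : algebraMap A B a ∉ q := ha
  have hn : 0 < n := by
    rcases Nat.eq_zero_or_pos n with rfl | h
    · exfalso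
      obtain ⟨m, c, hc⟩ := hv1 1
      simp only [Finset.univ_eq_empty, Finset.sum_empty, sub_zero] at hc
      have h1 := hIq hc
      rw [Algebra.smul_def, mul_one, map_pow] at h1
      exact haq (Ideal.IsPrime.mem_of_pow_mem ‹_› _ h1)
    · exact h
  obtain ⟨A', B', _, _, _, _, _, _, _, _, _, _⟩ := exists_loc a (1 : B)
  have hflat : Module.Flat A' B' := loc_flat a (1 : B)
  have hab : ∀ x : A, algebraMap A' B' (algebraMap A A' x) = algebraMap B B' (algebraMap A B x) := by
    intro x
    rw [← IsScalarTower.algebraMap_apply, ← IsScalarTower.algebraMap_apply]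
  apply Pr_loc (A' := A') (B' := B') a (algebraMap A B a * 1) (algebraMap A B) (algebraMap A' B')
    (by rw [← IsScalarTower.algebraMap_eq, ← IsScalarTower.algebraMap_eq])
  obtain ⟨q', hq', hqq'⟩ := loc_prime (B' := B') a 1 q haq (fun h => (Ideal.IsPrime.ne_top ‹_›) ((Ideal.eq_top_iff_one q).mpr h))
  have hann := loc_ann (A := A) (B' := B') a 1 q q' hq' hqq' g hq
  apply Pr_of_RPh
  · intro h0
    apply hq'.ne_top
    rw [Ideal.eq_top_iff_one]
    exact hann 1 (by rw [h0, mul_zero])
  have hmapI : (I.map (algebraMap A A')).map (algebraMap A' B') = (I.map (algebraMap A B)).map (algebraMap B B') := by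
    rw [Ideal.map_map, Ideal.map_map, ← IsScalarTower.algebraMap_eq, ← IsScalarTower.algebraMap_eq]
  have hmem : ∀ x : B, algebraMap B B' x ∈ (I.map (algebraMap A A')).map (algebraMap A' B') ↔
      ∃ N : ℕ, algebraMap A B a ^ N * x ∈ I.map (algebraMap A B) := by
    intro x
    rw [hmapI, IsLocalization.algebraMap_mem_map_algebraMap_iff (Submonoid.powers (algebraMap A B a * 1))]
    constructor
    · rintro ⟨_, ⟨N, rfl⟩, h⟩
      exact ⟨N, by simpa using h⟩
    · rintro ⟨N, h⟩
      exact ⟨_, ⟨N, rfl⟩, by simpa using h⟩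
  refine rp_of_basis (I.map (algebraMap A A')) (hI.map _) _ ?_ hn (fun k => algebraMap B B' (v k)) ?_ ?_
  · intro i hi
    refine Submodule.span_induction ?_ ?_ ?_ ?_ hi
    · rintro _ ⟨i, hi, rfl⟩
      rw [algebraMap_smul, Algebra.smul_def, IsScalarTower.algebraMap_apply A B B', ← map_mul,
        ← Algebra.smul_def, hg i hi, map_zero]
    · simp
    · intro x y _ _ hx hy
      rw [add_smul, hx, hy, add_zero]
    · intro b x _ hx
      rw [smul_eq_mul, mul_smul, hx, smul_zero]
  · intro y'
    obtain ⟨⟨y, _, s, rfl⟩, hy⟩ := IsLocalization.surj (Submonoid.powers (algebraMap A B a * 1)) y'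
    obtain ⟨m, c, hc⟩ := hv1 y
    obtain ⟨w, hw⟩ := (IsLocalization.Away.algebraMap_isUnit (S := A') a).exists_right_inv
    refine ⟨fun k => w ^ (m + s) * algebraMap A A' (c k), ?_⟩
    have hw' : algebraMap B B' (algebraMap A B a) * algebraMap A' B' w = 1 := by
      rw [← hab, ← map_mul, hw, map_one]
    have hy' : y' * (algebraMap B B' (algebraMap A B a)) ^ s = algebraMap B B' y := by
      rw [← hy]
      simp
    have h1 : algebraMap B B' (a ^ m • y - ∑ k, c k • v k) ∈ (I.map (algebraMap A A')).map (algebraMap A' B') := by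
      rw [hmapI]
      exact Ideal.mem_map_of_mem _ hc
    have h2 : y' - ∑ k, (w ^ (m + s) * algebraMap A A' (c k)) • algebraMap B B' (v k) =
        (algebraMap A' B' w) ^ (m + s) * algebraMap B B' (a ^ m • y - ∑ k, c k • v k) := by
      rw [map_sub, mul_sub, map_sum, Finset.mul_sum]
      congr 1
      · rw [Algebra.smul_def, map_mul, ← hy', map_pow, map_pow]
        have h3 : (algebraMap A' B' w) ^ (m + s) * (algebraMap B B' (algebraMap A B a)) ^ (m + s) = 1 := by
          rw [← mul_pow, mul_comm, hw', one_pow]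
        calc y' = y' * 1 := (mul_one _).symm
          _ = _ := by rw [← h3, pow_add (algebraMap B B' (algebraMap A B a))]; ring
      · refine Finset.sum_congr rfl fun k _ => ?_
        simp only [Algebra.smul_def, map_mul, map_pow, hab]
        ring
    rw [h2]
    exact Ideal.mul_mem_left _ _ h1
  · intro c' hc'
    obtain ⟨⟨_, s, rfl⟩, hs⟩ := IsLocalization.exist_integer_multiples_of_finite (Submonoid.powers a) c'
    choose c hc using hs
    have h1 : algebraMap B B' (∑ k, c k • v k) ∈ (I.map (algebraMap A A')).map (algebraMap A' B') := by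
      have h2 : algebraMap B B' (∑ k, c k • v k) = algebraMap A' B' (algebraMap A A' a ^ s) * ∑ k, c' k • algebraMap B B' (v k) := by
        rw [map_sum, Finset.mul_sum]
        refine Finset.sum_congr rfl fun k _ => ?_
        have h3 := congrArg (algebraMap A' B') (hc k)
        rw [hab] at h3
        simp only [Algebra.smul_def, map_mul, h3]
        simp only [Submonoid.smul_def, Algebra.smul_def, map_mul, map_pow]
        ring
      rw [h2]
      exact Ideal.mul_mem_left _ _ hc'
    rw [hmem] at h1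
    obtain ⟨N, hN⟩ := h1
    obtain ⟨m, hm⟩ := hv2 (fun k => a ^ N * c k) (by
      convert hN using 1
      rw [Finset.mul_sum]
      refine Finset.sum_congr rfl fun k _ => ?_
      simp only [Algebra.smul_def, map_mul, map_pow]
      ring)
    intro k
    have h4 : algebraMap A A' (a ^ m * (a ^ N * c k)) ∈ I.map (algebraMap A A') := Ideal.mem_map_of_mem _ (hm k)
    rw [map_mul, map_mul, hc k] at h4
    simp only [Submonoid.smul_def, Algebra.smul_def, map_pow] at h4
    have hu : IsUnit (algebraMap A A' a) := IsLocalization.Away.algebraMap_isUnit a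
    rw [Ideal.unit_mul_mem_iff_mem _ (hu.pow m), Ideal.unit_mul_mem_iff_mem _ (hu.pow N),
      Ideal.unit_mul_mem_iff_mem _ (hu.pow s)] at h4
    exact h4


theorem fin_iff (K : Ideal B) : Module.Finite A (B ⧸ K) ↔
    ∃ (n : ℕ) (v : Fin n → B), ∀ y : B, ∃ c : Fin n → A, y - ∑ k, c k • v k ∈ K := by
  constructor
  · intro h
    obtain ⟨n, s, hs⟩ := Module.Finite.exists_fin (R := A) (M := B ⧸ K)
    choose v hv using fun k => Ideal.Quotient.mk_surjective (s k)
    refine ⟨n, v, fun y => ?_⟩
    have h1 : Ideal.Quotient.mk K y ∈ Submodule.span A (Set.range s) := by rw [hs]; trivial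
    rw [Submodule.mem_span_range_iff_exists_fun] at h1
    obtain ⟨c, hc⟩ := h1
    refine ⟨c, ?_⟩
    rw [← Ideal.Quotient.eq_zero_iff_mem, map_sub, sub_eq_zero, ← hc, map_sum]
    refine Finset.sum_congr rfl fun k _ => ?_
    rw [← hv k]
    rfl
  · classical
    rintro ⟨n, v, hv⟩
    refine ⟨⟨Finset.univ.image (fun k => Ideal.Quotient.mk K (v k)), ?_⟩⟩
    rw [eq_top_iff]
    rintro y -
    obtain ⟨y, rfl⟩ := Ideal.Quotient.mk_surjective y
    obtain ⟨c, hc⟩ := hv y
    rw [← Ideal.Quotient.eq_zero_iff_mem, map_sub, sub_eq_zero] at hc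
    rw [hc, map_sum]
    refine Submodule.sum_mem _ fun k _ => ?_
    have h1 : Ideal.Quotient.mk K (c k • v k) = c k • Ideal.Quotient.mk K (v k) := rfl
    rw [h1]
    exact Submodule.smul_mem _ _ (Submodule.subset_span (by simp))

theorem fin_loc {A' B' : Type u} [CommRing A'] [CommRing B'] [Algebra A A'] [Algebra B B'] [Algebra A' B']
    (hab : ∀ x : A, algebraMap A' B' (algebraMap A A' x) = algebraMap B B' (algebraMap A B x))
    (K : Ideal B) (K' : Ideal B') (hK : K.map (algebraMap B B') ≤ K')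
    (hfin : Module.Finite A (B ⧸ K))
    (H : ∀ y' : B', ∃ (w : A') (y : B), y' - algebraMap A' B' w * algebraMap B B' y ∈ K') :
    Module.Finite A' (B' ⧸ K') := by
  rw [fin_iff] at hfin ⊢
  obtain ⟨n, v, hv⟩ := hfin
  refine ⟨n, fun k => algebraMap B B' (v k), fun y' => ?_⟩
  obtain ⟨w, y, hwy⟩ := H y'
  obtain ⟨c, hc⟩ := hv y
  refine ⟨fun k => w * algebraMap A A' (c k), ?_⟩
  have h1 : y' - ∑ k, (w * algebraMap A A' (c k)) • algebraMap B B' (v k) =
      (y' - algebraMap A' B' w * algebraMap B B' y) +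
      algebraMap A' B' w * algebraMap B B' (y - ∑ k, c k • v k) := by
    rw [map_sub, map_sum, mul_sub, Finset.mul_sum]
    have : ∀ k, (w * algebraMap A A' (c k)) • algebraMap B B' (v k) =
        algebraMap A' B' w * algebraMap B B' (c k • v k) := by
      intro k
      simp only [Algebra.smul_def, map_mul, hab]
      ring
    simp only [this]
    ring
  rw [h1]
  exact K'.add_mem hwy (Ideal.mul_mem_left _ _ (hK (Ideal.mem_map_of_mem _ hc)))

theorem L3 [Module.Flat A B] [Algebra.FinitePresentation A B]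
    (I : Ideal A) (hI : I.FG) (g : B) (b : B) (hg : ∀ i ∈ I, b * (i • g) = 0) (q : Ideal B) [q.IsPrime]
    (hq : ∀ x, x * g = 0 → x ∈ q) (hb : b ∉ q)
    (huniq : ∀ q' : Ideal B, q'.IsPrime → q'.comap (algebraMap A B) = q.comap (algebraMap A B) → q' = q)
    (hfin : Module.Finite A (B ⧸ I.map (algebraMap A B))) : Pr (algebraMap A B) g := by
  let p := q.comap (algebraMap A B)
  obtain ⟨a, ha, c, hc⟩ : ∃ a ∉ p, ∃ c : B, algebraMap A B a - b * c ∈ I.map (algebraMap A B) := by
    by_contra hcon
    push Not at hcon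
    have h1 : (Ideal.span {Ideal.Quotient.mk (I.map (algebraMap A B)) b}).comap (algebraMap A _) ≤ p := by
      intro a ha
      by_contra hap
      rw [Ideal.mem_comap, Ideal.mem_span_singleton'] at ha
      obtain ⟨c, hc⟩ := ha
      obtain ⟨c, rfl⟩ := Ideal.Quotient.mk_surjective c
      apply hcon a hap c
      rw [← Ideal.Quotient.eq_zero_iff_mem, map_sub, sub_eq_zero, mul_comm b c, map_mul, hc]
      rfl
    obtain ⟨Q, hQ1, hQ2, hQ3⟩ := Ideal.exists_ideal_over_prime_of_isIntegral p _ h1
    have h2 := huniq (Q.comap (Ideal.Quotient.mk _)) inferInstance (by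
      rw [Ideal.comap_comap]
      exact hQ3)
    apply hb
    rw [← h2]
    exact hQ1 (Ideal.mem_span_singleton_self _)
  have haq : algebraMap A B a ∉ q := ha
  obtain ⟨A', B', _, _, _, _, _, _, _, _, _, _⟩ := exists_loc a b
  have hflat : Module.Flat A' B' := loc_flat a b
  have hfp : Algebra.FinitePresentation A' B' := loc_fp a b
  have hab : ∀ x : A, algebraMap A' B' (algebraMap A A' x) = algebraMap B B' (algebraMap A B x) := by
    intro x
    rw [← IsScalarTower.algebraMap_apply, ← IsScalarTower.algebraMap_apply]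
  apply Pr_loc (A' := A') (B' := B') a (algebraMap A B a * b) (algebraMap A B) (algebraMap A' B')
    (by rw [← IsScalarTower.algebraMap_eq, ← IsScalarTower.algebraMap_eq])
  obtain ⟨q', hq', hqq'⟩ := loc_prime (B' := B') a b q haq hb
  have hann := loc_ann (A := A) (B' := B') a b q q' hq' hqq' g hq
  have hmapI : (I.map (algebraMap A A')).map (algebraMap A' B') = (I.map (algebraMap A B)).map (algebraMap B B') := by
    rw [Ideal.map_map, Ideal.map_map, ← IsScalarTower.algebraMap_eq, ← IsScalarTower.algebraMap_eq]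
  have hu : IsUnit (algebraMap B B' (algebraMap A B a * b)) := IsLocalization.Away.algebraMap_isUnit _
  rw [map_mul] at hu
  have hua := isUnit_of_mul_isUnit_left hu
  have hub := isUnit_of_mul_isUnit_right hu
  refine L4 (I.map (algebraMap A A')) (hI.map _) (algebraMap B B' g) ?_ q' hann ?_
  · intro i hi
    refine Submodule.span_induction ?_ ?_ ?_ ?_ hi
    · rintro _ ⟨i, hi, rfl⟩
      rw [algebraMap_smul, Algebra.smul_def, IsScalarTower.algebraMap_apply A B B', ← map_mul,
        ← Algebra.smul_def]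
      apply hub.mul_right_injective
      dsimp only
      rw [← map_mul, hg i hi, map_zero, mul_zero]
    · simp
    · intro x y _ _ hx hy
      rw [add_smul, hx, hy, add_zero]
    · intro b x _ hx
      rw [smul_eq_mul, mul_smul, hx, smul_zero]
  · refine fin_loc (A := A) (B := B) hab (I.map (algebraMap A B)) _ hmapI.ge hfin ?_
    intro y'
    obtain ⟨⟨y, _, s, rfl⟩, hy⟩ := IsLocalization.surj (Submonoid.powers (algebraMap A B a * b)) y'
    obtain ⟨w, hw⟩ := (IsLocalization.Away.algebraMap_isUnit (S := A') a).exists_right_inv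
    have hw' : algebraMap B B' (algebraMap A B a) * algebraMap A' B' w = 1 := by
      rw [← hab, ← map_mul, hw, map_one]
    refine ⟨w ^ (2 * s), y * c ^ s, ?_⟩
    rw [hmapI]
    have h1 : algebraMap B B' (algebraMap A B a - b * c) ∈ (I.map (algebraMap A B)).map (algebraMap B B') :=
      Ideal.mem_map_of_mem _ hc
    set K' := (I.map (algebraMap A B)).map (algebraMap B B')
    rw [← Ideal.Quotient.eq_zero_iff_mem] at h1 ⊢
    have hy2 : y' * (algebraMap B B' (algebraMap A B a) * algebraMap B B' b) ^ s = algebraMap B B' y := by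
      rw [← hy]; simp
    rw [map_sub, map_sub, map_mul, sub_eq_zero] at h1
    have h3 := congrArg (Ideal.Quotient.mk K') hw'
    have h4 : Ideal.Quotient.mk K' (algebraMap B B' y) = Ideal.Quotient.mk K' y' *
        (Ideal.Quotient.mk K' (algebraMap B B' b) * Ideal.Quotient.mk K' (algebraMap B B' (algebraMap A B a))) ^ s := by
      rw [← hy2]; simp only [map_mul, map_pow]; ring
    simp only [map_sub, map_mul, map_pow, map_one] at h1 h3 ⊢
    rw [h4, sub_eq_zero]
    set α := Ideal.Quotient.mk K' (algebraMap B B' (algebraMap A B a))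
    set β := Ideal.Quotient.mk K' (algebraMap B B' b)
    set γ := Ideal.Quotient.mk K' (algebraMap B B' c)
    set ω := Ideal.Quotient.mk K' (algebraMap A' B' w)
    set η := Ideal.Quotient.mk K' y'
    calc η = η * ((α * ω) * (α * ω)) ^ s := by rw [h3]; simp
      _ = η * ((α * ω) * ((β * γ) * ω)) ^ s := by rw [h1]
      _ = _ := by ring


theorem span_loc {A' B' : Type u} [CommRing A'] [CommRing B'] [Algebra A A'] [Algebra B B'] [Algebra A' B']
    (hab : ∀ x : A, algebraMap A' B' (algebraMap A A' x) = algebraMap B B' (algebraMap A B x))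
    (a : A) [IsLocalization.Away a A'] [IsLocalization.Away (algebraMap A B a * 1) B']
    (K : Ideal B) (K' : Ideal B') (hK : K.map (algebraMap B B') ≤ K') {n : ℕ} (v : Fin n → B)
    (hv1 : ∀ y : B, ∃ (m : ℕ) (c : Fin n → A), a ^ m • y - ∑ k, c k • v k ∈ K) :
    ∀ y' : B', ∃ c' : Fin n → A', y' - ∑ k, c' k • algebraMap B B' (v k) ∈ K' := by
  intro y'
  obtain ⟨⟨y, _, s, rfl⟩, hy⟩ := IsLocalization.surj (Submonoid.powers (algebraMap A B a * 1)) y'
  obtain ⟨m, c, hc⟩ := hv1 y
  obtain ⟨w, hw⟩ := (IsLocalization.Away.algebraMap_isUnit (S := A') a).exists_right_inv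
  refine ⟨fun k => w ^ (m + s) * algebraMap A A' (c k), ?_⟩
  have hw' : algebraMap B B' (algebraMap A B a) * algebraMap A' B' w = 1 := by
    rw [← hab, ← map_mul, hw, map_one]
  have hy' : y' * (algebraMap B B' (algebraMap A B a)) ^ s = algebraMap B B' y := by
    rw [← hy]
    simp
  have h1 : algebraMap B B' (a ^ m • y - ∑ k, c k • v k) ∈ K' :=
    hK (Ideal.mem_map_of_mem _ hc)
  have h2 : y' - ∑ k, (w ^ (m + s) * algebraMap A A' (c k)) • algebraMap B B' (v k) =
      (algebraMap A' B' w) ^ (m + s) * algebraMap B B' (a ^ m • y - ∑ k, c k • v k) := by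
    rw [map_sub, mul_sub, map_sum, Finset.mul_sum]
    congr 1
    · rw [Algebra.smul_def, map_mul, ← hy', map_pow, map_pow]
      have h3 : (algebraMap A' B' w) ^ (m + s) * (algebraMap B B' (algebraMap A B a)) ^ (m + s) = 1 := by
        rw [← mul_pow, mul_comm, hw', one_pow]
      calc y' = y' * 1 := (mul_one _).symm
        _ = _ := by rw [← h3, pow_add (algebraMap B B' (algebraMap A B a))]; ring
    · refine Finset.sum_congr rfl fun k _ => ?_
      simp only [Algebra.smul_def, map_mul, map_pow, hab]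
      ring
  rw [h2]
  exact Ideal.mul_mem_left _ _ h1

theorem fin_pow (J : Ideal A) {r : ℕ} (v : Fin r → B)
    (hv : ∀ y : B, ∃ c : Fin r → A, y - ∑ k, c k • v k ∈ J.map (algebraMap A B)) (n : ℕ) :
    ∀ y : B, ∃ c : Fin r → A, y - ∑ k, c k • v k ∈ (J ^ n).map (algebraMap A B) := by
  induction n with
  | zero =>
    intro y
    exact ⟨0, by rw [pow_zero, Ideal.one_eq_top, Ideal.map_top]; trivial⟩
  | succ n ih =>
    intro y
    obtain ⟨c, hc⟩ := ih y
    have key : ∀ z ∈ (J ^ n).map (algebraMap A B), ∀ b : B, ∃ c : Fin r → A,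
        b * z - ∑ k, c k • v k ∈ (J ^ (n + 1)).map (algebraMap A B) := by
      intro z hz
      refine Submodule.span_induction ?_ ?_ ?_ ?_ hz
      · rintro _ ⟨j, hj, rfl⟩ b
        obtain ⟨c, hc⟩ := hv b
        refine ⟨fun k => j * c k, ?_⟩
        have h1 : b * algebraMap A B j - ∑ k, (j * c k) • v k =
            algebraMap A B j * (b - ∑ k, c k • v k) := by
          rw [mul_sub, Finset.mul_sum, mul_comm b]
          congr 1
          refine Finset.sum_congr rfl fun k _ => ?_
          simp only [Algebra.smul_def, map_mul]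
          ring
        rw [h1, pow_succ, Ideal.map_mul]
        exact Ideal.mul_mem_mul (Ideal.mem_map_of_mem _ hj) hc
      · intro b
        exact ⟨0, by simp⟩
      · intro x y _ _ hx hy b
        obtain ⟨c, hc⟩ := hx b
        obtain ⟨d, hd⟩ := hy b
        refine ⟨fun k => c k + d k, ?_⟩
        have : b * (x + y) - ∑ k, (c k + d k) • v k =
          (b * x - ∑ k, c k • v k) + (b * y - ∑ k, d k • v k) := by
          simp only [add_smul, Finset.sum_add_distrib]
          ring
        rw [this]
        exact Ideal.add_mem _ hc hd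
      · intro a x _ hx b
        obtain ⟨c, hc⟩ := hx (b * a)
        exact ⟨c, by rw [smul_eq_mul, ← mul_assoc]; exact hc⟩
    obtain ⟨d, hd⟩ := key _ hc 1
    refine ⟨fun k => c k + d k, ?_⟩
    have : y - ∑ k, (c k + d k) • v k = 1 * (y - ∑ k, c k • v k) - ∑ k, d k • v k := by
      simp only [add_smul, Finset.sum_add_distrib]
      ring
    rw [this]
    exact hd

theorem fib_zero (p : Ideal A) [p.IsPrime] (y : B)
    (hy : (TensorProduct.tmul A (1 : p.ResidueField) y : p.Fiber B) = 0) :
    ∃ a ∉ p, a • y ∈ p.map (algebraMap A B) := by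
  letI := Algebra.TensorProduct.rightAlgebra (R := A) (A := p.ResidueField) (B := B)
  have h1 := congrArg (Ideal.Fiber.algEquivQuotient (S := B) p) hy
  rw [map_zero] at h1
  have h2 : Ideal.Fiber.algEquivQuotient (S := B) p (TensorProduct.tmul A (1 : p.ResidueField) y) =
      algebraMap B _ y := (Ideal.Fiber.algEquivQuotient (S := B) p).commutes y
  rw [h2] at h1
  have h3 : algebraMap B (Localization (Algebra.algebraMapSubmonoid B p.primeCompl)) y ∈
      (IsLocalRing.maximalIdeal (Localization p.primeCompl)).map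
        (algebraMap (Localization p.primeCompl) (Localization (Algebra.algebraMapSubmonoid B p.primeCompl))) := by
    rw [← Ideal.Quotient.eq_zero_iff_mem]
    exact h1
  have h4 : (IsLocalRing.maximalIdeal (Localization p.primeCompl)).map
        (algebraMap (Localization p.primeCompl) (Localization (Algebra.algebraMapSubmonoid B p.primeCompl))) =
      (p.map (algebraMap A B)).map (algebraMap B _) := by
    rw [← Localization.AtPrime.map_eq_maximalIdeal, Ideal.map_map, Ideal.map_map]
    congr 1
    rw [← IsScalarTower.algebraMap_eq, ← IsScalarTower.algebraMap_eq]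
  rw [h4, IsLocalization.algebraMap_mem_map_algebraMap_iff (Algebra.algebraMapSubmonoid B p.primeCompl)] at h3
  obtain ⟨_, ⟨a, ha, rfl⟩, h5⟩ := h3
  exact ⟨a, ha, by rwa [Algebra.smul_def]⟩


theorem exists_fg_sub (p : Ideal A) (z : B) (hz : z ∈ p.map (algebraMap A B)) :
    ∃ J : Ideal A, J.FG ∧ J ≤ p ∧ z ∈ J.map (algebraMap A B) := by
  refine Submodule.span_induction ?_ ?_ ?_ ?_ hz
  · rintro _ ⟨j, hj, rfl⟩
    refine ⟨Ideal.span {j}, Submodule.fg_span_singleton _, ?_, ?_⟩
    · rw [Ideal.span_le]; simpa using hj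
    · exact Ideal.mem_map_of_mem _ (Ideal.mem_span_singleton_self _)
  · exact ⟨⊥, Submodule.fg_bot, bot_le, Ideal.zero_mem _⟩
  · rintro x y - - ⟨J, h1, h2, h3⟩ ⟨J', h1', h2', h3'⟩
    exact ⟨J ⊔ J', Submodule.FG.sup h1 h1', sup_le h2 h2', Ideal.add_mem _ (Ideal.map_mono le_sup_left h3)
      (Ideal.map_mono le_sup_right h3')⟩
  · rintro b x - ⟨J, h1, h2, h3⟩
    exact ⟨J, h1, h2, Ideal.mul_mem_left _ _ h3⟩

theorem fib_elem (p : Ideal A) [p.IsPrime] {r : ℕ} (v : Fin r → B)
    (hv : Submodule.span p.ResidueField (Set.range (fun k => (TensorProduct.tmul A (1 : p.ResidueField) (v k) : p.Fiber B))) = ⊤)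
    (y : B) : ∃ a ∉ p, ∃ J : Ideal A, J.FG ∧ J ≤ p ∧ ∃ c : Fin r → A,
      a • y - ∑ k, c k • v k ∈ J.map (algebraMap A B) := by
  have h1 : (TensorProduct.tmul A (1 : p.ResidueField) y : p.Fiber B) ∈
    Submodule.span p.ResidueField (Set.range (fun k => (TensorProduct.tmul A (1 : p.ResidueField) (v k) : p.Fiber B))) := by
    rw [hv]; trivial
  rw [Submodule.mem_span_range_iff_exists_fun] at h1
  obtain ⟨lam, hlam⟩ := h1
  obtain ⟨⟨s, hs⟩, hc⟩ := IsLocalization.exist_integer_multiples_of_finite (nonZeroDivisors (A ⧸ p)) lam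
  obtain ⟨s, rfl⟩ := Ideal.Quotient.mk_surjective s
  choose c hc using hc
  choose d hd using fun k => Ideal.Quotient.mk_surjective (c k)
  have hsp : s ∉ p := by
    intro h
    exact nonZeroDivisors.ne_zero hs (Ideal.Quotient.eq_zero_iff_mem.mpr h)
  have h2 : (TensorProduct.tmul A (1 : p.ResidueField) (s • y - ∑ k, d k • v k) : p.Fiber B) = 0 := by
    rw [TensorProduct.tmul_sub, TensorProduct.tmul_smul, ← hlam, TensorProduct.tmul_sum, Finset.smul_sum, sub_eq_zero]
    refine Finset.sum_congr rfl fun k _ => ?_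
    have h3 := hc k
    rw [← hd k, Ideal.algebraMap_quotient_residueField_mk] at h3
    have h4 : (s • lam k) = algebraMap A p.ResidueField (d k) := by
      rw [h3, ← algebraMap_smul (A ⧸ p) s (lam k)]
      rfl
    rw [← smul_assoc, h4, algebraMap_smul, TensorProduct.tmul_smul]
  obtain ⟨a, ha, h3⟩ := fib_zero p _ h2
  obtain ⟨J, hJ1, hJ2, hJ3⟩ := exists_fg_sub p _ h3
  refine ⟨a * s, fun h => (Ideal.IsPrime.mem_or_mem ‹_› h).elim ha hsp, J, hJ1, hJ2, fun k => a * d k, ?_⟩
  convert hJ3 using 1
  rw [smul_sub, mul_smul, Finset.smul_sum]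
  simp only [mul_smul]


theorem fib_gen [Algebra.FiniteType A B] (p : Ideal A) [p.IsPrime]
    (hfib : Module.Finite p.ResidueField (p.Fiber B)) :
    ∃ a ∉ p, ∃ J : Ideal A, J.FG ∧ J ≤ p ∧ ∃ (n : ℕ) (v : Fin n → B),
      ∀ y : B, ∃ (m : ℕ) (c : Fin n → A), a ^ m • y - ∑ k, c k • v k ∈ J.map (algebraMap A B) := by
  classical
  -- generators of the fibre
  obtain ⟨n, v, hv⟩ : ∃ (n : ℕ) (v : Fin n → B), Submodule.span p.ResidueField
      (Set.range (fun k => (TensorProduct.tmul A (1 : p.ResidueField) (v k) : p.Fiber B))) = ⊤ := by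
    have h1 : Submodule.span p.ResidueField
        (Set.range (fun y : B => (TensorProduct.tmul A (1 : p.ResidueField) y : p.Fiber B))) = ⊤ := by
      rw [eq_top_iff]
      rintro x -
      induction x with
      | zero => exact Submodule.zero_mem _
      | add x y hx hy => exact Submodule.add_mem _ hx hy
      | tmul c y =>
        have : (TensorProduct.tmul A c y : p.Fiber B) = c • TensorProduct.tmul A (1 : p.ResidueField) y := by
          rw [TensorProduct.smul_tmul', smul_eq_mul, mul_one]
        rw [this]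
        exact Submodule.smul_mem _ _ (Submodule.subset_span ⟨y, rfl⟩)
    have h2 : (Submodule.span p.ResidueField
        (Set.range (fun y : B => (TensorProduct.tmul A (1 : p.ResidueField) y : p.Fiber B)))).FG := by
      rw [h1]; exact hfib.fg_top
    obtain ⟨T, hT1, hT2⟩ := (Submodule.fg_span_iff_fg_span_finset_subset _).mp h2
    choose w hw using fun t : T => hT1 t.2
    let e := T.equivFin
    refine ⟨T.card, fun k => w (e.symm k), ?_⟩
    rw [← h1, hT2]
    congr 1
    ext x
    constructor
    · rintro ⟨k, rfl⟩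
      dsimp only
      have := hw (e.symm k)
      dsimp only at this
      rw [this]
      exact (e.symm k).2
    · intro hx
      refine ⟨e ⟨x, hx⟩, ?_⟩
      dsimp only
      have := hw ⟨x, hx⟩
      dsimp only at this
      rw [e.symm_apply_apply, this]
  -- uniform choice for finitely many elements
  have huni : ∀ Y : Finset B, ∃ a ∉ p, ∃ J : Ideal A, J.FG ∧ J ≤ p ∧ ∀ y ∈ Y, ∃ c : Fin n → A,
      a • y - ∑ k, c k • v k ∈ J.map (algebraMap A B) := by
    intro Y
    induction Y using Finset.induction_on with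
    | empty => exact ⟨1, fun h => (Ideal.IsPrime.ne_top ‹_›) ((Ideal.eq_top_iff_one p).mpr h), ⊥, Submodule.fg_bot, bot_le, by simp⟩
    | insert y Y hy ih =>
      obtain ⟨a, ha, J, hJ1, hJ2, h⟩ := ih
      obtain ⟨a', ha', J', hJ1', hJ2', c', h'⟩ := fib_elem p v hv y
      refine ⟨a * a', fun h => (Ideal.IsPrime.mem_or_mem ‹_› h).elim ha ha', J ⊔ J',
        Submodule.FG.sup hJ1 hJ1', sup_le hJ2 hJ2', ?_⟩
      intro z hz
      rw [Finset.mem_insert] at hz
      rcases hz with rfl | hz
      · refine ⟨fun k => a * c' k, ?_⟩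
        have : (a * a') • z - ∑ k, (a * c' k) • v k = algebraMap A B a * (a' • z - ∑ k, c' k • v k) := by
          rw [mul_sub, Finset.mul_sum]
          simp only [Algebra.smul_def, map_mul, mul_assoc]
        rw [this]
        exact Ideal.mul_mem_left _ _ (Ideal.map_mono le_sup_right h')
      · obtain ⟨c, hc⟩ := h z hz
        refine ⟨fun k => a' * c k, ?_⟩
        have : (a * a') • z - ∑ k, (a' * c k) • v k = algebraMap A B a' * (a • z - ∑ k, c k • v k) := by
          rw [mul_sub, Finset.mul_sum]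
          simp only [Algebra.smul_def, map_mul, mul_assoc]
          ring
        rw [this]
        exact Ideal.mul_mem_left _ _ (Ideal.map_mono le_sup_left hc)
  obtain ⟨X, hX⟩ := Algebra.FiniteType.out (R := A) (A := B)
  obtain ⟨a, ha, J, hJ1, hJ2, h⟩ := huni (insert 1 ((X ×ˢ (Finset.univ : Finset (Fin n))).image (fun t => t.1 * v t.2)))
  have h1 := h 1 (Finset.mem_insert_self _ _)
  have hX' : ∀ x ∈ X, ∀ k, ∃ c : Fin n → A, a • (x * v k) - ∑ k, c k • v k ∈ J.map (algebraMap A B) := by
    intro x hx k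
    apply h
    rw [Finset.mem_insert]
    right
    rw [Finset.mem_image]
    exact ⟨(x, k), by simp [hx], rfl⟩
  let L : Submodule A B := Submodule.span A (Set.range v) ⊔ (J.map (algebraMap A B)).restrictScalars A
  have hL : ∀ y, y ∈ L ↔ ∃ c : Fin n → A, y - ∑ k, c k • v k ∈ J.map (algebraMap A B) := by
    intro y
    rw [Submodule.mem_sup]
    constructor
    · rintro ⟨y₁, hy₁, y₂, hy₂, rfl⟩
      rw [Submodule.mem_span_range_iff_exists_fun] at hy₁
      obtain ⟨c, rfl⟩ := hy₁
      exact ⟨c, by simpa using hy₂⟩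
    · rintro ⟨c, hc⟩
      exact ⟨∑ k, c k • v k, (Submodule.mem_span_range_iff_exists_fun A).mpr ⟨c, rfl⟩, _, hc, by ring⟩
  refine ⟨a, ha, J, hJ1, hJ2, n, v, ?_⟩
  have hP : ∀ b : B, ∀ y ∈ L, ∃ m : ℕ, a ^ m • (b * y) ∈ L := by
    intro b
    have hb : b ∈ Algebra.adjoin A (X : Set B) := by rw [hX]; trivial
    induction hb using Algebra.adjoin_induction with
    | mem x hx =>
      intro y hy
      refine ⟨1, ?_⟩
      rw [pow_one]
      obtain ⟨y₁, hy₁, y₂, hy₂, rfl⟩ := Submodule.mem_sup.mp hy
      rw [mul_add, smul_add]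
      refine L.add_mem ?_ ?_
      · rw [Submodule.mem_span_range_iff_exists_fun] at hy₁
        obtain ⟨c, rfl⟩ := hy₁
        rw [Finset.mul_sum, Finset.smul_sum]
        refine L.sum_mem fun k _ => ?_
        rw [mul_smul_comm, smul_comm]
        exact L.smul_mem _ ((hL _).mpr (hX' x hx k))
      · refine L.smul_mem _ ?_
        exact Submodule.mem_sup_right (Ideal.mul_mem_left _ _ hy₂)
    | algebraMap r =>
      intro y hy
      exact ⟨0, by rw [pow_zero, one_smul, ← Algebra.smul_def]; exact L.smul_mem _ hy⟩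
    | add x y _ _ hx hy =>
      intro z hz
      obtain ⟨m, hm⟩ := hx z hz
      obtain ⟨m', hm'⟩ := hy z hz
      refine ⟨m + m', ?_⟩
      rw [add_mul, smul_add]
      refine L.add_mem ?_ ?_
      · rw [pow_add, mul_comm, mul_smul]; exact L.smul_mem _ hm
      · rw [pow_add, mul_smul]; exact L.smul_mem _ hm'
    | mul x y _ _ hx hy =>
      intro z hz
      obtain ⟨m, hm⟩ := hy z hz
      obtain ⟨m', hm'⟩ := hx _ hm
      refine ⟨m' + m, ?_⟩
      rw [pow_add, mul_smul]
      rwa [mul_smul_comm, ← mul_assoc] at hm'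
  intro y
  obtain ⟨m, hm⟩ := hP y (a • 1) ((hL _).mpr h1)
  obtain ⟨c, hc⟩ := (hL _).mp hm
  refine ⟨m + 1, c, ?_⟩
  rw [pow_succ, mul_smul]
  rwa [mul_smul_comm, mul_one] at hc


theorem exists_kill (g : B) (q : Ideal B) [q.IsPrime]
    (hN : ∀ x ∈ q, ∃ s ∉ q, ∃ m : ℕ, s * (x ^ m * g) = 0) (J : Ideal A) (hJ : J.FG)
    (hJq : J ≤ q.comap (algebraMap A B)) :
    ∃ s ∉ q, ∃ n : ℕ, ∀ i ∈ J ^ n, s * (i • g) = 0 := by
  classical
  obtain ⟨T, hT⟩ := hJ
  have h1 : ∀ t : T, ∃ s ∉ q, ∃ m : ℕ, s * ((algebraMap A B t) ^ m * g) = 0 := fun t =>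
    hN _ (hJq (by rw [← hT]; exact Ideal.subset_span t.2))
  choose s hs m hm using h1
  let S := ∏ t, s t
  have hS : S ∉ q := by
    rw [Ideal.IsPrime.prod_mem_iff]
    push Not
    exact fun t _ => hs t
  let K' : Ideal A := LinearMap.ker (LinearMap.toSpanSingleton A B (S * g))
  have hK' : ∀ i, i ∈ K' ↔ i • (S * g) = 0 := fun i => by
    rw [LinearMap.mem_ker, LinearMap.toSpanSingleton_apply]
  have hJr : J ≤ K'.radical := by
    rw [← hT]
    refine Ideal.span_le.mpr fun t ht => ⟨m ⟨t, ht⟩, ?_⟩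
    rw [hK', Algebra.smul_def, map_pow]
    have h2 := Finset.prod_erase_mul Finset.univ s (Finset.mem_univ (⟨t, ht⟩ : T))
    change _ * ((∏ t, s t) * g) = 0
    rw [← h2]
    linear_combination (∏ x ∈ Finset.univ.erase (⟨t, ht⟩ : T), s x) * hm ⟨t, ht⟩
  obtain ⟨n, hn⟩ := Ideal.exists_pow_le_of_le_radical_of_fg hJr ⟨T, hT⟩
  refine ⟨S, hS, n, fun i hi => ?_⟩
  have := (hK' i).mp (hn hi)
  rwa [mul_smul_comm]

theorem L1 [Module.Flat A B] [Algebra.FinitePresentation A B] [Algebra.QuasiFinite A B]
    (g : B) (q : Ideal B) [q.IsPrime]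
    (hq : ∀ x, x * g = 0 → x ∈ q)
    (huniq : ∀ q' : Ideal B, q'.IsPrime → q'.comap (algebraMap A B) = q.comap (algebraMap A B) → q' = q)
    (hN : ∀ x ∈ q, ∃ s ∉ q, ∃ m : ℕ, s * (x ^ m * g) = 0) : Pr (algebraMap A B) g := by
  let p := q.comap (algebraMap A B)
  obtain ⟨a, ha, J, hJ1, hJ2, n, v, hv⟩ := fib_gen (B := B) p inferInstance
  obtain ⟨s, hs, N, hsN⟩ := exists_kill g q hN J hJ1 hJ2
  have haq : algebraMap A B a ∉ q := ha
  have h1q : (1 : B) ∉ q := fun h => (Ideal.IsPrime.ne_top ‹_›) ((Ideal.eq_top_iff_one q).mpr h)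
  obtain ⟨A', B', _, _, _, _, _, _, _, _, _, _⟩ := exists_loc a (1 : B)
  have hflat : Module.Flat A' B' := loc_flat a (1 : B)
  have hfp : Algebra.FinitePresentation A' B' := loc_fp a (1 : B)
  have hab : ∀ x : A, algebraMap A' B' (algebraMap A A' x) = algebraMap B B' (algebraMap A B x) := by
    intro x
    rw [← IsScalarTower.algebraMap_apply, ← IsScalarTower.algebraMap_apply]
  apply Pr_loc (A' := A') (B' := B') a (algebraMap A B a * 1) (algebraMap A B) (algebraMap A' B')
    (by rw [← IsScalarTower.algebraMap_eq, ← IsScalarTower.algebraMap_eq])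
  obtain ⟨q', hq', hqq'⟩ := loc_prime (B' := B') a 1 q haq h1q
  have hann := loc_ann (A := A) (B' := B') a 1 q q' hq' hqq' g hq
  have hmapI : ∀ I : Ideal A, (I.map (algebraMap A A')).map (algebraMap A' B') = (I.map (algebraMap A B)).map (algebraMap B B') := by
    intro I
    rw [Ideal.map_map, Ideal.map_map, ← IsScalarTower.algebraMap_eq, ← IsScalarTower.algebraMap_eq]
  have hinj : Function.Injective (PrimeSpectrum.comap (algebraMap B B')) :=
    PrimeSpectrum.localization_comap_injective B' (Submonoid.powers (algebraMap A B a * 1))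
  refine L3 ((J ^ N).map (algebraMap A A')) ((Ideal.FG.pow hJ1).map _) (algebraMap B B' g)
    (algebraMap B B' s) ?_ q' hann ?_ ?_ ?_
  · intro i hi
    refine Submodule.span_induction ?_ ?_ ?_ ?_ hi
    · rintro _ ⟨i, hi, rfl⟩
      have h5 : (algebraMap A A' i) • algebraMap B B' g = algebraMap B B' (i • g) := by
        rw [algebraMap_smul, Algebra.smul_def i (algebraMap B B' g), Algebra.smul_def i g, map_mul,
          IsScalarTower.algebraMap_apply A B B']
      rw [h5, ← map_mul, hsN i hi, map_zero]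
    · simp
    · intro x y _ _ hx hy
      rw [add_smul, mul_add, hx, hy, add_zero]
    · intro b x _ hx
      rw [smul_eq_mul, mul_smul, mul_smul_comm, hx, smul_zero]
  · rw [← Ideal.mem_comap, hqq']
    exact hs
  · intro q'' hq'' h
    have h1 : (q''.comap (algebraMap B B')).comap (algebraMap A B) = q.comap (algebraMap A B) := by
      rw [← hqq', Ideal.comap_comap, Ideal.comap_comap, ← IsScalarTower.algebraMap_eq,
        IsScalarTower.algebraMap_eq A A' B', ← Ideal.comap_comap, ← Ideal.comap_comap, h]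
    have h2 := huniq _ inferInstance h1
    have h3 : (⟨q'', hq''⟩ : PrimeSpectrum B') = ⟨q', hq'⟩ := by
      apply hinj
      apply PrimeSpectrum.ext
      change q''.comap (algebraMap B B') = q'.comap (algebraMap B B')
      rw [h2, hqq']
    exact congrArg PrimeSpectrum.asIdeal h3
  · rw [fin_iff]
    refine ⟨n, fun k => algebraMap B B' (v k), ?_⟩
    have h1 := span_loc (A' := A') (B' := B') hab a (J.map (algebraMap A B)) _ (hmapI J).ge v hv
    rw [Ideal.map_pow]
    exact fin_pow (J.map (algebraMap A A')) _ h1 N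

theorem L0 [Module.Flat A B] [Algebra.FinitePresentation A B] [Algebra.QuasiFinite A B]
    (g : B) (hg : g ≠ 0) : Pr (algebraMap A B) g := by
  classical
  let K : Ideal B := LinearMap.ker (LinearMap.toSpanSingleton B B g)
  have hK : ∀ x, x ∈ K ↔ x * g = 0 := fun x => by
    rw [LinearMap.mem_ker, LinearMap.toSpanSingleton_apply, smul_eq_mul]
  have hKtop : K ≠ ⊤ := by
    intro h
    apply hg
    have : (1 : B) ∈ K := by rw [h]; trivial
    rwa [hK, one_mul] at this
  obtain ⟨M, hM, hKM⟩ := Ideal.exists_le_maximal K hKtop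
  obtain ⟨q, hq, hqM⟩ := Ideal.exists_minimalPrimes_le (J := M) hKM
  have hqp : q.IsPrime := hq.1.1
  have hKq : K ≤ q := hq.1.2
  let p := q.comap (algebraMap A B)
  -- minimality
  have hN : ∀ x ∈ q, ∃ s ∉ q, ∃ m : ℕ, s * (x ^ m * g) = 0 := by
    intro x hx
    by_contra hcon
    push Not at hcon
    have hdisj : Disjoint (K : Set B) ((q.primeCompl ⊔ Submonoid.powers x : Submonoid B) : Set B) := by
      rw [Set.disjoint_left]
      intro y hy hy'
      obtain ⟨s, hs, _, ⟨m, rfl⟩, rfl⟩ := Submonoid.mem_sup.mp hy'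
      apply hcon s hs m
      have := (hK _).mp hy
      rwa [mul_assoc] at this
    obtain ⟨Q, hQ1, hQ2, hQ3⟩ := Ideal.exists_le_prime_disjoint K _ hdisj
    have hQq : Q ≤ q := by
      intro y hy
      by_contra hyq
      exact Set.disjoint_left.mp hQ3 hy (Submonoid.mem_sup_left hyq)
    have h1 := hq.2 ⟨hQ1, hQ2⟩ hQq
    exact Set.disjoint_left.mp hQ3 (h1 hx) (Submonoid.mem_sup_right (Submonoid.mem_powers x))
  -- isolate q
  have hfin := Algebra.QuasiFinite.finite_primesOver (R := A) (S := B) p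
  obtain ⟨b, hb1, hb2⟩ : ∃ b ∉ q, ∀ q' : Ideal B, q'.IsPrime → q'.comap (algebraMap A B) = p → q' ≠ q → b ∈ q' := by
    let T := hfin.toFinset.erase q
    have h1 : ¬ (∏ q' ∈ T, q') ≤ q := by
      rw [Ideal.IsPrime.prod_le hqp]
      rintro ⟨q', hq'T, hq'q⟩
      rw [Finset.mem_erase, Set.Finite.mem_toFinset] at hq'T
      obtain ⟨h2, h3, h4⟩ := hq'T
      exact h2 (Algebra.QuasiFinite.eq_of_le_of_under_eq (R := A) q' q hq'q (h4.over.symm))
    obtain ⟨b, hb, hbq⟩ := Set.not_subset.mp h1
    refine ⟨b, hbq, fun q' hq' h2 h3 => ?_⟩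
    have h4 : q' ∈ T := by
      rw [Finset.mem_erase, Set.Finite.mem_toFinset]
      exact ⟨h3, hq', ⟨h2.symm⟩⟩
    have h5 : ∏ q' ∈ T, q' ≤ q' := Ideal.prod_le_inf.trans (Finset.inf_le (f := fun x => x) h4)
    exact h5 hb
  have h1p : algebraMap A B 1 ∉ q := by
    rw [map_one]
    exact fun h => (Ideal.IsPrime.ne_top ‹_›) ((Ideal.eq_top_iff_one q).mpr h)
  obtain ⟨A', B', _, _, _, _, _, _, _, _, _, _⟩ := exists_loc (1 : A) b
  have hflat : Module.Flat A' B' := loc_flat (1 : A) b
  have hfp : Algebra.FinitePresentation A' B' := loc_fp (1 : A) b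
  have hqf1 : Algebra.QuasiFinite A B' :=
    Algebra.QuasiFinite.of_isLocalization (S := B) (Submonoid.powers (algebraMap A B 1 * b))
  have hqf : Algebra.QuasiFinite A' B' := Algebra.QuasiFinite.of_restrictScalars A A' B'
  apply Pr_loc (A' := A') (B' := B') 1 (algebraMap A B 1 * b) (algebraMap A B) (algebraMap A' B')
    (by rw [← IsScalarTower.algebraMap_eq, ← IsScalarTower.algebraMap_eq])
  obtain ⟨q', hq', hqq'⟩ := loc_prime (B' := B') 1 b q h1p hb1
  have hann := loc_ann (A := A) (B' := B') 1 b q q' hq' hqq' g (fun x hx => hKq ((hK x).mpr hx))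
  have hinj : Function.Injective (PrimeSpectrum.comap (algebraMap B B')) :=
    PrimeSpectrum.localization_comap_injective B' (Submonoid.powers (algebraMap A B 1 * b))
  refine L1 _ q' hann ?_ ?_
  · intro q'' hq'' h
    have h1 : (q''.comap (algebraMap B B')).comap (algebraMap A B) = q.comap (algebraMap A B) := by
      rw [← hqq', Ideal.comap_comap, Ideal.comap_comap, ← IsScalarTower.algebraMap_eq,
        IsScalarTower.algebraMap_eq A A' B', ← Ideal.comap_comap, ← Ideal.comap_comap, h]
    have h2 : q''.comap (algebraMap B B') = q := by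
      by_contra hne
      have h3 := hb2 _ inferInstance h1 hne
      have h4 : IsUnit (algebraMap B B' (algebraMap A B 1 * b)) := IsLocalization.Away.algebraMap_isUnit _
      rw [map_mul] at h4
      exact hq''.ne_top (Ideal.eq_top_of_isUnit_mem _ h3 (isUnit_of_mul_isUnit_right h4))
    have h3 : (⟨q'', hq''⟩ : PrimeSpectrum B') = ⟨q', hq'⟩ := by
      apply hinj
      apply PrimeSpectrum.ext
      change q''.comap (algebraMap B B') = q'.comap (algebraMap B B')
      rw [h2, hqq']
    exact congrArg PrimeSpectrum.asIdeal h3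
  · intro x' hx'
    obtain ⟨⟨x, t⟩, hx⟩ := IsLocalization.surj (Submonoid.powers (algebraMap A B 1 * b)) x'
    have h1 : x ∈ q := by
      rw [← hqq', Ideal.mem_comap, ← hx]
      exact Ideal.mul_mem_right _ _ hx'
    obtain ⟨s, hs, m, hm⟩ := hN x h1
    refine ⟨algebraMap B B' s, ?_, m, ?_⟩
    · rw [← Ideal.mem_comap, hqq']
      exact hs
    · have h2 := IsLocalization.map_units B' t
      apply (h2.pow m).mul_right_injective
      dsimp only
      rw [mul_zero]
      have h3 := congrArg (algebraMap B B') hm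
      rw [map_mul, map_mul, map_pow, map_zero, ← hx] at h3
      dsimp at h3
      linear_combination h3

end


theorem exists_affine {X S : Scheme.{u}} (f : X ⟶ S) (g : Γ(X, ⊤)) (hg : g ≠ 0) :
    ∃ (U : S.Opens) (_ : IsAffineOpen U) (V : X.Opens) (_ : IsAffineOpen V) (_ : V ≤ f ⁻¹ᵁ U),
      X.presheaf.map (homOfLE le_top).op g ≠ (0 : Γ(X, V)) := by
  by_contra hcon
  push Not at hcon
  apply hg
  refine TopCat.Presheaf.section_ext X.sheaf _ _ _ fun x hx => ?_
  obtain ⟨U, hU, hxU, -⟩ := exists_isAffineOpen_mem_and_subset (X := S) (x := f x) (U := ⊤) trivial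
  obtain ⟨V, hV, hxV, hVU⟩ := exists_isAffineOpen_mem_and_subset (X := X) (x := x) (U := f ⁻¹ᵁ U) hxU
  have h1 := hcon U hU V hV hVU
  have h2 := congrArg (X.presheaf.germ V x hxV) h1
  rw [map_zero, TopCat.Presheaf.germ_res_apply] at h2
  exact h2.trans (map_zero (X.presheaf.germ ⊤ x hx).hom).symm

theorem main {X S : Scheme.{u}} (f : X ⟶ S) [Flat f] [LocallyOfFinitePresentation f] [LocallyQuasiFinite f]
    (g : Γ(X, ⊤)) (hg : g ≠ 0) : P f g := by
  obtain ⟨U, hU, V, hV, hVU, hne⟩ := exists_affine f g hg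
  have h1 : (f.appLE U V hVU).hom.Flat := Flat.flat_appLE f hU hV hVU
  have h2 : (f.appLE U V hVU).hom.FinitePresentation := f.finitePresentation_appLE hU hV hVU
  have h3 : (f.appLE U V hVU).hom.QuasiFinite := LocallyQuasiFinite.quasiFinite_appLE hU hV hVU
  algebraize [(f.appLE U V hVU).hom]
  have h4 := L0 (A := Γ(S, U)) (B := Γ(X, V)) _ hne
  refine P_of_open f (Spec.map (f.appLE U V hVU)) hV.fromSpec hU.fromSpec
    (IsAffineOpen.SpecMap_appLE_fromSpec f hU hV hVU) g ?_
  have h5 : hV.fromSpec.appTop g = (Scheme.ΓSpecIso Γ(X, V)).inv (X.presheaf.map (homOfLE le_top).op g) := by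
    have h6 := hV.fromSpec_app_of_le ⊤ le_top
    have h8 : (Spec Γ(X, V)).presheaf.map (homOfLE le_top : hV.fromSpec ⁻¹ᵁ ⊤ ⟶ ⊤).op = 𝟙 _ :=
      (Spec Γ(X, V)).presheaf.map_id _
    rw [h8] at h6
    have h7 := congrArg (fun t => t.hom g) h6
    exact h7
  rw [h5]
  exact h4

end Helpers

open AlgebraicGeometry CategoryTheory Limits in
/-- Stacks Tag 082V, in affine-local form: let f : X → S be flat, locally of finite presentation and locally quasi-finite, and g a nonzero global function on X. Then there are affine opens V of X and U of S with f(V) ⊆ U and g nonzero on V, an ideal F of O_S(U), a positive integer r and an injective O_S(U)-linear map from F^r to O_X(V) whose image contains the restriction of g to V. -/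
theorem result {X S : Scheme.{u}} (f : X ⟶ S) [Flat f] [LocallyOfFinitePresentation f] [LocallyQuasiFinite f]
    (g : Γ(X, ⊤)) (hg : g ≠ 0) :
    ∃ (U : S.Opens) (hU : IsAffineOpen U) (V : X.Opens) (hV : IsAffineOpen V) (hVU : V ≤ f ⁻¹ᵁ U),
      X.presheaf.map (homOfLE le_top).op g ≠ (0 : Γ(X, V)) ∧
      ∃ (F : Ideal Γ(S, U)) (r : ℕ), 0 < r ∧
        letI := (f.appLE U V hVU).hom.toAlgebra
        ∃ φ : (Fin r → ↥F) →ₗ[Γ(S, U)] Γ(X, V), Function.Injective φ ∧ X.presheaf.map (homOfLE le_top).op g ∈ LinearMap.range φ := by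
  obtain ⟨U, hU, V, hV, hVU, hne, F, r, hr, v, h1, c, hc, h2⟩ := main f g hg
  refine ⟨U, hU, V, hV, hVU, hne, F, r, hr, ?_⟩
  letI := (f.appLE U V hVU).hom.toAlgebra
  refine ⟨∑ k, (LinearMap.toSpanSingleton Γ(S, U) Γ(X, V) (v k)).comp
    ((Submodule.subtype F).comp (LinearMap.proj k)), ?_, ?_⟩
  · rw [← LinearMap.ker_eq_bot, LinearMap.ker_eq_bot']
    intro m hm
    have h4 : ∑ k, (m k : Γ(S, U)) • v k = 0 := by
      simpa [LinearMap.sum_apply] using hm
    have h3 := h1 (fun k => (m k : Γ(S, U))) (fun k => (m k).2) h4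
    ext k
    exact h3 k
  · refine ⟨fun k => ⟨c k, hc k⟩, ?_⟩
    rw [← h2]
    simp [LinearMap.sum_apply]
    rfl

end Groth.Agent.S1480
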