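import Groth.Statements.S1481
import Mathlib.AlgebraicGeometry.ValuativeCriterion
import Mathlib.AlgebraicGeometry.Fiber
import Mathlib.Topology.Sober

set_option autoImplicit false
universe u
open FlatMor

namespace Groth.Agent.S1481

open AlgebraicGeometry CategoryTheory Limits IsLocalRing

/-- In a quasi-sober... -/
theorem exists_generic_in_closed {T : Type*} [TopologicalSpace T] [QuasiSober T] [T0Space T]
    (Z : Set T) (hZ : IsClosed Z) (a : T) (ha : a ∈ Z) :
    ∃ (b : T) (hb : b ∈ Z), b ⤳ a ∧ ∃ C ∈ irreducibleComponents ↑Z, IsGenericPoint (⟨b, hb⟩ : ↑Z) C := by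
  have : QuasiSober ↑Z := hZ.isClosedEmbedding_subtypeVal.quasiSober
  let C := irreducibleComponent (⟨a, ha⟩ : ↑Z)
  have hC : IsIrreducible C := isIrreducible_irreducibleComponent
  have hCc : IsClosed C := isClosed_irreducibleComponent
  obtain ⟨b, hb⟩ := QuasiSober.sober hC hCc
  refine ⟨b.1, b.2, ?_, C, irreducibleComponent_mem_irreducibleComponents _, hb⟩
  have h1 : (⟨a, ha⟩ : ↑Z) ∈ closure ({b} : Set ↑Z) := by
    rw [hb.def]; exact mem_irreducibleComponent
  have h2 : b ⤳ (⟨a, ha⟩ : ↑Z) := specializes_iff_mem_closure.mpr h1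
  exact h2.map continuous_subtype_val

/-- A point generic in an irreducible component has no proper generization. -/
theorem eq_of_generic {T : Type*} [TopologicalSpace T] [T0Space T]
    (Z : Set T) (a : T) (ha : a ∈ Z)
    (hgen : ∃ C ∈ irreducibleComponents ↑Z, IsGenericPoint (⟨a, ha⟩ : ↑Z) C)
    (b : T) (hb : b ∈ Z) (hba : b ⤳ a) : b = a := by
  obtain ⟨C, hC, hg⟩ := hgen
  have h1 : (⟨b, hb⟩ : ↑Z) ⤳ ⟨a, ha⟩ := by
    rwa [← Topology.IsInducing.subtypeVal.specializes_iff]
  have h2 : C ⊆ closure ({⟨b, hb⟩} : Set ↑Z) := by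
    rw [← hg.def]
    exact h1.closure_subset
  have h3 : closure ({⟨b, hb⟩} : Set ↑Z) ⊆ C :=
    hC.2 (isIrreducible_singleton.closure) h2
  have h4 : (⟨a, ha⟩ : ↑Z) ⤳ ⟨b, hb⟩ := by
    rw [specializes_iff_mem_closure, hg.def]
    exact h3 (subset_closure rfl)
  exact congrArg Subtype.val (h1.antisymm h4).eq

/-- If every point of Z is a specialization of a, then a is generic in a component of Z. -/
theorem generic_of_forall {T : Type*} [TopologicalSpace T]
    (Z : Set T) (a : T) (ha : a ∈ Z) (h : ∀ z ∈ Z, a ⤳ z) :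
    ∃ C ∈ irreducibleComponents ↑Z, IsGenericPoint (⟨a, ha⟩ : ↑Z) C := by
  have h1 : closure ({⟨a, ha⟩} : Set ↑Z) = Set.univ := by
    rw [Set.eq_univ_iff_forall]
    intro z
    rw [← specializes_iff_mem_closure, ← Topology.IsInducing.subtypeVal.specializes_iff]
    exact h z.1 z.2
  refine ⟨Set.univ, ?_, h1⟩
  refine ⟨?_, fun _ _ _ => Set.subset_univ _⟩
  have := (isIrreducible_singleton (x := (⟨a, ha⟩ : ↑Z))).closure
  rwa [h1] at this

open AlgebraicGeometry CategoryTheory Limits in
/-- Stacks Tag 0GSH: let f : X → S, y a point of X with image t, Y the closure of y, s a point of S and x a point of Y over s which is generic in an irreducible component of the fibre of Y over s (fibres as subspaces). Then there are a valuation ring R and a morphism g : Spec R → S sending the generic point to t and the closed point to s, such that, writing X' for the base change with projections g' : X' → X and f' : X' → Spec R, there is a point y' of X' over the generic point with g' y' = y which is generic in an irreducible component of the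 generic fibre of g'⁻¹(Y), and a point x' in the closure of y' over the closed point with g' x' = x which is generic in an irreducible component of the special fibre of the closure of y'. -/
theorem result {X S : Scheme.{u}} (f : X ⟶ S) (y : X) (s : S) (x : X)
    (hx : x ∈ closure ({y} : Set ↑X)) (hxs : f x = s)
    (hgen : ∃ C ∈ irreducibleComponents ↑(closure ({y} : Set ↑X) ∩ f ⁻¹' {s}), IsGenericPoint (⟨x, hx, hxs⟩ : ↑(closure ({y} : Set ↑X) ∩ f ⁻¹' {s})) C) :
    ∃ (R : Type u) (_ : CommRing R) (_ : IsDomain R) (_ : ValuationRing R) (g : Spec (CommRingCat.of R) ⟶ S),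
      g (⊥ : PrimeSpectrum R) = f y ∧ g (IsLocalRing.closedPoint R) = s ∧
      ∃ (y' : ↑(pullback f g)) (hy't : pullback.snd f g y' = (⊥ : PrimeSpectrum R)) (hy'Y : pullback.fst f g y' ∈ closure ({y} : Set ↑X)),
        pullback.fst f g y' = y ∧
        (∃ C ∈ irreducibleComponents ↑((pullback.fst f g) ⁻¹' closure ({y} : Set ↑X) ∩ (pullback.snd f g) ⁻¹' {(⊥ : PrimeSpectrum R)}),
          IsGenericPoint (⟨y', hy'Y, hy't⟩ : ↑((pullback.fst f g) ⁻¹' closure ({y} : Set ↑X) ∩ (pullback.snd f g) ⁻¹' {(⊥ : PrimeSpectrum R)})) C) ∧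
        ∃ (x' : ↑(pullback f g)) (hx' : x' ∈ closure ({y'} : Set ↑(pullback f g))) (hx's : pullback.snd f g x' = IsLocalRing.closedPoint R),
          pullback.fst f g x' = x ∧
          ∃ C ∈ irreducibleComponents ↑(closure ({y'} : Set ↑(pullback f g)) ∩ (pullback.snd f g) ⁻¹' {IsLocalRing.closedPoint R}),
            IsGenericPoint (⟨x', hx', hx's⟩ : ↑(closure ({y'} : Set ↑(pullback f g)) ∩ (pullback.snd f g) ⁻¹' {IsLocalRing.closedPoint R})) C := by
  have hsp : y ⤳ x := specializes_iff_mem_closure.mpr hx
  subst hxs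
  let φ : X.presheaf.stalk x ⟶ X.residueField y := X.presheaf.stalkSpecializes hsp ≫ X.residue y
  obtain ⟨A', hA', hA'_local⟩ := exists_factor_valuationRing φ.hom
  let A : ValuationSubring (S.residueField (f y)) := A'.comap (f.residueFieldMap y).hom
  let ψ : S.presheaf.stalk (f x) ⟶ S.residueField (f y) :=
    S.presheaf.stalkSpecializes (hsp.map f.continuous) ≫ S.residue (f y)
  have hcomm : ψ ≫ f.residueFieldMap y = f.stalkMap x ≫ φ := by
    simp only [φ, ψ, Category.assoc, Scheme.residue_residueFieldMap]
    rw [← Category.assoc, Scheme.Hom.stalkSpecializes_stalkMap f y x hsp, Category.assoc]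
  have hcomm' : ∀ a, (f.residueFieldMap y).hom (ψ.hom a) = φ.hom ((f.stalkMap x).hom a) := by
    intro a
    have := congrArg (fun t => t.hom a) hcomm
    simpa using this
  have hψ : ∀ a, ψ.hom a ∈ A.toSubring := by
    intro a
    change (f.residueFieldMap y).hom (ψ.hom a) ∈ A'
    rw [hcomm']
    exact hA' _
  let φ₁ : X.presheaf.stalk x ⟶ CommRingCat.of A' := CommRingCat.ofHom (φ.hom.codRestrict A'.toSubring hA')
  let ψ₁ : S.presheaf.stalk (f x) ⟶ CommRingCat.of A := CommRingCat.ofHom (ψ.hom.codRestrict A.toSubring hψ)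
  let j₀ : A →+* A' := ((f.residueFieldMap y).hom.comp A.subtype).codRestrict A'.toSubring (fun a => a.2)
  let j : CommRingCat.of A ⟶ CommRingCat.of A' := CommRingCat.ofHom j₀
  have hj : ψ₁ ≫ j = f.stalkMap x ≫ φ₁ := by
    apply CommRingCat.hom_ext
    apply RingHom.ext
    intro a
    exact Subtype.ext (hcomm' a)
  have hj₀inj : Function.Injective j₀ := by
    intro a b hab
    have := congrArg Subtype.val hab
    exact Subtype.ext ((f.residueFieldMap y).hom.injective this)
  have hj₀loc : IsLocalHom j₀ := by
    constructor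
    intro a ha
    obtain ⟨b, hb⟩ := isUnit_iff_exists_inv.mp ha
    have hb' : (f.residueFieldMap y).hom a.1 * b.1 = 1 := congrArg Subtype.val hb
    have hb'' : b.1 = (f.residueFieldMap y).hom (a.1⁻¹) := by
      rw [map_inv₀]
      exact (eq_inv_of_mul_eq_one_right hb')
    have ha0 : a.1 ≠ 0 := by
      intro h0
      rw [h0] at hb'
      simp at hb'
    refine isUnit_iff_exists_inv.mpr ⟨⟨a.1⁻¹, ?_⟩, ?_⟩
    · change (f.residueFieldMap y).hom (a.1⁻¹) ∈ A'
      rw [← hb'']
      exact b.2
    · exact Subtype.ext (mul_inv_cancel₀ ha0)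
  have hψ₁loc : IsLocalHom ψ₁.hom := by
    constructor
    intro a ha
    have h1 : IsUnit (j₀ (ψ₁.hom a)) := ha.map j₀
    have h2 : j₀ (ψ₁.hom a) = φ₁.hom ((f.stalkMap x).hom a) := Subtype.ext (hcomm' a)
    rw [h2] at h1
    have h3 : IsUnit ((f.stalkMap x).hom a) := hA'_local.map_nonunit _ h1
    exact isUnit_of_map_unit (f.stalkMap x).hom a h3
  let g : Spec (CommRingCat.of A) ⟶ S := Spec.map ψ₁ ≫ S.fromSpecStalk (f x)
  let h : Spec (CommRingCat.of A') ⟶ X := Spec.map φ₁ ≫ X.fromSpecStalk x
  have hcond : h ≫ f = Spec.map j ≫ g := by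
    simp only [g, h, ← Spec.map_comp_assoc, hj, Category.assoc]
    rw [Spec.map_comp, Category.assoc, Scheme.SpecMap_stalkMap_fromSpecStalk]
  let l : Spec (CommRingCat.of A') ⟶ pullback f g := pullback.lift h (Spec.map j) hcond
  have hl₁ : l ≫ pullback.fst f g = h := pullback.lift_fst _ _ _
  have hl₂ : l ≫ pullback.snd f g = Spec.map j := pullback.lift_snd _ _ _
  let c' : ↥(Spec (CommRingCat.of A')) := closedPoint A'
  let c : ↥(Spec (CommRingCat.of A)) := closedPoint A
  let b' : ↥(Spec (CommRingCat.of A')) := (⊥ : PrimeSpectrum A')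
  let b : ↥(Spec (CommRingCat.of A)) := (⊥ : PrimeSpectrum A)
  have hjbot : Spec.map j b' = b := by
    apply PrimeSpectrum.ext
    change Ideal.comap j₀ ⊥ = ⊥
    rw [← RingHom.ker_eq_comap_bot, (RingHom.injective_iff_ker_eq_bot _).mp hj₀inj]
  have hjclosed : Spec.map j c' = c := comap_closedPoint j₀
  have hhclosed : h c' = x := by
    have h1 : Spec.map φ₁ c' = closedPoint (X.presheaf.stalk x) :=
      comap_closedPoint (S := A') (φ.hom.codRestrict A'.toSubring hA')
    exact (congrArg (fun t => X.fromSpecStalk x t) h1).trans X.fromSpecStalk_closedPoint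
  have hι' : Spec.map (CommRingCat.ofHom (algebraMap A' (X.residueField y))) ≫ h = X.fromSpecResidueField y := by
    rw [Scheme.fromSpecResidueField, ← Scheme.SpecMap_stalkSpecializes_fromSpecStalk hsp]
    simp_rw [h, ← Spec.map_comp_assoc]
    rfl
  let ι := Spec.map (CommRingCat.ofHom (algebraMap A (S.residueField (f y))))
  have hι : ι ≫ g = S.fromSpecResidueField (f y) := by
    rw [Scheme.fromSpecResidueField, ← Scheme.SpecMap_stalkSpecializes_fromSpecStalk (hsp.map f.continuous)]
    simp_rw [g, ι, ← Spec.map_comp_assoc]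
    rfl
  have hhbot : h b' = y := by
    have h1 : Spec.map (CommRingCat.ofHom (algebraMap A' (X.residueField y))) (⊥ : PrimeSpectrum (X.residueField y)) = b' := by
      apply PrimeSpectrum.ext
      change Ideal.comap (algebraMap A' (X.residueField y)) ⊥ = ⊥
      rw [← RingHom.ker_eq_comap_bot, (RingHom.injective_iff_ker_eq_bot _).mp (IsFractionRing.injective A' _)]
    have h2 := congrArg (fun t => t (⊥ : PrimeSpectrum (X.residueField y))) hι'
    have h3 := Scheme.fromSpecResidueField_apply y (⊥ : PrimeSpectrum (X.residueField y))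
    exact (congrArg h h1).symm.trans (h2.trans h3)
  have hbot : g b = f y :=
    (congrArg g hjbot).symm.trans ((congrArg (fun t => t b') hcond).symm.trans (congrArg f hhbot))
  have hclosed : g c = f x :=
    (congrArg g hjclosed).symm.trans ((congrArg (fun t => t c') hcond).symm.trans (congrArg f hhclosed))
  have hfb : pullback.fst f g (l b') = y := (congrArg (fun t => t b') hl₁).trans hhbot
  have hfc : pullback.fst f g (l c') = x := (congrArg (fun t => t c') hl₁).trans hhclosed
  have hsb : pullback.snd f g (l b') = b := (congrArg (fun t => t b') hl₂).trans hjbot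
  have hsc : pullback.snd f g (l c') = c := (congrArg (fun t => t c') hl₂).trans hjclosed
  have hspec : l b' ⤳ l c' := (specializes_closedPoint (R := A') _).map l.continuous
  refine ⟨A, inferInstance, inferInstance, inferInstance, g, hbot, hclosed, l b', hsb, ?_, hfb, ?_, ?_⟩
  · rw [hfb]; exact subset_closure rfl
  · apply generic_of_forall
    rintro z ⟨hz1, hz2⟩
    have hιpre : IsPreimmersion ι :=
      IsPreimmersion.of_isLocalization (nonZeroDivisors A)
    have hιrange : b ∈ Set.range ι := by
      refine ⟨(⊥ : PrimeSpectrum (S.residueField (f y))), ?_⟩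
      apply PrimeSpectrum.ext
      change Ideal.comap (algebraMap A (S.residueField (f y))) ⊥ = ⊥
      rw [← RingHom.ker_eq_comap_bot, (RingHom.injective_iff_ker_eq_bot _).mp (IsFractionRing.injective A _)]
    have hP2 : IsPullback (pullback.fst (pullback.snd f g) ι ≫ pullback.fst f g)
        (pullback.snd (pullback.snd f g) ι) f (ι ≫ g) :=
      (IsPullback.of_hasPullback (pullback.snd f g) ι).paste_horiz (IsPullback.of_hasPullback f g)
    have hemb : IsPreimmersion (pullback.fst (pullback.snd f g) ι ≫ pullback.fst f g) := by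
      have : IsPreimmersion (ι ≫ g) := by rw [hι]; infer_instance
      exact MorphismProperty.of_isPullback hP2.flip this
    have hlift : ∀ w : ↑(pullback f g), pullback.snd f g w = b → ∃ w', pullback.fst (pullback.snd f g) ι w' = w := by
      intro w hw
      have h1 : w ∈ Set.range (pullback.fst (pullback.snd f g) ι) := by
        rw [Scheme.Pullback.range_fst]
        change pullback.snd f g w ∈ Set.range ι
        rw [hw]
        exact hιrange
      exact h1
    obtain ⟨w₁, hw₁⟩ := hlift _ hsb
    obtain ⟨w₂, hw₂⟩ := hlift z hz2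
    have h3 : w₁ ⤳ w₂ := by
      rw [← hemb.isEmbedding.isInducing.specializes_iff]
      have e1 : (pullback.fst (pullback.snd f g) ι ≫ pullback.fst f g) w₁ = y :=
        (congrArg (pullback.fst f g) hw₁).trans hfb
      have e2 : (pullback.fst (pullback.snd f g) ι ≫ pullback.fst f g) w₂ = pullback.fst f g z :=
        congrArg (pullback.fst f g) hw₂
      rw [e1, e2]
      exact specializes_iff_mem_closure.mpr hz1
    have h4 := h3.map (pullback.fst (pullback.snd f g) ι).continuous
    rwa [hw₁, hw₂] at h4
  · have hZ : IsClosed (closure ({l b'} : Set ↑(pullback f g)) ∩ (pullback.snd f g) ⁻¹' {c}) := by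
      refine isClosed_closure.inter (IsClosed.preimage (pullback.snd f g).continuous ?_)
      exact IsLocalRing.isClosed_singleton_closedPoint A
    have hmem : l c' ∈ closure ({l b'} : Set ↑(pullback f g)) ∩ (pullback.snd f g) ⁻¹' {c} :=
      ⟨specializes_iff_mem_closure.mp hspec, hsc⟩
    obtain ⟨x', hx', hsp', hgen'⟩ := exists_generic_in_closed _ hZ _ hmem
    refine ⟨x', hx'.1, hx'.2, ?_, hgen'⟩
    have hfx' : pullback.fst f g x' ⤳ x := by
      have := hsp'.map (pullback.fst f g).continuous
      rwa [hfc] at this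
    apply eq_of_generic _ x _ hgen _ ?_ hfx'
    refine ⟨?_, ?_⟩
    · have h1 : l b' ⤳ x' := specializes_iff_mem_closure.mpr hx'.1
      have h2 := h1.map (pullback.fst f g).continuous
      rw [hfb] at h2
      exact specializes_iff_mem_closure.mp h2
    · have h1 := congrArg (fun t => t x') (pullback.condition (f := f) (g := g))
      have h2 : f (pullback.fst f g x') = g (pullback.snd f g x') := h1
      have h3 : pullback.snd f g x' = c := hx'.2
      rw [h3, hclosed] at h2
      exact h2

end Groth.Agent.S1481
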