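import Groth.Statements.S1484
import Mathlib.RingTheory.Algebraic.Integral

set_option autoImplicit false
universe u
open FlatMor

namespace Groth.Agent.S1484

/-- single prime case -/
theorem single {R : Type u} [CommRing R] (p : Ideal R) [p.IsPrime] (k : Subfield p.ResidueField)
    (hk : ¬ Algebra.IsAlgebraic ↥k p.ResidueField) (J : Ideal R) (hJ : ¬ J ≤ p) :
    ∃ x ∈ J, Transcendental ↥k (algebraMap R p.ResidueField x) := by
  by_contra hcon
  push Not at hcon
  apply hk
  obtain ⟨j, hjJ, hjp⟩ := Set.not_subset.mp hJ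
  have hj0 : algebraMap R p.ResidueField j ≠ 0 := by
    intro h
    exact hjp (Ideal.algebraMap_residueField_eq_zero.mp h)
  have halg : ∀ r : R, IsAlgebraic ↥k (algebraMap R p.ResidueField r) := by
    intro r
    have h1 : IsAlgebraic ↥k (algebraMap R p.ResidueField (r * j)) := by
      have := hcon (r * j) (J.mul_mem_left r hjJ)
      rwa [Transcendental, not_not] at this
    have h2 : IsAlgebraic ↥k (algebraMap R p.ResidueField j) := by
      have := hcon j hjJ
      rwa [Transcendental, not_not] at this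
    have h3 : algebraMap R p.ResidueField r =
        algebraMap R p.ResidueField (r * j) * (algebraMap R p.ResidueField j)⁻¹ := by
      rw [map_mul, mul_inv_cancel_right₀ hj0]
    rw [h3]
    exact h1.mul h2.inv
  refine ⟨fun x => ?_⟩
  obtain ⟨a, b, hb, rfl⟩ := IsFractionRing.div_surjective (A := R ⧸ p) x
  obtain ⟨a, rfl⟩ := Ideal.Quotient.mk_surjective a
  obtain ⟨b, rfl⟩ := Ideal.Quotient.mk_surjective b
  rw [Ideal.algebraMap_quotient_residueField_mk, Ideal.algebraMap_quotient_residueField_mk,
    div_eq_mul_inv]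
  exact (halg a).mul (halg b).inv

/-- Stacks Tag 0GTE: let R be a ring, p_1, …, p_r primes of R none of which is contained in another, k_i ⊆ κ(p_i) subfields over which κ(p_i) is not algebraic, and J an ideal of R contained in none of the p_i. Then some x ∈ J has image in κ(p_i) transcendental over k_i for every i. -/
theorem result {R : Type u} [CommRing R] {r : ℕ} (p : Fin r → Ideal R) [∀ i, (p i).IsPrime]
    (hp : ∀ i j, i ≠ j → ¬ p i ≤ p j) (k : ∀ i, Subfield (p i).ResidueField)
    (hk : ∀ i, ¬ Algebra.IsAlgebraic ↥(k i) (p i).ResidueField) (J : Ideal R) (hJ : ∀ i, ¬ J ≤ p i) :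
    ∃ x ∈ J, ∀ i, Transcendental ↥(k i) (algebraMap R (p i).ResidueField x) := by
  classical
  have key : ∀ i, ∃ x ∈ J, (∀ j, j ≠ i → x ∈ p j) ∧
      Transcendental ↥(k i) (algebraMap R (p i).ResidueField x) := by
    intro i
    have hJi : ¬ (J * ∏ j ∈ Finset.univ.erase i, p j) ≤ p i := by
      rw [Ideal.IsPrime.mul_le inferInstance, Ideal.IsPrime.prod_le inferInstance]
      rintro (h | ⟨j, hj, h⟩)
      · exact hJ i h
      · exact hp j i (Finset.ne_of_mem_erase hj) h
    obtain ⟨x, hx, ht⟩ := single (p i) (k i) (hk i) _ hJi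
    refine ⟨x, Ideal.mul_le_left hx, fun j hj => ?_, ht⟩
    have h1 : x ∈ ∏ j ∈ Finset.univ.erase i, p j := Ideal.mul_le_right hx
    have h2 : ∏ j ∈ Finset.univ.erase i, p j ≤ p j :=
      Ideal.prod_le_inf.trans (Finset.inf_le (f := p) (Finset.mem_erase.mpr ⟨hj, Finset.mem_univ j⟩))
    exact h2 h1
  choose x hxJ hxp hxt using key
  refine ⟨∑ i, x i, sum_mem fun i _ => hxJ i, fun i => ?_⟩
  have : algebraMap R (p i).ResidueField (∑ j, x j) = algebraMap R (p i).ResidueField (x i) := by
    rw [map_sum, Finset.sum_eq_single i]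
    · intro j _ hj
      exact Ideal.algebraMap_residueField_eq_zero.mpr (hxp j i hj.symm)
    · simp
  rw [this]
  exact hxt i

end Groth.Agent.S1484
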