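import Groth.Statements.S1487
import Groth.Agent.Flat2H.FSHom

set_option autoImplicit false
universe u
open FlatMor

namespace Groth.Agent.S1487

open AlgebraicGeometry CategoryTheory Limits in
/-- Stacks Tag 0HAM, (1) ⇔ (3): a morphism f : X → Y is formally étale (unique lifting against first order thickenings of affine schemes, rings in the same universe) if and only if for all affine opens U ⊆ f⁻¹(V) the ring map O_Y(V) → O_X(U) is formally étale. -/
theorem result {X Y : Scheme.{u}} (f : X ⟶ Y) :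
    MoreMor.IsFormallyEtaleHom f ↔ ∀ (U : X.Opens) (V : Y.Opens) (hU : IsAffineOpen U) (hV : IsAffineOpen V) (hUV : U ≤ f ⁻¹ᵁ V),
      letI := (f.appLE V U hUV).hom.toAlgebra
      Algebra.FormallyEtale Γ(Y, V) Γ(X, U) := by
  rw [Groth.Agent.Flat2H.FSHom.isFormallyEtaleHom_iff]
  constructor
  · rintro ⟨h1, h2⟩ U V hU hV hUV
    algebraize [(f.appLE V U hUV).hom]
    have h3 : Algebra.FormallySmooth Γ(Y, V) Γ(X, U) := h1 U V hU hV hUV
    have h4 : Algebra.FormallyUnramified Γ(Y, V) Γ(X, U) := f.formallyUnramified_appLE hV hU hUV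
    exact Algebra.FormallyEtale.of_formallyUnramified_and_formallySmooth
  · intro H
    refine ⟨fun U V hU hV hUV ↦ ?_, ⟨fun {V} hV {U} hU hUV ↦ ?_⟩⟩
    · algebraize [(f.appLE V U hUV).hom]
      have : Algebra.FormallyEtale Γ(Y, V) Γ(X, U) := H U V hU hV hUV
      exact inferInstanceAs (Algebra.FormallySmooth Γ(Y, V) Γ(X, U))
    · algebraize [(f.appLE V U hUV).hom]
      have : Algebra.FormallyEtale Γ(Y, V) Γ(X, U) := H U V hU hV hUV
      exact inferInstanceAs (Algebra.FormallyUnramified Γ(Y, V) Γ(X, U))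

end Groth.Agent.S1487
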