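import Groth.Statements.S1488
import Groth.Agent.Flat2H.FSSmoothHom

set_option autoImplicit false
universe u
open FlatMor

namespace Groth.Agent.S1488

open AlgebraicGeometry CategoryTheory Limits in
/-- Stacks Tag 02H6 (infinitesimal lifting criterion): a morphism f : X → S is smooth if and only if it is locally of finite presentation and formally smooth, i.e. has the lifting property against first order thickenings of affine schemes (rings in the same universe). -/
theorem result {X S : Scheme.{u}} (f : X ⟶ S) :
    Smooth f ↔ LocallyOfFinitePresentation f ∧ MoreMor.IsFormallySmoothHom f := by
  exact Groth.Agent.Flat2H.FSSmoothHom.smooth_iff f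

end Groth.Agent.S1488
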