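import Groth.Statements.S1489
import Groth.Agent.Flat2H.FSHom

set_option autoImplicit false
universe u
open FlatMor

namespace Groth.Agent.S1489

open AlgebraicGeometry CategoryTheory Limits in
/-- Stacks Tag 02HM: a morphism f : X → S is étale if and only if it is locally of finite presentation and formally étale, i.e. has the unique lifting property against first order thickenings of affine schemes (rings in the same universe). -/
theorem result {X S : Scheme.{u}} (f : X ⟶ S) :
    Etale f ↔ LocallyOfFinitePresentation f ∧ MoreMor.IsFormallyEtaleHom f := by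
  constructor
  · intro hf
    refine ⟨inferInstance, Groth.Agent.Flat2H.FSHom.isFormallyEtaleHom_of_affLocFS f ?_⟩
    intro U V hU hV hUV
    algebraize [(f.appLE V U hUV).hom]
    have : Algebra.Etale Γ(S, V) Γ(X, U) := f.etale_appLE hV hU hUV
    exact inferInstanceAs (Algebra.FormallySmooth Γ(S, V) Γ(X, U))
  · rintro ⟨h1, h2⟩
    obtain ⟨h3, h4⟩ := (Groth.Agent.Flat2H.FSHom.isFormallyEtaleHom_iff f).mp h2
    refine ⟨fun {V} hV {U} hU hUV ↦ ?_⟩
    algebraize [(f.appLE V U hUV).hom]
    have h5 : Algebra.FormallySmooth Γ(S, V) Γ(X, U) := h3 U V hU hV hUV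
    have h6 : Algebra.FormallyUnramified Γ(S, V) Γ(X, U) := f.formallyUnramified_appLE hV hU hUV
    have h7 : Algebra.FinitePresentation Γ(S, V) Γ(X, U) := f.finitePresentation_appLE hV hU hUV
    have h8 : Algebra.FormallyEtale Γ(S, V) Γ(X, U) :=
      Algebra.FormallyEtale.of_formallyUnramified_and_formallySmooth
    exact (⟨h8, h7⟩ : Algebra.Etale Γ(S, V) Γ(X, U))

end Groth.Agent.S1489
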