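import Groth.Statements.S1493
import Groth.Agent.Flat2H.RegularLCI

set_option autoImplicit false
universe u
attribute [local instance] HasDerivedCategory.standard
open FlatMor

namespace Groth.Agent.S1493

open AlgebraicGeometry CategoryTheory Limits in
theorem isRegularRing_section {X : Scheme.{u}} [IsLocallyNoetherian X]
    (hX : ∀ x : X, IsRegularLocalRing ↑(X.presheaf.stalk x)) {U : X.Opens} (hU : IsAffineOpen U) :
    IsRegularRing Γ(X, U) := by
  have hN : IsNoetherianRing Γ(X, U) := IsLocallyNoetherian.component_noetherian ⟨U, hU⟩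
  rw [isRegularRing_iff]
  intro p hp
  have hy : hU.fromSpec ⟨p, hp⟩ ∈ U := by
    rw [← SetLike.mem_coe, ← hU.range_fromSpec]
    exact ⟨_, rfl⟩
  let _ : Algebra Γ(X, U) (X.presheaf.stalk (hU.fromSpec ⟨p, hp⟩)) :=
    TopCat.Presheaf.algebra_section_stalk X.presheaf (⟨_, hy⟩ : U)
  have h1 : IsLocalization p.primeCompl (X.presheaf.stalk (hU.fromSpec ⟨p, hp⟩)) :=
    hU.isLocalization_stalk' ⟨p, hp⟩ hy
  have := hX (hU.fromSpec ⟨p, hp⟩)
  exact IsRegularLocalRing.of_ringEquiv
    (IsLocalization.algEquiv p.primeCompl (X.presheaf.stalk (hU.fromSpec ⟨p, hp⟩)) (Localization.AtPrime p)).toRingEquiv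

open AlgebraicGeometry CategoryTheory Limits in
/-- Stacks Tag 0E9K: let f : X → Y be locally of finite type with X and Y regular (locally Noetherian with regular local rings). Then f is a local complete intersection morphism (affine-locally: local complete intersection ring maps). -/
theorem result {X Y : Scheme.{u}} (f : X ⟶ Y) [LocallyOfFiniteType f] [IsLocallyNoetherian X] [IsLocallyNoetherian Y]
    (hX : ∀ x : X, IsRegularLocalRing ↑(X.presheaf.stalk x)) (hY : ∀ y : Y, IsRegularLocalRing ↑(Y.presheaf.stalk y)) :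
    (∀ (U : X.Opens) (V : Y.Opens) (hU : IsAffineOpen U) (hV : IsAffineOpen V) (hUV : U ≤ f ⁻¹ᵁ V),
        letI := (f.appLE V U hUV).hom.toAlgebra
        LCI.IsLCI Γ(Y, V) Γ(X, U)) := by
  intro U V hU hV hUV
  letI := (f.appLE V U hUV).hom.toAlgebra
  have h1 := isRegularRing_section hX hU
  have h2 := isRegularRing_section hY hV
  have h3 : Algebra.FiniteType Γ(Y, V) Γ(X, U) := f.finiteType_appLE hV hU hUV
  exact Groth.Agent.Flat2H.RegularLCI.isLCI_of_isRegularRing Γ(Y, V) Γ(X, U)

end Groth.Agent.S1493
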