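import Groth.Statements.S1494
import Groth.Agent.Flat2H.LCILocus
import Groth.Agent.Flat2H.LCIPoint
import Groth.Agent.Flat2H.AlgProp

set_option autoImplicit false
universe u
attribute [local instance] HasDerivedCategory.standard
open FlatMor

namespace Groth.Agent.S1494

open AlgebraicGeometry CategoryTheory Limits Groth.Agent.Flat2H

theorem appLE_eq_of_eq {X Y : Scheme.{u}} {f g : X ⟶ Y} (h : f = g) (U : Y.Opens) (V : X.Opens) (e : V ≤ f ⁻¹ᵁ U)
    (e' : V ≤ g ⁻¹ᵁ U) : f.appLE U V e = g.appLE U V e' := by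
  subst h
  rfl

theorem exists_isLCI_iff {A A' B B' C C' : CommRingCat.{u}} {a : A ⟶ A'} {b : A ⟶ B} {b' : A' ⟶ B'} {β : B ⟶ B'}
    {c : A ⟶ C} {c' : A' ⟶ C'} {γ : C ⟶ C'} {φ : B ⟶ C} {φ' : B' ⟶ C'} (hB : IsPushout b a β b')
    (hC : IsPushout c a γ c') (h1 : b ≫ φ = c) (h2 : b' ≫ φ' = c') (h3 : φ ≫ γ = β ≫ φ')
    (hb : b.hom.Flat) (hc : c.hom.Flat) (hb' : b.hom.FinitePresentation) (hc' : c.hom.FinitePresentation)
    (r : Ideal C') [r.IsPrime] :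
    (∃ x : C', x ∉ r ∧ letI := φ'.hom.toAlgebra; LCI.IsLCI B' (Localization.Away x)) ↔
      ∃ x : C, x ∉ r.comap γ.hom ∧ letI := φ.hom.toAlgebra; LCI.IsLCI B (Localization.Away x) := by
  let _ := a.hom.toAlgebra
  let _ := b.hom.toAlgebra
  let _ := b'.hom.toAlgebra
  let _ := c.hom.toAlgebra
  let _ := c'.hom.toAlgebra
  let _ := φ.hom.toAlgebra
  let _ := φ'.hom.toAlgebra
  let _ := β.hom.toAlgebra
  let _ := γ.hom.toAlgebra
  let _ := (b ≫ β).hom.toAlgebra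
  let _ := (c ≫ γ).hom.toAlgebra
  have i1 : IsScalarTower A B B' := IsScalarTower.of_algebraMap_eq' rfl
  have i2 : IsScalarTower A A' B' := IsScalarTower.of_algebraMap_eq' (by
    change (b ≫ β).hom = (a ≫ b').hom
    rw [hB.w])
  have i3 : IsScalarTower A C C' := IsScalarTower.of_algebraMap_eq' rfl
  have i4 : IsScalarTower A A' C' := IsScalarTower.of_algebraMap_eq' (by
    change (c ≫ γ).hom = (a ≫ c').hom
    rw [hC.w])
  have i5 : IsScalarTower A B C := IsScalarTower.of_algebraMap_eq' (by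
    change c.hom = (b ≫ φ).hom
    rw [h1])
  have i6 : IsScalarTower A' B' C' := IsScalarTower.of_algebraMap_eq' (by
    change c'.hom = (b' ≫ φ').hom
    rw [h2])
  have i7 : Algebra.IsPushout A A' B B' := by
    rw [← CommRingCat.isPushout_iff_isPushout]
    exact hB.flip
  have i8 : Algebra.IsPushout A A' C C' := by
    rw [← CommRingCat.isPushout_iff_isPushout]
    exact hC.flip
  have i9 : Module.Flat A B := hb
  have i10 : Module.Flat A C := hc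
  have i11 : Algebra.FinitePresentation A B := hb'
  have i12 : Algebra.FinitePresentation A C := hc'
  exact LCILocus.exists_isLCI_iff (A := A) (A' := A') (B := B) (B' := B') (C := C) (C' := C')
    (by change (φ ≫ γ).hom = (β ≫ φ').hom; rw [h3]) r

theorem mem_iff {X Y S : Scheme.{u}} (f : X ⟶ Y) (g : Y ⟶ S)
    [Flat (f ≫ g)] [LocallyOfFinitePresentation (f ≫ g)] [Flat g] [LocallyOfFinitePresentation g]
    {X' Y' S' : Scheme.{u}} (h : S' ⟶ S) (gY : Y' ⟶ Y) (g' : Y' ⟶ S') (hY : IsPullback gY g' g h)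
    (gX : X' ⟶ X) (f' : X' ⟶ Y') (hX : IsPullback gX (f' ≫ g') (f ≫ g) h) (w : gX ≫ f = f' ≫ gY) (x' : X') :
    (∃ (U : X'.Opens) (V : Y'.Opens) (hU : IsAffineOpen U) (hV : IsAffineOpen V) (hUV : U ≤ f' ⁻¹ᵁ V), x' ∈ U ∧
          letI := (f'.appLE V U hUV).hom.toAlgebra
          LCI.IsLCI Γ(Y', V) Γ(X', U)) ↔
    (∃ (U : X.Opens) (V : Y.Opens) (hU : IsAffineOpen U) (hV : IsAffineOpen V) (hUV : U ≤ f ⁻¹ᵁ V), gX x' ∈ U ∧
          letI := (f.appLE V U hUV).hom.toAlgebra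
          LCI.IsLCI Γ(Y, V) Γ(X, U)) := by
  obtain ⟨W, hW, hxW, -⟩ := TopologicalSpace.Opens.isBasis_iff_nbhd.mp S.isBasis_affineOpens
    (TopologicalSpace.Opens.mem_top (g (f (gX x'))))
  obtain ⟨V, hV, hxV, hVW⟩ := TopologicalSpace.Opens.isBasis_iff_nbhd.mp Y.isBasis_affineOpens
    (show f (gX x') ∈ g ⁻¹ᵁ W from hxW)
  obtain ⟨U, hU, hxU, hUV⟩ := TopologicalSpace.Opens.isBasis_iff_nbhd.mp X.isBasis_affineOpens
    (show gX x' ∈ f ⁻¹ᵁ V from hxV)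
  have hxW' : g' (f' x') ∈ h ⁻¹ᵁ W := by
    change h (g' (f' x')) ∈ W
    have h1 : h (g' (f' x')) = g (f (gX x')) := by
      have := congr($(hX.w) x')
      simpa using this.symm
    rw [h1]
    exact hxW
  obtain ⟨W', hW', hxW'', hWW'⟩ := TopologicalSpace.Opens.isBasis_iff_nbhd.mp S'.isBasis_affineOpens hxW'
  have hUW : U ≤ (f ≫ g) ⁻¹ᵁ W := fun y hy => hVW (hUV hy)
  obtain ⟨hV', hBp⟩ := AlgProp.isPushout_algebra hY hW hV hW' hVW hWW'
  obtain ⟨hU', hCp⟩ := AlgProp.isPushout_algebra hX hW hU hW' hUW hWW'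
  have hUV' : gX ⁻¹ᵁ U ⊓ (f' ≫ g') ⁻¹ᵁ W' ≤ f' ⁻¹ᵁ (gY ⁻¹ᵁ V ⊓ g' ⁻¹ᵁ W') := by
    rintro y ⟨hy1, hy2⟩
    refine ⟨?_, hy2⟩
    change gY (f' y) ∈ V
    have h1 : gY (f' y) = f (gX y) := by
      have := congr($w y)
      simpa using this.symm
    rw [h1]
    exact hUV hy1
  have hx' : x' ∈ gX ⁻¹ᵁ U ⊓ (f' ≫ g') ⁻¹ᵁ W' := ⟨hxU, hxW''⟩
  rw [AlgProp.IsLocal.exists_affine_iff LCIMaps2.isLocal_isLCI f' hU' hV' hUV' x' hx',
    AlgProp.IsLocal.exists_affine_iff LCIMaps2.isLocal_isLCI f hU hV hUV (gX x') hxU]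
  let r : Ideal Γ(X', gX ⁻¹ᵁ U ⊓ (f' ≫ g') ⁻¹ᵁ W') :=
    (IsLocalRing.maximalIdeal (X'.presheaf.stalk x')).comap (X'.presheaf.germ _ x' hx').hom
  have hr : ∀ b : Γ(X', gX ⁻¹ᵁ U ⊓ (f' ≫ g') ⁻¹ᵁ W'), x' ∈ X'.basicOpen b ↔ b ∉ r := by
    intro b
    rw [X'.mem_basicOpen b x' hx', Ideal.mem_comap, IsLocalRing.notMem_maximalIdeal]
  have hr2 : ∀ c : Γ(X, U), gX x' ∈ X.basicOpen c ↔
      c ∉ r.comap (gX.appLE U (gX ⁻¹ᵁ U ⊓ (f' ≫ g') ⁻¹ᵁ W') inf_le_left).hom := by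
    intro c
    have h1 := Scheme.basicOpen_appLE gX (gX ⁻¹ᵁ U ⊓ (f' ≫ g') ⁻¹ᵁ W') U inf_le_left c
    rw [Ideal.mem_comap, ← hr]
    constructor
    · intro h2
      exact h1.ge ⟨hx', h2⟩
    · intro h2
      exact (h1.le h2).2
  refine (exists_congr fun b => and_congr_left fun _ => hr b).trans (Iff.trans ?_
    (exists_congr fun c => and_congr_left fun _ => (hr2 c).symm))
  refine exists_isLCI_iff hBp hCp (Scheme.Hom.appLE_comp_appLE f g W V U hVW hUV)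
    (Scheme.Hom.appLE_comp_appLE f' g' W' _ _ inf_le_right hUV') ?_ (g.flat_appLE hW hV hVW)
    ((f ≫ g).flat_appLE hW hU hUW) (g.finitePresentation_appLE hW hV hVW)
    ((f ≫ g).finitePresentation_appLE hW hU hUW) r
  rw [Scheme.Hom.appLE_comp_appLE, Scheme.Hom.appLE_comp_appLE]
  exact appLE_eq_of_eq w _ _ _ _

open AlgebraicGeometry CategoryTheory Limits in
/-- Stacks Tag 06B8: let f : X → Y be a morphism over S with X and Y flat and locally of finite presentation over S. Then the set of points x at which f is Koszul (some affine neighbourhood U of x maps into an affine V of Y with O_Y(V) → O_X(U) a local complete intersection homomorphism) is open, and for any base change S' → S, with f' : X' → Y' the base change of f and X' → X the projection, the corresponding set for f' is the preimage of the one for f. -/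
theorem result {X Y S : Scheme.{u}} (f : X ⟶ Y) (g : Y ⟶ S)
    [Flat (f ≫ g)] [LocallyOfFinitePresentation (f ≫ g)] [Flat g] [LocallyOfFinitePresentation g] :
    IsOpen {x : ↑X | (∃ (U : X.Opens) (V : Y.Opens) (hU : IsAffineOpen U) (hV : IsAffineOpen V) (hUV : U ≤ f ⁻¹ᵁ V), x ∈ U ∧
          letI := (f.appLE V U hUV).hom.toAlgebra
          LCI.IsLCI Γ(Y, V) Γ(X, U))} ∧
      ∀ {X' Y' S' : Scheme.{u}} (h : S' ⟶ S) (gY : Y' ⟶ Y) (g' : Y' ⟶ S') (hY : IsPullback gY g' g h)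
        (gX : X' ⟶ X) (f' : X' ⟶ Y') (hX : IsPullback gX (f' ≫ g') (f ≫ g) h) (w : gX ≫ f = f' ≫ gY),
        {x' : ↑X' | (∃ (U : X'.Opens) (V : Y'.Opens) (hU : IsAffineOpen U) (hV : IsAffineOpen V) (hUV : U ≤ f' ⁻¹ᵁ V), x' ∈ U ∧
          letI := (f'.appLE V U hUV).hom.toAlgebra
          LCI.IsLCI Γ(Y', V) Γ(X', U))} = gX ⁻¹' {x : ↑X | (∃ (U : X.Opens) (V : Y.Opens) (hU : IsAffineOpen U) (hV : IsAffineOpen V) (hUV : U ≤ f ⁻¹ᵁ V), x ∈ U ∧
          letI := (f.appLE V U hUV).hom.toAlgebra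
          LCI.IsLCI Γ(Y, V) Γ(X, U))} := by
  refine ⟨?_, fun {X' Y' S'} h gY g' hY gX f' hX w => ?_⟩
  · rw [isOpen_iff_forall_mem_open]
    rintro x ⟨U, V, hU, hV, hUV, hx, h⟩
    exact ⟨U, fun y hy => ⟨U, V, hU, hV, hUV, hy, h⟩, U.isOpen, hx⟩
  · ext x'
    exact mem_iff f g h gY g' hY gX f' hX w x'

end Groth.Agent.S1494
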