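import Groth.Statements.S1499
import Groth.Agent.CalgB.AmpleRel

set_option autoImplicit false
universe u
attribute [local instance] HasDerivedCategory.standard
open FlatMor

namespace Groth.Agent.S1499

open AlgebraicGeometry CategoryTheory Limits in
/-- Stacks Tag 0GTP: let f : X → Y with Y having an ample family of invertible modules, and suppose some O_X-module is ample relative to f. Then X has an ample family of invertible modules. -/
theorem result {X Y : Scheme.{u}} (f : X ⟶ Y)
    (hY : MoreMor.HasAmpleFamily Y) (L : X.Modules) (hL : RelAmple.IsRelAmple f L) :
    MoreMor.HasAmpleFamily X := by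
  exact Groth.Agent.CalgB.AmpleRel.hasAmpleFamily_of_isRelAmple hY hL

end Groth.Agent.S1499
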