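import Groth.Statements.S1502
import Groth.Agent.Ega1.AmpFamNoeth
import Groth.Agent.S0590
import Mathlib.AlgebraicGeometry.AffineTransitionLimit

set_option autoImplicit false
universe u
open FlatMor

namespace Groth.Agent.S1502

open AlgebraicGeometry CategoryTheory Limits in
/-- Stacks Tag 0GTU: let X be quasi-compact and quasi-separated. Then there is a morphism f : Y → X which is proper, of finite presentation and completely decomposed (every point of X is the image of a point with trivial residue field extension) such that Y has an ample family of invertible modules. -/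
theorem result (X : Scheme.{u}) [CompactSpace ↑X] [QuasiSeparatedSpace ↑X] :
    ∃ (Y : Scheme.{u}) (f : Y ⟶ X), IsProper f ∧ LocallyOfFinitePresentation f ∧
      (∀ x : X, ∃ y : Y, f y = x ∧ Function.Bijective (f.residueFieldMap y)) ∧ MoreMor.HasAmpleFamily Y := by
  obtain ⟨I, _, _, _, D, c, hc, haff, hD, ⟨e⟩⟩ := Groth.Agent.S0590.result X
  let i : I := Classical.arbitrary I
  have haff' : ∀ {i j : Iᵒᵖ} (f : i ⟶ j), IsAffineHom (D.map f) := fun f => haff _ _ f
  have h1 : IsAffineHom (c.π.app (.op i)) := isAffineHom_π_app D c hc (.op i)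
  obtain ⟨h2, h3⟩ := hD (.op i)
  have hZ : IsNoetherianRing (ULift.{u} ℤ) := isNoetherianRing_of_ringEquiv ℤ ULift.ringEquiv.symm
  have hZ' : IsNoetherianRing (CommRingCat.of (ULift.{u} ℤ)) := hZ
  have h4 : IsLocallyNoetherian (D.obj (.op i)) :=
    LocallyOfFiniteType.isLocallyNoetherian (Limits.IsTerminal.from specULiftZIsTerminal (D.obj (.op i)))
  have h5 : AlgebraicGeometry.IsNoetherian (D.obj (.op i)) := {}
  let g : X ⟶ D.obj (.op i) := e.inv ≫ c.π.app (.op i)
  have hg : IsAffineHom g := MorphismProperty.comp_mem _ _ _ inferInstance h1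
  obtain ⟨Y, f, hp, hl, hcd, ha⟩ := Groth.Agent.Ega1.AmpFamNoeth.cov_univ (X := D.obj (.op i))
  refine ⟨pullback f g, pullback.snd f g, inferInstance, inferInstance, fun x => ?_, ?_⟩
  · exact Groth.Agent.Ega1.CDLift.cd_of_isPullback (IsPullback.of_hasPullback f g)
      (hcd (g x) (Set.mem_univ _))
  · have : IsAffineHom (pullback.fst f g) := MorphismProperty.pullback_fst f g hg
    exact Groth.Agent.Ega1.AmpFam.hasAmpleFamily_of_isAffineHom (pullback.fst f g) ha

end Groth.Agent.S1502
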