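import Groth.Statements.S1507
import Groth.Agent.Flat2H.FlatPC3

set_option autoImplicit false
universe u
attribute [local instance] HasDerivedCategory.standard
open FlatMor

namespace Groth.Agent.S1507

/-- Stacks Tag 0697: let A → B be flat and of finite presentation and I an ideal of B. Then A → B/I is a pseudo-coherent ring map if and only if I is a pseudo-coherent B-module. -/
theorem result {A B : Type u} [CommRing A] [CommRing B] [Algebra A B] [Module.Flat A B] [Algebra.FinitePresentation A B] (I : Ideal B) :
    MoreMor.IsPseudoCoherentHom A (B ⧸ I) ↔ DRing.IsPseudoCoherentModule' B ↥I := by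
  rw [Groth.Agent.Flat2H.isPseudoCoherentHom_iff,
    Groth.Agent.Flat2H.pcHom_quotient_iff_of_pcHom (Groth.Agent.Flat2H.PCHom.of_flat A B) I]
  exact (Groth.Agent.Flat2H.PCBridge.isPseudoCoherentModule'_iff _).symm

end Groth.Agent.S1507
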