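import Groth.Statements.S1676
import Groth.Agent.Flat2H.SmoothSection
import Groth.Agent.Divis.RegImm

set_option autoImplicit false
universe u
open CategoryTheory CategoryTheory.Limits AlgebraicGeometry TopologicalSpace
open SDiv

namespace Groth.Agent.S1676

open Groth.Agent.Divis.RegImm in
theorem regAt_of_section {X S : Scheme.{u}} (f : X ⟶ S) [Smooth f] (σ : S ⟶ X)
    (hσ : σ ≫ f = 𝟙 S) [IsClosedImmersion σ] (z : S) : RegAt σ.ker (σ z) := by
  have hfσ : ∀ y : S, f (σ y) = y := by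
    intro y
    rw [← Scheme.Hom.comp_apply, hσ]
    rfl
  obtain ⟨V, hV, U, hU, hxU, e, hstd⟩ := Smooth.exists_isStandardSmooth f (σ z)
  have hzV : z ∈ V := by
    have := e hxU
    rw [← hfσ z]
    exact this
  obtain ⟨a, ha, hza⟩ := hV.exists_basicOpen_le (V := σ ⁻¹ᵁ U) ⟨z, hxU⟩ hzV
  -- the small pair of affine opens
  have hV' : IsAffineOpen (S.basicOpen a) := hV.basicOpen a
  have hU' : IsAffineOpen (X.basicOpen (f.appLE V U e a)) := hU.basicOpen _
  have hU'eq : X.basicOpen (f.appLE V U e a) = U ⊓ f ⁻¹ᵁ (S.basicOpen a) := Scheme.basicOpen_appLE f U V e a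
  have e' : X.basicOpen (f.appLE V U e a) ≤ f ⁻¹ᵁ (S.basicOpen a) := by
    rw [hU'eq]; exact inf_le_right
  have hstd' : (f.appLE (S.basicOpen a) (X.basicOpen (f.appLE V U e a)) e').hom.IsStandardSmooth := by
    let _ := hV.isLocalization_basicOpen a
    let _ := hU.isLocalization_basicOpen (f.appLE V U e a)
    rw [IsAffineOpen.appLE_eq_away_map f hV hU e a]
    have h1 : RingHom.LocalizationAwayPreserves @RingHom.IsStandardSmooth :=
      RingHom.isStandardSmooth_localizationPreserves.away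
    exact h1 _ a _ _ hstd
  generalize f.appLE V U e a = a' at hU' hU'eq e' hstd'
  generalize S.basicOpen a = V' at *
  generalize X.basicOpen a' = U' at *
  have e₂ : V' ≤ σ ⁻¹ᵁ U' := by
    intro y hy
    change σ y ∈ U'
    rw [hU'eq]
    exact ⟨ha hy, by change f (σ y) ∈ V'; rwa [hfσ]⟩
  have e₃ : σ ⁻¹ᵁ U' ≤ V' := by
    intro y hy
    have : σ y ∈ U' := hy
    rw [hU'eq] at this
    have h2 : f (σ y) ∈ V' := this.2
    rwa [hfσ] at h2
  have hid : f.appLE V' U' e' ≫ σ.appLE U' V' e₂ = 𝟙 _ := by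
    rw [Scheme.Hom.appLE_comp_appLE]
    have h1 : ∀ (g : S ⟶ S) (_ : g = 𝟙 S) (h : V' ≤ g ⁻¹ᵁ V'), g.appLE V' V' h = 𝟙 _ := by
      rintro _ rfl h
      rw [Scheme.Hom.appLE, Scheme.Hom.id_app]
      exact (Category.id_comp _).trans (S.presheaf.map_id _)
    exact h1 _ hσ _
  let _ : Algebra Γ(S, V') Γ(X, U') := (f.appLE V' U' e').hom.toAlgebra
  let π : Γ(X, U') →ₐ[Γ(S, V')] Γ(S, V') :=
    ⟨(σ.appLE U' V' e₂).hom, fun r => by
      have := congr(($hid).hom r)
      exact this⟩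
  obtain ⟨c, l, hc, -, hl⟩ :=
    Groth.Agent.Flat2H.SmoothSection.exists_regular_of_isStandardSmooth_of_section hstd' π
  have hker : σ.ker.ideal ⟨U', hU'⟩ = RingHom.ker π := by
    rw [Scheme.Hom.ker_apply]
    ext b
    rw [RingHom.mem_ker, RingHom.mem_ker]
    change (σ.app U').hom b = 0 ↔ (σ.appLE U' V' e₂).hom b = 0
    have h2 : σ ⁻¹ᵁ U' = V' := le_antisymm e₃ e₂
    subst h2
    rw [Scheme.Hom.appLE_eq_app]
  have hzU' : σ z ∈ U' := e₂ hza
  have hzc : σ z ∈ X.basicOpen c := by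
    have h3 : S.basicOpen (σ.appLE U' V' e₂ c) = V' ⊓ σ ⁻¹ᵁ (X.basicOpen c) := Scheme.basicOpen_appLE σ V' U' e₂ c
    have h4 : σ.appLE U' V' e₂ c = 1 := hc
    rw [h4, S.basicOpen_of_isUnit isUnit_one] at h3
    have h5 : z ∈ V' ⊓ σ ⁻¹ᵁ (X.basicOpen c) := h3 ▸ hza
    exact h5.2
  refine ⟨⟨X.basicOpen c, hU'.basicOpen c⟩, hzc, ?_⟩
  have hloc := hU'.isLocalization_basicOpen c
  obtain ⟨h1, h2⟩ := hl Γ(X, X.basicOpen c) (Submonoid.powers c) (Submonoid.mem_powers c)
  refine ⟨_, h1, ?_⟩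
  rw [← h2, ← hker]
  exact (σ.ker.map_ideal (U := ⟨X.basicOpen c, hU'.basicOpen c⟩) (V := ⟨U', hU'⟩) (X.basicOpen_le c)).symm

/-- Stacks Tag 067R (for a section that is a closed immersion, e.g. when f is separated): let f : X ⟶ S be a smooth morphism and σ : S ⟶ X a section of f which is a closed immersion. Then σ is a regular closed immersion. -/
theorem result {X S : Scheme.{u}} (f : X ⟶ S) [Smooth f] (σ : S ⟶ X)
    (hσ : σ ≫ f = 𝟙 S) [IsClosedImmersion σ] : Mor2.IsRegularClosedImmersion σ := by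
  rw [Groth.Agent.Divis.RegImm.isRegularClosedImmersion_iff]
  exact ⟨inferInstance, fun z => regAt_of_section f σ hσ z⟩

end Groth.Agent.S1676
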