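import Groth.Statements.S1510
import Groth.Agent.S1676
import Groth.Agent.S1509
import Groth.Agent.Flat2H.TorDimHom
import Groth.Agent.Flat2H.PCFinal

set_option autoImplicit false
universe u
attribute [local instance] HasDerivedCategory.standard
open FlatMor

namespace Groth.Agent.S1510

open AlgebraicGeometry CategoryTheory Limits TensorProduct
open Groth.Agent.Flat2H Groth.Agent.Flat2H.TorDimHom

/-- A section of a smooth algebra is a perfect ring map. -/
theorem perfect_section {C D : Type u} [CommRing C] [CommRing D] [Algebra C D] [Algebra.Smooth C D] (π : D →+* C)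
    (hπ : π.comp (algebraMap C D) = RingHom.id C) : AlgProp.toRingHom @PCHom π ∧ FTD π := by
  let σ : Spec (.of C) ⟶ Spec (.of D) := Spec.map (CommRingCat.ofHom π)
  let f : Spec (.of D) ⟶ Spec (.of C) := Spec.map (CommRingCat.ofHom (algebraMap C D))
  have hf : Smooth f := by
    rw [HasRingHomProperty.Spec_iff (P := @Smooth)]
    exact RingHom.smooth_algebraMap.2 inferInstance
  have hσf : σ ≫ f = 𝟙 _ := by
    rw [← Spec.map_comp, ← CommRingCat.ofHom_comp, hπ]
    exact Spec.map_id _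
  have hcl : IsClosedImmersion σ := IsClosedImmersion.spec_of_surjective _ fun c =>
    ⟨algebraMap C D c, RingHom.congr_fun hπ c⟩
  have hp := Groth.Agent.S1509.result σ (Groth.Agent.S1676.result f σ hσf)
  have hPC : HasRingHomProperty (AlgProp.toMor @PCHom) (AlgProp.toRingHom @PCHom) := pcHom_isLocal.hasRingHomProperty
  have hFTD : HasRingHomProperty (affineLocally @FTD) @FTD := ⟨ftd_propertyIsLocal, rfl⟩
  have h1 : AlgProp.toMor @PCHom σ := fun U V hU hV e => by
    let _ := (σ.appLE V U e).hom.toAlgebra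
    exact isPseudoCoherentHom_iff.1 (hp U V hU hV e).1
  have h2 : affineLocally @FTD σ := by
    rw [affineLocally_iff_forall_isAffineOpen]
    intro V hV U hU e
    exact (hp U V hU hV e).2
  exact ⟨(HasRingHomProperty.Spec_iff (P := AlgProp.toMor @PCHom)).1 h1,
    (HasRingHomProperty.Spec_iff (P := affineLocally @FTD)).1 h2⟩

theorem perfect_of_smooth (A B C : Type u) [CommRing A] [CommRing B] [CommRing C] [Algebra A B] [Algebra B C]
    [Algebra A C] [IsScalarTower A B C] [Algebra.Smooth A B] (h1 : PCHom A C) (h2 : DRing.HasFiniteTorDim A C) :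
    AlgProp.toRingHom @PCHom (algebraMap B C) ∧ FTD (algebraMap B C) := by
  let _ : Algebra C (B ⊗[A] C) := Algebra.TensorProduct.rightAlgebra
  have hsm : Algebra.Smooth C (B ⊗[A] C) := by
    let e : C ⊗[A] B ≃ₐ[C] B ⊗[A] C :=
      { Algebra.TensorProduct.comm A C B with
        commutes' := fun c => by
          change Algebra.TensorProduct.comm A C B (c ⊗ₜ 1) = _
          rw [Algebra.TensorProduct.comm_tmul]; rfl }
    exact Algebra.Smooth.of_equiv e
  let π : B ⊗[A] C →ₐ[B] C := Algebra.TensorProduct.lift (Algebra.ofId B C) (IsScalarTower.toAlgHom A C C)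
    (fun _ _ => Commute.all _ _)
  have hπ : π.toRingHom.comp (algebraMap C (B ⊗[A] C)) = RingHom.id C := by
    ext c
    change π ((1 : B) ⊗ₜ[A] c) = c
    rw [Algebra.TensorProduct.lift_tmul, map_one, one_mul]
    rfl
  obtain ⟨h3, h4⟩ := perfect_section π.toRingHom hπ
  have h5 : PCHom B (B ⊗[A] C) := h1.of_isPushout B (B ⊗[A] C)
  obtain ⟨n, hn⟩ := h2
  have h6 : DRing.HasTorDimLE B n (B ⊗[A] C) := TorDim.HasTorDimLE.baseChange B hn
  have h7 : algebraMap B C = π.toRingHom.comp (algebraMap B (B ⊗[A] C)) := π.comp_algebraMap.symm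
  rw [h7]
  exact ⟨pcRing_stableUnderComposition _ _ ((AlgProp.toRingHom_algebraMap @PCHom).2 h5) h3,
    (ftd_algebraMap_iff.2 ⟨n, h6⟩).comp h4⟩

/-- Stacks Tag 068D: let f : X → Y and g : Y → S with g smooth and f ≫ g perfect. Then f is perfect. -/
theorem result {X Y S : Scheme.{u}} (f : X ⟶ Y) (g : Y ⟶ S) [Smooth g] (h : MoreMor.IsPerfectMor (f ≫ g)) :
    MoreMor.IsPerfectMor f := by
  have hPC : HasRingHomProperty (AlgProp.toMor @PCHom) (AlgProp.toRingHom @PCHom) := pcHom_isLocal.hasRingHomProperty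
  have hFTD : HasRingHomProperty (affineLocally @FTD) @FTD := ⟨ftd_propertyIsLocal, rfl⟩
  have key : ∀ x : X, ∃ (V : Y.affineOpens) (U : X.affineOpens) (_ : x ∈ U.1) (e : U.1 ≤ f ⁻¹ᵁ V.1),
      AlgProp.toRingHom @PCHom (f.appLE V.1 U.1 e).hom ∧ FTD (f.appLE V.1 U.1 e).hom := by
    intro x
    obtain ⟨W, hW, hxW, -⟩ := TopologicalSpace.Opens.isBasis_iff_nbhd.mp S.isBasis_affineOpens
      (TopologicalSpace.Opens.mem_top (g (f x)))
    obtain ⟨V, hV, hxV, hVW⟩ := TopologicalSpace.Opens.isBasis_iff_nbhd.mp Y.isBasis_affineOpens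
      (show f x ∈ g ⁻¹ᵁ W from hxW)
    obtain ⟨U, hU, hxU, hUV⟩ := TopologicalSpace.Opens.isBasis_iff_nbhd.mp X.isBasis_affineOpens
      (show x ∈ f ⁻¹ᵁ V from hxV)
    refine ⟨⟨V, hV⟩, ⟨U, hU⟩, hxU, hUV, ?_⟩
    have hUW : U ≤ (f ≫ g) ⁻¹ᵁ W := fun y hy => hVW (hUV hy)
    obtain ⟨h1, h2⟩ := h U W hU hW hUW
    let _ := (f.appLE V U hUV).hom.toAlgebra
    let _ := (g.appLE W V hVW).hom.toAlgebra
    let _ := ((f ≫ g).appLE W U hUW).hom.toAlgebra
    have hsm : Algebra.Smooth Γ(S, W) Γ(Y, V) := g.smooth_appLE hW hV hVW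
    have : IsScalarTower Γ(S, W) Γ(Y, V) Γ(X, U) := IsScalarTower.of_algebraMap_eq' (by
      have h3 := Scheme.Hom.appLE_comp_appLE f g W V U hVW hUV
      exact congr(($h3).hom).symm)
    exact perfect_of_smooth Γ(S, W) Γ(Y, V) Γ(X, U) (isPseudoCoherentHom_iff.1 h1) h2
  have h1 : AlgProp.toMor @PCHom f := by
    refine (HasRingHomProperty.iff_exists_appLE (P := AlgProp.toMor @PCHom) pcHom_isLocal.holdsForComp_source).2
      fun x => ?_
    obtain ⟨V, U, hxU, e, h, -⟩ := key x
    exact ⟨V, U, hxU, e, h⟩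
  have h2 : affineLocally @FTD f := by
    refine (HasRingHomProperty.iff_exists_appLE (P := affineLocally @FTD)
      (ftd_stableUnderComposition.stableUnderCompositionWithLocalizationAway ftd_holdsForLocalizationAway).left).2
      fun x => ?_
    obtain ⟨V, U, hxU, e, -, h⟩ := key x
    exact ⟨V, U, hxU, e, h⟩
  intro U V hU hV e
  rw [affineLocally_iff_forall_isAffineOpen] at h2
  let _ := (f.appLE V U e).hom.toAlgebra
  exact ⟨isPseudoCoherentHom_iff.2 (h1 U V hU hV e), h2 hV hU e⟩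

end Groth.Agent.S1510
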