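import Groth.Statements.S2206
import Groth.Agent.Models.DiagSmooth2
import Mathlib.RingTheory.Smooth.Locus

set_option autoImplicit false
universe u
open TensorProduct
open LCI

namespace Groth.Agent.S2206

/-- Stacks Tag 0FCX. Let A be a Noetherian ring and B a flat A-algebra of finite type, viewed as an algebra over
B tensor_A B through the multiplication map. If B, as a module over B tensor_A B, has finite
Tor-dimension (the diagonal is a perfect ring map), then B is smooth over A. -/
theorem result {A B : Type u} [CommRing A] [CommRing B]
    [Algebra A B] [IsNoetherianRing A] [Algebra.FiniteType A B] [Module.Flat A B]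
    [Algebra (B ⊗[A] B) B]
    (hmul : ∀ x y : B, algebraMap (B ⊗[A] B) B (x ⊗ₜ[A] y) = x * y)
    (h : DRing.HasFiniteTorDim (B ⊗[A] B) B) : Algebra.Smooth A B := by
  have hfp : Algebra.FinitePresentation A B := Algebra.FinitePresentation.of_finiteType.1 inferInstance
  rw [Algebra.smooth_iff]
  refine ⟨?_, hfp⟩
  rw [← Algebra.smoothLocus_eq_univ_iff, Set.eq_univ_iff_forall]
  intro x
  obtain ⟨n, f₀, hf₀⟩ := Algebra.FiniteType.iff_quotient_mvPolynomial''.mp
    (inferInstance : Algebra.FiniteType A B)
  let q : Ideal B := x.asIdeal
  let P0 := MvPolynomial (Fin n) A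
  let p : Ideal P0 := q.comap f₀
  let B' := Localization.AtPrime q
  let P' := Localization.AtPrime p
  let aPB : Algebra P' B' := (Localization.localRingHom p q f₀.toRingHom rfl).toAlgebra
  have hPB : ∀ x : P0, algebraMap P' B' (algebraMap P0 P' x) = algebraMap B B' (f₀ x) :=
    fun x => Localization.localRingHom_to_map _ _ _ _ _
  have t1 : IsScalarTower A P' B' := IsScalarTower.of_algebraMap_eq fun a => by
    rw [IsScalarTower.algebraMap_apply A P0 P', hPB, IsScalarTower.algebraMap_apply A B B',
      AlgHom.commutes]
  have : Algebra.FormallyEtale P0 P' := .of_isLocalization p.primeCompl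
  have : Algebra.FormallySmooth A P' := .comp _ P0 _
  have : Module.Free P' Ω[P'⁄A] :=
    .of_equiv (KaehlerDifferential.tensorKaehlerEquivOfFormallyEtale A P0 P')
  have : Module.Finite P' Ω[P'⁄A] :=
    .equiv (KaehlerDifferential.tensorKaehlerEquivOfFormallyEtale A P0 P')
  have hsurj : Function.Surjective (algebraMap P' B') :=
    Models.DiagSmooth2.localRingHom_surjective _ _ _ _ hf₀
  have hfg : (RingHom.ker (algebraMap P' B')).FG := by
    have h1 : IsNoetherianRing P' := IsLocalization.isNoetherianRing p.primeCompl _ inferInstance
    exact (isNoetherianRing_iff_ideal_fg _).1 h1 _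
  change Algebra.FormallySmooth A B'
  rw [Algebra.FormallySmooth.iff_injective_cotangentComplexBaseChange_residueField P' hsurj hfg]
  exact Models.DiagSmooth2.injective_cotangentComplexBaseChange_localization hmul h f₀ hf₀ q p rfl rfl

end Groth.Agent.S2206
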