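import Groth.Statements.S1515
import Groth.Agent.S1676
import Groth.Agent.S1509
import Groth.Agent.S2206
import Groth.Agent.Flat2H.TorDimHom
import Groth.Agent.Flat2H.DiagLocal

set_option autoImplicit false
universe u
attribute [local instance] HasDerivedCategory.standard
open FlatMor

namespace Groth.Agent.S1515

open AlgebraicGeometry CategoryTheory Limits TensorProduct in
open Groth.Agent.Flat2H Groth.Agent.Flat2H.TorDimHom in
theorem smooth_of_perfect {X Y : Scheme.{u}} (f : X ⟶ Y) [LocallyOfFiniteType f] [IsLocallyNoetherian Y]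
    (hf : Flat f) (hp : MoreMor.IsPerfectMor (pullback.diagonal f)) : Smooth f := by
  have hPQ : HasRingHomProperty (affineLocally @FTD) @FTD := ⟨ftd_propertyIsLocal, rfl⟩
  have hd : affineLocally @FTD (pullback.diagonal f) := by
    rw [affineLocally_iff_forall_isAffineOpen]
    intro V hV U hU e
    exact (hp U V hU hV e).2
  refine ⟨fun {V} hV {U} hU e => ?_⟩
  have h1 := DiagLocal.of_diagonal _ hPQ f hd hV hU e
  let _ := (f.appLE V U e).hom.toAlgebra
  have hN : IsNoetherianRing Γ(Y, V) := IsLocallyNoetherian.component_noetherian ⟨V, hV⟩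
  have hft : Algebra.FiniteType Γ(Y, V) Γ(X, U) := f.finiteType_appLE hV hU e
  have hfl : Module.Flat Γ(Y, V) Γ(X, U) := hf.flat_appLE hV hU e
  let _ : Algebra (Γ(X, U) ⊗[Γ(Y, V)] Γ(X, U)) Γ(X, U) :=
    (Algebra.TensorProduct.lmul' Γ(Y, V) : Γ(X, U) ⊗[Γ(Y, V)] Γ(X, U) →ₐ[Γ(Y, V)] Γ(X, U)).toRingHom.toAlgebra
  exact Groth.Agent.S2206.result (A := Γ(Y, V)) (B := Γ(X, U)) (fun x y => Algebra.TensorProduct.lmul'_apply_tmul x y)
    h1

open AlgebraicGeometry CategoryTheory Limits in
/-- Stacks Tag 0FDP, (1) ⇔ (2) ⇔ (4), for separated morphisms: let f : X → Y be separated and of finite type between locally Noetherian schemes, with diagonal Δ (a closed immersion). Then f is smooth iff f is flat and Δ is a regular closed immersion, iff f is flat and Δ is a perfect morphism. -/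
theorem result {X Y : Scheme.{u}} (f : X ⟶ Y) [IsSeparated f] [LocallyOfFiniteType f] [QuasiCompact f] [IsLocallyNoetherian X] [IsLocallyNoetherian Y] :
    (Smooth f ↔ Flat f ∧ Mor2.IsRegularClosedImmersion (pullback.diagonal f)) ∧
    (Smooth f ↔ Flat f ∧ MoreMor.IsPerfectMor (pullback.diagonal f)) := by
  have h1 : Smooth f → Mor2.IsRegularClosedImmersion (pullback.diagonal f) := fun h =>
    Groth.Agent.S1676.result (pullback.fst f f) (pullback.diagonal f) (pullback.diagonal_fst f)
  have h3 : Mor2.IsRegularClosedImmersion (pullback.diagonal f) → MoreMor.IsPerfectMor (pullback.diagonal f) :=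
    fun h => Groth.Agent.S1509.result _ h
  have h4 : Flat f → MoreMor.IsPerfectMor (pullback.diagonal f) → Smooth f := smooth_of_perfect f
  exact ⟨⟨fun h => ⟨inferInstance, h1 h⟩, fun h => h4 h.1 (h3 h.2)⟩,
    ⟨fun h => ⟨inferInstance, h3 (h1 h)⟩, fun h => h4 h.1 h.2⟩⟩

end Groth.Agent.S1515
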