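import Groth.Statements.S1517
-- import your own Groth.Agent.* helpers here
import Mathlib.RingTheory.SimpleRing.Basic
import Mathlib.RingTheory.TwoSidedIdeal.Operations
import Mathlib.LinearAlgebra.Span.Basic

set_option autoImplicit false
universe u
open Brauer

namespace Groth.Agent.S1517

lemma exists_one_mem (A : Type u) [Ring A] [IsSimpleRing A]
    (M : Submodule Aᵐᵒᵖ A) (hM : M ≠ ⊥) :
    (1 : A) ∈ Submodule.span A (M : Set A) := by
  -- the left ideal generated by `M` is two-sided
  have hright : ∀ {x : A} (b : A), x ∈ Submodule.span A (M : Set A) →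
      x * b ∈ Submodule.span A (M : Set A) := by
    intro x b hx
    induction hx using Submodule.span_induction with
    | mem x hx =>
      apply Submodule.subset_span
      exact M.smul_mem (MulOpposite.op b) hx
    | zero => rw [zero_mul]; exact Submodule.zero_mem _
    | add x y _ _ hx hy => rw [add_mul]; exact Submodule.add_mem _ hx hy
    | smul a x _ hx =>
      rw [smul_eq_mul, mul_assoc]
      exact Submodule.smul_mem _ a hx
  let J : TwoSidedIdeal A := TwoSidedIdeal.mk' (Submodule.span A (M : Set A) : Set A)
    (Submodule.zero_mem _) (fun hx hy => Submodule.add_mem _ hx hy)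
    (fun hx => Submodule.neg_mem _ hx)
    (fun {x y} hy => Submodule.smul_mem _ x hy)
    (fun {x y} hx => hright y hx)
  have hJ : ∀ x, x ∈ J ↔ x ∈ Submodule.span A (M : Set A) := fun x =>
    TwoSidedIdeal.mem_mk' _ _ _ _ _ _ x
  have hJtop : J = ⊤ := by
    rcases eq_bot_or_eq_top J with h | h
    · exfalso
      apply hM
      rw [eq_bot_iff]
      intro x hx
      have : x ∈ J := (hJ x).2 (Submodule.subset_span hx)
      rw [h] at this
      simpa using! this
    · exact h
  rw [← hJ, hJtop]
  trivial

/-- Stacks Tag 0745: let A be a ring with no nontrivial two-sided ideals and M a nonzero right ideal, viewed as a right A-module with endomorphism ring A'. Then every A'-linear endomorphism of M is right multiplication by exactly one element of A; that is, the natural map from A to the bicommutant of M is a bijection. -/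
theorem result (A : Type u) [Ring A] [IsSimpleRing A]
    (M : Submodule Aᵐᵒᵖ A) (hM : M ≠ ⊥)
    (g : Module.End (Module.End Aᵐᵒᵖ M) M) :
    ∃! a : A, ∀ m : M, (g m : A) = (m : A) * a := by
  have h1 := exists_one_mem A M hM
  -- left multiplication by an element of `M`
  let l : M → Module.End Aᵐᵒᵖ M := fun x =>
    { toFun := fun n => ⟨(x : A) * n, M.smul_mem (MulOpposite.op (n : A)) x.2⟩
      map_add' := fun a b => Subtype.ext (mul_add _ _ _)
      map_smul' := fun r a => Subtype.ext (by
        change (x : A) * ((a : A) * r.unop) = ((x : A) * a) * r.unop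
        rw [mul_assoc]) }
  have hl : ∀ x n : M, (g ⟨(x : A) * n, M.smul_mem (MulOpposite.op (n : A)) x.2⟩ : A) = (x : A) * g n := by
    intro x n
    have := g.map_smul (l x) n
    exact congrArg Subtype.val this
  have key : ∀ x ∈ Submodule.span A (M : Set A), ∃ c : A, ∀ m : M,
      (g ⟨(m : A) * x, M.smul_mem (MulOpposite.op x) m.2⟩ : A) = (m : A) * c := by
    intro x hx
    induction hx using Submodule.span_induction with
    | mem x hx =>
      exact ⟨g ⟨x, hx⟩, fun m => hl m ⟨x, hx⟩⟩
    | zero =>
      refine ⟨0, fun m => ?_⟩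
      have : (⟨(m : A) * 0, M.smul_mem (MulOpposite.op 0) m.2⟩ : M) = 0 := Subtype.ext (mul_zero _)
      rw [this, map_zero, mul_zero]
      rfl
    | add x y _ _ hx hy =>
      obtain ⟨c, hc⟩ := hx
      obtain ⟨d, hd⟩ := hy
      refine ⟨c + d, fun m => ?_⟩
      have : (⟨(m : A) * (x + y), M.smul_mem (MulOpposite.op (x + y)) m.2⟩ : M) =
        ⟨(m : A) * x, M.smul_mem (MulOpposite.op x) m.2⟩ + ⟨(m : A) * y, M.smul_mem (MulOpposite.op y) m.2⟩ :=
        Subtype.ext (mul_add _ _ _)
      rw [this, map_add, mul_add, ← hc, ← hd]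
      rfl
    | smul a x _ hx =>
      obtain ⟨c, hc⟩ := hx
      refine ⟨a * c, fun m => ?_⟩
      have := hc ⟨(m : A) * a, M.smul_mem (MulOpposite.op a) m.2⟩
      rw [← mul_assoc, ← this]
      congr 2
      exact Subtype.ext (mul_assoc _ _ _).symm
  have uniq : ∀ c : A, (∀ m : M, (m : A) * c = 0) → c = 0 := by
    intro c hc
    have : ∀ x ∈ Submodule.span A (M : Set A), x * c = 0 := by
      intro x hx
      induction hx using Submodule.span_induction with
      | mem x hx => exact hc ⟨x, hx⟩
      | zero => exact zero_mul _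
      | add x y _ _ hx hy => rw [add_mul, hx, hy, add_zero]
      | smul a x _ hx => rw [smul_eq_mul, mul_assoc, hx, mul_zero]
    simpa using this 1 h1
  obtain ⟨c, hc⟩ := key 1 h1
  refine ⟨c, fun m => ?_, fun d hd => ?_⟩
  · rw [← hc m]
    congr 2
    exact Subtype.ext (mul_one _).symm
  · rw [← sub_eq_zero]
    apply uniq
    intro m
    have h2 := hc m
    have h3 : (⟨(m : A) * 1, M.smul_mem (MulOpposite.op 1) m.2⟩ : M) = m := Subtype.ext (mul_one _)
    rw [h3] at h2
    rw [mul_sub, ← hd m, ← h2, sub_self]

end Groth.Agent.S1517
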