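import Groth.Statements.S1529
import Mathlib.AlgebraicGeometry.Morphisms.QuasiFinite

set_option autoImplicit false
universe u
open CategoryTheory CategoryTheory.Limits AlgebraicGeometry
open Variety

namespace Groth.Agent.S1529

/-- Stacks Tag 06LH (second part): a scheme of finite type over a field whose underlying topological space has Krull dimension at most zero is affine, and its structure morphism is finite. -/
theorem result (k : Type u) [Field k] (X : Scheme.{u}) [X.Over (Spec (CommRingCat.of k))]
    [LocallyOfFiniteType (X ↘ (Spec (CommRingCat.of k)))] [QuasiCompact (X ↘ (Spec (CommRingCat.of k)))]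
    (hdim : topologicalKrullDim X ≤ 0) :
    IsAffine X ∧ IsFinite (X ↘ (Spec (CommRingCat.of k))) := by
  have : IsNoetherianRing (CommRingCat.of k) := inferInstanceAs (IsNoetherianRing k)
  have : IsArtinianRing (CommRingCat.of k) := inferInstanceAs (IsArtinianRing k)
  have h1 : IsLocallyNoetherian X :=
    LocallyOfFiniteType.isLocallyNoetherian (X ↘ (Spec (CommRingCat.of k)))
  have h2 : IsLocallyArtinian X := IsLocallyArtinian.of_topologicalKrullDim_le_zero hdim
  have h3 : LocallyQuasiFinite (X ↘ (Spec (CommRingCat.of k))) :=
    locallyQuasiFinite_iff_isDiscrete_preimage_singleton.mpr fun x => ⟨inferInstance⟩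
  have h4 : IsFinite (X ↘ (Spec (CommRingCat.of k))) := IsFinite.of_locallyQuasiFinite _
  exact ⟨isAffine_of_isAffineHom (X ↘ (Spec (CommRingCat.of k))), h4⟩

end Groth.Agent.S1529
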