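import Groth.Statements.S1541
import Groth.Agent.VarietyA.GeomRed

set_option autoImplicit false
universe u
open CategoryTheory CategoryTheory.Limits AlgebraicGeometry
attribute [local instance] Curv2.resAlgebra Curv2.stalkAlgebra
open Variety

namespace Groth.Agent.S1541

/-- Stacks Tag 035W: X is geometrically reduced at x (all local rings of all base changes X_{k'} at points over x are reduced) if and only if the local ring of X at x is geometrically reduced as a k-algebra. -/
theorem result (k : Type u) [Field k] (X : Scheme.{u}) [X.Over (Spec (CommRingCat.of k))] (x : X) :
    Curv2.IsGeomReducedAt k X x ↔ Algebra.IsGeometricallyReduced k (X.presheaf.stalk x) := by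
  exact Groth.Agent.VarietyA.GeomRed.isGeomReducedAt_iff k X x

end Groth.Agent.S1541
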