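import Groth.Statements.S1544
import Groth.Agent.VarietyA.GeomRed

set_option autoImplicit false
universe u
open CategoryTheory CategoryTheory.Limits AlgebraicGeometry
attribute [local instance] Curv2.resAlgebra Curv2.stalkAlgebra
open Variety

namespace Groth.Agent.S1544

/-- Stacks Tag 04KS (4): for an integral scheme over k, geometric reducedness of the scheme is equivalent to geometric reducedness over k of the function field (the local ring at the generic point), i.e. a separable extension of k in the sense of commutative algebra. The source states this for varieties; integrality is what the proof uses. -/
theorem result (k : Type u) [Field k] (X : Scheme.{u}) [X.Over (Spec (CommRingCat.of k))] [IsIntegral X] :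
    GeometricallyReduced (X ↘ (Spec (CommRingCat.of k))) ↔ Algebra.IsGeometricallyReduced k X.functionField := by
  exact Groth.Agent.VarietyA.GeomRed.geometricallyReduced_iff_functionField k X

end Groth.Agent.S1544
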