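import Groth.Statements.S1547
import Groth.Agent.VarietyA.GeomIrrS

set_option autoImplicit false
universe u
open CategoryTheory CategoryTheory.Limits AlgebraicGeometry
open Variety

namespace Groth.Agent.S1547

/-- Stacks Tag 038H: if k is separably closed and K is any field extension, then taking images along X_K → X is injective on irreducible components (together with Tag 04KX this gives a bijection of irreducible components). -/
theorem result (k : Type u) [Field k] (X : Scheme.{u}) [X.Over (Spec (CommRingCat.of k))] [IsSepClosed k] (K : Type u) [Field K] [Algebra k K]
    (T T' : Set (Curv2.bc k X K : Type u)) (hT : T ∈ irreducibleComponents (Curv2.bc k X K : Type u))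
    (hT' : T' ∈ irreducibleComponents (Curv2.bc k X K : Type u))
    (h : (Curv2.bcFst k X K).base '' T = (Curv2.bcFst k X K).base '' T') : T = T' := by
  have := Groth.Agent.VarietyA.GeomIrr.geometricallyIrreducible_of_isSepClosed k K
  have hop : IsOpenMap (Curv2.bcFst k X K) := (Curv2.bcFst k X K).isOpenMap
  have hinj := ((Curv2.bcFst k X K).irreducibleComponentsEquiv hop).injective
  have h' : (⟨T, hT⟩ : irreducibleComponents (Curv2.bc k X K : Type u)) = ⟨T', hT'⟩ := by
    apply hinj
    apply Subtype.ext
    exact h
  exact congrArg Subtype.val h'

end Groth.Agent.S1547
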