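import Groth.Statements.S1553
import Groth.Agent.VarietyA.DimIneq

set_option autoImplicit false
universe u
open CategoryTheory CategoryTheory.Limits AlgebraicGeometry
open Variety

namespace Groth.Agent.S1553

/-- Stacks Tag 0B2K: let f : X → Y be locally of finite type, x a point with image y such that the local ring of Y at y is Noetherian, and d a natural number such that at the generic points η of the irreducible components of X passing through x we have f(η) ≠ y and local fibre dimension d. Then the local dimension at x of the fibre over y is at most d + dim O_{Y,y} - 1 (written additively). -/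
theorem result {X Y : Scheme.{u}} (f : X ⟶ Y) [LocallyOfFiniteType f]
    (x : X) [IsNoetherianRing (Y.presheaf.stalk (f.base x))] (d : ℕ)
    (hgen : ∀ Z ∈ irreducibleComponents (X : Type u), x ∈ Z → ∀ η : X, IsGenericPoint η Z →
      f.base η ≠ f.base x ∧ FlatMor.fibreDimAt f η = d) :
    FlatMor.fibreDimAt f x + 1 ≤ (d : WithBot ℕ∞) + ringKrullDim (Y.presheaf.stalk (f.base x)) := by
  have key : ∀ z : X, z ⤳ x → f z = f x → ∃ a c : ℕ, CycB.RelDim.rtd f z = a ∧
      ringKrullDim (Y.presheaf.stalk (f x)) = c ∧ a + 1 ≤ c + d := by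
    intro z hz hfz
    obtain ⟨η, hη⟩ := QuasiSober.sober
      (irreducibleComponent_mem_irreducibleComponents z).1 isClosed_irreducibleComponent
    have hηz : η ⤳ z := by
      rw [specializes_iff_mem_closure, hη.def]
      exact mem_irreducibleComponent
    have hxZ : x ∈ irreducibleComponent z := by
      rw [← hη.def, ← specializes_iff_mem_closure]
      exact hηz.trans hz
    obtain ⟨h1, h2⟩ := hgen _ (irreducibleComponent_mem_irreducibleComponents z) hxZ η hη
    have hne : η ≠ z := by
      rintro rfl
      exact h1 hfz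
    obtain ⟨a, b, c, ha, hb, hc, habc⟩ := VarietyA.DimIneq.ineq f hηz hne (f x) hfz
    obtain ⟨b', hb', hb''⟩ := VarietyA.LocDim.le_fibreDimAt f η η specializes_rfl rfl
    rw [h2] at hb''
    have hbb : b = b' := by
      rw [hb] at hb'
      exact_mod_cast hb'
    subst hbb
    have hbd : b ≤ d := by exact_mod_cast hb''
    exact ⟨a, c, ha, hc, by omega⟩
  obtain ⟨a₀, c, -, hc, hac⟩ := key x specializes_rfl rfl
  have hle : FlatMor.fibreDimAt f x ≤ ((c + d - 1 : ℕ) : WithBot ℕ∞) := by
    refine VarietyA.LocDim.fibreDimAt_le f x _ fun z hz hfz => ?_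
    obtain ⟨a, c', ha, hc', hac'⟩ := key z hz hfz
    have hcc : c = c' := by
      rw [hc] at hc'
      exact_mod_cast hc'
    subst hcc
    rw [ha]
    exact_mod_cast (by omega : a ≤ c + d - 1)
  change FlatMor.fibreDimAt f x + 1 ≤ (d : WithBot ℕ∞) + ringKrullDim (Y.presheaf.stalk (f x))
  rw [hc]
  calc FlatMor.fibreDimAt f x + 1 ≤ ((c + d - 1 : ℕ) : WithBot ℕ∞) + 1 := by gcongr
    _ = ((c + d - 1 + 1 : ℕ) : WithBot ℕ∞) := by push_cast; rfl
    _ = ((d + c : ℕ) : WithBot ℕ∞) := by rw [show c + d - 1 + 1 = d + c by omega]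
    _ = _ := by push_cast; rfl

end Groth.Agent.S1553
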