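import Groth.Statements.S1554
import Groth.Agent.VarietyA.DimIneq
import Groth.Agent.S0402

set_option autoImplicit false
universe u
open CategoryTheory CategoryTheory.Limits AlgebraicGeometry
open Variety

namespace Groth.Agent.S1554

/-- Stacks Tag 0B2I: let f : X → Y be locally of finite type, x a point with image y such that the local ring of Y at y is Noetherian of dimension at most one, and d a natural number such that the local fibre dimension is d at the generic points of the irreducible components of X passing through x. Then the local dimension at x of the fibre over y equals d. -/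
theorem result {X Y : Scheme.{u}} (f : X ⟶ Y) [LocallyOfFiniteType f]
    (x : X) [IsNoetherianRing (Y.presheaf.stalk (f.base x))] (hdimY : ringKrullDim (Y.presheaf.stalk (f.base x)) ≤ 1) (d : ℕ)
    (hgen : ∀ Z ∈ irreducibleComponents (X : Type u), x ∈ Z → ∀ η : X, IsGenericPoint η Z → FlatMor.fibreDimAt f η = d) :
    FlatMor.fibreDimAt f x = d := by
  apply le_antisymm
  · refine VarietyA.LocDim.fibreDimAt_le f x d fun z hz hfz => ?_
    obtain ⟨η, hη⟩ := QuasiSober.sober
      (irreducibleComponent_mem_irreducibleComponents z).1 isClosed_irreducibleComponent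
    have hηz : η ⤳ z := by
      rw [specializes_iff_mem_closure, hη.def]
      exact mem_irreducibleComponent
    have hxZ : x ∈ irreducibleComponent z := by
      rw [← hη.def, ← specializes_iff_mem_closure]
      exact hηz.trans hz
    have h2 := hgen _ (irreducibleComponent_mem_irreducibleComponents z) hxZ η hη
    obtain ⟨b, hb, hb'⟩ := VarietyA.LocDim.le_fibreDimAt f η η specializes_rfl rfl
    rw [h2] at hb'
    have hbd : b ≤ d := by exact_mod_cast hb'
    by_cases hfη : f η = f z
    · refine (VarietyA.LocDim.rtd_le_of_specializes f hηz hfη).trans ?_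
      rw [hb]
      exact_mod_cast hbd
    · have hne : η ≠ z := by
        rintro rfl
        exact hfη rfl
      obtain ⟨a, b', c, ha, hb', hc, habc⟩ := VarietyA.DimIneq.ineq f hηz hne (f x) hfz
      have hbb : b = b' := by
        rw [hb] at hb'
        exact_mod_cast hb'
      subst hbb
      have hc1 : c ≤ 1 := by
        have h3 : ringKrullDim (Y.presheaf.stalk (f x)) ≤ 1 := hdimY
        rw [hc] at h3
        exact_mod_cast h3
      rw [ha]
      exact_mod_cast (by omega : a ≤ d)
  · by_contra hlt
    rw [not_le] at hlt
    obtain ⟨m, -, hm⟩ := VarietyA.LocDim.le_fibreDimAt f x x specializes_rfl rfl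
    have hmd : m < d := by exact_mod_cast hm.trans_lt hlt
    have hle : FlatMor.fibreDimAt f x ≤ ((d - 1 : ℕ) : WithBot ℕ∞) := by
      generalize FlatMor.fibreDimAt f x = t at *
      induction t using WithBot.recBotCoe with
      | bot => exact bot_le
      | coe t =>
        have h1 : t < (d : ℕ∞) := by exact_mod_cast hlt
        obtain ⟨t', rfl⟩ := ENat.ne_top_iff_exists.mp (ne_top_of_lt h1)
        have h2 : t' < d := by exact_mod_cast h1
        have h3 : t' ≤ d - 1 := by omega
        have h4 : (t' : ℕ∞) ≤ ((d - 1 : ℕ) : ℕ∞) := by exact_mod_cast h3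
        exact WithBot.coe_le_coe.mpr h4
    obtain ⟨η, hη⟩ := QuasiSober.sober
      (irreducibleComponent_mem_irreducibleComponents x).1 isClosed_irreducibleComponent
    have hηx : η ⤳ x := by
      rw [specializes_iff_mem_closure, hη.def]
      exact mem_irreducibleComponent
    have h2 := hgen _ (irreducibleComponent_mem_irreducibleComponents x) mem_irreducibleComponent
      η hη
    have h3 : FlatMor.fibreDimAt f η ≤ ((d - 1 : ℕ) : WithBot ℕ∞) :=
      hηx.mem_open (S0402.result f (d - 1)) hle
    rw [h2] at h3
    have h4 : d ≤ d - 1 := by exact_mod_cast h3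
    omega

end Groth.Agent.S1554
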