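import Groth.Statements.S1556
import Groth.Agent.VarietyA.SmoothReg
import Mathlib.RingTheory.Etale.Field

set_option autoImplicit false
universe u
open CategoryTheory CategoryTheory.Limits AlgebraicGeometry
attribute [local instance] Curv2.resAlgebra
open Variety

namespace Groth.Agent.S1556

/-- Stacks Tag 0B8Y, (3) iff (6): let X be a curve over k (integral, separated, of finite type, of dimension one) and x a closed point whose residue field is separable over k. Then the local ring at x is a discrete valuation ring if and only if x lies in the smooth locus of X → Spec k. -/
theorem result (k : Type u) [Field k] (X : Scheme.{u}) [X.Over (Spec (CommRingCat.of k))] [IsIntegral X]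
    [IsSeparated (X ↘ (Spec (CommRingCat.of k)))] [LocallyOfFinitePresentation (X ↘ (Spec (CommRingCat.of k)))] [QuasiCompact (X ↘ (Spec (CommRingCat.of k)))]
    (hdim : topologicalKrullDim X = 1) (x : X) (hx : IsClosed ({x} : Set X))
    [Algebra.IsSeparable k (X.residueField x)] :
    IsDiscreteValuationRing (X.presheaf.stalk x) ↔ x ∈ (X ↘ (Spec (CommRingCat.of k))).smoothLocus := by
  constructor
  · intro h
    have hs : Algebra.FormallyEtale k (X.residueField x) :=
      Algebra.FormallyEtale.of_isSeparable k (X.residueField x)
    exact Groth.Agent.VarietyA.SmoothReg.mem_smoothLocus_of_isRegularLocalRing k X x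
      inferInstance inferInstance
  · intro h
    have h1 : IsRegularLocalRing (X.presheaf.stalk x) :=
      Groth.Agent.VarietyA.RegSmoothSch.isRegularLocalRing_stalk_of_mem_smoothLocus _ x h
    have h2 := Groth.Agent.VarietyA.SmoothReg.ringKrullDim_stalk_le X x
    have h3 := Groth.Agent.VarietyA.SmoothReg.not_isField_stalk_of_isClosed X x hx
      (by rw [hdim]; exact zero_lt_one)
    rw [hdim] at h2
    have h4 : ringKrullDim (X.presheaf.stalk x) = 1 := by
      apply le_antisymm h2
      by_contra h5
      apply h3
      have h6 : Ring.KrullDimLE 0 (X.presheaf.stalk x) := by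
        rw [Ring.krullDimLE_iff]
        generalize ringKrullDim (X.presheaf.stalk x) = d at h5
        induction d using WithBot.recBotCoe with
        | bot => exact bot_le
        | coe d =>
          have h7 : d < 1 := by
            rw [not_le] at h5
            exact_mod_cast h5
          rw [ENat.lt_one_iff_eq_zero] at h7
          rw [h7]
          exact le_rfl
      exact Ring.KrullDimLE.isField_of_isDomain
    exact Groth.Agent.VarietyA.SmoothReg.isDiscreteValuationRing_of_isRegularLocalRing _ h4

end Groth.Agent.S1556
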