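import Groth.Statements.S1567
import Groth.Agent.Divis.CartierDim

set_option autoImplicit false
universe u
open CategoryTheory CategoryTheory.Limits AlgebraicGeometry
open Divisors

namespace Groth.Agent.S1567

/-- Stacks Tag 0BCN (1): let X be locally Noetherian and D a locally principal closed subscheme. At a point ξ of D that is maximal in D under generisation (a generic point of a component of D), the local ring of X has dimension at most one. -/
theorem result (X : Scheme.{u}) [IsLocallyNoetherian X]
    (D : X.IdealSheafData) (hD : Curv2.IsLocPrincipal D) (ξ : X)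
    (hξ : ξ ∈ (D.support : Set X)) (hgen : ∀ y ∈ (D.support : Set X), y ⤳ ξ → y = ξ) :
    ringKrullDim (X.presheaf.stalk ξ) ≤ 1 := by
  obtain ⟨g, hg⟩ := Groth.Agent.Divis.CartierDim.exists_stalkIdeal_eq_span_of_locPrincipal hD hξ
  exact Groth.Agent.Divis.CartierDim.ringKrullDim_stalk_le_one D ξ hξ hgen g hg

end Groth.Agent.S1567
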