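import Groth.Statements.S1568
import Groth.Agent.Divis.CartierDim

set_option autoImplicit false
universe u
open CategoryTheory CategoryTheory.Limits AlgebraicGeometry
open Divisors

namespace Groth.Agent.S1568

/-- Stacks Tag 0BCN (2): let X be locally Noetherian and D an effective Cartier divisor. At a point ξ of D that is maximal in D under generisation (a generic point of a component of D), the local ring of X has dimension exactly one. -/
theorem result (X : Scheme.{u}) [IsLocallyNoetherian X]
    (D : X.IdealSheafData) (hD : BlowUp.IsEffCartierIdeal D) (ξ : X)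
    (hξ : ξ ∈ (D.support : Set X)) (hgen : ∀ y ∈ (D.support : Set X), y ⤳ ξ → y = ξ) :
    ringKrullDim (X.presheaf.stalk ξ) = 1 := by
  obtain ⟨g, hg, h⟩ := Groth.Agent.Divis.CartierBasic.exists_stalkIdeal_eq_span hD ξ
  refine le_antisymm (Groth.Agent.Divis.CartierDim.ringKrullDim_stalk_le_one D ξ hξ hgen g h) ?_
  refine Groth.Agent.Divis.CartierDim.one_le_ringKrullDim_of_nzd g hg ?_
  have := (Groth.Agent.Divis.CartierBasic.mem_support_iff_stalkIdeal_le D ξ).1 hξ
  rw [h, Ideal.span_singleton_le_iff_mem] at this
  exact this

end Groth.Agent.S1568
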