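import Groth.Statements.S1569
import Groth.Agent.Divis.CartierStalk

set_option autoImplicit false
universe u
open CategoryTheory CategoryTheory.Limits AlgebraicGeometry
open Divisors

namespace Groth.Agent.S1569

/-- Stacks Tag 0AG9: on a Noetherian scheme, an effective Cartier divisor which is integral as a closed subscheme has a discrete valuation ring as the local ring of the ambient scheme at its generic point. -/
theorem result (X : Scheme.{u}) [IsNoetherian X]
    (D : X.IdealSheafData) (hD : BlowUp.IsEffCartierIdeal D) [IsIntegral D.subscheme]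
    (ξ : X) (hξ : IsGenericPoint ξ (D.support : Set X)) :
    ∃ _ : IsDomain (X.presheaf.stalk ξ), IsDiscreteValuationRing (X.presheaf.stalk ξ) := by
  have hξs : ξ ∈ D.support := by
    have := hξ.mem
    simpa using this
  have hgen : ∀ y ∈ (D.support : Set X), y ⤳ ξ → y = ξ := by
    intro y hy h
    have h2 : ξ ⤳ y := hξ.specializes hy
    exact (h.antisymm h2).eq
  obtain ⟨g, hg, h⟩ := Groth.Agent.Divis.CartierBasic.exists_stalkIdeal_eq_span hD ξ
  -- the stalk ideal is prime
  have hprime : (Groth.Agent.Divis.CartierBasic.stalkIdeal D ξ).IsPrime := by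
    obtain ⟨d, rfl⟩ := Groth.Agent.Divis.CartierStalk.exists_subscheme_apply_eq D hξs
    rw [← Groth.Agent.Divis.CartierStalk.ker_stalkMap_subschemeι]
    exact RingHom.ker_isPrime _
  have hmax := Groth.Agent.Divis.CartierDim.eq_maximalIdeal_of_stalkIdeal_le D ξ hgen
    (Groth.Agent.Divis.CartierBasic.stalkIdeal D ξ) le_rfl
  exact Groth.Agent.Divis.CartierAlg.dvr_of_maximalIdeal_eq_span g hg (by rw [← hmax, h])

end Groth.Agent.S1569
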