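import Groth.Statements.S1570
import Groth.Agent.Divis.CartierBasic

set_option autoImplicit false
universe u
open CategoryTheory CategoryTheory.Limits AlgebraicGeometry
open Divisors

namespace Groth.Agent.S1570

/-- Stacks Tag 0AG8 (2): let X be locally Noetherian and D a closed subscheme with ideal sheaf I. If for every point x of D the ideal generated by I in the local ring at x is generated by one nonzerodivisor, then D is an effective Cartier divisor. -/
theorem result (X : Scheme.{u}) [IsLocallyNoetherian X]
    (D : X.IdealSheafData)
    (h : ∀ x ∈ D.support, ∀ (U : X.affineOpens) (hx : x ∈ (U : X.Opens)),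
      ∃ g : X.presheaf.stalk x, g ∈ nonZeroDivisors (X.presheaf.stalk x) ∧
        (D.ideal U).map (X.presheaf.germ U x hx).hom = Ideal.span {g}) :
    BlowUp.IsEffCartierIdeal D := by
  refine Groth.Agent.Divis.CartierBasic.isEffCartierIdeal_of_stalkIdeal D fun x hx => ?_
  obtain ⟨U, hU⟩ := Groth.Agent.Divis.CartierBasic.exists_affine x
  obtain ⟨g, hg, h'⟩ := h x hx U hU
  exact ⟨g, hg, by rw [Groth.Agent.Divis.CartierBasic.stalkIdeal_eq D U hU, h']⟩

end Groth.Agent.S1570
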