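import Groth.Statements.S1577
import Groth.Agent.Divis.WeakAss

set_option autoImplicit false
universe u
open CategoryTheory CategoryTheory.Limits AlgebraicGeometry
open Divisors

namespace Groth.Agent.S1577

/-- Stacks Tag 05AH: let X be locally Noetherian and F quasi-coherent. A point of the support of F which is not a specialisation of a different point of the support is an associated point of F. -/
theorem result (X : Scheme.{u}) [IsLocallyNoetherian X]
    (F : X.Modules) (hF : Coh.IsQCoh F) (x : X) (hx : x ∈ CohB1.support F)
    (hmax : ∀ y ∈ CohB1.support F, y ⤳ x → y = x) : Curv2.IsAssPoint F x := by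
  rw [Groth.Agent.Divis.WeakAss.isAssPoint_iff_isWeakAssPoint]
  exact Groth.Agent.Divis.WeakAss.isWeakAssPoint_of_maximal_support hF x hx hmax

end Groth.Agent.S1577
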