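import Groth.Statements.S1578
import Groth.Agent.Divis.WeakAssSpec

set_option autoImplicit false
universe u
open CategoryTheory CategoryTheory.Limits AlgebraicGeometry
open Divisors

namespace Groth.Agent.S1578

/-- Stacks Tag 02OK (affine form): let M be a module over a ring A, F the associated quasi-coherent module on Spec A, and p a prime of A. If p is an associated prime of M then p is an associated point of F; the converse holds when p is finitely generated. -/
theorem result (A : CommRingCat.{u}) (M : ModuleCat.{u} A)
    (p : Spec A) :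
    (p.asIdeal ∈ associatedPrimes A M → Curv2.IsAssPoint (tilde M) p) ∧
    (p.asIdeal.FG → Curv2.IsAssPoint (tilde M) p → p.asIdeal ∈ associatedPrimes A M) := by
  rw [Groth.Agent.Divis.WeakAss.isAssPoint_iff_isWeakAssPoint,
    Groth.Agent.Divis.WeakAssSpec.isWeakAssPoint_tilde_iff]
  constructor
  · rintro ⟨hp, m, hm⟩
    refine ⟨m, ?_⟩
    rw [Groth.Agent.Divis.WeakAss.ann_eq_colon, ← Ideal.radical_minimalPrimes, ← hm,
      Ideal.minimalPrimes_eq_subsingleton_self]
    rfl
  · rintro hfg ⟨m, hm⟩
    exact Groth.Agent.Divis.WeakAssSpec.mem_associatedPrimes_of_fg hfg hm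

end Groth.Agent.S1578
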