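import Groth.Statements.S1581
import Mathlib.AlgebraicGeometry.Morphisms.LocalFlatDescent
-- import your own Groth.Agent.* helpers here

set_option autoImplicit false
universe u
open CategoryTheory CategoryTheory.Limits AlgebraicGeometry
open Variety

namespace Groth.Agent.S1581

set_option backward.isDefEq.respectTransparency.types false in
/-- Separatedness satisfies fpqc descent. -/
theorem isSeparated_of_pullback_snd {X Y Z : Scheme.{u}} (g : X ⟶ Z) (q : Y ⟶ Z)
    (hQ : (@Surjective ⊓ @Flat ⊓ @QuasiCompact : MorphismProperty Scheme.{u}) q)
    [IsSeparated (pullback.snd g q)] : IsSeparated g := by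
  have hd : MorphismProperty.diagonal @UniversallyClosed g :=
    MorphismProperty.of_pullback_snd_of_descendsAlong
      (P := MorphismProperty.diagonal @UniversallyClosed)
      (Q := @Surjective ⊓ @Flat ⊓ @QuasiCompact) (g := q) hQ
      (by
        have : IsClosedImmersion (pullback.diagonal (pullback.snd g q)) := inferInstance
        change UniversallyClosed (pullback.diagonal (pullback.snd g q))
        infer_instance)
  have hd' : UniversallyClosed (pullback.diagonal g) := hd
  exact ⟨IsClosedImmersion.of_isPreimmersion _ (pullback.diagonal g).isClosedMap.isClosed_range⟩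

/-- Stacks Tag 0BDF: let X be a scheme over a field k and K a field extension of k. If X_K is proper over K then X is proper over k. -/
theorem result (k : Type u) [Field k] (X : Scheme.{u}) [X.Over (Spec (CommRingCat.of k))] (K : Type u) [Field K] [Algebra k K]
    [IsProper (Curv2.bcSnd k X K)] : IsProper (X ↘ (Spec (CommRingCat.of k))) := by
  set g : X ⟶ Spec (CommRingCat.of k) := X ↘ (Spec (CommRingCat.of k)) with hg
  set q : Spec (CommRingCat.of K) ⟶ Spec (CommRingCat.of k) :=
    Spec.map (CommRingCat.ofHom (algebraMap k K)) with hq
  have hflat : Flat q := by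
    rw [hq, HasRingHomProperty.Spec_iff (P := @Flat)]
    change (algebraMap k K).Flat
    rw [RingHom.flat_algebraMap_iff]
    infer_instance
  have hsurj : Surjective q := by
    constructor
    intro x
    refine ⟨default, Subsingleton.elim _ _⟩
  have hQ : (@Surjective ⊓ @Flat ⊓ @QuasiCompact : MorphismProperty Scheme.{u}) q :=
    ⟨⟨hsurj, hflat⟩, inferInstance⟩
  have hP : IsProper (pullback.snd g q) := ‹_›
  have h1 : LocallyOfFiniteType g :=
    MorphismProperty.of_pullback_snd_of_descendsAlong (P := @LocallyOfFiniteType)
      (Q := @Surjective ⊓ @Flat ⊓ @QuasiCompact) (g := q) hQ inferInstance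
  have h2 : UniversallyClosed g :=
    MorphismProperty.of_pullback_snd_of_descendsAlong (P := @UniversallyClosed)
      (Q := @Surjective ⊓ @Flat ⊓ @QuasiCompact) (g := q) hQ inferInstance
  have h3 : IsSeparated g := isSeparated_of_pullback_snd g q hQ
  exact ⟨⟩

end Groth.Agent.S1581
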