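import Groth.Statements.S1587
import Groth.Agent.CurvesB.NodeCompletion

set_option autoImplicit false
universe u
open CategoryTheory CategoryTheory.Limits AlgebraicGeometry
attribute [local instance] Curv2.resAlgebra Curv2.stalkAlgebra
open Curves

namespace Groth.Agent.S1587

/-- Stacks Tag 0C4D, (1) iff (2) (with Tag 0C49 (3)): let X be of finite type over k of dimension one and x a closed point with residue field κ. Then x is a node if and only if κ is separable over k and the completed local ring at x is isomorphic, compatibly with the maps from k, to κ[[u, v]]/(a u^2 + b uv + c v^2) for a nondegenerate quadratic form (4ac - b^2 ≠ 0). -/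
theorem result (k : Type u) [Field k] (X : Scheme.{u}) [X.Over (Spec (CommRingCat.of k))]
    [LocallyOfFiniteType (X ↘ (Spec (CommRingCat.of k)))] [QuasiCompact (X ↘ (Spec (CommRingCat.of k)))] (hdim : topologicalKrullDim X = 1)
    (x : X) (hx : IsClosed ({x} : Set X)) :
    Curv2.IsNode k X x ↔
      (Algebra.IsSeparable k (X.residueField x) ∧
        ∃ a b c : X.residueField x, 4 * a * c - b ^ 2 ≠ 0 ∧
          ∃ e : AdicCompletion (IsLocalRing.maximalIdeal (X.presheaf.stalk x)) (X.presheaf.stalk x) ≃+*
              (MvPowerSeries (Fin 2) (X.residueField x) ⧸ Ideal.span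
                {(MvPowerSeries.C a * MvPowerSeries.X 0 ^ 2 + MvPowerSeries.C b * MvPowerSeries.X 0 * MvPowerSeries.X 1 +
                  MvPowerSeries.C c * MvPowerSeries.X 1 ^ 2 : MvPowerSeries (Fin 2) (X.residueField x))}),
            ∀ t : k, e (algebraMap (X.presheaf.stalk x) _ (algebraMap k (X.presheaf.stalk x) t)) =
              Ideal.Quotient.mk _ (MvPowerSeries.C (algebraMap k (X.residueField x) t))) := by
  have hN : IsLocallyNoetherian X :=
    LocallyOfFiniteType.isLocallyNoetherian (X ↘ (Spec (CommRingCat.of k)))
  rw [Groth.Agent.CurvesB.Node.isNode_iff]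
  constructor
  · rintro ⟨⟨h1, h2⟩, h3⟩
    refine ⟨h2, ?_⟩
    have h4 : Algebra.IsSeparable k (X.residueField x) := h2
    have h4' : Algebra.FormallyEtale k (X.residueField x) := Algebra.FormallyEtale.of_isSeparable k (X.residueField x)
    have h5 : Algebra.FormallySmooth k (X.residueField x) := inferInstance
    exact h3.exists_completion_quad_equiv (X.residue x).hom (X.residue_surjective x) (fun _ => rfl)
  · rintro ⟨h1, a, b, c, hd, e, -⟩
    exact ⟨⟨(Groth.Agent.CurvesB.Node.isClosed_iff_finite (X ↘ (Spec (CommRingCat.of k))) x).1 hx, h1⟩,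
      Groth.Agent.CurvesB.Node.nodeLike_of_quad_equiv hd e⟩

end Groth.Agent.S1587
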