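import Groth.Statements.S1591
import Groth.Agent.CurvesB.NodalExist460
import Groth.Agent.CurvesB.NodalPoint
import Groth.Agent.S1593

set_option autoImplicit false
universe u
open CategoryTheory CategoryTheory.Limits AlgebraicGeometry
open Curves

namespace Groth.Agent.S1591

open Groth.Agent.CurvesB.NodalPoint

/-- The union of all opens on which `f` is nodal. -/
noncomputable def nodalLocus {X S : Scheme.{u}} (f : X ⟶ S) : X.Opens :=
  ⨆ V : {V : X.Opens // Curv2.IsNodalFamily (V.ι ≫ f)}, V.1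

theorem isNodalFamily_nodalLocus {X S : Scheme.{u}} (f : X ⟶ S) :
    Curv2.IsNodalFamily ((nodalLocus f).ι ≫ f) := by
  let I := {V : X.Opens // Curv2.IsNodalFamily (V.ι ≫ f)}
  have hle : ∀ V : I, V.1 ≤ nodalLocus f := fun V => le_iSup (fun V : I => V.1) V
  refine Groth.Agent.S1593.result ((nodalLocus f).ι ≫ f) I (fun V => V.1.toScheme)
    (fun V => X.homOfLE (hle V)) ?_ ?_
  · rintro ⟨x, hx⟩
    obtain ⟨V, hV⟩ := TopologicalSpace.Opens.mem_iSup.1 hx
    refine ⟨V, ⟨x, hV⟩, ?_⟩
    apply (nodalLocus f).ι.isOpenEmbedding.injective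
    change (X.homOfLE (hle V) ≫ (nodalLocus f).ι) ⟨x, hV⟩ = _
    rw [Scheme.homOfLE_ι]
    rfl
  · intro V
    rw [← Category.assoc, Scheme.homOfLE_ι]
    exact V.2

theorem le_nodalLocus {X S : Scheme.{u}} (f : X ⟶ S) (V : X.Opens)
    (h : Curv2.IsNodalFamily (V.ι ≫ f)) : V ≤ nodalLocus f :=
  le_iSup (fun V : {V : X.Opens // Curv2.IsNodalFamily (V.ι ≫ f)} => V.1) ⟨V, h⟩

theorem mem_nodalLocus_iff {X S : Scheme.{u}} (f : X ⟶ S) [Flat f] [LocallyOfFinitePresentation f]
    (x : X) : x ∈ nodalLocus f ↔ Pt f x := by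
  constructor
  · intro hx
    exact pt_of_pt_comp (nodalLocus f).ι f ⟨x, hx⟩
      (pt_of_isNodalFamily _ (isNodalFamily_nodalLocus f) _)
  · rintro (⟨V, hV, h⟩ | h)
    · exact le_nodalLocus f V (Groth.Agent.CurvesB.NodalExist.isNodalFamily_of_smooth (V.ι ≫ f)) hV
    · obtain ⟨V, hV, h'⟩ := Groth.Agent.CurvesB.NodalExist.exists_nhd_of_isNode f x h
      exact le_nodalLocus f V h' hV

theorem nodalLocus_of_isPullback {X S P S' : Scheme.{u}} {p : P ⟶ X} {q : P ⟶ S'} {f : X ⟶ S}
    {g : S' ⟶ S} (H : IsPullback p q f g) [Flat f] [LocallyOfFinitePresentation f] :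
    nodalLocus q = p ⁻¹ᵁ nodalLocus f := by
  have h1 : LocallyOfFinitePresentation q := MorphismProperty.of_isPullback H inferInstance
  have h2 : Flat q := MorphismProperty.of_isPullback H inferInstance
  ext y
  change y ∈ nodalLocus q ↔ p y ∈ nodalLocus f
  rw [mem_nodalLocus_iff, mem_nodalLocus_iff, pt_iff_of_isPullback H]

/-- Stacks Tag 0DSC: let f : X → S be flat and locally of finite presentation. There is a largest open subscheme U of X on which f is at-worst-nodal of relative dimension one, and its formation commutes with base change: for every g : S' → S the preimage of U in X ×_S S' is the largest open on which the base change of f is at-worst-nodal of relative dimension one. -/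
theorem result {X S : Scheme.{u}} (f : X ⟶ S) [Flat f] [LocallyOfFinitePresentation f] :
    ∃ U : X.Opens, (Curv2.IsNodalFamily (U.ι ≫ f) ∧ ∀ V : X.Opens, Curv2.IsNodalFamily (V.ι ≫ f) → V ≤ U) ∧
      ∀ (S' : Scheme.{u}) (g : S' ⟶ S),
        Curv2.IsNodalFamily ((pullback.fst f g ⁻¹ᵁ U).ι ≫ pullback.snd f g) ∧
        ∀ V : (pullback f g).Opens, Curv2.IsNodalFamily (V.ι ≫ pullback.snd f g) → V ≤ pullback.fst f g ⁻¹ᵁ U := by
  refine ⟨nodalLocus f, ⟨isNodalFamily_nodalLocus f, le_nodalLocus f⟩, fun S' g => ?_⟩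
  rw [← nodalLocus_of_isPullback (IsPullback.of_hasPullback f g)]
  exact ⟨isNodalFamily_nodalLocus _, le_nodalLocus _⟩

end Groth.Agent.S1591
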