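import Groth.Statements.S1594
import Groth.Agent.CurvesB.NodalDescent

set_option autoImplicit false
universe u
open CategoryTheory CategoryTheory.Limits AlgebraicGeometry
open Curves

namespace Groth.Agent.S1594

/-- Flatness codescends along faithfully flat ring maps. -/
theorem flat_codescends : RingHom.CodescendsAlong.{u} RingHom.Flat RingHom.FaithfullyFlat := by
  refine RingHom.CodescendsAlong.mk _ RingHom.Flat.respectsIso fun R S T _ _ _ _ _ h h' ↦ ?_
  rw [RingHom.flat_algebraMap_iff] at h' ⊢
  rw [RingHom.faithfullyFlat_algebraMap_iff] at h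
  exact Module.Flat.of_flat_tensorProduct R T S

theorem flat_descends : MorphismProperty.DescendsAlong @Flat
    (@Surjective ⊓ @Flat ⊓ @QuasiCompact : MorphismProperty Scheme.{u}) :=
  HasRingHomProperty.descendsAlong_flat flat_codescends

/-- Stacks Tag 0C5E, (2) implies (1), for a covering by one flat quasi-compact surjective morphism: let f : X → S and g : S' → S flat, quasi-compact and surjective. If the base change X ×_S S' → S' is at-worst-nodal of relative dimension one then so is f. -/
theorem result {X S S' : Scheme.{u}} (f : X ⟶ S) (g : S' ⟶ S) [Flat g] [QuasiCompact g] [Surjective g]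
    (h : Curv2.IsNodalFamily (pullback.snd f g)) : Curv2.IsNodalFamily f := by
  obtain ⟨h1, h2, h3⟩ := h
  have := flat_descends.{u}
  have hg : (@Surjective ⊓ @Flat ⊓ @QuasiCompact : MorphismProperty Scheme.{u}) g :=
    ⟨⟨inferInstance, inferInstance⟩, inferInstance⟩
  have hlfp : LocallyOfFinitePresentation f :=
    MorphismProperty.of_pullback_snd_of_descendsAlong (P := @LocallyOfFinitePresentation) hg h2
  refine ⟨MorphismProperty.of_pullback_snd_of_descendsAlong (P := @Flat) hg h1, hlfp, fun s => ?_⟩
  obtain ⟨s', rfl⟩ := g.surjective s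
  obtain ⟨h4, h5⟩ := h3 s'
  have hpb := isPullback_fiberToSpecResidueField_of_isPullback (IsPullback.of_hasPullback f g) s'
  have hlfp' : LocallyOfFinitePresentation (f.fiberToSpecResidueField (g s')) :=
    MorphismProperty.pullback_snd _ _ inferInstance
  have hlft' : LocallyOfFiniteType (f.fiberToSpecResidueField (g s')) := inferInstance
  have hdim := @CurvesB.FibreBC.dimOne_of_isPullback _ _ (S.residueField (g s'))
    (S'.residueField s') _ _ _ _ _ _ hpb hlft' h4
  refine ⟨hdim, ?_⟩
  let _ : Algebra (S.residueField (g s')) (S'.residueField s') :=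
    (g.residueFieldMap s').hom.toAlgebra
  let i1 : (f.fiber (g s')).Over (Spec (CommRingCat.of (S.residueField (g s')))) :=
    ⟨f.fiberToSpecResidueField (g s')⟩
  let i2 : ((pullback.snd f g).fiber s').Over (Spec (CommRingCat.of (S'.residueField s'))) :=
    ⟨(pullback.snd f g).fiberToSpecResidueField s'⟩
  exact @CurvesB.NodalDescent.atWorstNodal_of_isPullback (S.residueField (g s'))
    (S'.residueField s') _ _ _ _ _ i1 i2 _ hpb hlfp' hdim h5

end Groth.Agent.S1594
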