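import Groth.Statements.S1598
import Groth.Agent.S0543
import Groth.Agent.CurvesB.FlatRegular
import Groth.Agent.CurvesB.StalkBC
import Mathlib.AlgebraicGeometry.Noetherian
import Mathlib.AlgebraicGeometry.Morphisms.FiniteType
import Mathlib.RingTheory.AdicCompletion.AsTensorProduct
import Mathlib.RingTheory.AdicCompletion.LocalRing

set_option autoImplicit false
universe u
open CategoryTheory CategoryTheory.Limits AlgebraicGeometry
open Resolve

namespace Groth.Agent.S1598

/-- Stacks Tag 0BG6 (2): let A be a Noetherian local ring with completion A^, X locally of finite type over Spec A, Y its base change to Spec A^, and y a point of Y lying over the closed point of Spec A^ with image x in X. Then the local ring of Y at y is regular if and only if the local ring of X at x is regular. -/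
theorem result (A : Type u) [CommRing A] [IsLocalRing A] [IsNoetherianRing A]
    (X : Scheme.{u}) (f : X ⟶ Spec (CommRingCat.of A)) [LocallyOfFiniteType f]
    (y : Curv2.bcCpl A f) (hy : (Curv2.bcCplSnd A f).base y = IsLocalRing.closedPoint (Curv2.cpl A)) :
    IsRegularLocalRing ((Curv2.bcCpl A f).presheaf.stalk y) ↔
      IsRegularLocalRing (X.presheaf.stalk ((Curv2.bcCplFst A f).base y)) := by
  have hN : IsNoetherianRing (Curv2.cpl A) := Groth.Agent.S0543.result A (IsLocalRing.maximalIdeal A)
  have hflat : Module.Flat A (Curv2.cpl A) := AdicCompletion.flat_of_isNoetherian _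
  have hF : Flat (Spec.map (CommRingCat.ofHom (algebraMap A (Curv2.cpl A)))) := by
    rw [Flat.SpecMap_iff]
    exact (RingHom.flat_algebraMap_iff).mpr hflat
  have hFl : Flat (Curv2.bcCplFst A f) := inferInstance
  have hXN : IsLocallyNoetherian X := LocallyOfFiniteType.isLocallyNoetherian f
  have hYN : IsLocallyNoetherian (Curv2.bcCpl A f) :=
    LocallyOfFiniteType.isLocallyNoetherian (Curv2.bcCplSnd A f)
  have hy' : ((Curv2.bcCplSnd A f) y).asIdeal = IsLocalRing.maximalIdeal (Curv2.cpl A) :=
    congrArg PrimeSpectrum.asIdeal hy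
  have key := CurvesB.StalkBC.map_maximalIdeal_stalkMap
    (CommRingCat.ofHom (algebraMap A (Curv2.cpl A)))
    (IsPullback.of_hasPullback f (Spec.map (CommRingCat.ofHom (algebraMap A (Curv2.cpl A))))) y
    (by
      rw [hy', CommRingCat.hom_ofHom, IsLocalRing.maximalIdeal_comap]
      exact AdicCompletion.maximalIdeal_eq_map) (by
      rw [hy']
      intro a'
      obtain ⟨r, hr⟩ := (AdicCompletion.residueField_map_bijective A).2 (IsLocalRing.residue _ a')
      obtain ⟨a, rfl⟩ := IsLocalRing.residue_surjective r
      refine ⟨a, ?_⟩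
      rw [IsLocalRing.ResidueField.map_residue] at hr
      rw [← IsLocalRing.residue_eq_zero_iff, map_sub, ← hr]
      exact sub_self _)
  have hfl := Flat.stalkMap (Curv2.bcCplFst A f) y
  algebraize [((Curv2.bcCplFst A f).stalkMap y).hom]
  exact (CurvesB.FlatRegular.isRegularLocalRing_iff (X.presheaf.stalk ((Curv2.bcCplFst A f) y))
    ((Curv2.bcCpl A f).presheaf.stalk y) key).symm

end Groth.Agent.S1598
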