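import Groth.Statements.S1597
import Groth.Agent.S0564
import Groth.Agent.S1598
import Groth.Agent.CycB.LocQuot
import Mathlib.AlgebraicGeometry.PullbackCarrier

set_option autoImplicit false
universe u
open CategoryTheory CategoryTheory.Limits AlgebraicGeometry
open Resolve

namespace Groth.Agent.S1597

/-- Regularity of stalks passes to generizations. -/
theorem isRegularLocalRing_of_specializes {X : Scheme.{u}} {x x' : X} (h : x ⤳ x')
    (hx' : IsRegularLocalRing (X.presheaf.stalk x')) :
    IsRegularLocalRing (X.presheaf.stalk x) := by
  let := (X.presheaf.stalkSpecializes h).hom.toAlgebra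
  have h1 := CycB.LocQuot.isLocalization_stalkSpecializes h
  have h2 := Groth.Agent.S0564.result (X.presheaf.stalk x') (RingHom.ker (Cyc.specMap x' x h))
  exact IsRegularLocalRing.of_ringEquiv (IsLocalization.algEquiv
    (RingHom.ker (Cyc.specMap x' x h)).primeCompl
    (Localization.AtPrime (RingHom.ker (Cyc.specMap x' x h))) (X.presheaf.stalk x)).toRingEquiv

/-- Closed maps to the spectrum of a local ring: every point specializes into the closed fibre. -/
theorem exists_specializes_closedFibre {A : Type u} [CommRing A] [IsLocalRing A]
    {X : Scheme.{u}} (f : X ⟶ Spec (CommRingCat.of A)) [UniversallyClosed f] (x : X) :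
    ∃ x' : X, x ⤳ x' ∧ f x' = IsLocalRing.closedPoint A := by
  have h1 : IsClosed (f '' closure {x}) := f.isClosedMap _ isClosed_closure
  have h2 : IsLocalRing.closedPoint A ∈ f '' closure {x} := by
    have h3 : f x ⤳ IsLocalRing.closedPoint A := IsLocalRing.specializes_closedPoint _
    exact h3.mem_closed h1 ⟨x, subset_closure rfl, rfl⟩
  obtain ⟨x', hx', hfx'⟩ := h2
  exact ⟨x', specializes_iff_mem_closure.mpr hx', hfx'⟩

/-- Stacks Tag 0BG6 (3): let A be a Noetherian local ring with completion A^, X a scheme proper over Spec A and Y its base change to Spec A^. Then all local rings of X are regular if and only if all local rings of Y are regular. -/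
theorem result (A : Type u) [CommRing A] [IsLocalRing A] [IsNoetherianRing A]
    (X : Scheme.{u}) (f : X ⟶ Spec (CommRingCat.of A)) [IsProper f] :
    (∀ x : X, IsRegularLocalRing (X.presheaf.stalk x)) ↔
      ∀ y : Curv2.bcCpl A f, IsRegularLocalRing ((Curv2.bcCpl A f).presheaf.stalk y) := by
  constructor
  · intro h y
    obtain ⟨y', hy', hs⟩ := exists_specializes_closedFibre (Curv2.bcCplSnd A f) y
    exact isRegularLocalRing_of_specializes hy' ((Groth.Agent.S1598.result A X f y' hs).mpr (h _))
  · intro h x
    obtain ⟨x', hx', hs⟩ := exists_specializes_closedFibre f x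
    obtain ⟨y, hy1, hy2⟩ := Scheme.Pullback.exists_preimage_pullback
      (f := f) (g := Spec.map (CommRingCat.ofHom (algebraMap A (Curv2.cpl A)))) x'
      (IsLocalRing.closedPoint (Curv2.cpl A)) (by
        rw [hs]
        exact (IsLocalRing.comap_closedPoint (algebraMap A (Curv2.cpl A))).symm)
    have h1 := (Groth.Agent.S1598.result A X f y hy2).mp (h y)
    have h2 : (Curv2.bcCplFst A f) y = x' := hy1
    have h3 : IsRegularLocalRing (X.presheaf.stalk ((Curv2.bcCplFst A f) y)) := h1
    rw [h2] at h3
    exact isRegularLocalRing_of_specializes hx' h3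

end Groth.Agent.S1597
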