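import Groth.Statements.S1599
import Groth.Agent.CurvesB.NormalSub
import Groth.Agent.CurvesB.CplTensor
import Groth.Agent.S0543

set_option autoImplicit false
universe u
open CategoryTheory CategoryTheory.Limits AlgebraicGeometry
open Resolve

namespace Groth.Agent.S1599

/-- Stacks Tag 0BGH: let A be a Noetherian local ring with maximal ideal m and B ⊆ C finite A-algebras. If B is a normal ring and the m-adic completion of C is a normal ring, then the m-adic completion of B is a normal ring. -/
theorem result (A : Type u) [CommRing A] [IsLocalRing A] [IsNoetherianRing A]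
    (B C : Type u) [CommRing B] [CommRing C] [Algebra A B] [Algebra A C] [Algebra B C] [IsScalarTower A B C]
    [Module.Finite A B] [Module.Finite A C] (hinj : Function.Injective (algebraMap B C))
    (hB : EGA4.IsNormalRing B)
    (hC : EGA4.IsNormalRing (AdicCompletion ((IsLocalRing.maximalIdeal A).map (algebraMap A C)) C)) :
    EGA4.IsNormalRing (AdicCompletion ((IsLocalRing.maximalIdeal A).map (algebraMap A B)) B) := by
  have : IsNoetherianRing B := IsNoetherianRing.of_finite A B
  have : Module.Finite B C := Module.Finite.of_restrictScalars_finite A B C
  set I : Ideal B := (IsLocalRing.maximalIdeal A).map (algebraMap A B) with hI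
  have hIC : (IsLocalRing.maximalIdeal A).map (algebraMap A C) = I.map (algebraMap B C) := by
    rw [hI, Ideal.map_map, IsScalarTower.algebraMap_eq A B C]
  have : IsNoetherianRing (AdicCompletion I B) := Groth.Agent.S0543.result B I
  rw [hIC] at hC
  have hD : EGA4.IsNormalRing (TensorProduct B (AdicCompletion I B) C) :=
    Groth.Agent.CurvesB.NormalSub.isNormalRing_of_ringEquiv
      (Groth.Agent.CurvesB.CplTensor.comparisonEquiv B C I).symm.toRingEquiv hC
  exact Groth.Agent.CurvesB.NormalSub.isNormalRing_of_tensor B C (AdicCompletion I B) hinj hB hD

end Groth.Agent.S1599
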