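import Groth.Statements.S1601
-- import your own Groth.Agent.* helpers here
import Mathlib.Algebra.Polynomial.HasseDeriv
import Mathlib.Algebra.Polynomial.Taylor
import Mathlib.RingTheory.Derivation.Basic
import Mathlib.Algebra.Field.Subfield.Basic
import Mathlib.Algebra.CharP.Two
import Mathlib.Algebra.MvPolynomial.PDeriv
import Mathlib.Tactic

set_option autoImplicit false
universe u
open Resolve

namespace Groth.Agent.S1601

section Helpers

open Polynomial


/-- Existence of a derivation nonvanishing at a nonsquare in characteristic two. -/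
theorem exists_derivation_char_two {κ : Type*} [Field κ] (h2 : (2 : κ) = 0) (s : κ) (hs : ¬ ∃ t, s = t ^ 2) :
    ∃ θ : κ → κ, (∀ a b, θ (a + b) = θ a + θ b) ∧ (∀ a b, θ (a * b) = a * θ b + b * θ a) ∧ θ s = 1 := by
  classical
  -- Zorn
  let P : Set (Subfield κ) := {M | (∀ t : κ, t ^ 2 ∈ M) ∧ s ∉ M}
  have hneg : ∀ a : κ, -a = a := by
    intro a
    have : a + a = 0 := by rw [← two_mul, h2, zero_mul]
    exact (eq_neg_of_add_eq_zero_left this).symm
  have hadd : ∀ a : κ, a + a = 0 := by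
    intro a
    rw [← two_mul, h2, zero_mul]
  have sqadd : ∀ a b : κ, (a + b) ^ 2 = a ^ 2 + b ^ 2 := by
    intro a b
    have : (a + b) ^ 2 = a ^ 2 + b ^ 2 + 2 * (a * b) := by ring
    rw [this, h2, zero_mul, add_zero]
  -- squares subfield
  let M0 : Subfield κ :=
    { carrier := {x | ∃ t, x = t ^ 2}
      mul_mem' := by
        rintro a b ⟨t, rfl⟩ ⟨u, rfl⟩
        exact ⟨t * u, by ring⟩
      one_mem' := ⟨1, by ring⟩
      add_mem' := by
        rintro a b ⟨t, rfl⟩ ⟨u, rfl⟩
        exact ⟨t + u, by rw [sqadd]⟩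
      zero_mem' := ⟨0, by ring⟩
      neg_mem' := by
        rintro a ⟨t, rfl⟩
        exact ⟨t, by rw [hneg]⟩
      inv_mem' := by
        rintro a ⟨t, rfl⟩
        exact ⟨t⁻¹, by rw [inv_pow]⟩ }
  have hM0 : M0 ∈ P := ⟨fun t => ⟨t, rfl⟩, fun h => hs h⟩
  obtain ⟨M, hM0M, hM⟩ : ∃ M, M0 ≤ M ∧ Maximal (· ∈ P) M := by
    apply zorn_le_nonempty₀ P _ M0 hM0
    intro c hcP hc y hy
    have hne : c.Nonempty := ⟨y, hy⟩
    refine ⟨sSup c, ⟨fun t => ?_, fun h => ?_⟩, fun z hz => le_sSup hz⟩
    · exact (le_sSup hy : y ≤ sSup c) ((hcP hy).1 t)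
    · rw [Subfield.mem_sSup_of_directedOn hne hc.directedOn] at h
      obtain ⟨z, hz, hz'⟩ := h
      exact (hcP hz).2 hz'
  have hMsq : ∀ t : κ, t ^ 2 ∈ M := hM.1.1
  have hsM : s ∉ M := hM.1.2
  have key : ∀ t : κ, ∃ m n, m ∈ M ∧ n ∈ M ∧ t = m + n * s := by
    intro t
    by_cases ht : t ∈ M
    · exact ⟨t, 0, ht, M.zero_mem, by simp⟩
    let N : Subfield κ :=
      { carrier := {x | ∃ m n, m ∈ M ∧ n ∈ M ∧ x = m + n * t}
        mul_mem' := by
          rintro a b ⟨m, n, hm, hn, rfl⟩ ⟨m', n', hm', hn', rfl⟩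
          refine ⟨m * m' + n * n' * t ^ 2, m * n' + n * m', ?_, ?_, by ring⟩
          · exact M.add_mem (M.mul_mem hm hm') (M.mul_mem (M.mul_mem hn hn') (hMsq t))
          · exact M.add_mem (M.mul_mem hm hn') (M.mul_mem hn hm')
        one_mem' := ⟨1, 0, M.one_mem, M.zero_mem, by ring⟩
        add_mem' := by
          rintro a b ⟨m, n, hm, hn, rfl⟩ ⟨m', n', hm', hn', rfl⟩
          exact ⟨m + m', n + n', M.add_mem hm hm', M.add_mem hn hn', by ring⟩
        zero_mem' := ⟨0, 0, M.zero_mem, M.zero_mem, by ring⟩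
        neg_mem' := by
          rintro a ⟨m, n, hm, hn, rfl⟩
          exact ⟨-m, -n, M.neg_mem hm, M.neg_mem hn, by ring⟩
        inv_mem' := by
          rintro a ⟨m, n, hm, hn, rfl⟩
          by_cases h0 : m + n * t = 0
          · exact ⟨0, 0, M.zero_mem, M.zero_mem, by simp [h0]⟩
          · have hD : (m + n * t) ^ 2 ∈ M := hMsq _
            refine ⟨m * ((m + n * t) ^ 2)⁻¹, n * ((m + n * t) ^ 2)⁻¹, M.mul_mem hm (M.inv_mem hD), M.mul_mem hn (M.inv_mem hD), ?_⟩
            field_simp }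
    have hMN : M ≤ N := fun m hm => ⟨m, 0, hm, M.zero_mem, by ring⟩
    have htN : t ∈ N := ⟨0, 1, M.zero_mem, M.one_mem, by ring⟩
    have hsN : s ∈ N := by
      by_contra hsN
      have hNP : N ∈ P := ⟨fun u => hMN (hMsq u), hsN⟩
      exact ht (hM.2 hNP hMN htN)
    obtain ⟨m, n, hm, hn, hmn⟩ := hsN
    have hn0 : n ≠ 0 := by
      rintro rfl
      apply hsM
      rw [hmn]
      simpa using hm
    refine ⟨-m * n⁻¹, n⁻¹, M.mul_mem (M.neg_mem hm) (M.inv_mem hn), M.inv_mem hn, ?_⟩
    rw [hmn]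
    field_simp
    ring
  have uniq : ∀ m n m' n' : κ, m ∈ M → n ∈ M → m' ∈ M → n' ∈ M → m + n * s = m' + n' * s → n = n' := by
    intro m n m' n' hm hn hm' hn' h
    by_contra hne
    apply hsM
    have hne' : n - n' ≠ 0 := sub_ne_zero.mpr hne
    have : s = (m' - m) * (n - n')⁻¹ := by
      field_simp
      linear_combination h
    rw [this]
    exact M.mul_mem (M.sub_mem hm' hm) (M.inv_mem (M.sub_mem hn hn'))
  choose m n hm hn hmn using key
  refine ⟨n, fun a b => ?_, fun a b => ?_, ?_⟩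
  · apply uniq (m (a + b)) _ (m a + m b) _ (hm _) (hn _) (M.add_mem (hm _) (hm _)) (M.add_mem (hn _) (hn _))
    rw [← hmn]
    linear_combination hmn a + hmn b
  · -- a * b = (ma mb + na nb s^2) + (ma nb + na mb) s
    have e1 : n (a * b) = m a * n b + n a * m b := by
      apply uniq (m (a * b)) _ (m a * m b + n a * n b * s ^ 2) _ (hm _) (hn _)
        (M.add_mem (M.mul_mem (hm _) (hm _)) (M.mul_mem (M.mul_mem (hn _) (hn _)) (hMsq s)))
        (M.add_mem (M.mul_mem (hm _) (hn _)) (M.mul_mem (hn _) (hm _)))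
      rw [← hmn]
      linear_combination (hmn a) * b + (m a + n a * s) * hmn b
    rw [e1]
    linear_combination (-(n b)) * (hmn a) - (n a) * hmn b - n a * n b * s * h2
  · apply uniq (m s) _ 0 _ (hm _) (hn _) M.zero_mem M.one_mem
    rw [← hmn]
    ring



/-- Coefficientwise extension of a derivation to a polynomial ring. -/
theorem exists_ext_derivation {A : Type*} [CommRing A] (θ : A → A) (hadd : ∀ a b, θ (a + b) = θ a + θ b)
    (hmul : ∀ a b, θ (a * b) = a * θ b + b * θ a) :
    ∃ Θ : A[X] → A[X], (∀ a b, Θ (a + b) = Θ a + Θ b) ∧ (∀ a b, Θ (a * b) = a * Θ b + b * Θ a) ∧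
      (∀ a, Θ (C a) = C (θ a)) ∧ Θ X = 0 := by
  let θ' : A →+ A := AddMonoidHom.mk' θ hadd
  have h0 : θ 0 = 0 := θ'.map_zero
  have h1 : θ 1 = 0 := by
    have := hmul 1 1
    simp at this
    exact this
  let Θ : A[X] →ₗ[ℕ] A[X] := Polynomial.lsum (fun n => ((monomial n : A →ₗ[A] A[X]).restrictScalars ℕ).comp θ'.toNatLinearMap)
  have hΘ : ∀ n a, Θ (monomial n a) = monomial n (θ a) := by
    intro n a
    simp only [Θ, Polynomial.lsum_apply]
    rw [Polynomial.sum_monomial_index]
    · rfl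
    · simp
  refine ⟨Θ, fun a b => map_add Θ a b, ?_, fun a => ?_, ?_⟩
  · intro a b
    induction a using Polynomial.induction_on' with
    | add p q hp hq => rw [add_mul, map_add, hp, hq, map_add]; ring
    | monomial n a =>
      induction b using Polynomial.induction_on' with
      | add p q hp hq => rw [mul_add, map_add, hp, hq, map_add]; ring
      | monomial m b =>
        rw [monomial_mul_monomial, hΘ, hΘ, hΘ, monomial_mul_monomial, monomial_mul_monomial, hmul, map_add, add_comm m n]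
  · exact hΘ 0 a
  · rw [← monomial_one_one_eq_X, hΘ, h1, map_zero]

variable {κ : Type*} [Field κ]

/-- Step A: `I` contains `C (C h * X + C g) + X`, i.e. `y - r`. -/
theorem stepA (I : Ideal κ[X][X]) (hI : ¬ ∃ c1 c2 : κ, (C X - C (C c1) : κ[X][X]) ∈ I ∧ (X - C (C c2) : κ[X][X]) ∈ I)
    (g h : κ) (hl : (X - C (C h * X + C g) : κ[X][X]) ∈ I) (a b c d e f : κ)
    (hp : (C (C a + C b * X + C d * X ^ 2) + C (C c + C e * X) * X + C (C f) * X ^ 2 : κ[X][X]) ∈ I ^ 2) :
    (C (C a + C b * X + C d * X ^ 2) + C (C c + C e * X) * X + C (C f) * X ^ 2 : κ[X][X]) =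
      C (C f) * (X - C (C h * X + C g)) ^ 2 := by
  classical
  set r : κ[X] := C h * X + C g with hr
  let π : κ[X][X] →+* κ[X] := evalRingHom r
  have hπ : Function.Surjective π := fun q => ⟨C q, by simp [π]⟩
  let I0 : Ideal κ[X] := I.map π
  have hI0 : ∀ q ∈ I0, C q ∈ I := by
    intro q hq
    rw [Ideal.mem_map_iff_of_surjective π hπ] at hq
    obtain ⟨s, hs, hsq⟩ := hq
    have h1 : s - C q ∈ Ideal.span {(X - C r : κ[X][X])} := by
      rw [Ideal.mem_span_singleton, Polynomial.dvd_iff_isRoot]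
      simp only [IsRoot, eval_sub, eval_C]
      rw [← hsq]
      simp [π]
    have h2 : s - C q ∈ I := (Ideal.span_singleton_le_iff_mem _).mpr hl h1
    have : C q = s - (s - C q) := by ring
    rw [this]
    exact I.sub_mem hs h2
  -- generator
  obtain ⟨F, hF⟩ : ∃ F, I0 = Ideal.span {F} := ⟨Submodule.IsPrincipal.generator I0, (Ideal.span_singleton_generator I0).symm⟩
  have hFmem : F ∈ I0 := by rw [hF]; exact Ideal.mem_span_singleton_self F
  have hFdeg : F = 0 ∨ 2 ≤ F.natDegree := by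
    by_contra hcon
    push Not at hcon
    obtain ⟨hF0, hFd⟩ := hcon
    have hFd1 : F.natDegree ≤ 1 := by omega
    have hCF := hI0 F hFmem
    apply hI
    by_cases hα : F.coeff 1 = 0
    · have hF1 : F = C (F.coeff 0) := by
        conv_lhs => rw [Polynomial.eq_X_add_C_of_natDegree_le_one hFd1]
        rw [hα]; simp
      have hc : F.coeff 0 ≠ 0 := by
        intro h0
        rw [h0, map_zero] at hF1
        exact hF0 hF1
      have h1 : (1 : κ[X][X]) ∈ I := by
        have : (1 : κ[X][X]) = C (C (F.coeff 0)⁻¹) * C F := by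
          rw [hF1, ← C_mul, ← C_mul]
          simp [hc]
        rw [this]
        exact I.mul_mem_left _ hCF
      have htop : I = ⊤ := (Ideal.eq_top_iff_one I).mpr h1
      exact ⟨0, 0, by rw [htop]; trivial, by rw [htop]; trivial⟩
    · -- x + β/α ∈ I
      set α := F.coeff 1
      set β := F.coeff 0
      have hFe : F = C α * X + C β := Polynomial.eq_X_add_C_of_natDegree_le_one hFd1
      have hx : (C X - C (C (-(β / α))) : κ[X][X]) ∈ I := by
        have : (C X - C (C (-(β / α))) : κ[X][X]) = C (C α⁻¹) * C F := by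
          rw [hFe, ← C_mul, ← C_sub]
          congr 1
          rw [mul_add, ← mul_assoc, ← C_mul, ← C_mul, inv_mul_cancel₀ hα, C_1, one_mul, C_neg, sub_neg_eq_add,
            div_eq_inv_mul]
        rw [this]
        exact I.mul_mem_left _ hCF
      refine ⟨-(β / α), h * (-(β / α)) + g, hx, ?_⟩
      have : (X - C (C (h * (-(β / α)) + g)) : κ[X][X]) = (X - C r) + C (C h) * (C X - C (C (-(β / α)))) := by
        rw [hr]
        simp only [C_add, C_mul]
        ring
      rw [this]
      exact I.add_mem hl (I.mul_mem_left _ hx)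
  -- behaviour of I^2
  have hsq : ∀ q ∈ I ^ 2, q.eval r ∈ I0 ^ 2 ∧ q.derivative.eval r ∈ I0 := by
    intro q hq
    rw [pow_two] at hq
    refine Submodule.mul_induction_on hq ?_ ?_
    · intro m hm n hn
      have hm' : m.eval r ∈ I0 := Ideal.mem_map_of_mem π hm
      have hn' : n.eval r ∈ I0 := Ideal.mem_map_of_mem π hn
      refine ⟨?_, ?_⟩
      · rw [eval_mul, pow_two]
        exact Ideal.mul_mem_mul hm' hn'
      · rw [derivative_mul, eval_add, eval_mul, eval_mul]
        exact I0.add_mem (I0.mul_mem_left _ hn') (I0.mul_mem_right _ hm')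
    · rintro u v ⟨hu, hu'⟩ ⟨hv, hv'⟩
      refine ⟨?_, ?_⟩
      · rw [eval_add]; exact Ideal.add_mem _ hu hv
      · rw [derivative_add, eval_add]; exact Ideal.add_mem _ hu' hv'
  obtain ⟨h0, h1⟩ := hsq _ hp
  set A : κ[X] := C a + C b * X + C d * X ^ 2 with hA
  set B : κ[X] := C c + C e * X with hB
  have ev0 : (C A + C B * X + C (C f) * X ^ 2 : κ[X][X]).eval r = A + B * r + C f * r ^ 2 := by simp
  have ev1 : (C A + C B * X + C (C f) * X ^ 2 : κ[X][X]).derivative.eval r = B + C f * (2 * r) := by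
    simp [one_add_one_eq_two]
  rw [ev0] at h0
  rw [ev1] at h1
  -- degrees
  have hd1 : (B + C f * (2 * r)).natDegree ≤ 1 := by
    rw [hB, hr]
    have : C c + C e * X + C f * (2 * (C h * X + C g)) = C (e + f * 2 * h) * X + C (c + f * 2 * g) := by
      simp only [C_add, C_mul, map_ofNat]
      ring
    rw [this]
    exact natDegree_linear_le
  have hd0 : (A + B * r + C f * r ^ 2).natDegree ≤ 2 := by
    rw [hA, hB, hr]
    have : C a + C b * X + C d * X ^ 2 + (C c + C e * X) * (C h * X + C g) + C f * (C h * X + C g) ^ 2 =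
      C (d + e * h + f * h ^ 2) * X ^ 2 + C (b + c * h + e * g + f * 2 * h * g) * X + C (a + c * g + f * g ^ 2) := by
      simp only [C_add, C_mul, C_pow, map_ofNat]
      ring
    rw [this]
    exact natDegree_quadratic_le
  have z1 : B + C f * (2 * r) = 0 := by
    by_contra hne
    rw [hF, Ideal.mem_span_singleton] at h1
    rcases hFdeg with hF0 | hF2
    · rw [hF0, zero_dvd_iff] at h1
      exact hne h1
    · have := natDegree_le_of_dvd h1 hne
      omega
  have z0 : A + B * r + C f * r ^ 2 = 0 := by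
    by_contra hne
    rw [hF, Ideal.span_singleton_pow, Ideal.mem_span_singleton] at h0
    rcases hFdeg with hF0 | hF2
    · rw [hF0, zero_pow two_ne_zero, zero_dvd_iff] at h0
      exact hne h0
    · have := natDegree_le_of_dvd h0 hne
      rw [natDegree_pow] at this
      omega
  have hBe : B = - (C f * (2 * r)) := eq_neg_of_add_eq_zero_left z1
  have hAe : A = C f * r ^ 2 := by
    rw [hBe] at z0
    linear_combination z0
  rw [hAe, hBe]
  simp only [C_mul, C_neg, C_pow, map_ofNat]
  ring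

theorem deriv_mem {A : Type*} [CommRing A] (I : Ideal A) (Θ : A → A) (hadd : ∀ a b, Θ (a + b) = Θ a + Θ b)
    (hmul : ∀ a b, Θ (a * b) = a * Θ b + b * Θ a) (q : A) (hq : q ∈ I ^ 2) : Θ q ∈ I := by
  rw [pow_two] at hq
  refine Submodule.mul_induction_on hq ?_ ?_
  · intro m hm n hn
    rw [hmul]
    exact I.add_mem (I.mul_mem_right _ hm) (I.mul_mem_right _ hn)
  · intro u v hu hv
    rw [hadd]
    exact I.add_mem hu hv

theorem deriv_sq {A : Type*} [CommRing A] (h2 : (2 : A) = 0) (Θ : A → A) 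
    (hmul : ∀ a b, Θ (a * b) = a * Θ b + b * Θ a) (q : A) : Θ (q ^ 2) = 0 := by
  rw [pow_two, hmul, ← two_mul, h2, zero_mul]

/-- Reduction modulo `x^2 + α`, `y^2 + β`. -/
theorem reduction (h2 : (2 : κ) = 0) (α β : κ) (r : κ[X][X]) :
    ∃ g h i j : κ, ∃ P Q : κ[X][X], r = C (C g + C h * X) + C (C i + C j * X) * X +
      (P * (C (X ^ 2 + C α)) + Q * (X ^ 2 + C (C β))) := by
  have hneg : (2 : κ[X][X]) = 0 := by
    have : (2 : κ[X][X]) = C (C (2 : κ)) := by rw [map_ofNat, map_ofNat]
    rw [this, h2, map_zero, map_zero]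
  -- first divide by the monic polynomial y^2 + β
  have hm1 : (X ^ 2 + C (C β) : κ[X][X]).Monic := by
    apply monic_X_pow_add_C; norm_num
  have hm2 : (X ^ 2 + C α : κ[X]).Monic := by
    apply monic_X_pow_add_C; norm_num
  have e1 := modByMonic_add_div r (X ^ 2 + C (C β))
  have d1 : (r %ₘ (X ^ 2 + C (C β))).natDegree ≤ 1 := by
    have := natDegree_modByMonic_lt r hm1 (by
      intro h
      have := congrArg natDegree h
      rw [natDegree_X_pow_add_C] at this
      simp at this)
    rw [natDegree_X_pow_add_C] at this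
    omega
  have e2 := Polynomial.eq_X_add_C_of_natDegree_le_one d1
  set s0 := (r %ₘ (X ^ 2 + C (C β))).coeff 0
  set s1 := (r %ₘ (X ^ 2 + C (C β))).coeff 1
  have hx : ∀ s : κ[X], ∃ g h : κ, ∃ q : κ[X], s = C g + C h * X + q * (X ^ 2 + C α) := by
    intro s
    have e1 := modByMonic_add_div s (X ^ 2 + C α)
    have d1 : (s %ₘ (X ^ 2 + C α)).natDegree ≤ 1 := by
      have := natDegree_modByMonic_lt s hm2 (by
        intro h
        have := congrArg natDegree h
        rw [natDegree_X_pow_add_C] at this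
        simp at this)
      rw [natDegree_X_pow_add_C] at this
      omega
    have e2 := Polynomial.eq_X_add_C_of_natDegree_le_one d1
    refine ⟨(s %ₘ (X ^ 2 + C α)).coeff 0, (s %ₘ (X ^ 2 + C α)).coeff 1, s /ₘ (X ^ 2 + C α), ?_⟩
    conv_lhs => rw [← e1, e2]
    ring
  obtain ⟨g, h, q, hq⟩ := hx s0
  obtain ⟨i, j, q', hq'⟩ := hx s1
  refine ⟨g, h, i, j, C q + C q' * X, r /ₘ (X ^ 2 + C (C β)), ?_⟩
  conv_lhs => rw [← e1, e2, hq, hq']
  simp only [C_add, C_mul, C_pow]
  ring

theorem stepB (h2 : (2 : κ) = 0) (I : Ideal κ[X][X])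
    (hlin : ∀ g h i : κ, (C (C g + C h * X) + C (C i) * X : κ[X][X]) ∈ I → g = 0 ∧ h = 0 ∧ i = 0)
    (a d : κ) (hp : (C (C a + C d * X ^ 2) + X ^ 2 : κ[X][X]) ∈ I ^ 2) :
    ∃ α δ, a = α ^ 2 ∧ d = δ ^ 2 := by
  have h1 : (1 : κ[X][X]) ∉ I := by
    intro h
    have := hlin 1 0 0 (by simpa using h)
    exact one_ne_zero this.1
  have h2x : (2 : κ[X]) = 0 := by
    have : (2 : κ[X]) = C (2 : κ) := by rw [map_ofNat]
    rw [this, h2, map_zero]
  have h2xx : (2 : κ[X][X]) = 0 := by
    have : (2 : κ[X][X]) = C (C (2 : κ)) := by rw [map_ofNat, map_ofNat]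
    rw [this, h2, map_zero, map_zero]
  -- coefficient derivations
  have hder : ∀ θ : κ → κ, (∀ a b, θ (a + b) = θ a + θ b) → (∀ a b, θ (a * b) = a * θ b + b * θ a) →
      (C (C (θ a) + C (θ d) * X ^ 2) : κ[X][X]) ∈ I := by
    intro θ hadd hmul
    obtain ⟨Θ, hΘ1, hΘ2, hΘ3, hΘ4⟩ := exists_ext_derivation θ hadd hmul
    obtain ⟨Ξ, hΞ1, hΞ2, hΞ3, hΞ4⟩ := exists_ext_derivation Θ hΘ1 hΘ2
    have := deriv_mem I Ξ hΞ1 hΞ2 _ hp
    rw [hΞ1, hΞ3, hΘ1, hΘ3, hΘ2, hΘ3, deriv_sq h2x Θ hΘ2, deriv_sq h2xx Ξ hΞ2] at this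
    have e : (C (C (θ a) + C (θ d) * X ^ 2) : κ[X][X]) = C (C (θ a) + (C d * 0 + X ^ 2 * C (θ d))) + 0 := by
      simp only [mul_zero, zero_add, add_zero]
      congr 2
      ring
    rw [e]
    exact this
  by_cases hd : ∃ δ, d = δ ^ 2
  · by_cases ha : ∃ α, a = α ^ 2
    · obtain ⟨α, hα⟩ := ha
      obtain ⟨δ, hδ⟩ := hd
      exact ⟨α, δ, hα, hδ⟩
    · exfalso
      obtain ⟨θ, hθ1, hθ2, hθ3⟩ := exists_derivation_char_two h2 a ha
      have := hder θ hθ1 hθ2
      obtain ⟨δ, rfl⟩ := hd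
      rw [hθ3, deriv_sq h2 θ hθ2] at this
      apply h1
      simpa using this
  · exfalso
    obtain ⟨θ, hθ1, hθ2, hθ3⟩ := exists_derivation_char_two h2 d hd
    have hu := hder θ hθ1 hθ2
    rw [hθ3, map_one, one_mul] at hu
    set α := θ a with hα
    set β := a + d * α with hβ
    have hu' : (C (X ^ 2 + C α) : κ[X][X]) ∈ I := by
      rw [add_comm (X ^ 2)]; exact hu
    have hpI : (C (C a + C d * X ^ 2) + X ^ 2 : κ[X][X]) ∈ I := Ideal.pow_le_self two_ne_zero hp
    have hv : (X ^ 2 + C (C β) : κ[X][X]) ∈ I := by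
      have : (X ^ 2 + C (C β) : κ[X][X]) = (C (C a + C d * X ^ 2) + X ^ 2 ) - C (C d) * C (X ^ 2 + C α) + 2 * (C (C d) * C (C α)) := by
        rw [hβ]
        simp only [C_add, C_mul, C_pow]
        ring
      rw [this, h2xx, zero_mul, add_zero]
      exact I.sub_mem hpI (I.mul_mem_left _ hu')
    -- reduction of elements of I
    have hred : ∀ r ∈ I, ∃ g h i j : κ, (C (C g + C h * X) + C (C i + C j * X) * X : κ[X][X]) ∈ I ∧
        r.derivative - C (C i + C j * X) ∈ I := by
      intro r hr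
      obtain ⟨g, h, i, j, P, Q, hPQ⟩ := reduction h2 α β r
      refine ⟨g, h, i, j, ?_, ?_⟩
      · have : (C (C g + C h * X) + C (C i + C j * X) * X : κ[X][X]) = r - (P * (C (X ^ 2 + C α)) + Q * (X ^ 2 + C (C β))) := by
          rw [hPQ]; ring
        rw [this]
        exact I.sub_mem hr (I.add_mem (I.mul_mem_left _ hu') (I.mul_mem_left _ hv))
      · have : r.derivative - C (C i + C j * X) = P.derivative * (C (X ^ 2 + C α)) + Q.derivative * (X ^ 2 + C (C β)) := by
          rw [hPQ]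
          simp only [derivative_add, derivative_mul, derivative_C, derivative_X, derivative_X_pow]
          simp [h2x]
        rw [this]
        exact I.add_mem (I.mul_mem_left _ hu') (I.mul_mem_left _ hv)
    -- consequences for the coefficients
    have hcase : ∀ g h i j : κ, (C (C g + C h * X) + C (C i + C j * X) * X : κ[X][X]) ∈ I →
        (j = 0 → i = 0) ∧ i ^ 2 = j ^ 2 * α := by
      intro g h i j hf
      have hj0 : j = 0 → i = 0 := by
        rintro rfl
        exact (hlin g h i (by simpa using hf)).2.2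
      refine ⟨hj0, ?_⟩
      by_cases hj : j = 0
      · rw [hj, hj0 hj]; ring
      -- j * x f - i f
      have hmem : (C (C (-(h * j * α) - i * g) + C (j * g - i * h) * X) + C (C (j ^ 2 * α - i ^ 2)) * X : κ[X][X]) ∈ I := by
        have e : (C (C (-(h * j * α) - i * g) + C (j * g - i * h) * X) + C (C (j ^ 2 * α - i ^ 2)) * X : κ[X][X]) =
            (C (C j * X) - C (C i)) * (C (C g + C h * X) + C (C i + C j * X) * X) 
              - (C (C (j * h)) + C (C (j * j)) * X) * (C (X ^ 2 + C α)) + 2 * (C (C (j ^ 2 * α)) * X) := by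
          simp only [C_add, C_sub, C_neg, C_mul, C_pow]
          ring
        rw [e, h2xx, zero_mul, add_zero]
        exact I.sub_mem (I.mul_mem_left _ hf) (I.mul_mem_left _ hu')
      have := (hlin _ _ _ hmem).2.2
      linear_combination -this
    -- product of derivatives
    have hprod : ∀ r ∈ I, ∀ s ∈ I, r.derivative * s.derivative ∈ I := by
      intro r hr s hs
      obtain ⟨g1, h1', i1, j1, hf1, hd1⟩ := hred r hr
      obtain ⟨g2, h2', i2, j2, hf2, hd2⟩ := hred s hs
      have hc1 := hcase _ _ _ _ hf1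
      have hc2 := hcase _ _ _ _ hf2
      -- cross relation
      have hcross : j2 * i1 = j1 * i2 := by
        have hmem : (C (C (j2 * g1 - j1 * g2) + C (j2 * h1' - j1 * h2') * X) + C (C (j2 * i1 - j1 * i2)) * X : κ[X][X]) ∈ I := by
          have e : (C (C (j2 * g1 - j1 * g2) + C (j2 * h1' - j1 * h2') * X) + C (C (j2 * i1 - j1 * i2)) * X : κ[X][X]) =
              C (C j2) * (C (C g1 + C h1' * X) + C (C i1 + C j1 * X) * X) - C (C j1) * (C (C g2 + C h2' * X) + C (C i2 + C j2 * X) * X) := by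
            simp only [C_add, C_sub, C_mul]
            ring
          rw [e]
          exact I.sub_mem (I.mul_mem_left _ hf1) (I.mul_mem_left _ hf2)
        have := (hlin _ _ _ hmem).2.2
        linear_combination this
      -- the product of the reductions
      have hpr : (C (C i1 + C j1 * X) * C (C i2 + C j2 * X) : κ[X][X]) ∈ I := by
        have e : (C (C i1 + C j1 * X) * C (C i2 + C j2 * X) : κ[X][X]) =
            C (C (i1 * i2 - j1 * j2 * α)) + C (C (j2 * i1 - j1 * i2)) * C X + 2 * (C (C (j1 * i2)) * C X) + C (C (j1 * j2)) * C (X ^ 2 + C α) := by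
          simp only [C_add, C_sub, C_mul, C_pow]
          ring
        have e0 : i1 * i2 - j1 * j2 * α = 0 := by
          by_cases hj1 : j1 = 0
          · rw [hj1, hc1.1 hj1]; ring
          · have : j1 * (i1 * i2 - j1 * j2 * α) = 0 := by
              linear_combination j2 * hc1.2 - i1 * hcross
            exact (mul_eq_zero.mp this).resolve_left hj1
        rw [e, e0, hcross, h2xx]
        simp only [sub_self, map_zero, zero_mul, zero_add]
        exact I.mul_mem_left _ hu'
      have e : r.derivative * s.derivative = (r.derivative - C (C i1 + C j1 * X)) * s.derivative +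
          C (C i1 + C j1 * X) * (s.derivative - C (C i2 + C j2 * X)) + C (C i1 + C j1 * X) * C (C i2 + C j2 * X) := by ring
      rw [e]
      exact I.add_mem (I.add_mem (I.mul_mem_right _ hd1) (I.mul_mem_left _ hd2)) hpr
    -- Hasse derivative
    have hH : ∀ q ∈ I ^ 2, hasseDeriv 2 q ∈ I := by
      intro q hq
      rw [pow_two] at hq
      refine Submodule.mul_induction_on hq ?_ ?_
      · intro m hm n hn
        rw [hasseDeriv_mul, Finset.Nat.sum_antidiagonal_succ, Finset.Nat.sum_antidiagonal_succ]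
        simp only [hasseDeriv_zero', Finset.Nat.antidiagonal_zero, Finset.sum_singleton, zero_add]
        have e1 : hasseDeriv 1 m * hasseDeriv 1 n ∈ I := by
          rw [hasseDeriv_one', hasseDeriv_one']
          exact hprod m hm n hn
        exact I.add_mem (I.mul_mem_right _ hm) (I.add_mem e1 (I.mul_mem_left _ hn))
      · intro u v hu hv
        rw [map_add]
        exact I.add_mem hu hv
    apply h1
    have := hH _ hp
    rw [map_add, hasseDeriv_C _ _ (by norm_num), zero_add] at this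
    have e : hasseDeriv 2 (X ^ 2 : κ[X][X]) = 1 := by
      rw [← monomial_one_right_eq_X_pow, hasseDeriv_monomial]
      simp
    rw [e] at this
    exact this


section Transfer

open MvPolynomial in
/-- The equivalence of `κ[x, y]` with iterated polynomials. -/
theorem exists_equiv (κ : Type*) [Field κ] : ∃ e : MvPolynomial (Fin 2) κ ≃+* Polynomial (Polynomial κ),
    e (MvPolynomial.X 0) = Polynomial.C Polynomial.X ∧ e (MvPolynomial.X 1) = Polynomial.X ∧
      ∀ c, e (MvPolynomial.C c) = Polynomial.C (Polynomial.C c) := by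
  let f : MvPolynomial (Fin 2) κ →+* Polynomial (Polynomial κ) :=
    MvPolynomial.eval₂Hom (Polynomial.C.comp Polynomial.C) ![Polynomial.C Polynomial.X, Polynomial.X]
  let g : Polynomial (Polynomial κ) →+* MvPolynomial (Fin 2) κ :=
    Polynomial.eval₂RingHom (Polynomial.eval₂RingHom MvPolynomial.C (MvPolynomial.X 0)) (MvPolynomial.X 1)
  have h1 : f.comp g = RingHom.id _ := by
    apply Polynomial.ringHom_ext'
    · apply Polynomial.ringHom_ext'
      · ext c; simp [f, g]
      · simp [f, g]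
    · simp [f, g]
  have h2 : g.comp f = RingHom.id _ := by
    apply MvPolynomial.ringHom_ext
    · intro c; simp [f, g]
    · intro i; fin_cases i <;> simp [f, g]
  refine ⟨RingEquiv.ofRingHom f g h1 h2, ?_, ?_, ?_⟩
  · simp [f]
  · simp [f]
  · intro c; simp [f]

open MvPolynomial in
/-- The same with the roles of the variables exchanged. -/
theorem exists_equiv' (κ : Type*) [Field κ] : ∃ e : MvPolynomial (Fin 2) κ ≃+* Polynomial (Polynomial κ),
    e (MvPolynomial.X 1) = Polynomial.C Polynomial.X ∧ e (MvPolynomial.X 0) = Polynomial.X ∧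
      ∀ c, e (MvPolynomial.C c) = Polynomial.C (Polynomial.C c) := by
  obtain ⟨e, h0, h1, hc⟩ := exists_equiv κ
  refine ⟨(MvPolynomial.renameEquiv κ (Equiv.swap (0 : Fin 2) 1)).toRingEquiv.trans e, ?_, ?_, ?_⟩
  · simp [h0]
  · simp [h1]
  · intro c; simp [hc]

variable {R : Type*} [CommRing R]

theorem stepA' (φ : κ →+* R) (E : R ≃+* κ[X][X]) (x y : R) (hx : E x = C X) (hy : E y = X)
    (hc : ∀ c, E (φ c) = C (C c)) (I : Ideal R)
    (hI : ¬ ∃ c1 c2 : κ, x - φ c1 ∈ I ∧ y - φ c2 ∈ I)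
    (g h i : κ) (hi : i ≠ 0) (hl : φ g + φ h * x + φ i * y ∈ I) (a b c d e f : κ)
    (hp : φ a + φ b * x + φ c * y + φ d * x ^ 2 + φ e * x * y + φ f * y ^ 2 ∈ I ^ 2) :
    ∃ j g h i : κ, φ a + φ b * x + φ c * y + φ d * x ^ 2 + φ e * x * y + φ f * y ^ 2 =
      φ j * (φ g + φ h * x + φ i * y) ^ 2 := by
  let J : Ideal κ[X][X] := I.map (E : R →+* κ[X][X])
  have hJ : ∀ r, E r ∈ J ↔ r ∈ I := by
    intro r
    constructor
    · intro hr
      obtain ⟨s, hs, hsr⟩ := (Ideal.mem_map_iff_of_surjective (E : R →+* κ[X][X]) E.surjective).mp hr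
      rwa [E.injective (show E s = E r from hsr)] at hs
    · intro hr
      exact Ideal.mem_map_of_mem (E : R →+* κ[X][X]) hr
  have hJ2 : ∀ r ∈ I ^ 2, E r ∈ J ^ 2 := by
    intro r hr
    have : E r ∈ (I ^ 2).map (E : R →+* κ[X][X]) := Ideal.mem_map_of_mem (E : R →+* κ[X][X]) hr
    rwa [Ideal.map_pow] at this
  have hJI : ¬ ∃ c1 c2 : κ, (C X - C (C c1) : κ[X][X]) ∈ J ∧ (X - C (C c2) : κ[X][X]) ∈ J := by
    rintro ⟨c1, c2, h1, h2⟩
    apply hI
    refine ⟨c1, c2, ?_, ?_⟩
    · rw [← hJ, map_sub, hx, hc]; exact h1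
    · rw [← hJ, map_sub, hy, hc]; exact h2
  have hl' : (X - C (C (-(h / i)) * X + C (-(g / i))) : κ[X][X]) ∈ J := by
    have h1 := (hJ _).mpr (I.mul_mem_left (φ i⁻¹) hl)
    simp only [map_mul, map_add, hc, hx, hy] at h1
    have e : (X - C (C (-(h / i)) * X + C (-(g / i))) : κ[X][X]) = C (C i⁻¹) * (C (C g) + C (C h) * C X + C (C i) * X) := by
      have h3 : (C (C i⁻¹) * C (C i) : κ[X][X]) = 1 := by
        rw [← C_mul, ← C_mul, inv_mul_cancel₀ hi]; simp
      rw [div_eq_inv_mul, div_eq_inv_mul]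
      simp only [C_add, C_mul, C_neg]
      linear_combination (-X) * h3
    rw [e]
    exact h1
  have hp' := hJ2 _ hp
  simp only [map_mul, map_add, map_pow, hc, hx, hy] at hp'
  have key := stepA J hJI _ _ hl' a b c d e f (by
    have e : (C (C a + C b * X + C d * X ^ 2) + C (C c + C e * X) * X + C (C f) * X ^ 2 : κ[X][X]) =
      C (C a) + C (C b) * C X + C (C c) * X + C (C d) * C X ^ 2 + C (C e) * C X * X + C (C f) * X ^ 2 := by
      simp only [C_add, C_mul, C_pow]
      ring
    rw [e]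
    exact hp')
  refine ⟨f, g / i, h / i, 1, ?_⟩
  apply E.injective
  simp only [map_mul, map_add, map_pow, hc, hx, hy, map_one, one_mul]
  have e2 : (C (C a + C b * X + C d * X ^ 2) + C (C c + C e * X) * X + C (C f) * X ^ 2 : κ[X][X]) =
      C (C a) + C (C b) * C X + C (C c) * X + C (C d) * C X ^ 2 + C (C e) * C X * X + C (C f) * X ^ 2 := by
      simp only [C_add, C_mul, C_pow]
      ring
  rw [← e2, key]
  simp only [C_add, C_mul, C_neg]
  ring

theorem stepB' (h2 : (2 : κ) = 0) (φ : κ →+* R) (E : R ≃+* κ[X][X]) (x y : R) (hx : E x = C X) (hy : E y = X)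
    (hc : ∀ c, E (φ c) = C (C c)) (I : Ideal R)
    (hlin : ∀ g h i : κ, φ g + φ h * x + φ i * y ∈ I → g = 0 ∧ h = 0 ∧ i = 0)
    (a d f : κ) (hf : f ≠ 0)
    (hp : φ a + φ d * x ^ 2 + φ f * y ^ 2 ∈ I ^ 2) :
    ∃ j g h i : κ, φ a + φ d * x ^ 2 + φ f * y ^ 2 =
      φ j * (φ g + φ h * x + φ i * y) ^ 2 := by
  let J : Ideal κ[X][X] := I.map (E : R →+* κ[X][X])
  have hJ : ∀ r, E r ∈ J ↔ r ∈ I := by
    intro r
    constructor
    · intro hr
      obtain ⟨s, hs, hsr⟩ := (Ideal.mem_map_iff_of_surjective (E : R →+* κ[X][X]) E.surjective).mp hr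
      rwa [E.injective (show E s = E r from hsr)] at hs
    · intro hr
      exact Ideal.mem_map_of_mem (E : R →+* κ[X][X]) hr
  have hJ2 : ∀ r ∈ I ^ 2, E r ∈ J ^ 2 := by
    intro r hr
    have : E r ∈ (I ^ 2).map (E : R →+* κ[X][X]) := Ideal.mem_map_of_mem (E : R →+* κ[X][X]) hr
    rwa [Ideal.map_pow] at this
  have h3 : (C (C f⁻¹) * C (C f) : κ[X][X]) = 1 := by
    rw [← C_mul, ← C_mul, inv_mul_cancel₀ hf]; simp
  obtain ⟨α, δ, hα, hδ⟩ := stepB h2 J (by
    intro g h i hm
    apply hlin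
    rw [← hJ]
    simp only [map_mul, map_add, hc, hx, hy]
    have e : (C (C g) + C (C h) * C X + C (C i) * X : κ[X][X]) = C (C g + C h * X) + C (C i) * X := by
      simp only [C_add, C_mul]
    rw [e]
    exact hm) (a / f) (d / f) (by
    have h1 := hJ2 _ (Ideal.mul_mem_left _ (φ f⁻¹) hp)
    simp only [map_mul, map_add, map_pow, hc, hx, hy] at h1
    have e : (C (C (a / f) + C (d / f) * X ^ 2) + X ^ 2 : κ[X][X]) = C (C f⁻¹) * (C (C a) + C (C d) * C X ^ 2 + C (C f) * X ^ 2) := by
      rw [div_eq_inv_mul, div_eq_inv_mul]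
      simp only [C_add, C_mul, C_pow]
      linear_combination (-X ^ 2) * h3
    rw [e]
    exact h1)
  have h2R : (2 : R) = 0 := by
    have : (2 : R) = φ 2 := by rw [map_ofNat]
    rw [this, h2, map_zero]
  refine ⟨f, α, δ, 1, ?_⟩
  have ha : a = f * α ^ 2 := by rw [← hα]; field_simp
  have hd : d = f * δ ^ 2 := by rw [← hδ]; field_simp
  rw [ha, hd]
  simp only [map_mul, map_pow, map_one, one_mul]
  linear_combination (- φ f * (φ α * φ δ * x + φ α * y + φ δ * x * y)) * h2R

end Transfer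

theorem colength_le_one (I : Ideal (MvPolynomial (Fin 2) κ))
    (h : ∃ c1 c2 : κ, MvPolynomial.X 0 - MvPolynomial.C c1 ∈ I ∧ MvPolynomial.X 1 - MvPolynomial.C c2 ∈ I) :
    Module.Finite κ (MvPolynomial (Fin 2) κ ⧸ I) ∧ Module.finrank κ (MvPolynomial (Fin 2) κ ⧸ I) ≤ 1 := by
  obtain ⟨c1, c2, h1, h2⟩ := h
  have hsurj : Function.Surjective (Algebra.linearMap κ (MvPolynomial (Fin 2) κ ⧸ I)) := by
    intro z
    obtain ⟨p, rfl⟩ := Ideal.Quotient.mk_surjective z
    refine ⟨MvPolynomial.eval ![c1, c2] p, ?_⟩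
    have e : ((Ideal.Quotient.mk I).comp (MvPolynomial.C.comp (MvPolynomial.eval ![c1, c2]))) = Ideal.Quotient.mk I := by
      apply MvPolynomial.ringHom_ext
      · intro c; simp
      · intro i
        fin_cases i
        · simp only [Fin.zero_eta, RingHom.comp_apply, MvPolynomial.eval_X, Matrix.cons_val_zero]
          rw [Ideal.Quotient.eq, ← neg_mem_iff, neg_sub]
          exact h1
        · simp only [Fin.mk_one, RingHom.comp_apply, MvPolynomial.eval_X, Matrix.cons_val_one]
          rw [Ideal.Quotient.eq, ← neg_mem_iff, neg_sub]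
          exact h2
    exact congrArg (fun f => f p) (congrArg DFunLike.coe e)
  refine ⟨Module.Finite.of_surjective _ hsurj, ?_⟩
  have := LinearMap.finrank_le_finrank_of_surjective hsurj
  simpa using this

theorem main (I : Ideal (MvPolynomial (Fin 2) κ))
    (hI : ¬ ∃ c1 c2 : κ, MvPolynomial.X 0 - MvPolynomial.C c1 ∈ I ∧ MvPolynomial.X 1 - MvPolynomial.C c2 ∈ I)
    (a b c d e f : κ) (hne : (a, b, c, d, e, f) ≠ (0, 0, 0, 0, 0, 0))
    (hmem : (MvPolynomial.C a + MvPolynomial.C b * MvPolynomial.X 0 + MvPolynomial.C c * MvPolynomial.X 1 +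
      MvPolynomial.C d * MvPolynomial.X 0 ^ 2 + MvPolynomial.C e * MvPolynomial.X 0 * MvPolynomial.X 1 +
      MvPolynomial.C f * MvPolynomial.X 1 ^ 2 : MvPolynomial (Fin 2) κ) ∈ I ^ 2) :
    ∃ j g h i : κ, (MvPolynomial.C a + MvPolynomial.C b * MvPolynomial.X 0 + MvPolynomial.C c * MvPolynomial.X 1 +
      MvPolynomial.C d * MvPolynomial.X 0 ^ 2 + MvPolynomial.C e * MvPolynomial.X 0 * MvPolynomial.X 1 +
      MvPolynomial.C f * MvPolynomial.X 1 ^ 2 : MvPolynomial (Fin 2) κ) =
      MvPolynomial.C j * (MvPolynomial.C g + MvPolynomial.C h * MvPolynomial.X 0 + MvPolynomial.C i * MvPolynomial.X 1) ^ 2 := by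
  classical
  have h1 : (1 : MvPolynomial (Fin 2) κ) ∉ I := by
    intro h
    have htop : I = ⊤ := (Ideal.eq_top_iff_one I).mpr h
    exact hI ⟨0, 0, by rw [htop]; trivial, by rw [htop]; trivial⟩
  obtain ⟨E, hE0, hE1, hEc⟩ := exists_equiv κ
  obtain ⟨E', hE0', hE1', hEc'⟩ := exists_equiv' κ
  by_cases hL : ∃ g h i : κ, (h ≠ 0 ∨ i ≠ 0) ∧ (MvPolynomial.C g + MvPolynomial.C h * MvPolynomial.X 0 +
      MvPolynomial.C i * MvPolynomial.X 1 : MvPolynomial (Fin 2) κ) ∈ I
  · obtain ⟨g, h, i, hhi, hl⟩ := hL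
    rcases hhi with hh | hi
    · obtain ⟨j', g', h', i', hj⟩ := stepA' (MvPolynomial.C) E' _ _ hE0' hE1' hEc' I
        (by rintro ⟨c1, c2, h1, h2⟩; exact hI ⟨c2, c1, h2, h1⟩) g i h hh
        (by convert hl using 1; ring) a c b f e d (by convert hmem using 1; ring)
      refine ⟨j', g', i', h', ?_⟩
      linear_combination hj
    · exact stepA' (MvPolynomial.C) E _ _ hE0 hE1 hEc I hI g h i hi hl a b c d e f hmem
  · have hlin : ∀ g h i : κ, (MvPolynomial.C g + MvPolynomial.C h * MvPolynomial.X 0 +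
      MvPolynomial.C i * MvPolynomial.X 1 : MvPolynomial (Fin 2) κ) ∈ I → g = 0 ∧ h = 0 ∧ i = 0 := by
      intro g h i hm
      have hh : h = 0 := by
        by_contra hh
        exact hL ⟨g, h, i, Or.inl hh, hm⟩
      have hi : i = 0 := by
        by_contra hi
        exact hL ⟨g, h, i, Or.inr hi, hm⟩
      refine ⟨?_, hh, hi⟩
      by_contra hg
      apply h1
      have : (1 : MvPolynomial (Fin 2) κ) = MvPolynomial.C g⁻¹ * (MvPolynomial.C g + MvPolynomial.C h * MvPolynomial.X 0 +
        MvPolynomial.C i * MvPolynomial.X 1) := by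
        rw [hh, hi, map_zero, zero_mul, zero_mul, add_zero, add_zero, ← MvPolynomial.C_mul, inv_mul_cancel₀ hg, map_one]
      rw [this]
      exact I.mul_mem_left _ hm
    have hd0 := deriv_mem I (MvPolynomial.pderiv (R := κ) (0 : Fin 2)) (fun a b => map_add _ a b)
      (fun a b => by rw [Derivation.leibniz]; simp only [smul_eq_mul]) _ hmem
    have hd1 := deriv_mem I (MvPolynomial.pderiv (R := κ) (1 : Fin 2)) (fun a b => map_add _ a b)
      (fun a b => by rw [Derivation.leibniz]; simp only [smul_eq_mul]) _ hmem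
    have e0 : (MvPolynomial.pderiv (R := κ) (0 : Fin 2)) (MvPolynomial.C a + MvPolynomial.C b * MvPolynomial.X 0 + MvPolynomial.C c * MvPolynomial.X 1 +
      MvPolynomial.C d * MvPolynomial.X 0 ^ 2 + MvPolynomial.C e * MvPolynomial.X 0 * MvPolynomial.X 1 +
      MvPolynomial.C f * MvPolynomial.X 1 ^ 2 : MvPolynomial (Fin 2) κ) = MvPolynomial.C b + MvPolynomial.C (2 * d) * MvPolynomial.X 0 + MvPolynomial.C e * MvPolynomial.X 1 := by
      have C2 : (MvPolynomial.C (2 : κ) : MvPolynomial (Fin 2) κ) = 2 := map_ofNat _ 2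
      simp [Derivation.leibniz, Derivation.leibniz_pow, C2]
      ring
    have e1 : (MvPolynomial.pderiv (R := κ) (1 : Fin 2)) (MvPolynomial.C a + MvPolynomial.C b * MvPolynomial.X 0 + MvPolynomial.C c * MvPolynomial.X 1 +
      MvPolynomial.C d * MvPolynomial.X 0 ^ 2 + MvPolynomial.C e * MvPolynomial.X 0 * MvPolynomial.X 1 +
      MvPolynomial.C f * MvPolynomial.X 1 ^ 2 : MvPolynomial (Fin 2) κ) = MvPolynomial.C c + MvPolynomial.C e * MvPolynomial.X 0 + MvPolynomial.C (2 * f) * MvPolynomial.X 1 := by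
      have C2 : (MvPolynomial.C (2 : κ) : MvPolynomial (Fin 2) κ) = 2 := map_ofNat _ 2
      simp [Derivation.leibniz, Derivation.leibniz_pow, C2]
      ring
    rw [e0] at hd0
    rw [e1] at hd1
    obtain ⟨hb, h2d, he⟩ := hlin _ _ _ hd0
    obtain ⟨hc, -, h2f⟩ := hlin _ _ _ hd1
    subst hb hc he
    by_cases hf : f = 0
    · by_cases hd : d = 0
      · exfalso
        subst hf hd
        have ha : a = 0 := by
          have := Ideal.pow_le_self two_ne_zero hmem
          refine (hlin a 0 0 ?_).1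
          convert this using 1
          simp
        subst ha
        exact hne rfl
      · have h2 : (2 : κ) = 0 := (mul_eq_zero.mp h2d).resolve_right hd
        obtain ⟨j', g', h', i', hj⟩ := stepB' h2 (MvPolynomial.C) E' _ _ hE0' hE1' hEc' I
          (by
            intro g h i hm
            obtain ⟨h1, h2, h3⟩ := hlin g i h (by convert hm using 1; ring)
            exact ⟨h1, h3, h2⟩) a f d hd (by
              convert hmem using 1
              simp only [map_zero, zero_mul]
              ring)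
        refine ⟨j', g', i', h', ?_⟩
        simp only [map_zero, zero_mul]
        linear_combination hj
    · have h2 : (2 : κ) = 0 := (mul_eq_zero.mp h2f).resolve_right hf
      obtain ⟨j', g', h', i', hj⟩ := stepB' h2 (MvPolynomial.C) E _ _ hE0 hE1 hEc I
          hlin a d f hf (by
              convert hmem using 1
              simp only [map_zero, zero_mul]
              ring)
      refine ⟨j', g', h', i', ?_⟩
      simp only [map_zero, zero_mul]
      linear_combination hj


end Helpers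


/-- Stacks Tag 0BGD: let κ be a field and I an ideal of κ[x, y] whose colength is greater than one (the quotient is not of dimension at most one over κ). If a nonzero polynomial a + bx + cy + dx^2 + exy + fy^2 lies in I^2, then it equals j (g + hx + iy)^2 for some scalars j, g, h, i. -/
theorem result (κ : Type u) [Field κ] (I : Ideal (MvPolynomial (Fin 2) κ))
    (hI : ¬ (Module.Finite κ (MvPolynomial (Fin 2) κ ⧸ I) ∧ Module.finrank κ (MvPolynomial (Fin 2) κ ⧸ I) ≤ 1))
    (a b c d e f : κ) (hne : (a, b, c, d, e, f) ≠ (0, 0, 0, 0, 0, 0))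
    (hmem : (MvPolynomial.C a + MvPolynomial.C b * MvPolynomial.X 0 + MvPolynomial.C c * MvPolynomial.X 1 +
      MvPolynomial.C d * MvPolynomial.X 0 ^ 2 + MvPolynomial.C e * MvPolynomial.X 0 * MvPolynomial.X 1 +
      MvPolynomial.C f * MvPolynomial.X 1 ^ 2 : MvPolynomial (Fin 2) κ) ∈ I ^ 2) :
    ∃ j g h i : κ, (MvPolynomial.C a + MvPolynomial.C b * MvPolynomial.X 0 + MvPolynomial.C c * MvPolynomial.X 1 +
      MvPolynomial.C d * MvPolynomial.X 0 ^ 2 + MvPolynomial.C e * MvPolynomial.X 0 * MvPolynomial.X 1 +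
      MvPolynomial.C f * MvPolynomial.X 1 ^ 2 : MvPolynomial (Fin 2) κ) =
      MvPolynomial.C j * (MvPolynomial.C g + MvPolynomial.C h * MvPolynomial.X 0 + MvPolynomial.C i * MvPolynomial.X 1) ^ 2 := by
  exact main I (fun h => hI (colength_le_one I h)) a b c d e f hne hmem

end Groth.Agent.S1601
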