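import Groth.Statements.S1608
import Groth.Agent.VarietyB.QFinDimOne
import Groth.Agent.CycB.LocQuot
-- import your own Groth.Agent.* helpers here

set_option autoImplicit false
universe u
open CategoryTheory CategoryTheory.Limits AlgebraicGeometry

namespace Groth.Agent.S1608

/-- Stacks Tag 0AB6, case (3): let f : X → Y be locally of finite type and y a point of Y whose local ring is Noetherian of dimension at most one. If f is quasi-finite at the generic points of the irreducible components of X, then it is quasi-finite at all points of X mapping to y. -/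
theorem result {X Y : Scheme.{u}} (f : X ⟶ Y) [LocallyOfFiniteType f]
    (y : Y) [IsNoetherianRing (Y.presheaf.stalk y)] (hy : ringKrullDim (Y.presheaf.stalk y) ≤ 1)
    (hgen : ∀ Z ∈ irreducibleComponents (X : Type u), ∀ η : X, IsGenericPoint η Z → f.QuasiFiniteAt η)
    (x : X) (hx : f.base x = y) : f.QuasiFiniteAt x := by
  subst hx
  have hK : Ring.KrullDimLE 1 (Y.presheaf.stalk (f.base x)) :=
    Order.krullDimLE_iff 1 _ |>.mpr hy
  have hess := LocallyOfFiniteType.stalkMap f x
  algebraize [(f.stalkMap x).hom]
  change Algebra.QuasiFinite _ _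
  refine VarietyB.QFinDimOne.quasiFinite_of_essFiniteType_of_isLocalRing _ _ ?_
  intro P hP hPprime
  let η : X := CycB.LocQuot.ptOf (x := x) ⟨P, hPprime⟩
  have hηx : η ⤳ x := CycB.LocQuot.ptOf_specializes _
  have hηP : CycB.LocQuot.primeOf hηx = ⟨P, hPprime⟩ := CycB.LocQuot.primeOf_ptOf _
  have hcomp : closure {η} ∈ irreducibleComponents (X : Type u) := by
    refine ⟨isIrreducible_singleton.closure, ?_⟩
    intro t ht hηt
    have ht' : IsIrreducible (closure t) := ht.closure
    have hζ : IsGenericPoint ht'.genericPoint (closure t) := by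
      simpa using ht'.isGenericPoint_genericPoint_closure
    have hζη : ht'.genericPoint ⤳ η :=
      hζ.specializes (subset_closure (hηt (subset_closure rfl)))
    have hle : CycB.LocQuot.primeOf (hζη.trans hηx) ≤ CycB.LocQuot.primeOf hηx :=
      (CycB.LocQuot.primeOf_le_iff _ _).mpr hζη
    have hle' : (CycB.LocQuot.primeOf (hζη.trans hηx)).asIdeal ≤ P := by
      rw [hηP] at hle
      exact hle
    have heq : P ≤ (CycB.LocQuot.primeOf (hζη.trans hηx)).asIdeal :=
      hP.2 ⟨(CycB.LocQuot.primeOf (hζη.trans hηx)).2, bot_le⟩ hle'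
    have heq' : CycB.LocQuot.primeOf (hζη.trans hηx) = CycB.LocQuot.primeOf hηx := by
      rw [hηP]
      exact PrimeSpectrum.ext (le_antisymm hle' heq)
    rw [CycB.LocQuot.primeOf_inj] at heq'
    rw [← heq', hζ.def]
    exact subset_closure
  have hqf : f.QuasiFiniteAt η := hgen _ hcomp η rfl
  have hq2 : ((f.stalkMap x) ≫ X.presheaf.stalkSpecializes hηx).hom.QuasiFinite := by
    rw [← Scheme.Hom.stalkSpecializes_stalkMap, CommRingCat.hom_comp]
    refine RingHom.QuasiFinite.comp hqf ?_
    have h1 := CycB.LocQuot.isLocalization_stalkSpecializes (X := Y)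
      (hηx.map f.continuous)
    algebraize [(Y.presheaf.stalkSpecializes (hηx.map f.continuous)).hom]
    exact Algebra.QuasiFinite.of_isLocalization (R := Y.presheaf.stalk (f x))
      (RingHom.ker (Cyc.specMap (f x) (f η) (hηx.map f.continuous))).primeCompl
  have hloc := CycB.LocQuot.isLocalization_stalkSpecializes hηx
  have hPk : RingHom.ker (Cyc.specMap x η hηx) = P := by
    rw [← CycB.LocQuot.primeOf_asIdeal, hηP]
  algebraize [(X.presheaf.stalkSpecializes hηx).hom,
    ((f.stalkMap x) ≫ X.presheaf.stalkSpecializes hηx).hom]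
  have htower : IsScalarTower (Y.presheaf.stalk (f x)) (X.presheaf.stalk x)
    (X.presheaf.stalk η) := .of_algebraMap_eq' rfl
  have hloc' : IsLocalization P.primeCompl (X.presheaf.stalk η) := by
    have e : (RingHom.ker (Cyc.specMap x η hηx)).primeCompl = P.primeCompl := by
      ext a
      change ¬ _ ↔ ¬ _
      rw [hPk]
    rw [← e]
    exact hloc
  let e : X.presheaf.stalk η ≃ₐ[X.presheaf.stalk x] Localization.AtPrime P :=
    IsLocalization.algEquiv P.primeCompl _ _
  exact (Algebra.QuasiFinite.iff_of_algEquiv (e.restrictScalars (Y.presheaf.stalk (f x)))).mp hq2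

end Groth.Agent.S1608
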