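import Groth.Statements.S1615
import Mathlib.RingTheory.GradedAlgebra.Radical

set_option autoImplicit false
universe u
open CategoryTheory CategoryTheory.Limits AlgebraicGeometry
open Constr

namespace Groth.Agent.S1615

/-- Stacks Tag 01MD: for a graded ring A, quasi-compactness of Proj A is equivalent to the existence of finitely many homogeneous elements of positive degree generating an ideal whose radical contains the irrelevant ideal A_+. -/
theorem result {R A : Type u} [CommRing R] [CommRing A] [Algebra R A] (𝒜 : ℕ → Submodule R A) [GradedAlgebra 𝒜] :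
    CompactSpace ↥(Proj 𝒜) ↔ ∃ s : Finset A, (∀ f ∈ s, ∃ d : ℕ, 0 < d ∧ f ∈ 𝒜 d) ∧
      (HomogeneousIdeal.irrelevant 𝒜).toIdeal ≤ (Ideal.span (s : Set A)).radical := by
  classical
  constructor
  · intro hc
    -- the cover by `D₊(f)`, `f` homogeneous of positive degree
    let ι := Σ i : PNat, 𝒜 i
    have hcov : ⨆ i : ι, Proj.basicOpen 𝒜 (i.2 : A) = ⊤ := by
      apply Proj.iSup_basicOpen_eq_top
      intro z hz
      rw [← DirectSum.sum_support_decompose 𝒜 z]
      refine Ideal.sum_mem _ fun c hc ↦ if hc0 : c = 0 then ?_ else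
        Ideal.subset_span ⟨⟨⟨c, Nat.pos_iff_ne_zero.mpr hc0⟩, _⟩, rfl⟩
      convert! Ideal.zero_mem _
      subst hc0
      exact hz
    obtain ⟨t, ht⟩ := hc.isCompact_univ.elim_finite_subcover
      (fun i : ι => (Proj.basicOpen 𝒜 (i.2 : A) : Set (Proj 𝒜))) (fun i => (Proj.basicOpen 𝒜 (i.2 : A)).isOpen)
      (by
        intro x _
        have hx : x ∈ (⨆ i : ι, Proj.basicOpen 𝒜 (i.2 : A)) := by rw [hcov]; trivial
        rw [TopologicalSpace.Opens.mem_iSup] at hx
        obtain ⟨i, hi⟩ := hx
        exact Set.mem_iUnion.mpr ⟨i, hi⟩)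
    refine ⟨t.image (fun i => (i.2 : A)), ?_, ?_⟩
    · intro f hf
      obtain ⟨i, _, rfl⟩ := Finset.mem_image.mp hf
      exact ⟨i.1, i.1.2, i.2.2⟩
    · have hhom : (Ideal.span ((t.image (fun i => (i.2 : A)) : Finset A) : Set A)).IsHomogeneous 𝒜 := by
        apply Ideal.homogeneous_span
        intro x hx
        obtain ⟨i, _, rfl⟩ := Finset.mem_image.mp (Finset.mem_coe.mp hx)
        exact ⟨i.1, i.2.2⟩
      rw [hhom.radical_eq]
      refine le_sInf ?_
      rintro J ⟨hJ, hle, hprime⟩
      by_contra hirr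
      let x : Proj 𝒜 := (⟨⟨J, hJ⟩, hprime, hirr⟩ : ProjectiveSpectrum 𝒜)
      have hx := ht (Set.mem_univ x)
      simp only [Set.mem_iUnion] at hx
      obtain ⟨i, hi, hxi⟩ := hx
      apply hxi
      change (i.2 : A) ∈ J
      exact hle (Ideal.subset_span (Finset.mem_coe.mpr (Finset.mem_image_of_mem _ hi)))
  · rintro ⟨s, hs, hle⟩
    choose! d hd using hs
    have hcov : (⋃ f ∈ s, (Proj.basicOpen 𝒜 f : Set (Proj 𝒜))) = Set.univ := by
      refine Set.eq_univ_of_forall fun x => ?_
      by_contra H
      simp only [Set.mem_iUnion, not_exists] at H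
      refine x.not_irrelevant_le ?_
      refine hle.trans ?_
      have : (x.asHomogeneousIdeal.toIdeal).IsPrime := x.isPrime
      refine this.radical_le_iff.mpr ?_
      rw [Ideal.span_le]
      intro f hf
      by_contra hfx
      exact H f (Finset.mem_coe.mp hf) hfx
    constructor
    rw [← hcov]
    apply Finset.isCompact_biUnion
    intro f hf
    exact (Proj.isAffineOpen_basicOpen 𝒜 f (hd f hf).2 (hd f hf).1).isCompact

end Groth.Agent.S1615
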