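import Groth.Statements.S1620
import Groth.Agent.VarietyB.DimSch
import Groth.Agent.VarietyB.CovBy

set_option autoImplicit false
universe u
open CategoryTheory CategoryTheory.Limits AlgebraicGeometry
attribute [local instance] Curv2.stalkAlgebra Curv2.resAlgebra
open Variety

namespace Groth.Agent.S1620

open Groth.Agent.VarietyB Groth.Agent.VarietyB.DimSch

/-- Stacks Tag 0A21 (7): let X be locally of finite type over a field k and x ⤳ x' an immediate specialisation (x ≠ x' and no point strictly in between). If the residue field of x' has transcendence degree n over k then the residue field of x has transcendence degree n + 1. -/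
theorem result (k : Type u) [Field k] (X : Scheme.{u}) [X.Over (Spec (CommRingCat.of k))] [LocallyOfFiniteType (X ↘ (Spec (CommRingCat.of k)))] (x x' : X) (hne : x ≠ x') (hsp : x ⤳ x')
    (himm : ∀ y : X, x ⤳ y → y ⤳ x' → y = x ∨ y = x')
    (n : ℕ) (hn : Algebra.trdeg k (X.residueField x') = n) : Algebra.trdeg k (X.residueField x) = n + 1 := by
  obtain ⟨U, hU, hx', -⟩ := exists_isAffineOpen_mem_and_subset (X := X) (U := ⊤) (x := x') trivial
  have hx : x ∈ U := hsp.mem_open U.isOpen hx'
  let _ := secAlgebra k U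
  have hft : Algebra.FiniteType k Γ(X, U) := toSections_finiteType k X hU
  obtain ⟨h1, h2⟩ := CovBy.immediate_of_immediate hU ⟨x, hx⟩ ⟨x', hx'⟩
    (fun h ↦ hne (congrArg Subtype.val h)) himm
  have hle : (hU.primeIdealOf ⟨x, hx⟩).asIdeal ≤ (hU.primeIdealOf ⟨x', hx'⟩).asIdeal :=
    (CovBy.primeIdealOf_le_iff hU ⟨x, hx⟩ ⟨x', hx'⟩).mpr hsp
  have h3 := CovBy.height_map_eq_one _ _ hle h1 h2
  have h4 := DimRing.height_quotient_add_dim k hle
  rw [h3, dim_quotient_eq_trd k hU x' hx', dim_quotient_eq_trd k hU x hx,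
    trd_eq_of_trdeg_eq k hn] at h4
  rw [trdeg_eq_trd k x]
  have h5 : 1 + n = trd k X x := by exact_mod_cast h4
  rw [← h5]
  push_cast
  rw [add_comm]

end Groth.Agent.S1620
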