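import Groth.Statements.S1623
import Groth.Agent.CurvesC.BlowUpInter
import Groth.Agent.CurvesC.TwoAffine

set_option autoImplicit false
universe u
open CategoryTheory CategoryTheory.Limits AlgebraicGeometry
open Resolve

namespace Groth.Agent.S1623

open Groth.Agent.CurvesC.BlowUpCharts Groth.Agent.CurvesC.BlowUpReg Groth.Agent.CurvesC.BlowUpInter

/-- Stacks Tag 0AGS (1): let A be a regular local ring of dimension two and b : X → Spec A a blowing up in the maximal ideal. For every quasi-coherent O_X-module F and every p ≥ 2, H^p(X, F) = 0. -/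
theorem result (A : Type u) [CommRing A] [IsRegularLocalRing A] (hA : ringKrullDim A = 2)
    (X : Scheme.{u}) (b : X ⟶ Spec (CommRingCat.of A)) (hb : BlowUp.IsBlowUp b (Curv2.idealSheaf A (IsLocalRing.maximalIdeal A)))
    (F : X.Modules) (hF : Coh.IsQCoh F) (p : ℕ) (hp : 2 ≤ p) : Subsingleton (Coh.HH X F p) := by
  obtain ⟨x, y, hxy⟩ := exists_generators A hA
  have hx := CurvesC.BlowUpRegAlg.mem_max_left hxy
  have hy := CurvesC.BlowUpRegAlg.mem_max_right hxy
  refine CurvesC.TwoAffine.subsingleton_of_two_le (isAffineOpen_chart hb hx) (isAffineOpen_chart hb hy)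
    (isAffineOpen_chart_inf_chart hb hx hy) ?_ F hF p hp
  rw [eq_top_iff]
  intro z _
  obtain ⟨s, hs, hz⟩ := exists_mem_chart hb.1 hxy z
  rcases hs with rfl | rfl
  · exact Or.inl hz
  · exact Or.inr hz

end Groth.Agent.S1623
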