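import Groth.Statements.S1624
import Groth.Agent.CurvesC.BlowUpSec

set_option autoImplicit false
universe u
open CategoryTheory CategoryTheory.Limits AlgebraicGeometry
open Resolve

namespace Groth.Agent.S1624

open Groth.Agent.CurvesC.BlowUpCharts Groth.Agent.CurvesC.BlowUpReg Groth.Agent.CurvesC.BlowUpInter
open Groth.Agent.CurvesC.GGSec Groth.Agent.CohqB.QC2

/-- A globally generated quasi-coherent module on the blow-up of an affine scheme in an ideal with two generators has
no first cohomology. -/
theorem subsingleton_one_of_gg {A : Type u} [CommRing A] {I : Ideal A} {X : Scheme.{u}} {b : X ⟶ Spec (CommRingCat.of A)}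
    (hb : BlowUp.IsBlowUp b (Curv2.idealSheaf A I)) {x y : A} (hxy : Ideal.span {x, y} = I)
    (F : X.Modules) (hF : Coh.IsQCoh F) (hgg : Curv2.IsGloballyGenerated F) : Subsingleton (Coh.HH X F 1) := by
  have hx : x ∈ I := by rw [← hxy]; exact Ideal.subset_span (by simp)
  have hy : y ∈ I := by rw [← hxy]; exact Ideal.subset_span (by simp)
  have hcov : chart b I x ⊔ chart b I y = ⊤ := by
    rw [eq_top_iff]
    intro z _
    obtain ⟨s, hs, hz⟩ := exists_mem_chart hb.1 hxy z
    rcases hs with rfl | rfl
    · exact Or.inl hz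
    · exact Or.inr hz
  obtain ⟨ι, e, he⟩ := exists_sections_of_isGloballyGenerated hgg
  refine CurvesC.TwoAffine.subsingleton_one (isAffineOpen_chart hb hx) (isAffineOpen_chart hb hy) hcov F hF ?_
  intro z
  have hz : z ∈ spanOn F e (chart b I x ⊓ chart b I y) := by
    rw [spanOn_eq_top hF he (isAffineOpen_chart_inf_chart hb hx hy)]
    trivial
  have key : ∀ g : Γ(X, chart b I x ⊓ chart b I y), ∃ (s : Γ(F, chart b I x)) (t : Γ(F, chart b I y)),
      res F inf_le_left s - res F inf_le_right t = g • z := by
    unfold spanOn at hz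
    induction hz using Submodule.span_induction with
    | mem z hz =>
      obtain ⟨i, rfl⟩ := hz
      intro g
      obtain ⟨s, t, hst⟩ := CurvesC.BlowUpSec.exists_sub_eq hb hxy hx hy g
      refine ⟨s • res F le_top (e i), t • res F le_top (e i), ?_⟩
      rw [res_smul, res_smul, res_res, res_res, ← hst, sub_smul]
    | zero => exact fun g => ⟨0, 0, by rw [map_zero, map_zero, smul_zero, sub_zero]⟩
    | add z w _ _ ihz ihw =>
      intro g
      obtain ⟨s, t, hst⟩ := ihz g
      obtain ⟨s', t', hst'⟩ := ihw g
      refine ⟨s + s', t + t', ?_⟩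
      rw [map_add, map_add, smul_add, ← hst, ← hst']
      abel
    | smul a z _ ihz =>
      intro g
      obtain ⟨s, t, hst⟩ := ihz (g * a)
      exact ⟨s, t, by rw [hst, mul_smul]⟩
  obtain ⟨s, t, hst⟩ := key 1
  exact ⟨s, t, by rw [hst, one_smul]⟩

/-- Stacks Tag 0AGS (3), globally generated case: let A be a regular local ring of dimension two and b : X → Spec A a blowing up in the maximal ideal. If F is a quasi-coherent O_X-module which is globally generated, then H^1(X, F) = 0. -/
theorem result (A : Type u) [CommRing A] [IsRegularLocalRing A] (hA : ringKrullDim A = 2)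
    (X : Scheme.{u}) (b : X ⟶ Spec (CommRingCat.of A)) (hb : BlowUp.IsBlowUp b (Curv2.idealSheaf A (IsLocalRing.maximalIdeal A)))
    (F : X.Modules) (hF : Coh.IsQCoh F) (hgg : Curv2.IsGloballyGenerated F) : Subsingleton (Coh.HH X F 1) := by
  obtain ⟨x, y, hxy⟩ := exists_generators A hA
  exact subsingleton_one_of_gg hb hxy F hF hgg

end Groth.Agent.S1624
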