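import Groth.Statements.S1630
import Groth.Agent.VarietyB.BaseExt1
import Mathlib.Topology.Sets.OpenCover
-- import your own Groth.Agent.* helpers here

set_option autoImplicit false
universe u
open CategoryTheory CategoryTheory.Limits AlgebraicGeometry
open Variety

namespace Groth.Agent.S1630

/-- Stacks Tag 038G, (4) implies (1): let X be a scheme over k. If X has a cover by a nonempty family of open subschemes, each geometrically irreducible over k and any two of which meet, then X is geometrically irreducible over k. -/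
theorem result (k : Type u) [Field k] (X : Scheme.{u}) [X.Over (Spec (CommRingCat.of k))]
    (ι : Type u) (U : ι → X.Opens) (hne : Nonempty ι) (hcov : (⨆ i, U i) = ⊤)
    (hmeet : ∀ i j, ((U i : Set X) ∩ (U j : Set X)).Nonempty)
    (hU : ∀ i, GeometricallyIrreducible ((U i).ι ≫ (X ↘ (Spec (CommRingCat.of k))))) : GeometricallyIrreducible (X ↘ (Spec (CommRingCat.of k))) := by
  refine ⟨geometrically_iff_of_isClosedUnderIsomorphisms.mpr fun K _ y => ?_⟩
  set f := X ↘ (Spec (CommRingCat.of k)) with hf
  let p := pullback.fst f y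
  have hy : Surjective y := Groth.Agent.VarietyB.BaseExt1.surjective_of_subsingleton y
  have hp : Surjective p := inferInstance
  have hirr : ∀ i, IrreducibleSpace ↥(p ⁻¹ᵁ U i) := fun i =>
    (hU i).geometrically_irreducibleSpace y (p ∣_ U i) ((p ⁻¹ᵁ U i).ι ≫ pullback.snd f y)
      ((isPullback_morphismRestrict p (U i)).flip.paste_horiz (IsPullback.of_hasPullback f y).flip).flip
  have hcov' : TopologicalSpace.IsOpenCover (fun i => p ⁻¹ᵁ U i) := by
    refine TopologicalSpace.IsOpenCover.mk ?_
    rw [← Scheme.Hom.preimage_iSup, hcov, Scheme.Hom.preimage_top]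
  have hpre : PreirreducibleSpace ↥(pullback f y) := by
    refine PreirreducibleSpace.of_isOpenCover (U := fun i => p ⁻¹ᵁ U i) ?_ hcov'
      (fun i => (hirr i).toPreirreducibleSpace)
    intro i j _
    obtain ⟨x, hxi, hxj⟩ := hmeet i j
    obtain ⟨z, rfl⟩ := p.surjective x
    intro hd
    have := hd.le_bot (show z ∈ (p ⁻¹ᵁ U i) ⊓ (p ⁻¹ᵁ U j) from ⟨hxi, hxj⟩)
    exact this
  have : Nonempty ↥(pullback f y) := by
    obtain ⟨z⟩ := (hirr hne.some).toNonempty
    exact ⟨z.1⟩
  exact ⟨inferInstance⟩

end Groth.Agent.S1630
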