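import Groth.Statements.S1631
import Groth.Agent.CurvesC.NodalComplete

set_option autoImplicit false
universe u
open Curves

namespace Groth.Agent.S1631

/-- Stacks Tag 0C49, (1) iff (3): let (A, m, κ) be a Noetherian local k-algebra. The following are equivalent: (i) κ is separable over k, A is reduced, m/m^2 has dimension two, and there are x, y spanning m modulo m^2 and a, b, c ∈ A whose residues form a nondegenerate quadratic form with a x^2 + b xy + c y^2 ∈ m^3; (ii) κ is separable over k and the m-adic completion of A is isomorphic, compatibly with the maps from k, to κ[[u, v]]/(a' u^2 + b' uv + c' v^2) for a nondegenerate quadratic form over κ. -/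
theorem result (k : Type u) [Field k] (A : Type u) [CommRing A] [IsLocalRing A] [IsNoetherianRing A]
    [Algebra k A] :
    (Algebra.IsSeparable k (IsLocalRing.ResidueField A) ∧ IsReduced A ∧
      Module.finrank (IsLocalRing.ResidueField A) (IsLocalRing.CotangentSpace A) = 2 ∧
      ∃ x y a b c : A, x ∈ IsLocalRing.maximalIdeal A ∧ y ∈ IsLocalRing.maximalIdeal A ∧
        Ideal.span {x, y} ⊔ IsLocalRing.maximalIdeal A ^ 2 = IsLocalRing.maximalIdeal A ∧
        IsLocalRing.residue A (4 * a * c - b ^ 2) ≠ 0 ∧
        a * x ^ 2 + b * x * y + c * y ^ 2 ∈ IsLocalRing.maximalIdeal A ^ 3) ↔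
    (Algebra.IsSeparable k (IsLocalRing.ResidueField A) ∧
      ∃ a b c : IsLocalRing.ResidueField A, 4 * a * c - b ^ 2 ≠ 0 ∧
        ∃ e : AdicCompletion (IsLocalRing.maximalIdeal A) A ≃+*
            (MvPowerSeries (Fin 2) (IsLocalRing.ResidueField A) ⧸ Ideal.span
              {(MvPowerSeries.C a * MvPowerSeries.X 0 ^ 2 + MvPowerSeries.C b * MvPowerSeries.X 0 * MvPowerSeries.X 1 +
                MvPowerSeries.C c * MvPowerSeries.X 1 ^ 2 : MvPowerSeries (Fin 2) (IsLocalRing.ResidueField A))}),
          ∀ t : k, e (algebraMap A _ (algebraMap k A t)) =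
            Ideal.Quotient.mk _ (MvPowerSeries.C (algebraMap A (IsLocalRing.ResidueField A) (algebraMap k A t)))) := by
  constructor
  · rintro ⟨hsep, hred, hfr, x, y, a, b, c, hx, hy, hxy, hd, hq⟩
    exact ⟨hsep, Groth.Agent.CurvesC.NodalComplete.forward k A hsep hred hfr x y a b c hx hy hxy hd hq⟩
  · rintro ⟨hsep, a, b, c, hd, e, -⟩
    obtain ⟨h1, h2, h3⟩ := Groth.Agent.CurvesC.NodalComplete.backward A a b c hd e
    exact ⟨hsep, h1, h2, h3⟩

end Groth.Agent.S1631
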