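import Groth.Statements.S1638
import Mathlib.Algebra.Algebra.Subalgebra.Centralizer
import Mathlib.RingTheory.Flat.Basic
import Mathlib.LinearAlgebra.Basis.VectorSpace
import Mathlib.LinearAlgebra.FreeModule.Basic

set_option autoImplicit false
universe u
open Brauer

namespace Groth.Agent.S1638

/-- Stacks Tag 0749: let A and A' be algebras over a field k with subalgebras B ⊆ A and B' ⊆ A' having centralizers C and C'. Then the centralizer of the image of B ⊗ B' in A ⊗_k A' is the image of C ⊗_k C'. -/
theorem result (k : Type u) [Field k] (A A' : Type u) [Ring A] [Ring A'] [Algebra k A] [Algebra k A']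
    (B : Subalgebra k A) (B' : Subalgebra k A') :
    Subalgebra.centralizer k ((Algebra.TensorProduct.map B.val B'.val).range : Set (TensorProduct k A A')) =
      (Algebra.TensorProduct.map (Subalgebra.centralizer k (B : Set A)).val (Subalgebra.centralizer k (B' : Set A')).val).range := by
  ext w
  constructor
  · intro hw
    rw [Subalgebra.mem_centralizer_iff] at hw
    have h1 : w ∈ Subalgebra.centralizer k
        ((Algebra.TensorProduct.includeLeft (R := k) (S := k) (A := A) (B := A')) '' (B : Set A)) := by
      rw [Subalgebra.mem_centralizer_iff]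
      rintro _ ⟨b, hb, rfl⟩
      apply hw
      exact ⟨(⟨b, hb⟩ : B) ⊗ₜ[k] (1 : B'), by simp⟩
    rw [Subalgebra.centralizer_coe_image_includeLeft_eq_center_tensorProduct] at h1
    obtain ⟨w', rfl⟩ := h1
    have hinj : Function.Injective (Algebra.TensorProduct.map
        (Subalgebra.centralizer k (B : Set A)).val (AlgHom.id k A')) :=
      Module.Flat.rTensor_preserves_injective_linearMap (M := A')
        (Subalgebra.centralizer k (B : Set A)).val.toLinearMap Subtype.val_injective
    have h2 : w' ∈ Subalgebra.centralizer k
        ((Algebra.TensorProduct.includeRight (R := k)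
          (A := Subalgebra.centralizer k (B : Set A)) (B := A')) '' (B' : Set A')) := by
      rw [Subalgebra.mem_centralizer_iff]
      rintro _ ⟨b, hb, rfl⟩
      apply hinj
      rw [map_mul, map_mul]
      refine hw _ ⟨(1 : B) ⊗ₜ[k] (⟨b, hb⟩ : B'), ?_⟩
      simp
    rw [Subalgebra.centralizer_coe_image_includeRight_eq_center_tensorProduct] at h2
    obtain ⟨w'', rfl⟩ := h2
    refine ⟨w'', ?_⟩
    have : (Algebra.TensorProduct.map (Subalgebra.centralizer k (B : Set A)).val
        (Subalgebra.centralizer k (B' : Set A')).val) =
        (Algebra.TensorProduct.map (Subalgebra.centralizer k (B : Set A)).val (AlgHom.id k A')).comp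
        (Algebra.TensorProduct.map (AlgHom.id k _) (Subalgebra.centralizer k (B' : Set A')).val) := by
      ext <;> simp
    exact congrArg (fun f => f w'') this
  · rintro ⟨w, rfl⟩
    rw [Subalgebra.mem_centralizer_iff]
    rintro _ ⟨v, rfl⟩
    induction w using TensorProduct.induction_on with
    | zero => simp
    | add x y hx hy => rw [map_add, mul_add, add_mul, hx, hy]
    | tmul c c' =>
      induction v using TensorProduct.induction_on with
      | zero => simp
      | add x y hx hy => rw [map_add, mul_add, add_mul, hx, hy]
      | tmul b b' =>
        have h1 := Subalgebra.mem_centralizer_iff _ |>.1 c.2 b b.2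
        have h2 := Subalgebra.mem_centralizer_iff _ |>.1 c'.2 b' b'.2
        simp [h1, h2]

end Groth.Agent.S1638
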