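import Groth.Statements.S1640
import Groth.Agent.VarietyB.SemilocalDedekind

set_option autoImplicit false
universe u
open Variety

namespace Groth.Agent.S1640

/-- Stacks Tag 09N5: let K be a field, A ⊆ K a subring with fraction field K, and B_1, …, B_r ⊆ K Noetherian one-dimensional subrings with finitely many maximal ideals and fraction field K, such that for each i the subring generated by A and B_i is all of K. Then some nonzero x ∈ A has x⁻¹ lying in B_i and in the Jacobson radical of B_i for every i. -/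
theorem result (K : Type u) [Field K] (A : Subring K) [IsFractionRing A K]
    (r : ℕ) (B : Fin r → Subring K) [∀ i, IsNoetherianRing (B i)] [∀ i, IsFractionRing (B i) K]
    (hdim : ∀ i, ringKrullDim (B i) = 1) (hsl : ∀ i, Finite (MaximalSpectrum (B i)))
    (hgen : ∀ i, A ⊔ B i = ⊤) :
    ∃ x : K, x ∈ A ∧ x ≠ 0 ∧ ∀ i, ∃ hx : x⁻¹ ∈ B i, (⟨x⁻¹, hx⟩ : B i) ∈ (⊥ : Ideal (B i)).jacobson := by
  classical
  have hdim' : ∀ i, Ring.KrullDimLE 1 (B i) := fun i ↦
    Groth.Agent.VarietyB.SemilocalDedekind.krullDimLE_one _ (hdim i)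
  have hf : ∀ i, ¬ IsField (B i) := fun i ↦
    Groth.Agent.VarietyB.SemilocalDedekind.not_isField _ (hdim i)
  have hD : ∀ i, IsDedekindDomain (integralClosure (B i) K) := fun i ↦
    Groth.Agent.VarietyB.SemilocalDedekind.isDedekindDomain_of_isIntegralClosure (B i) K K _
  have hinj : ∀ i, Function.Injective (algebraMap (B i) (integralClosure (B i) K)) :=
    fun i ↦ FaithfulSMul.algebraMap_injective _ _
  have hfin : ∀ i, Finite (MaximalSpectrum (integralClosure (B i) K)) := fun i ↦
    Groth.Agent.VarietyB.SemilocalDedekind.finite_maximalSpectrum (B i) (hsl i) (hf i) _ (hinj i)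
  have hfin' : ∀ i, Finite (IsDedekindDomain.HeightOneSpectrum (integralClosure (B i) K)) :=
    fun i ↦ by
      have := hfin i
      refine Finite.of_injective (β := MaximalSpectrum (integralClosure (B i) K))
        (fun v ↦ ⟨v.asIdeal, v.isPrime.isMaximal v.ne_bot⟩) ?_
      intro v w h
      exact IsDedekindDomain.HeightOneSpectrum.ext (congrArg (fun m ↦ m.asIdeal) h)
  have hfr : ∀ i, IsFractionRing (integralClosure (B i) K) K := fun i ↦
    integralClosure.isFractionRing_of_finite_extension K K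
  have hC : ∀ i, ¬ IsField (integralClosure (B i) K) := fun i h ↦
    hf i (isField_of_isIntegral_of_isField (hinj i) h)
  let J := Σ i, IsDedekindDomain.HeightOneSpectrum (integralClosure (B i) K)
  have : Fintype J := Fintype.ofFinite J
  obtain ⟨x, hxA, hx0, hx⟩ := Groth.Agent.VarietyB.SemilocalDedekind.exists_forall_one_lt
    (J := J) (fun j ↦ j.2.valuation K) A (fun j ↦
      Groth.Agent.VarietyB.SemilocalDedekind.exists_one_lt_of_sup_eq_top A (B j.1)
        (fun b hb ↦ ⟨algebraMap (B j.1) (integralClosure (B j.1) K) ⟨b, hb⟩, rfl⟩)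
        (hgen j.1) j.2) Finset.univ
  have h1 : ∀ i, ∃ c : integralClosure (B i) K,
      c ∈ (⊥ : Ideal (integralClosure (B i) K)).jacobson ∧ c.1 = x⁻¹ := fun i ↦
    Groth.Agent.VarietyB.SemilocalDedekind.inv_mem_jacobson (hC i) x
      (fun v ↦ hx ⟨i, v⟩ (Finset.mem_univ _))
  choose c hc1 hc2 using h1
  have h2 : ∀ i, ∃ n : ℕ, (x⁻¹) ^ (n + 1) ∈ B i := fun i ↦ by
    obtain ⟨n, b, hb⟩ := Groth.Agent.VarietyB.SemilocalDedekind.exists_pow_mul_mem (B i)
      (c i) (c i) (hc1 i)
    refine ⟨n, ?_⟩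
    have : (x⁻¹) ^ (n + 1) = b.1 := by
      rw [← hc2 i, pow_succ]
      exact hb.symm
    rw [this]
    exact b.2
  choose n hn using h2
  have h3 : ∀ i, (x⁻¹) ^ (∏ j, (n j + 1)) ∈ B i := fun i ↦ by
    rw [← Finset.mul_prod_erase Finset.univ (fun j ↦ n j + 1) (Finset.mem_univ i), pow_mul]
    exact (B i).pow_mem (hn i) _
  have hN : 0 < ∏ j, (n j + 1) := Finset.prod_pos fun j _ ↦ Nat.succ_pos _
  refine ⟨x ^ (∏ j, (n j + 1)), A.pow_mem hxA _, pow_ne_zero _ hx0, fun i ↦ ?_⟩
  have h4 : (x ^ (∏ j, (n j + 1)))⁻¹ ∈ B i := by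
    rw [← inv_pow]; exact h3 i
  refine ⟨h4, ?_⟩
  refine Groth.Agent.VarietyB.SemilocalDedekind.mem_jacobson_of_algebraMap_mem
    (C := integralClosure (B i) K) (hinj i) ?_
  have h5 : algebraMap (B i) (integralClosure (B i) K) ⟨_, h4⟩ = c i ^ (∏ j, (n j + 1)) := by
    apply Subtype.ext
    rw [SubmonoidClass.coe_pow, hc2 i, inv_pow]
    rfl
  rw [h5]
  exact Ideal.pow_mem_of_mem _ (hc1 i) _ hN

end Groth.Agent.S1640
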