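import Groth.Statements.S1644
import Groth.Agent.VarietyB.LiftInvFinal

set_option autoImplicit false
universe u
open CategoryTheory CategoryTheory.Limits AlgebraicGeometry
open Variety

namespace Groth.Agent.S1644

/-- Stacks Tag 09NY: let i : Z → X be a closed immersion where the topological space of X is Noetherian of dimension at most one. Then every invertible O_Z-module is isomorphic to the pullback of an invertible O_X-module. -/
theorem result {Z X : Scheme.{u}} (i : Z ⟶ X) [IsClosedImmersion i]
    [TopologicalSpace.NoetherianSpace X] (hdim : topologicalKrullDim X ≤ 1)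
    (L : Z.Modules) (hL : PicF.IsInvertible L) :
    ∃ L' : X.Modules, PicF.IsInvertible L' ∧ Nonempty ((Scheme.Modules.pullback i).obj L' ≅ L) :=
  Groth.Agent.VarietyB.LiftInvFinal.exists_lift hdim hL

end Groth.Agent.S1644
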