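import Groth.Statements.S1645
import Groth.Agent.VarietyB.GlobGen
import Groth.Agent.VarietyB.CartierDatum
import Groth.Agent.VarietyA.Glue2

set_option autoImplicit false
universe u
open CategoryTheory CategoryTheory.Limits AlgebraicGeometry
open Variety

namespace Groth.Agent.S1645

/-- Stacks Tag 09NB: let X be integral and separated and U a nonempty affine open outside of which there are only finitely many points, each with a one-dimensional Noetherian local ring. Then there are a globally generated invertible module L and a global section s with U equal to the locus where s generates L. -/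
theorem result (X : Scheme.{u}) [IsIntegral X] [X.IsSeparated]
    (U : X.Opens) (hU : IsAffineOpen U) (hne : (U : Set X).Nonempty) (hfin : ((U : Set X)ᶜ).Finite)
    (hloc : ∀ x : X, x ∉ U → IsNoetherianRing (X.presheaf.stalk x) ∧ ringKrullDim (X.presheaf.stalk x) = 1) :
    ∃ (L : X.Modules) (s : Coh.structureModule X ⟶ L), PicF.IsInvertible L ∧ Curv2.IsGloballyGenerated L ∧
      CohB1.genLocus L s = U := by
  obtain ⟨U', f, g, hcov, hfg, hg⟩ :=
    Groth.Agent.VarietyB.CartierDatum.exists_datum X U hU hne hfin hloc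
  obtain ⟨L, eU, eV, hL, hgU, hgV, hglue⟩ := Groth.Agent.VarietyA.Glue2.exists_glued_two U U' hcov
    (X.presheaf.map (homOfLE (inf_le_right : U ⊓ U' ≤ U')).op g)
    (IsUnit.of_mul_eq_one _ ((mul_comm _ _).trans hfg))
  obtain ⟨s, hs1, hs2⟩ := Groth.Agent.VarietyA.Glue2.exists_msec_two L U U' hcov eU (g • eV) (by
    rw [Groth.Agent.VarietyA.Glue2.mres_smul]
    exact hglue)
  obtain ⟨t, ht1, ht2⟩ := Groth.Agent.VarietyA.Glue2.exists_msec_two L U U' hcov (f • eU) eV (by
    rw [Groth.Agent.VarietyA.Glue2.mres_smul, hglue, smul_smul]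
    refine Eq.trans ?_ (one_smul Γ(X, U ⊓ U') _)
    exact congrArg (fun a : Γ(X, U ⊓ U') ↦ a • _) hfg)
  have hU' : U ≤ CohB1.genLocus L (Groth.Agent.Fdesc.LocGen.homOf s) := by
    rw [Groth.Agent.Fdesc.LocGen.le_genLocus_iff, Groth.Agent.Fdesc.LocGen.sec_homOf]
    have : Groth.Agent.Fdesc.LocGen.res L le_top s = eU := hs1
    rw [this]
    exact hgU
  have hV' : U' ≤ CohB1.genLocus L (Groth.Agent.Fdesc.LocGen.homOf t) := by
    rw [Groth.Agent.Fdesc.LocGen.le_genLocus_iff, Groth.Agent.Fdesc.LocGen.sec_homOf]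
    have : Groth.Agent.Fdesc.LocGen.res L le_top t = eV := ht2
    rw [this]
    exact hgV
  have hUU' : ∀ x : X, x ∈ U ∨ x ∈ U' := fun x ↦ by
    have : x ∈ U ⊔ U' := hcov ▸ trivial
    exact this
  refine ⟨L, Groth.Agent.Fdesc.LocGen.homOf s, hL, ?_, ?_⟩
  · refine Groth.Agent.VarietyB.GlobGen.isGloballyGenerated_of_cover (κ := ULift.{u} Bool)
      (fun b ↦ Bool.rec (Groth.Agent.Fdesc.LocGen.homOf s) (Groth.Agent.Fdesc.LocGen.homOf t) b.down)
      fun x ↦ ?_
    rcases hUU' x with hx | hx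
    · exact ⟨⟨false⟩, hU' hx⟩
    · exact ⟨⟨true⟩, hV' hx⟩
  · refine le_antisymm ?_ hU'
    intro x hx
    by_contra hxU
    obtain ⟨hxU', hnu⟩ := hg x hxU
    have hsec : Groth.Agent.Fdesc.LocGen.sec (Groth.Agent.Fdesc.LocGen.homOf s) U' = g • eV := by
      rw [Groth.Agent.Fdesc.LocGen.sec_homOf]
      exact hs2
    have h1 := Groth.Agent.Fdesc.LocGen.genLocus_inf_eq (Groth.Agent.Fdesc.LocGen.homOf s)
      (e := eV) hgV hsec
    have h2 : x ∈ X.basicOpen g := h1 ▸ (show x ∈ _ ⊓ U' from ⟨hx, hxU'⟩)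
    rw [Scheme.mem_basicOpen _ _ _ hxU'] at h2
    exact hnu h2

end Groth.Agent.S1645
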