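import Groth.Statements.S1646
import Groth.Agent.VarietyB.FlatH0
import Groth.Agent.VarietyB.GGStalk

set_option autoImplicit false
universe u
open CategoryTheory CategoryTheory.Limits AlgebraicGeometry
open Variety

namespace Groth.Agent.S1646

open Groth.Agent.VarietyB.PullSec Groth.Agent.VarietyB.BCAlg Groth.Agent.VarietyB.FlatH0
open Groth.Agent.VarietyB.GGStalk Groth.Agent.Fdesc.PullbackStalk

theorem descend {A B : CommRingCat.{u}} {X Y : Scheme.{u}} {g : Y ⟶ X} {φ : A ⟶ B} {iX : X ⟶ Spec A}
    {iY : Y ⟶ Spec B} (H : IsPullback g iY iX (Spec.map φ)) (hφ : φ.hom.FaithfullyFlat)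
    [CompactSpace X] [QuasiSeparatedSpace X] (F : X.Modules) (hF : Coh.IsQCoh F)
    (h : Curv2.IsGloballyGenerated ((Scheme.Modules.pullback g).obj F)) :
    Curv2.IsGloballyGenerated F := by
  obtain ⟨h1, h2⟩ := (flat_and_surjective_SpecMap_iff φ).mpr hφ
  have hg : Flat g := MorphismProperty.of_isPullback (P := @Flat) H.flip h1
  have hg' : Surjective g := MorphismProperty.of_isPullback (P := @Surjective) H.flip h2
  rw [isGloballyGenerated_iff_span] at h ⊢
  intro x
  obtain ⟨y, rfl⟩ := g.surjective x
  apply span_of_span_canAdd g F y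
  rw [eq_top_iff, ← h y, Submodule.span_le]
  rintro _ ⟨t, rfl⟩
  have hbc := (isBC_top H F hF).span_eq_top
  let i4 : Module Γ(Spec B, ⊤) Γ((Scheme.Modules.pullback g).obj F, ⊤) :=
    modOver iY ((Scheme.Modules.pullback g).obj F) le_top
  have ht : t ∈ Submodule.span Γ(Spec B, ⊤) (Set.range (sec g F (U := ⊤) (V := ⊤) le_top)) := by
    rw [hbc]
    exact Submodule.mem_top
  refine Submodule.span_induction (p := fun t _ =>
    ((Scheme.Modules.pullback g).obj F).presheaf.germ ⊤ y trivial t ∈
      Submodule.span (Y.presheaf.stalk y) (canAdd g F y '' Set.range fun s : Γ(F, ⊤) =>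
        F.presheaf.germ ⊤ (g.base y) trivial s)) ?_ ?_ ?_ ?_ ht
  · rintro _ ⟨s, rfl⟩
    rw [germ_sec]
    exact Submodule.subset_span ⟨_, ⟨s, rfl⟩, rfl⟩
  · rw [map_zero]
    exact Submodule.zero_mem _
  · intro a b _ _ ha hb
    rw [map_add]
    exact Submodule.add_mem _ ha hb
  · intro r a _ ha
    have key : ((Scheme.Modules.pullback g).obj F).presheaf.germ ⊤ y trivial
        ((iY.appLE ⊤ ⊤ le_top r : Γ(Y, ⊤)) • a) =
        Y.presheaf.germ ⊤ y trivial (iY.appLE ⊤ ⊤ le_top r) •
          ((Scheme.Modules.pullback g).obj F).presheaf.germ ⊤ y trivial a :=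
      Groth.Agent.CycB.StalkExact.germ_smul (U := ⊤) y trivial _ _
    have := Submodule.smul_mem _ (Y.presheaf.germ ⊤ y trivial (iY.appLE ⊤ ⊤ le_top r)) ha
    rw [← key] at this
    exact this

/-- Stacks Tag 0B57: global generation of a quasi-coherent module on a scheme over A can be tested after a faithfully flat base change A → A' (with X → Spec A quasi-compact and quasi-separated, as the source's proof requires). -/
theorem result (A A' : Type u) [CommRing A] [CommRing A'] [Algebra A A']
    [Module.FaithfullyFlat A A'] (X : Scheme.{u}) (f : X ⟶ Spec (CommRingCat.of A)) [QuasiCompact f] [QuasiSeparated f]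
    (F : X.Modules) (hF : Coh.IsQCoh F) :
    Curv2.IsGloballyGenerated F ↔ Curv2.IsGloballyGenerated
      ((Scheme.Modules.pullback (pullback.fst f (Spec.map (CommRingCat.ofHom (algebraMap A A'))))).obj F) := by
  have : CompactSpace X := QuasiCompact.compactSpace_of_compactSpace f
  have : QuasiSeparatedSpace X := quasiSeparatedSpace_of_quasiSeparated f
  refine ⟨isGloballyGenerated_pullback _ F, fun h => ?_⟩
  refine descend (IsPullback.of_hasPullback f (Spec.map (CommRingCat.ofHom (algebraMap A A')))) ?_ F hF h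
  change (algebraMap A A').FaithfullyFlat
  rw [RingHom.faithfullyFlat_algebraMap_iff]
  infer_instance

end Groth.Agent.S1646
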