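import Groth.Statements.S1648
-- import your own Groth.Agent.* helpers here
import Groth.Agent.CurvesC.ValData
import Groth.Agent.CurvesC.CousinAlg
import Groth.Agent.CurvesC.Cousin

set_option autoImplicit false
universe u
open CategoryTheory CategoryTheory.Limits AlgebraicGeometry
open Resolve

namespace Groth.Agent.S1648

/-- Stacks Tag 0B4Q: a Nagata regular local ring of dimension two defines a rational singularity: every normal modification of its spectrum has vanishing H^1 of the structure sheaf. -/
theorem result (A : Type u) [CommRing A] [IsRegularLocalRing A] (hN : CAlg.IsNagata A)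
    (hdim : ringKrullDim A = 2) : Curv2.IsRationalSing A := by
  intro X f hf hint hnorm hiso
  have hdom := Groth.Agent.CurvesC.RegNormal.isDomain A
  have hcpt : CompactSpace X := QuasiCompact.compactSpace_of_compactSpace f
  letI := (Groth.Agent.CurvesC.ValData.toK f).toAlgebra
  have hfrac : IsFractionRing A X.functionField := Groth.Agent.CurvesC.ValData.isFractionRing_toK f hiso
  refine Groth.Agent.CurvesC.Cousin.subsingleton_HH_one X fun n U hη hU hcov φ hφ => ?_
  choose T hT using fun i => Groth.Agent.CurvesC.ValData.exists_finset f (hU i) (hη i)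
  obtain ⟨g, hg⟩ := Groth.Agent.CurvesC.CousinAlg.cousin_solvable A hdim T φ
    (fun V hV => by
      obtain ⟨i, hi⟩ := Groth.Agent.CurvesC.ValData.exists_index f hV U hη hcov
      exact ⟨i, (hT i V hV).mpr hi⟩)
    (fun V hV i j hi hj => by
      obtain ⟨s, hs⟩ := hφ i j
      rw [← hs]
      exact Groth.Agent.CurvesC.ValData.mem_inter f (hU i) (hU j) (hη i) (hη j)
        ((hT i V hV).mp hi) ((hT j V hV).mp hj) s)
  refine ⟨g, fun i => Groth.Agent.CurvesC.ValData.exists_germ_eq hnorm (hU i) (hη i) _ fun V hV => ?_⟩
  have hVA : ∀ a, Groth.Agent.CurvesC.ValData.toK f a ∈ V := fun a => by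
    rw [← Groth.Agent.CurvesC.ValData.germ_toSec f (U i) (hη i)]
    exact hV _
  exact hg V hVA i ((hT i V hVA).mpr hV)

end Groth.Agent.S1648
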