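import Groth.Statements.S1651
import Groth.Agent.VarietyB.Delta
import Mathlib.AlgebraicGeometry.Morphisms.Flat

set_option autoImplicit false
universe u
open CategoryTheory CategoryTheory.Limits AlgebraicGeometry
open Variety

namespace Groth.Agent.S1651

/-- Stacks Tag 0C3X: let X be locally of finite type over k, K a field extension, y a point of X_K with image x. Assume X is geometrically reduced at x and the local rings at x and at y both have dimension one. Then the δ-invariant of X at x is at most the δ-invariant of X_K at y. -/
theorem result (k : Type u) [Field k] (X : Scheme.{u}) [X.Over (Spec (CommRingCat.of k))] [LocallyOfFiniteType (X ↘ (Spec (CommRingCat.of k)))] (K : Type u) [Field K] [Algebra k K]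
    (y : Curv2.bc k X K) (hx : Curv2.IsGeomReducedAt k X (Curv2.bcFst k X K y))
    (hdx : ringKrullDim (X.presheaf.stalk (Curv2.bcFst k X K y)) = 1)
    (hdy : ringKrullDim ((Curv2.bc k X K).presheaf.stalk y) = 1) :
    Curv2.deltaInv (X.presheaf.stalk (Curv2.bcFst k X K y)) ≤ Curv2.deltaInv ((Curv2.bc k X K).presheaf.stalk y) := by
  have hF : Flat (Spec.map (CommRingCat.ofHom (algebraMap k K))) := inferInstance
  have hF' : Flat (Curv2.bcFst k X K) := inferInstance
  algebraize [((Curv2.bcFst k X K).stalkMap y).hom]
  have : Module.FaithfullyFlat (X.presheaf.stalk (Curv2.bcFst k X K y))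
      ((Curv2.bc k X K).presheaf.stalk y) :=
    @Module.FaithfullyFlat.of_flat_of_isLocalHom _ _ _ _ _ _ _
      (Flat.stalkMap (Curv2.bcFst k X K) y) ((Curv2.bcFst k X K).toLRSHom.prop y)
  exact Groth.Agent.VarietyB.Delta.deltaInv_le_of_faithfullyFlat _ _

end Groth.Agent.S1651
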