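import Groth.Statements.S1652
import Groth.Agent.VarietyB.InvPair
import Mathlib.AlgebraicGeometry.FunctionField

set_option autoImplicit false
universe u
open CategoryTheory CategoryTheory.Limits AlgebraicGeometry
open Variety

namespace Groth.Agent.S1652

open Groth.Agent.VarietyB.InvPair Opposite

variable {X : Scheme.{u}}

/-- a morphism out of the structure sheaf is determined by the image of `1`. -/
lemma app_eq (L : X.Modules) (s : Coh.structureModule X ⟶ L) (U : X.Opens) (a : Γ(X, U)) :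
    s.app U a = a • L.presheaf.map (homOfLE le_top).op (s.app ⊤ (1 : Γ(X, ⊤))) := by
  have h1 : s.app U (1 : Γ(X, U)) = L.presheaf.map (homOfLE le_top).op (s.app ⊤ (1 : Γ(X, ⊤))) := by
    have h2 := congr($(s.mapPresheaf.naturality (homOfLE (le_top : U ≤ ⊤)).op) (1 : Γ(X, ⊤)))
    refine Eq.trans ?_ h2
    change s.app U _ = s.app U (X.presheaf.map (homOfLE (le_top : U ≤ ⊤)).op 1)
    rw [map_one]
  rw [← h1]
  have h3 := Scheme.Modules.Hom.app_smul s a (1 : Γ(X, U))
  refine Eq.trans ?_ h3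
  change s.app U a = s.app U (a * 1 : Γ(X, U))
  rw [mul_one]

/-- On an integral scheme a section of an invertible module vanishing on a nonempty open vanishes. -/
lemma eq_zero_of_restrict [IsIntegral X] {L : X.Modules} (hL : PicF.IsInvertible L)
    (s : Γ(L, (⊤ : X.Opens))) (U : X.Opens) [hne : Nonempty U]
    (h : L.presheaf.map (homOfLE (le_top : U ≤ ⊤)).op s = 0) : s = 0 := by
  choose V hV l hl using fun x => exists_isGen hL x
  have hcov : (⊤ : X.Opens) ≤ ⨆ x, V x := fun x _ => TopologicalSpace.Opens.mem_iSup.mpr ⟨x, hV x⟩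
  refine TopCat.Sheaf.eq_of_locally_eq' ⟨L.presheaf, L.isSheaf⟩ V ⊤ (fun x => homOfLE le_top) hcov s 0 ?_
  intro x
  rw [map_zero]
  obtain ⟨a, ha⟩ := (hl x (V x) le_rfl).2 (L.presheaf.map (homOfLE (le_top : V x ≤ ⊤)).op s)
  have : Nonempty (↑(V x ⊓ U) : Scheme.{u}) := by
    have h1 : ((V x : Set X) ∩ (U : Set X)).Nonempty :=
      nonempty_preirreducible_inter (V x).isOpen U.isOpen ⟨x, hV x⟩ (Set.nonempty_coe_sort.mp hne)
    exact Set.nonempty_coe_sort.mpr h1
  have h2 : L.presheaf.map (homOfLE (inf_le_left : V x ⊓ U ≤ V x)).op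
      (L.presheaf.map (homOfLE (le_top : V x ≤ ⊤)).op s) = 0 := by
    have h3 := congr(L.presheaf.map (homOfLE (inf_le_right : V x ⊓ U ≤ U)).op $h)
    rw [map_zero] at h3
    rw [← h3, ← ConcreteCategory.comp_apply, ← ConcreteCategory.comp_apply, ← Functor.map_comp, ← Functor.map_comp]
    rfl
  have h4 : X.presheaf.map (homOfLE (inf_le_left : V x ⊓ U ≤ V x)).op a = 0 := by
    apply (hl x (V x ⊓ U) inf_le_left).1
    simp only [zero_smul]
    rw [← h2, ← ha]
    simp only [Scheme.Modules.map_smul]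
    rw [← ConcreteCategory.comp_apply, ← Functor.map_comp]
    rfl
  have h5 : a = 0 := by
    apply map_injective_of_isIntegral X (homOfLE (inf_le_left : V x ⊓ U ≤ V x))
    rw [map_zero]
    exact h4
  subst h5
  refine ha.symm.trans ?_
  exact zero_smul Γ(X, V x) _

/-- Stacks Tag 0B40 (3): on a proper curve over a field, if L and M are invertible modules with L ⊗ M ≅ O_X and both L and M have a nonzero global section, then L is isomorphic to the structure sheaf. -/
theorem result (k : Type u) [Field k] (X : Scheme.{u}) [X.Over (Spec (CommRingCat.of k))]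
    [IsIntegral X] [IsProper (X ↘ (Spec (CommRingCat.of k)))] (hdim : topologicalKrullDim X = 1)
    (L M : X.Modules) (hL : PicF.IsInvertible L) (hM : PicF.IsInvertible M) (hLM : ClSub.IsInverseOf L M)
    (s : Coh.structureModule X ⟶ L) (hs : s ≠ 0) (t : Coh.structureModule X ⟶ M) (ht : t ≠ 0) :
    Nonempty (L ≅ Coh.structureModule X) := by
  obtain ⟨e⟩ := hLM
  -- the global sections
  set s1 : Γ(L, ⊤) := s.app ⊤ (1 : Γ(X, ⊤)) with hs1
  set t1 : Γ(M, ⊤) := t.app ⊤ (1 : Γ(X, ⊤)) with ht1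
  have hs0 : s1 ≠ 0 := by
    intro h0
    apply hs
    ext U a
    refine (app_eq L s U a).trans ?_
    rw [← hs1, h0, map_zero, smul_zero]
    rfl
  have ht0 : t1 ≠ 0 := by
    intro h0
    apply ht
    ext U a
    refine (app_eq M t U a).trans ?_
    rw [← ht1, h0, map_zero, smul_zero]
    rfl
  set c : Γ(X, ⊤) := pair e.hom ⊤ s1 t1 with hc
  have hc0 : c ≠ 0 := by
    intro h0
    obtain ⟨x⟩ : Nonempty X := inferInstance
    obtain ⟨U, hxU, l, hl⟩ := exists_isGen hL x
    obtain ⟨V, hxV, m, hm⟩ := exists_isGen hM x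
    have : Nonempty (↑(U ⊓ V) : Scheme.{u}) := ⟨⟨x, hxU, hxV⟩⟩
    have hl' := hl.restrict (inf_le_left : U ⊓ V ≤ U)
    have hm' := hm.restrict (inf_le_right : U ⊓ V ≤ V)
    obtain ⟨α, hα⟩ := (hl (U ⊓ V) inf_le_left).2 (L.presheaf.map (homOfLE (le_top : U ⊓ V ≤ ⊤)).op s1)
    obtain ⟨β, hβ⟩ := (hm (U ⊓ V) inf_le_right).2 (M.presheaf.map (homOfLE (le_top : U ⊓ V ≤ ⊤)).op t1)
    dsimp only at hα hβ
    have hu := isUnit_pair e (U ⊓ V) _ _ hl' hm'
    have h1 : X.presheaf.map (homOfLE (le_top : U ⊓ V ≤ ⊤)).op c = 0 := by rw [h0, map_zero]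
    rw [hc, pair_map, ← hα, ← hβ, pair_smul_left, pair_smul_right, ← mul_assoc] at h1
    have h2 : α * β = 0 := by
      rcases mul_eq_zero.mp h1 with h | h
      · exact h
      · exact absurd h hu.ne_zero
    rcases mul_eq_zero.mp h2 with h | h
    · apply hs0
      apply eq_zero_of_restrict hL s1 (U ⊓ V)
      rw [← hα, h, zero_smul]
    · apply ht0
      apply eq_zero_of_restrict hM t1 (U ⊓ V)
      rw [← hβ, h, zero_smul]
  have hcu : IsUnit c := by
    have hF : IsField Γ(X, ⊤) := isField_of_universallyClosed k (X ↘ (Spec (CommRingCat.of k)))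
    obtain ⟨d, hd⟩ := hF.mul_inv_cancel hc0
    exact IsUnit.of_mul_eq_one d hd
  have hcU : ∀ U : X.Opens, IsUnit (X.presheaf.map (homOfLE (le_top : U ≤ ⊤)).op c) := fun U =>
    hcu.map (X.presheaf.map (homOfLE (le_top : U ≤ ⊤)).op).hom
  suffices hiso : IsIso s from ⟨(asIso s).symm⟩
  rw [Scheme.Modules.Hom.isIso_iff_isIso_app]
  intro U
  rw [ConcreteCategory.isIso_iff_bijective]
  constructor
  · intro a b hab
    change Γ(X, U) at a b
    rw [app_eq L s U a, app_eq L s U b] at hab
    have h1 := congrArg (fun l => pair e.hom U l (M.presheaf.map (homOfLE (le_top : U ≤ ⊤)).op t1)) hab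
    dsimp only at h1
    rw [pair_smul_left, pair_smul_left, ← hs1, ← pair_map] at h1
    exact (hcU U).mul_right_cancel h1
  · intro l
    obtain ⟨d, hd⟩ := (hcU U).exists_right_inv
    refine ⟨(d * pair e.hom U l (M.presheaf.map (homOfLE (le_top : U ≤ ⊤)).op t1) : Γ(X, U)), ?_⟩
    rw [app_eq L s U _, ← hs1]
    -- check locally
    have loc : ∀ (N : X.Opens) (hNU : N ≤ U) (g0 : Γ(L, N)) (g1 : Γ(M, N)) (_ : IsGen L N g0) (_ : IsGen M N g1),
        L.presheaf.map (homOfLE hNU).op
          ((d * pair e.hom U l (M.presheaf.map (homOfLE (le_top : U ≤ ⊤)).op t1) : Γ(X, U)) •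
            L.presheaf.map (homOfLE (le_top : U ≤ ⊤)).op s1) = L.presheaf.map (homOfLE hNU).op l := by
      intro N hNU g0 g1 hg0 hg1
      have hid : ∀ (P : X.Modules) (p : Γ(P, N)), P.presheaf.map (homOfLE (le_refl N)).op p = p := by
        intro P p
        have : (homOfLE (le_refl N)).op = 𝟙 (op N) := rfl
        rw [this, CategoryTheory.Functor.map_id]
        rfl
      obtain ⟨α, hα⟩ := (hg0 N le_rfl).2 (L.presheaf.map (homOfLE (le_top : N ≤ ⊤)).op s1)
      obtain ⟨β, hβ⟩ := (hg1 N le_rfl).2 (M.presheaf.map (homOfLE (le_top : N ≤ ⊤)).op t1)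
      obtain ⟨γ, hγ⟩ := (hg0 N le_rfl).2 (L.presheaf.map (homOfLE hNU).op l)
      dsimp only at hα hβ hγ
      rw [hid] at hα hβ hγ
      have e1 : L.presheaf.map (homOfLE hNU).op (L.presheaf.map (homOfLE (le_top : U ≤ ⊤)).op s1) =
          L.presheaf.map (homOfLE (le_top : N ≤ ⊤)).op s1 := by
        rw [← ConcreteCategory.comp_apply, ← Functor.map_comp]; rfl
      have e2 : M.presheaf.map (homOfLE hNU).op (M.presheaf.map (homOfLE (le_top : U ≤ ⊤)).op t1) =
          M.presheaf.map (homOfLE (le_top : N ≤ ⊤)).op t1 := by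
        rw [← ConcreteCategory.comp_apply, ← Functor.map_comp]; rfl
      have e3 : X.presheaf.map (homOfLE hNU).op (X.presheaf.map (homOfLE (le_top : U ≤ ⊤)).op c) =
          pair e.hom N (α • g0) (β • g1) := by
        rw [hα, hβ, ← pair_map, ← ConcreteCategory.comp_apply, ← Functor.map_comp]; rfl
      have e4 := congr(X.presheaf.map (homOfLE hNU).op $hd)
      rw [map_mul, map_one, e3, pair_smul_left, pair_smul_right] at e4
      refine (Scheme.Modules.map_smul L (homOfLE hNU) _ _).trans ?_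
      rw [e1, map_mul, pair_map, e2, ← hα, ← hβ, ← hγ, pair_smul_left, pair_smul_right, ← mul_smul]
      congr 1
      linear_combination γ * e4
    choose V hV g hg using fun x => exists_isGen hL x
    choose W hW g' hg' using fun x => exists_isGen hM x
    have hcov : U ≤ ⨆ x : X, (V x ⊓ W x) ⊓ U := fun x hx =>
      TopologicalSpace.Opens.mem_iSup.mpr ⟨x, ⟨hV x, hW x⟩, hx⟩
    refine TopCat.Sheaf.eq_of_locally_eq' ⟨L.presheaf, L.isSheaf⟩ (fun x : X => (V x ⊓ W x) ⊓ U) U
      (fun x => homOfLE inf_le_right) hcov _ _ ?_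
    intro x
    exact loc _ inf_le_right _ _ ((hg x).restrict (inf_le_left.trans inf_le_left))
      ((hg' x).restrict (inf_le_left.trans inf_le_right))

end Groth.Agent.S1652
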