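import Groth.Statements.S1653
import Groth.Agent.VarietyB.FibreGeneric
import Groth.Agent.S0402

set_option autoImplicit false
universe u
open CategoryTheory CategoryTheory.Limits AlgebraicGeometry
open Variety

namespace Groth.Agent.S1653

open Groth.Agent.VarietyB.ResMap Groth.Agent.VarietyB.FibreGeneric

theorem zero_le_localDim {X : Type*} [TopologicalSpace X] (x : X) : 0 ≤ FlatMor.localDim X x := by
  refine Groth.Agent.VarietyB.DimTop.le_localDim fun U hU ↦ ?_
  have : Nonempty (TopologicalSpace.IrreducibleCloseds (U : Set X)) :=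
    ⟨⟨closure {⟨x, hU⟩}, isIrreducible_singleton.closure, isClosed_closure⟩⟩
  exact Order.krullDim_nonneg

theorem le_of_lt_succ (d : WithBot ℕ∞) (m : ℕ) (h : d < ((m + 1 : ℕ) : WithBot ℕ∞)) :
    d ≤ (m : ℕ) := by
  induction d with
  | bot => exact bot_le
  | coe d =>
    have h1 : d < ((m + 1 : ℕ) : ℕ∞) := by exact_mod_cast h
    have h2 : d ≤ (m : ℕ∞) := by
      rw [Nat.cast_add, Nat.cast_one] at h1
      exact ENat.lt_add_one_iff (by simp) |>.mp h1
    exact_mod_cast h2

theorem closure_range {X Y : Type*} [TopologicalSpace X] [TopologicalSpace Y] [QuasiSober X]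
    [IrreducibleSpace X] (f : X → Y) (hf : Continuous f) :
    closure (Set.range f) = closure {f (genericPoint X)} := by
  apply subset_antisymm
  · refine closure_minimal ?_ isClosed_closure
    rw [← Set.image_univ, ← genericPoint_closure X, ← Set.image_singleton]
    exact image_closure_subset_closure_image hf
  · exact closure_mono (by simp)

/-- Stacks Tag 0B2L (2)(a),(b): let f : X → Y be a k-morphism of schemes locally of finite type over a field k, with X irreducible of dimension a, and let the closure of the image of f have dimension b. Then the local fibre dimension of f at every point of X is at least a - b, and the set of points where it equals a - b is open and dense. -/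
theorem result (k : Type u) [Field k] (X Y : Scheme.{u}) [X.Over (Spec (CommRingCat.of k))] [Y.Over (Spec (CommRingCat.of k))]
    [LocallyOfFiniteType (X ↘ (Spec (CommRingCat.of k)))] [LocallyOfFiniteType (Y ↘ (Spec (CommRingCat.of k)))] [IrreducibleSpace X]
    (f : X ⟶ Y) (hf : f ≫ (Y ↘ (Spec (CommRingCat.of k))) = X ↘ (Spec (CommRingCat.of k))) (a b : ℕ) (ha : topologicalKrullDim X = a)
    (hb : topologicalKrullDim (closure (Set.range f.base)) = b) :
    (∀ x : X, ((a - b : ℕ) : WithBot ℕ∞) ≤ FlatMor.fibreDimAt f x) ∧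
      IsOpen {x : X | FlatMor.fibreDimAt f x = (a - b : ℕ)} ∧ Dense {x : X | FlatMor.fibreDimAt f x = (a - b : ℕ)} := by
  have hA : trd k X (genericPoint X) = a := (dim_eq_iff k X a).mp ha
  have hcl : closure (Set.range f.base) = closure {f (genericPoint X)} :=
    closure_range f f.continuous
  have hB : trd k Y (f (genericPoint X)) = b := by
    rw [← dim_closure_eq_iff k Y, ← hb, hcl]
  obtain ⟨hab, hg⟩ := fibreDimAt_genericPoint k f hf a b hA hB
  have hlft : LocallyOfFiniteType f := by
    have : LocallyOfFiniteType (f ≫ (Y ↘ (Spec (CommRingCat.of k)))) := by rw [hf]; infer_instance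
    exact locallyOfFiniteType_of_comp f (Y ↘ (Spec (CommRingCat.of k)))
  have hmem : ∀ U : Set X, IsOpen U → U.Nonempty → genericPoint X ∈ U := by
    intro U hU hne
    obtain ⟨z, hz⟩ := hne
    exact (genericPoint_specializes z).mem_open hU hz
  have hlow : ∀ x : X, ((a - b : ℕ) : WithBot ℕ∞) ≤ FlatMor.fibreDimAt f x := by
    intro x
    rcases Nat.eq_zero_or_pos (a - b) with h0 | h0
    · rw [h0]
      exact zero_le_localDim _
    · by_contra hlt
      rw [not_le] at hlt
      obtain ⟨m, hm⟩ : ∃ m, a - b = m + 1 := ⟨a - b - 1, by omega⟩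
      have hle : FlatMor.fibreDimAt f x ≤ (m : ℕ) := by
        rw [hm] at hlt
        exact le_of_lt_succ _ m hlt
      have h1 := hmem _ (Groth.Agent.S0402.result f m) ⟨x, hle⟩
      have h2 : FlatMor.fibreDimAt f (genericPoint X) ≤ (m : ℕ) := h1
      rw [hg, hm] at h2
      have h3 : m + 1 ≤ m := by exact_mod_cast h2
      omega
  have hset : {x : X | FlatMor.fibreDimAt f x = (a - b : ℕ)} =
      {x : X | FlatMor.fibreDimAt f x ≤ (a - b : ℕ)} := by
    ext x
    exact ⟨fun h ↦ le_of_eq h, fun h ↦ le_antisymm h (hlow x)⟩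
  have hopen : IsOpen {x : X | FlatMor.fibreDimAt f x = (a - b : ℕ)} := by
    rw [hset]
    exact Groth.Agent.S0402.result f (a - b)
  exact ⟨hlow, hopen, hopen.dense ⟨genericPoint X, hg⟩⟩

end Groth.Agent.S1653
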