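import Groth.Statements.S1658
import Groth.Agent.Divis.CartierData
import Groth.Agent.Divis.GenIso
import Groth.Agent.Divis.AmpleFin
import Groth.Agent.Ega2.Ample
import Groth.Agent.Smoothlim.LineSec
import Mathlib.RingTheory.Ideal.AssociatedPrime.Finiteness

set_option autoImplicit false
universe u
open CategoryTheory CategoryTheory.Limits AlgebraicGeometry
open Divisors

namespace Groth.Agent.S1658

open Groth.Agent.Fdesc.LocGen TopologicalSpace

section

variable {X : Scheme.{u}}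

/-- the (finitely many) points of the associated primes of `Γ(X, U)` -/
def assPts (U : X.affineOpens) : Set X :=
  {x | ∃ p : PrimeSpectrum Γ(X, U.1), p.asIdeal ∈ associatedPrimes Γ(X, U.1) Γ(X, U.1) ∧
    U.2.fromSpec p = x}

theorem assPts_finite (U : X.affineOpens) [IsNoetherianRing Γ(X, U.1)] : (assPts U).Finite := by
  have h1 := associatedPrimes.finite Γ(X, U.1) Γ(X, U.1)
  have h2 : {p : PrimeSpectrum Γ(X, U.1) | p.asIdeal ∈ associatedPrimes Γ(X, U.1) Γ(X, U.1)}.Finite :=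
    h1.preimage (fun p _ q _ h => PrimeSpectrum.ext h)
  refine (h2.image (fun p => U.2.fromSpec p)).subset ?_
  rintro x ⟨p, hp, rfl⟩
  exact ⟨p, hp, rfl⟩

theorem mem_nonZeroDivisors (U : X.affineOpens) [IsNoetherianRing Γ(X, U.1)] (a : Γ(X, U.1))
    (h : ∀ x ∈ assPts U, x ∈ X.basicOpen a) : a ∈ nonZeroDivisors Γ(X, U.1) := by
  by_contra hc
  have h1 : a ∈ ((nonZeroDivisors Γ(X, U.1) : Set Γ(X, U.1))ᶜ) := hc
  rw [← biUnion_associatedPrimes_eq_compl_nonZeroDivisors] at h1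
  simp only [Set.mem_iUnion] at h1
  obtain ⟨p, hp, hap⟩ := h1
  have h2 := h _ ⟨⟨p, hp.isPrime⟩, hp, rfl⟩
  have h3 : (⟨p, hp.isPrime⟩ : PrimeSpectrum Γ(X, U.1)) ∈ U.2.fromSpec ⁻¹ᵁ X.basicOpen a := h2
  rw [U.2.fromSpec_preimage_basicOpen] at h3
  exact h3 hap

theorem assPts_subset (U : X.affineOpens) {x : X} (hx : x ∈ assPts U) : x ∈ U.1 := by
  obtain ⟨p, -, rfl⟩ := hx
  have := U.2.range_fromSpec
  have h1 : U.2.fromSpec p ∈ Set.range U.2.fromSpec := ⟨p, rfl⟩
  rw [this] at h1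
  exact h1

/-- Local equations with transition factors generate the same ideals. -/
theorem span_eq {ι : Type*} (W : ι → X.affineOpens) (a : ∀ i, Γ(X, (W i).1))
    (u : ∀ i j, Γ(X, (W i).1 ⊓ (W j).1))
    (h : ∀ i j, ores (inf_le_right : (W i).1 ⊓ (W j).1 ≤ _) (a j) =
      ores (inf_le_left : (W i).1 ⊓ (W j).1 ≤ _) (a i) * u i j)
    (i j : ι) (V : X.affineOpens) (hi : V.1 ≤ (W i).1) (hj : V.1 ≤ (W j).1) :
    Ideal.span {ores hi (a i)} = Ideal.span {ores hj (a j)} := by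
  have key : ∀ (i j : ι) (hi : V.1 ≤ (W i).1) (hj : V.1 ≤ (W j).1),
      Ideal.span {ores hj (a j)} ≤ Ideal.span {ores hi (a i)} := by
    intro i j hi hj
    rw [Ideal.span_singleton_le_span_singleton]
    have h1 := congrArg (ores (le_inf hi hj)) (h i j)
    rw [map_mul, ores_ores, ores_ores] at h1
    exact ⟨_, h1⟩
  exact le_antisymm (key j i hj hi) (key i j hi hj)

/-- The transition function of the generators of the ideal module. -/
theorem res_gen {ι : Type*} (W : ι → X.affineOpens) (a : ∀ i, Γ(X, (W i).1))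
    (u : ∀ i j, Γ(X, (W i).1 ⊓ (W j).1))
    (h : ∀ i j, ores (inf_le_right : (W i).1 ⊓ (W j).1 ≤ _) (a j) =
      ores (inf_le_left : (W i).1 ⊓ (W j).1 ≤ _) (a i) * u i j)
    (D : X.IdealSheafData) (α : ∀ i, Γ(ClSub.idealMod D, (W i).1))
    (hα : ∀ i, PerfA.IdealModule.val D (α i) = a i) (i j : ι) :
    res _ (inf_le_left : (W i).1 ⊓ (W j).1 ≤ _) (α i) =
      ores (le_of_eq (inf_comm _ _) : (W i).1 ⊓ (W j).1 ≤ (W j).1 ⊓ (W i).1) (u j i) •
        res _ (inf_le_right : (W i).1 ⊓ (W j).1 ≤ _) (α j) := by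
  apply PerfA.IdealModule.val_injective D
  rw [PerfA.IdealModule.val_smul]
  have h1 : PerfA.IdealModule.val D (res _ (inf_le_left : (W i).1 ⊓ (W j).1 ≤ _) (α i)) =
      ores (inf_le_left : (W i).1 ⊓ (W j).1 ≤ _) (a i) := by
    rw [← hα]; exact PerfA.IdealModule.val_res D _ (α i)
  have h2 : PerfA.IdealModule.val D (res _ (inf_le_right : (W i).1 ⊓ (W j).1 ≤ _) (α j)) =
      ores (inf_le_right : (W i).1 ⊓ (W j).1 ≤ _) (a j) := by
    rw [← hα]; exact PerfA.IdealModule.val_res D _ (α j)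
  rw [h1, h2]
  have h3 := congrArg (ores (le_of_eq (inf_comm _ _) : (W i).1 ⊓ (W j).1 ≤ (W j).1 ⊓ (W i).1)) (h j i)
  rw [map_mul, ores_ores, ores_ores] at h3
  rw [h3, mul_comm]

end

/-- Stacks Tag 0AYM (first two assertions): let X be Noetherian with an ample invertible module and N any invertible O_X-module. For every finite set E of points of X there are effective Cartier divisors D and D', whose supports miss E, with N ⊗ I_D ≅ I_{D'} (that is, N ≅ O_X(D) ⊗ O_X(D')^{-1}), where I_D, I_{D'} are the ideal sheaves as O_X-modules. -/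
theorem result (X : Scheme.{u}) [IsNoetherian X] (L : X.Modules) (hL : CohB1.IsAmple L)
    (N : X.Modules) (hN : PicF.IsInvertible N) (E : Set X) (hE : E.Finite) :
    ∃ D D' : X.IdealSheafData, BlowUp.IsEffCartierIdeal D ∧ BlowUp.IsEffCartierIdeal D' ∧
      Disjoint E (D.support : Set X) ∧ Disjoint E (D'.support : Set X) ∧
      Nonempty (CohB1.tensorMod N (ClSub.idealMod D) ≅ ClSub.idealMod D') := by
  have hLi : PicF.IsInvertible L := hL.1
  -- a finite affine frame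
  obtain ⟨ι, _, W₀, hWa, -, hWG, hcov⟩ := Ega2.Nv.exists_finite_affine_cover (X := X) (U := ⊤)
    isCompact_univ
    (fun V => (∃ l : Γ(L, V), IsGen l) ∧ ∃ e : Γ(N, V), IsGen e)
    (fun V V' hV h => ⟨⟨_, h.1.choose_spec.res hV⟩, ⟨_, h.2.choose_spec.res hV⟩⟩)
    (fun x _ => by
      obtain ⟨V, l, hxV, hl⟩ := (isInvertible_iff L).mp hLi x
      obtain ⟨V', e, hxV', he⟩ := (isInvertible_iff N).mp hN x
      exact ⟨V ⊓ V', ⟨hxV, hxV'⟩, ⟨_, hl.res inf_le_left⟩, ⟨_, he.res inf_le_right⟩⟩)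
  let W : ι → X.affineOpens := fun i => ⟨W₀ i, hWa i⟩
  have hW : ⨆ i, (W i).1 = ⊤ := top_le_iff.mp hcov
  have hWG' : ∀ i, (∃ l : Γ(L, (W i).1), IsGen l) ∧ ∃ e : Γ(N, (W i).1), IsGen e := hWG
  choose l hl using fun i => (hWG' i).1
  choose e he using fun i => (hWG' i).2
  choose g hg using fun i j : ι => ((hl j).res (inf_le_right : (W i).1 ⊓ (W j).1 ≤ _)).exists_eq
    (res L (inf_le_left : (W i).1 ⊓ (W j).1 ≤ _) (l i))
  choose c hc using fun i j : ι => ((he j).res (inf_le_right : (W i).1 ⊓ (W j).1 ≤ _)).exists_eq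
    (res N (inf_le_left : (W i).1 ⊓ (W j).1 ≤ _) (e i))
  have hnoeth : ∀ i, IsNoetherianRing Γ(X, (W i).1) := fun i =>
    IsLocallyNoetherian.component_noetherian (W i)
  -- the finite set of points
  set E' : Set X := E ∪ ⋃ i, assPts (W i) with hE'
  have hE'fin : E'.Finite := hE.union (Set.finite_iUnion fun i => assPts_finite (W i))
  obtain ⟨m, s, hEs, -, hGa⟩ := Divis.AmpleFin.exists_genLocus_of_finite hL E' hE'fin ⊤
    (fun _ _ => trivial)
  set G := CohB1.genLocus _ s with hG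
  obtain ⟨μ, hμ⟩ := Smoothlim.LineSec.exists_genAt_finite hN hGa E' hE'fin (fun x hx => hEs hx)
  -- coefficients
  choose τ hτ using fun i : ι => ((hl i).pow (m + 1)).exists_eq (sec s (W i).1)
  have hD : ∀ i, G ⊓ (W i).1 = X.basicOpen (τ i) := fun i => genLocus_inf_eq s ((hl i).pow (m + 1)) (hτ i)
  have hDG : ∀ i, X.basicOpen (τ i) ≤ G := fun i => by rw [← hD i]; exact inf_le_left
  choose σ hσ using fun i : ι => ((he i).res (X.basicOpen_le (τ i))).exists_eq (res N (hDG i) μ)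
  obtain ⟨K, hK⟩ := Ega2.ExtCoeff.ext_coeff (fun i => (W i).1) (fun i => (W i).2)
    (fun i j => NoetherianSpace.isCompact _) τ σ c (fun i j => g i j ^ (m + 1))
    (fun i j => Ega2.Ample.coef_rel (sec s ⊤) (V := (W i).1) (V' := (W j).1) le_top le_top
      ((hl j).pow (m + 1)) (τ i) (τ j)
      (by rw [res_sec]; exact hτ i) (by rw [res_sec]; exact hτ j) _
      (by rw [res_pow, res_pow, hg, Fdesc.LocGen.smul_pow]))
    (fun i j => by
      refine Ega2.Ample.coef_rel μ (hDG i) (hDG j) ((he j).res _) _ _ (hσ i) (hσ j) _ ?_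
      have := congrArg (res N (inf_le_inf (X.basicOpen_le (τ i))
        (X.basicOpen_le (τ j)))) (hc i j)
      rw [res_smul, res_res, res_res] at this
      rw [res_res, res_res]
      exact this)
  obtain ⟨a, ha1, ha2, ha3⟩ := hK (K + 1) (Nat.le_succ K)
  have hmemτ : ∀ i x, x ∈ E' → x ∈ (W i).1 → x ∈ X.basicOpen (τ i) := fun i x hx hxi => by
    rw [← hD i]; exact ⟨hEs hx, hxi⟩
  have hmema : ∀ i x, x ∈ E' → x ∈ (W i).1 → x ∈ X.basicOpen (a i) := by
    intro i x hx hxi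
    have h1 := hmemτ i x hx hxi
    have h2 : x ∈ X.basicOpen (σ i) :=
      (Smoothlim.LineSec.genAt_iff (m := μ) (hDG i) (e := res N (X.basicOpen_le (τ i)) (e i))
        ((he i).res _) (hσ i) h1).mp (hμ x hx)
    have h3 : x ∈ X.basicOpen (ores (X.basicOpen_le (τ i)) (a i)) := by
      rw [ha1 i, Scheme.basicOpen_mul, X.basicOpen_pow (h := Nat.succ_pos K),
        Ega2.ExtCoeff.basicOpen_res]
      exact ⟨⟨h1, h1⟩, h2⟩
    rw [Ega2.ExtCoeff.basicOpen_res] at h3
    exact h3.2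
  -- the second family
  let b : ∀ i, Γ(X, (W i).1) := fun i => τ i ^ (K + 1)
  have hmemb : ∀ i x, x ∈ E' → x ∈ (W i).1 → x ∈ X.basicOpen (b i) := by
    intro i x hx hxi
    rw [show b i = τ i ^ (K + 1) from rfl, X.basicOpen_pow (h := Nat.succ_pos K)]
    exact hmemτ i x hx hxi
  have hτ3 : ∀ i j, ores (inf_le_right : (W i).1 ⊓ (W j).1 ≤ _) (τ j) =
      ores (inf_le_left : (W i).1 ⊓ (W j).1 ≤ _) (τ i) * g i j ^ (m + 1) := fun i j =>
    Ega2.Ample.coef_rel (sec s ⊤) (V := (W i).1) (V' := (W j).1) le_top le_top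
      ((hl j).pow (m + 1)) (τ i) (τ j)
      (by rw [res_sec]; exact hτ i) (by rw [res_sec]; exact hτ j) _
      (by rw [res_pow, res_pow, hg, Fdesc.LocGen.smul_pow])
  have hb3 : ∀ i j, ores (inf_le_right : (W i).1 ⊓ (W j).1 ≤ _) (b j) =
      ores (inf_le_left : (W i).1 ⊓ (W j).1 ≤ _) (b i) * (g i j ^ (m + 1)) ^ (K + 1) := fun i j => by
    rw [map_pow, hτ3, mul_pow, map_pow]
  have hnzd : ∀ (a : ∀ i, Γ(X, (W i).1)), (∀ i x, x ∈ E' → x ∈ (W i).1 → x ∈ X.basicOpen (a i)) →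
      ∀ i, a i ∈ nonZeroDivisors Γ(X, (W i).1) := fun a h i =>
    mem_nonZeroDivisors (W i) (a i) fun x hx => h i x (Or.inr (Set.mem_iUnion.mpr ⟨i, hx⟩))
      (assPts_subset (W i) hx)
  have hdisj : ∀ (a : ∀ i, Γ(X, (W i).1)) (D : X.IdealSheafData),
      (∀ i x, x ∈ E' → x ∈ (W i).1 → x ∈ X.basicOpen (a i)) →
      (∀ (i : ι) (V : X.affineOpens) (hi : V.1 ≤ (W i).1), D.ideal V = Ideal.span {ores hi (a i)}) →
      Disjoint E (D.support : Set X) := by
    intro a D h hD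
    rw [Set.disjoint_left]
    intro x hx
    obtain ⟨i, hi⟩ := Opens.mem_iSup.mp (show x ∈ ⨆ i, (W i).1 by rw [hW]; trivial)
    exact (Divis.CartierData.not_mem_support_iff hD hi).mpr (h i x (Or.inl hx) hi)
  obtain ⟨D, hDa⟩ := Divis.CartierData.exists_ideal W hW a (span_eq W a _ ha3)
  obtain ⟨D', hDb⟩ := Divis.CartierData.exists_ideal W hW b (span_eq W b _ hb3)
  choose α hα hαg using Divis.CartierData.exists_gen hDa (hnzd a hmema)
  choose β hβ hβg using Divis.CartierData.exists_gen hDb (hnzd b hmemb)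
  refine ⟨D, D', Divis.CartierData.isEffCartierIdeal hW hDa (hnzd a hmema),
    Divis.CartierData.isEffCartierIdeal hW hDb (hnzd b hmemb), hdisj a D hmema hDa,
    hdisj b D' hmemb hDb, ?_⟩
  refine Divis.GenIso.nonempty_iso_of_gens (W := fun i => (W i).1) (s := fun i => tmul (e i) (α i))
    (t := β) hW (fun i => (he i).tmul (hαg i)) (fun i => hβg i)
    (fun i j => ores (le_of_eq (inf_comm _ _) : (W i).1 ⊓ (W j).1 ≤ (W j).1 ⊓ (W i).1)
      ((g j i ^ (m + 1)) ^ (K + 1))) (fun i j => ?_) (fun i j => ?_)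
  · have h1 : c i j * ores (le_of_eq (inf_comm _ _) : (W i).1 ⊓ (W j).1 ≤ (W j).1 ⊓ (W i).1) (c j i) = 1 := by
      apply ((he i).res (inf_le_left : (W i).1 ⊓ (W j).1 ≤ _)).ext
      have h2 := congrArg (res N (le_of_eq (inf_comm _ _) : (W i).1 ⊓ (W j).1 ≤ (W j).1 ⊓ (W i).1)) (hc j i)
      rw [res_smul, res_res, res_res] at h2
      rw [one_smul, mul_smul, ← h2, ← hc i j]
    have h3 : res _ (inf_le_left : (W i).1 ⊓ (W j).1 ≤ _) (tmul (e i) (α i)) =
        ores (le_of_eq (inf_comm _ _) : (W i).1 ⊓ (W j).1 ≤ (W j).1 ⊓ (W i).1)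
          ((g j i ^ (m + 1)) ^ (K + 1)) •
          res _ (inf_le_right : (W i).1 ⊓ (W j).1 ≤ _) (tmul (e j) (α j)) := by
      rw [res_tmul, res_tmul, hc i j, res_gen W a _ ha3 D α hα i j, Fdesc.LocGen.smul_tmul,
        Fdesc.LocGen.tmul_smul, smul_smul, map_mul, ← mul_assoc, h1, one_mul]
    exact h3
  · exact res_gen W b _ hb3 D' β hβ i j

end Groth.Agent.S1658
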