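import Groth.Statements.S1659
import Groth.Agent.Divis.EffIntegral

set_option autoImplicit false
universe u
open CategoryTheory CategoryTheory.Limits AlgebraicGeometry
open Divisors

namespace Groth.Agent.S1659

open Groth.Agent.Divis.CartierBasic Groth.Agent.Divis.CartierStalk Groth.Agent.CycB.LocQuot
  Groth.Agent.Divis.StalkPrime Groth.Agent.Divis.EffIntegral Groth.Agent.Divis.ColonIdeal


/-- Stacks Tag 0BCP (first assertion, finite family): let X be Noetherian, D an effective Cartier divisor and D_1, …, D_r effective Cartier divisors which are integral as closed subschemes, with D contained set-theoretically in their union. Then D = Σ a_i D_i for some a_i ≥ 0, i.e. the ideal sheaf of D is the product of the a_i-th powers of the ideal sheaves of the D_i. -/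
theorem result (X : Scheme.{u}) [IsNoetherian X] (D : X.IdealSheafData) (hD : BlowUp.IsEffCartierIdeal D)
    (r : ℕ) (Ds : Fin r → X.IdealSheafData) (hDs : ∀ i, BlowUp.IsEffCartierIdeal (Ds i)) (hint : ∀ i, IsIntegral (Ds i).subscheme)
    (hsub : (D.support : Set X) ⊆ ⋃ i, ((Ds i).support : Set X)) :
    ∃ a : Fin r → ℕ, D = ∏ i, Ds i ^ a i := by
  have hwf : WellFoundedGT X.IdealSheafData := Groth.Agent.Divis.ColonIdeal.wellFoundedGT
  induction D using WellFoundedGT.induction with
  | ind D ih =>
    by_cases hD0 : (D.support : Set X).Nonempty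
    · obtain ⟨x, hx⟩ := hD0
      obtain ⟨ξ, hξ, hξx, hgen⟩ := exists_generic D (x := x) hx
      obtain ⟨i, hi⟩ := Set.mem_iUnion.1 (hsub hξ)
      have := hint i
      have h1 := stalkIdeal_eq_maximalIdeal hD (hDs i) hξ hgen hi
      have h2 : (Ds i).subschemeι (genericPoint (Ds i).subscheme) = ξ := by
        rw [← ptOf_stalkIdeal (Ds i) hi]
        have h3 : (⟨stalkIdeal (Ds i) ξ, isPrime_stalkIdeal (Ds i) hi⟩ : PrimeSpectrum (X.presheaf.stalk ξ)) =
            IsLocalRing.closedPoint (X.presheaf.stalk ξ) := PrimeSpectrum.ext h1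
        rw [h3, ← primeOf_refl, ptOf_primeOf]
      have h3 : D ≤ Ds i := le_of_support_le (support_le_of_mem (by rw [h2]; exact hξ))
      obtain ⟨L, hL, hmul⟩ := exists_mul_eq (hDs i) hD h3
      have h4 : D ≤ L := by
        intro U
        rw [← hmul, Scheme.IdealSheafData.ideal_mul, Pi.mul_apply, Ideal.mul_le]
        intro r _ s hs
        exact Ideal.mul_mem_left _ _ hs
      have h5 : L ≠ D := ne_of_mul_eq hL hmul ⟨ξ, hi⟩
      obtain ⟨a, ha⟩ := ih L (lt_of_le_of_ne h4 h5.symm) hL
        (fun y hy => hsub (Scheme.IdealSheafData.support_antitone h4 hy))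
      classical
      refine ⟨fun j => a j + if j = i then 1 else 0, ?_⟩
      simp_rw [pow_add]
      rw [Finset.prod_mul_distrib, ← ha]
      have h6 : ∏ j, Ds j ^ (if j = i then 1 else 0) = Ds i := by
        rw [Finset.prod_eq_single i]
        · simp
        · intro j _ hj
          simp [hj]
        · intro h; exact absurd (Finset.mem_univ i) h
      rw [h6, mul_comm, hmul]
    · refine ⟨fun _ => 0, ?_⟩
      have h1 : D.support = ⊥ := by
        apply TopologicalSpace.Closeds.ext
        rw [Set.not_nonempty_iff_eq_empty.1 hD0]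
        rfl
      rw [Scheme.IdealSheafData.support_eq_bot_iff] at h1
      rw [h1]
      simp_rw [pow_zero, Finset.prod_const_one]
      rfl

end Groth.Agent.S1659
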