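import Groth.Statements.S1660
import Groth.Agent.Divis.MapOpen
import Groth.Agent.Divis.UfdIdeal
import Groth.Agent.Divis.UfdColon

set_option autoImplicit false
universe u
open CategoryTheory CategoryTheory.Limits AlgebraicGeometry
open Divisors

namespace Groth.Agent.S1660

open Groth.Agent.Divis.CartierBasic Groth.Agent.Divis.CartierStalk Groth.Agent.CycB.LocQuot
  Groth.Agent.Divis.StalkPrime Groth.Agent.Divis.StalkAssoc Groth.Agent.Divis.MapOpen


/-- Stacks Tag 0BD8: let X be locally Noetherian, U open, and D an effective Cartier divisor on U. If the local ring of X at every point outside U is a unique factorisation domain, then there is an effective Cartier divisor D' on X whose restriction (inverse image ideal) to U is D. -/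
theorem result (X : Scheme.{u}) [IsLocallyNoetherian X] (U : X.Opens)
    (D : (U : Scheme.{u}).IdealSheafData) (hD : BlowUp.IsEffCartierIdeal D)
    (hufd : ∀ x : X, x ∉ U → IsDomain (X.presheaf.stalk x) ∧ UniqueFactorizationMonoid (X.presheaf.stalk x)) :
    ∃ D' : X.IdealSheafData, BlowUp.IsEffCartierIdeal D' ∧ D'.comap U.ι = D := by
  have hcm : (D.map U.ι).comap U.ι = D := comap_map D U.ι
  refine ⟨D.map U.ι, ?_, hcm⟩
  -- points of U
  have hin : ∀ x ∈ U, ∃ g ∈ nonZeroDivisors (X.presheaf.stalk x), stalkIdeal (D.map U.ι) x = Ideal.span {g} := by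
    intro x hx
    have h1 := exists_generator_of_comap (D.map U.ι) U.ι ⟨x, hx⟩ (by
      rw [hcm]; exact exists_stalkIdeal_eq_span hD _)
    exact h1
  rw [isEffCartierIdeal_iff_stalkIdeal]
  intro x
  by_cases hxU : x ∈ U
  · exact hin x hxU
  obtain ⟨hdom, hU⟩ := hufd x hxU
  -- associated points lie in U
  have hass : ∀ (p : Ideal (X.presheaf.stalk x)) (hp : p.IsPrime) (a : X.presheaf.stalk x),
      (∀ r, r ∈ p ↔ r * a ∈ stalkIdeal (D.map U.ι) x) → ptOf (⟨p, hp⟩ : PrimeSpectrum _) ∈ U := by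
    intro p hp a ha
    by_contra hy
    have h1 := mem_maximalIdeal_iff_of_colon (D.map U.ι) ⟨p, hp⟩ a ha
    have h2 := mem_stalkIdeal_ker_of_forall (D.subschemeι ≫ U.ι) U (fun z => by
      rw [Scheme.Hom.comp_apply]
      exact (D.subschemeι z).2) (ptOf (⟨p, hp⟩ : PrimeSpectrum _)) hy _ (fun s hs => (h1 s).1 hs)
    have h3 := (h1 1).2 (by rw [one_mul]; exact h2)
    exact (Ideal.IsPrime.ne_top (I := IsLocalRing.maximalIdeal _) inferInstance) ((Ideal.eq_top_iff_one _).2 h3)
  have hne : stalkIdeal (D.map U.ι) x ≠ ⊥ := by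
    intro hbot
    have h1 := hass ⊥ Ideal.isPrime_bot 1 (fun r => by rw [mul_one, hbot])
    obtain ⟨g, hg, h2⟩ := hin _ h1
    rw [← stalkIdeal_map_stalkSpecializes _ (ptOf_specializes _), hbot, Ideal.map_bot] at h2
    exact nonZeroDivisors.ne_zero hg (Ideal.span_singleton_eq_bot.1 h2.symm)
  have hprinc : (stalkIdeal (D.map U.ι) x).IsPrincipal := by
    refine Groth.Agent.Divis.UfdIdeal.isPrincipal_of_assoc_principal _ hne ?_
    intro p hp a ha
    have h1 := hass p hp a ha
    obtain ⟨g, hg, h2⟩ := hin _ h1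
    have h3 := mem_maximalIdeal_iff_of_colon (D.map U.ι) ⟨p, hp⟩ a ha
    rw [h2] at h3
    let := (X.presheaf.stalkSpecializes (ptOf_specializes (⟨p, hp⟩ : PrimeSpectrum _))).hom.toAlgebra
    have hloc := isLocalization_stalkSpecializes (ptOf_specializes (⟨p, hp⟩ : PrimeSpectrum (X.presheaf.stalk x)))
    have h4 := Groth.Agent.Divis.UfdColon.isPrincipal_of_atPrime_colon
      (RingHom.ker (Cyc.specMap x (ptOf ⟨p, hp⟩) (ptOf_specializes ⟨p, hp⟩)))
      (X.presheaf.stalk (ptOf (⟨p, hp⟩ : PrimeSpectrum _))) g _ hg h3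
    rw [← primeOf_asIdeal, primeOf_ptOf] at h4
    exact h4
  obtain ⟨g, hg⟩ := hprinc
  refine ⟨g, mem_nonZeroDivisors_of_ne_zero ?_, hg⟩
  rintro rfl
  exact hne (by rw [hg]; simp)

end Groth.Agent.S1660
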