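import Groth.Statements.S1661
import Groth.Agent.Divis.RegImm

set_option autoImplicit false
universe u
open CategoryTheory CategoryTheory.Limits AlgebraicGeometry
open Divisors

namespace Groth.Agent.S1661

/-- Stacks Tag 067Q (1), for closed immersions: if i : Z → Y and j : Y → X are regular closed immersions then so is their composite. -/
theorem result {Z Y X : Scheme.{u}} (i : Z ⟶ Y) (j : Y ⟶ X)
    (hi : Mor2.IsRegularClosedImmersion i) (hj : Mor2.IsRegularClosedImmersion j) : Mor2.IsRegularClosedImmersion (i ≫ j) := by
  exact Groth.Agent.Divis.RegImm.isRegularClosedImmersion_comp i j hi hj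

end Groth.Agent.S1661
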