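import Groth.Statements.S1663
import Groth.Agent.S0028
import Groth.Agent.Ega4B.RpushCompare
import Groth.Agent.VarietyB.AffineDimOne
-- import your own Groth.Agent.* helpers here

set_option autoImplicit false
universe u
open CategoryTheory CategoryTheory.Limits AlgebraicGeometry
open Variety

namespace Groth.Agent.S1663

/-- Stacks Tag 09N8: let X be a scheme whose local rings are Noetherian of Krull dimension at most one, j : U → X the inclusion of a retrocompact open (j quasi-compact) and F a quasi-coherent O_U-module. Then R^p j_* F vanishes for all p > 0. -/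
theorem result (X : Scheme.{u})
    (hX : ∀ x : X, IsNoetherianRing (X.presheaf.stalk x) ∧ ringKrullDim (X.presheaf.stalk x) ≤ 1)
    (U : X.Opens) [QuasiCompact U.ι] [HasInjectiveResolutions (U : Scheme.{u}).Modules]
    (F : (U : Scheme.{u}).Modules) (hF : Coh.IsQCoh F) (p : ℕ) (hp : 0 < p) :
    IsZero ((Coh.Rpush U.ι p).obj F) := by
  haveI := Groth.Agent.VarietyB.AffineDimOne.isAffineHom_ι X hX U
  haveI := hF
  exact (Groth.Agent.Ega4B.RpushCompare.isZero_rpush_iff U.ι F p).2
    (Groth.Agent.S0028.result U.ι F p hp)

end Groth.Agent.S1663
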