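import Groth.Statements.S1665
import Groth.Agent.VarietyB.SemilocalDedekind

set_option autoImplicit false
universe u
open Variety

namespace Groth.Agent.S1665

/-- Stacks Tag 09N2: let B be a Noetherian domain of dimension one with finitely many maximal ideals and B' its integral closure in its fraction field. Then B' is a Dedekind domain with finitely many maximal ideals, and for every nonzero x in the Jacobson radical of B' and every y ∈ B' some power x^n satisfies x^n y ∈ B. -/
theorem result (B : Type u) [CommRing B] [IsDomain B] [IsNoetherianRing B]
    (hdim : ringKrullDim B = 1) (hsl : Finite (MaximalSpectrum B)) :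
    IsDedekindDomain (integralClosure B (FractionRing B)) ∧ Finite (MaximalSpectrum (integralClosure B (FractionRing B))) ∧
      ∀ x : integralClosure B (FractionRing B), x ≠ 0 → x ∈ (⊥ : Ideal (integralClosure B (FractionRing B))).jacobson →
        ∀ y : integralClosure B (FractionRing B), ∃ n : ℕ, (x ^ n * y).1 ∈ (algebraMap B (FractionRing B)).range := by
  have : Ring.KrullDimLE 1 B := by
    rw [Ring.KrullDimLE, Order.krullDimLE_iff]
    exact hdim.le
  have hf : ¬ IsField B := fun h ↦ by
    rw [ringKrullDim_eq_zero_of_isField h] at hdim
    exact absurd hdim (by norm_num)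
  have hD : IsDedekindDomain (integralClosure B (FractionRing B)) :=
    Groth.Agent.VarietyB.SemilocalDedekind.isDedekindDomain_of_isIntegralClosure B
      (FractionRing B) (FractionRing B) _
  refine ⟨hD, Groth.Agent.VarietyB.SemilocalDedekind.finite_maximalSpectrum B hsl hf _
    (FaithfulSMul.algebraMap_injective _ _), fun x _ hx y ↦ ?_⟩
  exact Groth.Agent.VarietyB.SemilocalDedekind.exists_pow_mul_mem B x y hx

end Groth.Agent.S1665
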