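import Groth.Statements.S2070
import Groth.Prelude.Def_EGA4b
import Groth.Agent.Ega4B.FieldCriterion
import Groth.Agent.Ega4C.NormalUnion
import Groth.Agent.Ega4C.NormalRing2
import Groth.Agent.Ega4C.FieldExtLim
import Groth.Agent.Flat2G.SmoothNormal
import Mathlib.RingTheory.Localization.BaseChange
import Mathlib.RingTheory.Localization.Submodule
import Mathlib.RingTheory.TensorProduct.MvPolynomial
import Mathlib.RingTheory.Etale.Field
import Mathlib.RingTheory.Flat.FaithfullyFlat.Basic
import Mathlib.RingTheory.Flat.Localization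

set_option autoImplicit false
universe u
open CAlg

namespace Groth.Agent.S2070

open TensorProduct
open EGA4 (IsNormalRing)

section

variable (k K K₁ S : Type u) [Field k] [Field K] [Field K₁] [Algebra k K] [Algebra k K₁]
  [Algebra K K₁] [IsScalarTower k K K₁] [CommRing S] [Algebra k S]

/-- `(K ⊗ₖ S) ⊗_K K₁ ≃ K₁ ⊗ₖ S`. -/
noncomputable def tensorEquiv : (K ⊗[k] S) ⊗[K] K₁ ≃+* K₁ ⊗[k] S :=
  (Algebra.TensorProduct.comm K (K ⊗[k] S) K₁).toRingEquiv.trans
    (Algebra.TensorProduct.cancelBaseChange k K K K₁ S).toRingEquiv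

theorem isNormalRing_of_ringEquiv {R S : Type u} [CommRing R] [CommRing S] (e : R ≃+* S)
    (h : IsNormalRing R) : IsNormalRing S :=
  Groth.Agent.Ega4C.NormalRing2.isNormalRing_of_ringEquiv e h

theorem isNormalRing_of_faithfullyFlat (R S : Type u) [CommRing R] [CommRing S] [Algebra R S]
    [Module.FaithfullyFlat R S] (h : IsNormalRing S) : IsNormalRing R := by
  intro p _
  obtain ⟨q, hq⟩ := PrimeSpectrum.comap_surjective_of_faithfullyFlat (A := R) (B := S) ⟨p, inferInstance⟩
  have hq' : q.asIdeal.LiesOver p := ⟨(congrArg PrimeSpectrum.asIdeal hq).symm⟩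
  have := q.isPrime
  exact Groth.Agent.Desc.NormalSmooth.normalAt_under_of_flat p q.asIdeal (h q.asIdeal)

theorem descend (h : IsNormalRing (K₁ ⊗[k] S)) : IsNormalRing (K ⊗[k] S) := by
  have h1 : IsNormalRing ((K ⊗[k] S) ⊗[K] K₁) := isNormalRing_of_ringEquiv (tensorEquiv k K K₁ S).symm h
  exact isNormalRing_of_faithfullyFlat (K ⊗[k] S) ((K ⊗[k] S) ⊗[K] K₁) h1

theorem separable [FiniteDimensional K K₁] [Algebra.IsSeparable K K₁]
    (h : IsNormalRing (K ⊗[k] S)) : IsNormalRing (K₁ ⊗[k] S) := by
  have : Algebra.FormallyEtale K K₁ := Algebra.FormallyEtale.of_isSeparable K K₁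
  have : Algebra.FinitePresentation K K₁ := Algebra.FinitePresentation.of_finiteType.mp inferInstance
  have : Algebra.Etale K K₁ := ⟨inferInstance, inferInstance⟩
  have h1 : IsNormalRing ((K ⊗[k] S) ⊗[K] K₁) :=
    Groth.Agent.Flat2G.SmoothNormal.isNormalRing_of_smooth (R := K ⊗[k] S) h
  exact isNormalRing_of_ringEquiv (tensorEquiv k K K₁ S) h1

theorem mvPolynomial (n : ℕ) (h : IsNormalRing (K ⊗[k] S)) :
    IsNormalRing (FractionRing (MvPolynomial (Fin n) K) ⊗[k] S) := by
  let R' := MvPolynomial (Fin n) K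
  let FR := FractionRing R'
  let B := K ⊗[k] S
  have h0 : IsNormalRing (B ⊗[K] R') := 
    isNormalRing_of_ringEquiv (MvPolynomial.algebraTensorAlgEquiv K B (σ := Fin n)).symm.toRingEquiv
      (fun q _ => Groth.Agent.Desc.NormalSmooth.normalAt_mvPolynomial (A := B) q (h _))
  let f : B ⊗[K] R' →ₐ[B] B ⊗[K] FR :=
    Algebra.TensorProduct.map (AlgHom.id B B) (IsScalarTower.toAlgHom K R' FR)
  let : Algebra (B ⊗[K] R') (B ⊗[K] FR) := f.toRingHom.toAlgebra
  have : IsScalarTower B (B ⊗[K] R') (B ⊗[K] FR) :=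
    IsScalarTower.of_algebraMap_eq (fun x => (f.commutes x).symm)
  have h1 : IsNormalRing (B ⊗[K] FR) := by
    have hl := IsLocalization.tensorProduct_tensorProduct_right (R := K) (S := B)
      (nonZeroDivisors R') FR (by
        refine RingHom.ext fun x => ?_
        change f (1 ⊗ₜ x) = 1 ⊗ₜ algebraMap R' FR x
        simp [f])
    exact Groth.Agent.Ega4C.NormalRing2.isNormalRing_of_isLocalization (R := B ⊗[K] R') h0
      ((nonZeroDivisors R').map (Algebra.TensorProduct.includeRight (R := K) (A := B))) (B ⊗[K] FR)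
  exact isNormalRing_of_ringEquiv (tensorEquiv k K FR S) h1

end

theorem fg_case (k S : Type u) [Field k] [CommRing S]
    [Algebra k S]
    (h : ∀ (k' : Type u) [Field k'] [Algebra k k'], Module.Finite k k' → IsPurelyInseparable k k' →
      IsNormalRing (k' ⊗[k] S))
    (K : Type u) [Field K] [Algebra k K] [Algebra.EssFiniteType k K] :
    IsNormalRing (K ⊗[k] S) := by
  refine Groth.Agent.Ega4B.FieldCriterion.criterion (k := k) (fun K _ _ => IsNormalRing (K ⊗[k] S))
    ?_ ?_ ?_ ?_ K
  · intro K K₁ _ _ _ _ _ _ _ _ hK₁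
    exact descend k K K₁ S hK₁
  · intro K K₁ _ _ _ _ _ _ _ _ _ hK
    exact separable k K K₁ S hK
  · intro K _ _ _ n hK
    exact mvPolynomial k K S n hK
  · intro K _ _ _ _
    exact h K inferInstance inferInstance

theorem general_case (k S : Type u) [Field k] [CommRing S]
    [Algebra k S]
    (h : ∀ (k' : Type u) [Field k'] [Algebra k k'], Module.Finite k k' → IsPurelyInseparable k k' →
      IsNormalRing (k' ⊗[k] S))
    (K : Type u) [Field K] [Algebra k K] : IsNormalRing (K ⊗[k] S) := by
  classical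
  refine Groth.Agent.Ega4C.NormalUnion.isNormalRing_of_directed_flat (ι := Finset K)
    (S := fun t => IntermediateField.adjoin k (t : Set K) ⊗[k] S)
    (fun t => (Groth.Agent.Ega4C.FieldExtLim.incl k K S (IntermediateField.adjoin k (t : Set K))).toRingHom)
    (fun t => Groth.Agent.Ega4C.FieldExtLim.incl_flat k K S _) ?_ ?_ ?_
  · intro t t' htt'
    exact Groth.Agent.Ega4C.FieldExtLim.range_mono k K S t t' htt'
  · intro x
    obtain ⟨t, ht⟩ := Groth.Agent.Ega4C.FieldExtLim.exists_fg k K S {x}
    exact ⟨t, ht x (Finset.mem_singleton_self x)⟩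
  · intro t
    have := Groth.Agent.Ega4C.FieldExtLim.essFiniteType_adjoin k K t
    exact fg_case k S h _

open TensorProduct in
/-- Stacks Tag 037Z, (1) iff (3): let `A` be an algebra over a field `k`. Then all local rings of `k' ⊗ A` are integrally closed
domains for every field extension `k'/k` if and only if this holds for every finite purely inseparable extension
`k'/k` (extensions in the same universe). -/
theorem result {k A : Type u} [Field k] [CommRing A] [Algebra k A] :
    (∀ (k' : Type u) [Field k'] [Algebra k k'] (P : Ideal (k' ⊗[k] A)) [P.IsPrime],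
        IsDomain (Localization.AtPrime P) ∧ IsIntegrallyClosed (Localization.AtPrime P)) ↔
      ∀ (k' : Type u) [Field k'] [Algebra k k'], Module.Finite k k' → IsPurelyInseparable k k' →
        ∀ (P : Ideal (k' ⊗[k] A)) [P.IsPrime],
          IsDomain (Localization.AtPrime P) ∧ IsIntegrallyClosed (Localization.AtPrime P) := by
  constructor
  · intro h k' _ _ _ _ P _
    exact h k' P
  · intro h k' _ _
    exact general_case k A h k'

end Groth.Agent.S2070
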