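import Groth.Statements.S1669
import Groth.Agent.VarietyB.GeomRedAt
import Groth.Agent.Ega4B.RegSep
-- import your own Groth.Agent.* helpers here

set_option autoImplicit false
universe u
open CategoryTheory CategoryTheory.Limits AlgebraicGeometry
open Variety

namespace Groth.Agent.S1669

open TensorProduct in
theorem isRegularRing_chart (k : Type u) [Field k] (X : Scheme.{u}) [X.Over (Spec (CommRingCat.of k))]
    {A : Type u} [CommRing A] [IsNoetherianRing A] [Algebra k A] (i : Spec (CommRingCat.of A) ⟶ X)
    [IsOpenImmersion i]
    (hi : i ≫ (X ↘ Spec (CommRingCat.of k)) = Spec.map (CommRingCat.ofHom (algebraMap k A)))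
    (k' : Type u) [Field k'] [Algebra k k'] [Module.Finite k k']
    (h : ∀ x' : Curv2.bc k X k', IsRegularLocalRing ((Curv2.bc k X k').presheaf.stalk x')) :
    IsRegularRing (k' ⊗[k] A) := by
  have : IsNoetherianRing (A ⊗[k] k') := Algebra.EssFiniteType.isNoetherianRing A (A ⊗[k] k')
  have h1 : IsRegularRing (A ⊗[k] k') := by
    refine isRegularRing_iff.mpr fun q _ => ?_
    let p : Spec (CommRingCat.of A) := ⟨q.comap (algebraMap A (A ⊗[k] k')), inferInstance⟩
    exact (VarietyB.GeomRedAt.forall_stalk_iff k X i hi k' p (fun R _ => IsRegularLocalRing R)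
      (fun R S _ _ e hR => IsRegularLocalRing.of_ringEquiv e)).mp (fun y _ => h y) q rfl
  exact .of_ringEquiv (Algebra.TensorProduct.comm k A k').toRingEquiv

/-- Stacks Tag 038V, (3) implies (1): let X be a locally Noetherian scheme over k such that X_{k'} has regular local rings for every finite purely inseparable extension k' of k. Then X is geometrically regular over k at every point (its base change to any finitely generated field extension has regular local rings). -/
theorem result (k : Type u) [Field k] (X : Scheme.{u}) [X.Over (Spec (CommRingCat.of k))] [IsLocallyNoetherian X]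
    (h : ∀ (k' : Type u) [Field k'] [Algebra k k'] [FiniteDimensional k k'] [IsPurelyInseparable k k']
      (x' : Curv2.bc k X k'), IsRegularLocalRing ((Curv2.bc k X k').presheaf.stalk x'))
    (x : X) : Curv2.IsGeomRegularAt k X x := by
  intro K _ _ hK
  obtain ⟨A, _, _, i, _, p, hi, rfl⟩ := VarietyB.BcChart.exists_chart k X x
  have : IsLocallyNoetherian (Spec (CommRingCat.of A)) := isLocallyNoetherian_of_isOpenImmersion i
  have : IsNoetherianRing A := isLocallyNoetherian_Spec.mp this
  have : Algebra.EssFiniteType k K := IntermediateField.fg_top_iff.mp hK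
  have h1 : IsRegularRing (TensorProduct k K A) :=
    Ega4B.RegSep.isRegularRing_tensor_of_purelyInseparable k A
      (fun k' _ _ _ _ => isRegularRing_chart k X i hi k' (h k')) K
  have h2 : IsRegularRing (TensorProduct k A K) :=
    .of_ringEquiv (Algebra.TensorProduct.comm k K A).toRingEquiv
  exact (VarietyB.GeomRedAt.forall_stalk_iff k X i hi K p (fun R _ => IsRegularLocalRing R)
      (fun R S _ _ e hR => IsRegularLocalRing.of_ringEquiv e)).mpr (fun q _ _ => inferInstance)

end Groth.Agent.S1669
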