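import Groth.Statements.S1670
import Groth.Agent.VarietyB.BaseExt4
-- import your own Groth.Agent.* helpers here

set_option autoImplicit false
universe u
open CategoryTheory CategoryTheory.Limits AlgebraicGeometry
open Variety

namespace Groth.Agent.S1670

/-- Stacks Tag 04KZ (3): let X be locally of finite type over k, K a separable closure of k, and T an irreducible component of X. Then the inverse image of T in X_K is the union of the finitely many irreducible components of X_K mapping into T, and these form a single orbit under the action of the k-automorphisms of K on X_K. -/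
theorem result (k : Type u) [Field k] (X : Scheme.{u}) [X.Over (Spec (CommRingCat.of k))] [LocallyOfFiniteType (X ↘ (Spec (CommRingCat.of k)))]
    (T : Set X) (hT : T ∈ irreducibleComponents (X : Type u)) :
    {T' : Set (Curv2.bc k X (SeparableClosure k)) | T' ∈ irreducibleComponents (Curv2.bc k X (SeparableClosure k) : Type u) ∧
        (Curv2.bcFst k X (SeparableClosure k)).base '' T' ⊆ T}.Finite ∧
      (Curv2.bcFst k X (SeparableClosure k)).base ⁻¹' T = ⋃₀ {T' : Set (Curv2.bc k X (SeparableClosure k)) | T' ∈ irreducibleComponents (Curv2.bc k X (SeparableClosure k) : Type u) ∧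
        (Curv2.bcFst k X (SeparableClosure k)).base '' T' ⊆ T} ∧
      ∀ T' T'' : Set (Curv2.bc k X (SeparableClosure k)), T' ∈ irreducibleComponents (Curv2.bc k X (SeparableClosure k) : Type u) →
        T'' ∈ irreducibleComponents (Curv2.bc k X (SeparableClosure k) : Type u) →
        (Curv2.bcFst k X (SeparableClosure k)).base '' T' ⊆ T → (Curv2.bcFst k X (SeparableClosure k)).base '' T'' ⊆ T →
        ∃ σ : (SeparableClosure k) ≃ₐ[k] (SeparableClosure k), (Curv2.galAct k X (SeparableClosure k) σ).base '' T' = T'' := by
  refine ⟨Groth.Agent.VarietyB.BaseExt4.finite_components_over k X _ hT,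
    Groth.Agent.VarietyB.BaseExt4.preimage_eq_sUnion (Curv2.bcFst k X (SeparableClosure k)).continuous
      (Groth.Agent.VarietyB.BaseExt4.generalizingMap_bcFst k X _) hT
      (hT.1.isGenericPoint_genericPoint (isClosed_of_mem_irreducibleComponents _ hT)),
    fun T' T'' hT' hT'' h' h'' =>
      Groth.Agent.VarietyB.BaseExt4.exists_galAct_image_eq k X _ hT hT' hT'' h' h''⟩

end Groth.Agent.S1670
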