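import Groth.Statements.S1681
import Groth.Agent.S1682
import Groth.Agent.Divis.CartierBasic
import Groth.Agent.Divis.EffCartier

set_option autoImplicit false
universe u
open CategoryTheory CategoryTheory.Limits AlgebraicGeometry TopologicalSpace
open SDiv

namespace Groth.Agent.S1681

open Groth.Agent.Divis in
/-- A maximal point is not in the support of an effective Cartier ideal. -/
lemma notMem_support_of_maximal {X : Scheme.{u}} {J : X.IdealSheafData}
    (hJ : BlowUp.IsEffCartierIdeal J) (x : X) (hx : ∀ y : X, y ⤳ x → y = x) : x ∉ J.support := by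
  intro hxs
  obtain ⟨g, hg, hgJ⟩ := CartierBasic.exists_stalkIdeal_eq_span hJ x
  rw [CartierBasic.mem_support_iff_stalkIdeal_le, hgJ, Ideal.span_le, Set.singleton_subset_iff] at hxs
  have hnil : IsNilpotent g := by
    rw [nilpotent_iff_mem_prime]
    intro P hP
    have h1 : X.fromSpecStalk x ⟨P, hP⟩ ⤳ x := by
      have : X.fromSpecStalk x ⟨P, hP⟩ ∈ Set.range (X.fromSpecStalk x) := ⟨_, rfl⟩
      rw [Scheme.range_fromSpecStalk] at this
      exact this
    have h2 := hx _ h1
    have h3 : (⟨P, hP⟩ : PrimeSpectrum (X.presheaf.stalk x)) = IsLocalRing.closedPoint _ := by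
      apply (X.fromSpecStalk x).isEmbedding.injective
      rw [Scheme.fromSpecStalk_closedPoint]
      exact h2
    have h4 : P = IsLocalRing.maximalIdeal (X.presheaf.stalk x) := congrArg PrimeSpectrum.asIdeal h3
    rw [h4]
    exact hxs
  obtain ⟨n, hn⟩ := hnil
  have h5 : g ^ n ∈ nonZeroDivisors (X.presheaf.stalk x) := pow_mem hg n
  rw [hn] at h5
  exact zero_notMem_nonZeroDivisors h5

/-- Stacks Tag 0BFM: let b : X' ⟶ X be a blowing-up of X along the quasi-coherent ideal sheaf 𝓘. Then b restricts to a bijection from the maximal points of X' (points with no proper generization) onto the maximal points of X not lying in the support of 𝓘. -/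
theorem result {X X' : Scheme.{u}} (𝓘 : X.IdealSheafData) (b : X' ⟶ X) (hb : BlowUp.IsBlowUp b 𝓘) :
    Set.BijOn (fun x' => b x') {x' : ↥X' | ∀ y : ↥X', y ⤳ x' → y = x'}
      {x : ↥X | (∀ y : ↥X, y ⤳ x → y = x) ∧ x ∉ 𝓘.support} := by
  have hiso : IsIso (b ∣_ 𝓘.support.compl) := Groth.Agent.S1682.result 𝓘 b hb
  -- the complement of the centre
  set U : X.Opens := 𝓘.support.compl with hU
  have hmemU : ∀ x : X, x ∈ U ↔ x ∉ 𝓘.support := fun x => Iff.rfl
  have hinj : ∀ x' y' : X', b x' ∈ U → b y' ∈ U → b x' = b y' → x' = y' := by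
    intro x' y' hx' hy' h
    have h1 : (b ∣_ U) ⟨x', hx'⟩ = (b ∣_ U) ⟨y', hy'⟩ := by
      apply Subtype.ext
      rw [morphismRestrict_base_coe, morphismRestrict_base_coe]
      exact h
    have h2 := (b ∣_ U).homeomorph.injective h1
    exact congrArg Subtype.val h2
  have hsurj : ∀ x ∈ U, ∃ x' : X', b x' = x := by
    intro x hx
    obtain ⟨x', hx'⟩ := (b ∣_ U).homeomorph.surjective ⟨x, hx⟩
    refine ⟨x'.1, ?_⟩
    have := congrArg Subtype.val hx'
    have h2 := morphismRestrict_base_coe b U x'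
    exact h2.symm.trans this
  have hspec : ∀ x' y' : X', b x' ∈ U → b y' ∈ U → b y' ⤳ b x' → y' ⤳ x' := by
    intro x' y' hx' hy' h
    have h1 : (b ∣_ U) ⟨y', hy'⟩ ⤳ (b ∣_ U) ⟨x', hx'⟩ := by
      refine (subtype_specializes_iff (X := X) (p := (· ∈ U)) _ _).2 ?_
      have e1 := morphismRestrict_base_coe b U ⟨y', hy'⟩
      have e2 := morphismRestrict_base_coe b U ⟨x', hx'⟩
      exact (e1.symm ▸ e2.symm ▸ h)
    have h2 := (b ∣_ U).homeomorph.isInducing.specializes_iff.1 h1
    exact (subtype_specializes_iff (X := X') (p := (· ∈ b ⁻¹ᵁ U)) _ _).1 h2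
  have hmax : ∀ x' : X', (∀ y : X', y ⤳ x' → y = x') → b x' ∈ U := by
    intro x' hx'
    have h1 := notMem_support_of_maximal hb.1 x' hx'
    rw [Scheme.IdealSheafData.support_comap] at h1
    exact h1
  refine ⟨?_, ?_, ?_⟩
  · intro x' hx'
    have hxU := hmax x' hx'
    refine ⟨?_, hxU⟩
    intro y hy
    have hyU : y ∈ U := hy.mem_open U.isOpen hxU
    obtain ⟨y', rfl⟩ := hsurj y hyU
    rw [hx' y' (hspec x' y' hxU hyU hy)]
  · intro x' hx' y' hy' h
    exact hinj x' y' (hmax x' hx') (hmax y' hy') h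
  · rintro x ⟨hx, hxs⟩
    obtain ⟨x', rfl⟩ := hsurj x hxs
    refine ⟨x', ?_, rfl⟩
    intro y' hy'
    have h1 : b y' ⤳ b x' := hy'.map b.continuous
    have h2 := hx _ h1
    exact hinj y' x' (by rw [h2]; exact hxs) hxs h2

end Groth.Agent.S1681
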