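import Groth.Statements.S1684
import Groth.Agent.Divis.StalkPrime
import Mathlib.RingTheory.Ideal.UFD

set_option autoImplicit false
universe u
open CategoryTheory CategoryTheory.Limits AlgebraicGeometry TopologicalSpace
open SDiv

namespace Groth.Agent.S1684

/-- Stacks Tag 0AGA: let X be a locally Noetherian scheme and 𝓘 a quasi-coherent ideal sheaf whose closed subscheme D is integral, of codimension 1 in X (the local ring of X at the generic point of D has dimension 1), and such that the local ring of X at every point of D is a unique factorisation domain. Then 𝓘 is the ideal sheaf of an effective Cartier divisor. -/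
theorem result (X : Scheme.{u}) [IsLocallyNoetherian X] (𝓘 : X.IdealSheafData)
    [IsIntegral 𝓘.subscheme]
    (hcodim : ringKrullDim (X.presheaf.stalk (𝓘.subschemeι (genericPoint ↥𝓘.subscheme))) = 1)
    (hufd : ∀ x : ↥X, x ∈ 𝓘.support → IsDomain (X.presheaf.stalk x) ∧ UniqueFactorizationMonoid (X.presheaf.stalk x)) :
    BlowUp.IsEffCartierIdeal 𝓘 := by
  apply Groth.Agent.Divis.CartierBasic.isEffCartierIdeal_of_stalkIdeal
  intro x hx
  obtain ⟨hdom, hU⟩ := hufd x hx
  have hprime := Groth.Agent.Divis.StalkPrime.isPrime_stalkIdeal 𝓘 hx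
  have h1 := Groth.Agent.Divis.StalkPrime.height_eq
    (⟨Groth.Agent.Divis.CartierBasic.stalkIdeal 𝓘 x, hprime⟩ : PrimeSpectrum (X.presheaf.stalk x))
  rw [Groth.Agent.Divis.StalkPrime.ptOf_stalkIdeal 𝓘 hx, hcodim] at h1
  have h2 : (Groth.Agent.Divis.CartierBasic.stalkIdeal 𝓘 x).height = 1 := by
    exact_mod_cast h1.symm
  obtain ⟨g, hg⟩ := UniqueFactorizationMonoid.isPrincipal_of_height_eq_one h2
  refine ⟨g, mem_nonZeroDivisors_of_ne_zero ?_, hg⟩
  rintro rfl
  refine Ideal.ne_bot_of_height_eq_one h2 ?_
  rw [hg]; simp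

end Groth.Agent.S1684
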