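import Groth.Statements.S1685
import Groth.Agent.Divis.CartierStalk
import Groth.Agent.Ega4dB.FiberDepth
import Groth.Agent.Localalg.Depth
import Mathlib.RingTheory.KrullDimension.NonZeroDivisors

set_option autoImplicit false
universe u
open CategoryTheory CategoryTheory.Limits AlgebraicGeometry TopologicalSpace
open SDiv

namespace Groth.Agent.S1685

theorem arith {k : ℕ} {a b : WithBot ℕ∞} {c d : ℕ∞} (h1 : a + 1 ≤ b) (h2 : min (k : WithBot ℕ∞) b ≤ (d : WithBot ℕ∞))
    (h3 : c + 1 = d) : min ((k - 1 : ℕ) : WithBot ℕ∞) a ≤ (c : WithBot ℕ∞) := by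
  subst h3
  rcases Nat.eq_zero_or_pos k with rfl | hk
  · refine (min_le_left _ _).trans ?_
    have : (0 : ℕ∞) ≤ c := zero_le
    exact_mod_cast this
  obtain ⟨k, rfl⟩ := Nat.exists_eq_add_of_le' hk
  rw [Nat.add_sub_cancel]
  have h4 : min (((k + 1 : ℕ)) : WithBot ℕ∞) (a + 1) ≤ ((c + 1 : ℕ∞) : WithBot ℕ∞) :=
    (min_le_min le_rfl h1).trans h2
  cases a with
  | bot => exact (min_le_right _ _).trans bot_le
  | coe a =>
    have h5 : min ((k : ℕ∞) + 1) (a + 1) ≤ c + 1 := by exact_mod_cast h4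
    have h6 : min (k : ℕ∞) a + 1 ≤ c + 1 := by rwa [min_add_add_right] at h5
    have h7 : min (k : ℕ∞) a ≤ c := (ENat.add_le_add_iff_right (by simp)).mp h6
    exact_mod_cast h7

/-- Stacks Tag 0B3R: let X be a locally Noetherian scheme all of whose local rings satisfy Serre's condition (S_k), and let D be the closed subscheme of an effective Cartier divisor. Then all local rings of D satisfy (S_{k-1}). -/
theorem result (X : Scheme.{u}) [IsLocallyNoetherian X] (k : ℕ)
    (hX : ∀ x : ↥X, min (k : WithBot ℕ∞) (ringKrullDim (X.presheaf.stalk x)) ≤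
      ((LocCoh.depth (X.presheaf.stalk x) (X.presheaf.stalk x) : ℕ∞) : WithBot ℕ∞))
    (𝓘 : X.IdealSheafData) (h𝓘 : BlowUp.IsEffCartierIdeal 𝓘) (d : ↥𝓘.subscheme) :
    min ((k - 1 : ℕ) : WithBot ℕ∞) (ringKrullDim (𝓘.subscheme.presheaf.stalk d)) ≤
      ((LocCoh.depth (𝓘.subscheme.presheaf.stalk d) (𝓘.subscheme.presheaf.stalk d) : ℕ∞) : WithBot ℕ∞) := by
  obtain ⟨g, hg, hI⟩ := Groth.Agent.Divis.CartierBasic.exists_stalkIdeal_eq_span h𝓘 (𝓘.subschemeι d)
  let e := Groth.Agent.Divis.CartierStalk.stalkQuotEquiv 𝓘 d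
  have hsupp := (Groth.Agent.Divis.CartierBasic.mem_support_iff_stalkIdeal_le 𝓘 (𝓘.subschemeι d)).mp
    (Groth.Agent.Divis.CartierStalk.subschemeι_mem_support 𝓘 d)
  rw [hI, Ideal.span_singleton_le_iff_mem] at hsupp
  have h1 : ringKrullDim (𝓘.subscheme.presheaf.stalk d) + 1 ≤
      ringKrullDim (X.presheaf.stalk (𝓘.subschemeι d)) := by
    rw [← ringKrullDim_eq_of_ringEquiv e, hI]
    exact ringKrullDim_quotient_succ_le_of_nonZeroDivisor hg
  refine arith h1 (hX (𝓘.subschemeι d)) ?_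
  have hreg : IsSMulRegular (X.presheaf.stalk (𝓘.subschemeι d)) g := by
    intro a b hab
    exact (mul_cancel_left_mem_nonZeroDivisors hg).1 hab
  have : IsNoetherianRing (X.presheaf.stalk (𝓘.subschemeι d)) := inferInstance
  have h2 := Groth.Agent.Localalg.Depth.idealDepth_quotSMulTop_add_one
    (IsLocalRing.maximalIdeal (X.presheaf.stalk (𝓘.subschemeι d))) (X.presheaf.stalk (𝓘.subschemeι d)) g hsupp hreg
  refine Eq.trans ?_ h2
  congr 1
  symm
  -- the depth of the quotient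
  let q : QuotSMulTop g (X.presheaf.stalk (𝓘.subschemeι d)) ≃ₗ[X.presheaf.stalk (𝓘.subschemeι d)]
      (X.presheaf.stalk (𝓘.subschemeι d) ⧸ Groth.Agent.Divis.CartierBasic.stalkIdeal 𝓘 (𝓘.subschemeι d)) :=
    Submodule.quotEquivOfEq _ _ (by
      rw [hI]
      ext z
      simp [Submodule.mem_smul_pointwise_iff_exists, Ideal.mem_span_singleton', mul_comm])
  exact Groth.Agent.Ega4dB.FiberDepth.depth_eq_of_semilinear (𝓘.subschemeι.stalkMap d).hom
    (Groth.Agent.Divis.CartierStalk.stalkMap_subschemeι_surjective 𝓘 d)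
    (q.toAddEquiv.trans e.toAddEquiv) (by
      intro r n
      change e (q (r • n)) = _ • e (q n)
      rw [map_smul]
      obtain ⟨y, hy⟩ := Ideal.Quotient.mk_surjective (q n)
      rw [← hy]
      change e (Ideal.Quotient.mk _ (r * y)) = _ * e _
      rw [map_mul, map_mul]
      rfl)

end Groth.Agent.S1685
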