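import Groth.Statements.S1686
import Groth.Agent.Divis.EffCartier
import Mathlib.RingTheory.KrullDimension.NonZeroDivisors

set_option autoImplicit false
universe u
open CategoryTheory CategoryTheory.Limits AlgebraicGeometry TopologicalSpace
open SDiv

namespace Groth.Agent.S1686

theorem topologicalKrullDim_affine {X : Scheme.{u}} {U : X.Opens} (hU : IsAffineOpen U) :
    topologicalKrullDim (U : Set X) = ringKrullDim Γ(X, U) := by
  rw [← PrimeSpectrum.topologicalKrullDim_eq_ringKrullDim]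
  have h := hU.isoSpec.hom.homeomorph
  exact IsHomeomorph.topologicalKrullDim_eq _ h.isHomeomorph

theorem dim_lt {X : Scheme.{u}} (𝓘 : X.IdealSheafData) (V : X.affineOpens) (f : Γ(X, V.1))
    (hf : f ∈ nonZeroDivisors Γ(X, V.1)) (h : 𝓘.ideal V = Ideal.span {f}) :
    topologicalKrullDim ((𝓘.subschemeι ⁻¹ᵁ V.1 : 𝓘.subscheme.Opens) : Set 𝓘.subscheme) + 1 ≤
      topologicalKrullDim (V.1 : Set X) := by
  rw [topologicalKrullDim_affine V.2, topologicalKrullDim_affine (V.2.preimage 𝓘.subschemeι),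
    ringKrullDim_eq_of_ringEquiv (𝓘.subschemeObjIso V).commRingCatIsoToRingEquiv]
  change ringKrullDim (Γ(X, V.1) ⧸ 𝓘.ideal V) + 1 ≤ _
  rw [h]
  exact ringKrullDim_quotient_succ_le_of_nonZeroDivisor hf

theorem lt_of_add_one_le {a c : WithBot ℕ∞} (h0 : 0 ≤ a) (h : a + 1 ≤ c) (hc : c ≠ ⊤) : a < c := by
  obtain ⟨a, rfl⟩ := WithBot.ne_bot_iff_exists.mp (fun h ↦ by simp [h] at h0 : a ≠ ⊥)
  have hc' : c ≠ ⊥ := by
    rintro rfl
    rw [le_bot_iff] at h
    exact WithBot.coe_ne_bot (a := a + 1) (by exact_mod_cast h)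
  obtain ⟨c, rfl⟩ := WithBot.ne_bot_iff_exists.mp hc'
  have h1 : a + 1 ≤ c := by exact_mod_cast h
  have h2 : c ≠ ⊤ := fun h ↦ hc (by rw [h]; rfl)
  have h3 : a < c := by
    have h4 : a ≠ ⊤ := by
      rintro rfl
      exact h2 (top_le_iff.mp (by simpa using h1))
    exact (ENat.add_one_le_iff h4).mp h1
  exact_mod_cast h3

/-- Stacks Tag 056N: let D be the closed subscheme of an effective Cartier divisor on a scheme S and d a point of D with image s in S. If the local dimension of S at s is finite, then the local dimension of D at d is strictly smaller. -/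
theorem result (S : Scheme.{u}) (𝓘 : S.IdealSheafData) (h𝓘 : BlowUp.IsEffCartierIdeal 𝓘) (d : ↥𝓘.subscheme)
    (hfin : FlatMor.localDim ↥S (𝓘.subschemeι d) ≠ ⊤) :
    FlatMor.localDim ↥𝓘.subscheme d < FlatMor.localDim ↥S (𝓘.subschemeι d) := by
  obtain ⟨⟨U, hU⟩, hUdim⟩ : ∃ U : {U : Opens S // 𝓘.subschemeι d ∈ U},
      topologicalKrullDim (U.1 : Set S) = FlatMor.localDim ↥S (𝓘.subschemeι d) := by
    have : Nonempty {U : Opens S // 𝓘.subschemeι d ∈ U} := ⟨⟨⊤, trivial⟩⟩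
    exact ciInf_mem (fun U : {U : Opens S // 𝓘.subschemeι d ∈ U} ↦ topologicalKrullDim (U.1 : Set S))
  obtain ⟨V, hdV, hVU, f, hf, hIf⟩ := Groth.Agent.Divis.EffCartier.exists_princAt h𝓘 (𝓘.subschemeι d) U hU
  have h1 := dim_lt 𝓘 V f hf hIf
  have h2 : topologicalKrullDim (V.1 : Set S) ≤ topologicalKrullDim (U : Set S) :=
    (Topology.IsEmbedding.inclusion (t := (U : Set S)) hVU).isInducing.topologicalKrullDim_le
  have h3 : FlatMor.localDim ↥𝓘.subscheme d ≤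
      topologicalKrullDim ((𝓘.subschemeι ⁻¹ᵁ V.1 : 𝓘.subscheme.Opens) : Set 𝓘.subscheme) :=
    iInf_le (fun U : {U : Opens 𝓘.subscheme // d ∈ U} ↦ topologicalKrullDim (U.1 : Set 𝓘.subscheme))
      ⟨𝓘.subschemeι ⁻¹ᵁ V.1, hdV⟩
  refine lt_of_le_of_lt h3 ?_
  rw [← hUdim] at hfin ⊢
  have h4 : topologicalKrullDim (V.1 : Set S) ≠ ⊤ := fun h ↦ hfin (top_le_iff.mp (h ▸ h2))
  refine lt_of_lt_of_le ?_ h2
  have hne : Nonempty (V.1 : Set S) := ⟨⟨_, hdV⟩⟩
  have hne' : Nonempty ((𝓘.subschemeι ⁻¹ᵁ V.1 : 𝓘.subscheme.Opens) : Set 𝓘.subscheme) := ⟨⟨d, hdV⟩⟩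
  have h0 : (0 : WithBot ℕ∞) ≤
      topologicalKrullDim ((𝓘.subschemeι ⁻¹ᵁ V.1 : 𝓘.subscheme.Opens) : Set 𝓘.subscheme) := by
    have : Nonempty (IrreducibleCloseds ((𝓘.subschemeι ⁻¹ᵁ V.1 : 𝓘.subscheme.Opens) : Set 𝓘.subscheme)) :=
      ⟨⟨closure {hne'.some}, isIrreducible_singleton.closure, isClosed_closure⟩⟩
    exact Order.krullDim_nonneg
  exact lt_of_add_one_le h0 h1 h4

end Groth.Agent.S1686
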