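import Groth.Statements.S1688
import Groth.Agent.Divis.StalkMod
import Groth.Agent.CurvesA.DimOne

set_option autoImplicit false
universe u
open CategoryTheory CategoryTheory.Limits AlgebraicGeometry TopologicalSpace
open SDiv

namespace Groth.Agent.S1688

/-- Stacks Tag 0CC4: let X be a locally Noetherian integral scheme of dimension at most 1 all of whose local rings are regular, and F a coherent module on X. Then F is torsion free (every stalk is a torsion-free module over the local ring) if and only if F is finite locally free. -/
theorem result (X : Scheme.{u}) [IsIntegral X] [IsLocallyNoetherian X] (hreg : ∀ x : ↥X, IsRegularLocalRing (X.presheaf.stalk x))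
    (hdim : topologicalKrullDim ↥X ≤ 1) (F : X.Modules) (hF : Coh.IsCoh F) :
    (∀ x : ↥X, NoZeroSMulDivisors (X.presheaf.stalk x) (F.presheaf.stalk x)) ↔ FlatMod.IsFinLocFree F := by
  have hdimx : ∀ x : ↥X, ringKrullDim (X.presheaf.stalk x) ≤ 1 := fun x =>
    (Groth.Agent.CurvesA.DimOne.ringKrullDim_stalk_le X x).trans hdim
  constructor
  · intro h
    refine Groth.Agent.Divis.StalkMod.isFinLocFree_of_free_stalk hF (fun x => ?_)
    have h1 := hreg x
    have h2 := Groth.Agent.Divis.StalkMod.finite_stalk hF x
    have h3 := h x
    have h4 : Module.IsTorsionFree (X.presheaf.stalk x) (F.presheaf.stalk x) := by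
      constructor
      intro r hr
      rw [isSMulRegular_iff_right_eq_zero_of_smul]
      intro m hm
      exact (h3.eq_zero_or_eq_zero_of_smul_eq_zero hm).resolve_left hr.ne_zero
    exact Groth.Agent.Divis.ReflexAlg.free_of_isTorsionFree (hdimx x) _
  · intro h x
    obtain ⟨h1, h2⟩ := Groth.Agent.Divis.StalkMod.finite_free_stalk hF.1 h x
    have h3 : Module.IsTorsionFree (X.presheaf.stalk x) (F.presheaf.stalk x) := inferInstance
    have h0 := hreg x
    have h4 := Groth.Agent.CalgA.RegBasic.isDomain (X.presheaf.stalk x)
    constructor
    intro c m hcm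
    by_cases hc : c = 0
    · exact Or.inl hc
    · right
      have := h3.isSMulRegular (IsRegular.of_ne_zero hc)
      rw [isSMulRegular_iff_right_eq_zero_of_smul] at this
      exact this m hcm

end Groth.Agent.S1688
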