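import Groth.Statements.S1689
import Groth.Agent.Divis.StalkMod
import Groth.Agent.CurvesA.DimOne

set_option autoImplicit false
universe u
open CategoryTheory CategoryTheory.Limits AlgebraicGeometry TopologicalSpace
open SDiv

namespace Groth.Agent.S1689

/-- Stacks Tag 0B3N: let X be a locally Noetherian scheme of dimension at most 2 all of whose local rings are regular, and F a coherent module on X. Then F is reflexive (every stalk is a reflexive module over the local ring) if and only if F is finite locally free. -/
theorem result (X : Scheme.{u}) [IsLocallyNoetherian X]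
    (hreg : ∀ x : ↥X, IsRegularLocalRing (X.presheaf.stalk x)) (hdim : topologicalKrullDim ↥X ≤ 2) (F : X.Modules)
    (hF : Coh.IsCoh F) : (∀ x : ↥X, Module.IsReflexive (X.presheaf.stalk x) (F.presheaf.stalk x)) ↔ FlatMod.IsFinLocFree F := by
  have hdimx : ∀ x : ↥X, ringKrullDim (X.presheaf.stalk x) ≤ 2 := fun x =>
    (Groth.Agent.CurvesA.DimOne.ringKrullDim_stalk_le X x).trans hdim
  constructor
  · intro h
    refine Groth.Agent.Divis.StalkMod.isFinLocFree_of_free_stalk hF (fun x => ?_)
    have h1 := hreg x
    have h2 := Groth.Agent.Divis.StalkMod.finite_stalk hF x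
    have h3 := h x
    exact Groth.Agent.Divis.ReflexAlg.free_of_isReflexive (hdimx x) _
  · intro h x
    obtain ⟨h1, h2⟩ := Groth.Agent.Divis.StalkMod.finite_free_stalk hF.1 h x
    infer_instance

end Groth.Agent.S1689
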