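import Groth.Statements.S1690
import Groth.Agent.Divis.ReflexExtend
import Groth.Agent.Dcoh.LocalFree

set_option autoImplicit false
universe u
open CategoryTheory CategoryTheory.Limits AlgebraicGeometry TopologicalSpace
open SDiv

namespace Groth.Agent.S1690

open Groth.Agent.Divis.StalkMod Groth.Agent.Divis.ReflexAlg Groth.Agent.Divis.ExtendStalk
open Groth.Agent.Divis.ReflexSheaf Groth.Agent.Divis.ReflexExtend Groth.Agent.Divis.DepthTwo

/-- The restriction of a module which is free on `V` to `U` is free on the trace of `V`. -/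
theorem isFree_restrict_restrict {X : Scheme.{u}} (F : X.Modules) (U V : X.Opens)
    (h : Groth.Agent.Dcoh.LocalFree.IsFree (F.restrict V.ι)) :
    Groth.Agent.Dcoh.LocalFree.IsFree ((F.restrict U.ι).restrict (U.ι ⁻¹ᵁ V).ι) := by
  let k := U.ι ∣_ V
  have hk : k ≫ V.ι = (U.ι ⁻¹ᵁ V).ι ≫ U.ι := morphismRestrict_ι U.ι V
  exact Groth.Agent.Dcoh.LocalFree.isFree_of_iso
    (((Scheme.Modules.restrictFunctorComp k V.ι).symm ≪≫
      Scheme.Modules.restrictFunctorCongr hk ≪≫
      Scheme.Modules.restrictFunctorComp (U.ι ⁻¹ᵁ V).ι U.ι).app F)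
    (Groth.Agent.Dcoh.LocalFree.isFree_restrict _ k h)

/-- The open subset where the module is locally free. -/
def freeOpen {X : Scheme.{u}} (F : X.Modules) : X.Opens :=
  sSup {V : X.Opens | Groth.Agent.Dcoh.LocalFree.IsFree (F.restrict V.ι)}

theorem isFinLocFree_restrict_freeOpen {X : Scheme.{u}} (F : X.Modules) :
    FlatMod.IsFinLocFree (F.restrict (freeOpen F).ι) := by
  rintro ⟨x, hx⟩
  obtain ⟨V, hV, hxV⟩ := Opens.mem_sSup.mp hx
  obtain ⟨n, h⟩ := isFree_restrict_restrict F (freeOpen F) V hV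
  exact ⟨(freeOpen F).ι ⁻¹ᵁ V, n, hxV, h⟩

theorem le_one_of_not (d : WithBot ℕ∞) (h : ¬ 2 ≤ d) : d ≤ 1 := by
  rw [not_le] at h
  have h2 : (2 : WithBot ℕ∞) = ((1 : ℕ) : WithBot ℕ∞) + 1 := by norm_num
  rw [h2, ENat.WithBot.lt_add_one_iff] at h
  simpa using h

/-- Outside the free locus of a reflexive coherent module on a normal scheme the local rings have
dimension at least two. -/
theorem two_le_of_notMem {X : Scheme.{u}} [IsLocallyNoetherian X] (hX : Pi1.IsNormalScheme X)
    (F : X.Modules) (hF : Coh.IsCoh F)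
    (h : ∀ x : ↥X, Module.IsReflexive (X.presheaf.stalk x) (F.presheaf.stalk x))
    (x : X) (hx : x ∉ freeOpen F) : (2 : WithBot ℕ∞) ≤ ringKrullDim (X.presheaf.stalk x) := by
  by_contra hlt
  have hle : ringKrullDim (X.presheaf.stalk x) ≤ 1 := le_one_of_not _ hlt
  have h0 := (hX x).1
  have h1 := (hX x).2
  have := isPrincipalIdealRing_of_isIntegrallyClosed hle
  have h2 := h x
  have h3 := finite_stalk hF x
  have h4 : Module.Free (X.presheaf.stalk x) (F.presheaf.stalk x) :=
    Module.free_of_finite_type_torsion_free'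
  obtain ⟨V, n, hxV, e⟩ := exists_free_nhd hF x h4
  exact hx (Opens.mem_sSup.mpr ⟨V, ⟨n, e⟩, hxV⟩)

/-- Stacks Tag 0AY6, (1) if and only if (3): let X be an integral locally Noetherian normal scheme and F a coherent module. Then F is reflexive (stalkwise) if and only if there is an open subscheme j : U ⟶ X such that every point outside U has local ring of dimension at least 2, the restriction of F to U is finite locally free, and the canonical map F ⟶ j_* j^* F is an isomorphism. -/
theorem result (X : Scheme.{u}) [IsIntegral X] [IsLocallyNoetherian X] (hX : Pi1.IsNormalScheme X)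
    (F : X.Modules) (hF : Coh.IsCoh F) :
    (∀ x : ↥X, Module.IsReflexive (X.presheaf.stalk x) (F.presheaf.stalk x)) ↔
      ∃ U : X.Opens, (∀ x : ↥X, x ∉ U → (2 : WithBot ℕ∞) ≤ ringKrullDim (X.presheaf.stalk x)) ∧
        FlatMod.IsFinLocFree (F.restrict U.ι) ∧ IsIso ((Scheme.Modules.restrictAdjunction U.ι).unit.app F) := by
  constructor
  · intro h
    have hdom : ∀ x : ↥X, IsDomain (X.presheaf.stalk x) := fun x => (hX x).1
    refine ⟨freeOpen F, two_le_of_notMem hX F hF h, isFinLocFree_restrict_freeOpen F, ?_⟩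
    rw [isIso_unit_iff]
    apply bijective_of_stalk hF
    intro x hx
    have h1 := (hX x).2
    have h2 := h x
    obtain ⟨a, ha, b, hb, hab⟩ := exists_regPair_of_isIntegrallyClosed
      (two_le_of_notMem hX F hF h x hx)
    exact ⟨a, ha, b, hb, regPair_of_isReflexive hab⟩
  · rintro ⟨U, -, hfree, hiso⟩ x
    rw [isIso_unit_iff] at hiso
    refine isReflexive_stalk hF U ?_ hiso x
    intro y hy
    have hq : SheafOfModules.IsQuasicoherent (R := X.ringCatSheaf) F := hF.1
    have hq' : Coh.IsQCoh (F.restrict U.ι) := by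
      change SheafOfModules.IsQuasicoherent (R := (U : Scheme.{u}).ringCatSheaf)
        ((Scheme.Modules.restrictFunctor U.ι).obj F)
      infer_instance
    obtain ⟨h1, h2⟩ := finite_free_stalk hq' hfree (⟨y, hy⟩ : U)
    exact (isReflexive_restrict_iff U.ι F (⟨y, hy⟩ : U)).mp inferInstance

end Groth.Agent.S1690
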