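import Groth.Statements.S1691
import Groth.Agent.Divis.FinitePush
import Mathlib.AlgebraicGeometry.FunctionField

set_option autoImplicit false
universe u
open CategoryTheory CategoryTheory.Limits AlgebraicGeometry TopologicalSpace
open SDiv

namespace Groth.Agent.S1691

open Groth.Agent.Divis.StalkMod Groth.Agent.Divis.ReflexAlg Groth.Agent.Divis.ExtendStalk
open Groth.Agent.Divis.ReflexSheaf Groth.Agent.Divis.ReflexExtend Groth.Agent.Divis.DepthTwo
open Groth.Agent.Divis.FinitePush Groth.Agent.CohqB.QC2

theorem eq_zero_of_germ_eq_zero {X : Scheme.{u}} [IsIntegral X] {V : X.Opens} (x : X) (hx : x ∈ V)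
    (s : Γ(X, V)) (h : X.presheaf.germ V x hx s = 0) : s = 0 := by
  obtain ⟨W, hxW, i, _, h'⟩ := X.presheaf.germ_eq x hx hx s 0 (by rw [h, map_zero])
  have : Nonempty W := ⟨⟨x, hxW⟩⟩
  exact map_injective_of_isIntegral X i (h'.trans (by rw [map_zero, map_zero]))

/-- The extension property of a direct image from `U`. -/
theorem bijective_res_push {X : Scheme.{u}} (U : X.Opens) (G : (U : Scheme.{u}).Modules)
    (V : X.Opens) :
    Function.Bijective (res ((Scheme.Modules.pushforward U.ι).obj G) (inf_le_left : V ⊓ U ≤ V)) := by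
  have h1 : U.ι ⁻¹ᵁ V = U.ι ⁻¹ᵁ (V ⊓ U) := by
    rw [Scheme.Hom.preimage_inf]
    simp
  exact res_injective_of_eq G (Scheme.Hom.preimage_mono U.ι (inf_le_left : V ⊓ U ≤ V)) h1

/-- The direct image of a reflexive module from an open is reflexive at the points of the open. -/
theorem isReflexive_push {X : Scheme.{u}} (U : X.Opens) (G : (U : Scheme.{u}).Modules)
    (hr : ∀ x : ↥(U : Scheme.{u}),
      Module.IsReflexive ((U : Scheme.{u}).presheaf.stalk x) (G.presheaf.stalk x))
    (x : X) (hx : x ∈ U) : Module.IsReflexive (X.presheaf.stalk x)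
      (((Scheme.Modules.pushforward U.ι).obj G).presheaf.stalk x) := by
  let e : ((Scheme.Modules.pushforward U.ι).obj G).restrict U.ι ≅ G :=
    asIso ((Scheme.Modules.restrictAdjunction U.ι).counit.app G)
  exact (isReflexive_restrict_iff U.ι _ (⟨x, hx⟩ : U)).mp
    (isReflexive_stalk_of_iso e.symm _ (hr ⟨x, hx⟩))

/-- Stacks Tag 0EBJ: let X be an integral locally Noetherian scheme and j : U ⟶ X an open subscheme such that the local ring of X at every point outside U has depth at least 2. Then (a) for every coherent reflexive module F on X the canonical map F ⟶ j_* j^* F is an isomorphism, and (b) for every coherent reflexive module G on U the direct image j_* G is coherent and reflexive (so that j^* and j_* are mutually inverse equivalences). -/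
theorem result (X : Scheme.{u}) [IsIntegral X] [IsLocallyNoetherian X] (U : X.Opens)
    (hU : ∀ x : ↥X, x ∉ U → (2 : ℕ∞) ≤ LocCoh.depth (X.presheaf.stalk x) (X.presheaf.stalk x)) :
    (∀ F : X.Modules, Coh.IsCoh F → (∀ x : ↥X, Module.IsReflexive (X.presheaf.stalk x) (F.presheaf.stalk x)) →
        IsIso ((Scheme.Modules.restrictAdjunction U.ι).unit.app F)) ∧
      (∀ G : (U : Scheme.{u}).Modules, Coh.IsCoh G → (∀ x : ↥(U : Scheme.{u}), Module.IsReflexive ((U : Scheme.{u}).presheaf.stalk x) (G.presheaf.stalk x)) →
        Coh.IsCoh ((Scheme.Modules.pushforward U.ι).obj G) ∧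
          (∀ x : ↥X, Module.IsReflexive (X.presheaf.stalk x) (((Scheme.Modules.pushforward U.ι).obj G).presheaf.stalk x))) := by
  have hpair : ∀ x : X, x ∉ U → ∃ a ∈ IsLocalRing.maximalIdeal (X.presheaf.stalk x),
      ∃ b ∈ IsLocalRing.maximalIdeal (X.presheaf.stalk x), RegPair a b (X.presheaf.stalk x) :=
    fun x hx => exists_regPair_of_two_le_depth (hU x hx)
  constructor
  · intro F hF hr
    rw [isIso_unit_iff]
    apply bijective_of_stalk hF
    intro x hx
    have h2 := hr x
    obtain ⟨a, ha, b, hb, hab⟩ := hpair x hx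
    exact ⟨a, ha, b, hb, regPair_of_isReflexive hab⟩
  · intro G hG hr
    have hq : Coh.IsQCoh ((Scheme.Modules.pushforward U.ι).obj G) :=
      Groth.Agent.Ega1.QcqsPush.isQCoh_pushforward U.ι G hG.1
    have hfin : ∀ V : X.Opens, IsAffineOpen V →
        Module.Finite Γ(X, V) Γ((Scheme.Modules.pushforward U.ι).obj G, V) := by
      intro V hV
      refine finite_sections_push U hpair _ hq
        (fun W hW hWU => Groth.Agent.Ega1.ExtendAff2.finite_pushforward U G hG W hW hWU) hV ?_
      intro s hs m hsm
      apply (injective_iff_map_eq_zero _).mp (bijective_res_push U G V).1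
      apply eq_zero_of_germ
      intro x hx
      rw [germ_res]
      have h1 := isReflexive_push U G hr x hx.2
      have h2 : Module.IsTorsionFree (X.presheaf.stalk x)
        (((Scheme.Modules.pushforward U.ι).obj G).presheaf.stalk x) := inferInstance
      have h3 : X.presheaf.germ V x hx.1 s ≠ 0 := fun h0 => hs (eq_zero_of_germ_eq_zero x hx.1 s h0)
      have h4 := h2.isSMulRegular (IsRegular.of_ne_zero h3)
      rw [isSMulRegular_iff_right_eq_zero_of_smul] at h4
      apply h4
      rw [← Groth.Agent.Fdesc.QCohStalk.germ_smul', hsm, map_zero]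
    have hcoh : Coh.IsCoh ((Scheme.Modules.pushforward U.ι).obj G) :=
      ⟨hq, Groth.Agent.CohqB.FiniteType2.isFT_of_finite_sections _ (fun x => by
        obtain ⟨V, hV, hxV⟩ := exists_affine x
        exact ⟨V, hxV, hV, hfin V hV⟩)⟩
    exact ⟨hcoh, isReflexive_stalk hcoh U (isReflexive_push U G hr) (bijective_res_push U G)⟩

end Groth.Agent.S1691
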