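import Groth.Statements.S1693
-- import your own Groth.Agent.* helpers here

set_option autoImplicit false
universe u
open CategoryTheory CategoryTheory.Limits AlgebraicGeometry TopologicalSpace
open SDiv

namespace Groth.Agent.S1693

theorem locallyFinite_irreducibleComponents {X : Type*} [TopologicalSpace X]
    (hX : ∀ x : X, ∃ U : Set X, IsOpen U ∧ x ∈ U ∧ NoetherianSpace U) (Z : Set X) :
    LocallyFinite (fun T : ↥(irreducibleComponents ↥Z) => ((↑) '' (T.1 : Set ↥Z) : Set X)) := by
  intro x
  obtain ⟨U, hU, hxU, hN⟩ := hX x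
  refine ⟨U, hU.mem_nhds hxU, ?_⟩
  set V : Set Z := (↑) ⁻¹' U with hV
  have hVo : IsOpen V := hU.preimage continuous_subtype_val
  have hf : Topology.IsOpenEmbedding ((↑) : V → Z) := hVo.isOpenEmbedding_subtypeVal
  have hVN : NoetherianSpace V := by
    let g : V → U := fun v => ⟨v.1.1, v.2⟩
    have hg : Topology.IsInducing g := by
      have h1 : Topology.IsInducing (((↑) : U → X) ∘ g) :=
        (Topology.IsInducing.subtypeVal (t := Z)).comp
          (Topology.IsInducing.subtypeVal (t := V))
      exact Topology.IsInducing.subtypeVal.of_comp_iff.mp h1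
    exact hg.noetherianSpace
  have hfin : (irreducibleComponents V).Finite := NoetherianSpace.finite_irreducibleComponents
  have key : ∀ T : ↥(irreducibleComponents ↥Z), (((↑) '' (T.1 : Set ↥Z) : Set X) ∩ U).Nonempty →
      (T.1 ∩ Set.range ((↑) : V → Z)).Nonempty := by
    rintro T ⟨_, ⟨z, hz, rfl⟩, hzU⟩
    exact ⟨z, hz, ⟨z, hzU⟩, rfl⟩
  refine Set.Finite.of_finite_image (f := fun T : ↥(irreducibleComponents ↥Z) =>
    (((↑) : V → Z) ⁻¹' T.1)) (hfin.subset ?_) ?_
  · rintro _ ⟨T, hT, rfl⟩
    exact preimage_mem_irreducibleComponents T.2 hf (key T hT)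
  · intro T hT T' hT' h
    have h1 := closure_image_preimage_of_isPreirreducible ((↑) : V → Z) hf.isOpenMap T.1
      (by
        obtain ⟨_, h1, v, rfl⟩ := key T hT
        exact ⟨v, h1⟩) T.2.1.2 (isClosed_of_mem_irreducibleComponents _ T.2)
    have h2 := closure_image_preimage_of_isPreirreducible ((↑) : V → Z) hf.isOpenMap T'.1
      (by
        obtain ⟨_, h1, v, rfl⟩ := key T' hT'
        exact ⟨v, h1⟩) T'.2.1.2 (isClosed_of_mem_irreducibleComponents _ T'.2)
    dsimp only at h
    rw [h] at h1
    exact Subtype.ext (h1.symm.trans h2)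

theorem exists_noetherian_nhd (X : Scheme.{u}) [IsLocallyNoetherian X] (x : X) :
    ∃ U : Set X, IsOpen U ∧ x ∈ U ∧ NoetherianSpace U := by
  obtain ⟨U, hU, hxU, -⟩ := exists_isAffineOpen_mem_and_subset (x := x) (U := ⊤) trivial
  have : IsNoetherianRing Γ(X, U) := IsLocallyNoetherian.component_noetherian ⟨U, hU⟩
  exact ⟨U, U.2, hxU, noetherianSpace_of_isAffineOpen U hU⟩

/-- Stacks Tag 0BE1: let X be a locally Noetherian scheme and Z a closed subset. Then the irreducible components of Z form a locally finite family of subsets of X. -/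
theorem result (X : Scheme.{u}) [IsLocallyNoetherian X] (Z : Set ↥X) (hZ : IsClosed Z) :
    LocallyFinite (fun T : ↥(irreducibleComponents ↥Z) => ((↑) '' (T.1 : Set ↥Z) : Set ↥X)) := by
  exact locallyFinite_irreducibleComponents (exists_noetherian_nhd X) Z

end Groth.Agent.S1693
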