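import Groth.Statements.S1692
import Groth.Agent.S1693

set_option autoImplicit false
universe u
open CategoryTheory CategoryTheory.Limits AlgebraicGeometry TopologicalSpace
open SDiv

namespace Groth.Agent.S1692

theorem closure_mem (X : Scheme.{u}) [IsIntegral X] (V : X.Opens) [Nonempty V] (ξ : X)
    (hξ : Order.coheight ξ = 1) (hξV : ξ ∉ V) :
    ((↑) ⁻¹' (closure {ξ} : Set X) : Set ↥((V : Set X)ᶜ)) ∈ irreducibleComponents ↥((V : Set X)ᶜ) := by
  set Z : Set X := (V : Set X)ᶜ with hZ
  have hZc : IsClosed Z := V.2.isClosed_compl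
  have hξZ : ξ ∈ Z := hξV
  have hcl : closure {ξ} ⊆ Z := hZc.closure_subset_iff.mpr (by simpa using hξZ)
  have himg : ((↑) ⁻¹' (closure {ξ} : Set X) : Set Z) = closure {⟨ξ, hξZ⟩} := by
    rw [(Topology.IsInducing.subtypeVal (t := Z)).closure_eq_preimage_closure_image,
      Set.image_singleton]
  constructor
  · rw [himg]
    exact isIrreducible_singleton.closure
  · intro T hT hle z hz
    -- closure of the image of `T` is an irreducible closed subset of `X`
    have hT1 : IsIrreducible (closure ((↑) '' T : Set X)) :=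
      (hT.image _ continuous_subtype_val.continuousOn).closure
    obtain ⟨η, hη⟩ := QuasiSober.sober hT1 isClosed_closure
    have hTZ : closure ((↑) '' T : Set X) ⊆ Z :=
      hZc.closure_subset_iff.mpr (by rintro _ ⟨t, -, rfl⟩; exact t.2)
    have hηZ : η ∈ Z := hTZ hη.mem
    have hξT : ξ ∈ closure ((↑) '' T : Set X) := by
      refine subset_closure ?_
      exact ⟨⟨ξ, hξZ⟩, hle (show ξ ∈ closure {ξ} from subset_closure rfl), rfl⟩
    have hsp : η ⤳ ξ := hη.specializes hξT
    have hηtop : η ≠ genericPoint X := by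
      rintro rfl
      obtain ⟨⟨v, hv⟩⟩ := (inferInstance : Nonempty V)
      exact hηZ ((genericPoint_specializes v).mem_open V.2 hv)
    have : η = ξ := by
      by_contra hne
      have hlt : ξ < η := by
        refine lt_of_le_not_ge hsp ?_
        intro h
        exact hne ((show ξ ⤳ η from h).antisymm hsp).eq.symm
      have hlt2 : η < genericPoint X := by
        refine lt_of_le_not_ge (genericPoint_specializes η) ?_
        intro h
        exact hηtop ((show η ⤳ genericPoint X from h).antisymm (genericPoint_specializes η)).eq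
      have h2 : (2 : ℕ∞) ≤ Order.coheight ξ := by
        have h3 := Order.coheight_add_one_le hlt
        have h4 := Order.coheight_add_one_le hlt2
        calc (2 : ℕ∞) = 0 + 1 + 1 := by norm_num
          _ ≤ Order.coheight (genericPoint X) + 1 + 1 := by gcongr; exact zero_le
          _ ≤ Order.coheight η + 1 := by gcongr
          _ ≤ Order.coheight ξ := h3
      rw [hξ] at h2
      exact absurd h2 (by decide)
    subst this
    have : (z : X) ∈ closure ((↑) '' T : Set X) := subset_closure ⟨z, hz, rfl⟩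
    rw [← hη.def] at this
    exact this

/-- Stacks Tag 02RL: let X be a locally Noetherian integral scheme and f a nonzero rational function. Then the closures of the codimension-one points at which f has nonzero order of vanishing form a locally finite family of closed subsets of X. -/
theorem result (X : Scheme.{u}) [IsIntegral X] [IsLocallyNoetherian X] (f : ↑X.functionField) (hf : f ≠ 0) :
    LocallyFinite (fun ξ : {ξ : ↥X // Order.coheight ξ = 1 ∧ Scheme.ord f ξ ≠ 0} => closure ({ξ.1} : Set ↥X)) := by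
  obtain ⟨V, -, f', hVne, hf', hunit⟩ := exists_isUnit_germ_eq X f hf
  have hlf := S1693.result X ((V : Set X)ᶜ) V.2.isClosed_compl
  have hξV : ∀ ξ : {ξ : ↥X // Order.coheight ξ = 1 ∧ Scheme.ord f ξ ≠ 0}, ξ.1 ∉ V := by
    rintro ⟨ξ, hξ, hord⟩ hmem
    refine hord ?_
    rw [← hf']
    exact Scheme.ord_of_isUnit hunit hmem
  let g : {ξ : ↥X // Order.coheight ξ = 1 ∧ Scheme.ord f ξ ≠ 0} →
      ↥(irreducibleComponents ↥((V : Set X)ᶜ)) := fun ξ =>
    ⟨_, closure_mem X V ξ.1 ξ.2.1 (hξV ξ)⟩
  have hg : Function.Injective g := by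
    intro ξ ξ' h
    have h1 : ((↑) ⁻¹' (closure {ξ.1} : Set X) : Set ↥((V : Set X)ᶜ)) =
      (↑) ⁻¹' (closure {ξ'.1} : Set X) := congrArg Subtype.val h
    have h2 : ξ.1 ∈ closure {ξ'.1} := by
      have : (⟨ξ.1, hξV ξ⟩ : ↥((V : Set X)ᶜ)) ∈ ((↑) ⁻¹' (closure {ξ.1} : Set X) : Set ↥((V : Set X)ᶜ)) :=
        show ξ.1 ∈ closure {ξ.1} from subset_closure rfl
      rw [h1] at this
      exact this
    have h3 : ξ'.1 ∈ closure {ξ.1} := by
      have : (⟨ξ'.1, hξV ξ'⟩ : ↥((V : Set X)ᶜ)) ∈ ((↑) ⁻¹' (closure {ξ'.1} : Set X) : Set ↥((V : Set X)ᶜ)) :=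
        show ξ'.1 ∈ closure {ξ'.1} from subset_closure rfl
      rw [← h1] at this
      exact this
    exact Subtype.ext (((specializes_iff_mem_closure.mpr h3).antisymm
      (specializes_iff_mem_closure.mpr h2)).eq)
  have h := hlf.comp_injective hg
  convert h using 2 with ξ
  have hcl : closure {ξ.1} ⊆ ((V : Set X)ᶜ) :=
    V.2.isClosed_compl.closure_subset_iff.mpr (by simpa using hξV ξ)
  change closure {ξ.1} = (↑) '' ((↑) ⁻¹' (closure {ξ.1} : Set X) : Set ↥((V : Set X)ᶜ))
  rw [Subtype.image_preimage_coe]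
  exact (Set.inter_eq_right.mpr hcl).symm

end Groth.Agent.S1692
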