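import Groth.Statements.S1696
import Groth.Agent.Fdesc.PullbackStalk
import Groth.Agent.Divis.CartierBasic
import Mathlib.RingTheory.Flat.TorsionFree

set_option autoImplicit false
universe u
open CategoryTheory CategoryTheory.Limits AlgebraicGeometry TopologicalSpace
open SDiv

namespace Groth.Agent.S1696

open Groth.Agent.Divis.CartierBasic

/-- A section of a module which is flat at the points of an effective Cartier divisor and which is killed by a
power of its ideal is zero. -/
theorem eq_zero_of_killedByPowerNear {X : Scheme.{u}} {J : X.IdealSheafData}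
    (hJ : BlowUp.IsEffCartierIdeal J) (N : X.Modules)
    (hN : ∀ x ∈ J.support, Module.Flat (X.presheaf.stalk x) (N.presheaf.stalk x))
    (V : X.affineOpens) (m : N.presheaf.obj (Opposite.op V.1))
    (h : BlowUp.KilledByPowerNear J N V m) : m = 0 := by
  obtain ⟨n, hn⟩ := h
  apply TopCat.Presheaf.section_ext ⟨N.presheaf, N.isSheaf⟩ V.1
  intro x hx
  change N.presheaf.germ V.1 x hx m = N.presheaf.germ V.1 x hx 0
  rw [map_zero]
  -- the annihilator of the germ contains the stalk ideal
  have key : ∀ r ∈ stalkIdeal (J ^ n) x, r • N.presheaf.germ V.1 x hx m = 0 := by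
    have h1 : stalkIdeal (J ^ n) x ≤
        LinearMap.ker (LinearMap.toSpanSingleton (X.presheaf.stalk x) (N.presheaf.stalk x)
          (N.presheaf.germ V.1 x hx m)) := by
      rw [stalkIdeal_eq _ V hx, Ideal.map_le_iff_le_comap]
      intro a ha
      rw [Ideal.mem_comap, LinearMap.mem_ker, LinearMap.toSpanSingleton_apply]
      have h2 := hn a ha
      have h3 := Groth.Agent.Fdesc.Skyscraper.germ_smul N x V.1 hx a m
      rw [h2, map_zero] at h3
      exact h3.symm
    intro r hr
    exact h1 hr
  rw [stalkIdeal_pow] at key
  by_cases hxs : x ∈ J.support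
  · obtain ⟨g, hg, hgJ⟩ := exists_stalkIdeal_eq_span hJ x
    have hflN := hN x hxs
    have hgn : g ^ n ∈ nonZeroDivisors (X.presheaf.stalk x) := pow_mem hg n
    have h4 := Module.Flat.isSMulRegular_of_nonZeroDivisors (M := N.presheaf.stalk x) hgn
    apply h4
    change g ^ n • _ = g ^ n • (0 : N.presheaf.stalk x)
    rw [smul_zero]
    apply key
    rw [hgJ, Ideal.span_singleton_pow]
    exact Ideal.mem_span_singleton_self _
  · rw [notMem_support_iff_stalkIdeal_eq_top] at hxs
    rw [hxs, Ideal.top_pow] at key
    have := key 1 trivial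
    rwa [one_smul] at this

/-- Stacks Tag 080F (2), for a module on the base itself: let b : S' ⟶ S be a blowing-up along the quasi-coherent ideal sheaf 𝓘 and F a quasi-coherent module on S which is flat at every point of the support of 𝓘. Then the pullback b^* F is its own strict transform: no nonzero local section of b^* F is annihilated by a power of the exceptional ideal. -/
theorem result {S S' : Scheme.{u}} (𝓘 : S.IdealSheafData) (b : S' ⟶ S) (hb : BlowUp.IsBlowUp b 𝓘)
    (F : S.Modules) (hF : Coh.IsQCoh F) (hflat : ∀ s : ↥S, s ∈ 𝓘.support → FlatMod.IsFlatAt F s) :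
    BlowUp.IsStrictTransform b 𝓘 F ((Scheme.Modules.pullback b).obj F) (𝟙 _) := by
  refine ⟨inferInstance, fun V m => ⟨fun h => ?_, fun h => ?_⟩⟩
  · have hm : m = 0 := h
    exact ⟨0, fun a _ => by rw [hm, smul_zero]⟩
  · refine eq_zero_of_killedByPowerNear hb.1 _ (fun x hx => ?_) V m h
    have hbx : b x ∈ 𝓘.support := by
      rw [Scheme.IdealSheafData.support_comap] at hx
      exact hx
    have hfl : Module.Flat (S.presheaf.stalk (b.base x)) (F.presheaf.stalk (b.base x)) := hflat _ hbx
    letI := Groth.Agent.Fdesc.PullbackStalk.stalkAlg b x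
    exact Module.Flat.of_linearEquiv (Groth.Agent.Fdesc.PullbackStalk.stalkPullbackEquiv b F x).symm

end Groth.Agent.S1696
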