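import Groth.Statements.S1698
import Groth.Agent.Divis.PushDepth

set_option autoImplicit false
universe u
open CategoryTheory CategoryTheory.Limits AlgebraicGeometry TopologicalSpace
open SDiv

namespace Groth.Agent.S1698

/-- Stacks Tag 0EY0 (3) and (6): let f : X ⟶ S be quasi-compact and quasi-separated, F a quasi-coherent module on X and s a point of S such that the stalk (f_* F)_s is a finite module over O_{S,s}. (3) If s is not in the image of f and O_{S,s} is Noetherian, then (f_* F)_s has depth at least 2. (6) If F is flat over S, then (f_* F)_s has depth at least min(2, depth O_{S,s}). -/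
theorem result {X S : Scheme.{u}} (f : X ⟶ S) [QuasiCompact f] [QuasiSeparated f] (F : X.Modules)
    (hF : Coh.IsQCoh F) (s : ↥S)
    [Module.Finite (S.presheaf.stalk s) (((Scheme.Modules.pushforward f).obj F).presheaf.stalk s)] :
    ((s ∉ Set.range (fun x => f x)) → IsNoetherianRing (S.presheaf.stalk s) →
        (2 : ℕ∞) ≤ LocCoh.depth (S.presheaf.stalk s) (((Scheme.Modules.pushforward f).obj F).presheaf.stalk s)) ∧
      (FlatMod.IsFlatOver f F →
        min (2 : ℕ∞) (LocCoh.depth (S.presheaf.stalk s) (S.presheaf.stalk s)) ≤
          LocCoh.depth (S.presheaf.stalk s) (((Scheme.Modules.pushforward f).obj F).presheaf.stalk s)) := by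
  refine ⟨fun hs _ => ?_, fun hflat => ?_⟩
  · exact Groth.Agent.Divis.PushDepth.depth_of_notMem f F s hs
  · exact Groth.Agent.Divis.PushDepth.depth_of_flat f F s hflat

end Groth.Agent.S1698
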