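import Groth.Statements.S1699
import Groth.Agent.Divis.AssRing

set_option autoImplicit false
universe u
open CategoryTheory CategoryTheory.Limits AlgebraicGeometry TopologicalSpace
open SDiv

namespace Groth.Agent.S1699

/-- Stacks Tag 083P, (1) if and only if (3): let X be a locally Noetherian scheme and U an open subscheme. Then U is scheme-theoretically dense in X if and only if U contains every associated point of X (every point whose local ring has its maximal ideal as an associated prime). -/
theorem result (X : Scheme.{u}) [IsLocallyNoetherian X] (U : X.Opens) :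
    CInt.IsSchematicallyDense U ↔ ∀ x : ↥X, IsAssociatedPrime (IsLocalRing.maximalIdeal ↑(X.presheaf.stalk x)) ↑(X.presheaf.stalk x) → x ∈ U := by
  constructor
  · intro hd x hx
    by_contra hxU
    obtain ⟨_, ⟨V, hV, rfl⟩, hxV, -⟩ :=
      X.isBasis_affineOpens.exists_subset_of_mem_open (Set.mem_univ x) isOpen_univ
    have hxV' : x ∈ (V : X.Opens) := hxV
    have : IsNoetherianRing Γ(X, V) := IsLocallyNoetherian.component_noetherian ⟨V, hV⟩
    rw [Groth.Agent.Divis.AssRing.isAssociatedPrime_stalk_iff hV hxV'] at hx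
    obtain ⟨hp, t, ht⟩ := isAssociatedPrime_iff.mp hx
    have ht0 : X.presheaf.map (homOfLE (inf_le_left : V ⊓ U ≤ V)).op t = 0 := by
      apply TopCat.Presheaf.section_ext X.sheaf
      intro y hy
      refine Eq.trans ?_ (map_zero (X.presheaf.germ (V ⊓ U) y hy).hom).symm
      have h1 : X.presheaf.germ (V ⊓ U) y hy (X.presheaf.map (homOfLE (inf_le_left : V ⊓ U ≤ V)).op t) =
        X.presheaf.germ V y hy.1 t := TopCat.Presheaf.germ_res_apply _ _ _ _ _
      refine Eq.trans h1 ?_
      have hxy : ¬ (hV.primeIdealOf ⟨x, hxV'⟩).asIdeal ≤ (hV.primeIdealOf ⟨y, hy.1⟩).asIdeal := by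
        rw [← Groth.Agent.Divis.WeakAss.specializes_iff_primeIdealOf_le hV]
        intro hxy
        exact hxU (hxy.mem_open U.isOpen hy.2)
      obtain ⟨g, hg, hgy⟩ := Set.not_subset.mp hxy
      have hgt : g * t = 0 := by
        have : g ∈ (hV.primeIdealOf ⟨x, hxV'⟩).asIdeal := hg
        rw [ht, Submodule.mem_colon_singleton, Submodule.mem_bot] at this
        exact this
      have hgu : IsUnit (X.presheaf.germ V y hy.1 g) :=
        (X.mem_basicOpen g y hy.1).mp ((Groth.Agent.Fdesc.QCohStalk.mem_basicOpen_iff hV y hy.1 g).mpr hgy)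
      have := congr(X.presheaf.germ V y hy.1 $hgt)
      rw [map_mul, map_zero] at this
      exact (hgu.mul_right_eq_zero).mp this
    have := hd V (ht0.trans (map_zero _).symm)
    rw [this] at ht
    apply hp.ne_top
    rw [ht]
    simp
  · intro hU V
    rw [injective_iff_map_eq_zero]
    intro s hs
    refine Groth.Agent.Divis.WeakAss.eq_zero_of_affine (Coh.structureModule X) s fun A hA hAff => ?_
    by_contra hne
    have : IsNoetherianRing Γ(X, A) := IsLocallyNoetherian.component_noetherian ⟨A, hAff⟩
    obtain ⟨P, hP, hle⟩ := exists_le_isAssociatedPrime_of_isNoetherianRing Γ(X, A)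
      (X.presheaf.map (homOfLE hA).op s) hne
    obtain ⟨x, hx, hxP⟩ := Groth.Agent.Divis.WeakAss.exists_point hAff ⟨P, hP.1⟩
    have hxP' : (hAff.primeIdealOf ⟨x, hx⟩).asIdeal = P := congr_arg PrimeSpectrum.asIdeal hxP
    have hxU : x ∈ U := hU x (by
      rw [Groth.Agent.Divis.AssRing.isAssociatedPrime_stalk_iff hAff hx, hxP']
      exact hP)
    have h0 : X.presheaf.germ A x hx (X.presheaf.map (homOfLE hA).op s) = 0 := by
      have h1 : X.presheaf.germ A x hx (X.presheaf.map (homOfLE hA).op s) = X.presheaf.germ V x (hA hx) s :=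
        TopCat.Presheaf.germ_res_apply _ _ _ _ _
      have h2 : X.presheaf.germ (V ⊓ U) x ⟨hA hx, hxU⟩ (X.presheaf.map (homOfLE (inf_le_left : V ⊓ U ≤ V)).op s) =
        X.presheaf.germ V x (hA hx) s := TopCat.Presheaf.germ_res_apply _ _ _ _ _
      rw [h1, ← h2, hs, map_zero]
    obtain ⟨g, hg, hgt⟩ := Groth.Agent.Divis.AssRing.exists_mul_eq_zero_of_germ_eq_zero hAff hx _ h0
    rw [hxP'] at hg
    apply hg
    apply hle
    rw [Submodule.mem_colon_singleton, Submodule.mem_bot]
    exact hgt

end Groth.Agent.S1699
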