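import Groth.Statements.S1700
import Groth.Agent.Divis.StalkAssoc
import Groth.Agent.Divis.UfdIdeal

set_option autoImplicit false
universe u
open CategoryTheory CategoryTheory.Limits AlgebraicGeometry TopologicalSpace
open SDiv

namespace Groth.Agent.S1700

open Groth.Agent.Divis.CartierBasic Groth.Agent.Divis.CartierStalk Groth.Agent.CycB.LocQuot
  Groth.Agent.Divis.StalkPrime Groth.Agent.Divis.StalkAssoc


/-- Stacks Tag 0BXH (the UFD alternative of hypothesis (3)): let X be a Noetherian scheme and 𝓘 a quasi-coherent ideal sheaf with closed subscheme Z such that (1) Z has no embedded points: every point of Z whose local ring has its maximal ideal associated is a maximal point of Z; (2) every maximal point of Z has codimension 1 in X (the local ring of X there has dimension 1); (3) the local ring of X at every point of Z is a unique factorisation domain. Then 𝓘 is the ideal sheaf of an effective Cartier divisor. -/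
theorem result (X : Scheme.{u}) [IsNoetherian X] (𝓘 : X.IdealSheafData)
    (h1 : ∀ z : ↥𝓘.subscheme, IsAssociatedPrime (IsLocalRing.maximalIdeal ↑(𝓘.subscheme.presheaf.stalk z)) ↑(𝓘.subscheme.presheaf.stalk z) → ∀ z' : ↥𝓘.subscheme, z' ⤳ z → z' = z)
    (h2 : ∀ z : ↥𝓘.subscheme, (∀ z' : ↥𝓘.subscheme, z' ⤳ z → z' = z) →
      ringKrullDim (X.presheaf.stalk (𝓘.subschemeι z)) = 1)
    (h3 : ∀ x : ↥X, x ∈ 𝓘.support → IsDomain (X.presheaf.stalk x) ∧ UniqueFactorizationMonoid (X.presheaf.stalk x)) :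
    BlowUp.IsEffCartierIdeal 𝓘 := by
  apply isEffCartierIdeal_of_stalkIdeal
  intro x hx
  obtain ⟨hdom, hU⟩ := h3 x hx
  -- maximal points of the closed subscheme
  have hmax : ∀ q : PrimeSpectrum (X.presheaf.stalk x), stalkIdeal 𝓘 x ≤ q.asIdeal →
      (∀ z : ↥𝓘.subscheme, 𝓘.subschemeι z = ptOf q → ∀ z' : ↥𝓘.subscheme, z' ⤳ z → z' = z) →
      q.asIdeal.height = 1 := by
    intro q hq hz
    have h4 : ptOf q ∈ 𝓘.support := by
      rw [ptOf, fromSpecStalk_mem_support_iff]; exact hq
    obtain ⟨z, hz'⟩ := exists_subscheme_apply_eq 𝓘 h4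
    have h5 := h2 z (hz z hz')
    rw [hz', height_eq] at h5
    exact_mod_cast h5
  have hne : stalkIdeal 𝓘 x ≠ ⊥ := by
    intro hbot
    have h4 := hmax ⟨⊥, Ideal.isPrime_bot⟩ (by rw [hbot]) (by
      intro z hz z' hz'
      have h5 : 𝓘.subschemeι z' ⤳ 𝓘.subschemeι z := hz'.map 𝓘.subschemeι.continuous
      rw [hz] at h5
      have h6 := (primeOf_le_iff (h5.trans (ptOf_specializes _)) (ptOf_specializes _)).2 h5
      rw [primeOf_ptOf] at h6
      have h7 : primeOf (h5.trans (ptOf_specializes _)) =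
          (⟨⊥, Ideal.isPrime_bot⟩ : PrimeSpectrum (X.presheaf.stalk x)) :=
        le_antisymm h6 (by
          rw [← PrimeSpectrum.asIdeal_le_asIdeal]
          exact bot_le)
      have h8 := congrArg ptOf h7
      rw [ptOf_primeOf, ← hz] at h8
      exact 𝓘.subschemeι.isEmbedding.injective h8)
    rw [Ideal.height_bot] at h4
    exact zero_ne_one h4
  have hprinc : (stalkIdeal 𝓘 x).IsPrincipal := by
    refine Groth.Agent.Divis.UfdIdeal.isPrincipal_of_assoc_principal _ hne ?_
    intro p hp a ha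
    have hle : stalkIdeal 𝓘 x ≤ p := fun i hi => (ha i).2 (Ideal.mul_mem_right _ _ hi)
    apply UniqueFactorizationMonoid.isPrincipal_of_height_eq_one
    refine hmax ⟨p, hp⟩ hle ?_
    intro z hz
    apply h1
    have h4 : ∃ b : X.presheaf.stalk (ptOf (⟨p, hp⟩ : PrimeSpectrum (X.presheaf.stalk x))),
        ∀ s, s ∈ IsLocalRing.maximalIdeal
          (X.presheaf.stalk (ptOf (⟨p, hp⟩ : PrimeSpectrum (X.presheaf.stalk x)))) ↔
          s * b ∈ stalkIdeal 𝓘 (ptOf (⟨p, hp⟩ : PrimeSpectrum (X.presheaf.stalk x))) :=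
      ⟨_, mem_maximalIdeal_iff_of_colon 𝓘 ⟨p, hp⟩ a ha⟩
    rw [← hz] at h4
    obtain ⟨b, h4⟩ := h4
    exact isAssociatedPrime_stalk_subscheme 𝓘 z b h4
  obtain ⟨g, hg⟩ := hprinc
  refine ⟨g, mem_nonZeroDivisors_of_ne_zero ?_, hg⟩
  rintro rfl
  exact hne (by rw [hg]; simp)

end Groth.Agent.S1700
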