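import Groth.Statements.S1701
-- import your own Groth.Agent.* helpers here
import Groth.Agent.Divis.FlatNakayama
import Groth.Agent.Divis.CartierStalk

set_option autoImplicit false
universe u
open CategoryTheory CategoryTheory.Limits AlgebraicGeometry TopologicalSpace
open SDiv

namespace Groth.Agent.S1701

/-- Stacks Tag 062U: let f : X ⟶ S be a morphism, 𝓘 the ideal sheaf of an effective Cartier divisor D ⊂ X such that D ⟶ S is flat (a relative effective Cartier divisor), and x a point of D at which the local ring of X is Noetherian. Then f is flat at x. -/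
theorem result {X S : Scheme.{u}} (f : X ⟶ S) (𝓘 : X.IdealSheafData)
    (hD : (BlowUp.IsEffCartierIdeal 𝓘 ∧ Flat (𝓘.subschemeι ≫ f))) (d : ↥𝓘.subscheme) [IsNoetherianRing (X.presheaf.stalk (𝓘.subschemeι d))] :
    (f.stalkMap (𝓘.subschemeι d)).hom.Flat := by
  obtain ⟨hI, hflat⟩ := hD
  obtain ⟨g, hg, hgI⟩ := Groth.Agent.Divis.CartierBasic.exists_stalkIdeal_eq_span hI (𝓘.subschemeι d)
  refine Groth.Agent.Divis.FlatNakayama.ringHom_flat _ (𝓘.subschemeι.stalkMap d).hom g hg ?_
    (Groth.Agent.Divis.CartierStalk.stalkMap_subschemeι_surjective 𝓘 d)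
    ((Groth.Agent.Divis.CartierStalk.ker_stalkMap_subschemeι 𝓘 d).trans hgI) ?_
  · have h1 : Groth.Agent.Divis.CartierBasic.stalkIdeal 𝓘 (𝓘.subschemeι d) ≤
        IsLocalRing.maximalIdeal (X.presheaf.stalk (𝓘.subschemeι d)) :=
      (Groth.Agent.Divis.CartierBasic.mem_support_iff_stalkIdeal_le 𝓘 _).mp
        (Groth.Agent.Divis.CartierStalk.subschemeι_mem_support 𝓘 d)
    exact h1 (hgI ▸ Ideal.mem_span_singleton_self g)
  · rw [← CommRingCat.hom_comp, ← Scheme.Hom.stalkMap_comp]
    exact Flat.stalkMap _ d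

end Groth.Agent.S1701
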