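import Groth.Statements.S1704
import Groth.Agent.Divis.WeakAss

set_option autoImplicit false
universe u
open CategoryTheory CategoryTheory.Limits AlgebraicGeometry TopologicalSpace
open SDiv

namespace Groth.Agent.S1704

/-- Stacks Tag 05AG: let X be a locally Noetherian scheme and F a quasi-coherent module. Then F is zero if and only if F has no associated point. -/
theorem result (X : Scheme.{u}) [IsLocallyNoetherian X] (F : X.Modules) (hF : Coh.IsQCoh F) :
    IsZero F ↔ ∀ x : ↥X, ¬ Curv2.IsAssPoint F x := by
  constructor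
  · intro h0 x hx
    rw [Groth.Agent.Divis.WeakAss.isAssPoint_iff_isWeakAssPoint] at hx
    have h1 := Groth.Agent.Divis.WeakAss.mem_support_of_isWeakAssPoint hx
    apply h1
    rw [IsZero.iff_id_eq_zero] at h0
    have key : ∀ (U : X.Opens) (s : Γ(F, U)), s = 0 := fun U s => by
      have := congr(($h0).app U s)
      simpa using this
    refine ⟨fun a b => ?_⟩
    obtain ⟨U, hU, s, rfl⟩ := TopCat.Presheaf.exists_germ_eq F.presheaf a
    obtain ⟨V, hV, t, rfl⟩ := TopCat.Presheaf.exists_germ_eq F.presheaf b
    rw [key U s, key V t, map_zero, map_zero]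
  · intro h
    have h' : ∀ x : X, ¬ Curv2.IsWeakAssPoint F x := fun x hx =>
      h x ((Groth.Agent.Divis.WeakAss.isAssPoint_iff_isWeakAssPoint F x).mpr hx)
    have h1 := Groth.Agent.Divis.WeakAss.subsingleton_of_no_isWeakAssPoint hF h'
    rw [IsZero.iff_id_eq_zero]
    ext U s
    exact Subsingleton.elim _ _

end Groth.Agent.S1704
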