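import Groth.Statements.S1779
import Groth.Agent.LoccohB.DualFlatBC
import Groth.Agent.Ega4A.CompleteNoeth

set_option autoImplicit false
universe u
open CategoryTheory
attribute [local instance] HasDerivedCategory.standard
open Dual

namespace Groth.Agent.S1779

/-- Stacks Tag 0DWD (2).  Let A be a Noetherian ring, I an ideal and ω a dualizing complex for A.  Assuming the derived base change functor to the I-adic completion exists, the base change of ω is a dualizing complex for the I-adic completion of A. -/
theorem result (A : Type u) [CommRing A] [IsNoetherianRing A] (I : Ideal A) [DRing.HasLBaseChange (algebraMap A (AdicCompletion I A))] (ω : Dual.D A) (hω : Dual.IsDualizing A ω) : Dual.IsDualizing (AdicCompletion I A) ((DRing.LBaseChange (algebraMap A (AdicCompletion I A))).obj ω) := by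
  have hI : I.FG := Ideal.fg_of_isNoetherianRing I
  have : IsNoetherianRing (AdicCompletion I A) :=
    Groth.Agent.Ega4A.CompleteNoeth.isNoetherianRing_adicCompletion I
  have : Module.Flat A (AdicCompletion I A) := AdicCompletion.flat_of_isNoetherian I
  have : IsAdicComplete (I.map (algebraMap A (AdicCompletion I A))) (AdicCompletion I A) :=
    AdicCompletion.isAdicComplete_self I hI
  refine Groth.Agent.LoccohB.DualFlatBC.isDualizing_LBaseChange (AdicCompletion I A)
    (Groth.Agent.LoccohB.DualFlatBC.hmax_of_quotient (AdicCompletion I A) I ?_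
      (IsAdicComplete.le_jacobson_bot _)) ω hω
  intro x
  obtain ⟨y, rfl⟩ := Ideal.Quotient.mk_surjective x
  obtain ⟨a, ha⟩ := Ideal.Quotient.mk_surjective (AdicCompletion.evalOneₐ I y)
  refine ⟨a, Ideal.Quotient.eq.2 ?_⟩
  rw [← AdicCompletion.ker_evalOneₐ_eq_map I hI]
  change AdicCompletion.evalOneₐ I (algebraMap A (AdicCompletion I A) a - y) = 0
  rw [map_sub, ← ha, sub_eq_zero]
  exact (AdicCompletion.evalOneₐ I).commutes a

end Groth.Agent.S1779
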