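import Groth.Statements.S1714
import Groth.Agent.LoccohA.DExtBC
import Groth.Agent.LoccohB.LBC
import Mathlib.RingTheory.AdicCompletion.Completeness
import Groth.Agent.S1722
import Groth.Agent.S1779
import Groth.Agent.LoccohA.DimFun

set_option autoImplicit false
universe u
open CategoryTheory
attribute [local instance] HasDerivedCategory.standard
open LocCoh

namespace Groth.Agent.S1714

open Groth.Agent.LoccohA Groth.Agent.LoccohA.DExt Groth.Agent.LoccohB TensorProduct

/-- An ideal containing `I A'` is extended from `A`. -/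
theorem map_comap_eq {A : Type u} [CommRing A] [IsNoetherianRing A] (I : Ideal A)
    (Q : Ideal (AdicCompletion I A)) (hq : Ideal.map (algebraMap A (AdicCompletion I A)) I ≤ Q) :
    Ideal.map (algebraMap A (AdicCompletion I A)) (Q.comap (algebraMap A (AdicCompletion I A))) = Q := by
  refine le_antisymm Ideal.map_comap_le fun x hx => ?_
  obtain ⟨a, ha⟩ := Ideal.Quotient.mk_surjective (AdicCompletion.evalOneₐ I x)
  have h1 : x - algebraMap A (AdicCompletion I A) a ∈
      Ideal.map (algebraMap A (AdicCompletion I A)) I := by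
    rw [← AdicCompletion.ker_evalOneₐ_eq_map I I.fg_of_isNoetherianRing, RingHom.mem_ker, map_sub,
      sub_eq_zero]
    have := RingHom.congr_fun (AdicCompletion.evalOneₐ_comp_algebraMap_eq_mk (I := I)) a
    exact ha.symm.trans this.symm
  have h2 : algebraMap A (AdicCompletion I A) a ∈ Q := by
    have := Q.sub_mem hx (hq h1)
    rwa [sub_sub_cancel] at this
  have h3 : Ideal.map (algebraMap A (AdicCompletion I A)) I ≤
      Ideal.map (algebraMap A (AdicCompletion I A)) (Q.comap (algebraMap A (AdicCompletion I A))) :=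
    Ideal.map_mono (Ideal.map_le_iff_le_comap.mp hq)
  have h4 := Ideal.add_mem _ (h3 h1)
    (Ideal.mem_map_of_mem (algebraMap A (AdicCompletion I A)) (Ideal.mem_comap.mpr h2))
  rwa [sub_add_cancel] at h4

/-- Stacks Tag 0EHW.  Let A be a Noetherian ring with a dualizing complex, I an ideal, M a finite A-module, A' and M' the I-adic completions.  Let p' ⊆ q' be primes of A' with I A' ⊆ q', lying over the primes p ⊆ q of A.  Then the depth of M'_{p'} over A'_{p'} is at least the depth of M_p over A_p, and depth(M'_{p'}) plus the dimension of the interval of primes [p', q'] equals depth(M_p) plus the dimension of [p, q]. -/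
theorem result (A : Type u) [CommRing A] [IsNoetherianRing A] (hA : ∃ ω : Dual.D A, Dual.IsDualizing A ω) (I : Ideal A) (M : Type u) [AddCommGroup M] [Module A M] [Module.Finite A M] (p' q' : PrimeSpectrum (AdicCompletion I A)) (hpq : p' ≤ q') (hq : Ideal.map (algebraMap A (AdicCompletion I A)) I ≤ q'.asIdeal) : LocCoh.depth (Localization.AtPrime (p'.asIdeal.comap (algebraMap A (AdicCompletion I A)))) (LocalizedModule (p'.asIdeal.comap (algebraMap A (AdicCompletion I A))).primeCompl M) ≤ LocCoh.depth (Localization.AtPrime p'.asIdeal) (LocalizedModule p'.asIdeal.primeCompl (AdicCompletion I M)) ∧ ((LocCoh.depth (Localization.AtPrime p'.asIdeal) (LocalizedModule p'.asIdeal.primeCompl (AdicCompletion I M)) : ℕ∞) : WithBot ℕ∞) + Order.krullDim (Set.Icc p' q') = ((LocCoh.depth (Localization.AtPrime (p'.asIdeal.comap (algebraMap A (AdicCompletion I A)))) (LocalizedModule (p'.asIdeal.comap (algebraMap A (AdicCompletion I A))).primeCompl M) : ℕ∞) : WithBot ℕ∞) + Order.krullDim (Set.Icc ((PrimeSpectrum.comap (algebraMap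 A (AdicCompletion I A))) p') ((PrimeSpectrum.comap (algebraMap A (AdicCompletion I A))) q')) := by
  obtain ⟨ω, hω⟩ := hA
  have hLBC : DRing.HasLBaseChange (algebraMap A (AdicCompletion I A)) := LBC.hasLBaseChange _
  have hflat : (algebraMap A (AdicCompletion I A)).Flat :=
    RingHom.flat_algebraMap_iff.mpr (AdicCompletion.flat_of_isNoetherian I)
  have hω' : Dual.IsDualizing (AdicCompletion I A)
      ((FlatLBC.flatBC (algebraMap A (AdicCompletion I A)) hflat).obj ω) :=
    HomBC.isDualizing_of_iso ((FlatLBC.LBaseChangeIso _ hflat).app ω) (Groth.Agent.S1779.result A I ω hω)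
  have hN : IsNoetherianRing (AdicCompletion I A) := hω'.isNoetherianRing
  obtain ⟨δ, hδ, hcov⟩ := Groth.Agent.S1722.result A ω hω
  obtain ⟨δ', hδ', hcov'⟩ := Groth.Agent.S1722.result _ _ hω'
  obtain ⟨k, -, hk, -⟩ := HomBC.exists_bounds_of_isDualizing hω
  have hfin : ∀ (i : ℤ) (M : Type u) [AddCommGroup M] [Module A M] [Module.Finite A M],
      Module.Finite A (E ω i M) := fun i M _ _ _ => DExtFin.finite_E hω i M
  have hfin' : ∀ (i : ℤ) (M : Type u) [AddCommGroup M] [Module (AdicCompletion I A) M]
      [Module.Finite (AdicCompletion I A) M], Module.Finite (AdicCompletion I A)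
        (E ((FlatLBC.flatBC (algebraMap A (AdicCompletion I A)) hflat).obj ω) i M) :=
    fun i M _ _ _ => DExtFin.finite_E hω' i M
  set p := PrimeSpectrum.comap (algebraMap A (AdicCompletion I A)) p' with hp
  set q := PrimeSpectrum.comap (algebraMap A (AdicCompletion I A)) q' with hq0
  have hle : δ' p' ≤ δ p := DExtBC.delta_le hflat ω k hfin' hδ hδ' p'
  have heq : δ' q' = δ q := DExtBC.delta_eq hflat ω k hδ hδ' q' (map_comap_eq I _ hq)
  obtain ⟨m, hm⟩ : ∃ m : ℕ, δ p = δ' p' + m := ⟨(δ p - δ' p').toNat, by omega⟩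
  have hpq0 : p ≤ q := Ideal.comap_mono hpq
  have h1 : δ q ≤ δ p := DimFun.le_of_le hcov hpq0
  have h2 : δ' q' ≤ δ' p' := DimFun.le_of_le hcov' hpq
  obtain ⟨n, hn⟩ : ∃ n : ℕ, δ p = δ q + n := ⟨(δ p - δ q).toNat, by omega⟩
  obtain ⟨n', hn'⟩ : ∃ n : ℕ, δ' p' = δ' q' + n := ⟨(δ' p' - δ' q').toNat, by omega⟩
  have hnn : n = m + n' := by omega
  have hdepth : LocCoh.depth (Localization.AtPrime p'.asIdeal)
      (LocalizedModule p'.asIdeal.primeCompl (AdicCompletion I M)) =
      LocCoh.depth (Localization.AtPrime p.asIdeal) (LocalizedModule p.asIdeal.primeCompl M) + m := by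
    rw [← DExtBC.depth_tensor hflat ω k hfin hfin' hδ hδ' p' M m hm]
    have hfinM : Module.Finite (AdicCompletion I A) (AdicCompletion I M) :=
      Module.Finite.equiv (AdicCompletion.ofTensorProductEquivOfFiniteNoetherian I M)
    refine ENat.eq_of_forall_natCast_le_iff fun n => ?_
    rw [DExtDepth.natCast_le_depth_iff _ hfin' hδ', DExtDepth.natCast_le_depth_iff _ hfin' hδ']
    simp_rw [DExtSupp.support_congr _ _ (AdicCompletion.ofTensorProductEquivOfFiniteNoetherian I M)]
  change LocCoh.depth (Localization.AtPrime p.asIdeal) (LocalizedModule p.asIdeal.primeCompl M) ≤ _ ∧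
    _ = ((LocCoh.depth (Localization.AtPrime p.asIdeal)
      (LocalizedModule p.asIdeal.primeCompl M) : ℕ∞) : WithBot ℕ∞) + _
  rw [hdepth, (DimFun.krullDim_Icc hcov hpq0 n).mpr hn, (DimFun.krullDim_Icc hcov' hpq n').mpr hn', hnn]
  refine ⟨le_self_add, ?_⟩
  push_cast
  rw [add_assoc]

end Groth.Agent.S1714
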