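import Groth.Statements.S1718
import Groth.Agent.LoccohB.LocDualHull

set_option autoImplicit false
universe u
open CategoryTheory
attribute [local instance] HasDerivedCategory.standard
open Dual

namespace Groth.Agent.S1718

open Groth.Agent.LoccohB.LocDualHull Groth.Agent.LoccohB.LocDualElt Groth.Agent.LoccohB.LocDualLoc
  Groth.Agent.LoccohB.LocDualDev

/-- Stacks Tag 0A82.  Let A be a Noetherian local ring with maximal ideal m, residue field κ and a normalized dualizing complex ω, and let κ → E be an injective hull.  Then the degree-0 local cohomology of ω with support in m (the direct limit of Hom(A/m^n, ω)) is isomorphic to E, and the local cohomology of ω in every other degree is zero. -/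
theorem result (A : Type u) [CommRing A] [IsLocalRing A] [IsNoetherianRing A] (ω : Dual.D A) (hω : Dual.IsDualizing A ω) (hn : Dual.IsNormalized A ω) (E : Type u) [AddCommGroup E] [Module A E] (f : IsLocalRing.ResidueField A →ₗ[A] E) (hf : InjHull.IsInjectiveHull f) : Nonempty (Dual2.HDI A (IsLocalRing.maximalIdeal A) ω 0 ≃ₗ[A] E) ∧ ∀ i : ℤ, i ≠ 0 → Subsingleton (Dual2.HDI A (IsLocalRing.maximalIdeal A) ω i) := by
  obtain ⟨h3, ⟨e, he1, he2⟩, hfin⟩ := normData ω hω hn
  constructor
  · obtain ⟨ψ⟩ := nonempty_equiv_HL ω h3 e he1 he2 E f hf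
    exact ⟨((TIcongr (IsLocalRing.maximalIdeal A) ((shiftFunctorZero (Dual.D A) ℤ).app ω)).trans
      (locEquiv ω)).trans ψ.symm⟩
  · intro i hi
    refine subsingleton_of_forall_eq 0 fun x => ?_
    obtain ⟨n, g, rfl⟩ := exists_repN (IsLocalRing.maximalIdeal A) (K := ω⟦i⟧) x
    have hkill : ∀ a ∈ (IsLocalRing.maximalIdeal A) ^ n, ∀ x : A ⧸ (IsLocalRing.maximalIdeal A) ^ n,
        a • x = 0 := by
      intro a ha x
      obtain ⟨x, rfl⟩ := Ideal.Quotient.mk_surjective x
      exact Ideal.Quotient.eq_zero_iff_mem.2 (Ideal.mul_mem_right _ _ ha)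
    have h4 := LZ.subsingleton (LZ_hom_of_power _ (h3 i hi) (A ⧸ (IsLocalRing.maximalIdeal A) ^ n)
      n hkill)
    have hg : g = 0 := Subsingleton.elim g 0
    rw [hg]
    exact map_zero (inclN (IsLocalRing.maximalIdeal A) n)

end Groth.Agent.S1718
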