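import Groth.Statements.S1723
import Groth.Agent.LoccohA.GorFibre2
import Groth.Agent.S1779

set_option autoImplicit false
universe u
open CategoryTheory
attribute [local instance] HasDerivedCategory.standard
open Dual

namespace Groth.Agent.S1723

/-- Stacks Tag 0AWY.  If a Noetherian local ring A has a dualizing complex, then each of its formal fibres is a Gorenstein ring: for every prime p the ring A^ ⊗_A κ(p) (completion at the maximal ideal, tensored with the residue field of p) is a Gorenstein ring. -/
theorem result (A : Type u) [CommRing A] [IsLocalRing A] [IsNoetherianRing A] (ω : Dual.D A) (hω : Dual.IsDualizing A ω) (p : PrimeSpectrum A) : LocCoh.IsGorensteinRing (EGA4.formalFibre A p.asIdeal) := by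
  have i1 : DRing.HasLBaseChange
      (algebraMap A (AdicCompletion (IsLocalRing.maximalIdeal A) A)) :=
    Groth.Agent.LoccohB.LBC.hasLBaseChange _
  have d1 := Groth.Agent.S1779.result A (IsLocalRing.maximalIdeal A) ω hω
  have := d1.isNoetherianRing
  have : Module.Flat A (AdicCompletion (IsLocalRing.maximalIdeal A) A) :=
    AdicCompletion.flat_of_isNoetherian (IsLocalRing.maximalIdeal A)
  exact Groth.Agent.LoccohA.GorFibre2.isGorensteinRing_fiber ω hω d1 p.asIdeal

end Groth.Agent.S1723
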