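import Groth.Statements.S1728
import Mathlib.Algebra.Module.Injective
import Mathlib.Order.CompactlyGenerated.Basic
import Mathlib.RingTheory.Finiteness.Basic
-- import your own Groth.Agent.* helpers here

set_option autoImplicit false
universe u
open InjHull

namespace Groth.Agent.S1728

/-- Stacks Tag 08XS.  Let I be an injective R-module and E a submodule of I.  Then E is an injective module if and only if every submodule E' of I containing E, such that every nonzero submodule of E' meets E nontrivially, is equal to E. -/
theorem result (R : Type u) [CommRing R] (I : Type u) [AddCommGroup I] [Module R I] [Module.Injective R I] (E : Submodule R I) : Module.Injective R E ↔ ∀ E' : Submodule R I, E ≤ E' → (∀ N : Submodule R I, N ≤ E' → N ≠ ⊥ → N ⊓ E ≠ ⊥) → E' = E := by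
  constructor
  · intro hE E' hEE' hess
    obtain ⟨r, hr⟩ := hE.out (Submodule.inclusion hEE') (Submodule.inclusion_injective hEE')
      LinearMap.id
    let N : Submodule R I := (LinearMap.ker r).map E'.subtype
    have hN : N ⊓ E = ⊥ := by
      rw [eq_bot_iff]
      rintro x ⟨⟨y, hy, rfl⟩, hx⟩
      have h1 : y = Submodule.inclusion hEE' ⟨_, hx⟩ := by ext; rfl
      have h2 : r y = ⟨_, hx⟩ := by
        conv_lhs => rw [h1]
        exact hr _
      rw [LinearMap.mem_ker.mp hy] at h2
      have h3 := congrArg Subtype.val h2
      simpa using h3.symm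
    have hN' : N ≤ E' := by
      rintro _ ⟨y, -, rfl⟩
      exact y.2
    have hbot : N = ⊥ := by
      by_contra hne
      exact hess N hN' hne hN
    refine le_antisymm ?_ hEE'
    intro x hx
    -- x - r x in ker
    have h1 : (⟨x, hx⟩ : E') - Submodule.inclusion hEE' (r ⟨x, hx⟩) ∈ LinearMap.ker r := by
      rw [LinearMap.mem_ker, map_sub, hr]
      simp
    have h2 : E'.subtype ((⟨x, hx⟩ : E') - Submodule.inclusion hEE' (r ⟨x, hx⟩)) ∈ N :=
      Submodule.mem_map_of_mem h1
    rw [hbot, Submodule.mem_bot] at h2
    have h3 : x = (r ⟨x, hx⟩ : I) := by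
      simpa [sub_eq_zero] using h2
    rw [h3]
    exact (r ⟨x, hx⟩).2
  · intro hmax
    -- a submodule maximal with trivial intersection with E
    obtain ⟨N, -, hN⟩ := zorn_le_nonempty₀ {N : Submodule R I | Disjoint N E}
      (by
        intro c hc hchain y hy
        refine ⟨sSup c, ?_, fun z hz => le_sSup hz⟩
        exact (hchain.directedOn.disjoint_sSup_left).mpr fun b hb => hc hb) ⊥ disjoint_bot_left
    have hdisj : Disjoint N E := hN.prop
    -- E → I/N is injective
    let j : E →ₗ[R] (I ⧸ N) := N.mkQ.comp E.subtype
    have hj : Function.Injective j := by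
      rw [← LinearMap.ker_eq_bot, eq_bot_iff]
      intro x hx
      have : (x : I) ∈ N := by
        simpa [j] using hx
      have h0 : (x : I) ∈ (⊥ : Submodule R I) := (disjoint_iff_inf_le.mp hdisj) ⟨this, x.2⟩
      simpa using h0
    obtain ⟨g, hg⟩ := Module.Injective.out j hj E.subtype
    -- essential: a submodule of I/N meeting E trivially is trivial
    have hess : ∀ K : Submodule R (I ⧸ N), (∀ x ∈ K, x ∈ LinearMap.range j → x = 0) → K = ⊥ := by
      intro K hK
      have h1 : Disjoint (K.comap N.mkQ) E := by
        rw [disjoint_iff_inf_le]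
        rintro x ⟨hx, hxE⟩
        have h2 : N.mkQ x = 0 := hK _ hx ⟨⟨x, hxE⟩, rfl⟩
        have h3 : x ∈ N := by simpa using h2
        exact (disjoint_iff_inf_le.mp hdisj) ⟨h3, hxE⟩
      have h2 : N ≤ K.comap N.mkQ := by
        intro x hx
        have h3 : N.mkQ x = 0 := by simpa using hx
        show N.mkQ x ∈ K
        rw [h3]
        exact K.zero_mem
      have h3 : K.comap N.mkQ ≤ N := hN.2 h1 h2
      rw [eq_bot_iff]
      intro x hx
      obtain ⟨x, rfl⟩ := N.mkQ_surjective x
      have h4 : x ∈ N := h3 hx
      simpa using h4
    have hginj : Function.Injective g := by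
      rw [← LinearMap.ker_eq_bot]
      apply hess
      rintro _ hx ⟨y, rfl⟩
      have h1 : g (j y) = E.subtype y := hg y
      rw [LinearMap.mem_ker.mp hx] at h1
      have h2 : y = 0 := by
        ext
        simpa using h1.symm
      rw [h2, map_zero]
    -- range of g is essential over E
    have hEle : E ≤ LinearMap.range g := by
      intro x hx
      exact ⟨j ⟨x, hx⟩, hg ⟨x, hx⟩⟩
    have hrange : LinearMap.range g = E := by
      apply hmax _ hEle
      intro K hK hKne hbot
      apply hKne
      have h1 : K.comap g = ⊥ := by
        apply hess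
        rintro _ hx ⟨y, rfl⟩
        have h2 : g (j y) = E.subtype y := hg y
        have h3 : (y : I) ∈ K ⊓ E := by
          refine ⟨?_, y.2⟩
          have h4 : g (j y) ∈ K := hx
          rw [h2] at h4
          exact h4
        rw [hbot, Submodule.mem_bot] at h3
        have h5 : y = 0 := by
          ext
          exact h3
        rw [h5, map_zero]
      rw [eq_bot_iff]
      intro x hx
      obtain ⟨y, rfl⟩ := hK hx
      have h2 : y ∈ K.comap g := hx
      rw [h1, Submodule.mem_bot] at h2
      rw [h2, map_zero]
      exact Submodule.zero_mem _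
    -- a retraction I → E
    let r : I →ₗ[R] E := (g.comp N.mkQ).codRestrict E (fun x => by
      rw [← hrange]
      exact ⟨_, rfl⟩)
    have hr : ∀ x : E, r x = x := by
      intro x
      ext
      exact hg x
    refine ⟨fun X Y _ _ _ _ f hf φ => ?_⟩
    obtain ⟨h, hh⟩ := Module.Injective.out (Q := I) f hf (E.subtype.comp φ)
    refine ⟨r.comp h, fun x => ?_⟩
    rw [LinearMap.comp_apply, hh]
    exact hr _

end Groth.Agent.S1728
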