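import Groth.Statements.S1729
import Mathlib.RingTheory.LocalRing.Module
-- import your own Groth.Agent.* helpers here

set_option autoImplicit false
universe u
open Dual2

namespace Groth.Agent.S1729

open scoped TensorProduct in

/-- Stacks Tag 08Y0.  Over a local ring, every finite module M admits a projective cover: a surjection from a projective module P onto M such that no proper submodule of P maps onto M. -/
theorem result (R : Type u) [CommRing R] [IsLocalRing R] (M : Type u) [AddCommGroup M] [Module R M] [Module.Finite R M] : ∃ (P : Type u) (_ : AddCommGroup P) (_ : Module R P) (f : P →ₗ[R] M), Dual2.IsProjectiveCover f := by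
  classical
  let k := IsLocalRing.ResidueField R
  let b := Module.finBasis k (k ⊗[R] M)
  have hsurj : Function.Surjective (TensorProduct.mk R k M 1) :=
    TensorProduct.mk_surjective R M k Ideal.Quotient.mk_surjective
  choose v hv using fun i => hsurj (b i)
  have hspan := IsLocalRing.span_eq_top_of_tmul_eq_basis v b hv
  let P := Fin (Module.finrank k (k ⊗[R] M)) → R
  let f : P →ₗ[R] M := (Pi.basisFun R _).constr ℕ v
  have hf : ∀ i, f (Pi.basisFun R _ i) = v i := fun i => Module.Basis.constr_basis _ _ _ i
  refine ⟨P, inferInstance, inferInstance, f, inferInstance, ?_, ?_⟩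
  · rw [← LinearMap.range_eq_top, eq_top_iff, ← hspan, Submodule.span_le]
    rintro _ ⟨i, rfl⟩
    exact ⟨_, hf i⟩
  · intro N hN
    rw [← IsLocalRing.map_tensorProduct_mk_eq_top (N := N)]
    -- the base change of f is injective
    have hinj : Function.Injective (f.baseChange k) := by
      let B := (Pi.basisFun R (Fin (Module.finrank k (k ⊗[R] M)))).baseChange k
      have : ∀ i, f.baseChange k (B i) = b i := by
        intro i
        simp only [B, Module.Basis.baseChange_apply, LinearMap.baseChange_tmul, hf]
        exact hv i
      have h2 : f.baseChange k = (B.equiv b (Equiv.refl _)).toLinearMap := by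
        apply B.ext
        intro i
        rw [this]
        simp
      rw [h2]
      exact (B.equiv b (Equiv.refl _)).injective
    rw [eq_top_iff]
    intro x _
    have hx : f.baseChange k x ∈ (⊤ : Submodule R (k ⊗[R] M)) := trivial
    rw [← LinearMap.range_eq_top.mpr hsurj, ← Submodule.map_top, ← hN] at hx
    obtain ⟨m, ⟨n, hn, rfl⟩, hm⟩ := hx
    refine ⟨n, hn, hinj ?_⟩
    rw [← hm]
    simp

end Groth.Agent.S1729
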