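import Groth.Statements.S1731
import Groth.Agent.LoccohA.FlatExt
import Mathlib.Algebra.Homology.DerivedCategory.TStructure
-- import your own Groth.Agent.* helpers here

set_option autoImplicit false
universe u
open CategoryTheory
open scoped TensorProduct
attribute [local instance] HasDerivedCategory.standard
open LocCoh

namespace Groth.Agent.S1731

section Helpers

open CategoryTheory.Limits CategoryTheory.Abelian Groth.Agent.LoccohA
open Groth.Agent.LoccohA.FlatExt (Good L R adj unit)

/-- Negative Ext vanish. -/
theorem subsingleton_neg (A : Type u) [CommRing A] (M N : Type u) [AddCommGroup M] [Module A M]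
    [AddCommGroup N] [Module A N] (i : ℤ) (hi : i < 0) :
    Subsingleton (Dual.inD A M ⟶ (Dual.inD A N)⟦i⟧) := by
  refine ⟨fun f g => ?_⟩
  have h1 : ∀ f : Dual.inD A M ⟶ (Dual.inD A N)⟦i⟧, f = 0 := by
    intro f
    have hGE : ((Dual.inD A N)⟦i⟧).IsGE (-i) :=
      DerivedCategory.TStructure.t.isGE_shift _ 0 i (-i) (by lia)
    exact DerivedCategory.TStructure.t.zero f 0 (-i) (by lia)
  rw [h1 f, h1 g]

/-- Transport of Hom groups along isomorphisms. -/
def homCongrAdd {C : Type*} [Category C] [Preadditive C] {X X' Y Y' : C} (e : X ≅ X')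
    (e' : Y ≅ Y') : (X ⟶ Y) ≃+ (X' ⟶ Y') where
  __ := e.homCongr e'
  map_add' f g := by simp

set_option backward.isDefEq.respectTransparency false in
/-- Extension of scalars along an algebra map, written with the tensor product. -/
noncomputable def extendScalarsIso (A B : Type u) [CommRing A] [CommRing B] [Algebra A B]
    (N : Type u) [AddCommGroup N] [Module A N] :
    (L (algebraMap A B)).obj (ModuleCat.of A N) ≅ ModuleCat.of B (B ⊗[A] N) :=
  let e₁ : ((ModuleCat.restrictScalars (algebraMap A B)).obj (ModuleCat.of B B)) ≃ₗ[A] B :=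
    { AddEquiv.refl B with
      map_smul' := fun r x ↦ (Algebra.smul_def r (show B from x)).symm }
  let e : ((ModuleCat.restrictScalars (algebraMap A B)).obj (ModuleCat.of B B)) ⊗[A] N ≃ₗ[A]
      B ⊗[A] N := TensorProduct.congr e₁ (LinearEquiv.refl A N)
  LinearEquiv.toModuleIso
    (X₁ := (ModuleCat.extendScalars (algebraMap A B)).obj (ModuleCat.of A N))
    (X₂ := ModuleCat.of B (B ⊗[A] N))
    { e.toAddEquiv with
      map_smul' := by
        intro r x
        induction x using TensorProduct.induction_on with
        | zero => simp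
        | tmul a n => rfl
        | add x y hx hy =>
          have h1 : e (r • x + r • y) = e (r • x) + e (r • y) := map_add e _ _
          have h2 : r • e (x + y) = r • e x + r • e y := by
            rw [map_add e x y, smul_add]
          exact (congrArg e (smul_add r x y)).trans
            (h1.trans ((congrArg₂ (· + ·) hx hy).trans h2.symm)) }

theorem main (A B : Type u) [CommRing A] [CommRing B] [Algebra A B] [Module.Flat A B] (I : Ideal A) (hI : I.FG) (hs : Function.Surjective ((Ideal.Quotient.mk (I.map (algebraMap A B))).comp (algebraMap A B))) (hk : RingHom.ker ((Ideal.Quotient.mk (I.map (algebraMap A B))).comp (algebraMap A B)) = I) (M N : Type u) [AddCommGroup M] [Module A M] [AddCommGroup N] [Module A N] (hM : LocCoh.IsPowerTorsion I M) (i : ℤ) : Nonempty ((Dual.inD A M ⟶ (Dual.inD A N)⟦i⟧) ≃+ (Dual.inD B (B ⊗[A] M) ⟶ (Dual.inD B (B ⊗[A] N))⟦i⟧)) := by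
  rcases lt_or_ge i 0 with hi | hi
  · have h1 := subsingleton_neg A M N i hi
    have h2 := subsingleton_neg B (B ⊗[A] M) (B ⊗[A] N) i hi
    exact ⟨{ toFun := fun _ => 0, invFun := fun _ => 0, left_inv := fun _ => Subsingleton.elim _ _,
             right_inv := fun _ => Subsingleton.elim _ _, map_add' := fun _ _ => by simp }⟩
  · obtain ⟨n, rfl⟩ := Int.eq_ofNat_of_zero_le hi
    have hφ : (algebraMap A B).Flat := by
      rw [RingHom.flat_algebraMap_iff]
      infer_instance
    have hgood := FlatExt.good_all (algebraMap A B) I hφ hI hs hk N (ModuleCat.of A M) hM n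
    have i1 : PreservesFiniteLimits (L (algebraMap A B)) :=
      ModuleCat.preservesFiniteLimits_extendScalars_of_flat hφ
    let e₁ : (Dual.inD A M ⟶ (Dual.inD A N)⟦(n : ℤ)⟧) ≃+
        Ext.{u} (ModuleCat.of A M) (ModuleCat.of A N) n := Ext.homAddEquiv.symm
    let e₂ : Ext.{u} (ModuleCat.of A M) (ModuleCat.of A N) n ≃+
        Ext.{u} (ModuleCat.of A M)
          ((R (algebraMap A B)).obj ((L (algebraMap A B)).obj (ModuleCat.of A N))) n :=
      AddEquiv.ofBijective _ hgood
    let e₃ := (Etcore.ExtAdj.extAdj (adj (algebraMap A B)) (ModuleCat.of A M)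
      ((L (algebraMap A B)).obj (ModuleCat.of A N)) n).symm
    let e₄ : Ext.{u} ((L (algebraMap A B)).obj (ModuleCat.of A M))
        ((L (algebraMap A B)).obj (ModuleCat.of A N)) n ≃+
        ((DerivedCategory.singleFunctor (ModuleCat.{u} B) 0).obj
          ((L (algebraMap A B)).obj (ModuleCat.of A M)) ⟶
        ((DerivedCategory.singleFunctor (ModuleCat.{u} B) 0).obj
          ((L (algebraMap A B)).obj (ModuleCat.of A N)))⟦(n : ℤ)⟧) := Ext.homAddEquiv
    let e₅ := homCongrAdd
      ((DerivedCategory.singleFunctor (ModuleCat.{u} B) 0).mapIso (extendScalarsIso A B M))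
      ((shiftFunctor _ (n : ℤ)).mapIso
        ((DerivedCategory.singleFunctor (ModuleCat.{u} B) 0).mapIso (extendScalarsIso A B N)))
    exact ⟨e₁.trans (e₂.trans (e₃.trans (e₄.trans e₅)))⟩

end Helpers

/-- Stacks Tag 05EH, statement for modules.  Let A → B be a flat ring map and I a finitely generated ideal of A such that A → B/IB is surjective with kernel I (so A/I ≅ B/IB).  If M is an I-power torsion A-module, then for every A-module N and every i the group of maps M → N[i] in D(A) is isomorphic to the group of maps (B ⊗ M) → (B ⊗ N)[i] in D(B).  (Existence of an isomorphism is asserted; the source shows the base-change map is one.) -/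
theorem result (A B : Type u) [CommRing A] [CommRing B] [Algebra A B] [Module.Flat A B] (I : Ideal A) (hI : I.FG) (hs : Function.Surjective ((Ideal.Quotient.mk (I.map (algebraMap A B))).comp (algebraMap A B))) (hk : RingHom.ker ((Ideal.Quotient.mk (I.map (algebraMap A B))).comp (algebraMap A B)) = I) (M N : Type u) [AddCommGroup M] [Module A M] [AddCommGroup N] [Module A N] (hM : LocCoh.IsPowerTorsion I M) (i : ℤ) : Nonempty ((Dual.inD A M ⟶ (Dual.inD A N)⟦i⟧) ≃+ (Dual.inD B (B ⊗[A] M) ⟶ (Dual.inD B (B ⊗[A] N))⟦i⟧)) :=
  main A B I hI hs hk M N hM i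

end Groth.Agent.S1731
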