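import Groth.Statements.S1750
import Mathlib.RingTheory.Ideal.AssociatedPrime.Finiteness
import Mathlib.RingTheory.Ideal.AssociatedPrime.Localization
import Mathlib.RingTheory.TensorProduct.Basic
-- import your own Groth.Agent.* helpers here

set_option autoImplicit false
universe u
open InjHull

namespace Groth.Agent.S1750

open scoped TensorProduct

/-- An injective `S`-module is injective over `R` when `S` is flat over `R`. -/
theorem injective_of_flat (R S : Type u) [CommRing R] [CommRing S] [Algebra R S] [Module.Flat R S]
    (E : Type u) [AddCommGroup E] [Module S E] [Module R E] [IsScalarTower R S E]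
    (hE : Module.Injective S E) : Module.Injective R E := by
  refine ⟨fun X Y _ _ _ _ f hf g => ?_⟩
  have hinj : Function.Injective (f.baseChange S) :=
    Module.Flat.lTensor_preserves_injective_linearMap f hf
  obtain ⟨h, hh⟩ := hE.out (f.baseChange S) hinj (g.liftBaseChange S)
  refine ⟨(h.restrictScalars R).comp ((TensorProduct.mk R S Y) 1), fun x => ?_⟩
  have := hh (1 ⊗ₜ[R] x)
  simpa using this

theorem maximalIdeal_smul_residueField {S : Type u} [CommRing S] [IsLocalRing S] {a : S}
    (ha : a ∈ IsLocalRing.maximalIdeal S) (k : IsLocalRing.ResidueField S) : a • k = 0 := by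
  rw [Algebra.smul_def, IsLocalRing.ResidueField.algebraMap_eq, (IsLocalRing.residue_eq_zero_iff a).mpr ha,
    zero_mul]

/-- Every element of an injective hull of the residue field is killed by a power of the maximal ideal. -/
theorem exists_pow_smul_eq_zero {S : Type u} [CommRing S] [IsLocalRing S] [IsNoetherianRing S]
    {E : Type u} [AddCommGroup E] [Module S E] (f : IsLocalRing.ResidueField S →ₗ[S] E)
    (hf : IsEssentialInj f) (x : E) :
    ∃ n : ℕ, ∀ a ∈ IsLocalRing.maximalIdeal S ^ n, a • x = 0 := by
  let N : Submodule S E := Submodule.span S {x}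
  have hmin : ∀ p ∈ (Module.annihilator S N).minimalPrimes, IsLocalRing.maximalIdeal S ≤ p := by
    intro p hp
    have hpa := Module.associatedPrimes.minimalPrimes_annihilator_subset_associatedPrimes S N hp
    obtain ⟨hpp, y, hy⟩ := isAssociatedPrime_iff.mp (AssociatedPrimes.mem_iff.mp hpa)
    have hy0 : (y : E) ≠ 0 := by
      intro h0
      apply hpp.ne_top
      have : y = 0 := Subtype.ext h0
      rw [hy, this, Ideal.eq_top_iff_one]
      simp [Submodule.mem_colon_singleton]
    have hne : Submodule.span S {(y : E)} ⊓ LinearMap.range f ≠ ⊥ :=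
      hf.essential _ (by simpa [Submodule.span_singleton_eq_bot] using hy0)
    obtain ⟨z, hz, hz0⟩ := Submodule.exists_mem_ne_zero_of_ne_bot hne
    obtain ⟨hz1, k, rfl⟩ := hz
    obtain ⟨b, hb⟩ := Submodule.mem_span_singleton.mp hz1
    have hbp : b ∉ p := by
      intro hbp
      rw [hy, Submodule.mem_colon_singleton] at hbp
      apply hz0
      rw [← hb]
      simpa using congrArg Subtype.val ((Submodule.mem_bot S).mp hbp)
    intro a ha
    have hab : a * b ∈ p := by
      rw [hy, Submodule.mem_colon_singleton, Submodule.mem_bot]
      apply Subtype.ext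
      simp only [SetLike.val_smul, ZeroMemClass.coe_zero, mul_smul]
      rw [hb, ← map_smul]
      have : a • k = 0 := by
        exact maximalIdeal_smul_residueField ha k
      rw [this, map_zero]
    exact (hpp.mem_or_mem hab).resolve_right hbp
  have hrad : IsLocalRing.maximalIdeal S ≤ (Module.annihilator S N).radical := by
    rw [← Ideal.sInf_minimalPrimes]
    exact le_sInf hmin
  obtain ⟨n, hn⟩ := Ideal.exists_pow_le_of_le_radical_of_fg hrad
    ((isNoetherianRing_iff_ideal_fg S).mp inferInstance _)
  refine ⟨n, fun a ha => ?_⟩
  have := Module.mem_annihilator.mp (hn ha) ⟨x, Submodule.mem_span_singleton_self x⟩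
  simpa using congrArg Subtype.val this

/-- Stacks Tag 08Z5.  Let R → S be a flat local homomorphism of Noetherian local rings with m_R S = m_S inducing a bijection on residue fields.  If κ_S → E is an injective hull of the residue field of S over S, then E regarded as an R-module is an injective hull of the residue field of R (for a suitable R-linear map κ_R → E). -/
theorem result (R S : Type u) [CommRing R] [CommRing S] [IsLocalRing R] [IsLocalRing S] [IsNoetherianRing R] [IsNoetherianRing S] [Algebra R S] [IsLocalHom (algebraMap R S)] [Module.Flat R S] (hm : (IsLocalRing.maximalIdeal R).map (algebraMap R S) = IsLocalRing.maximalIdeal S) (hk : Function.Bijective (IsLocalRing.ResidueField.map (algebraMap R S))) (E : Type u) [AddCommGroup E] [Module S E] [Module R E] [IsScalarTower R S E] (f : IsLocalRing.ResidueField S →ₗ[S] E) (hf : InjHull.IsInjectiveHull f) : ∃ g : IsLocalRing.ResidueField R →ₗ[R] E, InjHull.IsInjectiveHull g := by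
  -- the map of residue fields as an `R`-linear map
  let e : IsLocalRing.ResidueField R →ₗ[R] IsLocalRing.ResidueField S :=
    { toFun := IsLocalRing.ResidueField.map (algebraMap R S)
      map_add' := map_add _
      map_smul' := fun r x => by
        obtain ⟨s, rfl⟩ := IsLocalRing.residue_surjective x
        rw [RingHom.id_apply, Algebra.smul_def, IsLocalRing.ResidueField.algebraMap_eq, map_mul,
          IsLocalRing.ResidueField.map_residue, Algebra.smul_def,
          IsScalarTower.algebraMap_apply R S (IsLocalRing.ResidueField S),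
          IsLocalRing.ResidueField.algebraMap_eq] }
  have he : Function.Bijective e := hk
  let g : IsLocalRing.ResidueField R →ₗ[R] E := (f.restrictScalars R).comp e
  have hg : ∀ k, g k = f (e k) := fun _ => rfl
  have socle : ∀ y : E, (∀ a ∈ IsLocalRing.maximalIdeal S, a • y = 0) → y ∈ LinearMap.range f := by
    intro y hy
    by_cases hy0 : y = 0
    · rw [hy0]; exact zero_mem _
    · have hne : Submodule.span S {y} ⊓ LinearMap.range f ≠ ⊥ :=
        hf.essential _ (by simpa [Submodule.span_singleton_eq_bot] using hy0)
      obtain ⟨z, ⟨hz1, hz2⟩, hz0⟩ := Submodule.exists_mem_ne_zero_of_ne_bot hne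
      obtain ⟨b, rfl⟩ := Submodule.mem_span_singleton.mp hz1
      have hb : IsUnit b := by
        by_contra hb
        exact hz0 (hy b ((IsLocalRing.mem_maximalIdeal b).mpr hb))
      obtain ⟨u, rfl⟩ := hb
      have := (LinearMap.range f).smul_mem (↑u⁻¹ : S) hz2
      rwa [smul_smul, Units.inv_mul, one_smul] at this
  refine ⟨g, ⟨⟨?_, ?_⟩, injective_of_flat R S E hf.isInjective⟩⟩
  · exact hf.injective.comp he.injective
  · intro N hN
    obtain ⟨x, hx, hx0⟩ := Submodule.exists_mem_ne_zero_of_ne_bot hN
    have hex : ∃ n : ℕ, ∀ a ∈ IsLocalRing.maximalIdeal R ^ n, a • x = 0 := by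
      obtain ⟨n, hn⟩ := exists_pow_smul_eq_zero f hf.toIsEssentialInj x
      refine ⟨n, fun a ha => ?_⟩
      rw [← algebraMap_smul S a x]
      apply hn
      rw [← hm, ← Ideal.map_pow]
      exact Ideal.mem_map_of_mem _ ha
    classical
    let n := Nat.find hex
    have hn : ∀ a ∈ IsLocalRing.maximalIdeal R ^ n, a • x = 0 := Nat.find_spec hex
    have hn0 : n ≠ 0 := by
      intro h0
      rw [h0] at hn
      apply hx0
      simpa using hn 1 (by simp)
    obtain ⟨m, hm'⟩ := Nat.exists_eq_succ_of_ne_zero hn0
    have hmin : ¬ ∀ a ∈ IsLocalRing.maximalIdeal R ^ m, a • x = 0 :=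
      Nat.find_min hex (by change m < n; omega)
    push Not at hmin
    obtain ⟨a, ha, hax⟩ := hmin
    have hker : ∀ b ∈ IsLocalRing.maximalIdeal R, b • (a • x) = 0 := by
      intro b hb
      rw [smul_smul]
      apply hn
      rw [hm', Nat.succ_eq_add_one, pow_succ, mul_comm b a]
      exact Ideal.mul_mem_mul ha hb
    have hkerS : ∀ b ∈ IsLocalRing.maximalIdeal S, b • (a • x) = 0 := by
      intro b hb
      rw [← hm] at hb
      induction hb using Submodule.span_induction with
      | mem b hb =>
        obtain ⟨c, hc, rfl⟩ := hb
        rw [algebraMap_smul]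
        exact hker c hc
      | zero => simp
      | add b c _ _ hb hc => rw [add_smul, hb, hc, add_zero]
      | smul c b _ hb => rw [smul_assoc, hb, smul_zero]
    obtain ⟨k, hk'⟩ := socle _ hkerS
    obtain ⟨k', rfl⟩ := he.surjective k
    intro hbot
    have : a • x ∈ N ⊓ LinearMap.range g := ⟨N.smul_mem a hx, k', hk'⟩
    rw [hbot] at this
    exact hax ((Submodule.mem_bot R).mp this)

end Groth.Agent.S1750
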