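import Groth.Statements.S1732
import Groth.Agent.S1750
import Groth.Agent.Localalg.InjDecomp
import Mathlib.RingTheory.MvPowerSeries.Equiv
import Mathlib.RingTheory.MvPowerSeries.Inverse
-- import your own Groth.Agent.* helpers here

set_option autoImplicit false
universe u
open LocCoh

namespace Groth.Agent.S1732

section Helpers

open IsLocalRing

section PowerSeries

variable (k : Type u) [Field k] (d : ℕ)

theorem mem_maximalIdeal_iff (f : MvPowerSeries (Fin d) k) :
    f ∈ maximalIdeal (MvPowerSeries (Fin d) k) ↔ MvPowerSeries.constantCoeff f = 0 := by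
  rw [mem_maximalIdeal, mem_nonunits_iff, MvPowerSeries.isUnit_iff_constantCoeff,
    isUnit_iff_ne_zero, not_not]

theorem maximalIdeal_le_span :
    maximalIdeal (MvPowerSeries (Fin d) k) ≤ Ideal.span (Set.range fun i => MvPowerSeries.X i) := by
  classical
  intro f hf
  rw [mem_maximalIdeal_iff] at hf
  -- the index of the first variable occurring in a monomial
  let g : Fin d → MvPowerSeries (Fin d) k := fun i n =>
    if n i ≠ 0 ∧ ∀ j, j < i → n j = 0 then MvPowerSeries.coeff n f else 0
  have hg : ∀ i n, MvPowerSeries.coeff n (g i) =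
      if n i ≠ 0 ∧ ∀ j, j < i → n j = 0 then MvPowerSeries.coeff n f else 0 := fun i n => rfl
  have hsum : f = ∑ i, g i := by
    ext n
    rw [map_sum]
    simp only [hg]
    by_cases hn : n = 0
    · subst hn
      simp only [Finsupp.coe_zero, Pi.zero_apply, ne_eq, not_true_eq_false, false_and, if_false,
        Finset.sum_const_zero]
      exact hf
    · have hex : ∃ i, n i ≠ 0 := by
        by_contra h
        push Not at h
        exact hn (Finsupp.ext h)
      let S : Finset (Fin d) := Finset.univ.filter fun i => n i ≠ 0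
      have hS : S.Nonempty := by
        obtain ⟨i, hi⟩ := hex
        exact ⟨i, by simp [S, hi]⟩
      let i₀ := S.min' hS
      have hi₀ : n i₀ ≠ 0 := by
        have := S.min'_mem hS
        simpa [S] using this
      have hlt : ∀ j, j < i₀ → n j = 0 := by
        intro j hj
        by_contra h
        have h2 : j ∈ S := by simp [S, h]
        exact absurd (S.min'_le j h2) (not_le.mpr hj)
      rw [Finset.sum_eq_single i₀]
      · rw [if_pos ⟨hi₀, hlt⟩]
      · intro j _ hj
        rw [if_neg]
        rintro ⟨h1, h2⟩
        rcases lt_trichotomy j i₀ with h | h | h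
        · exact h1 (hlt j h)
        · exact hj h
        · exact hi₀ (h2 _ h)
      · intro h
        exact absurd (Finset.mem_univ _) h
  rw [hsum]
  apply Ideal.sum_mem
  intro i _
  have hdvd : (MvPowerSeries.X i : MvPowerSeries (Fin d) k) ∣ g i := by
    rw [MvPowerSeries.X_dvd_iff]
    intro n hn
    rw [hg, if_neg]
    rintro ⟨h1, -⟩
    exact h1 hn
  exact Ideal.mem_of_dvd _ hdvd (Ideal.subset_span ⟨i, rfl⟩)

theorem X_mem_maximalIdeal (i : Fin d) :
    (MvPowerSeries.X i : MvPowerSeries (Fin d) k) ∈ maximalIdeal (MvPowerSeries (Fin d) k) := by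
  rw [mem_maximalIdeal_iff]
  simp

end PowerSeries

section Euler

variable {k A : Type u} [Field k] [CommRing A] [Algebra k A] [IsLocalRing A] {d : ℕ}
  (x : Fin d → A) (θ : Fin d → Derivation k A A)

/-- The Euler operator. -/
def euler : Derivation k A A := ∑ i, x i • θ i

theorem euler_apply (f : A) : euler x θ f = ∑ i, x i * θ i f := by
  change Derivation.coeFnAddMonoidHom (∑ i, x i • θ i) f = _
  rw [map_sum, Finset.sum_apply]
  rfl

variable (hx : ∀ i, x i ∈ maximalIdeal A) (hspan : maximalIdeal A ≤ Ideal.span (Set.range x))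
  (hθ : ∀ i j : Fin d, θ i (x j) = if i = j then 1 else 0)

include hx in
theorem euler_mem (f : A) : euler x θ f ∈ maximalIdeal A := by
  rw [euler_apply]
  exact Ideal.sum_mem _ fun i _ => Ideal.mul_mem_right _ _ (hx i)

include hx hspan hθ in
theorem euler_sub_mem_one (f : A) (hf : f ∈ maximalIdeal A) :
    euler x θ f - f ∈ maximalIdeal A ^ 2 := by
  have hf' := hspan hf
  induction hf' using Submodule.span_induction with
  | mem y hy =>
    obtain ⟨j, rfl⟩ := hy
    rw [euler_apply]
    simp [hθ]
  | zero => simp
  | add y z hy hz hy' hz' =>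
    have hmy : y ∈ maximalIdeal A := by
      refine (Ideal.span_le.mpr ?_) hy
      rintro _ ⟨i, rfl⟩
      exact hx i
    have hmz : z ∈ maximalIdeal A := by
      refine (Ideal.span_le.mpr ?_) hz
      rintro _ ⟨i, rfl⟩
      exact hx i
    rw [map_add, add_sub_add_comm]
    exact Ideal.add_mem _ (hy' hmy) (hz' hmz)
  | smul a y hy hy' =>
    have hmy : y ∈ maximalIdeal A := by
      refine (Ideal.span_le.mpr ?_) hy
      rintro _ ⟨i, rfl⟩
      exact hx i
    have h1 : euler x θ (a • y) - a • y = a * (euler x θ y - y) + y * euler x θ a := by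
      rw [smul_eq_mul, Derivation.leibniz, smul_eq_mul, smul_eq_mul]
      ring
    rw [h1]
    refine Ideal.add_mem _ (Ideal.mul_mem_left _ _ (hy' hmy)) ?_
    rw [pow_two]
    exact Ideal.mul_mem_mul hmy (euler_mem x θ hx a)

include hx hspan hθ in
theorem euler_sub_mem (n : ℕ) : ∀ f : A, f ∈ maximalIdeal A ^ n →
    euler x θ f - n * f ∈ maximalIdeal A ^ (n + 1) := by
  induction n with
  | zero =>
    intro f _
    simpa using euler_mem x θ hx f
  | succ n ih =>
    intro f hf
    rw [pow_succ] at hf
    induction hf using Submodule.mul_induction_on' with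
    | mem_mul_mem g hg h hh =>
      have h1 : euler x θ (g * h) - ((n + 1 : ℕ) : A) * (g * h) =
          g * (euler x θ h - h) + (euler x θ g - n * g) * h := by
        rw [Derivation.leibniz, smul_eq_mul, smul_eq_mul]
        push_cast
        ring
      rw [h1]
      refine Ideal.add_mem _ ?_ ?_
      · have := Ideal.mul_mem_mul hg (euler_sub_mem_one x θ hx hspan hθ h hh)
        rwa [← pow_add] at this
      · have := Ideal.mul_mem_mul (ih g hg) hh
        rwa [← pow_succ] at this
    | add a ha b hb ha' hb' =>
      have h1 : euler x θ (a + b) - ((n + 1 : ℕ) : A) * (a + b) =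
          (euler x θ a - ((n + 1 : ℕ) : A) * a) + (euler x θ b - ((n + 1 : ℕ) : A) * b) := by
        rw [map_add]
        ring
      rw [h1]
      exact Ideal.add_mem _ ha' hb'

end Euler

/-- The socle of an injective hull of the residue field. -/
theorem mem_range_of_smul_eq_zero {A : Type u} [CommRing A] [IsLocalRing A] {E : Type u}
    [AddCommGroup E] [Module A E] (e : ResidueField A →ₗ[A] E) (he : InjHull.IsEssentialInj e) (z : E)
    (hz : ∀ a ∈ maximalIdeal A, a • z = 0) : z ∈ LinearMap.range e := by
  by_cases hz0 : z = 0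
  · rw [hz0]
    exact zero_mem _
  have hne : Submodule.span A {z} ≠ ⊥ := by simpa using hz0
  obtain ⟨w, ⟨hw1, hw2⟩, hw0⟩ := Submodule.exists_mem_ne_zero_of_ne_bot (he.essential _ hne)
  obtain ⟨a, rfl⟩ := Submodule.mem_span_singleton.mp hw1
  have ha : IsUnit a := by
    by_contra h
    exact hw0 (hz a ((mem_maximalIdeal a).mpr h))
  obtain ⟨b, hb⟩ := ha.exists_left_inv
  have : z = b • (a • z) := by rw [← mul_smul, hb, one_smul]
  rw [this]
  exact Submodule.smul_mem _ _ hw2

/-- A nonzero submodule of a power torsion module has a nonzero socle element. -/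
theorem exists_socle {A : Type u} [CommRing A] [IsLocalRing A] {M : Type u}
    [AddCommGroup M] [Module A M] (hM : LocCoh.IsPowerTorsion (maximalIdeal A) M)
    (N : Submodule A M) (hN : ∀ z ∈ N, (∀ a ∈ maximalIdeal A, a • z = 0) → z = 0) : N = ⊥ := by
  have key : ∀ n : ℕ, ∀ z ∈ N, (∀ a ∈ maximalIdeal A ^ n, a • z = 0) → z = 0 := by
    intro n
    induction n with
    | zero =>
      intro z _ hz
      simpa using hz 1 (by simp)
    | succ n ih =>
      intro z hz hz'
      apply hN z hz
      intro a ha
      apply ih _ (N.smul_mem a hz)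
      intro b hb
      rw [← mul_smul]
      exact hz' _ (by rw [pow_succ]; exact Ideal.mul_mem_mul hb ha)
  rw [eq_bot_iff]
  intro z hz
  obtain ⟨n, hn⟩ := hM z
  exact key n z hz hn



theorem injective_finsupp {A : Type u} [CommRing A] [IsNoetherianRing A] (J E : Type u)
    [AddCommGroup E] [Module A E] (hE : Module.Injective A E) : Module.Injective A (J →₀ E) := by
  classical
  have h1 := Groth.Agent.Localalg.InjDecomp.injective_directSum (R := A) (fun _ : J => E)
    (fun _ => hE)
  let ε : (J →₀ E) ≃ₗ[A] DirectSum J (fun _ => E) := finsuppLEquivDirectSum A E J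
  refine ⟨fun X Y _ _ _ _ f hf g => ?_⟩
  obtain ⟨h, hh⟩ := h1.out f hf (ε.toLinearMap.comp g)
  refine ⟨ε.symm.toLinearMap.comp h, fun x => ?_⟩
  simp [hh]

@[reducible] noncomputable def modV (A : Type u) [CommRing A] [IsLocalRing A] (M : Type u)
    [AddCommGroup M] [Module A M] :
    Module (ResidueField A) (Submodule.torsionBySet A M (maximalIdeal A : Set A)) :=
  inferInstanceAs (Module (A ⧸ maximalIdeal A)
    (Submodule.torsionBySet A M (maximalIdeal A : Set A)))

attribute [local instance] modV in
theorem towerV (A : Type u) [CommRing A] [IsLocalRing A] (M : Type u)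
    [AddCommGroup M] [Module A M] :
    IsScalarTower A (ResidueField A) (Submodule.torsionBySet A M (maximalIdeal A : Set A)) :=
  inferInstanceAs (IsScalarTower A (A ⧸ maximalIdeal A)
    (Submodule.torsionBySet A M (maximalIdeal A : Set A)))

theorem core {k A : Type u} [Field k] [CharZero k] [CommRing A] [Algebra k A] [IsLocalRing A]
    [IsNoetherianRing A] {d : ℕ} (x : Fin d → A) (θ : Fin d → Derivation k A A)
    (hx : ∀ i, x i ∈ maximalIdeal A) (hspan : maximalIdeal A ≤ Ideal.span (Set.range x))
    (hθ : ∀ i j : Fin d, θ i (x j) = if i = j then 1 else 0)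
    (E : Type u) [AddCommGroup E] [Module A E] (e : ResidueField A →ₗ[A] E)
    (he : InjHull.IsInjectiveHull e) (M : Type u) [AddCommGroup M] [Module A M]
    (hM : LocCoh.IsPowerTorsion (maximalIdeal A) M) (D : Fin d → M →+ M)
    (hD : ∀ (i : Fin d) (f : A) (z : M), D i (f • z) = θ i f • z + f • D i z) :
    ∃ J : Type u, Nonempty (M ≃ₗ[A] (J →₀ E)) := by
  classical
  let V := Submodule.torsionBySet A M (maximalIdeal A : Set A)
  let iM : Module (ResidueField A) V := modV A M
  have : IsScalarTower A (ResidueField A) V := towerV A M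
  let J := Module.Basis.ofVectorSpaceIndex (ResidueField A) V
  let b := Module.Basis.ofVectorSpace (ResidueField A) V
  let ψ : V →ₗ[A] (J →₀ E) := (Finsupp.mapRange.linearMap e).comp
    (b.repr.toLinearMap.restrictScalars A)
  have hinj := injective_finsupp (A := A) J E he.isInjective
  obtain ⟨φ, hφ⟩ := hinj.out V.subtype V.injective_subtype ψ
  have hψinj : Function.Injective ψ := by
    refine (Finsupp.mapRange_injective e (map_zero e) he.injective).comp b.repr.injective
  have hφinj : Function.Injective φ := by
    rw [← LinearMap.ker_eq_bot]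
    apply exists_socle hM
    intro z hz hz'
    have hzV : z ∈ V := by
      rw [Submodule.mem_torsionBySet_iff]
      exact fun a => hz' a a.2
    have h1 : φ z = ψ ⟨z, hzV⟩ := hφ ⟨z, hzV⟩
    rw [LinearMap.mem_ker.mp hz] at h1
    have h2 : (⟨z, hzV⟩ : V) = 0 := hψinj (by rw [← h1, map_zero])
    exact congrArg Subtype.val h2
  -- surjectivity on the pieces killed by a power of the maximal ideal
  have key : ∀ n : ℕ, ∀ z : J →₀ E, (∀ a ∈ maximalIdeal A ^ (n + 1), a • z = 0) →
      z ∈ LinearMap.range φ := by
    intro n
    induction n with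
    | zero =>
      intro z hz
      have h1 : ∀ j : J, ∃ y : ResidueField A, e y = z j := by
        intro j
        refine mem_range_of_smul_eq_zero e he.toIsEssentialInj (z j) fun a ha => ?_
        rw [← Finsupp.smul_apply, hz a (by simpa using ha), Finsupp.zero_apply]
      choose y hy using h1
      let w : J →₀ ResidueField A := Finsupp.onFinset z.support y (fun j hj => by
        rw [Finsupp.mem_support_iff, ← hy]
        intro h
        apply hj
        exact he.injective (by rw [h, map_zero]))
      have hw : Finsupp.mapRange.linearMap e w = z := by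
        ext j
        simp [w, hy]
      refine ⟨b.repr.symm w, ?_⟩
      rw [← hw]
      have h2 := hφ (b.repr.symm w)
      rw [Submodule.subtype_apply] at h2
      rw [h2]
      simp [ψ]
    | succ n ih =>
      intro z hz
      have h1 : ∀ i, x i • z ∈ LinearMap.range φ := by
        intro i
        apply ih
        intro a ha
        rw [← mul_smul]
        exact hz _ (by rw [pow_succ]; exact Ideal.mul_mem_mul ha (hx i))
      choose u hu using h1
      have hu0 : ∀ i, ∀ a ∈ maximalIdeal A ^ (n + 1), a • u i = 0 := by
        intro i a ha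
        apply hφinj
        rw [map_smul, hu, map_zero, ← mul_smul]
        exact hz _ (by rw [pow_succ]; exact Ideal.mul_mem_mul ha (hx i))
      let c : A := algebraMap k A (((n + 1 : ℕ) : k)⁻¹)
      have hc : c * ((n + 1 : ℕ) : A) = 1 := by
        have h2 : ((n + 1 : ℕ) : k) ≠ 0 := Nat.cast_ne_zero.mpr (Nat.succ_ne_zero n)
        have h3 : ((n + 1 : ℕ) : A) = algebraMap k A ((n + 1 : ℕ) : k) := by simp
        rw [h3, ← map_mul, inv_mul_cancel₀ h2, map_one]
      let w : M := -(c • ∑ i, D i (u i))
      have hw : ∀ f ∈ maximalIdeal A ^ (n + 1), f • φ w = f • z := by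
        intro f hf
        have h2 : ∀ i, f • D i (u i) = -(θ i f • u i) := by
          intro i
          have h3 := hD i f (u i)
          rw [hu0 i f hf, map_zero] at h3
          rw [eq_neg_iff_add_eq_zero, add_comm]
          exact h3.symm
        have h4 : f • w = c • ∑ i, θ i f • u i := by
          simp only [w, smul_neg]
          rw [smul_comm, Finset.smul_sum, ← smul_neg, ← Finset.sum_neg_distrib]
          congr 1
          apply Finset.sum_congr rfl
          intro i _
          rw [h2, neg_neg]
        rw [← map_smul, h4, map_smul, map_sum]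
        have h5 : ∑ i, φ (θ i f • u i) = euler x θ f • z := by
          rw [euler_apply, Finset.sum_smul]
          apply Finset.sum_congr rfl
          intro i _
          rw [map_smul, hu, ← mul_smul, mul_comm]
        rw [h5]
        have h6 : euler x θ f • z = (((n + 1 : ℕ) : A) * f) • z := by
          rw [← sub_eq_zero, ← sub_smul]
          exact hz _ (euler_sub_mem x θ hx hspan hθ (n + 1) f hf)
        rw [h6, ← mul_smul, ← mul_assoc, hc, one_mul]
      have h7 : z - φ w ∈ LinearMap.range φ := by
        apply ih
        intro f hf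
        rw [smul_sub, hw f hf, sub_self]
      have h8 : z = (z - φ w) + φ w := by abel
      rw [h8]
      exact Submodule.add_mem _ h7 ⟨w, rfl⟩
  have htors : ∀ z : J →₀ E, ∃ n : ℕ, ∀ a ∈ maximalIdeal A ^ n, a • z = 0 := by
    intro z
    have h1 : ∀ j, ∃ n : ℕ, ∀ a ∈ maximalIdeal A ^ n, a • z j = 0 :=
      fun j => Groth.Agent.S1750.exists_pow_smul_eq_zero e he.toIsEssentialInj (z j)
    choose n hn using h1
    refine ⟨z.support.sup n, fun a ha => ?_⟩
    ext j
    rw [Finsupp.smul_apply, Finsupp.zero_apply]
    by_cases hj : j ∈ z.support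
    · exact hn j a (Ideal.pow_le_pow_right (Finset.le_sup hj) ha)
    · rw [Finsupp.notMem_support_iff.mp hj, smul_zero]
  have hφsurj : Function.Surjective φ := by
    intro z
    obtain ⟨n, hn⟩ := htors z
    exact key n z fun a ha => hn a (Ideal.pow_le_pow_right (Nat.le_succ n) ha)
  exact ⟨J, ⟨LinearEquiv.ofBijective φ ⟨hφinj, hφsurj⟩⟩⟩

end Helpers

/-- Stacks Tag 0EC2.  Let k be a field of characteristic zero, d ≥ 1, A = k[[x_1, …, x_d]] with maximal ideal m, and E an injective hull of the residue field of A.  Let M be an m-power torsion A-module equipped with additive maps D_1, …, D_d such that D_i(f z) = θ_i(f) z + f D_i(z), where θ_i is the k-derivation of A with θ_i(x_j) = δ_ij (the partial derivative in x_i).  Then M is, up to isomorphism, a direct sum of copies of E. -/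
theorem result (k : Type u) [Field k] [CharZero k] (d : ℕ) (hd : 1 ≤ d) (E : Type u) [AddCommGroup E] [Module (MvPowerSeries (Fin d) k) E] (e : IsLocalRing.ResidueField (MvPowerSeries (Fin d) k) →ₗ[MvPowerSeries (Fin d) k] E) (he : InjHull.IsInjectiveHull e) (θ : Fin d → Derivation k (MvPowerSeries (Fin d) k) (MvPowerSeries (Fin d) k)) (hθ : ∀ i j : Fin d, θ i (MvPowerSeries.X j) = if i = j then 1 else 0) (M : Type u) [AddCommGroup M] [Module (MvPowerSeries (Fin d) k) M] (hM : LocCoh.IsPowerTorsion (IsLocalRing.maximalIdeal (MvPowerSeries (Fin d) k)) M) (D : Fin d → M →+ M) (hD : ∀ (i : Fin d) (f : MvPowerSeries (Fin d) k) (z : M), D i (f • z) = θ i f • z + f • D i z) : ∃ J : Type u, Nonempty (M ≃ₗ[MvPowerSeries (Fin d) k] (J →₀ E)) :=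
  core (fun i => MvPowerSeries.X i) θ (X_mem_maximalIdeal k d) (maximalIdeal_le_span k d) hθ E e he M hM D hD

end Groth.Agent.S1732
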