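import Groth.Statements.S1735
import Groth.Agent.LoccohA.Chevalley
import Mathlib.RingTheory.Localization.Ideal
import Mathlib.RingTheory.KrullDimension.Basic
import Mathlib.RingTheory.KrullDimension.NonZeroDivisors

set_option autoImplicit false
universe u
open LocCoh

namespace Groth.Agent.S1735

/-- The `m`-th symbolic power. -/
abbrev symb {A : Type u} [CommRing A] (p : Ideal A) [p.IsPrime] (m : ℕ) : Ideal A :=
  ((Ideal.map (algebraMap A (Localization.AtPrime p)) p) ^ m).comap
    (algebraMap A (Localization.AtPrime p))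

theorem mem_symb {A : Type u} [CommRing A] (p : Ideal A) [p.IsPrime] (m : ℕ) (x : A) :
    x ∈ symb p m ↔ ∃ s ∈ p.primeCompl, s * x ∈ p ^ m := by
  rw [symb, Ideal.mem_comap, ← Ideal.map_pow]
  exact IsLocalization.algebraMap_mem_map_algebraMap_iff p.primeCompl _ _ _

theorem symb_antitone {A : Type u} [CommRing A] (p : Ideal A) [p.IsPrime] :
    Antitone (symb p) := fun _ _ h => Ideal.comap_mono (Ideal.pow_le_pow_right h)

theorem iInf_symb {A : Type u} [CommRing A] [IsDomain A] [IsNoetherianRing A] (p : Ideal A)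
    [p.IsPrime] : ⨅ m, symb p m = ⊥ := by
  have h1 : (⨅ m, symb p m) = (⨅ m : ℕ, (Ideal.map (algebraMap A (Localization.AtPrime p)) p) ^ m).comap
      (algebraMap A (Localization.AtPrime p)) := by
    rw [Ideal.comap_iInf]
  have h2 : Ideal.map (algebraMap A (Localization.AtPrime p)) p ≠ ⊤ := by
    rw [Localization.AtPrime.map_eq_maximalIdeal]
    exact Ideal.IsPrime.ne_top inferInstance
  have : IsNoetherianRing (Localization.AtPrime p) :=
    IsLocalization.isNoetherianRing p.primeCompl _ inferInstance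
  rw [h1, Ideal.iInf_pow_eq_bot_of_isLocalRing _ h2]
  rw [eq_bot_iff]
  intro x hx
  have hx' : algebraMap A (Localization.AtPrime p) x = 0 := by simpa using hx
  have hinj : Function.Injective (algebraMap A (Localization.AtPrime p)) :=
    IsLocalization.injective _ p.primeCompl_le_nonZeroDivisors
  have : x = 0 := hinj (by rw [hx', map_zero])
  simp [this]

/-- A common multiplier. -/
theorem exists_mul_symb_le {A : Type u} [CommRing A] [IsNoetherianRing A] (p : Ideal A)
    [p.IsPrime] (n : ℕ) : ∃ s ∈ p.primeCompl, ∀ x ∈ symb p n, s * x ∈ p ^ n := by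
  classical
  obtain ⟨T, hT⟩ := (isNoetherian_def.mp ‹_› (symb p n) : (symb p n).FG)
  have hT' : ∀ t : T, ∃ s ∈ p.primeCompl, s * t.1 ∈ p ^ n := fun t =>
    (mem_symb p n t.1).mp (hT ▸ Submodule.subset_span t.2)
  choose s hs hs' using hT'
  refine ⟨∏ t : T, s t, Submonoid.prod_mem _ fun t _ => hs t, fun x hx => ?_⟩
  rw [← hT] at hx
  induction hx using Submodule.span_induction with
  | mem x h =>
    have h1 : (∏ t : T, s t) * x = (∏ t ∈ Finset.univ.erase (⟨x, h⟩ : T), s t) * (s ⟨x, h⟩ * x) := by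
      rw [← Finset.mul_prod_erase Finset.univ s (Finset.mem_univ (⟨x, h⟩ : T))]
      ring
    rw [h1]
    exact Ideal.mul_mem_left _ _ (hs' _)
  | zero => simp
  | add x y _ _ hx hy => rw [mul_add]; exact Ideal.add_mem _ hx hy
  | smul a x _ hx =>
    rw [smul_eq_mul, mul_left_comm]
    exact Ideal.mul_mem_left _ _ hx

theorem prime_eq_maximal_of_lt {A : Type u} [CommRing A] [IsLocalRing A] (p : Ideal A) [p.IsPrime]
    (hp : ringKrullDim (A ⧸ p) = 1) (q : Ideal A) [q.IsPrime] (hpq : p < q) :
    q = IsLocalRing.maximalIdeal A := by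
  by_contra hne
  have hlt : q < IsLocalRing.maximalIdeal A :=
    lt_of_le_of_ne (IsLocalRing.le_maximalIdeal (Ideal.IsPrime.ne_top inferInstance)) hne
  rw [ringKrullDim_quotient] at hp
  let a : PrimeSpectrum.zeroLocus (R := A) p := ⟨⟨p, inferInstance⟩, by simp⟩
  let b : PrimeSpectrum.zeroLocus (R := A) p := ⟨⟨q, inferInstance⟩, by simpa using hpq.le⟩
  let c : PrimeSpectrum.zeroLocus (R := A) p := ⟨⟨IsLocalRing.maximalIdeal A, inferInstance⟩, by
    simpa using hpq.le.trans hlt.le⟩
  have hab : a < b := hpq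
  have hbc : b < c := hlt
  let s : LTSeries (PrimeSpectrum.zeroLocus (R := A) p) :=
    (((RelSeries.singleton _ a).snoc b (by simpa using hab)).snoc c (by simpa using hbc))
  have h2 := Order.LTSeries.length_le_krullDim s
  rw [hp] at h2
  have : s.length = 2 := rfl
  rw [this] at h2
  exact absurd h2 (by norm_num)

theorem exists_pow_mul_symb_le {A : Type u} [CommRing A] [IsLocalRing A] [IsNoetherianRing A]
    (p : Ideal A) [p.IsPrime] (hp : ringKrullDim (A ⧸ p) = 1) (n : ℕ) :
    ∃ j, IsLocalRing.maximalIdeal A ^ j * symb p n ≤ p ^ n := by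
  obtain ⟨s, hs, hs'⟩ := exists_mul_symb_le p n
  have h1 : IsLocalRing.maximalIdeal A ≤ (p ^ n ⊔ Ideal.span {s}).radical := by
    rw [Ideal.radical_eq_sInf]
    refine le_sInf ?_
    rintro q ⟨hq, hq'⟩
    rcases Nat.eq_zero_or_pos n with rfl | hn
    · exfalso
      apply hq'.ne_top
      rw [eq_top_iff]
      refine le_trans ?_ hq
      rw [pow_zero, Ideal.one_eq_top]
      exact le_sup_left
    have hpq : p ≤ q := Ideal.IsPrime.le_of_pow_le (le_sup_left.trans hq)
    have hsq : s ∈ q := (le_sup_right.trans hq) (Ideal.mem_span_singleton_self s)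
    have hlt : p < q := lt_of_le_of_ne hpq (by rintro rfl; exact hs hsq)
    exact (prime_eq_maximal_of_lt p hp q hlt).ge
  obtain ⟨j, hj⟩ := Ideal.exists_pow_le_of_le_radical_of_fg h1 (isNoetherian_def.mp ‹_› _)
  refine ⟨j, (Ideal.mul_mono_left hj).trans ?_⟩
  rw [Ideal.sup_mul]
  refine sup_le Ideal.mul_le_left ?_
  rw [Ideal.span_singleton_mul_le_iff]
  exact hs'


/-- Stacks Tag 0EB5.  Let A be a complete Noetherian local domain and p a prime ideal with dim(A/p) = 1.  For every n ≥ 1 there is m ≥ n such that the m-th symbolic power of p (the contraction of p^m A_p to A) is contained in p^n. -/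
theorem result (A : Type u) [CommRing A] [IsDomain A] [IsLocalRing A] [IsNoetherianRing A] [IsAdicComplete (IsLocalRing.maximalIdeal A) A] (p : Ideal A) [p.IsPrime] (hp : ringKrullDim (A ⧸ p) = 1) (n : ℕ) (hn : 1 ≤ n) : ∃ m : ℕ, n ≤ m ∧ ((Ideal.map (algebraMap A (Localization.AtPrime p)) p) ^ m).comap (algebraMap A (Localization.AtPrime p)) ≤ p ^ n := by
  obtain ⟨j, hj⟩ := exists_pow_mul_symb_le p hp n
  obtain ⟨k, hk⟩ := Ideal.exists_pow_inf_eq_pow_smul (IsLocalRing.maximalIdeal A) (M := A) (symb p n)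
  obtain ⟨m, hm⟩ := Groth.Agent.LoccohA.Chevalley.exists_le_pow_of_iInf_eq_bot (symb p)
    (symb_antitone p) (iInf_symb p) (k + j)
  refine ⟨max n m, le_max_left _ _, ?_⟩
  change symb p (max n m) ≤ p ^ n
  intro x hx
  have h1 : x ∈ symb p n := symb_antitone p (le_max_left _ _) hx
  have h2 : x ∈ IsLocalRing.maximalIdeal A ^ (k + j) := hm (symb_antitone p (le_max_right _ _) hx)
  have h3 : x ∈ (IsLocalRing.maximalIdeal A ^ (k + j) • ⊤ ⊓ symb p n : Ideal A) := by
    refine ⟨?_, h1⟩
    simpa using h2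
  rw [hk (k + j) (by omega)] at h3
  apply hj
  have h4 : k + j - k = j := by omega
  rw [h4] at h3
  refine Ideal.mul_mono_right ?_ h3
  exact inf_le_right

end Groth.Agent.S1735
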