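import Groth.Statements.S1737
import Mathlib.RingTheory.Ideal.AssociatedPrime.Finiteness
import Mathlib.RingTheory.Ideal.AssociatedPrime.Localization
import Mathlib.RingTheory.Regular.IsSMulRegular
-- import your own Groth.Agent.* helpers here

set_option autoImplicit false
universe u
open LocCoh

namespace Groth.Agent.S1737

/-- Over a Noetherian local ring, if no nonzero element of the finite module `M` is killed by the maximal
ideal, then the depth of `M` is at least one. -/
theorem one_le_depth {R : Type u} [CommRing R] [IsLocalRing R] [IsNoetherianRing R]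
    {M : Type u} [AddCommGroup M] [Module R M] [Module.Finite R M]
    (h : ∀ x : M, (∀ a ∈ IsLocalRing.maximalIdeal R, a • x = 0) → x = 0) :
    1 ≤ LocCoh.depth R M := by
  unfold LocCoh.depth LocCoh.idealDepth
  split_ifs with h1
  · exact le_top
  · have hex : ∃ r ∈ IsLocalRing.maximalIdeal R, IsSMulRegular M r := by
      by_contra hno
      push Not at hno
      have hsub : (IsLocalRing.maximalIdeal R : Set R) ⊆ ⋃ p ∈ associatedPrimes R M, (p : Set R) := by
        rw [biUnion_associatedPrimes_eq_compl_regular R M]
        exact fun r hr => hno r hr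
      rw [Ideal.subset_union_prime_finite (associatedPrimes.finite R M)
        (IsLocalRing.maximalIdeal R) (IsLocalRing.maximalIdeal R)
        (fun I hin _ _ => IsAssociatedPrime.isPrime hin)] at hsub
      obtain ⟨p, hp, hle⟩ := hsub
      obtain ⟨hpp, x, hx⟩ := isAssociatedPrime_iff.mp (AssociatedPrimes.mem_iff.mp hp)
      have hx0 : x = 0 := h x fun a ha => by
        have := hle ha
        rw [hx] at this
        simpa [Submodule.mem_colon_singleton] using this
      apply hpp.ne_top
      rw [hx, hx0, Ideal.eq_top_iff_one]
      simp [Submodule.mem_colon_singleton]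
    obtain ⟨r, hr, hreg⟩ := hex
    refine le_trans ?_ (le_iSup₂ (f := fun (rs : List R)
      (_ : RingTheory.Sequence.IsWeaklyRegular M rs ∧ ∀ r ∈ rs, r ∈ IsLocalRing.maximalIdeal R) =>
        (rs.length : ℕ∞)) [r] ⟨?_, ?_⟩)
    · simp
    · rwa [RingTheory.Sequence.isWeaklyRegular_singleton_iff]
    · intro s hs
      rw [List.mem_singleton] at hs
      rwa [hs]

/-- Stacks Tag 0DX3, affine case, existence part.  Let A be a Noetherian ring, T ⊆ Spec A stable under specialization and M a finite A-module.  There are a finite A-module M' and a surjection M → M' which is bijective after localizing at every prime outside T and such that M'_p has depth ≥ 1 over A_p for every p in T.  (The source states this for coherent modules on a Noetherian scheme, with uniqueness.) -/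
theorem result (A : Type u) [CommRing A] [IsNoetherianRing A] (T : Set (PrimeSpectrum A)) (hT : StableUnderSpecialization T) (M : Type u) [AddCommGroup M] [Module A M] [Module.Finite A M] : ∃ (M' : Type u) (_ : AddCommGroup M') (_ : Module A M') (_ : Module.Finite A M') (f : M →ₗ[A] M'), Function.Surjective f ∧ (∀ p : PrimeSpectrum A, p ∉ T → Function.Bijective (LocalizedModule.map p.asIdeal.primeCompl f)) ∧ ∀ p : PrimeSpectrum A, p ∈ T → 1 ≤ LocCoh.depth (Localization.AtPrime p.asIdeal) (LocalizedModule p.asIdeal.primeCompl M') := by
  let N : Submodule A M := ⨅ (p : PrimeSpectrum A) (_ : p ∉ T),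
    LinearMap.ker (LocalizedModule.mkLinearMap p.asIdeal.primeCompl M)
  have hN : ∀ m : M, m ∈ N ↔ ∀ p : PrimeSpectrum A, p ∉ T → ∃ c ∉ p.asIdeal, c • m = 0 := by
    intro m
    simp only [N, Submodule.mem_iInf, LinearMap.mem_ker]
    refine forall_congr' fun p => forall_congr' fun hp => ?_
    rw [LocalizedModule.mkLinearMap_apply, ← LocalizedModule.zero_mk (1 : p.asIdeal.primeCompl), LocalizedModule.mk_eq]
    constructor
    · rintro ⟨u, hu⟩
      refine ⟨u, u.2, ?_⟩
      simpa [Submonoid.smul_def] using hu
    · rintro ⟨c, hc, h⟩
      refine ⟨⟨c, hc⟩, ?_⟩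
      simpa [Submonoid.smul_def] using h
  refine ⟨M ⧸ N, inferInstance, inferInstance, inferInstance, N.mkQ, N.mkQ_surjective, ?_, ?_⟩
  · intro p hp
    constructor
    · rw [injective_iff_map_eq_zero]
      intro x
      induction x using LocalizedModule.induction_on with
      | h m s =>
        intro hx
        rw [LocalizedModule.map_mk] at hx
        rw [← LocalizedModule.zero_mk (1 : p.asIdeal.primeCompl), LocalizedModule.mk_eq] at hx
        obtain ⟨u, hu⟩ := hx
        simp only [Submonoid.smul_def, smul_zero, Submodule.mkQ_apply, OneMemClass.coe_one, one_smul] at hu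
        rw [← Submodule.Quotient.mk_smul, Submodule.Quotient.mk_eq_zero, hN] at hu
        obtain ⟨c, hc, hcm⟩ := hu p hp
        rw [← LocalizedModule.zero_mk (1 : p.asIdeal.primeCompl), LocalizedModule.mk_eq]
        refine ⟨⟨c, hc⟩ * u, ?_⟩
        simp only [Submonoid.smul_def, smul_zero, OneMemClass.coe_one, one_smul]
        rw [smul_smul] at hcm
        simpa using hcm
    · intro y
      induction y using LocalizedModule.induction_on with
      | h m s =>
        obtain ⟨m, rfl⟩ := N.mkQ_surjective m
        exact ⟨LocalizedModule.mk m s, LocalizedModule.map_mk (S := p.asIdeal.primeCompl) N.mkQ m s⟩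
  · intro p hp
    apply one_le_depth
    intro x
    induction x using LocalizedModule.induction_on with
    | h m s =>
      obtain ⟨m, rfl⟩ := N.mkQ_surjective m
      intro hx
      have key : ∀ a ∈ p.asIdeal, ∃ c ∉ p.asIdeal, (c * a) • m ∈ N := by
        intro a ha
        have h1 := hx (algebraMap A _ a) (by
          rw [← Localization.AtPrime.map_eq_maximalIdeal]
          exact Ideal.mem_map_of_mem _ ha)
        rw [algebraMap_smul, LocalizedModule.smul'_mk, ← LocalizedModule.zero_mk (1 : p.asIdeal.primeCompl),
          LocalizedModule.mk_eq] at h1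
        obtain ⟨u, hu⟩ := h1
        simp only [Submonoid.smul_def, smul_zero, Submodule.mkQ_apply, OneMemClass.coe_one, one_smul] at hu
        rw [← Submodule.Quotient.mk_smul, ← Submodule.Quotient.mk_smul, Submodule.Quotient.mk_eq_zero] at hu
        refine ⟨u, u.2, ?_⟩
        rwa [smul_smul] at hu
      -- uniform denominator
      obtain ⟨c, hc, hcN⟩ : ∃ c ∉ p.asIdeal, ∀ a ∈ p.asIdeal, (c * a) • m ∈ N := by
        obtain ⟨S, hS⟩ := (isNoetherianRing_iff_ideal_fg A).mp inferInstance p.asIdeal
        have hkey' : ∀ a ∈ S, ∃ c ∉ p.asIdeal, (c * a) • m ∈ N := fun a ha =>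
          key a (hS ▸ Ideal.subset_span ha)
        choose! c hc hcN using hkey'
        refine ⟨∏ a ∈ S, c a, ?_, ?_⟩
        · intro hmem
          rw [Ideal.IsPrime.prod_mem_iff] at hmem
          obtain ⟨a, ha, hmem⟩ := hmem
          exact hc a ha hmem
        · intro a ha
          rw [← hS] at ha
          induction ha using Submodule.span_induction with
          | mem a ha =>
            obtain ⟨d, hd⟩ := Finset.dvd_prod_of_mem c ha
            rw [hd, mul_assoc, mul_comm d a, ← mul_assoc, mul_comm _ d, ← smul_smul]
            exact N.smul_mem _ (hcN a ha)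
          | zero => simp
          | add x y _ _ hx hy =>
            rw [mul_add, add_smul]
            exact N.add_mem hx hy
          | smul b x _ hx =>
            rw [smul_eq_mul, ← mul_assoc, mul_comm _ b, mul_assoc, ← smul_smul]
            exact N.smul_mem _ hx
      have hcm : c • m ∈ N := by
        rw [hN]
        intro q hq
        have hnle : ¬ p.asIdeal ≤ q.asIdeal := by
          intro hle
          exact hq (hT ((PrimeSpectrum.le_iff_specializes p q).mp hle) hp)
        obtain ⟨a, hap, haq⟩ := SetLike.not_le_iff_exists.mp hnle
        have := hcN a hap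
        rw [hN] at this
        obtain ⟨d, hd, hdm⟩ := this q hq
        refine ⟨d * a, fun hmem => ?_, ?_⟩
        · exact (q.isPrime.mem_or_mem hmem).elim hd haq
        · rw [smul_smul] at hdm ⊢
          rw [mul_assoc, mul_comm a c]
          exact hdm
      rw [← LocalizedModule.zero_mk (1 : p.asIdeal.primeCompl), LocalizedModule.mk_eq]
      refine ⟨⟨c, hc⟩, ?_⟩
      simp only [Submonoid.smul_def, smul_zero, Submodule.mkQ_apply, OneMemClass.coe_one, one_smul]
      rw [← Submodule.Quotient.mk_smul, Submodule.Quotient.mk_eq_zero]
      exact hcm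

end Groth.Agent.S1737
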