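import Groth.Statements.S1738
import Groth.Agent.LoccohA.ExtendT
import Groth.Agent.S1727

set_option autoImplicit false
universe u
open CategoryTheory
attribute [local instance] HasDerivedCategory.standard
open LocCoh

namespace Groth.Agent.S1738


open Groth.Agent.LoccohA

theorem one_le_krullDim_Icc {α : Type*} [PartialOrder α] {p q : α} (h : p < q) :
    (1 : WithBot ℕ∞) ≤ Order.krullDim (Set.Icc p q) := by
  let a : Set.Icc p q := ⟨p, le_rfl, h.le⟩
  let b : Set.Icc p q := ⟨q, h.le, le_rfl⟩
  have hab : a < b := h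
  exact Order.LTSeries.length_le_krullDim ((RelSeries.singleton _ b).cons a hab)

theorem two_le_krullDim_Icc {α : Type*} [PartialOrder α] {p q : α} (h : p < q) (hc : ¬ p ⋖ q) :
    (2 : WithBot ℕ∞) ≤ Order.krullDim (Set.Icc p q) := by
  obtain ⟨r, hr1, hr2⟩ := (not_covBy_iff h).1 hc
  let a : Set.Icc p q := ⟨p, le_rfl, h.le⟩
  let b : Set.Icc p q := ⟨q, h.le, le_rfl⟩
  let c : Set.Icc p q := ⟨r, hr1.le, hr2.le⟩
  have hac : a < c := hr1
  have hcb : c < b := hr2
  exact Order.LTSeries.length_le_krullDim (((RelSeries.singleton _ b).cons c hcb).cons a (by rw [RelSeries.head_cons]; exact hac))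

/-- Stacks Tag 0EI3, affine case, existence part.  Let A be a Noetherian ring with a dualizing complex, T' ⊆ Spec A stable under specialization, and M a finite A-module such that depth(M_p) ≥ 1 whenever q covers p in Spec A with q in T' and p outside T'.  Then there are a finite A-module M'' and a map M → M'' which is bijective after localizing at every prime outside T' and such that M''_p has depth ≥ 2 for every p in T'.  (The source: coherent modules on a Noetherian scheme locally having a dualizing complex, with uniqueness and a pullback clause.) -/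
theorem result (A : Type u) [CommRing A] [IsNoetherianRing A] (hA : ∃ ω : Dual.D A, Dual.IsDualizing A ω) (T' : Set (PrimeSpectrum A)) (hT : StableUnderSpecialization T') (M : Type u) [AddCommGroup M] [Module A M] [Module.Finite A M] (hM : ∀ p q : PrimeSpectrum A, p ⋖ q → q ∈ T' → p ∉ T' → 1 ≤ LocCoh.depth (Localization.AtPrime p.asIdeal) (LocalizedModule p.asIdeal.primeCompl M)) : ∃ (M'' : Type u) (_ : AddCommGroup M'') (_ : Module A M'') (_ : Module.Finite A M'') (f : M →ₗ[A] M''), (∀ p : PrimeSpectrum A, p ∉ T' → Function.Bijective (LocalizedModule.map p.asIdeal.primeCompl f)) ∧ ∀ p : PrimeSpectrum A, p ∈ T' → 2 ≤ LocCoh.depth (Localization.AtPrime p.asIdeal) (LocalizedModule p.asIdeal.primeCompl M'') := by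
  have hfin : Module.Finite A (Dual2.HT T' 1 (M ⧸ LCTGam.gam T' M)) := by
    refine (Groth.Agent.S1727.result A hA T' hT 1 (M ⧸ LCTGam.gam T' M)).2 ?_ 1 le_rfl
    intro p q hp hq hpq
    have hlt : p < q := lt_of_le_of_ne hpq (by rintro rfl; exact hp hq)
    by_cases hcov : p ⋖ q
    · have h1 := hM p q hcov hq hp
      rw [ExtendT.depth_quotient_gam T' M p hp] at h1
      have h2 := one_le_krullDim_Icc hlt
      calc ((1 : ℕ) : WithBot ℕ∞) < ((1 : ℕ∞) : WithBot ℕ∞) + 1 := by decide
        _ ≤ _ := add_le_add (WithBot.coe_le_coe.2 h1) h2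
    · have h2 := two_le_krullDim_Icc hlt hcov
      calc ((1 : ℕ) : WithBot ℕ∞) < 2 := by decide
        _ = ((0 : ℕ∞) : WithBot ℕ∞) + 2 := by simp
        _ ≤ _ := add_le_add (WithBot.coe_le_coe.2 (zero_le)) h2
  exact ExtendT.exists_map T' hT M hfin

end Groth.Agent.S1738
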