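import Groth.Statements.S1739
import Groth.Agent.LoccohA.TorAnnRees

set_option autoImplicit false
universe u
open CategoryTheory
attribute [local instance] HasDerivedCategory.standard
open LocCoh

namespace Groth.Agent.S1739

open Groth.Agent.CycA.TorBasic Groth.Agent.CycA.TorShift

/-- uniform annihilation for the Rees algebra -/
theorem rees (A : Type u) [CommRing A] [IsNoetherianRing A] (s : Finset A) :
    ∃ c : ℕ, ∀ (M : Type u) [AddCommGroup M] [Module A M] (i : ℕ), s.card ≤ i →
      ∀ a ∈ (Ideal.span (s : Set A)) ^ c,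
      ∀ x : DRing.Tor A i (reesAlgebra (Ideal.span (s : Set A))) M, a • x = 0 := by
  classical
  have h := fun j : s => LoccohA.TorAnnRees.key s (Localization.Away j.1) j
  choose N hN using h
  let J : Ideal A := Ideal.span (Set.range (fun j : s => j.1 ^ N j))
  have hJ : Ideal.span (s : Set A) ≤ J.radical := by
    rw [Ideal.span_le]
    intro k hk
    exact ⟨N ⟨k, hk⟩, Ideal.subset_span ⟨⟨k, hk⟩, rfl⟩⟩
  obtain ⟨c, hc⟩ := Ideal.exists_pow_le_of_le_radical_of_fg hJ (IsNoetherian.noetherian _)
  refine ⟨c, fun M _ _ i hi a ha x => ?_⟩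
  have hle : J ≤ Ideal.torsionOf A _ x := by
    rw [Ideal.span_le]
    rintro _ ⟨j, rfl⟩
    rw [SetLike.mem_coe, Ideal.mem_torsionOf_iff]
    exact hN j M i hi x
  exact (Ideal.mem_torsionOf_iff x a).1 (hle (hc ha))

/-- uniform annihilation for the powers of the ideal -/
theorem pow (A : Type u) [CommRing A] (I : Ideal A) (M : Type u) [AddCommGroup M] [Module A M]
    (i q : ℕ) (a : A) (h : ∀ x : DRing.Tor A i (reesAlgebra I) M, a • x = 0)
    (x : DRing.Tor A i (↥(I ^ q)) M) : a • x = 0 := by
  let f : ↥(I ^ q) →ₗ[A] reesAlgebra I :=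
    { toFun := fun z => ⟨Polynomial.monomial q z.1, reesAlgebra.monomial_mem.2 z.2⟩
      map_add' := fun z w => by apply Subtype.ext; simp
      map_smul' := fun r z => by apply Subtype.ext; simp [Polynomial.smul_monomial] }
  let g : reesAlgebra I →ₗ[A] ↥(I ^ q) :=
    { toFun := fun z => ⟨z.1.coeff q, z.2 q⟩
      map_add' := fun z w => by apply Subtype.ext; simp
      map_smul' := fun r z => by apply Subtype.ext; simp }
  have hgf : g ∘ₗ f = LinearMap.id := by
    ext z
    simp [f, g]
  have h1 := mapL_comp f g i M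
  rw [hgf, mapL_id] at h1
  have h2 : x = mapL g i M (mapL f i M x) := LinearMap.congr_fun h1 x
  rw [h2, ← map_smul, h, map_zero]

/-- Stacks Tag 0GA1.  Let A be a Noetherian ring and I an ideal generated by at most t elements.  There is an integer c ≥ 0 such that for every A-module M, every i > t and every q ≥ 0, the module Tor_i^A(M, A/I^q) is annihilated by I^c. -/
theorem result (A : Type u) [CommRing A] [IsNoetherianRing A] (I : Ideal A) (t : ℕ) (s : Finset A) (hs : I = Ideal.span (s : Set A)) (ht : s.card ≤ t) : ∃ c : ℕ, ∀ (M : Type u) [AddCommGroup M] [Module A M] (i q : ℕ), t < i → ∀ a ∈ I ^ c, ∀ x : DRing.Tor A i M (A ⧸ I ^ q), a • x = 0 := by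
  rcases Finset.eq_empty_or_nonempty s with rfl | hne
  · refine ⟨1, fun M _ _ i q _ a ha x => ?_⟩
    have : a = 0 := by
      simpa [hs] using ha
    rw [this, zero_smul]
  · obtain ⟨c, hc⟩ := rees A s
    refine ⟨c, fun M _ _ i q hi a ha x => ?_⟩
    have hpos : 0 < s.card := hne.card_pos
    obtain ⟨n, rfl⟩ : ∃ n, i = n + 2 := ⟨i - 2, by omega⟩
    obtain ⟨e1⟩ := comm (A := A) (n + 2) M (A ⧸ I ^ q)
    obtain ⟨e2⟩ := shiftL (A := A) (I ^ q).subtype (I ^ q).mkQ Subtype.val_injective
      (LinearMap.exact_subtype_mkQ _) (Submodule.mkQ_surjective _) n M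
    apply (e1.trans e2).injective
    rw [map_smul, map_zero]
    refine pow A I M (n + 1) q a (fun y => ?_) _
    subst hs
    exact hc M (n + 1) (by omega) a ha y

end Groth.Agent.S1739
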