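import Groth.Statements.S1740
import Groth.Agent.LoccohA.TorLES
import Mathlib.LinearAlgebra.Contraction
import Mathlib.LinearAlgebra.TensorProduct.RightExactness
import Mathlib.Algebra.Module.FinitePresentation

set_option autoImplicit false
universe u
open CategoryTheory
attribute [local instance] HasDerivedCategory.standard
open LocCoh

namespace Groth.Agent.S1740

open TensorProduct MonoidalCategory

lemma key {R : Type u} [CommRing R] {P₁ P₀ K K' : Type u} [AddCommGroup P₁] [Module R P₁]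
    [AddCommGroup P₀] [Module R P₀] [AddCommGroup K] [Module R K] [AddCommGroup K'] [Module R K']
    [Module.Finite R P₁] [Module.Projective R P₁] [Module.Finite R P₀] [Module.Projective R P₀]
    (a : P₁ →ₗ[R] K) (i : K →ₗ[R] P₀) (κ : K →ₗ[R] K')
    (H : ∀ z : K ⊗[R] (Module.Dual R P₁ ⧸ LinearMap.range (i ∘ₗ a).dualMap),
      i.rTensor _ z = 0 → κ.rTensor _ z = 0) :
    ∃ ψ : P₀ →ₗ[R] K', ψ ∘ₗ (i ∘ₗ a) = κ ∘ₗ a := by
  obtain ⟨t, ht⟩ := (dualTensorHom_bijective (R := R) (M := P₁) (N := K)).2 a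
  obtain ⟨t0, ht0⟩ := (dualTensorHom_bijective (R := R) (M := P₀) (N := P₀)).2 LinearMap.id
  set q := (LinearMap.range (i ∘ₗ a).dualMap).mkQ with hq
  have hex : ∀ (W : Type u) [AddCommGroup W] [Module R W],
      Function.Exact ((i ∘ₗ a).dualMap.rTensor W) (q.rTensor W) := by
    intro W _ _
    refine rTensor_exact W ?_ (Submodule.mkQ_surjective _)
    rw [LinearMap.exact_iff, hq, Submodule.ker_mkQ]
  have hsw : ∀ {X Y X' Y' : Type u} [AddCommGroup X] [Module R X] [AddCommGroup Y] [Module R Y]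
      [AddCommGroup X'] [Module R X'] [AddCommGroup Y'] [Module R Y'] (f : X →ₗ[R] X')
      (g : Y →ₗ[R] Y') (z : X ⊗[R] Y),
      g.lTensor X' (f.rTensor Y z) = f.rTensor Y' (g.lTensor X z) := by
    intro X Y X' Y' _ _ _ _ _ _ _ _ f g z
    have := LinearMap.congr_fun (LinearMap.lTensor_comp_rTensor (R := R) (f := f) (g := g)) z
    have h2 := LinearMap.congr_fun (LinearMap.rTensor_comp_lTensor (R := R) (f := f) (g := g)) z
    simp only [LinearMap.comp_apply] at this h2
    rw [this, h2]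
  have h1 : i.lTensor _ t = (i ∘ₗ a).dualMap.rTensor _ t0 := by
    apply (dualTensorHom_bijective (R := R) (M := P₁) (N := P₀)).1
    have e1 := congrArg (fun f => f t) (dualTensorHom_comp_lTensor (R := R) (M := P₁) i)
    have e2 := congrArg (fun f => f t0)
      (dualTensorHom_comp_rTensor_dualMap (R := R) (P := P₀) (i ∘ₗ a))
    simp only [LinearMap.comp_apply] at e1 e2
    rw [e1, e2, ht, ht0]
    rfl
  have h2 : i.rTensor _ (TensorProduct.comm R _ _ (q.rTensor K t)) = 0 := by
    rw [LinearMap.rTensor_comm, hsw, h1]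
    rw [((hex _).apply_apply_eq_zero _), map_zero]
  have h3 := H _ h2
  rw [LinearMap.rTensor_comm, hsw] at h3
  have h4 : q.rTensor K' (κ.lTensor _ t) = 0 := by
    simpa using h3
  obtain ⟨s, hs⟩ := (hex K' _).1 h4
  refine ⟨dualTensorHom R P₀ K' s, ?_⟩
  have e1 := congrArg (fun f => f t) (dualTensorHom_comp_lTensor (R := R) (M := P₁) κ)
  have e2 := congrArg (fun f => f s)
    (dualTensorHom_comp_rTensor_dualMap (R := R) (P := K') (i ∘ₗ a))
  simp only [LinearMap.comp_apply] at e1 e2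
  rw [hs, e1, ht] at e2
  exact e2.symm

lemma shortExact_of_surj {R : Type u} [CommRing R] {F M : Type u} [AddCommGroup F] [Module R F]
    [AddCommGroup M] [Module R M] (f : F →ₗ[R] M) (hf : Function.Surjective f) :
    (ShortComplex.mk (ModuleCat.ofHom (LinearMap.ker f).subtype) (ModuleCat.ofHom f)
      (by ext x; exact x.2)).ShortExact := by
  refine ShortComplex.ShortExact.mk' ?_ ?_ ?_
  · rw [ShortComplex.ShortExact.moduleCat_exact_iff_function_exact]
    exact LinearMap.exact_subtype_ker_map f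
  · rw [ModuleCat.mono_iff_injective]
    exact Subtype.val_injective
  · rw [ModuleCat.epi_iff_surjective]
    exact hf


lemma factor {R : Type u} [CommRing R] {M M' P₁ P₀ : Type u} [AddCommGroup M] [Module R M]
    [AddCommGroup M'] [Module R M'] [AddCommGroup P₁] [Module R P₁] [AddCommGroup P₀] [Module R P₀]
    [Module.Finite R P₁] [Module.Projective R P₁] [Module.Finite R P₀] [Module.Projective R P₀]
    {F : Type u} [AddCommGroup F] [Module R F]
    (α : M →ₗ[R] M') (f : P₀ →ₗ[R] M) (hf : Function.Surjective f)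
    (π' : F →ₗ[R] M') (φ : P₀ →ₗ[R] F) (hφ : π' ∘ₗ φ = α ∘ₗ f)
    (a : P₁ →ₗ[R] LinearMap.ker f) (ha : Function.Surjective a)
    (κ : LinearMap.ker f →ₗ[R] LinearMap.ker π')
    (hκ : ∀ x : LinearMap.ker f, (κ x : F) = φ x)
    (H : ∀ z : LinearMap.ker f ⊗[R]
      (Module.Dual R P₁ ⧸ LinearMap.range ((LinearMap.ker f).subtype ∘ₗ a).dualMap),
      (LinearMap.ker f).subtype.rTensor _ z = 0 → κ.rTensor _ z = 0) :
    ∃ g : M →ₗ[R] F, π' ∘ₗ g = α := by
  obtain ⟨ψ, hψ⟩ := key a (LinearMap.ker f).subtype κ H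
  -- corrected lift
  let φ' : P₀ →ₗ[R] F := φ - (LinearMap.ker π').subtype ∘ₗ ψ
  have hφ'K : LinearMap.ker f ≤ LinearMap.ker φ' := by
    intro x hx
    obtain ⟨y, hy⟩ := ha ⟨x, hx⟩
    have h1 := LinearMap.congr_fun hψ y
    simp only [LinearMap.comp_apply, hy] at h1
    have h2 : (ψ x : F) = φ x := by
      have := congrArg Subtype.val h1
      rw [hκ] at this
      exact this
    simp [φ', h2]
  refine ⟨((LinearMap.ker f).liftQ φ' hφ'K) ∘ₗ (f.quotKerEquivOfSurjective hf).symm.toLinearMap, ?_⟩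
  ext x
  obtain ⟨y, rfl⟩ := hf x
  have h3 : (f.quotKerEquivOfSurjective hf).symm (f y) = Submodule.Quotient.mk y := by
    rw [LinearEquiv.symm_apply_eq]
    rfl
  have h4 : π' (ψ y : F) = 0 := (ψ y).2
  have h5 := LinearMap.congr_fun hφ y
  simp only [LinearMap.comp_apply] at h5
  simp [h3, φ', h4, h5]


lemma tor_key {R : Type u} [CommRing R] {M M' P₀ F : Type u} [AddCommGroup M] [Module R M]
    [AddCommGroup M'] [Module R M'] [AddCommGroup P₀] [Module R P₀] [AddCommGroup F] [Module R F]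
    (α : M →ₗ[R] M') (f : P₀ →ₗ[R] M) (hf : Function.Surjective f)
    (π' : F →ₗ[R] M') (hπ' : Function.Surjective π') (φ : P₀ →ₗ[R] F) (hφ : π' ∘ₗ φ = α ∘ₗ f)
    (κ : LinearMap.ker f →ₗ[R] LinearMap.ker π')
    (hκ : ∀ x : LinearMap.ker f, (κ x : F) = φ x)
    (N : Type u) [AddCommGroup N] [Module R N]
    (h : ((CategoryTheory.Tor (ModuleCat.{u} R) 1).map (ModuleCat.ofHom α)).app
      (ModuleCat.of R N) = 0) (z : LinearMap.ker f ⊗[R] N)
    (hz : (LinearMap.ker f).subtype.rTensor N z = 0) : κ.rTensor N z = 0 := by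
  have hS := shortExact_of_surj f hf
  have hS' := shortExact_of_surj π' hπ'
  let Φ : ShortComplex.mk (ModuleCat.ofHom (LinearMap.ker f).subtype) (ModuleCat.ofHom f)
      (by ext x; exact x.2) ⟶
      ShortComplex.mk (ModuleCat.ofHom (LinearMap.ker π').subtype) (ModuleCat.ofHom π')
      (by ext x; exact x.2) :=
    { τ₁ := ModuleCat.ofHom κ
      τ₂ := ModuleCat.ofHom φ
      τ₃ := ModuleCat.ofHom α
      comm₁₂ := by ext x; exact hκ x
      comm₂₃ := by ext x; exact LinearMap.congr_fun hφ x }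
  have hnat := LoccohA.TorLES.torδ_naturality hS hS' Φ (ModuleCat.of R N) 0
  have hex := LoccohA.TorLES.exact_δ_map hS (ModuleCat.of R N) 0
  let e := LoccohA.TorLES.tor0Iso (ModuleCat.of R (LinearMap.ker f)) (ModuleCat.of R N)
  let e0 := LoccohA.TorLES.tor0Iso (ModuleCat.of R P₀) (ModuleCat.of R N)
  let e' := LoccohA.TorLES.tor0Iso (ModuleCat.of R (LinearMap.ker π')) (ModuleCat.of R N)
  have hn1 := LoccohA.TorLES.tor0Iso_hom_naturality_left
    (ModuleCat.ofHom (LinearMap.ker f).subtype) (ModuleCat.of R N)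
  have hn2 := LoccohA.TorLES.tor0Iso_hom_naturality_left
    (ModuleCat.ofHom κ) (ModuleCat.of R N)
  have hn1' : ∀ x, e0.hom.hom ((((Tor (ModuleCat.{u} R) 0).map
      (ModuleCat.ofHom (LinearMap.ker f).subtype)).app (ModuleCat.of R N)).hom x) =
      (LinearMap.ker f).subtype.rTensor N (e.hom.hom x) := fun x =>
    congrArg (fun t => t.hom x) hn1
  have hn2' : ∀ x, e'.hom.hom ((((Tor (ModuleCat.{u} R) 0).map
      (ModuleCat.ofHom κ)).app (ModuleCat.of R N)).hom x) =
      κ.rTensor N (e.hom.hom x) := fun x =>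
    congrArg (fun t => t.hom x) hn2
  have hb : ∀ {X Y : ModuleCat.{u} R} (e : X ≅ Y), Function.Bijective e.hom.hom := fun e =>
    ConcreteCategory.bijective_of_isIso e.hom
  obtain ⟨x, hx⟩ := (hb e).2 z
  have hx0 : (((Tor (ModuleCat.{u} R) 0).map
      (ModuleCat.ofHom (LinearMap.ker f).subtype)).app (ModuleCat.of R N)).hom x = 0 := by
    apply (hb e0).1
    rw [hn1', hx, map_zero]
    exact hz
  obtain ⟨w, hw⟩ := (hex x).1 hx0
  have h5 : (((Tor (ModuleCat.{u} R) 0).map
      (ModuleCat.ofHom κ)).app (ModuleCat.of R N)).hom x = 0 := by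
    rw [← hw]
    have h6 := congrArg (fun t => t.hom w) hnat
    change (LoccohA.TorLES.torδ hS' (ModuleCat.of R N) 0).hom
      ((((Tor (ModuleCat.{u} R) 1).map (ModuleCat.ofHom α)).app (ModuleCat.of R N)).hom w) =
      (((Tor (ModuleCat.{u} R) 0).map (ModuleCat.ofHom κ)).app (ModuleCat.of R N)).hom
        ((LoccohA.TorLES.torδ hS (ModuleCat.of R N) 0).hom w) at h6
    rw [← h6, h]
    simp
  rw [← hx, ← hn2', h5, map_zero]

/-- Stacks Tag 0G9T.  Let α : M → M' be a map of R-modules with M finitely presented such that the induced map Tor_1(M, N) → Tor_1(M', N) is zero for every R-module N.  Then α is the composite of a map from M into a free R-module and a map from that free module to M'. -/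
theorem result (R : Type u) [CommRing R] (M M' : Type u) [AddCommGroup M] [Module R M] [Module.FinitePresentation R M] [AddCommGroup M'] [Module R M'] (α : M →ₗ[R] M') (h : ∀ (N : Type u) [AddCommGroup N] [Module R N], ((CategoryTheory.Tor (ModuleCat.{u} R) 1).map (ModuleCat.ofHom α)).app (ModuleCat.of R N) = 0) : ∃ (ι : Type u) (g : M →ₗ[R] (ι →₀ R)) (h : (ι →₀ R) →ₗ[R] M'), α = h ∘ₗ g := by
  obtain ⟨n, m, f, g, hf, hfg⟩ := Module.FinitePresentation.exists_fin' R M
  have hπ' : Function.Surjective (Finsupp.linearCombination R (id : M' → M')) :=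
    Finsupp.linearCombination_id_surjective R M'
  obtain ⟨φ, hφ⟩ := Module.projective_lifting_property _ (α ∘ₗ f) hπ'
  have ha : Function.Surjective
      (g.codRestrict (LinearMap.ker f) (fun x => hfg.apply_apply_eq_zero x)) := by
    rintro ⟨x, hx⟩
    obtain ⟨y, hy⟩ := (hfg x).1 hx
    exact ⟨y, Subtype.ext hy⟩
  have hκ0 : ∀ x : LinearMap.ker f, (φ ∘ₗ (LinearMap.ker f).subtype) x ∈
      LinearMap.ker (Finsupp.linearCombination R (id : M' → M')) := fun x => by
    have := LinearMap.congr_fun hφ x.1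
    simp only [LinearMap.comp_apply] at this
    rw [LinearMap.mem_ker, LinearMap.comp_apply, Submodule.subtype_apply, this,
      show f x.1 = 0 from x.2, map_zero]
  obtain ⟨g', hg'⟩ := factor α f hf _ φ hφ _ ha
    ((φ ∘ₗ (LinearMap.ker f).subtype).codRestrict _ hκ0) (fun x => rfl)
    (fun z hz => tor_key α f hf _ hπ' φ hφ _ (fun x => rfl) _ (h _) z hz)
  exact ⟨M', g', _, hg'.symm⟩

end Groth.Agent.S1740
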