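import Groth.Statements.S1741
import Groth.Agent.S1740

set_option autoImplicit false
universe u
open CategoryTheory
attribute [local instance] HasDerivedCategory.standard
open LocCoh

namespace Groth.Agent.S1741

open TensorProduct MonoidalCategory CategoryTheory.Abelian

open Groth.Agent.S1740 (shortExact_of_surj)

/-- Ext-vanishing condition. -/
def PExt {R : Type u} [CommRing R] {M M' : ModuleCat.{u} R} (α : M ⟶ M') (e : ℕ) : Prop :=
  ∀ (N : ModuleCat.{u} R) (x : Ext.{u} M' N (e + 1)),
    (Ext.mk₀ α).comp x (zero_add _) = 0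

/-- Tor-vanishing condition. -/
def PTor {R : Type u} [CommRing R] {M M' : ModuleCat.{u} R} (α : M ⟶ M') (e : ℕ) : Prop :=
  ∀ (N : ModuleCat.{u} R), ((CategoryTheory.Tor (ModuleCat.{u} R) (e + 1)).map α).app N = 0

lemma pext_of_D {R : Type u} [CommRing R] (M M' : Type u) [AddCommGroup M] [Module R M] [AddCommGroup M'] [Module R M'] (α : M →ₗ[R] M') (e : ℕ) : (∀ (N : Type u) [AddCommGroup N] [Module R N] (φ : Dual.inD R M' ⟶ (Dual.inD R N)⟦((e : ℤ) + 1)⟧), (DerivedCategory.singleFunctor (ModuleCat.{u} R) 0).map (ModuleCat.ofHom α) ≫ φ = 0) ↔ PExt (ModuleCat.ofHom α) e := by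
  constructor
  · intro h N x
    apply (Ext.homEquiv (C := ModuleCat.{u} R) (X := ModuleCat.of R M) (Y := N)
      (n := e + 1)).injective
    have h1 := h N (Ext.homEquiv (C := ModuleCat.{u} R) x)
    have h2 := Ext.singleFunctor_map_comp_hom (C := ModuleCat.{u} R) (ModuleCat.ofHom α) x
    exact h2.symm.trans (h1.trans (Ext.zero_hom _ _ _).symm)
  · intro h N _ _ φ
    obtain ⟨x, rfl⟩ := (Ext.homEquiv (C := ModuleCat.{u} R) (X := ModuleCat.of R M')
      (Y := ModuleCat.of R N) (n := e + 1)).surjective φ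
    have h2 := Ext.singleFunctor_map_comp_hom (C := ModuleCat.{u} R) (ModuleCat.ofHom α) x
    have h3 := h (ModuleCat.of R N) x
    rw [h3] at h2
    exact h2.trans (Ext.zero_hom _ _ _)


lemma ext_shift {R : Type u} [CommRing R] {S S' : ShortComplex (ModuleCat.{u} R)}
    (hS : S.ShortExact) (hS' : S'.ShortExact) (Φ : S ⟶ S') [Projective S.X₂] [Projective S'.X₂]
    (e : ℕ) : PExt Φ.τ₃ (e + 1) ↔ PExt Φ.τ₁ e := by
  have hnat := ShortComplex.ShortExact.extClass_naturality hS hS' Φ
  have hcomm : ∀ (N : ModuleCat.{u} R) (y : Ext.{u} S'.X₁ N (e + 1)),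
      (Ext.mk₀ Φ.τ₃).comp (hS'.extClass.comp y (show 1 + (e + 1) = e + 1 + 1 by omega))
        (zero_add _) = hS.extClass.comp ((Ext.mk₀ Φ.τ₁).comp y (zero_add _))
          (show 1 + (e + 1) = e + 1 + 1 by omega) := by
    intro N y
    have h1 : (Ext.mk₀ Φ.τ₃).comp (hS'.extClass.comp y (show 1 + (e + 1) = e + 1 + 1 by omega))
        (zero_add _) = ((Ext.mk₀ Φ.τ₃).comp hS'.extClass (zero_add 1)).comp y
          (show 1 + (e + 1) = e + 1 + 1 by omega) := by
      rw [Ext.comp_assoc]
      omega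
    have h2 : (hS.extClass.comp (Ext.mk₀ Φ.τ₁) (add_zero 1)).comp y
          (show 1 + (e + 1) = e + 1 + 1 by omega) =
        hS.extClass.comp ((Ext.mk₀ Φ.τ₁).comp y (zero_add _))
          (show 1 + (e + 1) = e + 1 + 1 by omega) := by
      rw [Ext.comp_assoc]
      omega
    rw [h1, ← hnat, h2]
  constructor
  · intro h N y
    have h1 := h N (hS'.extClass.comp y (show 1 + (e + 1) = e + 1 + 1 by omega))
    rw [hcomm] at h1
    obtain ⟨x₂, hx₂⟩ := Ext.contravariant_sequence_exact₁ hS N _ _ h1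
    rw [← hx₂, Ext.eq_zero_of_projective x₂, Ext.comp_zero]
  · intro h N x
    obtain ⟨y, hy⟩ := Ext.contravariant_sequence_exact₃ hS' N x
      (Ext.eq_zero_of_projective _) (show 1 + (e + 1) = e + 1 + 1 by omega)
    rw [← hy, hcomm, h N y, Ext.comp_zero]

lemma tor_shift {R : Type u} [CommRing R] {S S' : ShortComplex (ModuleCat.{u} R)}
    (hS : S.ShortExact) (hS' : S'.ShortExact) (Φ : S ⟶ S') [Projective S.X₂] [Projective S'.X₂]
    (e : ℕ) : PTor Φ.τ₃ (e + 1) ↔ PTor Φ.τ₁ e := by
  have hf : Module.Flat R S.X₂ := by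
    have : Module.Projective R S.X₂ := (IsProjective.iff_projective S.X₂).2 inferInstance
    infer_instance
  have hf' : Module.Flat R S'.X₂ := by
    have : Module.Projective R S'.X₂ := (IsProjective.iff_projective S'.X₂).2 inferInstance
    infer_instance
  have key : ∀ (N : ModuleCat.{u} R),
      ((CategoryTheory.Tor (ModuleCat.{u} R) (e + 2)).map Φ.τ₃).app N = 0 ↔
        ((CategoryTheory.Tor (ModuleCat.{u} R) (e + 1)).map Φ.τ₁).app N = 0 := by
    intro N
    have hnat := LoccohA.TorLES.torδ_naturality hS hS' Φ N (e + 1)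
    have hinj : Function.Injective (LoccohA.TorLES.torδ hS' N (e + 1)).hom := by
      rw [injective_iff_map_eq_zero]
      intro x hx
      obtain ⟨y, hy⟩ := (LoccohA.TorLES.exact_map_δ hS' N (e + 1) x).1 hx
      have := LoccohA.TorLES.subsingleton_tor_of_flat S'.X₂ N (e + 1)
      rw [← hy, Subsingleton.elim y 0, map_zero]
    have hsurj : Function.Surjective (LoccohA.TorLES.torδ hS N (e + 1)).hom := by
      intro x
      have := LoccohA.TorLES.subsingleton_tor_of_flat S.X₂ N e
      exact (LoccohA.TorLES.exact_δ_map hS N (e + 1) x).1 (Subsingleton.elim _ _)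
    have hmono : Mono (LoccohA.TorLES.torδ hS' N (e + 1)) := (ModuleCat.mono_iff_injective _).2 hinj
    have hepi : Epi (LoccohA.TorLES.torδ hS N (e + 1)) := (ModuleCat.epi_iff_surjective _).2 hsurj
    constructor
    · intro h
      rw [← cancel_epi (LoccohA.TorLES.torδ hS N (e + 1)), ← hnat, Limits.comp_zero]
      rw [show ((CategoryTheory.Tor (ModuleCat.{u} R) (e + 1 + 1)).map Φ.τ₃).app N = 0 from h]
      exact Limits.zero_comp
    · intro h
      rw [← cancel_mono (LoccohA.TorLES.torδ hS' N (e + 1)), Limits.zero_comp]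
      refine hnat.trans ?_
      rw [h, Limits.comp_zero]
  exact forall_congr' key

lemma ptor_of_pext_zero {R : Type u} [CommRing R] {M M' : ModuleCat.{u} R} (α : M ⟶ M')
    {S' : ShortComplex (ModuleCat.{u} R)} (hS' : S'.ShortExact) [Projective S'.X₂]
    (e : S'.X₃ = M') (h : PExt α 0) : PTor α 0 := by
  subst e
  have h1 := h S'.X₁ hS'.extClass
  obtain ⟨x₂, hx₂⟩ := Ext.covariant_sequence_exact₃ M hS' (Ext.mk₀ α) (zero_add 1) h1
  obtain ⟨g, rfl⟩ := Ext.homEquiv₀.symm.surjective x₂
  rw [Ext.homEquiv₀_symm_apply, Ext.mk₀_comp_mk₀] at hx₂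
  have hg : g ≫ S'.g = α := (Ext.mk₀_bijective _ _).1 hx₂
  intro N
  have hf' : Module.Flat R S'.X₂ := by
    have : Module.Projective R S'.X₂ := (IsProjective.iff_projective S'.X₂).2 inferInstance
    infer_instance
  rw [← hg, Functor.map_comp, NatTrans.comp_app]
  rw [(LoccohA.TorLES.isZero_tor_of_flat S'.X₂ N 0).eq_zero_of_tgt
    (((CategoryTheory.Tor (ModuleCat.{u} R) (0 + 1)).map g).app N), Limits.zero_comp]


lemma pext_of_ptor_zero {R : Type u} [CommRing R] (M M' : Type u) [AddCommGroup M] [Module R M]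
    [Module.FinitePresentation R M] [AddCommGroup M'] [Module R M'] (α : M →ₗ[R] M')
    (h : PTor (ModuleCat.ofHom α) 0) : PExt (ModuleCat.ofHom α) 0 := by
  obtain ⟨ι, g, g', hg⟩ := Groth.Agent.S1740.result R M M' α (fun N _ _ => h (ModuleCat.of R N))
  intro N x
  have hP : Projective (ModuleCat.of R (ι →₀ R)) :=
    (IsProjective.iff_projective (R := R) (ι →₀ R)).1 inferInstance
  have h1 : ModuleCat.ofHom α = ModuleCat.ofHom g ≫ ModuleCat.ofHom g' := by
    rw [hg]; rfl
  rw [h1, ← Ext.mk₀_comp_mk₀_assoc, Ext.eq_zero_of_projective ((Ext.mk₀ (ModuleCat.ofHom g')).comp x _),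
    Ext.comp_zero]

/-- Morphism of presentations. -/
noncomputable def mkHom {R : Type u} [CommRing R] {M M' P₀ F : Type u} [AddCommGroup M] [Module R M]
    [AddCommGroup M'] [Module R M'] [AddCommGroup P₀] [Module R P₀] [AddCommGroup F] [Module R F]
    (α : M →ₗ[R] M') (f : P₀ →ₗ[R] M)
    (π' : F →ₗ[R] M') (φ : P₀ →ₗ[R] F) (hφ : π' ∘ₗ φ = α ∘ₗ f)
    (κ : LinearMap.ker f →ₗ[R] LinearMap.ker π')
    (hκ : ∀ x : LinearMap.ker f, (κ x : F) = φ x) :
    ShortComplex.mk (ModuleCat.ofHom (LinearMap.ker f).subtype) (ModuleCat.ofHom f)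
      (by ext x; exact x.2) ⟶
      ShortComplex.mk (ModuleCat.ofHom (LinearMap.ker π').subtype) (ModuleCat.ofHom π')
      (by ext x; exact x.2) where
  τ₁ := ModuleCat.ofHom κ
  τ₂ := ModuleCat.ofHom φ
  τ₃ := ModuleCat.ofHom α
  comm₁₂ := by ext x; exact hκ x
  comm₂₃ := by ext x; exact LinearMap.congr_fun hφ x

theorem main (R : Type u) [CommRing R] [IsNoetherianRing R] (e : ℕ) :
    ∀ (M M' : Type u) [AddCommGroup M] [Module R M] [Module.Finite R M] [AddCommGroup M']
      [Module R M'] (α : M →ₗ[R] M'), PExt (ModuleCat.ofHom α) e ↔ PTor (ModuleCat.ofHom α) e := by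
  induction e with
  | zero =>
    intro M M' _ _ _ _ _ α
    have : Module.FinitePresentation R M := Module.finitePresentation_of_finite R M
    refine ⟨fun h => ?_, pext_of_ptor_zero M M' α⟩
    have hπ' : Function.Surjective (Finsupp.linearCombination R (id : M' → M')) :=
      Finsupp.linearCombination_id_surjective R M'
    have hP : Projective (ModuleCat.of R (M' →₀ R)) :=
      (IsProjective.iff_projective (R := R) (M' →₀ R)).1 inferInstance
    exact ptor_of_pext_zero (ModuleCat.ofHom α) (shortExact_of_surj _ hπ') rfl h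
  | succ e ih =>
    intro M M' _ _ _ _ _ α
    obtain ⟨n, f, hf⟩ := Module.Finite.exists_fin' R M
    have hπ' : Function.Surjective (Finsupp.linearCombination R (id : M' → M')) :=
      Finsupp.linearCombination_id_surjective R M'
    obtain ⟨φ, hφ⟩ := Module.projective_lifting_property _ (α ∘ₗ f) hπ'
    have hκ0 : ∀ x : LinearMap.ker f, (φ ∘ₗ (LinearMap.ker f).subtype) x ∈
        LinearMap.ker (Finsupp.linearCombination R (id : M' → M')) := fun x => by
      have := LinearMap.congr_fun hφ x.1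
      simp only [LinearMap.comp_apply] at this
      rw [LinearMap.mem_ker, LinearMap.comp_apply, Submodule.subtype_apply, this,
        show f x.1 = 0 from x.2, map_zero]
    have hP : Projective (ModuleCat.of R (M' →₀ R)) :=
      (IsProjective.iff_projective (R := R) (M' →₀ R)).1 inferInstance
    have hP' : Projective (ModuleCat.of R (Fin n → R)) :=
      (IsProjective.iff_projective (R := R) (Fin n → R)).1 inferInstance
    have hS := shortExact_of_surj f hf
    have hS' := shortExact_of_surj _ hπ'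
    let Φ := mkHom α f (Finsupp.linearCombination R (id : M' → M')) φ hφ
      ((φ ∘ₗ (LinearMap.ker f).subtype).codRestrict _ hκ0) (fun x => rfl)
    have h1 := ext_shift hS hS' Φ e
    have h2 := tor_shift hS hS' Φ e
    exact h1.trans ((ih _ _ _).trans h2.symm)

/-- Stacks Tag 0G9V, equivalence of (4) and (7) in the Noetherian case.  Let R be a Noetherian ring, α : M → M' a map of R-modules with M finite, and e ≥ 0.  Then precomposition with α kills all classes in Ext^{e+1}(M', N) (maps M' → N[e+1] in D(R)) for every module N if and only if the map Tor_{e+1}(M, N) → Tor_{e+1}(M', N) induced by α is zero for every module N. -/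
theorem result (R : Type u) [CommRing R] [IsNoetherianRing R] (M M' : Type u) [AddCommGroup M] [Module R M] [Module.Finite R M] [AddCommGroup M'] [Module R M'] (α : M →ₗ[R] M') (e : ℕ) : (∀ (N : Type u) [AddCommGroup N] [Module R N] (φ : Dual.inD R M' ⟶ (Dual.inD R N)⟦((e : ℤ) + 1)⟧), (DerivedCategory.singleFunctor (ModuleCat.{u} R) 0).map (ModuleCat.ofHom α) ≫ φ = 0) ↔ (∀ (N : Type u) [AddCommGroup N] [Module R N], ((CategoryTheory.Tor (ModuleCat.{u} R) (e + 1)).map (ModuleCat.ofHom α)).app (ModuleCat.of R N) = 0) := by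
  rw [pext_of_D, main]
  exact ⟨fun h N _ _ => h (ModuleCat.of R N), fun h N => h N⟩

end Groth.Agent.S1741
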