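import Groth.Statements.S1742
-- import your own Groth.Agent.* helpers here
import Groth.Agent.LoccohA.DepthSpread

set_option autoImplicit false
universe u
open LocCoh

namespace Groth.Agent.S1742

/-- Stacks Tag 0DWX.  Let A be a Noetherian ring, I an ideal, M a finite A-module and p a prime containing I such that the IA_p-depth of M_p is a finite number e.  Then there is an open subset U of Spec A meeting V(p) such that the IA_q-depth of M_q is at least e for every q in U ∩ V(p). -/
theorem result (A : Type u) [CommRing A] [IsNoetherianRing A] (I : Ideal A) (M : Type u) [AddCommGroup M] [Module A M] [Module.Finite A M] (p : PrimeSpectrum A) (hp : I ≤ p.asIdeal) (e : ℕ) (he : LocCoh.idealDepth (I.map (algebraMap A (Localization.AtPrime p.asIdeal))) (LocalizedModule p.asIdeal.primeCompl M) = e) : ∃ U : Set (PrimeSpectrum A), IsOpen U ∧ (U ∩ PrimeSpectrum.zeroLocus (p.asIdeal : Set A)).Nonempty ∧ ∀ q : PrimeSpectrum A, q ∈ U → p ≤ q → (e : ℕ∞) ≤ LocCoh.idealDepth (I.map (algebraMap A (Localization.AtPrime q.asIdeal))) (LocalizedModule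 q.asIdeal.primeCompl M) := by
  have hne := Groth.Agent.LoccohA.DepthSpread.smul_top_ne_top_of_idealDepth_ne_top
    (he.trans_ne (ENat.coe_ne_top e))
  obtain ⟨rs, hreg, hrsI, hlen⟩ :=
    Groth.Agent.LoccohA.DepthSpread.exists_isWeaklyRegular_of_le_idealDepth hne he.ge
  obtain ⟨as, hasI, hassoc⟩ :=
    Groth.Agent.LoccohA.DepthSpread.exists_list_associated p.asIdeal.primeCompl I rs hrsI
  have h1 := Groth.Agent.LoccohA.DepthSpread.isWeaklyRegular_of_associated hassoc hreg
  rw [RingTheory.Sequence.isWeaklyRegular_map_algebraMap_iff] at h1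
  obtain ⟨f, hfp, hf⟩ :=
    Groth.Agent.LoccohA.DepthSpread.exists_notMem_isWeaklyRegular p as M h1
  refine ⟨PrimeSpectrum.basicOpen f, (PrimeSpectrum.basicOpen f).isOpen, ⟨p, hfp, ?_⟩, ?_⟩
  · exact fun x hx => hx
  · intro q hq _
    have h2 := hf q hq
    rw [← RingTheory.Sequence.isWeaklyRegular_map_algebraMap_iff
      (S := Localization.AtPrime q.asIdeal)] at h2
    have h3 := Groth.Agent.LoccohA.DepthSpread.length_le_idealDepth
      (I := I.map (algebraMap A (Localization.AtPrime q.asIdeal))) h2 (by
        intro r hr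
        obtain ⟨a, ha, rfl⟩ := List.mem_map.1 hr
        exact Ideal.mem_map_of_mem _ (hasI a ha))
    refine le_trans ?_ h3
    have hl := hassoc.length_eq
    rw [List.length_map] at hl ⊢
    rw [← hl]
    exact_mod_cast hlen

end Groth.Agent.S1742
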