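import Groth.Statements.S1743
import Groth.Agent.LoccohA.LCLinear
import Mathlib.Algebra.Module.FinitePresentation
import Mathlib.RingTheory.Noetherian.Basic
-- import your own Groth.Agent.* helpers here

set_option autoImplicit false
universe u
open LocCoh

namespace Groth.Agent.S1743

section Helpers

open CategoryTheory

/-- A finite module which becomes projective after inverting `f` is, up to a power of `f`, a retract of a
finite free module. -/
theorem exists_section (A : Type u) [CommRing A] [IsNoetherianRing A] (M : Type u) [AddCommGroup M]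
    [Module A M] [Module.Finite A M] (r : ℕ) (π : (Fin r → A) →ₗ[A] M)
    (hπ : Function.Surjective π) (f : A)
    (hM : Module.Projective (Localization.Away f) (LocalizedModule (Submonoid.powers f) M)) :
    ∃ (N : ℕ) (s : M →ₗ[A] (Fin r → A)), π.comp s = f ^ N • LinearMap.id := by
  let S := Submonoid.powers f
  have hfp : Module.FinitePresentation A M := Module.finitePresentation_of_finite A M
  let gM : M →ₗ[A] LocalizedModule S M := LocalizedModule.mkLinearMap S M
  let gF : (Fin r → A) →ₗ[A] LocalizedModule S (Fin r → A) := LocalizedModule.mkLinearMap S _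
  let πS : LocalizedModule S (Fin r → A) →ₗ[Localization S] LocalizedModule S M :=
    LocalizedModule.map S π
  have hπS : Function.Surjective πS := LocalizedModule.map_surjective S π hπ
  obtain ⟨σ, hσ⟩ := Module.projective_lifting_property πS LinearMap.id hπS
  obtain ⟨h, s, hs⟩ := Module.FinitePresentation.exists_lift_of_isLocalizedModule S gF
    ((σ.restrictScalars A).comp gM)
  have h1 : gM.comp (π.comp h) = gM.comp (s • LinearMap.id) := by
    ext m
    have h2 : gF (h m) = s • σ (gM m) := LinearMap.congr_fun hs m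
    have h3 : πS (gF (h m)) = gM (π (h m)) := by
      simp [πS, gF, gM]
    have h4 : πS (σ (gM m)) = gM m := LinearMap.congr_fun hσ (gM m)
    simp only [LinearMap.comp_apply, LinearMap.smul_apply, LinearMap.id_apply]
    rw [← h3, h2]
    have h5 : πS (s • σ (gM m)) = s • πS (σ (gM m)) :=
      LinearMap.map_smul_of_tower (πS.restrictScalars A) (s : A) _
    rw [h5, h4]
    exact (LinearMap.map_smul gM (s : A) m).symm
  obtain ⟨t, ht⟩ := Module.Finite.exists_smul_of_comp_eq_of_isLocalizedModule S gM _ _ h1
  obtain ⟨N, hN⟩ := (t * s).2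
  refine ⟨N, (t : A) • h, ?_⟩
  have hN' : f ^ N = (t : A) * (s : A) := hN
  rw [hN']
  ext m
  have h2 : (t : A) • π (h m) = (t : A) • (s : A) • m := LinearMap.congr_fun ht m
  simp only [LinearMap.comp_apply, LinearMap.smul_apply, map_smul, LinearMap.id_apply, h2,
    mul_smul]

/-- An element that kills `H^i_I(A)` kills `H^i_I` of a finite free module. -/
theorem smul_H_free (A : Type u) [CommRing A] (I : Ideal A) (i : ℕ) (r : ℕ) (a : A)
    (ha : ∀ x : LocCoh.H I i A, a • x = 0) (x : LocCoh.H I i (Fin r → A)) : a • x = 0 := by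
  let ι : ∀ j : Fin r, ModuleCat.of A A ⟶ ModuleCat.of A (Fin r → A) :=
    fun j => ModuleCat.ofHom (LinearMap.single A (fun _ => A) j)
  let p : ∀ j : Fin r, ModuleCat.of A (Fin r → A) ⟶ ModuleCat.of A A :=
    fun j => ModuleCat.ofHom (LinearMap.proj j)
  have hid : 𝟙 (ModuleCat.of A (Fin r → A)) = ∑ j, p j ≫ ι j := by
    ext x : 2
    simp only [ModuleCat.hom_id, ModuleCat.hom_sum, ModuleCat.hom_comp]
    ext k
    simp [p, ι, LinearMap.single_apply, Pi.single_apply]
  have h1 : x = ∑ j, (localCohomology I i).map (ι j) ((localCohomology I i).map (p j) x) := by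
    have h2 : (localCohomology I i).map (𝟙 (ModuleCat.of A (Fin r → A))) x = x := by
      rw [CategoryTheory.Functor.map_id]
      rfl
    have h3 : (localCohomology I i).map (𝟙 (ModuleCat.of A (Fin r → A))) =
        ∑ j, (localCohomology I i).map (p j) ≫ (localCohomology I i).map (ι j) := by
      rw [hid, Functor.map_sum]
      simp only [Functor.map_comp]
    have h4 := congrArg ModuleCat.Hom.hom h3
    rw [ModuleCat.hom_sum] at h4
    have h5 := LinearMap.congr_fun h4 x
    rw [LinearMap.sum_apply] at h5
    exact h2.symm.trans h5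
  rw [h1, Finset.smul_sum]
  apply Finset.sum_eq_zero
  intro j _
  rw [← map_smul, ha, map_zero]


theorem main (A : Type u) [CommRing A] [IsNoetherianRing A] (J I : Ideal A) (hJI : J ≤ I) (i n : ℕ) (hA : ∀ a ∈ J ^ n, ∀ x : LocCoh.H I i A, a • x = 0) (M : Type u) [AddCommGroup M] [Module A M] [Module.Finite A M] (hM : ∀ f ∈ I, Module.Projective (Localization.Away f) (LocalizedModule (Submonoid.powers f) M)) : ∃ m : ℕ, ∀ a ∈ J ^ m, ∀ x : LocCoh.H I i M, a • x = 0 := by
  obtain ⟨r, π, hπ⟩ := Module.Finite.exists_fin' A M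
  let 𝔞 : Ideal A := Module.annihilator A (LocCoh.H I i M)
  let 𝔟 : Ideal A := 𝔞.colon (J ^ n : Ideal A)
  have h1 : I ≤ 𝔟.radical := by
    intro f hf
    obtain ⟨N, s, hs⟩ := exists_section A M r π hπ f (hM f hf)
    refine ⟨N, ?_⟩
    rw [Submodule.mem_colon]
    intro b hb
    rw [smul_eq_mul, Module.mem_annihilator]
    intro x
    have h2 : (localCohomology I i).map (ModuleCat.ofHom π)
        ((localCohomology I i).map (ModuleCat.ofHom s) x) = f ^ N • x := by
      rw [← ModuleCat.comp_apply, ← Functor.map_comp, ← ModuleCat.ofHom_comp, hs]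
      have := Groth.Agent.LoccohA.LCLinear.localCohomology_map_smul_id I i (ModuleCat.of A M)
        (f ^ N)
      exact congrArg (fun φ => ModuleCat.Hom.hom φ x) this
    rw [mul_comm, mul_smul, ← h2, ← map_smul, smul_H_free A I i r b (fun x => hA b hb x), map_zero]
  have h2 : J ≤ 𝔟.radical := hJI.trans h1
  obtain ⟨m, hm⟩ := Ideal.exists_pow_le_of_le_radical_of_fg h2 (IsNoetherian.noetherian J)
  refine ⟨m + n, ?_⟩
  intro a ha x
  rw [pow_add] at ha
  have h3 : J ^ m * J ^ n ≤ 𝔞 := by
    rw [Ideal.mul_le]
    intro b hb c hc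
    exact Submodule.mem_colon.mp (hm hb) c hc
  exact Module.mem_annihilator.mp (h3 ha) x

end Helpers

/-- Stacks Tag 0BPX, for Noetherian rings.  Let A be a Noetherian ring, J ⊆ I ideals and i ≥ 0.  If H^i_I(A) is annihilated by J^n for some n, then for every finite A-module M such that M_f is a projective A_f-module for every f in I, the module H^i_I(M) is annihilated by J^m for some m.  (The source allows any ring with finitely generated ideals and finitely presented M.) -/
theorem result (A : Type u) [CommRing A] [IsNoetherianRing A] (J I : Ideal A) (hJI : J ≤ I) (i n : ℕ) (hA : ∀ a ∈ J ^ n, ∀ x : LocCoh.H I i A, a • x = 0) (M : Type u) [AddCommGroup M] [Module A M] [Module.Finite A M] (hM : ∀ f ∈ I, Module.Projective (Localization.Away f) (LocalizedModule (Submonoid.powers f) M)) : ∃ m : ℕ, ∀ a ∈ J ^ m, ∀ x : LocCoh.H I i M, a • x = 0 :=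
  main A J I hJI i n hA M hM

end Groth.Agent.S1743
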