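import Groth.Statements.S1744
import Groth.Agent.LoccohA.LCTComp
import Groth.Agent.CycA.TorShift

set_option autoImplicit false
universe u
open CategoryTheory
attribute [local instance] HasDerivedCategory.standard
open LocCoh

namespace Groth.Agent.S1744

open CategoryTheory.Abelian

/-- universal classes -/
theorem univ {A : Type u} [CommRing A] (X : ModuleCat.{u} A) (k : ℕ) :
    ∃ (K : ModuleCat.{u} A) (ξ : Ext.{u} X K k), ∀ (N : ModuleCat.{u} A) (j i : ℕ)
      (hi : k + j = i) (x : Ext.{u} X N i), ∃ y : Ext.{u} K N j, ξ.comp y hi = x := by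
  induction k with
  | zero =>
    refine ⟨X, Ext.mk₀ (𝟙 X), fun N j i hi x => ?_⟩
    obtain rfl : j = i := by omega
    exact ⟨x, Ext.mk₀_id_comp x⟩
  | succ k ih =>
    obtain ⟨K, ξ, h⟩ := ih
    obtain ⟨K', P, _, _, _, _, f, g, _, hf, hfg, hg⟩ :=
      Groth.Agent.CycA.TorShift.exists_free_cover (A := A) K
    have hS := Groth.Agent.CycA.TorBasic.sc_shortExact f g hf hfg hg
    have hP : Projective (ModuleCat.of A P) := (IsProjective.iff_projective (R := A) P).1
      inferInstance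
    refine ⟨ModuleCat.of A K', ξ.comp hS.extClass rfl, fun N j i hi x => ?_⟩
    obtain ⟨y', hy'⟩ := h N (j + 1) i (by omega) x
    obtain ⟨y, hy⟩ := Ext.contravariant_sequence_exact₃ hS N y'
      (Ext.eq_zero_of_projective (P := ModuleCat.of A P) _) (show 1 + j = j + 1 by omega)
    refine ⟨y, ?_⟩
    rw [← hy', ← hy]
    exact Ext.comp_assoc _ _ _ _ _ (by omega)

/-- Stacks Tag 0EH1, in the form of condition (3) of Tag 0G9V.  Let I be an ideal of a Noetherian ring A and e an integer with cd(A, I) ≤ e.  For every n ≥ 1 there is m > n such that for every A-module N and every i > e, precomposing with A/I^m → A/I^n kills every map A/I^n → N[i] in D(A). -/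
theorem result (A : Type u) [CommRing A] [IsNoetherianRing A] (I : Ideal A) (e : ℕ) (he : LocCoh.CdLE A I e) (n : ℕ) (hn : 1 ≤ n) : ∃ (m : ℕ) (hm : n < m), ∀ (N : Type u) [AddCommGroup N] [Module A N] (i : ℕ), e < i → ∀ φ : Dual.inD A (A ⧸ I ^ n) ⟶ (Dual.inD A N)⟦(i : ℤ)⟧, (DerivedCategory.singleFunctor (ModuleCat.{u} A) 0).map (ModuleCat.ofHom (Submodule.mapQ (I ^ m) (I ^ n) LinearMap.id (Ideal.pow_le_pow_right (Nat.le_of_lt hm)))) ≫ φ = 0 := by
  obtain ⟨K, ξ, hξ⟩ := univ (ModuleCat.of A (A ⧸ I ^ n)) (e + 1)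
  have hsub : Subsingleton (LocCoh.H I (e + 1) K) := he K (e + 1) (by omega)
  have hsub' : Subsingleton (Dual2.HDI A I (Dual.inD A K) ((e + 1 : ℕ) : ℤ)) :=
    (LoccohA.LCTComp.Hequiv I (e + 1) K).symm.toEquiv.subsingleton
  obtain ⟨m, hm, h⟩ := LoccohA.LCTComp.iι_eq_zero (I := I) (i := ((e + 1 : ℕ) : ℤ))
    (K := Dual.inD A K) (n := n) (x := ξ.hom) (Subsingleton.elim _ _)
  refine ⟨m + 1, by omega, fun N _ _ i hi φ => ?_⟩
  obtain ⟨x, rfl⟩ := (Ext.homEquiv (C := ModuleCat.{u} A) (X := ModuleCat.of A (A ⧸ I ^ n))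
      (Y := ModuleCat.of A N) (n := i)).surjective φ
  obtain ⟨y, hy⟩ := hξ (ModuleCat.of A N) (i - (e + 1)) i (by omega) x
  let p1 : ModuleCat.of A (A ⧸ I ^ (m + 1)) ⟶ ModuleCat.of A (A ⧸ I ^ n) :=
    ModuleCat.ofHom (Submodule.mapQ (I ^ (m + 1)) (I ^ n) LinearMap.id
      (Ideal.pow_le_pow_right (by omega)))
  let p2 : ModuleCat.of A (A ⧸ I ^ (m + 1)) ⟶ ModuleCat.of A (A ⧸ I ^ m) :=
    ModuleCat.ofHom (Submodule.mapQ (I ^ (m + 1)) (I ^ m) LinearMap.id
      (Ideal.pow_le_pow_right (by omega)))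
  have hp : p1 = p2 ≫ LoccohA.LCTBase.pr (Ideal.pow_le_pow_right hm) := by
    apply ModuleCat.hom_ext
    apply Submodule.linearMap_qext
    rfl
  have h1 : (Ext.mk₀ p1).comp ξ (zero_add _) = 0 := by
    apply Ext.homEquiv.injective
    refine (Ext.singleFunctor_map_comp_hom (C := ModuleCat.{u} A) p1 ξ).symm.trans ?_
    rw [hp, Functor.map_comp, Category.assoc, h, Limits.comp_zero]
    exact (Ext.zero_hom _ _ _).symm
  have h2 := Ext.singleFunctor_map_comp_hom (C := ModuleCat.{u} A) p1 x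
  refine h2.trans ?_
  have h3 : (Ext.mk₀ p1).comp x (zero_add _) = 0 := by
    rw [← hy]
    have := Ext.comp_assoc (Ext.mk₀ p1) ξ y (zero_add _) (show e + 1 + (i - (e + 1)) = i by omega)
      (show 0 + (e + 1) + (i - (e + 1)) = i by omega)
    rw [← this, h1, Ext.zero_comp]
  rw [h3]
  exact Ext.zero_hom _ _ _

end Groth.Agent.S1744
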