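import Groth.Statements.S1745
import Groth.Agent.LoccohA.InjCrit
import Mathlib.Algebra.Module.FinitePresentation
import Mathlib.RingTheory.Localization.AtPrime.Basic

set_option autoImplicit false
universe u
open scoped TensorProduct
open InjHull

namespace Groth.Agent.S1745

open Groth.Agent.LoccohA.InjCrit

theorem exists_mul_mem {B : Type u} [CommRing B] [IsNoetherianRing B] (J q : Ideal B) [q.IsPrime]
    (h : J.map (algebraMap B (Localization.AtPrime q)) =
      IsLocalRing.maximalIdeal (Localization.AtPrime q)) :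
    ∃ f, f ∉ q ∧ ∀ x ∈ q, f * x ∈ J := by
  have key : ∀ x ∈ q, ∃ f, f ∉ q ∧ f * x ∈ J := by
    intro x hx
    have h1 : algebraMap B (Localization.AtPrime q) x ∈ J.map (algebraMap B (Localization.AtPrime q)) := by
      rw [h, ← Localization.AtPrime.map_eq_maximalIdeal]
      exact Ideal.mem_map_of_mem _ hx
    obtain ⟨s, hs, hsx⟩ := (IsLocalization.algebraMap_mem_map_algebraMap_iff q.primeCompl _ J x).mp h1
    exact ⟨s, hs, hsx⟩
  obtain ⟨S, hS⟩ := (isNoetherianRing_iff_ideal_fg B).mp inferInstance q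
  have key' : ∀ x ∈ S, ∃ f, f ∉ q ∧ f * x ∈ J := fun x hx => key x (hS ▸ Ideal.subset_span hx)
  choose! c hc hcJ using key'
  refine ⟨∏ a ∈ S, c a, ?_, ?_⟩
  · intro hmem
    rw [Ideal.IsPrime.prod_mem_iff] at hmem
    obtain ⟨a, ha, hmem⟩ := hmem
    exact hc a ha hmem
  · intro a ha
    rw [← hS] at ha
    induction ha using Submodule.span_induction with
    | mem a ha =>
      obtain ⟨d, hd⟩ := Finset.dvd_prod_of_mem c ha
      rw [hd, mul_assoc, mul_comm d a, ← mul_assoc]
      exact J.mul_mem_right _ (hcJ a ha)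
    | zero => simp
    | add x y _ _ hx hy =>
      rw [mul_add]
      exact J.add_mem hx hy
    | smul b x _ hx =>
      rw [smul_eq_mul, ← mul_assoc, mul_comm _ b, mul_assoc]
      exact J.mul_mem_left _ hx

/-- Linear maps from an extended ideal `𝔞 B` to `B ⊗ I` extend to `B`, when `I` is injective. -/
theorem good_map {A B : Type u} [CommRing A] [CommRing B] [Algebra A B] [IsNoetherianRing A]
    [Module.Flat A B] {I : Type u} [AddCommGroup I] [Module A I] [hI : Module.Injective A I]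
    (𝔞 : Ideal A) : Good (B ⊗[A] I) (𝔞.map (algebraMap A B)) := by
  intro φ
  -- the surjection `B ⊗ 𝔞 → 𝔞 B`
  let μ₀ : 𝔞 →ₗ[A] (𝔞.map (algebraMap A B)).restrictScalars A :=
    { toFun := fun a => ⟨algebraMap A B a, Ideal.mem_map_of_mem _ a.2⟩
      map_add' := fun x y => Subtype.ext (by simp)
      map_smul' := fun r x => Subtype.ext (by simp [Algebra.smul_def]) }
  let μ : 𝔞 →ₗ[A] (𝔞.map (algebraMap A B)) := μ₀
  let φ' : B ⊗[A] 𝔞 →ₗ[B] B ⊗[A] I := φ.comp (μ.liftBaseChange B)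
  have hφ' : ∀ (b : B) (a : A) (ha : a ∈ 𝔞), φ' (b ⊗ₜ ⟨a, ha⟩) = b • φ (μ ⟨a, ha⟩) := by
    intro b a ha
    simp [φ']
  have : Module.Finite A 𝔞 := inferInstance
  have : Module.FinitePresentation A 𝔞 := Module.finitePresentation_of_finite A 𝔞
  have hbc := Module.FinitePresentation.isBaseChange_map A 𝔞 I B
  -- every `B`-linear map out of `B ⊗ 𝔞` extends to `B ⊗ A`
  have hext : ∀ χ : B ⊗[A] 𝔞 →ₗ[B] B ⊗[A] I, ∃ χ' : B ⊗[A] A →ₗ[B] B ⊗[A] I,
      ∀ (b : B) (a : A) (ha : a ∈ 𝔞), χ' (b ⊗ₜ a) = χ (b ⊗ₜ ⟨a, ha⟩) := by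
    intro χ
    refine hbc.inductionOn χ (fun χ => ∃ χ' : B ⊗[A] A →ₗ[B] B ⊗[A] I,
      ∀ (b : B) (a : A) (ha : a ∈ 𝔞), χ' (b ⊗ₜ a) = χ (b ⊗ₜ ⟨a, ha⟩)) ?_ ?_ ?_ ?_
    · exact ⟨0, fun _ _ _ => by simp⟩
    · intro g
      obtain ⟨G, hG⟩ := good_of_injective hI 𝔞 g
      refine ⟨G.baseChange B, fun b a ha => ?_⟩
      simp [LinearMap.baseChange_tmul, hG a ha]
    · rintro s χ ⟨χ', hχ'⟩
      exact ⟨s • χ', fun b a ha => by rw [LinearMap.smul_apply, hχ' b a ha, LinearMap.smul_apply]⟩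
    · rintro χ₁ χ₂ ⟨χ₁', h₁⟩ ⟨χ₂', h₂⟩
      exact ⟨χ₁' + χ₂', fun b a ha => by
        rw [LinearMap.add_apply, h₁ b a ha, h₂ b a ha, LinearMap.add_apply]⟩
  obtain ⟨χ', hχ'⟩ := hext φ'
  refine ⟨χ'.comp ((TensorProduct.AlgebraTensorModule.mk A B B A).flip 1), fun x hx => ?_⟩
  induction hx using Submodule.span_induction with
  | mem x hx =>
    obtain ⟨a, ha, rfl⟩ := hx
    have h1 := hχ' 1 a ha
    rw [hφ', one_smul] at h1
    have h2 : (1 : B) ⊗ₜ[A] a = (algebraMap A B a) ⊗ₜ[A] (1 : A) := by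
      rw [← mul_one a, ← smul_eq_mul, ← TensorProduct.smul_tmul, Algebra.smul_def, mul_one, smul_eq_mul, mul_one]
    rw [h2] at h1
    exact h1
  | zero =>
    rw [map_zero]
    symm
    exact map_zero φ
  | add x y hx hy ihx ihy =>
    rw [map_add, ihx, ihy, ← map_add]
    rfl
  | smul b x hx ih =>
    rw [map_smul, ih, ← map_smul]
    rfl

/-- Stacks Tag 0E4F.  Let A → B be a flat homomorphism of Noetherian rings such that for every prime q of B with contraction p, the ideal p B_q equals the maximal ideal q B_q of B_q (for instance an étale map).  Then for every injective A-module I the B-module B ⊗_A I is injective. -/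
theorem result (A B : Type u) [CommRing A] [CommRing B] [Algebra A B] [IsNoetherianRing A] [IsNoetherianRing B] [Module.Flat A B] (h : ∀ q : PrimeSpectrum B, Ideal.map (algebraMap B (Localization.AtPrime q.asIdeal)) ((q.asIdeal.comap (algebraMap A B)).map (algebraMap A B)) = IsLocalRing.maximalIdeal (Localization.AtPrime q.asIdeal)) (I : Type u) [AddCommGroup I] [Module A I] [Module.Injective A I] : Module.Injective B (B ⊗[A] I) := by
  apply injective_of_forall_prime
  intro q hq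
  refine ⟨(q.comap (algebraMap A B)).map (algebraMap A B), Ideal.map_comap_le, ?_, good_map _⟩
  have h1 := h ⟨q, hq⟩
  exact exists_mul_mem _ q h1

end Groth.Agent.S1745
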