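import Groth.Statements.S1746
import Groth.Agent.LoccohA.ExtFin

set_option autoImplicit false
universe u
open CategoryTheory
attribute [local instance] HasDerivedCategory.standard
open Dual

namespace Groth.Agent.S1746

/-- Stacks Tag 0G4H.  Let A be a Noetherian ring and K, L objects of D(A) all of whose cohomology modules are finite A-modules, with L of finite injective dimension.  Then for every integer i the A-module of maps K → L[i] in D(A) (the i-th cohomology of RHom(K, L)) is a finite A-module. -/
theorem result (A : Type u) [CommRing A] [IsNoetherianRing A] (K L : Dual.D A) (hK : ∀ i : ℤ, Module.Finite A (Dual.HD A K i)) (hL : ∀ i : ℤ, Module.Finite A (Dual.HD A L i)) (hLi : DRing.HasFiniteInjDim A L) (i : ℤ) : Module.Finite A (K ⟶ L⟦i⟧) := by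
  have h := LoccohA.ExtFin.isNoetherian_hom_shift K L (fun j => by
      have := hK j
      infer_instance) (fun j => by
      have := hL j
      infer_instance) hLi i
  infer_instance

end Groth.Agent.S1746
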