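import Groth.Statements.S1748
import Groth.Agent.LoccohA.InjPoly
import Groth.Agent.LoccohA.InjAmpTriangle
import Mathlib.Algebra.Homology.ShortComplex.ModuleCat

set_option autoImplicit false
universe u
open CategoryTheory
open scoped TensorProduct Polynomial
attribute [local instance] HasDerivedCategory.standard
open InjHull

namespace Groth.Agent.S1748

/-- Stacks Tag 0A6J.  Let A be a Noetherian ring and E an injective A-module.  Then A[x] ⊗_A E, as an object of D(A[x]) in degree 0, has injective amplitude in [0, 1]: it is quasi-isomorphic to a complex of injective A[x]-modules concentrated in degrees 0 and 1.  In particular it has finite injective dimension. -/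
theorem result (A : Type u) [CommRing A] [IsNoetherianRing A] (E : Type u) [AddCommGroup E] [Module A E] [Module.Injective A E] : DRing.HasInjAmplitudeIn A[X] 0 1 (Dual.inD A[X] (A[X] ⊗[A] E)) := by
  let M := A[X] ⊗[A] E
  have hM : Module.Injective A M := Groth.Agent.LoccohA.InjPoly.injective_tensorProduct_free A[X] E
  have hS := Groth.Agent.LoccohA.InjPoly.seq_injective (A := A) M
  let f : ModuleCat.of A[X] M ⟶ ModuleCat.of A[X] (Groth.Agent.LoccohA.InjPoly.Seq A M) :=
    ModuleCat.ofHom (Groth.Agent.LoccohA.InjPoly.seqι (A := A) M)
  let g : ModuleCat.of A[X] (Groth.Agent.LoccohA.InjPoly.Seq A M) ⟶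
      ModuleCat.of A[X] (Groth.Agent.LoccohA.InjPoly.Seq A M) :=
    ModuleCat.ofHom (Groth.Agent.LoccohA.InjPoly.seqδ (A := A) M)
  have hex : Function.Exact f g := Groth.Agent.LoccohA.InjPoly.seq_exact (A := A) M
  let S : ShortComplex (ModuleCat.{u} A[X]) := ShortComplex.mk f g (by
    refine ModuleCat.hom_ext (LinearMap.ext fun x => ?_)
    exact hex.apply_apply_eq_zero x)
  have hSE : S.ShortExact := ModuleCat.shortComplex_shortExact S hex
    (Groth.Agent.LoccohA.InjPoly.seqι_injective (A := A) M)
    (Groth.Agent.LoccohA.InjPoly.seqδ_surjective (A := A) M)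
  have h2 : CategoryTheory.Injective S.X₂ := Module.injective_object_of_injective_module A[X] _
  have h3 : CategoryTheory.Injective S.X₃ := Module.injective_object_of_injective_module A[X] _
  exact Groth.Agent.LoccohA.InjAmpTriangle.hasInjAmplitudeIn_of_shortExact A[X] S hSE

end Groth.Agent.S1748
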