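import Groth.Statements.S1749
import Groth.Agent.LoccohB.LocDualHull
import Groth.Agent.S0362

set_option autoImplicit false
universe u
open CategoryTheory
attribute [local instance] HasDerivedCategory.standard
open Dual

namespace Groth.Agent.S1749

open Groth.Agent.LoccohB.LocDualHull Groth.Agent.LoccohB.LocDualElt Groth.Agent.LoccohB.LocDualLoc
  Groth.Agent.LoccohB.LocDualDev Groth.Agent.LoccohB.LocDualBaer

/-- Stacks Tag 0A7Q.  Let A be a Noetherian local ring with a normalized dualizing complex ω and κ → E an injective hull of the residue field.  For every A-module N of finite length, the maps N → ω[i] in D(A) vanish for i ≠ 0, and the A-module of maps N → ω is isomorphic to Hom_A(N, E).  (The source gives this functorially in N; here only the existence of the isomorphism for each N is asserted.) -/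
theorem result (A : Type u) [CommRing A] [IsLocalRing A] [IsNoetherianRing A] (ω : Dual.D A) (hω : Dual.IsDualizing A ω) (hn : Dual.IsNormalized A ω) (E : Type u) [AddCommGroup E] [Module A E] (f : IsLocalRing.ResidueField A →ₗ[A] E) (hf : InjHull.IsInjectiveHull f) (N : Type u) [AddCommGroup N] [Module A N] (hN : IsFiniteLength A N) : (∀ i : ℤ, i ≠ 0 → Subsingleton (Dual.inD A N ⟶ ω⟦i⟧)) ∧ Nonempty ((Dual.inD A N ⟶ ω) ≃ₗ[A] (N →ₗ[A] E)) := by
  obtain ⟨h3, ⟨e, he1, he2⟩, hfin⟩ := normData ω hω hn
  obtain ⟨n, hkill⟩ := Groth.Agent.S0362.exists_pow_smul_eq_zero N hN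
  have hNoeth : IsNoetherian A N := (isFiniteLength_iff_isNoetherian_isArtinian.1 hN).1
  constructor
  · intro i hi
    exact LZ.subsingleton (LZ_hom_of_power _ (h3 i hi) N (n + 1) hkill)
  · obtain ⟨ψ⟩ := nonempty_equiv_HL ω h3 e he1 he2 E f hf
    let Θ : (Dual.inD A N ⟶ ω) →ₗ[A] (N →ₗ[A] HL (IsLocalRing.maximalIdeal A) ω) :=
      { toFun := fun F => theta (IsLocalRing.maximalIdeal A) (n + 1) hkill F
        map_add' := fun F G => LinearMap.ext fun l => theta_add _ _ hkill F G l
        map_smul' := fun s F => LinearMap.ext fun l => theta_smul _ _ hkill s F l }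
    have hΘ : Function.Bijective Θ := by
      constructor
      · rw [injective_iff_map_eq_zero]
        intro F hF
        obtain ⟨s, hs, h⟩ := theta_inj (IsLocalRing.maximalIdeal A) ω (h3 (-1) (by norm_num)) (n + 1)
          N hkill F (fun l => congrArg (fun φ => φ l) hF)
        exact (isUnit_of_notMem hs).smul_eq_zero.1 h
      · intro φ
        obtain ⟨s, hs, F, hF⟩ := theta_surj (IsLocalRing.maximalIdeal A) ω (h3 (-1) (by norm_num))
          (h3 1 (by norm_num)) (n + 1) N hkill φ
        obtain ⟨u, hu⟩ := isUnit_of_notMem hs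
        refine ⟨((u⁻¹ : Aˣ) : A) • F, LinearMap.ext fun l => ?_⟩
        change theta (IsLocalRing.maximalIdeal A) (n + 1) hkill (((u⁻¹ : Aˣ) : A) • F) l = φ l
        rw [theta_smul, ← hF, ← hu, smul_smul, Units.inv_mul, one_smul]
    exact ⟨(LinearEquiv.ofBijective Θ hΘ).trans (LinearEquiv.congrRight ψ.symm)⟩

end Groth.Agent.S1749
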