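import Groth.Statements.S1754
import Groth.Agent.LoccohA.H1Fin
import Groth.Agent.LoccohA.KollarCpl

set_option autoImplicit false
universe u
open LocCoh

namespace Groth.Agent.S1754

/-- Stacks Tag 0BK1, affine form (coherence of j_*O_U translated into finiteness of H^1 by Tag 0BK0).  Let A be a Noetherian domain and I a nonzero ideal.  Suppose that for every prime q containing I and every associated prime P of the completion B of the local ring A_q, the quotient B/P has dimension at least 2.  Then the local cohomology module H^1_I(A) is a finite A-module. -/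
theorem result (A : Type u) [CommRing A] [IsDomain A] [IsNoetherianRing A] (I : Ideal A) (hI : I ≠ ⊥) (h : ∀ (q : PrimeSpectrum A), I ≤ q.asIdeal → ∀ P ∈ associatedPrimes (AdicCompletion (IsLocalRing.maximalIdeal (Localization.AtPrime q.asIdeal)) (Localization.AtPrime q.asIdeal)) (AdicCompletion (IsLocalRing.maximalIdeal (Localization.AtPrime q.asIdeal)) (Localization.AtPrime q.asIdeal)), (2 : WithBot ℕ∞) ≤ ringKrullDim (AdicCompletion (IsLocalRing.maximalIdeal (Localization.AtPrime q.asIdeal)) (Localization.AtPrime q.asIdeal) ⧸ P)) : Module.Finite A (LocCoh.H I 1 A) := by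
  obtain ⟨f, hfI, hf0⟩ := Submodule.exists_mem_ne_zero_of_ne_bot hI
  obtain ⟨n, hn⟩ := Groth.Agent.LoccohA.KollarCpl.exists_of_localization A I f hfI hf0 h
  refine Groth.Agent.LoccohA.H1Fin.finite_H1_of_J I A f hfI
    (fun x hx => (mul_eq_zero.mp hx).resolve_left hf0) n ?_
  rintro x ⟨k, hk⟩
  exact hn x ⟨k, fun a ha => hk a ha⟩

end Groth.Agent.S1754
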