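import Groth.Statements.S1755
import Groth.Agent.LoccohA.H1Fin
import Groth.Agent.LoccohA.KollarCpl

set_option autoImplicit false
universe u
open LocCoh

namespace Groth.Agent.S1755

/-- Stacks Tag 0BL9, (2)⇒(1) (Kollár's criterion, Tag 0BK3, in affine form; coherence of j_*F corresponds to finiteness of H^1 by Tag 0BK0).  Let A be a Noetherian ring, I an ideal and M a finite A-module.  Suppose that for every associated prime p of M not containing I, every prime q containing p and I, and every associated prime P of the completion C of the local ring A_q/pA_q at its maximal ideal, the quotient C/P has dimension at least 2.  Then H^1_I(M) is a finite A-module.  (The source states the equivalence; only this implication is asserted here.) -/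
theorem result (A : Type u) [CommRing A] [IsNoetherianRing A] (I : Ideal A) (M : Type u) [AddCommGroup M] [Module A M] [Module.Finite A M] (h : ∀ p : Ideal A, p ∈ associatedPrimes A M → ¬ I ≤ p → ∀ (q : PrimeSpectrum A), p ≤ q.asIdeal → I ≤ q.asIdeal → ∀ P ∈ associatedPrimes (AdicCompletion ((IsLocalRing.maximalIdeal (Localization.AtPrime q.asIdeal)).map (Ideal.Quotient.mk (p.map (algebraMap A (Localization.AtPrime q.asIdeal))))) (Localization.AtPrime q.asIdeal ⧸ p.map (algebraMap A (Localization.AtPrime q.asIdeal)))) (AdicCompletion ((IsLocalRing.maximalIdeal (Localization.AtPrime q.asIdeal)).map (Ideal.Quotient.mk (p.map (algebraMap A (Localization.AtPrime q.asIdeal))))) (Localization.AtPrime q.asIdeal ⧸ p.map (algebraMap A (Localization.AtPrime q.asIdeal)))), (2 : WithBot ℕ∞) ≤ ringKrullDim (AdicCompletion ((IsLocalRing.maximalIdeal (Localization.AtPrime q.asIdeal)).map (Ideal.Quotient.mk (p.map (algebraMap A (Localization.AtPrime q.asIdeal))))) (Localization.AtPrime q.asIdeal ⧸ p.map (algebraMap A (Localization.AtPrime q.asIdeal)))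 ⧸ P)) : Module.Finite A (LocCoh.H I 1 M) := by
  rw [Groth.Agent.LoccohA.H1Fin.finite_H1_iff]
  intro p hp hIp
  have hpp : p.IsPrime := hp.isPrime
  obtain ⟨f, hfI, hfp⟩ := SetLike.not_le_iff_exists.mp hIp
  have hf0 : Ideal.Quotient.mk p f ≠ 0 := fun h0 => hfp (Ideal.Quotient.eq_zero_iff_mem.mp h0)
  obtain ⟨n, hn⟩ := Groth.Agent.LoccohA.KollarCpl.exists_of_quotient A I p
    (Ideal.Quotient.mk p f) (Ideal.mem_map_of_mem _ hfI) hf0 (h p hp hIp)
  refine Groth.Agent.LoccohA.H1Fin.finite_H1_of_J I (A ⧸ p) f hfI
    (fun x hx => ?_) n ?_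
  · have h1 : Ideal.Quotient.mk p f * x = 0 := hx
    exact (mul_eq_zero.mp h1).resolve_left hf0
  · rintro x ⟨k, hk⟩
    refine hn x ⟨k, fun a ha => ?_⟩
    rw [← Ideal.map_pow] at ha
    obtain ⟨b, hb, rfl⟩ := (Ideal.mem_map_iff_of_surjective _ Ideal.Quotient.mk_surjective).mp ha
    obtain ⟨y, hy⟩ := hk b hb
    refine ⟨y, ?_⟩
    rw [← map_pow]
    exact hy

end Groth.Agent.S1755
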