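import Groth.Statements.S1756
import Groth.Agent.S1755
import Groth.Agent.LoccohA.FibAss
import Groth.Agent.LoccohA.RelHtLoc

set_option autoImplicit false
universe u
open LocCoh

namespace Groth.Agent.S1756

/-- Stacks Tag 0AWB, (a)⇒(b), affine form (coherence of j_*F translated into finiteness of H^1 by Tag 0BK0).  Let A be a universally catenary Noetherian ring such that for every prime q containing the ideal I the formal fibres of A_q satisfy (S_1), and let M be a finite A-module.  If for every associated prime p of M not containing I and every prime q containing p and I the longest chain of primes from p to q has length at least 2, then H^1_I(M) is a finite A-module. -/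
theorem result (A : Type u) [CommRing A] [IsNoetherianRing A] (hA : CAlg.IsUniversallyCatenary A) (I : Ideal A) (hF : ∀ q : PrimeSpectrum A, I ≤ q.asIdeal → EGA4.HasSnFormalFibres 1 (Localization.AtPrime q.asIdeal)) (M : Type u) [AddCommGroup M] [Module A M] [Module.Finite A M] (h : ∀ (p q : PrimeSpectrum A) (hpq : p ≤ q), p.asIdeal ∈ associatedPrimes A M → ¬ I ≤ p.asIdeal → I ≤ q.asIdeal → (2 : ℕ∞) ≤ Order.height (⟨q, hpq⟩ : Set.Ici p)) : Module.Finite A (LocCoh.H I 1 M) := by
  refine Groth.Agent.S1755.result A I M fun p hp hIp q hpq hIq P hP => ?_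
  have hpp : p.IsPrime := hp.isPrime
  have hqB : CAlg.IsUniversallyCatenary (Localization.AtPrime q.asIdeal) :=
    Groth.Agent.CalgA.UnivCat.isUniversallyCatenary_of_isLocalization q.asIdeal.primeCompl hA
  have hdisj : Disjoint (q.asIdeal.primeCompl : Set A) (p : Set A) := by
    rw [Set.disjoint_left]
    exact fun x hx hxp => hx (hpq hxp)
  have hPp : (p.map (algebraMap A (Localization.AtPrime q.asIdeal))).IsPrime :=
    IsLocalization.isPrime_of_isPrime_disjoint q.asIdeal.primeCompl _ p hpp hdisj
  rw [Groth.Agent.LoccohA.FibAss.ringKrullDim_cpl_quotient (Localization.AtPrime q.asIdeal) hqB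
    (p.map (algebraMap A (Localization.AtPrime q.asIdeal))) (hF q hIq _) _ rfl P hP]
  have h1 := h ⟨p, hpp⟩ q hpq hp hIp hIq
  have h2 := Groth.Agent.LoccohA.RelHtLoc.relHt_le_ringKrullDim_quotient (⟨p, hpp⟩ : PrimeSpectrum A) q hpq
  refine le_trans ?_ h2
  have h3 : (2 : ℕ∞) ≤ Groth.Agent.Ega4A.ChainOrder.relHt (⟨p, hpp⟩ : PrimeSpectrum A) q hpq := h1
  have h4 : (((2 : ℕ∞)) : WithBot ℕ∞) ≤
      ((Groth.Agent.Ega4A.ChainOrder.relHt (⟨p, hpp⟩ : PrimeSpectrum A) q hpq : ℕ∞) : WithBot ℕ∞) :=
    WithBot.coe_le_coe.mpr h3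
  exact h4

end Groth.Agent.S1756
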