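import Groth.Statements.S1758
import Mathlib.RingTheory.Flat.EquationalCriterion

set_option autoImplicit false
universe u
open LocCoh

namespace Groth.Agent.S1758

/-- Stacks Tag 0EBZ.  Let A → B be a flat ring map.  If a family f_1, …, f_r of elements of A is independent (every linear relation has coefficients in the ideal the family generates), then so is the family of their images in B. -/
theorem result (A B : Type u) [CommRing A] [CommRing B] [Algebra A B] [Module.Flat A B] (r : ℕ) (f : Fin r → A) (hf : Dual2.Independent f) : Dual2.Independent (fun i => algebraMap A B (f i)) := by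
  intro b hb i
  have hb' : ∑ i, f i • b i = 0 := by
    rw [← hb]
    refine Finset.sum_congr rfl fun i _ => ?_
    rw [Algebra.smul_def, mul_comm]
  obtain ⟨κ, a, y, h1, h2⟩ := Module.Flat.isTrivialRelation_of_sum_smul_eq_zero hb'
  have hi : b i = ∑ j, a i j • y j := h1 i
  rw [hi]
  refine Ideal.sum_mem _ fun j _ => ?_
  have h3 : a i j ∈ Ideal.span (Set.range f) := by
    refine hf (fun i => a i j) ?_ i
    have := h2 j
    rw [← this]
    refine Finset.sum_congr rfl fun i _ => ?_
    simp [mul_comm]
  have h4 : algebraMap A B (a i j) ∈ Ideal.span (Set.range fun i => algebraMap A B (f i)) := by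
    have h5 := Ideal.mem_map_of_mem (algebraMap A B) h3
    rw [Ideal.map_span, ← Set.range_comp] at h5
    exact h5
  rw [Algebra.smul_def]
  exact Ideal.mul_mem_right _ _ h4

end Groth.Agent.S1758
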