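import Groth.Statements.S1760
import Groth.Agent.LoccohA.GorBC
import Mathlib.FieldTheory.IntermediateField.Adjoin.Algebra

set_option autoImplicit false
universe u
open scoped TensorProduct
open Goren

namespace Groth.Agent.S1760

/-- Stacks Tag 0C03, first assertion, written for the local ring B = O_{X,x}.  Let k'/k be a finitely generated field extension, B a Noetherian local k-algebra, and q a prime of B ⊗_k k' lying over the maximal ideal of B.  Then B is Gorenstein if and only if the localization of B ⊗_k k' at q is Gorenstein. -/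
theorem result (k k' : Type u) [Field k] [Field k'] [Algebra k k'] (hfg : ∃ s : Finset k', IntermediateField.adjoin k (s : Set k') = ⊤) (B : Type u) [CommRing B] [IsLocalRing B] [IsNoetherianRing B] [Algebra k B] (q : PrimeSpectrum (B ⊗[k] k')) (hq : q.asIdeal.comap (algebraMap B (B ⊗[k] k')) = IsLocalRing.maximalIdeal B) : LocCoh.IsGorensteinLocalRing B ↔ LocCoh.IsGorensteinLocalRing (Localization.AtPrime q.asIdeal) := by
  obtain ⟨s, hs⟩ := hfg
  have hfg' : Algebra.EssFiniteType k k' := by
    have h1 : Algebra.EssFiniteType k (⊤ : IntermediateField k k') :=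
      IntermediateField.essFiniteType_iff.2 ⟨s, hs⟩
    exact Algebra.EssFiniteType.of_surjective
      (IntermediateField.topEquiv : (⊤ : IntermediateField k k') ≃ₐ[k] k').toAlgHom
      (IntermediateField.topEquiv : (⊤ : IntermediateField k k') ≃ₐ[k] k').surjective
  have hN : IsNoetherianRing (B ⊗[k] k') :=
    Algebra.EssFiniteType.isNoetherianRing B (B ⊗[k] k')
  set m := IsLocalRing.maximalIdeal B with hm
  have hmp : m.IsPrime := inferInstance
  obtain ⟨Q, hQ, hQq⟩ := Ega4C.FibreTower.exists_prime_fibre m q.asIdeal hq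
  have h1 := LoccohA.GorBC.isGorensteinLocalRing_localization_iff m Q
  have h2 : LocCoh.IsGorensteinRing (m.ResidueField ⊗[k] k') :=
    LoccohA.GorBC.isGorensteinRing_tensor_of_fg s hs _
      (LoccohA.GorBC.isGorensteinRing_of_isPrincipalIdealRing m.ResidueField)
  have h3 : LocCoh.IsGorensteinRing (m.Fiber (B ⊗[k] k')) :=
    LoccohA.GorBC.isGorensteinRing_of_ringEquiv
      (Algebra.TensorProduct.cancelBaseChange k B B m.ResidueField k').symm.toRingEquiv h2
  have h4 : LocCoh.IsGorensteinLocalRing B ↔
      LocCoh.IsGorensteinLocalRing (Localization.AtPrime m) :=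
    LoccohA.GorBC.isGorensteinLocalRing_iff_of_ringEquiv
      (IsLocalization.atUnits B m.primeCompl (fun x hx => by
        by_contra hu
        exact hx ((IsLocalRing.mem_maximalIdeal x).2 hu))).toRingEquiv
  have h5 : LocCoh.IsGorensteinLocalRing (Localization.AtPrime q.asIdeal) ↔
      LocCoh.IsGorensteinLocalRing (Localization.AtPrime (Ega4C.FibreTower.ctr m Q)) := by
    obtain ⟨q, hqp⟩ := q
    dsimp only at hQq
    subst hQq
    exact Iff.rfl
  rw [h4, h5, h1]
  exact ⟨fun h => ⟨h, h3.isGorensteinLocalRing_localization Q⟩, fun h => h.1⟩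

end Groth.Agent.S1760
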