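import Groth.Statements.S1762
import Groth.Agent.LoccohA.DzMin

set_option autoImplicit false
universe u
open CategoryTheory
attribute [local instance] HasDerivedCategory.standard
open Dual

namespace Groth.Agent.S1762

/-- Stacks Tag 0A7X.  Let A be a Noetherian ring with a dualizing complex ω and p a minimal prime of A.  Then there is exactly one integer i for which H^i(ω) localized at p is nonzero. -/
theorem result (A : Type u) [CommRing A] [IsNoetherianRing A] (ω : Dual.D A) (hω : Dual.IsDualizing A ω) (p : Ideal A) (hp : p ∈ minimalPrimes A) : ∃! i : ℤ, Nontrivial (LocalizedModule (Ideal.primeCompl p (hp := hp.1.1)) (Dual.HD A ω i)) := by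
  obtain ⟨δ, h1, h2⟩ := Groth.Agent.LoccohA.DzDim.exists_delta hω
  have hp' := Groth.Agent.LoccohA.DzMin.eq_of_le_of_mem_minimalPrimes hp
  have key := fun i => Groth.Agent.LoccohA.DzMin.not_vanAt_HD_iff δ h1 ⟨p, hp.1.1⟩ hp' i
  have := hp.1.1
  refine ⟨-δ ⟨p, hp.1.1⟩, ?_, fun i hi => ?_⟩
  · exact Groth.Agent.LoccohA.DzDim.not_vanAt_iff_nontrivial.1 ((key _).2 rfl)
  · exact (key i).1 (Groth.Agent.LoccohA.DzDim.not_vanAt_iff_nontrivial.2 hi)

end Groth.Agent.S1762
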