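import Groth.Statements.S1763
import Groth.Agent.LoccohA.H1Fin

set_option autoImplicit false
universe u
open LocCoh

namespace Groth.Agent.S1763

/-- Stacks Tag 0BJZ in affine form (coherence of j_*F, resp. j_*O of the closure of an associated point, translated into finiteness of H^1 by Tag 0BK0).  Let A be a Noetherian ring, I an ideal and M a finite A-module.  Then H^1_I(M) is a finite A-module if and only if H^1_I(A/p) is a finite A-module for every associated prime p of M which does not contain I. -/
theorem result (A : Type u) [CommRing A] [IsNoetherianRing A] (I : Ideal A) (M : Type u) [AddCommGroup M] [Module A M] [Module.Finite A M] : Module.Finite A (LocCoh.H I 1 M) ↔ ∀ p : Ideal A, p ∈ associatedPrimes A M → ¬ I ≤ p → Module.Finite A (LocCoh.H I 1 (A ⧸ p)) :=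
  Groth.Agent.LoccohA.H1Fin.finite_H1_iff I M

end Groth.Agent.S1763
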