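import Groth.Statements.S1773
-- import your own Groth.Agent.* helpers here
import Groth.Agent.LoccohB.CoextDual2

set_option autoImplicit false
universe u
open CategoryTheory
attribute [local instance] HasDerivedCategory.standard
open Dual

namespace Groth.Agent.S1773

/-- Stacks Tag 0AX1 (with Tag 0A70).  Let A → B be a finite local homomorphism of Noetherian local rings and ω a normalized dualizing complex for A.  If R : D(A) → D(B) is right adjoint to restriction of scalars, then R(ω) is a normalized dualizing complex for B. -/
theorem result (A B : Type u) [CommRing A] [CommRing B] [IsLocalRing A] [IsLocalRing B] [Algebra A B] [IsLocalHom (algebraMap A B)] [IsNoetherianRing A] [IsNoetherianRing B] [Module.Finite A B] (R : Dual.D A ⥤ Dual.D B) (adj : DRing.restrictD (algebraMap A B) ⊣ R) (ω : Dual.D A) (hω : Dual.IsDualizing A ω) (hn : Dual.IsNormalized A ω) : Dual.IsDualizing B (R.obj ω) ∧ Dual.IsNormalized B (R.obj ω) := by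
  exact ⟨Groth.Agent.LoccohB.CoextDual.isDualizing_radj adj ω hω,
    Groth.Agent.LoccohB.CoextDual.isNormalized_radj adj ω hn⟩

end Groth.Agent.S1773
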