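import Groth.Statements.S1801
import Groth.Agent.LoccohB.RelOmega2
import Groth.Agent.LoccohB.RelMu
import Groth.Agent.LoccohB.FieldDual
import Groth.Agent.S1807
import Groth.Agent.S1782
-- import your own Groth.Agent.* helpers here

set_option autoImplicit false
universe u
open CategoryTheory
open scoped TensorProduct
attribute [local instance] HasDerivedCategory.standard
open Dual2

namespace Groth.Agent.S1801

/-- Stacks Tag 0BZW, flat case (part (2) with (1)(a)–(c) and (2)(b)).  Let R → A be a ring map between Noetherian rings which is flat and of finite type, where φ^!(K) is formed from a presentation ψ : R[x_1, …, x_n] → A as RHom_P(A, K ⊗^L_R P)[n], assuming the derived base change to P exists and taking for RHom_P(A, −) a right adjoint of restriction of scalars along ψ; put ω = φ^!(R).  Then: (a) ω has finitely many nonzero cohomology modules, all finite over A; (b) after restriction of scalars to R, ω is isomorphic to a bounded complex of flat R-modules (finite tor dimension over R);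 (c) a ↦ a·id is a bijection A → End(ω) and ω has no self-maps of nonzero degree; (d) for every ring map R → k to a field, assuming the derived base change D(A) → D(k ⊗_R A) exists, the base change of ω is a dualizing complex for k ⊗_R A. -/
theorem result (R A : Type u) [CommRing R] [CommRing A] [IsNoetherianRing R] [IsNoetherianRing A] [Algebra R A] [Module.Flat R A] (n : ℕ) (ψ : MvPolynomial (Fin n) R →ₐ[R] A) (hψ : Function.Surjective ψ) [DRing.HasLBaseChange (algebraMap R (MvPolynomial (Fin n) R))] (Rψ : Dual.D (MvPolynomial (Fin n) R) ⥤ Dual.D A) (adj : DRing.restrictD ψ.toRingHom ⊣ Rψ) : (∃ a b : ℤ, ∀ i : ℤ, (i < a ∨ b < i) → Subsingleton (Dual.HD A (Dual2.shriekVia n Rψ (Dual.inD R R)) i)) ∧ (∀ i : ℤ, Module.Finite A (Dual.HD A (Dual2.shriekVia n Rψ (Dual.inD R R)) i)) ∧ DRing.HasFiniteTorDimCx R ((DRing.restrictD (algebraMap R A)).obj (Dual2.shriekVia n Rψ (Dual.inD R R))) ∧ (Function.Bijective (fun a : A => a • CategoryTheory.CategoryStruct.id (Dual2.shriekVia n Rψ (Dual.inD R R)))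 ∧ ∀ i : ℤ, i ≠ 0 → Subsingleton (Dual2.shriekVia n Rψ (Dual.inD R R) ⟶ (Dual2.shriekVia n Rψ (Dual.inD R R))⟦i⟧)) ∧ ∀ (k : Type u) [Field k] [Algebra R k] [DRing.HasLBaseChange (Algebra.TensorProduct.includeRight : A →ₐ[R] k ⊗[R] A).toRingHom], Dual.IsDualizing (k ⊗[R] A) ((DRing.LBaseChange (Algebra.TensorProduct.includeRight : A →ₐ[R] k ⊗[R] A).toRingHom).obj (Dual2.shriekVia n Rψ (Dual.inD R R))) := by
  obtain ⟨h1, h2, h3, h4⟩ := Groth.Agent.LoccohB.RelOmega.noeth_omega n ψ Rψ hψ adj
  refine ⟨h1, h2, h3, h4, fun k _ _ _ => ?_⟩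
  have : Algebra.FiniteType R A := Algebra.FiniteType.iff_quotient_mvPolynomial''.2 ⟨n, ψ, hψ⟩
  have : IsNoetherianRing (k ⊗[R] A) := Algebra.FiniteType.isNoetherianRing k (k ⊗[R] A)
  obtain ⟨m, ψ', hψ'⟩ := Algebra.FiniteType.iff_quotient_mvPolynomial''.1
    (inferInstance : Algebra.FiniteType k (k ⊗[R] A))
  have i1 := Groth.Agent.LoccohB.LBC.hasLBaseChange (algebraMap R k)
  have i2 := Groth.Agent.LoccohB.LBC.hasLBaseChange (algebraMap k (MvPolynomial (Fin m) k))
  obtain ⟨e⟩ := S1807.result R k A n ψ hψ Rψ adj m ψ' hψ'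
    (Groth.Agent.LoccohB.RAdj.RCoext ψ'.toRingHom) (Groth.Agent.LoccohB.RAdj.coextAdj _)
    (Dual.inD R R)
  have h5 := S1782.result k (k ⊗[R] A) m ψ' hψ' (Groth.Agent.LoccohB.RAdj.RCoext ψ'.toRingHom)
    (Groth.Agent.LoccohB.RAdj.coextAdj _) (Dual.inD k k)
    (Groth.Agent.LoccohB.FieldDual.isDualizing_field k)
  exact Groth.Agent.LoccohB.DualShift.isDualizing_of_iso (e ≪≫
    Groth.Agent.LoccohB.RelMu.shriekViaIso m _
      (Groth.Agent.LoccohB.LBC.lbcSelfIso (algebraMap R k) 0)).symm h5

end Groth.Agent.S1801
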