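import Groth.Statements.S1786
import Groth.Agent.S1801
import Groth.Agent.LoccohB.GorFibreIff

set_option autoImplicit false
universe u
open CategoryTheory
attribute [local instance] HasDerivedCategory.standard
open scoped TensorProduct
open Dual2

namespace Groth.Agent.S1786

open DerivedCategory in
/-- Stacks Tag 0E4C, with invertibility spelled out as in Tag 0FNT (2).  Let R → A be a ring map between Noetherian rings which is flat and of finite type, where φ^!(K) is formed from a presentation ψ : R[x_1, …, x_n] → A as RHom_P(A, K ⊗^L_R P)[n], assuming the derived base change to P exists and taking for RHom_P(A, −) a right adjoint of restriction of scalars along ψ, and ω_{A/R} = φ^!(R).  Then all fibre rings A ⊗_R κ(p) are Gorenstein if and only if for every prime q of A there are f ∉ q and an integer m with ω_{A/R} ⊗ A_f ≅ A_f[m] in D(A_f) (the derived base change functors to the rings A_f being assumed to exist). -/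
theorem result (R A : Type u) [CommRing R] [CommRing A] [IsNoetherianRing R] [IsNoetherianRing A] [Algebra R A] (n : ℕ) (ψ : MvPolynomial (Fin n) R →ₐ[R] A) (hψ : Function.Surjective ψ) [DRing.HasLBaseChange (algebraMap R (MvPolynomial (Fin n) R))] (Rψ : Dual.D (MvPolynomial (Fin n) R) ⥤ Dual.D A) (adj : DRing.restrictD ψ.toRingHom ⊣ Rψ) [Module.Flat R A] [hL : ∀ f : A, DRing.HasLBaseChange (algebraMap A (Localization.Away f))] : (∀ p : PrimeSpectrum R, LocCoh.IsGorensteinRing (A ⊗[R] p.asIdeal.ResidueField)) ↔ (∀ q : PrimeSpectrum A, ∃ (f : A) (_ : f ∉ q.asIdeal) (m : ℤ), Nonempty ((DRing.LBaseChange (algebraMap A (Localization.Away f))).obj (Dual2.shriekVia n Rψ (Dual.inD R R)) ≅ (Dual.inD (Localization.Away f) (Localization.Away f))⟦m⟧)) := by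
  obtain ⟨⟨a, b, hab⟩, hfin, -, -, hk⟩ := S1801.result R A n ψ hψ Rψ adj
  have hGE : (Dual2.shriekVia n Rψ (Dual.inD R R)).IsGE a := by
    rw [isGE_iff]
    exact fun i hi => ModuleCat.isZero_iff_subsingleton.2 (hab i (Or.inl hi))
  have hLE : (Dual2.shriekVia n Rψ (Dual.inD R R)).IsLE b := by
    rw [isLE_iff]
    exact fun i hi => ModuleCat.isZero_iff_subsingleton.2 (hab i (Or.inr hi))
  exact LoccohB.GorFibreIff.gorenstein_fibres_iff _ a b hfin (fun p hp _ => hk p.ResidueField)

end Groth.Agent.S1786
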