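import Groth.Statements.S1787
-- import your own Groth.Agent.* helpers here
import Groth.Agent.LoccohB.DualLoc

set_option autoImplicit false
universe u
open CategoryTheory
attribute [local instance] HasDerivedCategory.standard
open Dual

namespace Groth.Agent.S1787

/-- Stacks Tag 0A7H.  Let A be a Noetherian ring and f_1, …, f_n elements generating the unit ideal.  Let ω be an object of D(A) such that for each i, assuming the derived base change functor D(A) → D(A_{f_i}) exists, the base change of ω is a dualizing complex for A_{f_i}.  Then ω is a dualizing complex for A. -/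
theorem result (A : Type u) [CommRing A] [IsNoetherianRing A] (n : ℕ) (f : Fin n → A) (hf : Ideal.span (Set.range f) = ⊤) (ω : Dual.D A) (h : ∀ i : Fin n, ∃ _ : DRing.HasLBaseChange (algebraMap A (Localization.Away (f i))), Dual.IsDualizing (Localization.Away (f i)) ((DRing.LBaseChange (algebraMap A (Localization.Away (f i)))).obj ω)) : Dual.IsDualizing A ω := by
  refine Groth.Agent.LoccohB.DualBC.isDualizing_of_family
    (Groth.Agent.LoccohB.DualBC.jointlyFaithful_away f hf)
    (fun i => (RingHom.flat_algebraMap_iff).2 (IsLocalization.flat _ (Submonoid.powers (f i))))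
    (Groth.Agent.LoccohB.DualBC.finite_of_away f hf) ?_
  intro i
  obtain ⟨h1, h2⟩ := h i
  exact Groth.Agent.LoccohB.HomBC.isDualizing_of_iso
    ((Groth.Agent.LoccohB.FlatLBC.LBaseChangeIso (algebraMap A (Localization.Away (f i)))
      ((RingHom.flat_algebraMap_iff).2 (IsLocalization.flat _ (Submonoid.powers (f i))))).app ω) h2

end Groth.Agent.S1787
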