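import Groth.Statements.S1788
import Groth.Agent.Flat2F.GorFibB
import Groth.Agent.LoccohB.DualBC2

set_option autoImplicit false
universe u
open CategoryTheory
attribute [local instance] HasDerivedCategory.standard
open scoped TensorProduct
open Dual

namespace Groth.Agent.S1788

/-- Stacks Tag 0E4D, case (3).  Let A → B be a faithfully flat finite type homomorphism of Noetherian rings all of whose fibre rings B ⊗_A κ(p) are Gorenstein, and K an object of D(A).  Assuming the derived base change functor D(A) → D(B) exists, K is a dualizing complex for A if and only if its base change is a dualizing complex for B. -/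
theorem result (A B : Type u) [CommRing A] [CommRing B] [Algebra A B] [IsNoetherianRing A] [IsNoetherianRing B] [Module.FaithfullyFlat A B] [Algebra.FiniteType A B] (hG : ∀ p : PrimeSpectrum A, LocCoh.IsGorensteinRing (B ⊗[A] p.asIdeal.ResidueField)) [DRing.HasLBaseChange (algebraMap A B)] (K : Dual.D A) : Dual.IsDualizing A K ↔ Dual.IsDualizing B ((DRing.LBaseChange (algebraMap A B)).obj K) := by
  have h : (algebraMap A B).Flat := RingHom.flat_algebraMap_iff.2 inferInstance
  constructor
  · intro hK
    exact Groth.Agent.LoccohB.HomBC.isDualizing_of_iso
      ((Groth.Agent.LoccohB.FlatLBC.LBaseChangeIso (algebraMap A B) h).symm.app K)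
      (Groth.Agent.Flat2F.GorFibB.isDualizing_flatBC_of_gorenstein h hG K hK)
  · intro hK
    exact Groth.Agent.LoccohB.DualBC.isDualizing_of_flatBC' B h
      (Groth.Agent.LoccohB.HomBC.isDualizing_of_iso
        ((Groth.Agent.LoccohB.FlatLBC.LBaseChangeIso (algebraMap A B) h).app K) hK)

end Groth.Agent.S1788
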