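import Groth.Statements.S1789
import Groth.Agent.S1782
import Groth.Agent.S1775
import Groth.Agent.LoccohB.ShriekNorm

set_option autoImplicit false
universe u
open CategoryTheory
attribute [local instance] HasDerivedCategory.standard
open Dual2

namespace Groth.Agent.S1789

/-- Stacks Tag 0E9N.  Let R → A be a ring map of finite type between Noetherian rings with R local, where φ^!(K) is formed from a presentation ψ : R[x_1, …, x_n] → A as RHom_P(A, K ⊗^L_R P)[n], assuming the derived base change to P exists and taking for RHom_P(A, −) a right adjoint of restriction of scalars along ψ.  Let m be a maximal ideal of A lying over the maximal ideal of R and ω a normalized dualizing complex for R.  Assuming the derived base change D(A) → D(A_m) exists, the base change of φ^!(ω) to A_m is a normalized dualizing complex for A_m. -/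
theorem result (R A : Type u) [CommRing R] [CommRing A] [IsNoetherianRing R] [IsNoetherianRing A] [Algebra R A] (n : ℕ) (ψ : MvPolynomial (Fin n) R →ₐ[R] A) (hψ : Function.Surjective ψ) [DRing.HasLBaseChange (algebraMap R (MvPolynomial (Fin n) R))] (Rψ : Dual.D (MvPolynomial (Fin n) R) ⥤ Dual.D A) (adj : DRing.restrictD ψ.toRingHom ⊣ Rψ) [IsLocalRing R] (m : Ideal A) [m.IsMaximal] (hm : m.comap (algebraMap R A) = IsLocalRing.maximalIdeal R) (ω : Dual.D R) (hω : Dual.IsDualizing R ω) (hn : Dual.IsNormalized R ω) [DRing.HasLBaseChange (algebraMap A (Localization.AtPrime m))] : Dual.IsDualizing (Localization.AtPrime m) ((DRing.LBaseChange (algebraMap A (Localization.AtPrime m))).obj (Dual2.shriekVia n Rψ ω)) ∧ Dual.IsNormalized (Localization.AtPrime m) ((DRing.LBaseChange (algebraMap A (Localization.AtPrime m))).obj (Dual2.shriekVia n Rψ ω)) := by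
  have hA := Groth.Agent.S1782.result R A n ψ hψ Rψ adj ω hω
  refine ⟨Groth.Agent.S1775.result A m.primeCompl (Dual2.shriekVia n Rψ ω) hA, ?_⟩
  intro i hi
  obtain ⟨a, b, _, _, hab⟩ := Groth.Agent.LoccohB.HomBC.exists_bounds_of_isDualizing hA
  have h : (algebraMap A (Localization.AtPrime m)).Flat := RingHom.flat_algebraMap_iff.2 inferInstance
  have h1 := Groth.Agent.LoccohB.ShriekNorm.subsingleton_quot n ψ hψ Rψ adj m hm ω i (hn i hi)
  have h2 := Groth.Agent.LoccohB.FlatDual.subsingleton_quot h (Dual2.shriekVia n Rψ ω) a m i h1
  rw [IsLocalization.AtPrime.map_eq_maximalIdeal m (Localization.AtPrime m)] at h2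
  exact Groth.Agent.LoccohB.InjRep.subsingleton_of_iso
    ((Groth.Agent.LoccohB.FlatLBC.LBaseChangeIso (algebraMap A (Localization.AtPrime m)) h).app _) i h2

end Groth.Agent.S1789
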