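import Groth.Statements.S1793
import Groth.Agent.S1792
import Groth.Agent.LoccohB.RelComp552
import Groth.Agent.LoccohB.RelOmega2
-- import your own Groth.Agent.* helpers here

set_option autoImplicit false
universe u
open CategoryTheory
open scoped TensorProduct
attribute [local instance] HasDerivedCategory.standard
open Dual2

namespace Groth.Agent.S1793

/-- Stacks Tag 0E2G.  Let R → A be a ring map which is flat and of finite presentation and K a relative dualizing complex (relative dualizing: R-perfect with RHom_{A⊗_R A}(A, K ⊗^L_A (A ⊗_R A)) ≅ A, the base change taken along the left coprojection under its existence hypothesis and RHom_{A⊗_R A}(A, −) given as a right adjoint Rμ of restriction along the multiplication map).  Then A → RHom_A(K, K) is an isomorphism: a ↦ a·id is a bijection from A onto End(K) in D(A), and there are no nonzero maps K → K[i] for i ≠ 0. -/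
theorem result (R A : Type u) [CommRing R] [CommRing A] [Algebra R A] [Module.Flat R A] [Algebra.FinitePresentation R A] [DRing.HasLBaseChange (Algebra.TensorProduct.includeLeftRingHom : A →+* TensorProduct R A A)] (Rμ : Dual.D (TensorProduct R A A) ⥤ Dual.D A) (adjμ : DRing.restrictD (Algebra.TensorProduct.lmul' R (S := A)).toRingHom ⊣ Rμ) (K : Dual.D A) (hK : Dual2.IsRelDualizing R A Rμ K) : Function.Bijective (fun a : A => a • (CategoryTheory.CategoryStruct.id K)) ∧ ∀ i : ℤ, i ≠ 0 → Subsingleton (K ⟶ K⟦i⟧) := by
  obtain ⟨n, ψ, hψ, -⟩ := (inferInstance : Algebra.FinitePresentation R A)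
  have := Groth.Agent.LoccohB.LBC.hasLBaseChange (algebraMap R (MvPolynomial (Fin n) R))
  have hA := Groth.Agent.LoccohB.RelAsm285.isPerfect_of_flat ψ hψ
  have h1 := Groth.Agent.LoccohB.RelComp552.isRelDualizing_shriekVia n ψ hψ _
    (Groth.Agent.LoccohB.RAdj.coextAdj ψ.toRingHom) Rμ adjμ
  obtain ⟨e⟩ := Groth.Agent.S1792.result R A Rμ adjμ K _ hK h1
  exact ⟨Groth.Agent.LoccohB.RelOmega.end_bijective_of_iso e.symm
      (Groth.Agent.LoccohB.RelOmega.toEnd_bijective_omega n ψ _ (Groth.Agent.LoccohB.RAdj.coextAdj ψ.toRingHom) hA),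
    fun i hi => Groth.Agent.LoccohB.RelOmega.subsingleton_of_iso e.symm i
      (Groth.Agent.LoccohB.RelOmega.subsingleton_ext_omega n ψ _ (Groth.Agent.LoccohB.RAdj.coextAdj ψ.toRingHom) hA i hi)⟩

end Groth.Agent.S1793
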