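import Groth.Statements.S1798
import Groth.Agent.LoccohB.LocFreeFactor

set_option autoImplicit false
universe u
open CategoryTheory AlgebraicGeometry
open LocCoh

namespace Groth.Agent.S1798

open Groth.Agent.LoccohB.GlueHom Groth.Agent.LoccohB.FrameExt Groth.Agent.LoccohB.FinLocFreeFrame
open Groth.Agent.LoccohB.LocFreeFactor TopologicalSpace

/-- The global function on `X` attached to an element of the base ring. -/
noncomputable def gl {A : Type u} [CommRing A] {X : Scheme.{u}} (f : X ⟶ Spec (CommRingCat.of A))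
    (a : A) : Γ(X, ⊤) := Coh.toGlobal f a

lemma basicOpen_gl {A : Type u} [CommRing A] {X : Scheme.{u}} (f : X ⟶ Spec (CommRingCat.of A))
    (a : A) : X.basicOpen (gl f a) = f ⁻¹ᵁ (PrimeSpectrum.basicOpen a) := by
  have h1 : gl f a = f.appTop ((Scheme.ΓSpecIso (CommRingCat.of A)).inv a) := rfl
  have h2 := Scheme.Hom.preimage_basicOpen_top f ((Scheme.ΓSpecIso (CommRingCat.of A)).inv a)
  rw [basicOpen_eq_of_affine] at h2
  rw [h1, ← h2]

/-- The local annihilation statement. -/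
theorem local_annihilation {A : Type u} [CommRing A] {X : Scheme.{u}}
    [X.Over (Spec (CommRingCat.of A))] {F : X.Modules}
    {ι : Type u} [Finite ι]
    (W : ι → X.Opens) (hW : iSup W = ⊤) (n : ι → ℕ) (fr : ∀ i, Frame F (W i) (n i))
    (haff : ∀ i, IsAffineOpen (W i)) (haff' : ∀ i j, IsAffineOpen (W i ⊓ W j))
    (g : A) (i₀ : ι) (h₀ : W i₀ = X.basicOpen (gl (X ↘ Spec (CommRingCat.of A)) g)) (p : ℕ)
    (𝔞 : Ideal A) (hO : ∀ a ∈ 𝔞, ∀ x : Coh.HH X (Coh.structureModule X) p, a • x = 0) :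
    ∃ K : ℕ, ∀ a ∈ 𝔞, ∀ x : Coh.HH X F p, (g ^ K * a) • x = 0 := by
  obtain ⟨K, r, β, α, h⟩ := exists_factor W hW n fr haff haff' _ i₀ h₀
  refine ⟨K, fun a ha x => ?_⟩
  have h1 : ∑ k, β k ≫ α k = LoccohB.HHmap.smulHom F (gl (X ↘ Spec (CommRingCat.of A)) g ^ K) := by
    apply Scheme.Modules.hom_ext
    intro V
    ext s
    rw [h V s, LoccohB.HHmap.smulHom_app, map_pow]
  have h2 : LoccohB.HHmap.map (∑ k, β k ≫ α k) p (a • x) = (g ^ K) • (a • x) := by
    rw [h1, LoccohB.HHmap.map_smulHom]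
    have : gl (X ↘ Spec (CommRingCat.of A)) g ^ K = gl (X ↘ Spec (CommRingCat.of A)) (g ^ K) :=
      (map_pow (Coh.toGlobal (X ↘ Spec (CommRingCat.of A))) g K).symm
    rw [this]
    rfl
  rw [mul_smul, ← h2, LoccohB.HHmap.map_sum]
  refine Finset.sum_eq_zero fun k _ => ?_
  rw [LoccohB.HHmap.map_comp, LoccohB.HHmap.map_smul_over, hO a ha, map_zero]

/-- The theorem for a quasi-compact open `U` of `Spec A`. -/
theorem main (A : Type u) [CommRing A] (J : Ideal A) (hJ : J.FG)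
    (U : (Spec (CommRingCat.of A)).Opens) (hUc : IsCompact (U : Set (Spec (CommRingCat.of A))))
    (hJU : ∀ q : PrimeSpectrum A, ¬ J ≤ q.asIdeal → q ∈ U) (p n : ℕ)
    (hO : ∀ a ∈ J ^ n, ∀ x : Coh.HH (↑U) (Coh.structureModule (↑U)) p, a • x = 0)
    (F : (↑U : Scheme.{u}).Modules) (hF : FlatMod.IsFinLocFree F) :
    ∃ m : ℕ, ∀ a ∈ J ^ m, ∀ x : Coh.HH (↑U) F p, a • x = 0 := by
  classical
  -- local frames on basic opens
  have key : ∀ x : (U : Scheme.{u}), ∃ (g : A) (k : ℕ),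
      x ∈ (U : Scheme.{u}).basicOpen (gl ((U : Scheme.{u}) ↘ Spec (CommRingCat.of A)) g) ∧
      PrimeSpectrum.basicOpen g ≤ U ∧
      Nonempty (Frame F ((U : Scheme.{u}).basicOpen
        (gl ((U : Scheme.{u}) ↘ Spec (CommRingCat.of A)) g)) k) := by
    intro x
    obtain ⟨V, k, hxV, ⟨fr⟩⟩ := exists_frame hF x
    have hopen : IsOpen (U.ι '' (V : Set U)) := U.ι.isOpenEmbedding.isOpenMap _ V.isOpen
    obtain ⟨_, ⟨g, rfl⟩, hx, hg⟩ := PrimeSpectrum.isTopologicalBasis_basic_opens.exists_subset_of_mem_open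
      (show U.ι x ∈ U.ι '' (V : Set U) from ⟨x, hxV, rfl⟩) hopen
    have hgU : PrimeSpectrum.basicOpen g ≤ U := by
      intro y hy
      obtain ⟨z, -, rfl⟩ := hg hy
      exact z.2
    refine ⟨g, k, ?_, hgU, ⟨fr.restrict ?_⟩⟩
    · rw [basicOpen_gl]
      exact hx
    · rw [basicOpen_gl]
      intro y hy
      obtain ⟨z, hz, hzy⟩ := hg (show U.ι y ∈ PrimeSpectrum.basicOpen g from hy)
      rwa [← U.ι.isOpenEmbedding.injective hzy]
  choose g k hxg hgU hfr using key
  -- a finite subcover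
  have hcomp : CompactSpace (U : Scheme.{u}) := isCompact_iff_compactSpace.mp hUc
  obtain ⟨T, hT⟩ := (isCompact_univ (X := (U : Scheme.{u}))).elim_finite_subcover
    (fun x => (((U : Scheme.{u}).basicOpen
        (gl ((U : Scheme.{u}) ↘ Spec (CommRingCat.of A)) (g x)) : (U : Scheme.{u}).Opens) :
          Set (U : Scheme.{u})))
    (fun x => ((U : Scheme.{u}).basicOpen _).isOpen)
    (fun x _ => Set.mem_iUnion.mpr ⟨x, hxg x⟩)
  let W : T → (U : Scheme.{u}).Opens := fun x => (U : Scheme.{u}).basicOpen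
        (gl ((U : Scheme.{u}) ↘ Spec (CommRingCat.of A)) (g x))
  have hW : iSup W = ⊤ := by
    rw [eq_top_iff]
    intro x _
    obtain ⟨y, hy⟩ := Set.mem_iUnion.mp (hT (Set.mem_univ x))
    obtain ⟨hyT, hxy⟩ := Set.mem_iUnion.mp hy
    exact Opens.mem_iSup.mpr ⟨⟨y, hyT⟩, hxy⟩
  -- affineness
  have aff : ∀ h : A, PrimeSpectrum.basicOpen h ≤ U → IsAffineOpen ((U : Scheme.{u}).basicOpen
        (gl ((U : Scheme.{u}) ↘ Spec (CommRingCat.of A)) h)) := by
    intro h hh
    rw [basicOpen_gl, ← U.ι.isAffineOpen_iff_of_isOpenImmersion]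
    have h1 : U.ι ''ᵁ (((U : Scheme.{u}) ↘ Spec (CommRingCat.of A)) ⁻¹ᵁ
        (PrimeSpectrum.basicOpen h)) = (PrimeSpectrum.basicOpen h : (Spec (CommRingCat.of A)).Opens) := by
      change U.ι ''ᵁ (U.ι ⁻¹ᵁ _) = _
      rw [Scheme.Hom.image_preimage_eq_opensRange_inf, Scheme.Opens.opensRange_ι]
      exact inf_eq_right.mpr hh
    rw [h1]
    exact IsAffineOpen.Spec_basicOpen (R := CommRingCat.of A) h
  have haff : ∀ i, IsAffineOpen (W i) := fun i => aff _ (hgU i)
  have haff' : ∀ i j, IsAffineOpen (W i ⊓ W j) := by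
    intro i j
    have h1 : W i ⊓ W j = (U : Scheme.{u}).basicOpen
        (gl ((U : Scheme.{u}) ↘ Spec (CommRingCat.of A)) (g i * g j)) := by
      have h2 : gl ((U : Scheme.{u}) ↘ Spec (CommRingCat.of A)) (g i * g j) =
        gl ((U : Scheme.{u}) ↘ Spec (CommRingCat.of A)) (g i) *
        gl ((U : Scheme.{u}) ↘ Spec (CommRingCat.of A)) (g j) := map_mul (Coh.toGlobal _) _ _
      rw [h2, Scheme.basicOpen_mul]
    rw [h1]
    refine aff _ ?_
    rw [PrimeSpectrum.basicOpen_mul]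
    exact inf_le_left.trans (hgU i)
  choose K hK using fun i : T => local_annihilation (A := A) (F := F) W hW (fun i => k i)
    (fun i => (hfr i).some) haff haff' (g i) i rfl p (J ^ n) hO
  -- conclusion
  let 𝔠 : Ideal A := Ideal.span (Set.range fun i : T => g i ^ K i)
  have hrad : J ≤ 𝔠.radical := by
    rw [Ideal.radical_eq_sInf]
    refine le_sInf fun q hq => ?_
    by_contra hJq
    obtain ⟨hq1, hq2⟩ := hq
    have hqU : (⟨q, hq2⟩ : PrimeSpectrum A) ∈ U := hJU ⟨q, hq2⟩ hJq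
    obtain ⟨i, hi⟩ := Opens.mem_iSup.mp
      (show (⟨⟨q, hq2⟩, hqU⟩ : (U : Scheme.{u})) ∈ iSup W from hW ▸ trivial)
    have h1 : (⟨q, hq2⟩ : PrimeSpectrum A) ∈ PrimeSpectrum.basicOpen (g i) := by
      have h2 : (⟨⟨q, hq2⟩, hqU⟩ : (U : Scheme.{u})) ∈ (U : Scheme.{u}).basicOpen
        (gl ((U : Scheme.{u}) ↘ Spec (CommRingCat.of A)) (g i)) := hi
      rw [basicOpen_gl] at h2
      exact h2
    apply h1
    exact hq2.mem_of_pow_mem _ (hq1 (Ideal.subset_span ⟨i, rfl⟩))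
  obtain ⟨M, hM⟩ := Ideal.exists_pow_le_of_le_radical_of_fg hrad hJ
  refine ⟨M + n, fun a ha x => ?_⟩
  have h1 : J ^ (M + n) ≤ Module.annihilator A (Coh.HH (↑U) F p) := by
    rw [pow_add]
    refine (Ideal.mul_mono_left hM).trans ?_
    rw [Ideal.mul_le]
    intro c hc b hb
    induction hc using Submodule.span_induction with
    | mem c hc =>
      obtain ⟨i, rfl⟩ := hc
      rw [Module.mem_annihilator]
      exact fun y => hK i b hb y
    | zero => rw [zero_mul]; exact zero_mem _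
    | add c d _ _ hc hd => rw [add_mul]; exact add_mem hc hd
    | smul c d _ hd => rw [smul_mul_assoc]; exact Submodule.smul_mem _ _ hd
  exact Module.mem_annihilator.mp (h1 ha) x

/-- Stacks Tag 0BM5.  Let A be a ring, J ⊆ I finitely generated ideals, U the open complement of V(I) in Spec A and p ≥ 0.  If some power of J kills H^p(U, O_U), then for each finite locally free O_U-module F some power of J kills H^p(U, F). -/
theorem result (A : Type u) [CommRing A] (J I : Ideal A) (hJI : J ≤ I) (hJ : J.FG) (hI : I.FG) (p n : ℕ) (hO : ∀ a ∈ J ^ n, ∀ x : Coh.HH (↑(LocCoh.puncturedOpen A I)) (Coh.structureModule (↑(LocCoh.puncturedOpen A I))) p, a • x = 0) (F : (↑(LocCoh.puncturedOpen A I) : Scheme.{u}).Modules) (hF : FlatMod.IsFinLocFree F) : ∃ m : ℕ, ∀ a ∈ J ^ m, ∀ x : Coh.HH (↑(LocCoh.puncturedOpen A I)) F p, a • x = 0 := by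
  refine main A J hJ (LocCoh.puncturedOpen A I) ?_ ?_ p n hO F hF
  · exact (PrimeSpectrum.isCompact_isOpen_iff_ideal.mpr ⟨I, hI, rfl⟩).1
  · intro q hq hq'
    exact hq (hJI.trans hq')

end Groth.Agent.S1798
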