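import Groth.Statements.S1799
-- import your own Groth.Agent.* helpers here
import Groth.Agent.LoccohB.ShriekFBC

set_option autoImplicit false
universe u
open CategoryTheory
attribute [local instance] HasDerivedCategory.standard
open Dual2

namespace Groth.Agent.S1799

open Groth.Agent.LoccohB

attribute [local instance] MvPolynomial.algebraMvPolynomial

/-- `R_χ ((R_ψ L) ⊗ B[y]) = R_{A[x][y] → C} (L ⊗ A[x][y])`. -/
theorem step (P B C : Type u) [CommRing P] [CommRing B] [CommRing C] [IsNoetherianRing P] [Algebra P B]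
    [Module.Finite P B] (m : ℕ) (χ : MvPolynomial (Fin m) B →+* C)
    {Rψ : Dual.D P ⥤ Dual.D B} (adj : DRing.restrictD (algebraMap P B) ⊣ Rψ)
    {Rχ : Dual.D (MvPolynomial (Fin m) B) ⥤ Dual.D C} (adjχ : DRing.restrictD χ ⊣ Rχ)
    {F : Dual.D (MvPolynomial (Fin m) P) ⥤ Dual.D C}
    (adjF : DRing.restrictD (χ.comp (algebraMap (MvPolynomial (Fin m) P) (MvPolynomial (Fin m) B))) ⊣ F)
    [DRing.HasLBaseChange (algebraMap P (MvPolynomial (Fin m) P))]
    [DRing.HasLBaseChange (algebraMap B (MvPolynomial (Fin m) B))] (L : Dual.D P) (c : ℤ) [L.IsGE c] :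
    Nonempty (Rχ.obj ((DRing.LBaseChange (algebraMap B (MvPolynomial (Fin m) B))).obj (Rψ.obj L)) ≅
      F.obj ((DRing.LBaseChange (algebraMap P (MvPolynomial (Fin m) P))).obj L)) := by
  have h : (algebraMap P (MvPolynomial (Fin m) P)).Flat := RingHom.flat_algebraMap_iff.2 inferInstance
  obtain ⟨e⟩ := ShriekFBC.radj_flat (C := P) (C' := MvPolynomial (Fin m) P) (B := B)
    (B' := MvPolynomial (Fin m) B) h adj
    (RAdj.coextAdj (algebraMap (MvPolynomial (Fin m) P) (MvPolynomial (Fin m) B))) L c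
  exact ⟨Rχ.mapIso e ≪≫ (RAdj.compIso (RAdj.coextAdj (algebraMap (MvPolynomial (Fin m) P)
    (MvPolynomial (Fin m) B))) adjχ adjF).symm.app _⟩

/-- Stacks Tag 0BZT.  Let A → B → C be ring maps of finite type between Noetherian rings, where each upper shriek φ^!(K) is formed from a presentation ψ : P = (base)[x_1, …, x_n] → (target) as RHom_P(target, K ⊗^L P)[n], the derived base change functors being assumed to exist and RHom_P(target, −) being given as a right adjoint of restriction of scalars.  Then for every K in D(A) which is bounded below, the upper shriek of K along A → C is isomorphic to the upper shriek along B → C of the upper shriek along A → B of K. -/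
theorem result (A B C : Type u) [CommRing A] [CommRing B] [CommRing C] [IsNoetherianRing A] [IsNoetherianRing B] [IsNoetherianRing C] [Algebra A B] [Algebra B C] [Algebra A C] [IsScalarTower A B C] (n : ℕ) (ψ : MvPolynomial (Fin n) A →ₐ[A] B) (hψ : Function.Surjective ψ) [DRing.HasLBaseChange (algebraMap A (MvPolynomial (Fin n) A))] (Rψ : Dual.D (MvPolynomial (Fin n) A) ⥤ Dual.D B) (adj : DRing.restrictD ψ.toRingHom ⊣ Rψ) (m : ℕ) (χ : MvPolynomial (Fin m) B →ₐ[B] C) (hχ : Function.Surjective χ) [DRing.HasLBaseChange (algebraMap B (MvPolynomial (Fin m) B))] (Rχ : Dual.D (MvPolynomial (Fin m) B) ⥤ Dual.D C) (adjχ : DRing.restrictD χ.toRingHom ⊣ Rχ) (k : ℕ) (θ : MvPolynomial (Fin k) A →ₐ[A] C) (hθ : Function.Surjective θ) [DRing.HasLBaseChange (algebraMap A (MvPolynomial (Fin k) A))] (Rθ : Dual.D (MvPolynomial (Fin k) A) ⥤ Dual.D C) (adjθ : DRing.restrictD θ.toRingHom ⊣ Rθ) (K : Dual.D A) (c : ℤ) (hK : ∀ i : ℤ, i < c → Subsingleton (Dual.HD A K i)) : Nonempty (Dual2.shriekVia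 k Rθ K ≅ Dual2.shriekVia m Rχ (Dual2.shriekVia n Rψ K)) := by
  have : K.IsGE c := ShriekFBC.isGE_of_HD K c hK
  let P := MvPolynomial (Fin n) A
  let P' := MvPolynomial (Fin m) P
  let P'' := MvPolynomial (Fin (m + n)) A
  let _ : Algebra P B := ψ.toRingHom.toAlgebra
  have hfin : Module.Finite P B := Module.Finite.of_surjective (Algebra.linearMap P B) hψ
  have hP : (algebraMap A P).Flat := RingHom.flat_algebraMap_iff.2 inferInstance
  have := ShriekFBC.isGE_lbc hP K c
  have := LBC.hasLBaseChange (algebraMap P P')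
  have := LBC.hasLBaseChange (algebraMap A P')
  have := LBC.hasLBaseChange (algebraMap A P'')
  -- the presentation of `C` over `A`
  let σ : P'' ≃ₐ[A] P' := (MvPolynomial.renameEquiv A finSumFinEquiv).symm.trans
    (MvPolynomial.sumAlgEquiv A (Fin m) (Fin n))
  let p₂ : P' →+* C := χ.toRingHom.comp (algebraMap P' (MvPolynomial (Fin m) B))
  let p₁ : P'' →+* C := p₂.comp (σ.toRingEquiv : P'' →+* P')
  have hp₂ : ∀ a : A, p₂ (algebraMap A P' a) = algebraMap A C a := by
    intro a
    change χ (MvPolynomial.map (algebraMap P B) (MvPolynomial.C (algebraMap A P a))) = _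
    rw [MvPolynomial.map_C]
    change χ (algebraMap B (MvPolynomial (Fin m) B) (ψ (algebraMap A P a))) = _
    rw [χ.commutes, ψ.commutes, ← IsScalarTower.algebraMap_apply A B C]
  have hp₁ : ∀ a : A, p₁ (algebraMap A P'' a) = algebraMap A C a := by
    intro a
    change p₂ (σ (algebraMap A P'' a)) = _
    rw [σ.commutes, hp₂]
  let ρ : P'' →ₐ[A] C := { p₁ with commutes' := hp₁ }
  have hρ : Function.Surjective ρ := by
    change Function.Surjective (χ ∘ (MvPolynomial.map (algebraMap P B)) ∘ σ)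
    exact hχ.comp ((MvPolynomial.map_surjective _ hψ).comp σ.surjective)
  obtain ⟨e₁⟩ := ShriekIndep.shriekVia_indep A C k θ hθ Rθ adjθ (m + n) ρ hρ (RAdj.RCoext p₁)
    (RAdj.coextAdj p₁) K
  obtain ⟨e₂⟩ := ShriekIndep.compare (algebraMap A P'') (algebraMap A P') p₁ p₂
    (σ.toRingEquiv : P'' →+* P') (by ext a : 1; exact σ.commutes a) rfl 0
    (GoodEval.isGood_equiv σ.toRingEquiv) (RAdj.coextAdj p₁) (RAdj.coextAdj p₂) K
  obtain ⟨e₃⟩ := step P B C m χ.toRingHom adj adjχ (RAdj.coextAdj p₂)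
    ((DRing.LBaseChange (algebraMap A P)).obj K) c
  let e₄ := (LBC.lbcComp (algebraMap A P) (algebraMap P P') (algebraMap A P')
    (IsScalarTower.algebraMap_eq A P P')).app K
  let e₅ : (RAdj.RCoext p₁).obj ((DRing.LBaseChange (algebraMap A P'')).obj K) ≅
      Rχ.obj ((DRing.LBaseChange (algebraMap B (MvPolynomial (Fin m) B))).obj
        (Rψ.obj ((DRing.LBaseChange (algebraMap A P)).obj K))) :=
    (shiftFunctorZero _ ℤ).symm.app _ ≪≫ e₂ ≪≫ (RAdj.RCoext p₂).mapIso e₄.symm ≪≫ e₃.symm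
  refine ⟨e₁ ≪≫ (shiftFunctor _ ((m + n : ℕ) : ℤ)).mapIso e₅ ≪≫
    (shiftFunctorAdd' _ (n : ℤ) m ((m + n : ℕ) : ℤ) (by push_cast; ring)).app _ ≪≫
    (shiftFunctor _ (m : ℤ)).mapIso ((RAdj.shiftIso adjχ _ n).symm ≪≫
      Rχ.mapIso (LBC.lbcShiftIso _ _ _).symm)⟩

end Groth.Agent.S1799
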