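import Groth.Statements.S1800
-- import your own Groth.Agent.* helpers here
import Groth.Agent.LoccohB.ShriekFBC

set_option autoImplicit false
universe u
open CategoryTheory
open scoped TensorProduct
attribute [local instance] HasDerivedCategory.standard
open Dual2

namespace Groth.Agent.S1800

open Groth.Agent.LoccohB

attribute [local instance] Algebra.TensorProduct.rightAlgebra in
theorem aux (R R' A : Type u) [CommRing R] [CommRing R'] [CommRing A] [IsNoetherianRing R] [Algebra R R']
    (hflat : (algebraMap R R').Flat) [Algebra R A] (n : ℕ) (ψ : MvPolynomial (Fin n) R →ₐ[R] A)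
    (hψ : Function.Surjective ψ) [DRing.HasLBaseChange (algebraMap R (MvPolynomial (Fin n) R))]
    (Rψ : Dual.D (MvPolynomial (Fin n) R) ⥤ Dual.D A) (adj : DRing.restrictD ψ.toRingHom ⊣ Rψ)
    [DRing.HasLBaseChange (algebraMap R' (MvPolynomial (Fin n) R'))]
    [DRing.HasLBaseChange (Algebra.TensorProduct.includeRight : A →ₐ[R] R' ⊗[R] A).toRingHom]
    [DRing.HasLBaseChange (algebraMap R R')] (K : Dual.D R) (c : ℤ) [K.IsGE c] :
    ∃ (ψ' : MvPolynomial (Fin n) R' →ₐ[R'] (R' ⊗[R] A)) (_ : Function.Surjective ψ'),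
    Nonempty ((DRing.LBaseChange (Algebra.TensorProduct.includeRight : A →ₐ[R] R' ⊗[R] A).toRingHom).obj
      (Rψ.obj ((DRing.LBaseChange (algebraMap R (MvPolynomial (Fin n) R))).obj K)) ≅
      (RAdj.RCoext ψ'.toRingHom).obj ((DRing.LBaseChange (algebraMap R' (MvPolynomial (Fin n) R'))).obj
        ((DRing.LBaseChange (algebraMap R R')).obj K))) := by
  let ψ' : MvPolynomial (Fin n) R' →ₐ[R'] (R' ⊗[R] A) :=
    MvPolynomial.aeval (fun i => (1 : R') ⊗ₜ[R] ψ (MvPolynomial.X i))
  let P := MvPolynomial (Fin n) R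
  let P' := MvPolynomial (Fin n) R'
  let _ : Algebra P A := ψ.toRingHom.toAlgebra
  let _ : Algebra P P' := MvPolynomial.algebraMvPolynomial
  let _ : Algebra P' (R' ⊗[R] A) := ψ'.toRingHom.toAlgebra
  let _ : Algebra P (R' ⊗[R] A) := ((algebraMap A (R' ⊗[R] A)).comp ψ.toRingHom).toAlgebra
  have hcomm : ψ'.toRingHom.comp (MvPolynomial.map (algebraMap R R')) =
      (algebraMap A (R' ⊗[R] A)).comp ψ.toRingHom := by
    apply MvPolynomial.ringHom_ext
    · intro r
      simp only [RingHom.comp_apply, MvPolynomial.map_C]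
      change ψ' (algebraMap R' P' (algebraMap R R' r)) = algebraMap A (R' ⊗[R] A) (ψ (algebraMap R P r))
      rw [ψ'.commutes, ψ.commutes, ← IsScalarTower.algebraMap_apply R R' (R' ⊗[R] A),
        ← IsScalarTower.algebraMap_apply R A (R' ⊗[R] A)]
    · intro i
      simp only [RingHom.comp_apply, MvPolynomial.map_X]
      change ψ' (MvPolynomial.X i) = algebraMap A (R' ⊗[R] A) (ψ (MvPolynomial.X i))
      rw [MvPolynomial.aeval_X]
      rfl
  have t1 : IsScalarTower P P' (R' ⊗[R] A) := IsScalarTower.of_algebraMap_eq' hcomm.symm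
  have t2 : IsScalarTower P A (R' ⊗[R] A) := IsScalarTower.of_algebraMap_eq' rfl
  have t3 : IsScalarTower R P A := IsScalarTower.of_algebraMap_eq' ψ.comp_algebraMap.symm
  have t4 : IsScalarTower R' P' (R' ⊗[R] A) := IsScalarTower.of_algebraMap_eq' ψ'.comp_algebraMap.symm
  have t5 : IsScalarTower R P' (R' ⊗[R] A) := IsScalarTower.of_algebraMap_eq fun r => by
    rw [IsScalarTower.algebraMap_apply R R' P', ← IsScalarTower.algebraMap_apply R' P' (R' ⊗[R] A),
      ← IsScalarTower.algebraMap_apply R R' (R' ⊗[R] A)]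
  have hfin : Module.Finite P A := Module.Finite.of_surjective (Algebra.linearMap P A) hψ
  have hP : (algebraMap R P).Flat := RingHom.flat_algebraMap_iff.2 inferInstance
  refine ⟨ψ', ?_, ?_⟩
  · intro x
    induction x using TensorProduct.induction_on with
    | zero => exact ⟨0, map_zero _⟩
    | add x y hx hy =>
      obtain ⟨a, rfl⟩ := hx
      obtain ⟨b, rfl⟩ := hy
      exact ⟨a + b, map_add _ _ _⟩
    | tmul r a =>
      obtain ⟨p, rfl⟩ := hψ a
      refine ⟨algebraMap R' P' r * MvPolynomial.map (algebraMap R R') p, ?_⟩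
      rw [map_mul, ψ'.commutes]
      have h1 : ψ' (MvPolynomial.map (algebraMap R R') p) = (1 : R') ⊗ₜ[R] ψ p :=
        DFunLike.congr_fun hcomm p
      rw [h1]
      change (r ⊗ₜ[R] (1 : A)) * ((1 : R') ⊗ₜ[R] ψ p) = _
      rw [Algebra.TensorProduct.tmul_mul_tmul, mul_one, one_mul]
  · exact ShriekFBC.radj_flat₂ (R := R) (R' := R') (P := P) (P' := P') (A := A) (A' := R' ⊗[R] A)
      hflat hP adj (RAdj.coextAdj ψ'.toRingHom) K c

/-- Stacks Tag 0BZN.  Let R → R' be a flat homomorphism of Noetherian rings, R → A a ring map of finite type with A Noetherian, and A' = R' ⊗_R A with the induced map R' → A'; each upper shriek φ^!(K) is formed from a presentation ψ : P = (base)[x_1, …, x_n] → (target) as RHom_P(target, K ⊗^L P)[n], the derived base change functors being assumed to exist and RHom_P(target, −) being given as a right adjoint of restriction of scalars.  Assuming also the derived base change functors D(A) → D(A') and D(R) → D(R') exist, for every K in D(R) which is bounded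 below the base change to A' of the upper shriek of K along R → A is isomorphic to the upper shriek along R' → A' of the base change of K to R'. -/
theorem result (R R' A : Type u) [CommRing R] [CommRing R'] [CommRing A] [IsNoetherianRing R] [IsNoetherianRing R'] [IsNoetherianRing A] [Algebra R R'] [Module.Flat R R'] [Algebra R A] [IsNoetherianRing (R' ⊗[R] A)] (n : ℕ) (ψ : MvPolynomial (Fin n) R →ₐ[R] A) (hψ : Function.Surjective ψ) [DRing.HasLBaseChange (algebraMap R (MvPolynomial (Fin n) R))] (Rψ : Dual.D (MvPolynomial (Fin n) R) ⥤ Dual.D A) (adj : DRing.restrictD ψ.toRingHom ⊣ Rψ) (m : ℕ) (ψ' : MvPolynomial (Fin m) R' →ₐ[R'] (R' ⊗[R] A)) (hψ' : Function.Surjective ψ') [DRing.HasLBaseChange (algebraMap R' (MvPolynomial (Fin m) R'))] (Rψ' : Dual.D (MvPolynomial (Fin m) R') ⥤ Dual.D (R' ⊗[R] A)) (adj' : DRing.restrictD ψ'.toRingHom ⊣ Rψ') [DRing.HasLBaseChange (Algebra.TensorProduct.includeRight : A →ₐ[R] R' ⊗[R] A).toRingHom] [DRing.HasLBaseChange (algebraMap R R')] (K : Dual.D R)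 (c : ℤ) (hK : ∀ i : ℤ, i < c → Subsingleton (Dual.HD R K i)) : Nonempty ((DRing.LBaseChange (Algebra.TensorProduct.includeRight : A →ₐ[R] R' ⊗[R] A).toRingHom).obj (Dual2.shriekVia n Rψ K) ≅ Dual2.shriekVia m Rψ' ((DRing.LBaseChange (algebraMap R R')).obj K)) := by
  have : K.IsGE c := ShriekFBC.isGE_of_HD K c hK
  have := LBC.hasLBaseChange (algebraMap R' (MvPolynomial (Fin n) R'))
  obtain ⟨ψ'', hψ'', ⟨e⟩⟩ := aux R R' A (RingHom.flat_algebraMap_iff.2 inferInstance) n ψ hψ Rψ adj K c
  obtain ⟨e'⟩ := ShriekIndep.shriekVia_indep R' (R' ⊗[R] A) n ψ'' hψ'' (RAdj.RCoext ψ''.toRingHom)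
    (RAdj.coextAdj _) m ψ' hψ' Rψ' adj' ((DRing.LBaseChange (algebraMap R R')).obj K)
  exact ⟨LBC.lbcShiftIso _ _ _ ≪≫ (shiftFunctor _ (n : ℤ)).mapIso e ≪≫ e'⟩

end Groth.Agent.S1800
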