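import Groth.Statements.S1803
import Groth.Agent.LoccohA.GorBC
import Mathlib.FieldTheory.IntermediateField.Adjoin.Algebra
import Mathlib.RingTheory.LocalRing.ResidueField.Ideal
import Mathlib.RingTheory.TensorProduct.Finite
import Mathlib.RingTheory.FiniteStability

set_option autoImplicit false
universe u
open scoped TensorProduct
open Goren

namespace Groth.Agent.S1803

open Groth.Agent.LoccohA Groth.Agent.Ega4C

/-- The fibre rings of `C → C ⊗[k] k'` are Gorenstein, for `C` of finite type over `k`. -/
theorem isGorensteinRing_fiber (k k' : Type u) [Field k] [Field k'] [Algebra k k'] (C : Type u)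
    [CommRing C] [Algebra k C] [Algebra.FiniteType k C] (p : Ideal C) [p.IsPrime] :
    LocCoh.IsGorensteinRing (p.Fiber (C ⊗[k] k')) := by
  have hN : IsNoetherianRing k' := inferInstance
  have h1 : LocCoh.IsGorensteinRing k' :=
    GorBC.isGorensteinRing_of_isPrincipalIdealRing k'
  have h2 : Algebra.EssFiniteType k p.ResidueField :=
    Algebra.EssFiniteType.comp k C p.ResidueField
  obtain ⟨s, hs⟩ := IntermediateField.fg_top k p.ResidueField
  have h3 := GorBC.isGorensteinRing_tensor_of_fg s hs k' h1
  refine GorBC.isGorensteinRing_of_ringEquiv ?_ h3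
  exact (Algebra.TensorProduct.comm k k' p.ResidueField).toRingEquiv.trans
    (Algebra.TensorProduct.cancelBaseChange k C C p.ResidueField k').symm.toRingEquiv

theorem aux (k k' : Type u) [Field k] [Field k'] [Algebra k k'] (C : Type u) [CommRing C]
    [Algebra k C] [Algebra.FiniteType k C] (p : Ideal C) [p.IsPrime] (q : Ideal (C ⊗[k] k'))
    [q.IsPrime] (hpq : q.comap (algebraMap C (C ⊗[k] k')) = p) :
    LocCoh.IsGorensteinLocalRing (Localization.AtPrime p) ↔
      LocCoh.IsGorensteinLocalRing (Localization.AtPrime q) := by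
  have hNC : IsNoetherianRing C := Algebra.FiniteType.isNoetherianRing k C
  have hNB : IsNoetherianRing (C ⊗[k] k') := by
    have h1 : IsNoetherianRing (k' ⊗[k] C) := Algebra.FiniteType.isNoetherianRing k' _
    exact isNoetherianRing_of_ringEquiv _ (Algebra.TensorProduct.comm k k' C).toRingEquiv
  obtain ⟨Q, hQ, rfl⟩ := FibreTower.exists_prime_fibre p q hpq
  have h := GorBC.isGorensteinLocalRing_localization_iff (B := C ⊗[k] k') p Q
  have h4 : LocCoh.IsGorensteinLocalRing (Localization.AtPrime Q) :=
    (isGorensteinRing_fiber k k' C p).isGorensteinLocalRing_localization Q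
  exact ⟨fun h5 => h.2 ⟨h5, h4⟩, fun h5 => (h.1 h5).1⟩

/-- Stacks Tag 0C03, second assertion, in affine form.  Let k'/k be any field extension, C a k-algebra of finite type, q a prime of C ⊗_k k' and p its contraction to C.  Then C_p is Gorenstein if and only if (C ⊗_k k')_q is Gorenstein. -/
theorem result (k k' : Type u) [Field k] [Field k'] [Algebra k k'] (C : Type u) [CommRing C] [Algebra k C] [Algebra.FiniteType k C] (q : PrimeSpectrum (C ⊗[k] k')) : LocCoh.IsGorensteinLocalRing (Localization.AtPrime (q.asIdeal.comap (algebraMap C (C ⊗[k] k')))) ↔ LocCoh.IsGorensteinLocalRing (Localization.AtPrime q.asIdeal) :=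
  aux k k' C _ q.asIdeal rfl

end Groth.Agent.S1803
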