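import Groth.Statements.S1806
import Groth.Agent.LoccohB.LCLoc
import Mathlib.CategoryTheory.Abelian.Injective.Resolution

set_option autoImplicit false
universe u
open CategoryTheory
open LocCoh

namespace Groth.Agent.S1806

open CategoryTheory.Limits Groth.Agent.LoccohB.GamInj Groth.Agent.LoccohB.LCRes Groth.Agent.LoccohB.LCLoc

section aux

variable {A : Type u} [CommRing A] [IsNoetherianRing A] {M : ModuleCat.{u} A} (R : InjectiveResolution M)

omit [IsNoetherianRing A] in
lemma injTerm (n : ℕ) : Module.Injective A (R.cocomplex.X n) := by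
  rw [Module.injective_iff_injective_object]
  exact R.injective n

/-- enlarging the ideal: if a multiple `g • e` of a cocycle is a boundary of a `J`-torsion element then
`e` can be changed by a boundary to be killed by a power of `g`. -/
lemma step {J : Ideal A} {i : ℕ} {e : R.cocomplex.X i} {g : A}
    {y : R.cocomplex.X (i - 1)} (hy : y ∈ gam J (R.cocomplex.X (i - 1)))
    (hd : (R.cocomplex.d (i - 1) i).hom y = g • e) :
    ∃ z ∈ gam J (R.cocomplex.X (i - 1)), ∃ k : ℕ,
      g ^ k • (e - (R.cocomplex.d (i - 1) i).hom z) = 0 := by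
  obtain ⟨z, k, hz, h⟩ := exists_divide (R.cocomplex.X (i - 1)) (injTerm R (i - 1)) J g y hy
  refine ⟨z, hz, k + 1, ?_⟩
  have h2 := congr_arg (R.cocomplex.d (i - 1) i).hom h
  rw [map_smul, map_sub, map_smul, hd, map_zero] at h2
  rw [pow_succ, mul_smul, smul_sub g, ← neg_sub, smul_neg, h2, neg_zero]

omit [IsNoetherianRing A] in
lemma d_d (i j k : ℕ) (x : R.cocomplex.X i) :
    (R.cocomplex.d j k).hom ((R.cocomplex.d i j).hom x) = 0 := by
  have := congr_arg (fun t => t.hom x) (R.cocomplex.d_comp_d i j k)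
  exact this

/-- a cocycle in `Γ_J` (with `p` minimal over `J`) whose class dies locally can be pushed into a
bigger ideal -/
lemma push {J : Ideal A} {p : Ideal A} [p.IsPrime] (hJ : p ∈ J.minimalPrimes) {i : ℕ}
    (hs : Subsingleton (LocCoh.H (IsLocalRing.maximalIdeal (Localization.AtPrime p)) i
      (LocalizedModule p.primeCompl M)))
    (e : R.cocomplex.X i) (he : e ∈ gam J (R.cocomplex.X i))
    (hd : (R.cocomplex.d i (i + 1)).hom e = 0) :
    ∃ g ∉ p, ∃ z ∈ gam J (R.cocomplex.X (i - 1)),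
      e - (R.cocomplex.d (i - 1) i).hom z ∈ gam (J ⊔ Ideal.span {g}) (R.cocomplex.X i) := by
  obtain ⟨g, hg, y, hy, hyd⟩ := key3 R p J hJ i hs e he hd
  obtain ⟨z, hz, k, hk⟩ := step R hy hyd
  exact ⟨g, hg, z, hz, mem_gam_sup_span (Submodule.sub_mem _ he (map_mem_gam _ hz)) hk⟩

omit [IsNoetherianRing A] in
lemma exists_minimalPrime {J I' : Ideal A} (h : ¬ I' ≤ Ideal.radical J) :
    ∃ p ∈ J.minimalPrimes, ¬ I' ≤ p := by
  by_contra hc
  apply h
  rw [← Ideal.sInf_minimalPrimes]
  refine le_sInf fun p hp => ?_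
  by_contra hp2
  exact hc ⟨p, hp, hp2⟩

end aux

/-- Stacks Tag 0DWV (1),(2).  Let A be a Noetherian ring, I ⊆ I' ideals, M an A-module and i ≥ 0, and let Ψ : H^i_{I'}(M) → H^i_I(M) be the comparison map.  (1) If the local cohomology H^i of M_p at the maximal ideal of A_p vanishes for every prime p ⊇ I with p ⊉ I', then Ψ is surjective.  (2) If the corresponding H^{i−1} vanish, then Ψ is injective.  (Hence Ψ is bijective when both hold.) -/
theorem result (A : Type u) [CommRing A] [IsNoetherianRing A] (I I' : Ideal A) (h : I ≤ I') (M : Type u) [AddCommGroup M] [Module A M] (i : ℕ) : ((∀ p : PrimeSpectrum A, I ≤ p.asIdeal → ¬ I' ≤ p.asIdeal → Subsingleton (LocCoh.H (IsLocalRing.maximalIdeal (Localization.AtPrime p.asIdeal)) i (LocalizedModule p.asIdeal.primeCompl M))) → Function.Surjective ((Dual2.HmapOfLE h i).app (ModuleCat.of A M)).hom) ∧ ((∀ p : PrimeSpectrum A, I ≤ p.asIdeal → ¬ I' ≤ p.asIdeal → ∀ j : ℕ, j + 1 = i → Subsingleton (LocCoh.H (IsLocalRing.maximalIdeal (Localization.AtPrime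 p.asIdeal)) j (LocalizedModule p.asIdeal.primeCompl M))) → Function.Injective ((Dual2.HmapOfLE h i).app (ModuleCat.of A M)).hom) := by
  obtain ⟨R⟩ : Nonempty (InjectiveResolution (ModuleCat.of A M)) :=
    (inferInstance : HasInjectiveResolution (ModuleCat.of A M)).out
  constructor
  · intro H x
    obtain ⟨e, rfl⟩ := lc_surjective R I i x
    -- ideals J containing I such that the class comes from Γ_J
    let S : Set (Ideal A) := {J | I ≤ J ∧ ∃ e' : ZG R I i, e'.1 ∈ gam J (R.cocomplex.X i) ∧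
      lc R I i e' = lc R I i e}
    have hS : S.Nonempty := ⟨I, le_rfl, e, e.2.1, rfl⟩
    obtain ⟨J, ⟨hIJ, e', he', hee⟩, hmax⟩ := set_has_maximal_iff_noetherian.2
      (inferInstance : IsNoetherian A A) S hS
    by_cases hc : I' ≤ Ideal.radical J
    · have h1 : e'.1 ∈ gam I' (R.cocomplex.X i) := gam_le_of_le_radical hc he'
      refine ⟨lc R I' i ⟨e'.1, h1, e'.2.2⟩, ?_⟩
      rw [← hee]
      exact HmapOfLE_lc R i h _
    · exfalso
      obtain ⟨p, hp, hpI⟩ := exists_minimalPrime hc
      have hpp : p.IsPrime := hp.1.1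
      have hs := H ⟨p, hpp⟩ (hIJ.trans hp.1.2) hpI
      obtain ⟨g, hg, z, hz, hez⟩ := push R hp hs e'.1 he' e'.2.2
      have hz' : z ∈ gam I (R.cocomplex.X (i - 1)) := gam_antitone hIJ hz
      let b : ZG R I i := ⟨(R.cocomplex.d (i - 1) i).hom z, map_mem_gam _ hz', d_d R _ _ _ z⟩
      have hb : lc R I i b = 0 := (lc_eq_zero_iff R b).2 ⟨z, hz', rfl⟩
      refine hmax (J ⊔ Ideal.span {g}) ⟨hIJ.trans le_sup_left, e' - b, hez, ?_⟩ ?_
      · rw [map_sub, hb, sub_zero, hee]
      · refine lt_of_le_of_ne le_sup_left ?_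
        intro heq
        apply hg
        apply hp.1.2
        rw [heq]
        exact Ideal.mem_sup_right (Ideal.mem_span_singleton_self g)
  · intro H
    rw [injective_iff_map_eq_zero]
    intro x hx
    obtain ⟨e, rfl⟩ := lc_surjective R I' i x
    have hx' : lc R I i ⟨e.1, gam_antitone h e.2.1, e.2.2⟩ = 0 := by
      rw [← HmapOfLE_lc R i h]
      exact hx
    rw [lc_eq_zero_iff] at hx'
    rw [lc_eq_zero_iff]
    let S : Set (Ideal A) := {J | I ≤ J ∧ J ≤ I' ∧ ∃ y ∈ gam J (R.cocomplex.X (i - 1)),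
      (R.cocomplex.d (i - 1) i).hom y = e.1}
    have hS : S.Nonempty := ⟨I, le_rfl, h, hx'⟩
    obtain ⟨J, ⟨hIJ, hJI, y, hy, hye⟩, hmax⟩ := set_has_maximal_iff_noetherian.2
      (inferInstance : IsNoetherian A A) S hS
    by_cases hc : I' ≤ Ideal.radical J
    · exact ⟨y, gam_le_of_le_radical hc hy, hye⟩
    · rcases i with _ | i
      · refine ⟨0, Submodule.zero_mem _, ?_⟩
        rw [map_zero, ← hye]
        have h0 : R.cocomplex.d (0 - 1) 0 = 0 := R.cocomplex.shape _ _ (by simp)
        rw [h0]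
        rfl
      exfalso
      obtain ⟨p, hp, hpI⟩ := exists_minimalPrime hc
      have hpp : p.IsPrime := hp.1.1
      have hs := H ⟨p, hpp⟩ (hIJ.trans hp.1.2) hpI i rfl
      -- an element of I' outside p
      obtain ⟨t, htI, htp⟩ := Set.not_subset.1 hpI
      obtain ⟨n, hn⟩ := e.2.1
      have htn : t ^ n • e.1 = 0 := hn _ (Ideal.pow_mem_pow htI n)
      -- t^n y is a cocycle
      obtain ⟨y, hy, hye⟩ : ∃ y ∈ gam J (R.cocomplex.X i), (R.cocomplex.d i (i + 1)).hom y = e.1 :=
        ⟨y, hy, hye⟩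
      obtain ⟨g, hg, v, hv, hvd⟩ := key3 R p J hp i hs (t ^ n • y) (Submodule.smul_mem _ _ hy)
        (by rw [map_smul, hye, htn])
      have hG : (R.cocomplex.d (i - 1) i).hom ((g ^ n * t) • v) = (g ^ (n + 1) * t ^ (n + 1)) • y := by
        rw [map_smul, hvd, ← mul_smul, ← mul_smul]
        congr 1
        ring
      obtain ⟨z, hz, k, hk⟩ := step R (Submodule.smul_mem _ (g ^ n * t) hv) hG
      have hgt : g ^ (n + 1) * t ^ (n + 1) ∉ p := by
        intro hmem
        rcases hpp.mem_or_mem hmem with h1 | h1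
        · exact hg (hpp.mem_of_pow_mem _ h1)
        · exact htp (hpp.mem_of_pow_mem _ h1)
      refine hmax (J ⊔ Ideal.span {g ^ (n + 1) * t ^ (n + 1)}) ⟨hIJ.trans le_sup_left, ?_,
        y - (R.cocomplex.d (i - 1) i).hom z,
        mem_gam_sup_span (Submodule.sub_mem _ hy (map_mem_gam _ hz)) hk, ?_⟩ ?_
      · refine sup_le hJI ?_
        rw [Ideal.span_singleton_le_iff_mem]
        exact Ideal.mul_mem_left _ _ (Ideal.pow_mem_of_mem _ htI _ (Nat.succ_pos _))
      · change (R.cocomplex.d i (i + 1)).hom _ = e.1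
        rw [map_sub, d_d, sub_zero, hye]
      · refine lt_of_le_of_ne le_sup_left ?_
        intro heq
        apply hgt
        apply hp.1.2
        rw [heq]
        exact Ideal.mem_sup_right (Ideal.mem_span_singleton_self _)

end Groth.Agent.S1806
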