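import Groth.Statements.S1809
import Groth.Agent.LoccohB.CMSch

set_option autoImplicit false
universe u
open CategoryTheory CategoryTheory.Limits AlgebraicGeometry
attribute [local instance] HasDerivedCategory.standard
open Dual

namespace Groth.Agent.S1809

open Groth.Agent.LoccohB.CMSch

theorem cm_stalk_iff {X : Scheme.{u}} (A : Type u) [CommRing A] (j : Spec (CommRingCat.of A) ⟶ X)
    [IsOpenImmersion j] (p : PrimeSpectrum A) :
    LocCoh.IsCohenMacaulayLocalRing (X.presheaf.stalk (j p)) ↔
      LocCoh.IsCohenMacaulayLocalRing (Localization.AtPrime p.asIdeal) := by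
  have e1 : X.presheaf.stalk (j p) ≃+* (Spec (CommRingCat.of A)).presheaf.stalk p :=
    (asIso (j.stalkMap p)).commRingCatIsoToRingEquiv
  have e2 : (Spec (CommRingCat.of A)).presheaf.stalk p ≃+* Localization.AtPrime p.asIdeal :=
    (StructureSheaf.stalkIso A p).toRingEquiv.symm
  exact isCM_iff_of_ringEquiv (e1.trans e2)

theorem exists_chart {X : Scheme.{u}} [IsLocallyNoetherian X] (x : X) :
    ∃ (A : Type u) (_ : CommRing A) (_ : IsNoetherianRing A) (j : Spec (CommRingCat.of A) ⟶ X)
      (_ : IsOpenImmersion j) (p : PrimeSpectrum A), j p = x := by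
  obtain ⟨U, hU, hx, -⟩ := exists_isAffineOpen_mem_and_subset (x := x) (U := ⊤) trivial
  exact ⟨Γ(X, U), inferInstance, IsLocallyNoetherian.component_noetherian ⟨U, hU⟩, hU.fromSpec,
    inferInstance, hU.primeIdealOf ⟨x, hx⟩, hU.fromSpec_primeIdealOf ⟨x, hx⟩⟩

/-- Stacks Tag 0AWT (2),(3).  Let X be a locally Noetherian scheme and ω a dualizing complex on X (affine-locally the derived tilde of a dualizing complex of the ring; the exactness of restriction to opens and of M ↦ M~ being assumed as instances).  Then for every point x the local ring O_{X,x} is Cohen–Macaulay if and only if exactly one cohomology sheaf of ω has nonzero stalk at x; and the set of points with Cohen–Macaulay local ring is open. -/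
theorem result (X : Scheme.{u}) [IsLocallyNoetherian X] [∀ (U : Scheme.{u}) (j : U ⟶ X) [IsOpenImmersion j], PreservesFiniteLimits (Scheme.Modules.restrictFunctor j)] [∀ (R : CommRingCat.{u}), PreservesFiniteLimits (tilde.functor R)] (ω : DCoh.D X) (hω : Dual2.IsDualizingSch X ω) : (∀ x : X, LocCoh.IsCohenMacaulayLocalRing (X.presheaf.stalk x) ↔ ∃! i : ℤ, Nontrivial ((DCoh.HD ω i).presheaf.stalk x)) ∧ IsOpen {x : X | LocCoh.IsCohenMacaulayLocalRing (X.presheaf.stalk x)} := by
  constructor
  · intro x
    obtain ⟨A, _, _, j, _, p, rfl⟩ := exists_chart x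
    obtain ⟨L, hL, ⟨e⟩⟩ := hω A j
    rw [cm_stalk_iff A j p, cm_iff_atPrime A L hL p]
    refine existsUnique_congr fun i => ?_
    exact (nontrivial_stalk_iff A j ω L e p i).symm
  · rw [isOpen_iff_forall_mem_open]
    intro x hx
    obtain ⟨A, _, _, j, _, p, rfl⟩ := exists_chart x
    obtain ⟨L, hL, ⟨e⟩⟩ := hω A j
    refine ⟨j '' {q : PrimeSpectrum A | LocCoh.IsCohenMacaulayLocalRing (Localization.AtPrime q.asIdeal)},
      ?_, ?_, ?_⟩
    · rintro _ ⟨q, hq, rfl⟩
      exact (cm_stalk_iff A j q).2 hq
    · exact j.isOpenEmbedding.isOpenMap _ (S0372.result A L hL).1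
    · exact ⟨p, (cm_stalk_iff A j p).1 hx, rfl⟩

end Groth.Agent.S1809
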