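import Groth.Statements.S1815
import Groth.Agent.LoccohB.RlimComp4
-- import your own Groth.Agent.* helpers here

set_option autoImplicit false
universe u
open CategoryTheory CategoryTheory.Limits
attribute [local instance] HasDerivedCategory.standard
open LocCoh

namespace Groth.Agent.S1815

open Groth.Agent.LoccohB Pretriangulated

theorem aux (A : Type u) [CommRing A] [IsNoetherianRing A] (I J : Ideal A)
    [DRing.HasDerivedCompletion I] (M : Type u) [AddCommGroup M] [Module A M] [Module.Finite A M]
    [HasProduct (RlimComp.KM I J M)] :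
    (∃ (a : ((DRing.derivedCompletion I).obj ((DRing.RgammaI J).obj (Dual.inD A M))).obj ⟶
        ∏ᶜ (RlimComp.KM I J M)) (c : ∏ᶜ (RlimComp.KM I J M) ⟶
        (((DRing.derivedCompletion I).obj
          ((DRing.RgammaI J).obj (Dual.inD A M))).obj)⟦(1 : ℤ)⟧),
      Triangle.mk a (RlimComp.δM I J M) c ∈ distTriang (Dual.D A)) ∧
    ∀ i : ℤ, i < 0 → Subsingleton (Dual.HD A ((DRing.derivedCompletion I).obj
      ((DRing.RgammaI J).obj (Dual.inD A M))).obj i) := by
  obtain ⟨N, α, γ, hT, ⟨e⟩⟩ := RlimComp.main I J M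
  have hT' : Triangle.mk (e.hom ≫ α) (RlimComp.δM I J M) (γ ≫ e.inv⟦(1 : ℤ)⟧') ∈
      distTriang (Dual.D A) := by
    refine isomorphic_distinguished _ hT _
      (Triangle.isoMk _ _ e (Iso.refl _) (Iso.refl _) ?_ ?_ ?_)
    · exact Category.comp_id _
    · exact (Category.comp_id _).trans (Category.id_comp _).symm
    · change (γ ≫ e.inv⟦(1 : ℤ)⟧') ≫ e.hom⟦(1 : ℤ)⟧' = 𝟙 _ ≫ γ
      rw [Category.assoc, ← Functor.map_comp, e.inv_hom_id, CategoryTheory.Functor.map_id,
        Category.comp_id, Category.id_comp]
  refine ⟨⟨_, _, hT'⟩, fun i hi => ?_⟩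
  have h1 := InjRep.isZero_homology_of_subsingleton _ i (subsingleton_of_forall_eq 0
    fun x => RlimComp.eq_zero_of_rlim (RlimComp.KM I J M) hT' (Dual.inD A A) i
      (fun n x => RlimComp.hom_eq_zero J _ i hi x)
      (fun n x => RlimComp.hom_eq_zero J _ (i - 1) (by omega) x) x)
  exact ModuleCat.subsingleton_of_isZero h1

/-- Stacks Tag 0EEW (1) and its final assertion.  Let I and J be ideals of a Noetherian ring A and M a finite A-module; assume RΓ_J exists as a total right derived functor, derived I-completion exists, and D(A) has countable products.  Then the derived I-completion of RΓ_J(M) is a derived limit of the inverse system n ↦ RΓ_J(M/I^nM) (transition maps induced by the quotient maps), and its cohomology vanishes in negative degrees. -/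
theorem result (A : Type u) [CommRing A] [IsNoetherianRing A] (I J : Ideal A) [DRing.HasRgammaI J] [DRing.HasDerivedCompletion I] [∀ K : ℕ → Dual.D A, HasProduct K] (M : Type u) [AddCommGroup M] [Module A M] [Module.Finite A M] : DCoh.IsRlim (fun n : ℕ => (DRing.RgammaI J).obj (Dual.inD A (M ⧸ (I ^ n • ⊤ : Submodule A M)))) (fun n : ℕ => (DRing.RgammaI J).map ((DerivedCategory.singleFunctor (ModuleCat.{u} A) 0).map (ModuleCat.ofHom (Submodule.mapQ (I ^ (n + 1) • ⊤ : Submodule A M) (I ^ n • ⊤ : Submodule A M) LinearMap.id (Submodule.smul_mono (Ideal.pow_le_pow_right (Nat.le_succ n)) le_rfl))))) ((DRing.derivedCompletion I).obj ((DRing.RgammaI J).obj (Dual.inD A M))).obj ∧ ∀ i : ℤ, i < 0 → Subsingleton (Dual.HD A ((DRing.derivedCompletion I).obj ((DRing.RgammaI J).obj (Dual.inD A M))).obj i) := by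
  exact aux A I J M

end Groth.Agent.S1815
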