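import Groth.Statements.S1820
import Groth.Agent.LoccohB.RelT2
import Groth.Agent.LoccohB.FlatPerf
-- import your own Groth.Agent.* helpers here

set_option autoImplicit false
universe u
open CategoryTheory
attribute [local instance] HasDerivedCategory.standard
open Dual2

namespace Groth.Agent.S1820

/-- Stacks Tag 0BZU, for φ flat of finite type (a perfect ring map).  Let R → A be a ring map between Noetherian rings which is flat and of finite type, where φ^!(K) is formed from a presentation ψ : R[x_1, …, x_n] → A as RHom_P(A, K ⊗^L_R P)[n], assuming the derived base change to P exists and taking for RHom_P(A, −) a right adjoint of restriction of scalars along ψ; let W be a complex of A-modules representing ω_{A/R} = φ^!(R).  Assuming the derived base change D(R) → D(A) and the derived tensor product − ⊗^L_A W exist, for every K in D(R) there is an isomorphism φ^!(K) ≅ (K ⊗^L_R A) ⊗^L_A W. -/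
theorem result (R A : Type u) [CommRing R] [CommRing A] [IsNoetherianRing R] [IsNoetherianRing A] [Algebra R A] [Module.Flat R A] (n : ℕ) (ψ : MvPolynomial (Fin n) R →ₐ[R] A) (hψ : Function.Surjective ψ) [DRing.HasLBaseChange (algebraMap R (MvPolynomial (Fin n) R))] (Rψ : Dual.D (MvPolynomial (Fin n) R) ⥤ Dual.D A) (adj : DRing.restrictD ψ.toRingHom ⊣ Rψ) (W : DRing.Cx A) (hW : Nonempty (DRing.toD W ≅ Dual2.shriekVia n Rψ (Dual.inD R R))) [DRing.HasLBaseChange (algebraMap R A)] [DRing.HasLTensorCx A W] (K : Dual.D R) : Nonempty (Dual2.shriekVia n Rψ K ≅ (DRing.LTensorCx A W).obj ((DRing.LBaseChange (algebraMap R A)).obj K)) := by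
  have hP := Groth.Agent.LoccohB.FlatPerf.isPerfect_of_flat_of_noetherian ψ hψ
  have := Groth.Agent.LoccohB.LBC.hasLBaseChange ψ.toRingHom
  let _ := adj.rightAdjointCommShift ℤ
  obtain ⟨e0⟩ := hW
  let eR : (DRing.LBaseChange (algebraMap R (MvPolynomial (Fin n) R))).obj (Dual.inD R R) ≅
      Dual.inD (MvPolynomial (Fin n) R) (MvPolynomial (Fin n) R) :=
    Groth.Agent.LoccohB.LBC.lbcSelfIso (algebraMap R (MvPolynomial (Fin n) R)) 0
  let e : DerivedCategory.Q.obj W ≅ Rψ.obj
      ((Dual.inD (MvPolynomial (Fin n) R) (MvPolynomial (Fin n) R))⟦(n : ℤ)⟧) :=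
    e0 ≪≫ (shiftFunctor _ (n : ℤ)).mapIso (Rψ.mapIso eR) ≪≫
      ((Rψ.commShiftIso (n : ℤ)).app _).symm
  obtain ⟨e1⟩ := Groth.Agent.LoccohB.RelT.relT_shift ψ.toRingHom adj hP W n e
    ((DRing.LBaseChange (algebraMap R (MvPolynomial (Fin n) R))).obj K)
  have hcomp : algebraMap R A = ψ.toRingHom.comp (algebraMap R (MvPolynomial (Fin n) R)) :=
    ψ.comp_algebraMap.symm
  exact ⟨((Rψ.commShiftIso (n : ℤ)).app _).symm ≪≫ e1.symm ≪≫
    (DRing.LTensorCx A W).mapIso ((Groth.Agent.LoccohB.LBC.lbcComp
      (algebraMap R (MvPolynomial (Fin n) R)) ψ.toRingHom (algebraMap R A) hcomp).app K)⟩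

end Groth.Agent.S1820
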