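import Groth.Statements.S1824
import Groth.Agent.LoccohB.ProjDual
-- import your own Groth.Agent.* helpers here

set_option autoImplicit false
universe u
open CategoryTheory CategoryTheory.Limits AlgebraicGeometry
attribute [local instance] HasDerivedCategory.standard
open Dual

namespace Groth.Agent.S1824

/-- Stacks Tag 0A9W, case of the trivial bundle over an affine base.  Let R be a ring and f : P^n_R → Spec R the projection; let Rf_* on D_QCoh be as in Tag 0A9E (assumed to exist and to preserve quasi-coherence of cohomology), a a right adjoint of it, and O an object of D_QCoh(Spec R) isomorphic to the structure sheaf in degree 0.  Then a(O) is isomorphic in D(O_{P^n_R}) to the twisting sheaf O(−n−1) placed in degree −n. -/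
theorem result (n : ℕ) (R : Type u) [CommRing R] [DCoh.HasRpush (CohB1.ProjSpace.toSpec n R)] (h : ∀ K : DCoh.D (CohB1.ProjSpace n R), DCoh.IsQCohD K → DCoh.IsQCohD ((DCoh.Rpush (CohB1.ProjSpace.toSpec n R)).obj K)) (a : DCoh.DQCoh (Spec (CommRingCat.of R)) ⥤ DCoh.DQCoh (CohB1.ProjSpace n R)) (adj : (ObjectProperty.lift DCoh.IsQCohD (ObjectProperty.ι DCoh.IsQCohD ⋙ DCoh.Rpush (CohB1.ProjSpace.toSpec n R)) (fun K => h K.obj K.property)) ⊣ a) (O : DCoh.DQCoh (Spec (CommRingCat.of R))) (hO : Nonempty (O.obj ≅ DCoh.inD (Spec (CommRingCat.of R)) (Coh.structureModule (Spec (CommRingCat.of R))))) : Nonempty ((a.obj O).obj ≅ (DCoh.inD (CohB1.ProjSpace n R) (Twist.twistProjSpace n R (-((n : ℤ) + 1))))⟦(n : ℤ)⟧) := by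
  obtain ⟨eO⟩ := hO
  have hq : ∀ d : ℤ, DCoh.IsQCohD (DCoh.inD (CohB1.ProjSpace n R) (Twist.twistProjSpace n R d)) :=
    fun d => Groth.Agent.PerfA.QCohD.isQCohD_inD _ (Groth.Agent.PerfB.TwistDer.isQCoh_tw n R d)
  let N : DCoh.DQCoh (CohB1.ProjSpace n R) :=
    ⟨(DCoh.inD (CohB1.ProjSpace n R) (Twist.twistProjSpace n R (-((n : ℤ) + 1))))⟦(n : ℤ)⟧,
      Groth.Agent.PerfA.QCohD.isQCohD_shift (hq _) _⟩
  obtain ⟨tr⟩ := Groth.Agent.LoccohB.ProjDual.exists_trace n R (h _ N.property)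
  obtain ⟨e⟩ := Groth.Agent.LoccohB.AdjIso.nonempty_iso_of_trace adj
    (fun d : Fin (n + 1) => DCoh.inD (CohB1.ProjSpace n R)
      (Twist.twistProjSpace n R (-((d : ℕ) : ℤ))))
    (fun d m => Groth.Agent.PerfA.QCohD.isQCohD_shift (hq _) _) N O (tr ≪≫ eO.symm)
    (fun Z φ g h' hT => Groth.Agent.PerfA.QCohD.isQCohD_ext₃ _ hT N.property (a.obj O).property)
    (fun Z hZ h0 => Groth.Agent.S1067.result n R Z hZ
      (fun d hd m φ => h0 ⟨d, by omega⟩ m φ))
    (fun d m => Groth.Agent.LoccohB.ProjDual.bijective_map_Rpush n R h d (by omega) m)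
  exact ⟨e.symm⟩

end Groth.Agent.S1824
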