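import Groth.Statements.S1825
import Groth.Agent.Flat2F.DualBC
import Groth.Agent.Hensel.Lazard
import Groth.Agent.Hensel.Exist

set_option autoImplicit false
universe u
open CategoryTheory
attribute [local instance] HasDerivedCategory.standard
open Dual

namespace Groth.Agent.S1825

/-- Stacks Tag 0DWD (3), henselization.  Let A be a Noetherian local ring, B a henselization of A and ω a dualizing complex for A; assume the derived base change D(A) → D(B) exists.  Then the base change of ω is a dualizing complex for B. -/
theorem result (A B : Type u) [CommRing A] [IsLocalRing A] [IsNoetherianRing A] [CommRing B] [IsLocalRing B] [IsNoetherianRing B] [Algebra A B] [IsLocalHom (algebraMap A B)] [Hensel.IsHenselization A B] [DRing.HasLBaseChange (algebraMap A B)] (ω : Dual.D A) (hω : Dual.IsDualizing A ω) : Dual.IsDualizing B ((DRing.LBaseChange (algebraMap A B)).obj ω) := by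
  have hfl := (Groth.Agent.Hensel.Lazard.laz_of_isHenselization A B).flat
  have h : (algebraMap A B).Flat := RingHom.flat_algebraMap_iff.2 hfl
  refine Groth.Agent.LoccohB.HomBC.isDualizing_of_iso
    ((Groth.Agent.LoccohB.FlatLBC.LBaseChangeIso (algebraMap A B) h).symm.app ω)
    (Groth.Agent.Flat2F.DualBC.isDualizing_flatBC_of_maximal B h hω fun n hn => ?_)
  refine ⟨IsLocalRing.maximalIdeal A, ?_⟩
  rw [Groth.Agent.Hensel.Exist.map_maximalIdeal_of_isHenselization A B]
  exact (IsLocalRing.eq_maximalIdeal hn).symm

end Groth.Agent.S1825
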