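import Groth.Statements.S1828
-- import your own Groth.Agent.* helpers here
import Groth.Agent.CurvesB.LciShriek

set_option autoImplicit false
universe u
open CategoryTheory
attribute [local instance] HasDerivedCategory.standard
open Dual2

namespace Groth.Agent.S1828

open Groth.Agent.LoccohB Groth.Agent.CurvesB.LciShriek in
theorem aux (R A : Type u) [CommRing R] [CommRing A] [IsNoetherianRing R] [Algebra R A] (m : ℕ)
    (f : MvPolynomial (Fin m) R →ₐ[R] A) (hf : Function.Surjective f)
    (hI : LCI.IsKoszulRegularIdeal (RingHom.ker f.toRingHom))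
    (Rf : Dual.D (MvPolynomial (Fin m) R) ⥤ Dual.D A) (adj : DRing.restrictD f.toRingHom ⊣ Rf)
    [hL : ∀ f : A, DRing.HasLBaseChange (algebraMap A (Localization.Away f))] (q : PrimeSpectrum A) :
    ∃ (b : A) (_ : b ∉ q.asIdeal) (c : ℤ), Nonempty ((DRing.LBaseChange (algebraMap A (Localization.Away b))).obj
      (Rf.obj (Dual.inD (MvPolynomial (Fin m) R) (MvPolynomial (Fin m) R))) ≅
        (Dual.inD (Localization.Away b) (Localization.Away b))⟦c⟧) := by
  obtain ⟨l, hl, -, -, hIl⟩ := GorLci.exists_isWeaklyRegular_atPrime (RingHom.ker f.toRingHom) hI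
    (q.asIdeal.comap f.toRingHom) (Ideal.ker_le_comap _)
  obtain ⟨g, l', hg, H⟩ := Flat2H.RegSpread.exists_away_generated_by_weaklyRegular (q.asIdeal.comap f.toRingHom)
    (RingHom.ker f.toRingHom) (Localization.AtPrime (q.asIdeal.comap f.toRingHom)) l hl hIl
  obtain ⟨h1, h2⟩ := H (Localization.Away g) (Submonoid.powers g) (Submonoid.mem_powers g)
  let _ : Algebra (MvPolynomial (Fin m) R) A := f.toRingHom.toAlgebra
  have hloc : IsLocalization (Algebra.algebraMapSubmonoid A (Submonoid.powers g))
      (Localization.Away (f.toRingHom g)) := by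
    have : Algebra.algebraMapSubmonoid A (Submonoid.powers g) = Submonoid.powers (f.toRingHom g) :=
      Algebra.algebraMapSubmonoid_powers g
    rw [this]
    infer_instance
  let _ : Algebra (Localization.Away g) (Localization.Away (f.toRingHom g)) :=
    (IsLocalization.map (M := Submonoid.powers g) (T := Algebra.algebraMapSubmonoid A (Submonoid.powers g))
      (Localization.Away (f.toRingHom g)) f.toRingHom (Submonoid.le_comap_map _)).toAlgebra
  have : IsScalarTower (MvPolynomial (Fin m) R) (Localization.Away g) (Localization.Away (f.toRingHom g)) := by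
    refine IsScalarTower.of_algebraMap_eq fun x => ?_
    exact (IsLocalization.map_eq (M := Submonoid.powers g)
      (T := Algebra.algebraMapSubmonoid A (Submonoid.powers g)) (Submonoid.le_comap_map _) x).symm
  exact ⟨f.toRingHom g, hg, _, local_iso (MvPolynomial (Fin m) R) A (Localization.Away g)
    (Localization.Away (f.toRingHom g)) (Submonoid.powers g) hf adj (l'.map (algebraMap _ _)) h1 h2⟩

/-- Stacks Tag 0E4B, first assertion, with invertibility spelled out as in Tag 0FNT (2).  Let R → A be a local complete intersection homomorphism of Noetherian rings, where φ^!(K) is formed from a presentation ψ : R[x_1, …, x_n] → A as RHom_P(A, K ⊗^L_R P)[n], assuming the derived base change to P exists and taking for RHom_P(A, −) a right adjoint of restriction of scalars along ψ, and ω_{A/R} = φ^!(R); assume the derived base change functors to the rings A_f exist.  Then for every prime q of A there are f ∉ q and an integer m with ω_{A/R} ⊗ A_f ≅ A_f[m] in D(A_f). -/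
theorem result (R A : Type u) [CommRing R] [CommRing A] [IsNoetherianRing R] [IsNoetherianRing A] [Algebra R A] (hl : LCI.IsLCI R A) (n : ℕ) (ψ : MvPolynomial (Fin n) R →ₐ[R] A) (hψ : Function.Surjective ψ) [DRing.HasLBaseChange (algebraMap R (MvPolynomial (Fin n) R))] (Rψ : Dual.D (MvPolynomial (Fin n) R) ⥤ Dual.D A) (adj : DRing.restrictD ψ.toRingHom ⊣ Rψ) [hL : ∀ f : A, DRing.HasLBaseChange (algebraMap A (Localization.Away f))] (q : PrimeSpectrum A) : ∃ (f : A) (_ : f ∉ q.asIdeal) (m : ℤ), Nonempty ((DRing.LBaseChange (algebraMap A (Localization.Away f))).obj (Dual2.shriekVia n Rψ (Dual.inD R R)) ≅ (Dual.inD (Localization.Away f) (Localization.Away f))⟦m⟧) := by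
  obtain ⟨-, m, f, hf, hI⟩ := hl
  obtain ⟨b, hb, c, ⟨e⟩⟩ := aux R A m f hf hI _ (Groth.Agent.LoccohB.RAdj.coextAdj f.toRingHom) q
  obtain ⟨e'⟩ := Groth.Agent.CurvesB.LciShriek.indep ψ hψ f hf adj (Groth.Agent.LoccohB.RAdj.coextAdj f.toRingHom)
  refine ⟨b, hb, c + m, ⟨(DRing.LBaseChange (algebraMap A (Localization.Away b))).mapIso
    ((shiftFunctor _ (n : ℤ)).mapIso (Rψ.mapIso (Groth.Agent.LoccohB.LBC.lbcSelfIso _ 0)) ≪≫ e') ≪≫
      Groth.Agent.LoccohB.LBC.lbcShiftIso _ _ _ ≪≫ (shiftFunctor _ (m : ℤ)).mapIso e ≪≫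
      ((shiftFunctorAdd' _ c (m : ℤ) _ rfl).app _).symm⟩⟩

end Groth.Agent.S1828
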