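import Groth.Statements.S1830
import Groth.Agent.LoccohB.GorFibre3

set_option autoImplicit false
universe u
open CategoryTheory
open scoped TensorProduct
attribute [local instance] HasDerivedCategory.standard
open Goren

namespace Groth.Agent.S1830

/-- Stacks Tag 0C15 in affine form (a syntomic, i.e. flat local complete intersection, ring map is a Gorenstein morphism).  Let A → B be a flat local complete intersection homomorphism of rings.  Then for every prime p of A the fibre ring B ⊗_A κ(p) is a Gorenstein ring. -/
theorem result (A B : Type u) [CommRing A] [CommRing B] [Algebra A B] [Module.Flat A B] (hl : LCI.IsLCI A B) (p : PrimeSpectrum A) : LocCoh.IsGorensteinRing (B ⊗[A] p.asIdeal.ResidueField) := by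
  exact Groth.Agent.LoccohB.GorFibre3.isGorensteinRing_tensor_of_flat_isLCI A B
    p.asIdeal.ResidueField hl (Groth.Agent.LoccohB.GorBasic.isGorensteinRing_of_field _)

end Groth.Agent.S1830
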