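import Groth.Statements.S1831
import Groth.Agent.CycA.HerbrandPow

set_option autoImplicit false
universe u v
open CycAlg

namespace Groth.Agent.S1831

/-- Stacks Tag 0EAB: if φ is an endomorphism of M with φ^n = 0 (n > 0) and ker φ / im φ^(n-1) has finite length, then for each 0 ≤ i ≤ n the (2,1)-periodic complex (M, φ^i, φ^(n-i)) has finite-length cohomology modules and its Herbrand quotient vanishes. -/
theorem result {R : Type u} [CommRing R] {M : Type v} [AddCommGroup M] [Module R M] (φ : M →ₗ[R] M) (n : ℕ) (hn : 0 < n) (hφ : φ ^ n = 0) (hfin : Module.length R (CycAlg.perH φ (φ ^ (n - 1))) < ⊤) (i : ℕ) (hi : i ≤ n) : CycAlg.FinCoh R (φ ^ i) (φ ^ (n - i)) ∧ CycAlg.herbrand R (φ ^ i) (φ ^ (n - i)) = 0 :=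
  Groth.Agent.CycA.HerbrandPow.main φ n hn hφ hfin i hi

end Groth.Agent.S1831
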