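import Groth.Statements.S1834
import Groth.Agent.CycA.FinExt

set_option autoImplicit false
universe u
open CycAlg

namespace Groth.Agent.S1834

section Aux

open IsLocalRing Groth.Agent.CycA.FinExt

theorem isFinExt_self (R : Type u) [CommRing R] (I : Ideal R) : CycAlg.IsFinExt R R I :=
  ⟨fun _ _ h => h, inferInstance, 0, fun r _ b => ⟨r • b, rfl⟩⟩

theorem aux (R : Type u) [CommRing R] [IsNoetherianRing R] [IsLocalRing R]
    (hR : ringKrullDim R = 1) (a b : R) (ha : a ∈ nonZeroDivisors R) (hb : b ∈ nonZeroDivisors R)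
    (x : R) (hx : x ∈ nonZeroDivisors R) (hxm : x ∈ maximalIdeal R) :
    ∃ (R' : Type u) (_ : CommRing R') (_ : Algebra R R'),
      CycAlg.IsFinExt R R' (IsLocalRing.maximalIdeal R) ∧ ∃ t a' b' : R',
        t ∈ nonZeroDivisors R' ∧ a' ∈ nonZeroDivisors R' ∧ b' ∈ nonZeroDivisors R' ∧
        algebraMap R R' a = t * a' ∧ algebraMap R R' b = t * b' ∧ Ideal.span {a', b'} = ⊤ := by
  obtain ⟨t, a', b', u, v, ht, ha', hb', hu, hv, htu, hau, hbu, h1, h2, h3⟩ :=
    total_gcd hR hx hxm (a := algebraMap R (FractionRing R) a)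
      (b := algebraMap R (FractionRing R) b) isIntegral_algebraMap isIntegral_algebraMap
      (IsLocalization.map_units (FractionRing R) (⟨a, ha⟩ : nonZeroDivisors R))
      (IsLocalization.map_units (FractionRing R) (⟨b, hb⟩ : nonZeroDivisors R))
  let S : Set (FractionRing R) := {t, a', b', u, v}
  have hS : S.Finite := Set.toFinite _
  have hSi : ∀ s ∈ S, IsIntegral R s := by
    intro s hs
    simp only [S, Set.mem_insert_iff, Set.mem_singleton_iff] at hs
    rcases hs with rfl | rfl | rfl | rfl | rfl <;> assumption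
  let B : Subalgebra R (FractionRing R) := Algebra.adjoin R S
  have hfin : Module.Finite R B := Algebra.finite_adjoin_of_finite_of_isIntegral hS hSi
  have hmem : ∀ s ∈ S, s ∈ B := fun s hs => Algebra.subset_adjoin hs
  have hnzd : ∀ (z : B), IsUnit (z : FractionRing R) → z ∈ nonZeroDivisors B := by
    intro z hz
    rw [mem_nonZeroDivisors_iff_right]
    intro w hw
    have : (w : FractionRing R) * z = 0 := congrArg Subtype.val hw
    exact Subtype.ext (by simpa using (hz.mul_left_eq_zero).mp this)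
  refine ⟨B, inferInstance, inferInstance, isFinExt_of_finite hR B,
    ⟨t, hmem t (by simp [S])⟩, ⟨a', hmem a' (by simp [S])⟩, ⟨b', hmem b' (by simp [S])⟩,
    hnzd _ htu, hnzd _ hau, hnzd _ hbu, Subtype.ext h1, Subtype.ext h2, ?_⟩
  rw [Ideal.eq_top_iff_one, Ideal.mem_span_pair]
  exact ⟨⟨u, hmem u (by simp [S])⟩, ⟨v, hmem v (by simp [S])⟩, Subtype.ext h3⟩

end Aux

/-- Stacks Tag 02Q7: let R be a Noetherian local ring of dimension 1 and a, b nonzerodivisors. There is a finite extension ring R ⊆ R' with R'/R killed by a power of the maximal ideal, and nonzerodivisors t, a', b' of R' with a = t a', b = t b' and (a', b') the unit ideal of R'. -/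
theorem result (R : Type u) [CommRing R] [IsNoetherianRing R] [IsLocalRing R] (hR : ringKrullDim R = 1) (a b : R) (ha : a ∈ nonZeroDivisors R) (hb : b ∈ nonZeroDivisors R) : ∃ (R' : Type u) (_ : CommRing R') (_ : Algebra R R'), CycAlg.IsFinExt R R' (IsLocalRing.maximalIdeal R) ∧ ∃ t a' b' : R', t ∈ nonZeroDivisors R' ∧ a' ∈ nonZeroDivisors R' ∧ b' ∈ nonZeroDivisors R' ∧ algebraMap R R' a = t * a' ∧ algebraMap R R' b = t * b' ∧ Ideal.span {a', b'} = ⊤ := by
  by_cases hau : IsUnit a
  · refine ⟨R, inferInstance, inferInstance, isFinExt_self R _, 1, a, b, one_mem _, ha, hb,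
      by simp, by simp, ?_⟩
    rw [Ideal.eq_top_iff_one, Ideal.mem_span_pair]
    obtain ⟨c, hc⟩ := hau.exists_left_inv
    exact ⟨c, 0, by rw [hc]; ring⟩
  · exact aux R hR a b ha hb a ha (by rwa [IsLocalRing.mem_maximalIdeal, mem_nonunits_iff])

end Groth.Agent.S1834
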