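import Groth.Statements.S1835
import Groth.Agent.CycA.FinExt

set_option autoImplicit false
universe u
open CycAlg

namespace Groth.Agent.S1835

section Aux

open IsLocalRing Groth.Agent.CycA

/-- If `b = a ^ m * c` with `c` in an integral extension domain then `b / a ^ m` is integral. -/
theorem isIntegral_div {D E : Type*} [CommRing D] [IsDomain D] [CommRing E] [IsDomain E]
    [Algebra D E] [Algebra.IsIntegral D E] (hinj : Function.Injective (algebraMap D E))
    {K : Type*} [Field K] [Algebra D K] [IsFractionRing D K] (a b : D) (ha : a ≠ 0) (c : E)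
    (h : algebraMap D E b = algebraMap D E a * c) :
    IsIntegral D (algebraMap D K b / algebraMap D K a) := by
  let K' := FractionRing E
  have hinj' : Function.Injective (Algebra.ofId D K') := by
    have : (Algebra.ofId D K' : D → K') = (algebraMap E K') ∘ (algebraMap D E) := by
      funext x
      exact IsScalarTower.algebraMap_apply D E K' x
    rw [this]
    exact (IsFractionRing.injective E K').comp hinj
  let j : K →ₐ[D] K' := IsFractionRing.liftAlgHom (K := K) hinj'
  have hj : Function.Injective j := j.toRingHom.injective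
  rw [← isIntegral_algHom_iff j hj]
  have h1 : j (algebraMap D K b / algebraMap D K a) = algebraMap E K' c := by
    rw [map_div₀, AlgHom.commutes, AlgHom.commutes,
      IsScalarTower.algebraMap_apply D E K', IsScalarTower.algebraMap_apply D E K', h, map_mul]
    have : algebraMap E K' (algebraMap D E a) ≠ 0 := by
      intro h0
      exact ha (hinj (IsFractionRing.injective E K' (by simpa using h0)))
    rw [mul_div_cancel_left₀ _ this]
  rw [h1]
  exact (Algebra.IsIntegral.isIntegral (R := D) c).map (IsScalarTower.toAlgHom D E K')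

end Aux

/-- Stacks Tag 0EAF: let R be a Noetherian local ring of dimension 1, a a nonzerodivisor in the maximal ideal and b a nonzerodivisor. There is an integer n such that whenever b = a^m c in some finite extension ring R ⊆ R', one has m ≤ n. -/
theorem result (R : Type u) [CommRing R] [IsNoetherianRing R] [IsLocalRing R] (hR : ringKrullDim R = 1) (a b : R) (ha : a ∈ nonZeroDivisors R) (ham : a ∈ IsLocalRing.maximalIdeal R) (hb : b ∈ nonZeroDivisors R) : ∃ n : ℕ, ∀ (R' : Type u) [CommRing R'] [Algebra R R'], Function.Injective (algebraMap R R') → Module.Finite R R' → ∀ (m : ℕ) (c : R'), algebraMap R R' b = algebraMap R R' a ^ m * c → m ≤ n := by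
  obtain ⟨q, hq⟩ : (minimalPrimes R).Nonempty := by
    obtain ⟨p, hp, -⟩ := Ideal.exists_minimalPrimes_le (I := (⊥ : Ideal R))
      (J := IsLocalRing.maximalIdeal R) bot_le
    exact ⟨p, hp⟩
  have hqp : q.IsPrime := hq.1.1
  have haq : a ∉ q := fun h => notMem_nonZeroDivisors_of_mem_mem_minimalPrimes h hq ha
  have hbq : b ∉ q := fun h => notMem_nonZeroDivisors_of_mem_mem_minimalPrimes h hq hb
  have hqm : q ≠ IsLocalRing.maximalIdeal R := fun h => haq (h ▸ ham)
  have hdim := Groth.Agent.CycA.FinExt.ringKrullDim_quotient hR q hqm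
  let K := FractionRing (R ⧸ q)
  let D := integralClosure (R ⧸ q) K
  have : IsLocalRing (R ⧸ q) :=
    IsLocalRing.of_surjective' (Ideal.Quotient.mk _) Ideal.Quotient.mk_surjective
  have : IsNoetherianRing D :=
    Groth.Agent.S0556.result (R ⧸ q) hdim K K D (by exact Subtype.coe_injective)
  let abar : R ⧸ q := Ideal.Quotient.mk q a
  let bbar : R ⧸ q := Ideal.Quotient.mk q b
  have habar : abar ≠ 0 := fun h => haq (Ideal.Quotient.eq_zero_iff_mem.mp h)
  have hbbar : bbar ≠ 0 := fun h => hbq (Ideal.Quotient.eq_zero_iff_mem.mp h)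
  have habarm : abar ∈ IsLocalRing.maximalIdeal (R ⧸ q) := by
    rw [IsLocalRing.mem_maximalIdeal, mem_nonunits_iff]
    intro hu
    obtain ⟨c, hc⟩ := hu.exists_right_inv
    obtain ⟨c, rfl⟩ := Ideal.Quotient.mk_surjective c
    have h1 : a * c - 1 ∈ q := by
      rw [← Ideal.Quotient.eq_zero_iff_mem, map_sub, map_mul, map_one]
      exact sub_eq_zero.mpr hc
    have h2 : (1 : R) ∈ IsLocalRing.maximalIdeal R := by
      have h3 := IsLocalRing.le_maximalIdeal hqp.ne_top h1
      have h4 := Ideal.mul_mem_right c _ ham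
      have h5 := sub_mem h4 h3
      rwa [sub_sub_cancel] at h5
    exact (Ideal.ne_top_iff_one _).mp (IsLocalRing.maximalIdeal.isMaximal R).ne_top h2
  let I : Ideal D := Ideal.span {algebraMap (R ⧸ q) D abar}
  have hI : I ≠ ⊤ := by
    obtain ⟨n, hn⟩ := Ideal.exists_maximal D
    intro h
    apply hn.ne_top
    rw [eq_top_iff, ← h, Ideal.span_singleton_le_iff_mem]
    exact Groth.Agent.CycA.FinExtDomain.mem_of_isMaximal (R ⧸ q) K habarm n hn
  have hinf := Ideal.iInf_pow_eq_bot_of_isDomain I hI
  have hinjD : Function.Injective (algebraMap (R ⧸ q) D) := by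
    intro x y hxy
    exact IsFractionRing.injective (R ⧸ q) K (congrArg Subtype.val hxy)
  have hb0 : algebraMap (R ⧸ q) D bbar ∉ (⊥ : Ideal D) := by
    intro h
    exact hbbar (hinjD (by simpa using h))
  rw [← hinf, Ideal.mem_iInf] at hb0
  push Not at hb0
  obtain ⟨n, hn⟩ := hb0
  refine ⟨n, fun R' _ _ hinj hfin m c hbc => ?_⟩
  by_contra hlt
  rw [not_le] at hlt
  apply hn
  obtain ⟨q', -, hq'p, hq'q⟩ := Ideal.exists_ideal_over_prime_of_isIntegral q (⊥ : Ideal R') (by
    rw [← RingHom.ker_eq_comap_bot, (RingHom.injective_iff_ker_eq_bot _).mp hinj]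
    exact bot_le)
  have hlies : q'.LiesOver q := ⟨hq'q.symm⟩
  have hinj' : Function.Injective (algebraMap (R ⧸ q) (R' ⧸ q')) :=
    FaithfulSMul.algebraMap_injective _ _
  have hint : IsIntegral (R ⧸ q) (algebraMap (R ⧸ q) K bbar / algebraMap (R ⧸ q) K (abar ^ m)) := by
    have : Algebra.IsIntegral (R ⧸ q) (R' ⧸ q') := by
      have : Algebra.IsIntegral R (R' ⧸ q') := by
        have h1 : Algebra.IsIntegral R R' := inferInstance
        exact Algebra.IsIntegral.of_surjective (Ideal.Quotient.mkₐ R q')
          (Ideal.Quotient.mkₐ_surjective R q')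
      exact Algebra.IsIntegral.tower_top R
    refine isIntegral_div (E := R' ⧸ q') hinj' (abar ^ m) bbar (pow_ne_zero m habar)
      (Ideal.Quotient.mk q' c) ?_
    have h1 : algebraMap (R ⧸ q) (R' ⧸ q') bbar = Ideal.Quotient.mk q' (algebraMap R R' b) := rfl
    have h2 : algebraMap (R ⧸ q) (R' ⧸ q') abar = Ideal.Quotient.mk q' (algebraMap R R' a) := rfl
    rw [map_pow, h1, h2, hbc, map_mul, map_pow]
  let z : D := ⟨_, hint⟩
  have hz : algebraMap (R ⧸ q) D bbar = algebraMap (R ⧸ q) D abar ^ m * z := by
    apply Subtype.ext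
    have h0 : algebraMap (R ⧸ q) K abar ≠ 0 := by
      intro h
      exact habar (IsFractionRing.injective (R ⧸ q) K (by simpa using h))
    change algebraMap (R ⧸ q) K bbar = (algebraMap (R ⧸ q) K abar) ^ m *
      (algebraMap (R ⧸ q) K bbar / algebraMap (R ⧸ q) K (abar ^ m))
    rw [map_pow, mul_div_assoc', mul_div_cancel_left₀ _ (pow_ne_zero m h0)]
  rw [hz]
  refine Ideal.mul_mem_right _ _ ?_
  exact Ideal.pow_le_pow_right hlt.le (Ideal.pow_mem_pow (Ideal.mem_span_singleton_self _) m)

end Groth.Agent.S1835
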