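import Groth.Statements.S1837
import Mathlib.RingTheory.LocalProperties.Basic
import Mathlib.RingTheory.Localization.BaseChange
import Mathlib.RingTheory.Localization.Finiteness
import Mathlib.RingTheory.Ideal.Operations
import Mathlib.RingTheory.Spectrum.Prime.Basic
import Mathlib.Tactic.LinearCombination
import Mathlib.Tactic.Ring

set_option autoImplicit false
universe u
open TensorProduct
open CycAlg

namespace Groth.Agent.S1837

section glue

universe v w

variable {A : Type u} [CommRing A] {ι : Type v} (D : ι → Type w) [∀ x, CommRing (D x)]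
  [∀ x, Algebra A (D x)]

/-- The subalgebra of those `c` in the product with `I ^ n • c` in the image of `A` for some `n`. -/
def glueAlg (I : Ideal A) : Subalgebra A (∀ x, D x) where
  carrier := {c | ∃ n : ℕ, ∀ g ∈ I ^ n, ∃ a : A, g • c = algebraMap A (∀ x, D x) a}
  mul_mem' := by
    rintro c c' ⟨n, hn⟩ ⟨n', hn'⟩
    refine ⟨n + n', fun g hg => ?_⟩
    rw [pow_add] at hg
    induction hg using Submodule.mul_induction_on' with
    | mem_mul_mem u hu v hv =>
      obtain ⟨a, ha⟩ := hn u hu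
      obtain ⟨a', ha'⟩ := hn' v hv
      exact ⟨a * a', by rw [map_mul, ← ha, ← ha', smul_mul_smul_comm]⟩
    | add u _ v _ h1 h2 =>
      obtain ⟨a, ha⟩ := h1
      obtain ⟨a', ha'⟩ := h2
      exact ⟨a + a', by rw [add_smul, ha, ha', map_add]⟩
  add_mem' := by
    rintro c c' ⟨n, hn⟩ ⟨n', hn'⟩
    refine ⟨n + n', fun g hg => ?_⟩
    obtain ⟨a, ha⟩ := hn g (Ideal.pow_le_pow_right (Nat.le_add_right _ _) hg)
    obtain ⟨a', ha'⟩ := hn' g (Ideal.pow_le_pow_right (Nat.le_add_left _ _) hg)
    exact ⟨a + a', by rw [smul_add, ha, ha', map_add]⟩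
  algebraMap_mem' := fun a => ⟨0, fun g _ => ⟨g * a, by rw [map_mul, Algebra.smul_def]⟩⟩

theorem mem_glueAlg (I : Ideal A) (c : ∀ x, D x) :
    c ∈ glueAlg D I ↔ ∃ n : ℕ, ∀ g ∈ I ^ n, ∃ a : A, g • c = algebraMap A (∀ x, D x) a := Iff.rfl

theorem exists_mem_pow_not_mem {m P : Ideal A} [m.IsMaximal] [P.IsPrime] (h : P ≠ m) (n : ℕ) :
    ∃ g ∈ m ^ n, g ∉ P := by
  by_contra hcon
  push Not at hcon
  have h1 : m ^ n ≤ P := hcon
  have h2 : m ≤ P := by
    rcases Nat.eq_zero_or_pos n with rfl | hn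
    · rw [pow_zero, Ideal.one_eq_top, top_le_iff] at h1
      exact absurd h1 (Ideal.IsPrime.ne_top inferInstance)
    · exact Ideal.IsPrime.le_of_pow_le h1
  exact h ((Ideal.IsMaximal.eq_of_le inferInstance (Ideal.IsPrime.ne_top inferInstance) h2).symm)

variable {D}

theorem exists_surj (P : ι → Ideal A) [∀ x, (P x).IsPrime]
    (hu : ∀ x, ∀ g, g ∉ P x → IsUnit (algebraMap A (D x) g)) (I : Ideal A) (i : ι)
    (hm : (P i).IsMaximal) (hne : ∀ x, x ≠ i → P x ≠ P i) (hI : I ≤ P i)
    (hcok : ∃ n : ℕ, ∀ b : D i, ∃ s, s ∉ P i ∧ ∀ g ∈ P i ^ n, ∃ a : A, g • s • b = algebraMap A (D i) a)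
    (hker : ∃ n : ℕ, ∃ s, s ∉ P i ∧ ∀ g ∈ P i ^ n, ∀ x : A, algebraMap A (D i) x = 0 → s * (g * x) = 0)
    (b : D i) : ∃ c ∈ glueAlg D I, ∃ s, s ∉ P i ∧ c i = s • b := by
  classical
  obtain ⟨n₁, h₁⟩ := hcok
  obtain ⟨s₁, hs₁, hs₁'⟩ := h₁ b
  obtain ⟨n₂, s₂, hs₂, hs₂'⟩ := hker
  choose! a ha using hs₁'
  have hg : ∀ x, x ≠ i → ∃ g ∈ P i ^ n₁, g ∉ P x := fun x hx =>
    exists_mem_pow_not_mem (hne x hx) n₁
  choose! γ hγ hγ' using hg
  have hh : ∀ x, x ≠ i → ∃ g ∈ P i ^ n₂, g ∉ P x := fun x hx =>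
    exists_mem_pow_not_mem (hne x hx) n₂
  choose! η hη hη' using hh
  -- the element
  let c : ∀ x, D x := fun x =>
    if h : x = i then h ▸ (s₂ • s₁ • b)
    else s₂ • (algebraMap A (D x) (a (γ x)) * Ring.inverse (algebraMap A (D x) (γ x)))
  have hci : c i = s₂ • s₁ • b := by simp [c]
  have hcx : ∀ x, x ≠ i → c x =
      s₂ • (algebraMap A (D x) (a (γ x)) * Ring.inverse (algebraMap A (D x) (γ x))) := by
    intro x hx
    simp [c, hx]
  refine ⟨c, ?_, s₂ * s₁, ?_, ?_⟩
  · rw [mem_glueAlg]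
    refine ⟨n₁, fun g hg => ⟨s₂ * a g, ?_⟩⟩
    have hg' : g ∈ P i ^ n₁ := Ideal.pow_right_mono hI n₁ hg
    funext x
    by_cases hx : x = i
    · subst hx
      rw [Pi.smul_apply, hci, smul_comm g s₂, ha g hg', Pi.algebraMap_apply, map_mul,
        Algebra.smul_def]
    · rw [Pi.smul_apply, hcx x hx, Pi.algebraMap_apply]
      have hunit := hu x _ (hγ' x hx)
      have hunit2 := hu x _ (hη' x hx)
      -- relation
      have hrel : algebraMap A (D i) (g * a (γ x) - γ x * a g) = 0 := by
        rw [map_sub, map_mul, map_mul, ← ha _ (hγ x hx), ← ha g hg', ← Algebra.smul_def,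
          ← Algebra.smul_def, smul_comm g (γ x), sub_self]
      have h3 := hs₂' (η x) (hη x hx) _ hrel
      have h4 : algebraMap A (D x) s₂ * (algebraMap A (D x) g * algebraMap A (D x) (a (γ x))
          - algebraMap A (D x) (γ x) * algebraMap A (D x) (a g)) = 0 := by
        apply hunit2.mul_left_cancel
        rw [mul_zero, ← map_zero (algebraMap A (D x)), ← h3]
        simp only [map_mul, map_sub]
        ring
      apply hunit.mul_left_cancel
      have h5 := Ring.mul_inverse_cancel _ hunit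
      rw [map_mul, Algebra.smul_def, Algebra.smul_def]
      rw [mul_sub, sub_eq_zero] at h4
      linear_combination (algebraMap A (D x) g * algebraMap A (D x) s₂ *
        algebraMap A (D x) (a (γ x))) * h5 + h4
  · exact fun h => ((Ideal.IsPrime.mem_or_mem inferInstance h).elim hs₂ hs₁)
  · rw [hci, mul_smul]

theorem exists_inj (P : ι → Ideal A) [∀ x, (P x).IsPrime]
    (hu : ∀ x, ∀ g, g ∉ P x → IsUnit (algebraMap A (D x) g)) (I : Ideal A) (i : ι)
    (hm : (P i).IsMaximal) (hne : ∀ x, x ≠ i → P x ≠ P i)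
    (hI : ∀ n : ℕ, ∃ e, e ∉ P i ∧ ∀ g ∈ P i ^ n, e * g ∈ I ^ n)
    (hker : ∃ n : ℕ, ∃ s, s ∉ P i ∧ ∀ g ∈ P i ^ n, ∀ x : A, algebraMap A (D i) x = 0 → s * (g * x) = 0)
    (c : ∀ x, D x) (hc : c ∈ glueAlg D I) (hci : c i = 0) : ∃ s, s ∉ P i ∧ s • c = 0 := by
  obtain ⟨n₀, h₀⟩ := (mem_glueAlg D I c).mp hc
  obtain ⟨n₂, s₂, hs₂, hs₂'⟩ := hker
  obtain ⟨e, he, he'⟩ := hI n₀
  refine ⟨s₂ * e, fun h => ((Ideal.IsPrime.mem_or_mem inferInstance h).elim hs₂ he), ?_⟩
  funext x
  by_cases hx : x = i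
  · subst hx
    rw [Pi.smul_apply, hci, smul_zero, Pi.zero_apply]
  · obtain ⟨g, hg, hg'⟩ := exists_mem_pow_not_mem (hne x hx) n₀
    obtain ⟨h, hh, hh'⟩ := exists_mem_pow_not_mem (hne x hx) n₂
    obtain ⟨z, hz⟩ := h₀ (e * g) (he' g hg)
    have hzi : algebraMap A (D i) z = 0 := by
      have := congrFun hz i
      rw [Pi.smul_apply, hci, smul_zero, Pi.algebraMap_apply] at this
      exact this.symm
    have h3 := hs₂' h hh z hzi
    have hzx : (e * g) • c x = algebraMap A (D x) z := congrFun hz x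
    have h4 : algebraMap A (D x) (s₂ * (h * z)) = 0 := by rw [h3, map_zero]
    rw [Pi.smul_apply, Pi.zero_apply, Algebra.smul_def]
    apply (hu x _ hg').mul_left_cancel
    apply (hu x _ hh').mul_left_cancel
    rw [mul_zero, mul_zero, ← h4, map_mul, map_mul, map_mul, ← hzx, Algebra.smul_def, map_mul]
    ring

/-- A submodule condition which holds after multiplying by an element outside a prime, for each
element of a finitely generated ideal, holds with a uniform multiplier. -/
theorem exists_uniform {M : Type w} [AddCommGroup M] [Module A M] (m : Ideal A) [m.IsPrime]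
    (N : Ideal A) (hN : N.FG) (f : A →ₗ[A] M) (L : Submodule A M)
    (h : ∀ g ∈ N, ∃ s, s ∉ m ∧ s • f g ∈ L) : ∃ s, s ∉ m ∧ ∀ g ∈ N, s • f g ∈ L := by
  classical
  obtain ⟨t, ht⟩ := hN
  choose! σ hσ hσ' using h
  refine ⟨∏ g ∈ t, σ g, ?_, ?_⟩
  · intro hmem
    obtain ⟨g, hg, hg'⟩ := (Ideal.IsPrime.prod_mem_iff (p := m)).mp hmem
    exact hσ g (ht ▸ Submodule.subset_span hg) hg'
  · intro g hg
    rw [← ht] at hg
    induction hg using Submodule.span_induction with
    | mem x hx =>
      have hx' : x ∈ t := hx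
      rw [← Finset.prod_erase_mul _ _ hx', mul_smul]
      exact L.smul_mem _ (hσ' x (ht ▸ Submodule.subset_span hx))
    | zero => rw [map_zero, smul_zero]; exact L.zero_mem
    | add x y _ _ hx hy => rw [map_add, smul_add]; exact L.add_mem hx hy
    | smul a x _ hx => rw [map_smul, smul_comm]; exact L.smul_mem _ hx

theorem exists_pow_mul_mem {r : ℕ} (m : Fin r → Ideal A) [hm : ∀ i, (m i).IsMaximal]
    (hinj : Function.Injective m) (i : Fin r) (n : ℕ) :
    ∃ e, e ∉ m i ∧ ∀ g ∈ m i ^ n, e * g ∈ (⨅ j, m j) ^ n := by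
  classical
  have h1 : ¬ (∏ j ∈ Finset.univ.erase i, m j) ≤ m i := by
    rw [Ideal.IsPrime.prod_le inferInstance]
    rintro ⟨j, hj, hj'⟩
    exact (Finset.mem_erase.mp hj).1
      (hinj ((hm j).eq_of_le (Ideal.IsPrime.ne_top inferInstance) hj'))
  obtain ⟨e, he, he'⟩ := SetLike.not_le_iff_exists.mp h1
  refine ⟨e ^ n, fun h => he' (Ideal.IsPrime.mem_of_pow_mem inferInstance _ h), fun g hg => ?_⟩
  have h2 : (∏ j, m j) ≤ ⨅ j, m j :=
    le_iInf fun j => (Ideal.prod_le_inf).trans (Finset.inf_le (Finset.mem_univ j))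
  refine Ideal.pow_right_mono h2 n ?_
  rw [← Finset.prod_erase_mul _ _ (Finset.mem_univ i), mul_pow]
  exact Ideal.mul_mem_mul (Ideal.pow_mem_pow he n) hg

end glue

section main

variable (A : Type u) [CommRing A] {r : ℕ} (m : Fin r → Ideal A) [hm : ∀ i, (m i).IsMaximal]
  (B : Fin r → Type u) [∀ i, CommRing (B i)] [∀ i, Algebra (Localization.AtPrime (m i)) (B i)]

/-- The index type: the given maximal ideals and all the other primes. -/
abbrev Idx : Type u := Fin r ⊕ {p : PrimeSpectrum A // ∀ i, m i ≠ p.asIdeal}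

/-- The family of local rings: `B i` at `m i` and the localization at all the other primes. -/
def Fam : Idx A m → Type u
  | Sum.inl i => B i
  | Sum.inr p => Localization.AtPrime p.1.asIdeal

instance instCommRingFam : ∀ x, CommRing (Fam A m B x)
  | Sum.inl i => inferInstanceAs (CommRing (B i))
  | Sum.inr p => inferInstanceAs (CommRing (Localization.AtPrime p.1.asIdeal))

instance instAlgebraFam : ∀ x, Algebra A (Fam A m B x)
  | Sum.inl i => ((algebraMap (Localization.AtPrime (m i)) (B i)).comp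
      (algebraMap A (Localization.AtPrime (m i)))).toAlgebra
  | Sum.inr p => inferInstanceAs (Algebra A (Localization.AtPrime p.1.asIdeal))

/-- The prime belonging to an index. -/
def Pr : Idx A m → Ideal A
  | Sum.inl i => m i
  | Sum.inr p => p.1.asIdeal

instance instIsPrimePr : ∀ x, (Pr A m x).IsPrime
  | Sum.inl i => (hm i).isPrime
  | Sum.inr p => p.1.2

theorem algebraMap_inl (i : Fin r) (a : A) : algebraMap A (Fam A m B (Sum.inl i)) a =
    algebraMap (Localization.AtPrime (m i)) (B i) (algebraMap A (Localization.AtPrime (m i)) a) :=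
  rfl

theorem algebraMap_inr (p : {p : PrimeSpectrum A // ∀ i, m i ≠ p.asIdeal}) (a : A) :
    algebraMap A (Fam A m B (Sum.inr p)) a = algebraMap A (Localization.AtPrime p.1.asIdeal) a :=
  rfl

theorem isUnit_fam : ∀ x, ∀ g, g ∉ Pr A m x → IsUnit (algebraMap A (Fam A m B x) g)
  | Sum.inl i => fun g hg => by
    rw [algebraMap_inl]
    exact (IsLocalization.map_units (Localization.AtPrime (m i))
      (⟨g, hg⟩ : (m i).primeCompl)).map _
  | Sum.inr p => fun g hg => by
    rw [algebraMap_inr]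
    exact (IsLocalization.map_units (Localization.AtPrime p.1.asIdeal)
      (⟨g, hg⟩ : p.1.asIdeal.primeCompl))

omit hm in
theorem pr_ne (hinj : Function.Injective m) (i : Fin r) :
    ∀ x, x ≠ Sum.inl i → Pr A m x ≠ Pr A m (Sum.inl i)
  | Sum.inl j => fun hx h => hx (by rw [hinj h])
  | Sum.inr p => fun _ h => p.2 i h.symm

theorem cond_ker [IsNoetherianRing A] (hker : ∀ i, ∃ n : ℕ,
      ∀ x ∈ RingHom.ker (algebraMap (Localization.AtPrime (m i)) (B i)),
      ∀ y ∈ Ideal.map (algebraMap A (Localization.AtPrime (m i))) (m i) ^ n, y * x = 0)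
    (i : Fin r) : ∃ n : ℕ, ∃ s, s ∉ Pr A m (Sum.inl i) ∧ ∀ g ∈ Pr A m (Sum.inl i) ^ n,
      ∀ x : A, algebraMap A (Fam A m B (Sum.inl i)) x = 0 → s * (g * x) = 0 := by
  obtain ⟨n, hn⟩ := hker i
  obtain ⟨s, hs, hs'⟩ := exists_uniform (m i)
    (m i ^ n * RingHom.ker (algebraMap A (Fam A m B (Sum.inl i))))
    (IsNoetherian.noetherian _) (LinearMap.id : A →ₗ[A] A) ⊥ (by
      intro z hz
      have hz' : algebraMap A (Localization.AtPrime (m i)) z = 0 := by
        induction hz using Submodule.mul_induction_on' with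
        | mem_mul_mem g hg x hx =>
          rw [map_mul]
          refine hn _ ?_ _ ?_
          · exact hx
          · rw [← Ideal.map_pow]
            exact Ideal.mem_map_of_mem _ hg
        | add x _ y _ hx hy => rw [map_add, hx, hy, add_zero]
      obtain ⟨s, hs⟩ := (IsLocalization.map_eq_zero_iff (m i).primeCompl
        (Localization.AtPrime (m i)) z).mp hz'
      exact ⟨s.1, s.2, hs⟩)
  refine ⟨n, s, hs, fun g hg x hx => ?_⟩
  exact hs' _ (Ideal.mul_mem_mul hg hx)

theorem cond_coker [IsNoetherianRing A] (hcoker : ∀ i, ∃ n : ℕ,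
      ∀ y ∈ Ideal.map (algebraMap A (Localization.AtPrime (m i))) (m i) ^ n,
      ∀ b : B i, y • b ∈ (algebraMap (Localization.AtPrime (m i)) (B i)).range)
    (i : Fin r) : ∃ n : ℕ, ∀ b : Fam A m B (Sum.inl i), ∃ s, s ∉ Pr A m (Sum.inl i) ∧
      ∀ g ∈ Pr A m (Sum.inl i) ^ n,
        ∃ a : A, g • s • b = algebraMap A (Fam A m B (Sum.inl i)) a := by
  obtain ⟨n, hn⟩ := hcoker i
  refine ⟨n, fun b => ?_⟩
  obtain ⟨s, hs, hs'⟩ := exists_uniform (m i) (m i ^ n)
    (IsNoetherian.noetherian _) (LinearMap.toSpanSingleton A (Fam A m B (Sum.inl i)) b)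
    (LinearMap.range (Algebra.linearMap A (Fam A m B (Sum.inl i)))) (by
      intro g hg
      have h1 : algebraMap A (Localization.AtPrime (m i)) g ∈
          Ideal.map (algebraMap A (Localization.AtPrime (m i))) (m i) ^ n := by
        rw [← Ideal.map_pow]
        exact Ideal.mem_map_of_mem _ hg
      obtain ⟨y, hy⟩ := hn _ h1 b
      obtain ⟨⟨a, s⟩, ha⟩ := IsLocalization.surj (m i).primeCompl y
      refine ⟨s.1, s.2, a, ?_⟩
      rw [LinearMap.toSpanSingleton_apply, Algebra.linearMap_apply, Algebra.smul_def,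
        Algebra.smul_def g, algebraMap_inl, algebraMap_inl, algebraMap_inl]
      simp only at ha
      rw [← ha, map_mul, hy, Algebra.smul_def]
      exact mul_comm _ _)
  refine ⟨s, hs, fun g hg => ?_⟩
  obtain ⟨a, ha⟩ := hs' g hg
  refine ⟨a, ?_⟩
  rw [smul_comm]
  exact ha.symm

/-- The glued algebra. -/
abbrev Glued : Type u := ↥(glueAlg (Fam A m B) (⨅ i, m i))

theorem glued_surj [IsNoetherianRing A] (hinj : Function.Injective m)
    (hker : ∀ i, ∃ n : ℕ, ∀ x ∈ RingHom.ker (algebraMap (Localization.AtPrime (m i)) (B i)),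
      ∀ y ∈ Ideal.map (algebraMap A (Localization.AtPrime (m i))) (m i) ^ n, y * x = 0)
    (hcoker : ∀ i, ∃ n : ℕ,
      ∀ y ∈ Ideal.map (algebraMap A (Localization.AtPrime (m i))) (m i) ^ n,
      ∀ b : B i, y • b ∈ (algebraMap (Localization.AtPrime (m i)) (B i)).range)
    (i : Fin r) (b : Fam A m B (Sum.inl i)) :
    ∃ c : Glued A m B, ∃ s, s ∉ m i ∧ c.1 (Sum.inl i) = s • b := by
  obtain ⟨c, hc, s, hs, h⟩ := exists_surj (D := Fam A m B) (Pr A m) (isUnit_fam A m B)
    (⨅ i, m i) (Sum.inl i) (hm i) (pr_ne A m hinj i) (iInf_le _ i) (cond_coker A m B hcoker i)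
    (cond_ker A m B hker i) b
  exact ⟨⟨c, hc⟩, s, hs, h⟩

theorem glued_inj [IsNoetherianRing A] (hinj : Function.Injective m)
    (hker : ∀ i, ∃ n : ℕ, ∀ x ∈ RingHom.ker (algebraMap (Localization.AtPrime (m i)) (B i)),
      ∀ y ∈ Ideal.map (algebraMap A (Localization.AtPrime (m i))) (m i) ^ n, y * x = 0)
    (i : Fin r) (c : Glued A m B) (hc : c.1 (Sum.inl i) = 0) :
    ∃ s, s ∉ m i ∧ s • c = 0 := by
  obtain ⟨s, hs, h⟩ := exists_inj (D := Fam A m B) (Pr A m) (isUnit_fam A m B)
    (⨅ i, m i) (Sum.inl i) (hm i) (pr_ne A m hinj i) (exists_pow_mul_mem m hinj i)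
    (cond_ker A m B hker i) c.1 c.2 hc
  exact ⟨s, hs, Subtype.ext h⟩

theorem mem_of_local [IsNoetherianRing A] (hinj : Function.Injective m)
    (hker : ∀ i, ∃ n : ℕ, ∀ x ∈ RingHom.ker (algebraMap (Localization.AtPrime (m i)) (B i)),
      ∀ y ∈ Ideal.map (algebraMap A (Localization.AtPrime (m i))) (m i) ^ n, y * x = 0)
    (N : Submodule A (Glued A m B)) (hN : ∀ a, algebraMap A (Glued A m B) a ∈ N)
    (c : Glued A m B)
    (h : ∀ i, ∃ s, s ∉ m i ∧ ∃ d ∈ N, s • c.1 (Sum.inl i) = d.1 (Sum.inl i)) : c ∈ N := by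
  let M : Ideal A := N.comap (LinearMap.toSpanSingleton A (Glued A m B) c)
  have hM : ∀ a, a ∈ M ↔ a • c ∈ N := fun a => Iff.rfl
  suffices hM1 : M = ⊤ by
    have : (1 : A) ∈ M := hM1 ▸ Submodule.mem_top
    rwa [hM, one_smul] at this
  by_contra hne
  obtain ⟨p, hp, hMp⟩ := Ideal.exists_le_maximal M hne
  obtain ⟨n, hn⟩ := (mem_glueAlg (Fam A m B) (⨅ i, m i) c.1).mp c.2
  have h1 : (⨅ i, m i) ^ n ≤ M := by
    intro g hg
    obtain ⟨a, ha⟩ := hn g hg
    rw [hM]
    have : g • c = algebraMap A (Glued A m B) a := Subtype.ext ha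
    rw [this]
    exact hN a
  have h2 : (⨅ i, m i) ≤ p := by
    rcases Nat.eq_zero_or_pos n with rfl | hn'
    · rw [pow_zero, Ideal.one_eq_top, top_le_iff] at h1
      exact absurd h1 hne
    · exact Ideal.IsPrime.le_of_pow_le (h1.trans hMp)
  have h3 : (∏ j, m j) ≤ ⨅ j, m j :=
    le_iInf fun j => (Ideal.prod_le_inf).trans (Finset.inf_le (Finset.mem_univ j))
  obtain ⟨i, -, hi⟩ := (Ideal.IsPrime.prod_le hp.isPrime).mp (h3.trans h2)
  have h4 : m i = p := (hm i).eq_of_le hp.ne_top hi
  obtain ⟨s, hs, d, hd, hd'⟩ := h i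
  obtain ⟨s', hs', h5⟩ := glued_inj A m B hinj hker i (s • c - d) (by
    change s • c.1 (Sum.inl i) - d.1 (Sum.inl i) = 0
    rw [hd', sub_self])
  have h6 : s' * s ∈ M := by
    rw [hM, mul_smul]
    rw [smul_sub, sub_eq_zero] at h5
    rw [h5]
    exact N.smul_mem _ hd
  have h7 : s' * s ∈ m i := h4 ▸ hMp h6
  exact ((hm i).isPrime.mem_or_mem h7).elim hs' hs

/-- The projection of the glued algebra to the component `i`, as a localization of modules. -/
theorem isLocalizedModule_proj [IsNoetherianRing A] (hinj : Function.Injective m)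
    (hker : ∀ i, ∃ n : ℕ, ∀ x ∈ RingHom.ker (algebraMap (Localization.AtPrime (m i)) (B i)),
      ∀ y ∈ Ideal.map (algebraMap A (Localization.AtPrime (m i))) (m i) ^ n, y * x = 0)
    (hcoker : ∀ i, ∃ n : ℕ,
      ∀ y ∈ Ideal.map (algebraMap A (Localization.AtPrime (m i))) (m i) ^ n,
      ∀ b : B i, y • b ∈ (algebraMap (Localization.AtPrime (m i)) (B i)).range)
    (i : Fin r) : IsLocalizedModule (m i).primeCompl
      ((Pi.evalAlgHom A (Fam A m B) (Sum.inl i)).comp
        (glueAlg (Fam A m B) (⨅ i, m i)).val).toLinearMap where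
  map_units s := by
    rw [Module.End.isUnit_iff]
    have := isUnit_fam A m B (Sum.inl i) s.1 s.2
    obtain ⟨u, hu⟩ := this
    constructor
    · intro x y hxy
      change s.1 • x = s.1 • y at hxy
      rw [Algebra.smul_def, Algebra.smul_def, ← hu] at hxy
      exact u.isUnit.mul_left_cancel hxy
    · intro y
      refine ⟨u.inv * y, ?_⟩
      change s.1 • (u.inv * y) = y
      rw [Algebra.smul_def, ← hu, ← mul_assoc, u.val_inv, one_mul]
  surj b := by
    obtain ⟨c, s, hs, h⟩ := glued_surj A m B hinj hker hcoker i b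
    exact ⟨⟨c, ⟨s, hs⟩⟩, h.symm⟩
  exists_of_eq {c c'} h := by
    obtain ⟨s, hs, h1⟩ := glued_inj A m B hinj hker i (c - c') (by
      change c.1 (Sum.inl i) - c'.1 (Sum.inl i) = 0
      exact sub_eq_zero.mpr h)
    exact ⟨⟨s, hs⟩, by rwa [smul_sub, sub_eq_zero] at h1⟩

/-- The component at `i`, viewed in `B i`. -/
def cmp (i : Fin r) (c : Glued A m B) : B i := c.1 (Sum.inl i)

theorem cmp_add (i : Fin r) (c d : Glued A m B) :
    cmp A m B i (c + d) = cmp A m B i c + cmp A m B i d := rfl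

theorem cmp_zero (i : Fin r) : cmp A m B i 0 = 0 := rfl

theorem smul_fam (i : Fin r) (a : A) (b : B i) : (a • (show Fam A m B (Sum.inl i) from b) : B i) =
    algebraMap (Localization.AtPrime (m i)) (B i)
      (algebraMap A (Localization.AtPrime (m i)) a) * b :=
  Algebra.smul_def (A := Fam A m B (Sum.inl i)) a b

theorem cmp_smul (i : Fin r) (a : A) (c : Glued A m B) :
    cmp A m B i (a • c) = algebraMap (Localization.AtPrime (m i)) (B i)
      (algebraMap A (Localization.AtPrime (m i)) a) * cmp A m B i c :=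
  smul_fam A m B i a _

theorem mem_of_local' [IsNoetherianRing A] (hinj : Function.Injective m)
    (hker : ∀ i, ∃ n : ℕ, ∀ x ∈ RingHom.ker (algebraMap (Localization.AtPrime (m i)) (B i)),
      ∀ y ∈ Ideal.map (algebraMap A (Localization.AtPrime (m i))) (m i) ^ n, y * x = 0)
    (N : Submodule A (Glued A m B)) (hN : ∀ a, algebraMap A (Glued A m B) a ∈ N)
    (c : Glued A m B)
    (h : ∀ i, ∃ s, s ∉ m i ∧ ∃ d ∈ N, algebraMap (Localization.AtPrime (m i)) (B i)
      (algebraMap A (Localization.AtPrime (m i)) s) * cmp A m B i c = cmp A m B i d) : c ∈ N := by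
  refine mem_of_local A m B hinj hker N hN c fun i => ?_
  obtain ⟨s, hs, d, hd, h⟩ := h i
  refine ⟨s, hs, d, hd, ?_⟩
  exact (smul_fam A m B i s _).trans h

theorem algEquiv_of_isLocalizedModule {A : Type u} [CommRing A] (S : Submonoid A) (A' : Type u)
    [CommRing A'] [Algebra A A'] [IsLocalization S A'] {C B : Type u} [CommRing C] [Algebra A C]
    [CommRing B] [Algebra A B] [Algebra A' B] [IsScalarTower A A' B] (φ : C →ₐ[A] B)
    (hφ : IsLocalizedModule S φ.toLinearMap) : Nonempty (A' ⊗[A] C ≃ₐ[A'] B) := by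
  have hb : IsBaseChange A' φ.toLinearMap := IsLocalizedModule.isBaseChange S A' φ.toLinearMap
  let ψ : A' ⊗[A] C →ₐ[A'] B :=
    Algebra.TensorProduct.lift (Algebra.ofId A' B) φ (fun _ _ => Commute.all _ _)
  have hψ : ∀ x, ψ x = hb.equiv x := by
    intro x
    induction x using TensorProduct.induction_on with
    | zero => rw [map_zero, map_zero]
    | tmul a c =>
      rw [IsBaseChange.equiv_tmul, Algebra.TensorProduct.lift_tmul, Algebra.ofId_apply,
        Algebra.smul_def]
      rfl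
    | add x y hx hy => rw [map_add, map_add, hx, hy]
  refine ⟨AlgEquiv.ofBijective ψ ?_⟩
  have : (ψ : A' ⊗[A] C → B) = hb.equiv := funext hψ
  rw [this]
  exact hb.equiv.bijective

omit hm in
theorem eq_zero_of_local (z : A) (h : ∀ i, ∃ s, s ∉ m i ∧ s * z = 0)
    (h' : ∀ p : {p : PrimeSpectrum A // ∀ i, m i ≠ p.asIdeal},
      algebraMap A (Localization.AtPrime p.1.asIdeal) z = 0) : z = 0 := by
  let M : Ideal A := LinearMap.ker (LinearMap.toSpanSingleton A A z)
  have hM : ∀ a, a ∈ M ↔ a * z = 0 := fun a => Iff.rfl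
  suffices hM1 : M = ⊤ by
    have : (1 : A) ∈ M := hM1 ▸ Submodule.mem_top
    rwa [hM, one_mul] at this
  by_contra hne
  obtain ⟨p, hp, hMp⟩ := Ideal.exists_le_maximal M hne
  by_cases hex : ∃ i, m i = p
  · obtain ⟨i, rfl⟩ := hex
    obtain ⟨s, hs, hs'⟩ := h i
    exact hs (hMp ((hM s).mpr hs'))
  · push Not at hex
    have := h' ⟨⟨p, hp.isPrime⟩, hex⟩
    obtain ⟨s, hs⟩ := (IsLocalization.map_eq_zero_iff p.primeCompl
        (Localization.AtPrime p) z).mp this
    exact s.2 (hMp ((hM s).mpr hs))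

theorem glued_algebraMap_inl (a : A) (i : Fin r) :
    (algebraMap A (Glued A m B) a).1 (Sum.inl i) = algebraMap A (Fam A m B (Sum.inl i)) a := rfl

theorem ker_bound (N : Fin r → ℕ)
    (hN : ∀ i, ∀ x ∈ RingHom.ker (algebraMap (Localization.AtPrime (m i)) (B i)),
      ∀ y ∈ Ideal.map (algebraMap A (Localization.AtPrime (m i))) (m i) ^ (N i), y * x = 0)
    (n : ℕ) (hn : ∀ i, N i ≤ n) (x : A) (hx : x ∈ RingHom.ker (algebraMap A (Glued A m B)))
    (y : A) (hy : y ∈ (⨅ i, m i) ^ n) : y * x = 0 := by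
  have hx' : ∀ j, algebraMap A (Fam A m B j) x = 0 := fun j =>
    congrFun (congrArg Subtype.val hx) j
  apply eq_zero_of_local A m
  · intro i
    have h1 : algebraMap A (Localization.AtPrime (m i)) x ∈
        RingHom.ker (algebraMap (Localization.AtPrime (m i)) (B i)) := hx' (Sum.inl i)
    have h2 : algebraMap A (Localization.AtPrime (m i)) y ∈
        Ideal.map (algebraMap A (Localization.AtPrime (m i))) (m i) ^ (N i) := by
      rw [← Ideal.map_pow]
      apply Ideal.mem_map_of_mem
      exact Ideal.pow_le_pow_right (hn i) (Ideal.pow_right_mono (iInf_le m i) n hy)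
    have h3 := hN i _ h1 _ h2
    rw [← map_mul] at h3
    obtain ⟨s, hs⟩ := (IsLocalization.map_eq_zero_iff (m i).primeCompl
        (Localization.AtPrime (m i)) (y * x)).mp h3
    exact ⟨s.1, s.2, hs⟩
  · intro p
    have h1 : algebraMap A (Localization.AtPrime p.1.asIdeal) x = 0 := hx' (Sum.inr p)
    rw [map_mul, h1, mul_zero]

theorem coker_bound [IsNoetherianRing A] (hinj : Function.Injective m)
    (hker : ∀ i, ∃ n : ℕ, ∀ x ∈ RingHom.ker (algebraMap (Localization.AtPrime (m i)) (B i)),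
      ∀ y ∈ Ideal.map (algebraMap A (Localization.AtPrime (m i))) (m i) ^ n, y * x = 0)
    (N : Fin r → ℕ)
    (hN : ∀ i, ∀ y ∈ Ideal.map (algebraMap A (Localization.AtPrime (m i))) (m i) ^ (N i),
      ∀ b : B i, y • b ∈ (algebraMap (Localization.AtPrime (m i)) (B i)).range)
    (n : ℕ) (hn : ∀ i, N i ≤ n) (y : A) (hy : y ∈ (⨅ i, m i) ^ n) (c : Glued A m B) :
    y • c ∈ (algebraMap A (Glued A m B)).range := by
  have := mem_of_local A m B hinj hker
    (LinearMap.range (Algebra.linearMap A (Glued A m B))) (fun a => ⟨a, rfl⟩) (y • c) (by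
      intro i
      have h2 : algebraMap A (Localization.AtPrime (m i)) y ∈
          Ideal.map (algebraMap A (Localization.AtPrime (m i))) (m i) ^ (N i) := by
        rw [← Ideal.map_pow]
        apply Ideal.mem_map_of_mem
        exact Ideal.pow_le_pow_right (hn i) (Ideal.pow_right_mono (iInf_le m i) n hy)
      obtain ⟨z, hz⟩ := hN i _ h2 (c.1 (Sum.inl i))
      obtain ⟨⟨a, s⟩, ha⟩ := IsLocalization.surj (m i).primeCompl z
      refine ⟨s.1, s.2, algebraMap A _ a, ⟨a, rfl⟩, ?_⟩
      rw [glued_algebraMap_inl, algebraMap_inl]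
      simp only at ha
      rw [← ha, map_mul, hz]
      change s.1 • y • c.1 (Sum.inl i) = _
      rw [Algebra.smul_def, Algebra.smul_def, Algebra.smul_def, algebraMap_inl, algebraMap_inl]
      exact mul_comm _ _)
  exact this

theorem glued_injective
    (h : ∀ i, Function.Injective (algebraMap (Localization.AtPrime (m i)) (B i))) :
    Function.Injective (algebraMap A (Glued A m B)) := by
  rw [injective_iff_map_eq_zero]
  intro x hx
  have hx' : ∀ j, algebraMap A (Fam A m B j) x = 0 := fun j =>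
    congrFun (congrArg Subtype.val hx) j
  apply eq_zero_of_local A m
  · intro i
    have h1 := hx' (Sum.inl i)
    rw [algebraMap_inl] at h1
    have h3 := (injective_iff_map_eq_zero _).mp (h i) _ h1
    obtain ⟨s, hs⟩ := (IsLocalization.map_eq_zero_iff (m i).primeCompl
        (Localization.AtPrime (m i)) x).mp h3
    exact ⟨s.1, s.2, hs⟩
  · intro p
    exact hx' (Sum.inr p)

theorem glued_surjective [IsNoetherianRing A] (hinj : Function.Injective m)
    (hker : ∀ i, ∃ n : ℕ, ∀ x ∈ RingHom.ker (algebraMap (Localization.AtPrime (m i)) (B i)),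
      ∀ y ∈ Ideal.map (algebraMap A (Localization.AtPrime (m i))) (m i) ^ n, y * x = 0)
    (h : ∀ i, Function.Surjective (algebraMap (Localization.AtPrime (m i)) (B i))) :
    Function.Surjective (algebraMap A (Glued A m B)) := by
  intro c
  have := mem_of_local A m B hinj hker
    (LinearMap.range (Algebra.linearMap A (Glued A m B))) (fun a => ⟨a, rfl⟩) c (by
      intro i
      obtain ⟨z, hz⟩ := h i (c.1 (Sum.inl i))
      obtain ⟨⟨a, s⟩, ha⟩ := IsLocalization.surj (m i).primeCompl z
      refine ⟨s.1, s.2, algebraMap A _ a, ⟨a, rfl⟩, ?_⟩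
      rw [glued_algebraMap_inl, algebraMap_inl]
      simp only at ha
      rw [← ha, map_mul, hz]
      rw [Algebra.smul_def, algebraMap_inl]
      exact mul_comm _ _)
  exact this

theorem glued_finite [IsNoetherianRing A] (hinj : Function.Injective m)
    (hker : ∀ i, ∃ n : ℕ, ∀ x ∈ RingHom.ker (algebraMap (Localization.AtPrime (m i)) (B i)),
      ∀ y ∈ Ideal.map (algebraMap A (Localization.AtPrime (m i))) (m i) ^ n, y * x = 0)
    (hcoker : ∀ i, ∃ n : ℕ,
      ∀ y ∈ Ideal.map (algebraMap A (Localization.AtPrime (m i))) (m i) ^ n,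
      ∀ b : B i, y • b ∈ (algebraMap (Localization.AtPrime (m i)) (B i)).range)
    (h : ∀ i, (algebraMap (Localization.AtPrime (m i)) (B i)).Finite) :
    (algebraMap A (Glued A m B)).Finite := by
  classical
  rw [RingHom.finite_algebraMap]
  have h' : ∀ i, ∃ T : Finset (B i), Submodule.span (Localization.AtPrime (m i)) (T : Set (B i)) = ⊤ := by
    intro i
    have : Module.Finite (Localization.AtPrime (m i)) (B i) := RingHom.finite_algebraMap.mp (h i)
    exact this.1
  choose T hT using h'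
  choose γ hγ using glued_surj A m B hinj hker hcoker
  let W : Finset (Glued A m B) := insert 1 (Finset.univ.biUnion fun i => (T i).image (γ i))
  refine ⟨⟨W, ?_⟩⟩
  rw [eq_top_iff]
  rintro c -
  refine mem_of_local' A m B hinj hker (Submodule.span A (W : Set (Glued A m B))) ?_ c ?_
  · intro a
    rw [Algebra.algebraMap_eq_smul_one]
    exact Submodule.smul_mem _ _ (Submodule.subset_span (by simp [W]))
  · intro i
    have key : ∀ b ∈ Submodule.span (Localization.AtPrime (m i)) (T i : Set (B i)),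
        ∃ s, s ∉ m i ∧ ∃ d ∈ Submodule.span A (W : Set (Glued A m B)),
          algebraMap (Localization.AtPrime (m i)) (B i)
            (algebraMap A (Localization.AtPrime (m i)) s) * b = cmp A m B i d := by
      intro b hb
      induction hb using Submodule.span_induction with
      | mem x hx =>
        obtain ⟨s, hs, hs'⟩ := hγ i x
        refine ⟨s, hs, γ i x, Submodule.subset_span ?_, ?_⟩
        · simp only [W, Finset.coe_insert, Finset.coe_biUnion, Finset.coe_univ, Set.mem_insert_iff,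
            Set.mem_iUnion]
          right
          exact ⟨i, Set.mem_univ i, Finset.mem_coe.mpr (Finset.mem_image_of_mem _ hx)⟩
        · exact ((smul_fam A m B i s x).symm.trans hs'.symm)
      | zero => exact ⟨1, (Ideal.ne_top_iff_one _).mp (hm i).ne_top, 0, Submodule.zero_mem _,
          by rw [mul_zero, cmp_zero]⟩
      | add x y _ _ hx hy =>
        obtain ⟨s, hs, d, hd, hd'⟩ := hx
        obtain ⟨s', hs', e, he, he'⟩ := hy
        refine ⟨s * s', fun hss => ((hm i).isPrime.mem_or_mem hss).elim hs hs', s' • d + s • e,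
          Submodule.add_mem _ (Submodule.smul_mem _ _ hd) (Submodule.smul_mem _ _ he), ?_⟩
        rw [cmp_add, cmp_smul, cmp_smul, ← hd', ← he', map_mul, map_mul]
        ring
      | smul y x _ hx =>
        obtain ⟨s, hs, d, hd, hd'⟩ := hx
        obtain ⟨⟨a, t⟩, ha⟩ := IsLocalization.surj (m i).primeCompl y
        simp only at ha
        refine ⟨t * s, fun hss => ((hm i).isPrime.mem_or_mem hss).elim t.2 hs, a • d,
          Submodule.smul_mem _ _ hd, ?_⟩
        rw [cmp_smul, ← hd', ← ha, map_mul, map_mul, map_mul, Algebra.smul_def]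
        ring
    exact key (cmp A m B i c) (by rw [hT]; exact Submodule.mem_top)

end main

/-- Stacks Tag 0EAE: let A be Noetherian with pairwise distinct maximal ideals 𝔪₁, …, 𝔪_r, and for each i a ring map φ_i from A_{𝔪_i} to B_i whose kernel and cokernel are killed by a power of 𝔪_i. Then there is an A-algebra B whose base change to each A_{𝔪_i} is isomorphic to B_i and whose structure map has kernel and cokernel killed by a power of 𝔪₁ ∩ … ∩ 𝔪_r; if every φ_i is finite (resp. injective, resp. surjective) B can be taken with the same property. -/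
theorem result (A : Type u) [CommRing A] [IsNoetherianRing A] (r : ℕ) (m : Fin r → Ideal A) (hm : ∀ i, (m i).IsMaximal) (hinj : Function.Injective m) (B : Fin r → Type u) [∀ i, CommRing (B i)] [∀ i, Algebra (Localization.AtPrime (m i)) (B i)] (hker : ∀ i, ∃ n : ℕ, ∀ x ∈ RingHom.ker (algebraMap (Localization.AtPrime (m i)) (B i)), ∀ y ∈ Ideal.map (algebraMap A (Localization.AtPrime (m i))) (m i) ^ n, y * x = 0) (hcoker : ∀ i, ∃ n : ℕ, ∀ y ∈ Ideal.map (algebraMap A (Localization.AtPrime (m i))) (m i) ^ n, ∀ b : B i, y • b ∈ (algebraMap (Localization.AtPrime (m i)) (B i)).range) : ∃ (C : Type u) (_ : CommRing C) (_ : Algebra A C), (∀ i, Nonempty ((Localization.AtPrime (m i)) ⊗[A] C ≃ₐ[Localization.AtPrime (m i)] B i)) ∧ (∃ n : ℕ, (∀ x ∈ RingHom.ker (algebraMap A C), ∀ y ∈ (⨅ i, m i) ^ n, y * x = 0) ∧ (∀ y ∈ (⨅ i, m i) ^ n, ∀ c : C, y • c ∈ (algebraMap A C).range)) ∧ ((∀ i, (algebraMap (Localization.AtPrime (m i)) (B i)).Finite) → (algebraMap A C).Finite) ∧ ((∀ i, Function.Injective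 (algebraMap (Localization.AtPrime (m i)) (B i))) → Function.Injective (algebraMap A C)) ∧ ((∀ i, Function.Surjective (algebraMap (Localization.AtPrime (m i)) (B i))) → Function.Surjective (algebraMap A C)) := by
  refine ⟨Glued A m B, inferInstance, inferInstance, ?_, ?_, ?_, ?_, ?_⟩
  · intro i
    let : Algebra A (B i) := inferInstanceAs (Algebra A (Fam A m B (Sum.inl i)))
    have : IsScalarTower A (Localization.AtPrime (m i)) (B i) :=
      IsScalarTower.of_algebraMap_eq fun _ => rfl
    exact algEquiv_of_isLocalizedModule (m i).primeCompl (Localization.AtPrime (m i))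
      (C := Glued A m B) (B := B i)
      ((Pi.evalAlgHom A (Fam A m B) (Sum.inl i)).comp (glueAlg (Fam A m B) (⨅ i, m i)).val)
      (isLocalizedModule_proj A m B hinj hker hcoker i)
  · choose N hN using hker
    choose N' hN' using hcoker
    refine ⟨(∑ i, N i) + ∑ i, N' i, ?_, ?_⟩
    · intro x hx y hy
      exact ker_bound A m B N hN _ (fun i => (Finset.single_le_sum (f := N)
        (fun _ _ => Nat.zero_le _) (Finset.mem_univ i)).trans (Nat.le_add_right _ _)) x hx y hy
    · intro y hy c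
      exact coker_bound A m B hinj (fun i => ⟨_, hN i⟩) N' hN' _
        (fun i => (Finset.single_le_sum (f := N')
        (fun _ _ => Nat.zero_le _) (Finset.mem_univ i)).trans (Nat.le_add_left _ _)) y hy c
  · exact glued_finite A m B hinj hker hcoker
  · exact glued_injective A m B
  · exact glued_surjective A m B hinj hker

end Groth.Agent.S1837
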