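import Groth.Statements.S1840
import Groth.Agent.S1838
import Mathlib.LinearAlgebra.ExteriorPower.Basis
import Mathlib.LinearAlgebra.FiniteDimensional.Basic

set_option autoImplicit false
universe u v
open CycDet

namespace Groth.Agent.S1840

section
variable (R : Type u) [CommRing R] [IsLocalRing R] (M : Type v) [AddCommGroup M] [Module R M]
  [Module (IsLocalRing.ResidueField R) M] [IsScalarTower R (IsLocalRing.ResidueField R) M]

local notation "κ" => IsLocalRing.ResidueField R

theorem length_eq [Module.Finite (IsLocalRing.ResidueField R) M] :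
    Module.length R M = (Module.finrank (IsLocalRing.ResidueField R) M : ℕ∞) := by
  rw [← Module.length_eq_finrank]
  exact Module.length_eq_of_surjective IsLocalRing.residue_surjective

theorem mem_span_residue {s : Set M} {x : M} (h : x ∈ Submodule.span R s) :
    x ∈ Submodule.span κ s :=
  Submodule.span_le_restrictScalars R κ s h

omit [IsScalarTower R κ M] in
/-- The linear map from the free space to the exterior power. -/
noncomputable def pre (l : ℕ) : CycDet.Free R M l →ₗ[κ] ⋀[κ]^l M :=
  Finsupp.linearCombination κ (fun e : CycDet.Adm R M l => exteriorPower.ιMulti κ l e.1)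

omit [IsScalarTower R κ M] in
theorem pre_sym (l : ℕ) (e : CycDet.Adm R M l) :
    pre R M l (CycDet.sym R M e) = exteriorPower.ιMulti κ l e.1 := by
  simp [pre, CycDet.sym]

theorem map_eq_zero_of_mem_spanBefore {N : Type*} [AddCommGroup N] [Module κ N] {l : ℕ}
    (F : M [⋀^Fin l]→ₗ[κ] N) (e : Fin l → M) (a : Fin l) (y : M)
    (h : y ∈ CycDet.spanBefore R M e a) : F (Function.update e a y) = 0 := by
  have h' : y ∈ Submodule.span κ (e '' {j : Fin l | (j : ℕ) < a}) := mem_span_residue R M h
  clear h
  induction h' using Submodule.span_induction with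
  | mem x hx =>
    obtain ⟨j, hj, rfl⟩ := hx
    have hne : j ≠ a := by
      rintro rfl
      exact lt_irrefl _ (show (j : ℕ) < j from hj)
    exact F.map_update_self _ hne.symm
  | zero => simp
  | add x y _ _ hx hy => rw [F.map_update_add, hx, hy, add_zero]
  | smul c x _ hx => rw [F.map_update_smul, hx, smul_zero]

theorem relSet_le_ker (l : ℕ) :
    Submodule.span κ (CycDet.relSet R M l) ≤ LinearMap.ker (pre R M l) := by
  rw [Submodule.span_le]
  rintro x ((⟨e, a, ha, rfl⟩ | ⟨e, e', a, c, hne, hsp, rfl⟩) | ⟨e, e', a, b, hab, -, he', rfl⟩)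
  · rw [SetLike.mem_coe, LinearMap.mem_ker, pre_sym]
    have := map_eq_zero_of_mem_spanBefore R M (exteriorPower.ιMulti κ l) e.1 a (e.1 a) ha
    rwa [Function.update_eq_self] at this
  · rw [SetLike.mem_coe, LinearMap.mem_ker, map_sub, map_smul, pre_sym, pre_sym]
    set y := e.1 a - (c : R) • e'.1 a with hy
    have h1 : e.1 = Function.update e.1 a ((IsLocalRing.residue R (c : R)) • e'.1 a + y) := by
      have : (IsLocalRing.residue R (c : R)) • e'.1 a = (c : R) • e'.1 a := by
        rw [← algebraMap_smul κ (c : R) (e'.1 a)]; rfl
      rw [this, hy, add_sub_cancel, Function.update_eq_self]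
    have h2 : e'.1 = Function.update e.1 a (e'.1 a) := by
      funext j
      by_cases hj : j = a
      · subst hj; simp
      · rw [Function.update_of_ne hj, hne j hj]
    have h3 : exteriorPower.ιMulti κ l e.1 =
        (IsLocalRing.residue R (c : R)) • exteriorPower.ιMulti κ l e'.1 := by
      conv_lhs => rw [h1]
      rw [AlternatingMap.map_update_add, AlternatingMap.map_update_smul,
        map_eq_zero_of_mem_spanBefore R M _ _ _ _ hsp, add_zero, ← h2]
    rw [h3, sub_self]
  · rw [SetLike.mem_coe, LinearMap.mem_ker, map_add, pre_sym, pre_sym, he']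
    have hne : a ≠ b := by
      rintro rfl
      omega
    rw [AlternatingMap.map_swap _ _ hne, add_neg_cancel]

/-- The comparison map from symbols to the exterior power. -/
noncomputable def comp (l : ℕ) : CycDet.DetOfLen R M l →ₗ[κ] ⋀[κ]^l M :=
  (Submodule.span κ (CycDet.relSet R M l)).liftQ (pre R M l) (relSet_le_ker R M l)

theorem comp_mk (l : ℕ) (e : CycDet.Adm R M l) :
    comp R M l (Submodule.Quotient.mk (CycDet.sym R M e)) = exteriorPower.ιMulti κ l e.1 := by
  rw [comp, Submodule.liftQ_apply, pre_sym]

theorem isAdmissible {l : ℕ} (e : Fin l → M) : CycDet.IsAdmissible R M e := by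
  intro i r hr
  have : r • e i = 0 := by
    rw [← algebraMap_smul κ r (e i)]
    have : algebraMap R κ r = 0 := by
      rw [IsLocalRing.ResidueField.algebraMap_eq]
      exact (IsLocalRing.residue_eq_zero_iff r).mpr hr
    rw [this, zero_smul]
  rw [this]
  exact Submodule.zero_mem _

theorem comp_surjective (l : ℕ) : Function.Surjective (comp R M l) := by
  rw [← LinearMap.range_eq_top, ← top_le_iff, ← exteriorPower.ιMulti_span, Submodule.span_le]
  rintro _ ⟨e, rfl⟩
  exact ⟨Submodule.Quotient.mk (CycDet.sym R M ⟨e, isAdmissible R M e⟩), comp_mk R M l _⟩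

end

/-- Stacks Tag 02P8: let M be a finite-dimensional vector space over the residue field κ of a local ring R, viewed as an R-module. There is a κ-linear isomorphism from det_κ(M) to the top exterior power of M sending the symbol of an admissible tuple (e₁, …, e_l) to e₁ ∧ … ∧ e_l. -/
theorem result (R : Type u) [CommRing R] [IsLocalRing R] (M : Type v) [AddCommGroup M] [Module R M] [Module (IsLocalRing.ResidueField R) M] [IsScalarTower R (IsLocalRing.ResidueField R) M] [Module.Finite (IsLocalRing.ResidueField R) M] : ∃ Φ : CycDet.Det R M ≃ₗ[IsLocalRing.ResidueField R] (⋀[IsLocalRing.ResidueField R]^((Module.length R M).toNat) M), ∀ e : CycDet.Adm R M (Module.length R M).toNat, Φ (CycDet.symbol R M e) = exteriorPower.ιMulti (IsLocalRing.ResidueField R) ((Module.length R M).toNat) e.1 := by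
  have hfl : IsFiniteLength R M := by
    rw [← Module.length_ne_top_iff, length_eq R M]
    exact ENat.coe_ne_top _
  have hrank : Module.rank (IsLocalRing.ResidueField R) (CycDet.Det R M) ≤ 1 :=
    Groth.Agent.S1838.result R M hfl
  have hl : (Module.length R M).toNat = Module.finrank (IsLocalRing.ResidueField R) M := by
    rw [length_eq R M, ENat.toNat_coe]
  have hfin : Module.Finite (IsLocalRing.ResidueField R) (CycDet.Det R M) :=
    Module.rank_lt_aleph0_iff.mp (hrank.trans_lt Cardinal.one_lt_aleph0)
  have hfr : Module.finrank (IsLocalRing.ResidueField R)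
      (⋀[IsLocalRing.ResidueField R]^((Module.length R M).toNat) M) = 1 := by
    rw [exteriorPower.finrank_eq, hl, Nat.choose_self]
  have hfr' : Module.finrank (IsLocalRing.ResidueField R) (CycDet.Det R M) ≤ 1 := by
    exact Module.finrank_le_of_rank_le (by simpa using hrank)
  have hsurj := comp_surjective R M (Module.length R M).toNat
  have hinj : Function.Injective (comp R M (Module.length R M).toNat) := by
    have h1 : Module.finrank (IsLocalRing.ResidueField R) (CycDet.Det R M) =
        Module.finrank (IsLocalRing.ResidueField R)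
          (⋀[IsLocalRing.ResidueField R]^((Module.length R M).toNat) M) := by
      apply le_antisymm (hfr'.trans hfr.ge)
      exact LinearMap.finrank_le_finrank_of_surjective hsurj
    exact (LinearMap.injective_iff_surjective_of_finrank_eq_finrank h1).mpr hsurj
  exact ⟨LinearEquiv.ofBijective (comp R M _) ⟨hinj, hsurj⟩, fun e => comp_mk R M _ e⟩

end Groth.Agent.S1840
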