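import Groth.Statements.S1846
import Mathlib.RingTheory.HopfAlgebra.Convolution
import Mathlib.RingTheory.Kaehler.Basic
import Mathlib.LinearAlgebra.FreeModule.Basic
import Mathlib.LinearAlgebra.Basis.VectorSpace
import Mathlib.RingTheory.TensorProduct.Free

set_option autoImplicit false
universe u v
open GrpSch

namespace Groth.Agent.S1846

open TensorProduct Coalgebra HopfAlgebra

section

variable (K : Type u) [CommRing K] (B : Type v) [CommRing B] [HopfAlgebra K B]

/-- The relations defining the `ε`-derivation quotient. -/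
def rel : Submodule K B :=
  Submodule.span K {x | ∃ a b : B, x = a * b - counit (R := K) a • b - counit (R := K) b • a}

/-- The cotangent space at the identity, as the universal target of `ε`-derivations. -/
abbrev Vq : Type v := B ⧸ rel K B

/-- The universal `ε`-derivation. -/
def del : B →ₗ[K] Vq K B := (rel K B).mkQ

lemma del_mul (a b : B) : del K B (a * b) =
    counit (R := K) a • del K B b + counit (R := K) b • del K B a := by
  have h : a * b - counit (R := K) a • b - counit (R := K) b • a ∈ rel K B :=
    Submodule.subset_span ⟨a, b, rfl⟩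
  have h2 : del K B (a * b - counit (R := K) a • b - counit (R := K) b • a) = 0 := by
    exact (Submodule.Quotient.mk_eq_zero _).2 h
  rw [map_sub, map_sub, map_smul, map_smul, sub_sub, sub_eq_zero] at h2
  exact h2

/-- `B ⊗ B → B`, `a ⊗ b ↦ ε(b) a`. -/
noncomputable def rc : B ⊗[K] B →ₗ[K] B :=
  (TensorProduct.rid K B).toLinearMap ∘ₗ (counit (R := K) (A := B)).lTensor B

@[simp] lemma rc_tmul (a b : B) : rc K B (a ⊗ₜ b) = counit (R := K) b • a := by
  simp [rc]

lemma rc_comul (a : B) : rc K B (comul a) = a := by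
  simp [rc]

lemma lTensor_del_mul (x y : B ⊗[K] B) : (del K B).lTensor B (x * y) =
    rc K B x • (del K B).lTensor B y + rc K B y • (del K B).lTensor B x := by
  induction x with
  | zero => simp
  | add x₁ x₂ h₁ h₂ =>
    rw [add_mul, map_add, h₁, h₂, map_add, map_add, add_smul, smul_add]
    abel
  | tmul a b =>
    induction y with
    | zero => simp
    | add x₁ x₂ h₁ h₂ =>
      rw [mul_add, map_add, h₁, h₂, map_add, map_add, add_smul, smul_add]
      abel
    | tmul c d =>
      simp only [Algebra.TensorProduct.tmul_mul_tmul, LinearMap.lTensor_tmul, del_mul, rc_tmul,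
        tmul_add, tmul_smul, smul_tmul', smul_eq_mul, smul_mul_assoc]
      congr 2
      rw [mul_comm]

/-- The derivation `B → B ⊗ V`, `b ↦ b₁ ⊗ [b₂]`. -/
noncomputable def derD : Derivation K B (B ⊗[K] Vq K B) :=
  Derivation.mk' ((del K B).lTensor B ∘ₗ comul) (fun a b => by
    simp only [LinearMap.comp_apply, Bialgebra.comul_mul, lTensor_del_mul, rc_comul])

/-- `Ω → B ⊗ V`. -/
noncomputable def phi : Ω[B⁄K] →ₗ[B] B ⊗[K] Vq K B := (derD K B).liftKaehlerDifferential

/-- `B ⊗ B → Ω`, `a ⊗ b ↦ S(a) db`. -/
noncomputable def mS : B ⊗[K] B →ₗ[K] Ω[B⁄K] :=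
  TensorProduct.lift ((LinearMap.lsmul B (Ω[B⁄K])).restrictScalars₁₂ K K |>.compl₁₂ (antipode K)
    (KaehlerDifferential.D K B).toLinearMap)

@[simp] lemma mS_tmul (a b : B) : mS K B (a ⊗ₜ b) =
    antipode K a • KaehlerDifferential.D K B b := rfl

lemma mS_mul (x y : B ⊗[K] B) : mS K B (x * y) =
    LinearMap.mul' K B ((antipode K).rTensor B x) • mS K B y +
    LinearMap.mul' K B ((antipode K).rTensor B y) • mS K B x := by
  induction x with
  | zero => simp
  | add x₁ x₂ h₁ h₂ =>
    simp only [add_mul, map_add, h₁, h₂, add_smul, smul_add]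
    abel
  | tmul a b =>
    induction y with
    | zero => simp
    | add x₁ x₂ h₁ h₂ =>
      simp only [mul_add, map_add, h₁, h₂, add_smul, smul_add]
      abel
    | tmul c d =>
      simp only [Algebra.TensorProduct.tmul_mul_tmul, mS_tmul, antipode_mul_distrib,
        Derivation.leibniz, LinearMap.rTensor_tmul, LinearMap.mul'_apply, smul_add, smul_smul]
      congr 2 <;> ring

/-- The `ε`-derivation `x ↦ S(x₁) d(x₂)`. -/
noncomputable def psi0 : B →ₗ[K] Ω[B⁄K] := mS K B ∘ₗ comul

lemma psi0_mul (a b : B) : psi0 K B (a * b) =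
    counit (R := K) a • psi0 K B b + counit (R := K) b • psi0 K B a := by
  simp [psi0, mS_mul]

/-- The descended map `V → Ω`. -/
noncomputable def psi1 : Vq K B →ₗ[K] Ω[B⁄K] :=
  (rel K B).liftQ (psi0 K B) (by
    rw [rel, Submodule.span_le]
    rintro _ ⟨a, b, rfl⟩
    simp [psi0_mul])

@[simp] lemma psi1_del (x : B) : psi1 K B (del K B x) = psi0 K B x := rfl

/-- `B ⊗ V → Ω`. -/
noncomputable def psi : B ⊗[K] Vq K B →ₗ[B] Ω[B⁄K] :=
  TensorProduct.AlgebraTensorModule.lift
    ((LinearMap.lsmul B (Ω[B⁄K])).restrictScalars₁₂ B K |>.compl₁₂ (LinearMap.id) (psi1 K B))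

lemma psi_tmul (b : B) (v : Vq K B) : psi K B (b ⊗ₜ v) = b • psi1 K B v := rfl

lemma phi_D (x : B) : phi K B (KaehlerDifferential.D K B x) = (del K B).lTensor B (comul x) := by
  rw [phi, Derivation.liftKaehlerDifferential_comp_D]
  rfl

/-- Key identity 1: `b₁ S(b₂) d b₃ = d b`. -/
lemma psi_phi_D (x : B) : psi K B ((del K B).lTensor B (comul x)) = KaehlerDifferential.D K B x := by
  have h1 : ∀ y : B ⊗[K] B, psi K B ((del K B).lTensor B y) =
      TensorProduct.lift ((LinearMap.lsmul B (Ω[B⁄K])).restrictScalars₁₂ K K) 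
        ((psi0 K B).lTensor B y) := by
    intro y
    induction y with
    | zero => simp
    | add x₁ x₂ h₁ h₂ => simp only [map_add, h₁, h₂]
    | tmul a b => simp [psi_tmul]
  have h2 : ∀ y : B ⊗[K] (B ⊗[K] B), TensorProduct.lift ((LinearMap.lsmul B (Ω[B⁄K])).restrictScalars₁₂ K K) 
        ((mS K B).lTensor B y) = TensorProduct.lift ((LinearMap.lsmul B (Ω[B⁄K])).restrictScalars₁₂ K K
          |>.compl₂ (KaehlerDifferential.D K B).toLinearMap)
          ((LinearMap.mul' K B ∘ₗ (antipode K).lTensor B).rTensor B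
            ((TensorProduct.assoc K B B B).symm y)) := by
    intro y
    induction y with
    | zero => simp
    | add x₁ x₂ h₁ h₂ => simp only [map_add, h₁, h₂]
    | tmul a b =>
      induction b with
      | zero => simp
      | add x₁ x₂ h₁ h₂ => simp only [tmul_add, map_add, h₁, h₂]
      | tmul b c => simp [smul_smul, mul_comm]
  rw [h1, psi0, LinearMap.lTensor_comp, LinearMap.comp_apply, h2, coassoc_symm_apply,
    ← LinearMap.comp_apply (LinearMap.rTensor _ _), ← LinearMap.rTensor_comp,
    LinearMap.comp_assoc, mul_antipode_lTensor_comul, LinearMap.rTensor_comp, LinearMap.comp_apply,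
    rTensor_counit_comul]
  simp

/-- Key identity 2: `S(b₁) b₂ ⊗ [b₃] = 1 ⊗ [b]`. -/
lemma phi_psi0 (x : B) : phi K B (psi0 K B x) = 1 ⊗ₜ del K B x := by
  have h2 : ∀ y : B ⊗[K] B, phi K B (mS K B y) = (LinearMap.mul' K B).rTensor _ 
      ((TensorProduct.assoc K B B _).symm ((TensorProduct.map (antipode K) ((del K B).lTensor B ∘ₗ comul)) y)) := by
    intro y
    induction y with
    | zero => simp
    | add x₁ x₂ h₁ h₂ => simp only [map_add, h₁, h₂]
    | tmul a b =>
      simp only [mS_tmul, map_smul, phi_D, map_tmul, LinearMap.comp_apply]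
      generalize (comul b : B ⊗[K] B) = z
      induction z with
      | zero => simp
      | add x₁ x₂ h₁ h₂ => simp only [map_add, smul_add, tmul_add, h₁, h₂]
      | tmul c d => simp [smul_tmul']
  have h3 : ∀ y : B ⊗[K] (B ⊗[K] B), (LinearMap.mul' K B).rTensor (Vq K B) 
      ((TensorProduct.assoc K B B _).symm ((TensorProduct.map (antipode K) ((del K B).lTensor B)) y))
      = (del K B).lTensor B ((LinearMap.mul' K B ∘ₗ (antipode K).rTensor B).rTensor B 
          ((TensorProduct.assoc K B B _).symm y)) := by
    intro y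
    induction y with
    | zero => simp
    | add x₁ x₂ h₁ h₂ => simp only [map_add, h₁, h₂]
    | tmul a b =>
      induction b with
      | zero => simp
      | add x₁ x₂ h₁ h₂ => simp only [tmul_add, map_add, h₁, h₂]
      | tmul b c => simp
  have h4 : ∀ y : B ⊗[K] B, TensorProduct.map (antipode K) ((del K B).lTensor B ∘ₗ comul) y = 
      TensorProduct.map (antipode K) ((del K B).lTensor B) ((comul (R := K) (A := B)).lTensor B y) := by
    intro y
    induction y with
    | zero => simp
    | add x₁ x₂ h₁ h₂ => simp only [map_add, h₁, h₂]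
    | tmul a b => simp
  rw [psi0, LinearMap.comp_apply, h2, h4, h3, coassoc_symm_apply,
    ← LinearMap.comp_apply (LinearMap.rTensor _ _), ← LinearMap.rTensor_comp,
    LinearMap.comp_assoc, mul_antipode_rTensor_comul, LinearMap.rTensor_comp, LinearMap.comp_apply,
    rTensor_counit_comul]
  simp

/-- `Ω_{B/K} ≃ B ⊗ V`. -/
noncomputable def equiv : Ω[B⁄K] ≃ₗ[B] B ⊗[K] Vq K B :=
  LinearEquiv.ofLinearMap (phi K B) (psi K B)
    (by
      apply TensorProduct.AlgebraTensorModule.ext
      intro b v
      obtain ⟨x, rfl⟩ := (rel K B).mkQ_surjective v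
      change phi K B (psi K B (b ⊗ₜ del K B x)) = b ⊗ₜ del K B x
      rw [psi_tmul, map_smul, psi1_del, phi_psi0, smul_tmul', smul_eq_mul, mul_one])
    (by
      apply Derivation.liftKaehlerDifferential_unique
      ext x
      change psi K B (phi K B (KaehlerDifferential.D K B x)) = KaehlerDifferential.D K B x
      rw [phi_D, psi_phi_D])

end

/-- Stacks Tag 047I, affine case of the last sentence: for a group scheme over a field the module of differentials is a free module; stated for an affine group scheme Spec B, i.e. for a commutative Hopf algebra B over a field K: Ω_{B/K} is a free B-module. -/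
theorem result (K : Type u) [Field K] (B : Type v) [CommRing B] [HopfAlgebra K B] : Module.Free B (Ω[B⁄K]) := by
  exact Module.Free.of_equiv (equiv K B).symm

end Groth.Agent.S1846
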