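import Groth.Statements.S1849
-- import your own Groth.Agent.* helpers here
import Groth.Agent.CycA.TameNormProd
import Groth.Agent.S1836

set_option autoImplicit false
universe u
open CycAlg

namespace Groth.Agent.S1849

section Aux

open IsLocalRing Groth.Agent.CycA.TameSym Groth.Agent.CycA.TameLen
  Groth.Agent.CycA.TameNorm Groth.Agent.CycA.TameTower Groth.Agent.CycA.TameCompare
  Groth.Agent.CycA.TameCompositum Groth.Agent.CycA.TameValue Groth.Agent.CycA.TameNormProd

/-- Existence of a finite extension on which two elements factor locally. -/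
theorem exists_ext (A : Type u) [CommRing A] [IsNoetherianRing A] [IsLocalRing A]
    (hA : ringKrullDim A = 1) (a b : A) (ha : a ∈ nonZeroDivisors A) (hb : b ∈ nonZeroDivisors A)
    (hu : ¬ (IsUnit a ∧ IsUnit b)) :
    ∃ (B : Type u) (_ : CommRing B) (_ : Algebra A B), IsFinExt A B (maximalIdeal A) ∧
      ∀ q : MaximalSpectrum B, Nonempty (Fac (Localization.AtPrime q.asIdeal)
        (algebraMap A (Localization.AtPrime q.asIdeal) a)
        (algebraMap A (Localization.AtPrime q.asIdeal) b)) := by
  obtain ⟨B, iB, iAB, hB, hq⟩ := Groth.Agent.S1836.result A hA 2 le_rfl ![a, b] (by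
    intro i
    fin_cases i
    · exact ha
    · exact hb) (by
    by_contra h
    push Not at h
    exact hu ⟨h 0, h 1⟩)
  refine ⟨B, iB, iAB, hB, fun q => ?_⟩
  obtain ⟨π, hπ, hi⟩ := hq q
  obtain ⟨u, e, h0⟩ := hi 0
  obtain ⟨v, f, h1⟩ := hi 1
  exact ⟨⟨π, hπ, u, v, e, f, h0, h1⟩⟩

theorem aux (A : Type u) [CommRing A] [IsNoetherianRing A] [IsLocalRing A]
    (hA : ringKrullDim A = 1) (B : Type u) [CommRing B] [Algebra A B]
    (hB : CycAlg.IsFinExt A B (IsLocalRing.maximalIdeal A))
    (hass : IsLocalRing.maximalIdeal A ∉ associatedPrimes A B)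
    [hloc : ∀ q : MaximalSpectrum B, IsLocalHom (algebraMap A (Localization.AtPrime q.asIdeal))]
    [Fintype (MaximalSpectrum B)]
    (a b : A) (ha : a ∈ nonZeroDivisors A) (hb : b ∈ nonZeroDivisors A)
    (hu : ¬ (IsUnit a ∧ IsUnit b)) :
    CycAlg.tameSymbol A a b = ∏ q : MaximalSpectrum B, Algebra.norm (IsLocalRing.ResidueField A)
      (CycAlg.tameSymbol (Localization.AtPrime q.asIdeal)
        (algebraMap A (Localization.AtPrime q.asIdeal) a)
        (algebraMap A (Localization.AtPrime q.asIdeal) b)) := by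
  have hdim : Ring.KrullDimLE 1 A := by
    rw [Ring.KrullDimLE, Order.krullDimLE_iff]
    exact hA.le
  have hc : ∃ c : A, (c = a ∨ c = b) ∧ c ∈ IsLocalRing.maximalIdeal A ∧
      c ∈ nonZeroDivisors A := by
    by_cases h : IsUnit a
    · exact ⟨b, Or.inr rfl, fun h' => hu ⟨h, h'⟩, hb⟩
    · exact ⟨a, Or.inl rfl, h, ha⟩
  obtain ⟨c, hc, hcm, hcA⟩ := hc
  obtain ⟨B', iB', iAB', hB', hfac'⟩ := exists_ext A hA a b ha hb hu
  have hregB : ∀ x : A, x ∈ nonZeroDivisors A → algebraMap A B x ∈ nonZeroDivisors B :=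
    fun x hx => regular_of_not_mem_associatedPrimes hB hass hx
  obtain ⟨hinj, hfin, n, hn⟩ := hB
  obtain ⟨hinj', hfin', n', hn'⟩ := hB'
  obtain ⟨C, iC, iAC, iBC, iBC', t1, t2, hCfin, hBC, hBC', hcC, hC⟩ := exists_compositum hinj hinj'
    (pow_smul_mem hcm hn) (pow_smul_mem hcm hn') (hregB c hcA)
    (regular_of_fac hc hfac')
  have hC1 : ∀ x : C, c ^ (n + n') • x ∈ (algebraMap A C).range := by
    intro x
    rw [pow_add]
    exact hC _ _ (pow_smul_mem hcm hn) (pow_smul_mem hcm hn') x
  have hC2 : ∀ x : C, c ^ (n + n') • x ∈ (algebraMap B C).range := by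
    intro x
    obtain ⟨y, hy⟩ := hC1 x
    exact ⟨algebraMap A B y, by rw [← hy, ← IsScalarTower.algebraMap_apply]⟩
  have hCext : IsFinExt A C (maximalIdeal A) := by
    refine ⟨?_, hCfin, n + n', ?_⟩
    · rw [IsScalarTower.algebraMap_eq A B C]
      exact hBC.comp hinj
    · intro r hr x
      rw [pow_add] at hr
      induction hr using Submodule.mul_induction_on' with
      | mem_mul_mem r hr s hs => exact hC r s (hn r hr) (hn' s hs) x
      | add r hr s hs h1 h2 =>
        rw [add_smul]
        exact add_mem h1 h2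
  have i1 : Finite (MaximalSpectrum C) := finite_maximalSpectrum A C
  have i2 : Fintype (MaximalSpectrum C) := Fintype.ofFinite _
  have i3 : ∀ Q : MaximalSpectrum C, IsLocalHom (algebraMap A (Localization.AtPrime Q.asIdeal)) :=
    fun Q => isLocalHom_algebraMap A Q
  have i3' : ∀ Q : MaximalSpectrum B', IsLocalHom (algebraMap A (Localization.AtPrime Q.asIdeal)) :=
    fun Q => isLocalHom_algebraMap A Q
  have i4 : Module.Finite B C := Module.Finite.of_restrictScalars_finite A B C
  have i5 : Module.Finite B' C := Module.Finite.of_restrictScalars_finite A B' C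
  have i6 : ∀ q : MaximalSpectrum B, Fintype (MaximalSpectrum (locAt C q)) :=
    fun q => Fintype.ofFinite _
  have i7 : IsNoetherianRing B := IsNoetherianRing.of_finite A B
  have hfacC := fac_up (B := B') (C := C) hc hcm hcC hfac'
  rw [tameSymbol_eq_prod hCext ha hb hfacC, prod_regroup (B := B)]
  refine Finset.prod_congr rfl fun q _ => ?_
  congr 1
  have i8 : Ring.KrullDimLE 1 (Localization.AtPrime q.asIdeal) :=
    krullDimLE_localization A q.asIdeal
  have hreg : ∀ x : A, x ∈ nonZeroDivisors A →
      algebraMap A (Localization.AtPrime q.asIdeal) x ∈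
        nonZeroDivisors (Localization.AtPrime q.asIdeal) := by
    intro x hx
    rw [IsScalarTower.algebraMap_apply A B]
    exact algebraMap_mem_nonZeroDivisors q.asIdeal (hregB x hx)
  symm
  refine tameSymbol_eq_prod (isFinExt_locAt q hcA hBC hC2) (hreg a ha) (hreg b hb) fun P => ?_
  have i9 := isScalarTower_locAt' (A := A) (C := C) q P
  rw [← IsScalarTower.algebraMap_apply A (Localization.AtPrime q.asIdeal)
    (Localization.AtPrime P.asIdeal), ← IsScalarTower.algebraMap_apply A
    (Localization.AtPrime q.asIdeal) (Localization.AtPrime P.asIdeal)]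
  exact fac_equiv (downEquiv (A := A) q P) (hfacC (down q P))

end Aux

/-- Stacks Tag 0EAT: let A be a Noetherian local ring of dimension 1 and A ⊆ B a finite extension with B/A killed by a power of the maximal ideal 𝔪 and 𝔪 not an associated prime of the A-module B. For nonzerodivisors a, b of A, ∂_A(a, b) is the product over the maximal ideals 𝔪_j of B of the norms from κ(𝔪_j) to κ of ∂_{B_{𝔪_j}}(a, b). -/
theorem result (A : Type u) [CommRing A] [IsNoetherianRing A] [IsLocalRing A] (hA : ringKrullDim A = 1) (B : Type u) [CommRing B] [Algebra A B] (hB : CycAlg.IsFinExt A B (IsLocalRing.maximalIdeal A)) (hass : IsLocalRing.maximalIdeal A ∉ associatedPrimes A B) [hloc : ∀ q : MaximalSpectrum B, IsLocalHom (algebraMap A (Localization.AtPrime q.asIdeal))] (a b : A) (ha : a ∈ nonZeroDivisors A) (hb : b ∈ nonZeroDivisors A) : CycAlg.tameSymbol A a b = ∏ᶠ q : MaximalSpectrum B, Algebra.norm (IsLocalRing.ResidueField A) (CycAlg.tameSymbol (Localization.AtPrime q.asIdeal) (algebraMap A (Localization.AtPrime q.asIdeal)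 a) (algebraMap A (Localization.AtPrime q.asIdeal) b)) := by
  have hfin := hB.2.1
  have i1 : Finite (MaximalSpectrum B) := Groth.Agent.CycA.TameNorm.finite_maximalSpectrum A B
  have i2 : Fintype (MaximalSpectrum B) := Fintype.ofFinite _
  rw [finprod_eq_prod_of_fintype]
  by_cases hu : IsUnit a ∧ IsUnit b
  · rw [Groth.Agent.CycA.TameValue.tameSymbol_units hu.1 hu.2]
    symm
    refine Finset.prod_eq_one fun q _ => ?_
    rw [Groth.Agent.CycA.TameValue.tameSymbol_units (hu.1.map _) (hu.2.map _), map_one]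
  · exact aux A hA B hB hass a b ha hb hu

end Groth.Agent.S1849
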