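import Groth.Statements.S1853
import Groth.Agent.S1839
import Groth.Agent.CycA.DetKey
import Mathlib.Algebra.Module.LocalizedModule.Exact

set_option autoImplicit false
universe u
open CycDet

namespace Groth.Agent.S1853

open Groth.Agent.CycA.RelLen Groth.Agent.CycA.DetTuple Groth.Agent.CycA.DetIndex
  Groth.Agent.CycA.DetKey in
theorem aux (R : Type u) [CommRing R] [IsNoetherianRing R] [IsLocalRing R] (q : Ideal R)
    [q.IsPrime] (hq : ringKrullDim (R ⧸ q) = 1) (M N : Type u) [AddCommGroup M]
    [Module R M] [AddCommGroup N] [Module R N] (φ : M →ₗ[R] N) (l : ℕ) (x : Fin l → M)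
    (y : Fin l → N) (hx : Submodule.span R (Set.range x) = ⊤)
    (hy : Submodule.span R (Set.range y) = ⊤) (hfx : Filt q x) (hfy : Filt q y) :
    (Function.Injective φ ↔ Function.Bijective (LocalizedModule.map q.primeCompl φ)) ∧
    (Function.Injective φ → ∀ (hl : (Module.length (Localization.AtPrime q)
      (LocalizedModule q.primeCompl N)).toNat = l)
      (ex ey : CycDet.Adm (Localization.AtPrime q) (LocalizedModule q.primeCompl N)
        (Module.length (Localization.AtPrime q) (LocalizedModule q.primeCompl N)).toNat)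
      (f : q.ResidueField),
      (ex.1 = fun i => LocalizedModule.mkLinearMap q.primeCompl N (φ (x (Fin.cast hl i)))) →
      (ey.1 = fun i => LocalizedModule.mkLinearMap q.primeCompl N (y (Fin.cast hl i))) →
      CycDet.symbol (Localization.AtPrime q) (LocalizedModule q.primeCompl N) ex =
        f • CycDet.symbol (Localization.AtPrime q) (LocalizedModule q.primeCompl N) ey →
      ∃ n : ℕ, Module.length R (N ⧸ LinearMap.range φ) = n ∧
        (n : ℤ) = CycAlg.ordFrac (R ⧸ q) q.ResidueField f) := by
  set A := Localization.AtPrime q with hA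
  let ιM := LocalizedModule.mkLinearMap q.primeCompl M
  let ιN := LocalizedModule.mkLinearMap q.primeCompl N
  have hxt : spanBefore R M x l = ⊤ := by rw [spanBefore_last, hx]
  have hyt : spanBefore R N y l = ⊤ := by rw [spanBefore_last, hy]
  -- generation after localization
  have hgenM : spanBefore A (LocalizedModule q.primeCompl M) (ιM ∘ x) l = ⊤ := by
    rw [spanBefore_last, Set.range_comp, ← Submodule.localized'_span A q.primeCompl ιM, hx,
      Submodule.localized'_top]
  have hgenN : spanBefore A (LocalizedModule q.primeCompl N) (ιN ∘ y) l = ⊤ := by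
    rw [spanBefore_last, Set.range_comp, ← Submodule.localized'_span A q.primeCompl ιN, hy,
      Submodule.localized'_top]
  have hGM : Good (A := A) (ιM ∘ x) := hfx.good ιM hgenM
  have hGN : Good (A := A) (ιN ∘ y) := hfy.good ιN hgenN
  have hlM := hGM.length_eq
  have hlN := hGN.length_eq
  have hinjM : Function.Injective ιM := by
    rw [← LinearMap.ker_eq_bot, LinearMap.ker_eq_bot']
    intro m hm
    obtain ⟨c, hc⟩ := (IsLocalizedModule.eq_zero_iff q.primeCompl ιM).1 hm
    exact hfx.torsionFree hxt c.2 hc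
  have hinjN : Function.Injective ιN := by
    rw [← LinearMap.ker_eq_bot, LinearMap.ker_eq_bot']
    intro m hm
    obtain ⟨c, hc⟩ := (IsLocalizedModule.eq_zero_iff q.primeCompl ιN).1 hm
    exact hfy.torsionFree hyt c.2 hc
  have hcomm : ∀ m : M, LocalizedModule.map q.primeCompl φ (ιM m) = ιN (φ m) := by
    intro m
    exact IsLocalizedModule.map_apply q.primeCompl ιM ιN φ m
  have hbij : Function.Injective φ → Function.Bijective (LocalizedModule.map q.primeCompl φ) := by
    intro hφ
    have hinj : Function.Injective (LocalizedModule.map q.primeCompl φ) :=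
      LocalizedModule.map_injective q.primeCompl φ hφ
    refine ⟨hinj, ?_⟩
    have hex := Module.length_eq_add_of_exact (LocalizedModule.map q.primeCompl φ)
      (LinearMap.range (LocalizedModule.map q.primeCompl φ)).mkQ hinj
      (Submodule.mkQ_surjective _) (LinearMap.exact_map_mkQ_range _)
    rw [hlM, hlN] at hex
    have h0 : Module.length A (LocalizedModule q.primeCompl N ⧸
        LinearMap.range (LocalizedModule.map q.primeCompl φ)) = 0 := by
      have h1 : (l : ℕ∞) + 0 = (l : ℕ∞) + Module.length A (LocalizedModule q.primeCompl N ⧸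
        LinearMap.range (LocalizedModule.map q.primeCompl φ)) := by rw [add_zero]; exact hex
      exact (ENat.add_right_injective_of_ne_top (ENat.natCast_ne_top l) h1).symm
    rw [Module.length_eq_zero_iff, Submodule.Quotient.subsingleton_iff] at h0
    exact LinearMap.range_eq_top.1 h0
  refine ⟨⟨hbij, ?_⟩, ?_⟩
  · intro hb m m' hmm
    apply hinjM
    apply hb.1
    rw [hcomm, hcomm, hmm]
  · intro hφ hl
    subst hl
    intro ex ey f hex hey hsym
    obtain ⟨-, hsurj⟩ := hbij hφ
    have hfφ : Filt q (φ ∘ x) := hfx.map hφ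
    have hgenφ : spanBefore A (LocalizedModule q.primeCompl N) (ιN ∘ (φ ∘ x))
        (Module.length (Localization.AtPrime q) (LocalizedModule q.primeCompl N)).toNat = ⊤ := by
      have h1 : ιN ∘ (φ ∘ x) = (LocalizedModule.map q.primeCompl φ) ∘ (ιM ∘ x) := by
        funext i
        simp only [Function.comp_apply]
        exact (hcomm _).symm
      rw [h1, spanBefore_map, hgenM, Submodule.map_top, LinearMap.range_eq_top]
      exact hsurj
    have hGφ : Good (A := A) (ιN ∘ (φ ∘ x)) := hfφ.good ιN hgenφ
    have hex' : ex = ⟨ιN ∘ (φ ∘ x), hGφ.adm⟩ := Subtype.ext hex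
    have hey' : ey = ⟨ιN ∘ y, hGN.adm⟩ := Subtype.ext hey
    have hfin : IsFiniteLength A (LocalizedModule q.primeCompl N) := by
      rw [← Module.length_ne_top_iff, hlN]
      exact ENat.natCast_ne_top _
    have hne : CycDet.symbol A (LocalizedModule q.primeCompl N) ey ≠ 0 := by
      refine Groth.Agent.S1839.result A (LocalizedModule q.primeCompl N) hfin ey ?_
      rw [hey', ← spanBefore_last]
      exact hgenN
    obtain ⟨h1, h2, r, s, hr, hs, hcls, hlen⟩ :=
      rel_of_good (A := A) (q := q) ιN hGφ hGN hGφ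
    have hcx : cls ιN (φ ∘ x) h1 = CycDet.symbol A (LocalizedModule q.primeCompl N) ex := by
      rw [hex']; rfl
    have hcy : cls ιN y h2 = CycDet.symbol A (LocalizedModule q.primeCompl N) ey := by
      rw [hey']; rfl
    rw [hcx, hcy, hsym, smul_smul] at hcls
    have hf : IsLocalRing.residue A (algebraMap R A s) * f =
        IsLocalRing.residue A (algebraMap R A r) := by
      have := sub_eq_zero.2 hcls
      rw [← sub_smul] at this
      exact sub_eq_zero.1 ((smul_eq_zero.1 this).resolve_right hne)
    -- lengths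
    have hlx := hfφ.len_eq (A := A) ιN hinjN hgenφ
    have hly := hfy.len_eq (A := A) ιN hinjN hgenN
    have hly0 : len A ιN y = 0 := by
      rw [← hly, hy, Module.length_eq_zero_iff, Submodule.Quotient.subsingleton_iff]
    have hrange : Submodule.span R (Set.range (φ ∘ x)) = LinearMap.range φ := by
      rw [Set.range_comp, ← Submodule.map_span, hx, Submodule.map_top]
    rw [hrange] at hlx
    rw [← hlx, hly0, zero_add] at hlen
    -- order
    have : Ring.KrullDimLE 1 (R ⧸ q) := by
      rw [Ring.krullDimLE_iff, hq]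
      rfl
    have hrd := mk_mem_nonZeroDivisors (q := q) hr
    have hsd := mk_mem_nonZeroDivisors (q := q) hs
    obtain ⟨nr, hnr⟩ := ENat.ne_top_iff_exists.1 (Ring.ord_ne_top hrd)
    obtain ⟨ns, hns⟩ := ENat.ne_top_iff_exists.1 (Ring.ord_ne_top hsd)
    rw [← hnr, ← hns] at hlen
    have hnt : Module.length R (N ⧸ LinearMap.range φ) ≠ ⊤ := by
      intro htop
      rw [htop, top_add] at hlen
      exact ENat.top_ne_natCast _ hlen
    obtain ⟨n, hn⟩ := ENat.ne_top_iff_exists.1 hnt
    refine ⟨n, hn.symm, ?_⟩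
    rw [← hn] at hlen
    have hlen' : n + ns = nr := by exact_mod_cast hlen
    -- the scalar is the fraction
    have hfeq : f = IsLocalization.mk' q.ResidueField (Ideal.Quotient.mk q r)
        (⟨Ideal.Quotient.mk q s, hsd⟩ : nonZeroDivisors (R ⧸ q)) := by
      rw [IsLocalization.eq_mk'_iff_mul_eq, mul_comm]
      exact hf
    unfold CycAlg.ordFrac
    have hcond : IsNoetherianRing (R ⧸ q) ∧ Ring.KrullDimLE 1 (R ⧸ q) ∧ Nontrivial (R ⧸ q) ∧
      IsFractionRing (R ⧸ q) q.ResidueField := ⟨inferInstance, inferInstance, inferInstance,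
        inferInstance⟩
    rw [dif_pos hcond]
    rw [hfeq]
    have h3 := Ring.ordFrac_eq_div (R ⧸ q) (K := q.ResidueField)
      (⟨Ideal.Quotient.mk q r, hrd⟩ : nonZeroDivisors (R ⧸ q))
      (⟨Ideal.Quotient.mk q s, hsd⟩ : nonZeroDivisors (R ⧸ q))
    simp only at h3
    rw [h3, Ring.ordMonoidWithZeroHom_eq_coe _ hrd hnr.symm,
      Ring.ordMonoidWithZeroHom_eq_coe _ hsd hns.symm]
    rw [← WithZero.coe_div]
    change (n : ℤ) = (nr : ℤ) - (ns : ℤ)
    omega

/-- Stacks Tag 02QB: let R be Noetherian local, 𝔮 a prime with dim R/𝔮 = 1, and φ : M → N a map of finite modules generated by x₁, …, x_l and y₁, …, y_l respectively, with all successive quotients ⟨x₁..x_i⟩/⟨x₁..x_{i−1}⟩ and ⟨y₁..y_i⟩/⟨y₁..y_{i−1}⟩ isomorphic to R/𝔮. Then φ is injective iff φ_𝔮 is bijective; and in that case, if the symbols of (φ(x_i)) and (y_i) in det_{κ(𝔮)}(N_𝔮) differ by the scalar f, the length of coker φ equals ord_{R/𝔮}(f). -/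
theorem result (R : Type u) [CommRing R] [IsNoetherianRing R] [IsLocalRing R] (q : PrimeSpectrum R) (hq : ringKrullDim (R ⧸ q.asIdeal) = 1) (M N : Type u) [AddCommGroup M] [Module R M] [AddCommGroup N] [Module R N] [Module.Finite R M] [Module.Finite R N] (φ : M →ₗ[R] N) (l : ℕ) (x : Fin l → M) (y : Fin l → N) (hx : Submodule.span R (Set.range x) = ⊤) (hy : Submodule.span R (Set.range y) = ⊤) (hxq : ∀ i : Fin l, Nonempty ((↥(CycDet.spanBefore R M x (i + 1)) ⧸ (CycDet.spanBefore R M x i).submoduleOf (CycDet.spanBefore R M x (i + 1))) ≃ₗ[R] (R ⧸ q.asIdeal))) (hyq : ∀ i : Fin l, Nonempty ((↥(CycDet.spanBefore R N y (i + 1)) ⧸ (CycDet.spanBefore R N y i).submoduleOf (CycDet.spanBefore R N y (i + 1))) ≃ₗ[R] (R ⧸ q.asIdeal))) : (Function.Injective φ ↔ Function.Bijective (LocalizedModule.map q.asIdeal.primeCompl φ)) ∧ (Function.Injective φ → ∀ (hl : (Module.length (Localization.AtPrime q.asIdeal) (LocalizedModule q.asIdeal.primeCompl N)).toNat = l) (ex ey : CycDet.Adm (Localization.AtPrime q.asIdeal) (LocalizedModule q.asIdeal.primeCompl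 N) (Module.length (Localization.AtPrime q.asIdeal) (LocalizedModule q.asIdeal.primeCompl N)).toNat) (f : q.asIdeal.ResidueField), (ex.1 = fun i => LocalizedModule.mkLinearMap q.asIdeal.primeCompl N (φ (x (Fin.cast hl i)))) → (ey.1 = fun i => LocalizedModule.mkLinearMap q.asIdeal.primeCompl N (y (Fin.cast hl i))) → CycDet.symbol (Localization.AtPrime q.asIdeal) (LocalizedModule q.asIdeal.primeCompl N) ex = f • CycDet.symbol (Localization.AtPrime q.asIdeal) (LocalizedModule q.asIdeal.primeCompl N) ey → ∃ n : ℕ, Module.length R (N ⧸ LinearMap.range φ) = n ∧ (n : ℤ) = CycAlg.ordFrac (R ⧸ q.asIdeal) q.asIdeal.ResidueField f) := by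
  exact aux R q.asIdeal hq M N φ l x y hx hy
    (Groth.Agent.CycA.DetKey.Filt.of_equiv q.asIdeal hxq)
    (Groth.Agent.CycA.DetKey.Filt.of_equiv q.asIdeal hyq)

end Groth.Agent.S1853
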