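import Groth.Statements.S1857
import Groth.Agent.CycB.RelDim3
import Groth.Agent.CycB.FlatLength

set_option autoImplicit false
universe u
open CategoryTheory AlgebraicGeometry
open Cyc

namespace Groth.Agent.S1857

/-- Stacks Tag 02RD: for flat morphisms f : X → Y and g : Y → Z locally of finite type of relative dimensions r and s, the composite has relative dimension r + s and (g ∘ f)^* = f^* ∘ g^* on k-cycles (equality of coefficient functions). Here a pair (X, δ) with Cyc.IsSetup plays the role of a scheme locally of finite type over the base (S, δ) of the source (X locally Noetherian with universally catenary local rings, δ a dimension function), and Cyc.DeltaCompat records that the dimension function upstairs is the induced one. -/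
theorem result (X Y Z : Scheme.{u}) (δX : X → ℤ) (δY : Y → ℤ) (δZ : Z → ℤ) (hX : Cyc.IsSetup X δX) (hY : Cyc.IsSetup Y δY) (hZ : Cyc.IsSetup Z δZ) (f : X ⟶ Y) (g : Y ⟶ Z) [Flat f] [LocallyOfFiniteType f] [Flat g] [LocallyOfFiniteType g] (r s : ℕ) (hr : Cyc.HasRelDim f r) (hs : Cyc.HasRelDim g s) (hf : Cyc.DeltaCompat f δX δY) (hg : Cyc.DeltaCompat g δY δZ) (k : ℤ) : Cyc.HasRelDim (f ≫ g) (r + s) ∧ ∀ α : AlgebraicCycle Z ℤ, α ∈ Cyc.Zk Z δZ k → Cyc.pullFun f δX δY r (Cyc.pullFun g δY δZ s ⇑α) = Cyc.pullFun (f ≫ g) δX δZ ((r : ℤ) + s) ⇑α := by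
  refine ⟨?_, fun α _ => ?_⟩
  · rw [Groth.Agent.CycB.RelDim.hasRelDim_iff]
    intro x hx
    have h1 : Groth.Agent.CycB.RelDim.FibGeneric f x := by
      intro x' h1 h2
      refine hx x' ?_ h2
      change g (f x') = g (f x)
      rw [h1]
    have h2 : Groth.Agent.CycB.RelDim.FibGeneric g (f x) := by
      intro y' hy' hsp
      obtain ⟨x', h3, h4⟩ := Groth.Agent.CycB.RelDim.exists_specializes_of_flat f hsp
      have h5 : x' = x := by
        refine hx x' ?_ h3
        change g (f x') = g (f x)
        rw [h4, hy']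
      rw [← h4, h5]
    rw [Groth.Agent.CycB.RelDim.rtd_comp, Groth.Agent.CycB.RelDim.rtd_of_fibGeneric hr h1,
      Groth.Agent.CycB.RelDim.rtd_of_fibGeneric hs h2]
    push_cast
    rw [add_comm]
  · funext x
    rw [Groth.Agent.CycB.FlatLength.pullFun_apply, Groth.Agent.CycB.FlatLength.pullFun_apply,
      Groth.Agent.CycB.FlatLength.pullFun_apply]
    have e : (f ≫ g) x = g (f x) := rfl
    rw [e, Groth.Agent.CycB.FlatLength.mult_comp]
    have h1 := Groth.Agent.CycB.RelDim.delta_le hr hf x
    have h2 := Groth.Agent.CycB.RelDim.delta_le hs hg (f x)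
    by_cases h3 : δX x = δY (f x) + r
    · by_cases h4 : δY (f x) = δZ (g (f x)) + s
      · have h5 : δX x = δZ (g (f x)) + ((r : ℤ) + s) := by omega
        rw [if_pos h3, if_pos h4, if_pos h5, ENat.toNat_mul]
        push_cast
        ring
      · have h5 : ¬ δX x = δZ (g (f x)) + ((r : ℤ) + s) := by omega
        rw [if_pos h3, if_neg h4, if_neg h5, zero_mul]
    · have h5 : ¬ δX x = δZ (g (f x)) + ((r : ℤ) + s) := by omega
      rw [if_neg h3, if_neg h5]

end Groth.Agent.S1857
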