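import Groth.Statements.S1861
import Groth.Agent.CycB.RelDim3

set_option autoImplicit false
universe u
open CategoryTheory AlgebraicGeometry
open Cyc

namespace Groth.Agent.S1861

/-- Stacks Tag 02R8 (second statement): let f : X → Y be flat, locally of finite type, of relative dimension r, y a point of Y and x a point of X that is generic in an irreducible component of f⁻¹ of the closure of y (that is, x lies in that closed set and has no proper generalization in it). Then f(x) = y and δX(x) = δY(y) + r. Here a pair (X, δ) with Cyc.IsSetup plays the role of a scheme locally of finite type over the base (S, δ) of the source (X locally Noetherian with universally catenary local rings, δ a dimension function), and Cyc.DeltaCompat records that the dimension function upstairs is the induced one. -/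
theorem result (X Y : Scheme.{u}) (δX : X → ℤ) (δY : Y → ℤ) (hX : Cyc.IsSetup X δX) (hY : Cyc.IsSetup Y δY) (f : X ⟶ Y) [Flat f] [LocallyOfFiniteType f] (r : ℕ) (hr : Cyc.HasRelDim f r) (hδ : Cyc.DeltaCompat f δX δY) (y : Y) (x : X) (hx : f x ∈ closure ({y} : Set Y)) (hmax : ∀ x' : X, f x' ∈ closure ({y} : Set Y) → x' ⤳ x → x' = x) : f x = y ∧ δX x = δY y + r := by
  have hy : y ⤳ f x := specializes_iff_mem_closure.mpr hx
  obtain ⟨x', h1, h2⟩ := Groth.Agent.CycB.RelDim.exists_specializes_of_flat f hy
  have h3 : x' = x := hmax x' (h2 ▸ subset_closure rfl) h1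
  have h4 : f x = y := by rw [← h3, h2]
  refine ⟨h4, ?_⟩
  have h5 : Groth.Agent.CycB.RelDim.FibGeneric f x := by
    intro x'' hx'' hsp
    refine hmax x'' ?_ hsp
    rw [hx'', h4]
    exact subset_closure rfl
  rw [← h4]
  exact (Groth.Agent.CycB.RelDim.fibGeneric_iff_delta hr hδ x).mp h5

end Groth.Agent.S1861
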