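import Groth.Statements.S1862
-- import your own Groth.Agent.* helpers here

set_option autoImplicit false
universe u
open CategoryTheory AlgebraicGeometry
open Cyc

namespace Groth.Agent.S1862

/-- Stacks Tag 02R1: let f : X → Y be a morphism locally of finite type of integral schemes with δX(η_X) = δY(η_Y). Then either the image of f is not dense, or f maps the generic point to the generic point and the induced extension of residue fields there (the function fields) is finite. Here a pair (X, δ) with Cyc.IsSetup plays the role of a scheme locally of finite type over the base (S, δ) of the source (X locally Noetherian with universally catenary local rings, δ a dimension function), and Cyc.DeltaCompat records that the dimension function upstairs is the induced one. -/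
theorem result (X Y : Scheme.{u}) [IsIntegral X] [IsIntegral Y] (δX : X → ℤ) (δY : Y → ℤ) (hX : Cyc.IsSetup X δX) (hY : Cyc.IsSetup Y δY) (f : X ⟶ Y) [LocallyOfFiniteType f] (hδ : Cyc.DeltaCompat f δX δY) (heq : δX (genericPoint X) = δY (genericPoint Y)) : ¬ Dense (Set.range f) ∨ (f (genericPoint X) = genericPoint Y ∧ (f.residueFieldMap (genericPoint X)).hom.Finite) := by
  by_cases hd : Dense (Set.range f)
  · right
    have hgen : f (genericPoint X) = genericPoint Y := by
      have h1 : closure ({f (genericPoint X)} : Set Y) = Set.univ := by
        rw [← Set.univ_subset_iff, ← hd.closure_eq]
        apply closure_minimal _ isClosed_closure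
        rintro _ ⟨x, rfl⟩
        have : genericPoint X ⤳ x := genericPoint_specializes x
        exact (this.map f.continuous).mem_closure
      have h2 : IsGenericPoint (f (genericPoint X)) (Set.univ : Set Y) := h1
      exact h2.eq (genericPoint_spec Y)
    refine ⟨hgen, ?_⟩
    obtain ⟨n, hn1, hn2⟩ := hδ (genericPoint X)
    rw [heq, hgen] at hn2
    have hn : n = 0 := by omega
    subst hn
    letI := (f.residueFieldMap (genericPoint X)).hom.toAlgebra
    have htr : Algebra.trdeg (Y.residueField (f (genericPoint X)))
        (X.residueField (genericPoint X)) = 0 := by simpa using hn1
    have halg : Algebra.IsAlgebraic (Y.residueField (f (genericPoint X)))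
        (X.residueField (genericPoint X)) := trdeg_eq_zero_iff.mp htr
    have hess : (f.residueFieldMap (genericPoint X)).hom.EssFiniteType := by
      have h1 : (f.stalkMap (genericPoint X)).hom.EssFiniteType :=
        LocallyOfFiniteType.stalkMap f (genericPoint X)
      have h2 : (X.residue (genericPoint X)).hom.EssFiniteType :=
        (RingHom.FiniteType.of_surjective _ (X.residue_surjective _)).essFiniteType
      have h3 := h1.comp h2
      rw [← CommRingCat.hom_comp, ← Scheme.residue_residueFieldMap, CommRingCat.hom_comp] at h3
      exact RingHom.EssFiniteType.of_comp _ h3
    haveI : Algebra.EssFiniteType (Y.residueField (f (genericPoint X)))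
        (X.residueField (genericPoint X)) := hess
    have : Module.Finite (Y.residueField (f (genericPoint X)))
        (X.residueField (genericPoint X)) := Algebra.finite_of_essFiniteType_of_isAlgebraic
    exact this
  · left; exact hd


end Groth.Agent.S1862
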