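import Groth.Statements.S1863
import Groth.Agent.CycB.RatTransport
import Groth.Agent.CycB.DivFun

set_option autoImplicit false
universe u
open CategoryTheory AlgebraicGeometry
open Cyc

namespace Groth.Agent.S1863

/-- Stacks Tag 02RX: let U ⊆ X be open and α, β k-cycles on X whose restrictions to U are rationally equivalent on U (for the restricted dimension function). Then there is a k-cycle γ on X vanishing on U with α rationally equivalent to β + γ. Here a pair (X, δ) with Cyc.IsSetup plays the role of a scheme locally of finite type over the base (S, δ) of the source (X locally Noetherian with universally catenary local rings, δ a dimension function), and Cyc.DeltaCompat records that the dimension function upstairs is the induced one. -/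
theorem result (X : Scheme.{u}) (δ : X → ℤ) (hX : Cyc.IsSetup X δ) (U : X.Opens) (k : ℤ) (α β : AlgebraicCycle X ℤ) (hα : α ∈ Cyc.Zk X δ k) (hβ : β ∈ Cyc.Zk X δ k) (αU βU : AlgebraicCycle (↑U : Scheme.{u}) ℤ) (hαU : ∀ u : ↥U, αU u = α (U.ι u)) (hβU : ∀ u : ↥U, βU u = β (U.ι u)) (h : Cyc.RatEquiv (fun u : ↥U => δ (U.ι u)) k αU βU) : ∃ γ : AlgebraicCycle X ℤ, γ ∈ Cyc.Zk X δ k ∧ (∀ x : X, x ∈ U → γ x = 0) ∧ Cyc.RatEquiv δ k α (β + γ) := by
  have := hX.1
  obtain ⟨ι, ζ, g, hζ, hg, hlf, hsum⟩ := h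
  choose f hf hd using fun j : ι => Groth.Agent.CycB.RatTransport.exists_extend U.ι δ (ζ j) (g j) (hg j)
  have hlf' : Groth.Agent.CycB.RatTransport.LocFin (fun j => U.ι (ζ j)) := Groth.Agent.CycB.RatTransport.LocFin.extend U.ι hlf
  obtain ⟨S, hS⟩ := Groth.Agent.CycB.DivFun.exists_cycle_sum_divFun hX.2.2 ((Groth.Agent.CycB.DivFun.locFin_iff _).2 hlf') f
  refine ⟨α - β - S, fun x hx => ?_, fun x hx => ?_, ι, fun j => U.ι (ζ j), f, hζ, hf, hlf', ?_⟩
  · have h1 : S x = 0 := by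
      rw [hS]
      exact finsum_eq_zero_of_forall_eq_zero fun j => Groth.Agent.CycB.RatTransport.divFun_eq_zero_of_ne δ k _ _ (hζ j) x hx
    simp [h1, hα x hx, hβ x hx]
  · have h1 : αU ⟨x, hx⟩ - βU ⟨x, hx⟩ = ∑ᶠ i, Cyc.divFun (fun u : ↥U => δ (U.ι u)) (ζ i) (g i) ⟨x, hx⟩ :=
      hsum ⟨x, hx⟩
    have h2 : S x = ∑ᶠ i, Cyc.divFun (fun u : ↥U => δ (U.ι u)) (ζ i) (g i) ⟨x, hx⟩ := by
      rw [hS]
      exact finsum_congr fun j => hd j ⟨x, hx⟩
    have h3 : αU ⟨x, hx⟩ = α x := hαU ⟨x, hx⟩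
    have h4 : βU ⟨x, hx⟩ = β x := hβU ⟨x, hx⟩
    change α x - β x - S x = 0
    rw [h2, ← h1, h3, h4, sub_self]
  · intro x
    rw [← hS]
    change α x - (β x + (α x - β x - S x)) = S x
    ring

end Groth.Agent.S1863
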