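import Groth.Statements.S1864
import Groth.Agent.Grpsch.Transl

set_option autoImplicit false
universe u v
open CategoryTheory MonoidalCategory CartesianMonoidalCategory MonObj GrpObj AlgebraicGeometry
open GrpSch

namespace Groth.Agent.S1864

/-- Stacks Tag 0B7S: let G be a group scheme locally of finite type over an algebraically closed field and g₁, …, g_n finitely many closed points of G. Then some affine open of G contains all the g_i. -/
theorem result (K : Type u) [Field K] [IsAlgClosed K] (G : Over (Spec (CommRingCat.of K))) [GrpObj G] [LocallyOfFiniteType G.hom] (n : ℕ) (g : Fin n → G.left) (hg : ∀ i, IsClosed ({g i} : Set G.left)) : ∃ U : G.left.Opens, IsAffineOpen U ∧ ∀ i, g i ∈ U := by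
  have : JacobsonSpace G.left := LocallyOfFiniteType.jacobsonSpace (Y := Spec _) G.hom
  have hirr := Grpsch.Transl.exists_irreducible_open_nhd G
  -- the identity component
  let e : G.left := η[G].left (IsLocalRing.closedPoint K)
  let G0 : Set G.left := irreducibleComponent e
  have hG0 : G0 ∈ irreducibleComponents G.left := irreducibleComponent_mem_irreducibleComponents e
  let Z : Fin n → Set G.left := fun i => irreducibleComponent (g i)
  have hZ : ∀ i, Z i ∈ irreducibleComponents G.left := fun i =>
    irreducibleComponent_mem_irreducibleComponents (g i)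
  have hZo : ∀ i, IsOpen (Z i) := fun i => Grpsch.Transl.isOpen_of_mem_components hirr (hZ i)
  let R : Fin n → (G ≅ G) := fun i => Grpsch.Transl.rightTr G (Grpsch.Transl.pt G (g i) (hg i))
  have hRe : ∀ i, (R i).hom.left e = g i := by
    intro i
    have h1 : η[G] ≫ (R i).hom = Grpsch.Transl.pt G (g i) (hg i) := by
      have := Grpsch.Transl.point_rightTr G (Grpsch.Transl.pt G (g i) (hg i)) η[G]
      have h2 : (η[G] : 𝟙_ _ ⟶ G) * Grpsch.Transl.pt G (g i) (hg i) =
          Grpsch.Transl.pt G (g i) (hg i) := by
        rw [MonObj.one_eq_one, _root_.one_mul]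
      exact this.trans h2
    have := congr(($h1).left (IsLocalRing.closedPoint K))
    rw [Grpsch.Transl.pt_apply] at this
    exact this
  have hRiso : ∀ i, IsIso (R i).hom.left := fun i =>
    inferInstanceAs (IsIso ((Over.forget _).map (R i).hom))
  have hRZ : ∀ i, (R i).hom.left ⁻¹' (Z i) = G0 := by
    intro i
    have h1 : (R i).hom.left ⁻¹' (Z i) ∈ irreducibleComponents G.left :=
      preimage_mem_irreducibleComponents (hZ i) (R i).hom.left.isOpenEmbedding
        ⟨g i, mem_irreducibleComponent, e, hRe i⟩
    refine Grpsch.Transl.components_eq_of_mem hirr h1 hG0 (x := e) ?_ mem_irreducibleComponent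
    rw [Set.mem_preimage, hRe i]
    exact mem_irreducibleComponent
  -- an affine open in each of the components
  have hex : ∀ W ∈ Set.range Z, ∃ V : G.left.Opens, IsAffineOpen V ∧ (V : Set G.left) ⊆ W ∧
      (V : Set G.left).Nonempty := by
    rintro _ ⟨i, rfl⟩
    obtain ⟨V, hV, hxV, hsub⟩ := (G.left.isBasis_affineOpens).exists_subset_of_mem_open
      (mem_irreducibleComponent (x := g i)) (hZo i)
    obtain ⟨V, hV', rfl⟩ := hV
    exact ⟨V, hV', hsub, g i, hxV⟩
  choose! V hVa hVs hVn using hex
  let U : G.left.Opens := ⨆ W ∈ Set.range Z, V W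
  have hU : IsAffineOpen U := by
    refine IsAffineOpen.biSup_of_disjoint (Set.finite_range Z) hVa ?_
    rintro W ⟨i, rfl⟩ W' ⟨j, rfl⟩ hne
    rw [Function.onFun, ← TopologicalSpace.Opens.coe_disjoint, Set.disjoint_left]
    intro x hx hx'
    exact hne (Grpsch.Transl.components_eq_of_mem hirr (hZ i) (hZ j) (hVs _ ⟨i, rfl⟩ hx)
      (hVs _ ⟨j, rfl⟩ hx'))
  have hVU : ∀ i, V (Z i) ≤ U := fun i => le_iSup₂_of_le (Z i) ⟨i, rfl⟩ le_rfl
  -- a point of the identity component moving all the `g i` into `U`
  classical
  have hne : (G0 ∩ ⋂₀ ((Finset.univ.image fun i => (R i).hom.left ⁻¹' (V (Z i) : Set G.left) :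
      Finset (Set G.left)) : Set (Set G.left))).Nonempty := by
    refine isIrreducible_iff_sInter.mp isIrreducible_irreducibleComponent _ ?_ ?_
    · simp only [Finset.mem_image, Finset.mem_univ, true_and, forall_exists_index,
        forall_apply_eq_imp_iff]
      intro i
      exact (V (Z i)).2.preimage (R i).hom.left.continuous
    · simp only [Finset.mem_image, Finset.mem_univ, true_and, forall_exists_index,
        forall_apply_eq_imp_iff]
      intro i
      obtain ⟨y, hy⟩ := hVn (Z i) ⟨i, rfl⟩
      obtain ⟨x, rfl⟩ := (R i).hom.left.surjective y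
      refine ⟨x, ?_, hy⟩
      change x ∈ G0
      rw [← hRZ i]
      exact hVs _ ⟨i, rfl⟩ hy
  have hop : IsOpen (G0 ∩ ⋂₀ ((Finset.univ.image fun i => (R i).hom.left ⁻¹' (V (Z i) :
      Set G.left) : Finset (Set G.left)) : Set (Set G.left))) := by
    refine (Grpsch.Transl.isOpen_of_mem_components hirr hG0).inter ?_
    refine Set.Finite.isOpen_sInter (Finset.finite_toSet _) ?_
    simp only [Finset.coe_image, Finset.coe_univ, Set.image_univ, Set.mem_range,
      forall_exists_index, forall_apply_eq_imp_iff]
    intro i
    exact (V (Z i)).2.preimage (R i).hom.left.continuous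
  obtain ⟨h, hh, hhc⟩ := nonempty_inter_closedPoints hne hop.isLocallyClosed
  let L := Grpsch.Transl.leftTr G (Grpsch.Transl.pt G h hhc)
  have : IsIso L.hom.left := inferInstanceAs (IsIso ((Over.forget _).map L.hom))
  refine ⟨L.hom.left ⁻¹ᵁ U, hU.preimage_of_isIso _, fun i => ?_⟩
  refine hVU i ?_
  have h2 := Grpsch.Transl.leftTr_apply G h (g i) hhc (hg i)
  have h3 : (R i).hom.left h ∈ V (Z i) := by
    have := hh.2
    simp only [Finset.coe_image, Finset.coe_univ, Set.image_univ, Set.sInter_range,
      Set.mem_iInter] at this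
    exact this i
  change L.hom.left (g i) ∈ V (Z i)
  rw [h2]
  exact h3

end Groth.Agent.S1864
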