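import Groth.Statements.S1865
import Groth.Agent.Grpsch.OpenSubgroup

set_option autoImplicit false
universe u v
open CategoryTheory MonoidalCategory CartesianMonoidalCategory MonObj GrpObj AlgebraicGeometry
open GrpSch

namespace Groth.Agent.S1865

/-- Stacks Tag 047U: a group scheme over a field contains an open and closed subset containing the identity point which is a countable union of affine opens. (The source does not mention the identity point; its construction contains it, and without it the empty set would do.) -/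
theorem result (K : Type u) [Field K] (G : Over (Spec (CommRingCat.of K))) [GrpObj G] : ∃ U : G.left.Opens, IsClosed (U : Set G.left) ∧ η[G].left (IsLocalRing.closedPoint K) ∈ U ∧ ∃ V : ℕ → G.left.Opens, (∀ n, IsAffineOpen (V n)) ∧ (U : Set G.left) = ⋃ n, (V n : Set G.left) := by
  let e : G.left := η[G].left (IsLocalRing.closedPoint K)
  -- a symmetric quasi-compact open neighbourhood of the identity
  obtain ⟨U, hUc, heU, hUinv⟩ : ∃ U : G.left.Opens, IsCompact (U : Set G.left) ∧ e ∈ U ∧
      ∀ x ∈ (U : Set G.left), ι[G].left x ∈ (U : Set G.left) := by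
    obtain ⟨U₀, hU₀, heU₀, -⟩ := (G.left.isBasis_affineOpens).exists_subset_of_mem_open
      (Set.mem_univ e) isOpen_univ
    obtain ⟨U₀, hU₀', rfl⟩ := hU₀
    have hιι : ι[G] ≫ ι[G] = 𝟙 G := by
      rw [GrpObj.inv_eq_inv, GrpObj.comp_inv, Category.comp_id, _root_.inv_inv]
    have hιιx : ∀ x : G.left, ι[G].left (ι[G].left x) = x := by
      intro x
      have := congr(($hιι).left x)
      rw [Over.comp_left, Scheme.Hom.comp_apply] at this
      exact this
    have hiso : IsIso ι[G].left := by
      refine ⟨ι[G].left, ?_, ?_⟩ <;>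
      · rw [← Over.comp_left, hιι]
        rfl
    refine ⟨U₀ ⊔ ι[G].left ⁻¹ᵁ U₀, ?_, Or.inl heU₀, ?_⟩
    · rw [TopologicalSpace.Opens.coe_sup]
      exact hU₀'.isCompact.union (hU₀'.preimage_of_isIso _).isCompact
    · rintro x (hx | hx)
      · right
        change ι[G].left (ι[G].left x) ∈ U₀
        rw [hιιx]
        exact hx
      · left
        exact hx
  let step : G.left.Opens → G.left.Opens := fun V =>
    ⟨μ[G].left '' ((fst G G).left ⁻¹' V ∩ (snd G G).left ⁻¹' U),
      μ[G].left.isOpenMap _ ((V.2.preimage (fst G G).left.continuous).inter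
        (U.2.preimage (snd G G).left.continuous))⟩
  let V : ℕ → G.left.Opens := fun n => step^[n] U
  have hV0 : V 0 = U := rfl
  have hVs : ∀ n, V (n + 1) = step (V n) := fun n => Function.iterate_succ_apply' _ _ _
  have hVc : ∀ n, IsCompact (V n : Set G.left) := by
    intro n
    induction n with
    | zero => exact hUc
    | succ n ih =>
      rw [hVs]
      exact (Grpsch.OpenSubgroup.isCompact_prod G G (V n) U ih hUc).image
        μ[G].left.continuous
  let W : G.left.Opens := ⨆ n, V n
  have hWc : IsClosed (W : Set G.left) := by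
    refine Grpsch.OpenSubgroup.isClosed_of_mul_mem G U W U.2 heU hUinv ?_
    intro z hz1 hz2
    simp only [W, TopologicalSpace.Opens.coe_iSup, Set.mem_iUnion] at hz1 ⊢
    obtain ⟨n, hn⟩ := hz1
    refine ⟨n + 1, ?_⟩
    rw [hVs]
    exact ⟨z, ⟨hn, hz2⟩, rfl⟩
  have heW : e ∈ W := (le_iSup V 0) heU
  refine ⟨W, hWc, heW, ?_⟩
  have h1 : ∀ n, ∃ s : Set G.left.affineOpens, s.Finite ∧
      (V n : Set G.left) = ⋃ i ∈ s, (i : Set G.left) := fun n =>
    isCompact_and_isOpen_iff_finite_and_eq_biUnion_affineOpens.mp ⟨hVc n, (V n).2⟩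
  choose s hs hs' using h1
  have hcount : (⋃ n, s n).Countable := Set.countable_iUnion fun n => (hs n).countable
  have hWeq : (W : Set G.left) = ⋃ i ∈ ⋃ n, s n, (i : Set G.left) := by
    simp only [W, TopologicalSpace.Opens.coe_iSup, hs']
    ext x
    simp only [Set.mem_iUnion]
    constructor
    · rintro ⟨n, i, hi, hx⟩
      exact ⟨i, ⟨n, hi⟩, hx⟩
    · rintro ⟨i, ⟨n, hi⟩, hx⟩
      exact ⟨n, i, hi, hx⟩
  have hne : (⋃ n, s n).Nonempty := by
    have heW' : e ∈ (W : Set G.left) := heW
    rw [hWeq] at heW'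
    simp only [Set.mem_iUnion] at heW'
    obtain ⟨i, hi, -⟩ := heW'
    exact ⟨i, Set.mem_iUnion.mpr hi⟩
  obtain ⟨f, hf⟩ := hcount.exists_eq_range hne
  refine ⟨fun n => (f n : G.left.Opens), fun n => (f n).2, ?_⟩
  rw [hWeq, hf, Set.biUnion_range]

end Groth.Agent.S1865
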