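import Groth.Statements.S2330
import Groth.Agent.Ega2.AmpleVery
import Groth.Agent.Ega2.VeryAmpleAmple
import Groth.Agent.S2327
-- import your own Groth.Agent.* helpers here

set_option autoImplicit false
universe u
open CategoryTheory CategoryTheory.Limits AlgebraicGeometry
open EGA2

namespace Groth.Agent.S2330

/-- EGA II, 4.5.10 (ii): let Y be affine, q : X → Y separated and of finite type, and L an invertible O_X-module. Then L is ample if and only if some L^{⊗n} (n > 0) is very ample relative to q in the sense that it is the pullback of O(1) along an immersion of X into some P^m_Y over Y; moreover if L is ample this holds for all n beyond some n₀. (The source's 'very ample' is through P(E) for a quasi-coherent E; for q of finite type over an affine base this agrees with immersions into P^m_Y.) -/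
theorem result {X Y : Scheme.{u}} [IsAffine Y] (q : X ⟶ Y) [IsSeparated q]
    [QuasiCompact q] [LocallyOfFiniteType q] (L : X.Modules) (hL : PicF.IsInvertible L) :
    (CohB1.IsAmple L ↔ ∃ n : ℕ, 0 < n ∧ RelAmple.IsRelVeryAmplePn q (CohB1.tensorPow L n)) ∧
      (CohB1.IsAmple L → ∃ n₀ : ℕ, ∀ n, n₀ ≤ n → RelAmple.IsRelVeryAmplePn q (CohB1.tensorPow L n)) := by
  have : CompactSpace X := QuasiCompact.compactSpace_of_compactSpace q
  have : X.IsSeparated := (HasAffineProperty.iff_of_isAffine (P := @IsSeparated) (f := q)).mp inferInstance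
  refine ⟨⟨fun h => ?_, ?_⟩, Groth.Agent.Ega2.AmpleVery.exists_forall_isRelVeryAmplePn q⟩
  · obtain ⟨n₀, hn₀⟩ := Groth.Agent.Ega2.AmpleVery.exists_forall_isRelVeryAmplePn q h
    exact ⟨max n₀ 1, lt_of_lt_of_le Nat.one_pos (le_max_right _ _), hn₀ _ (le_max_left _ _)⟩
  · rintro ⟨n, hn, h⟩
    exact (Groth.Agent.S2327.result X L hL n hn).mpr
      (Groth.Agent.Ega2.VeryAmpleAmple.isAmple_of_isRelVeryAmplePn q _ h)

end Groth.Agent.S2330
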