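import Groth.Statements.S1867
import Groth.Agent.CycB.FinCodimOne

set_option autoImplicit false
universe u
open CategoryTheory AlgebraicGeometry
open Cyc

namespace Groth.Agent.S1867

/-- Stacks Tag 02RM: let f : X → Y be a proper morphism of integral schemes with Y locally Noetherian, mapping the generic point to the generic point with finite extension of function fields, and let ξ be a point of Y whose local ring has dimension 1. Then f is finite over some open neighbourhood of ξ. -/
theorem result (X Y : Scheme.{u}) [IsIntegral X] [IsIntegral Y] [IsLocallyNoetherian Y] (f : X ⟶ Y) [IsProper f] (hgen : f (genericPoint X) = genericPoint Y) (hfin : (f.residueFieldMap (genericPoint X)).hom.Finite) (ξ : Y) (hξ : ringKrullDim (Y.presheaf.stalk ξ) = 1) : ∃ V : Y.Opens, ξ ∈ V ∧ IsFinite (f ∣_ V) := by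
  have halg : letI := (f.residueFieldMap (genericPoint X)).hom.toAlgebra
      Algebra.IsAlgebraic (Y.residueField (f (genericPoint X))) (X.residueField (genericPoint X)) := by
    letI := (f.residueFieldMap (genericPoint X)).hom.toAlgebra
    have : Module.Finite (Y.residueField (f (genericPoint X))) (X.residueField (genericPoint X)) := hfin
    exact Algebra.IsAlgebraic.of_finite _ _
  have hcl : IsClosed (f '' (f.quasiFiniteLocus : Set X)ᶜ) :=
    f.isClosedMap _ f.quasiFiniteLocus.isOpen.isClosed_compl
  refine ⟨⟨(f '' (f.quasiFiniteLocus : Set X)ᶜ)ᶜ, hcl.isOpen_compl⟩, ?_, ?_⟩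
  · rintro ⟨x, hx, rfl⟩
    exact hx (CycB.FinCodimOne.quasiFiniteAt_of_ringKrullDim_le_one f hgen halg x hξ.le)
  · set V : Y.Opens := ⟨(f '' (f.quasiFiniteLocus : Set X)ᶜ)ᶜ, hcl.isOpen_compl⟩ with hV
    have hqf : LocallyQuasiFinite (f ∣_ V) := by
      rw [← Scheme.Hom.quasiFiniteLocus_eq_top_iff]
      rw [eq_top_iff]
      intro x _
      change (f ∣_ V).QuasiFiniteAt x
      rw [← Scheme.Hom.quasiFiniteAt_comp_iff (g := V.ι), morphismRestrict_ι,
        Scheme.Hom.quasiFiniteAt_comp_iff_of_isOpenImmersion]
      by_contra hcon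
      exact x.2 ⟨x.1, hcon, rfl⟩
    exact IsFinite.of_isProper_of_locallyQuasiFinite _

end Groth.Agent.S1867
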