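import Groth.Statements.S1868
-- import your own Groth.Agent.* helpers here
import Groth.Agent.CycB.FiniteFlat

set_option autoImplicit false
universe u
open CategoryTheory AlgebraicGeometry
open Cyc

namespace Groth.Agent.S1868

/-- Stacks Tag 02RH: let f : X → Y be finite locally free of constant degree d (finite, flat, rank function constantly d). Then f has relative dimension 0 and for every k-cycle α on Y, f_*(f^*α) = d·α (for any cycle f^*α on X with the flat-pullback coefficients). Here a pair (X, δ) with Cyc.IsSetup plays the role of a scheme locally of finite type over the base (S, δ) of the source (X locally Noetherian with universally catenary local rings, δ a dimension function), and Cyc.DeltaCompat records that the dimension function upstairs is the induced one. -/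
theorem result (X Y : Scheme.{u}) (δX : X → ℤ) (δY : Y → ℤ) (hX : Cyc.IsSetup X δX) (hY : Cyc.IsSetup Y δY) (f : X ⟶ Y) [IsFinite f] [Flat f] (d : ℕ) (hd : ∀ y : Y, f.finrank y = d) (hδ : Cyc.DeltaCompat f δX δY) (k : ℤ) : Cyc.HasRelDim f 0 ∧ ∀ (α : AlgebraicCycle Y ℤ), α ∈ Cyc.Zk Y δY k → ∀ α' : AlgebraicCycle X ℤ, ⇑α' = Cyc.pullFun f δX δY 0 ⇑α → AlgebraicCycle.map f δX δY α' = d • α := by
  refine ⟨?_, ?_⟩
  · intro y T hT
    have hd : DiscreteTopology (f.fiber y) := inferInstance
    have := CycB.FiniteFlat.topologicalKrullDim_of_mem_irreducibleComponents_of_discrete T hT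
    simpa using this
  · intro α hα α' hα'
    have hdelta : ∀ x : X, δX x = δY (f x) :=
      CycB.FiniteFlat.delta_eq_of_locallyQuasiFinite f δX δY hδ
    ext y
    rw [CycB.Push.map_apply]
    have h1 : ∀ x ∈ {x : X | f x = y}, α' x * (AlgebraicCycle.mapCoeff f δX δY x : ℤ) =
        α y * (((Module.length (X.presheaf.stalk x)
          (X.presheaf.stalk x ⧸ CycB.FiberStalk.fibIdeal f x)).toNat *
            f.residueDegree x : ℕ) : ℤ) := by
      rintro x rfl
      rw [hα']
      unfold Cyc.pullFun AlgebraicCycle.mapCoeff
      rw [if_pos (by rw [hdelta x]; simp), if_pos (hdelta x)]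
      push_cast
      ring
    rw [finsum_mem_congr rfl h1]
    have hfin : {x : X | f x = y}.Finite := f.finite_preimage_singleton y
    rw [← mul_finsum_mem]
    have h2 : (∑ᶠ x ∈ {x : X | f x = y}, (((Module.length (X.presheaf.stalk x)
          (X.presheaf.stalk x ⧸ CycB.FiberStalk.fibIdeal f x)).toNat *
            f.residueDegree x : ℕ) : ℤ)) = (d : ℤ) := by
      rw [← hd y, ← CycB.FiniteFlat.finsum_finite_flat f y]
      exact ((Nat.castAddMonoidHom ℤ).map_finsum_mem _ hfin).symm
    rw [h2]
    simp [mul_comm]

end Groth.Agent.S1868
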