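import Groth.Statements.S1913
import Groth.Agent.CycA.DiagStalk

set_option autoImplicit false
universe u
open CategoryTheory AlgebraicGeometry
attribute [local instance] HasDerivedCategory.standard
open CategoryTheory.Limits
open IntMult

namespace Groth.Agent.S1913

/-- Stacks Tag 0B0U (2), coefficientwise: e(X, V·W, Z) = e(X × X, Δ·(V × W), Δ(Z)), where X × X is the product over K, Δ its diagonal (a closed immersion, X being separated) and V × W ⊆ X × X the product closed subscheme. Here X is a nonsingular variety over an algebraically closed field K (smooth, separated, of finite type, integral), V and W are closed subvarieties given by quasi-coherent ideal sheaves with integral subschemes, of dimensions r and s with dim X = n, intersecting properly, and ξ is the generic point of an irreducible component Z of V ∩ W; e(X, V·W, Z) is the alternating sum of lengths of Tor over O_{X,ξ}. -/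
theorem result (K : Type u) [Field K] [IsAlgClosed K] (X : Scheme.{u}) (f : X ⟶ Spec (CommRingCat.of K)) [Smooth f] [IsSeparated f] [QuasiCompact f] [IsIntegral X] (IV IW : X.IdealSheafData) [IsIntegral IV.subscheme] [IsIntegral IW.subscheme] (n r s : ℕ) (hn : topologicalKrullDim X = n) (hr : topologicalKrullDim IV.support = r) (hs : topologicalKrullDim IW.support = s) (hprop : IntMult.ProperInt (IV.support : Set X) (IW.support : Set X) n r s) (ξ : X) (hξV : ξ ∈ IV.support) (hξW : ξ ∈ IW.support) (hmax : ∀ ξ' : X, ξ' ∈ IV.support → ξ' ∈ IW.support → ξ' ⤳ ξ → ξ' = ξ) : IntMult.mult IV IW ξ = IntMult.mult (pullback.map (IV.subschemeι ≫ f) (IW.subschemeι ≫ f) f f IV.subschemeι IW.subschemeι (𝟙 _) (Category.comp_id _) (Category.comp_id _)).ker (pullback.diagonal f).ker (pullback.diagonal f ξ) := by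
  exact Groth.Agent.CycA.DiagStalk.mult_eq_mult_diagonal f IV IW ξ hξV hξW

end Groth.Agent.S1913
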