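import Groth.Statements.S1871
import Groth.Agent.S1582
import Groth.Agent.S1874
import Groth.Agent.S1913
import Groth.Agent.CycA.DiagReg
import Groth.Agent.CycA.ProdDim
import Groth.Agent.CycA.TorShift
import Mathlib.AlgebraicGeometry.Morphisms.ClosedImmersion

set_option autoImplicit false
universe u
open CategoryTheory AlgebraicGeometry
attribute [local instance] HasDerivedCategory.standard
open IntMult

namespace Groth.Agent.S1871

section

open CategoryTheory.Limits

theorem chi_comm (A : Type u) [CommRing A] (M N : Type u) [AddCommGroup M] [Module A M]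
    [AddCommGroup N] [Module A N] : IntMult.chi A M N = IntMult.chi A N M := by
  unfold IntMult.chi
  refine finsum_congr fun i => ?_
  obtain ⟨e⟩ := Groth.Agent.CycA.TorShift.comm (A := A) i M N
  rw [e.length_eq]

theorem mult_comm {X : Scheme.{u}} (IV IW : X.IdealSheafData) (ξ : X) :
    IntMult.mult IV IW ξ = IntMult.mult IW IV ξ := by
  unfold IntMult.mult
  exact chi_comm _ _ _

theorem coe_support_ker {Z Y : Scheme.{u}} (i : Z ⟶ Y) [IsClosedImmersion i] :
    (i.ker.support : Set Y) = Set.range i := by
  rw [Scheme.Hom.support_ker]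
  exact i.isClosedEmbedding.isClosed_range.closure_eq

theorem dim_support_ker {Z Y : Scheme.{u}} (i : Z ⟶ Y) [IsClosedImmersion i] :
    topologicalKrullDim i.ker.support = topologicalKrullDim Z := by
  have e : Z ≃ₜ (i.ker.support : Set Y) :=
    i.isEmbedding.toHomeomorph.trans (Homeomorph.setCongr (coe_support_ker i).symm)
  exact (IsHomeomorph.topologicalKrullDim_eq _ e.isHomeomorph).symm

theorem isIntegral_ker_subscheme {Z Y : Scheme.{u}} (i : Z ⟶ Y) [IsClosedImmersion i]
    [IsIntegral Z] : IsIntegral i.ker.subscheme := by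
  have : IsIntegral i.image := IsIntegral.of_isIso i.toImage
  exact this

theorem dim_subscheme {Y : Scheme.{u}} (I : Y.IdealSheafData) :
    topologicalKrullDim I.subscheme = topologicalKrullDim I.support := by
  have e : I.subscheme ≃ₜ (I.support : Set Y) :=
    I.subschemeι.isEmbedding.toHomeomorph.trans (Homeomorph.setCongr I.range_subschemeι)
  exact (IsHomeomorph.topologicalKrullDim_eq _ e.isHomeomorph)


variable {X V W S : Scheme.{u}} (f : X ⟶ S) (i : V ⟶ X) (j : W ⟶ X)

/-- The product of two closed subschemes as a closed subscheme of the product. -/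
noncomputable abbrev prodι : pullback (i ≫ f) (j ≫ f) ⟶ pullback f f :=
  pullback.map (i ≫ f) (j ≫ f) f f i j (𝟙 _) (Category.comp_id _) (Category.comp_id _)

theorem range_prodι : Set.range (prodι f i j) =
    pullback.fst f f ⁻¹' Set.range i ∩ pullback.snd f f ⁻¹' Set.range j :=
  Scheme.Pullback.range_map (i ≫ f) (j ≫ f) f f i j (𝟙 _) (Category.comp_id _)
    (Category.comp_id _)

theorem isClosedImmersion_prodι [hi : IsClosedImmersion i] [hj : IsClosedImmersion j] :
    IsClosedImmersion (prodι f i j) :=
  MorphismProperty.pullbackMap (P := @IsClosedImmersion) hi hj rfl rfl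

theorem diagonal_mem_range_prodι (x : X) :
    pullback.diagonal f x ∈ Set.range (prodι f i j) ↔ x ∈ Set.range i ∧ x ∈ Set.range j := by
  rw [range_prodι]
  have h1 : pullback.fst f f (pullback.diagonal f x) = x := by
    rw [← Scheme.Hom.comp_apply, pullback.diagonal_fst]; rfl
  have h2 : pullback.snd f f (pullback.diagonal f x) = x := by
    rw [← Scheme.Hom.comp_apply, pullback.diagonal_snd]; rfl
  simp only [Set.mem_inter_iff, Set.mem_preimage, h1, h2]

end

open CategoryTheory.Limits in
/-- Stacks Tag 0B0V (positivity of intersection multiplicities): e(X, V·W, Z) > 0. Here X is a nonsingular variety over an algebraically closed field K (smooth, separated, of finite type, integral), V and W are closed subvarieties given by quasi-coherent ideal sheaves with integral subschemes, of dimensions r and s with dim X = n, intersecting properly, and ξ is the generic point of an irreducible component Z of V ∩ W; e(X, V·W, Z) is the alternating sum of lengths of Tor over O_{X,ξ}. -/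
theorem result (K : Type u) [Field K] [IsAlgClosed K] (X : Scheme.{u}) (f : X ⟶ Spec (CommRingCat.of K)) [Smooth f] [IsSeparated f] [QuasiCompact f] [IsIntegral X] (IV IW : X.IdealSheafData) [IsIntegral IV.subscheme] [IsIntegral IW.subscheme] (n r s : ℕ) (hn : topologicalKrullDim X = n) (hr : topologicalKrullDim IV.support = r) (hs : topologicalKrullDim IW.support = s) (hprop : IntMult.ProperInt (IV.support : Set X) (IW.support : Set X) n r s) (ξ : X) (hξV : ξ ∈ IV.support) (hξW : ξ ∈ IW.support) (hmax : ∀ ξ' : X, ξ' ∈ IV.support → ξ' ∈ IW.support → ξ' ⤳ ξ → ξ' = ξ) : 0 < IntMult.mult IV IW ξ := by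
  have hI : IsIntegral (pullback f f) := S1582.result K X X f f
  have hIP : IsIntegral (pullback (IV.subschemeι ≫ f) (IW.subschemeι ≫ f)) :=
    S1582.result K _ _ (IV.subschemeι ≫ f) (IW.subschemeι ≫ f)
  have hcl := isClosedImmersion_prodι f IV.subschemeι IW.subschemeι
  let P := prodι f IV.subschemeι IW.subschemeι
  let D := pullback.diagonal f
  have hI1 : IsIntegral P.ker.subscheme := isIntegral_ker_subscheme P
  have hI2 : IsIntegral D.ker.subscheme := isIntegral_ker_subscheme D
  -- dimensions
  have hdimY : topologicalKrullDim ↥(pullback f f) = ((n + n : ℕ) : WithBot ℕ∞) := by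
    obtain ⟨a, b, ha, hb, hab⟩ := Groth.Agent.CycA.ProdDim.exists_dim_pullback f f
    rw [hn] at ha hb
    have ha' : n = a := by exact_mod_cast ha
    have hb' : n = b := by exact_mod_cast hb
    rw [hab, ← ha', ← hb']
  have hdimP : topologicalKrullDim P.ker.support = ((r + s : ℕ) : WithBot ℕ∞) := by
    rw [dim_support_ker P]
    obtain ⟨a, b, ha, hb, hab⟩ := Groth.Agent.CycA.ProdDim.exists_dim_pullback
      (IV.subschemeι ≫ f) (IW.subschemeι ≫ f)
    rw [dim_subscheme, hr] at ha
    rw [dim_subscheme, hs] at hb
    have ha' : r = a := by exact_mod_cast ha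
    have hb' : s = b := by exact_mod_cast hb
    rw [hab, ← ha', ← hb']
  have hdimD : topologicalKrullDim D.ker.support = (n : WithBot ℕ∞) := by
    rw [dim_support_ker D, hn]
  -- supports
  have hmemD : ∀ y, y ∈ D.ker.support ↔ y ∈ Set.range D := fun y => by
    rw [← coe_support_ker D]; rfl
  have hmemP : ∀ y, y ∈ P.ker.support ↔ y ∈ Set.range P := fun y => by
    rw [← coe_support_ker P]; rfl
  have hmemV : ∀ x, x ∈ Set.range IV.subschemeι ↔ x ∈ IV.support := fun x => by
    rw [IV.range_subschemeι]; rfl
  have hmemW : ∀ x, x ∈ Set.range IW.subschemeι ↔ x ∈ IW.support := fun x => by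
    rw [IW.range_subschemeι]; rfl
  have hDP : ∀ x, D x ∈ P.ker.support ↔ x ∈ IV.support ∧ x ∈ IW.support := by
    intro x
    rw [hmemP, ← hmemV, ← hmemW]
    exact diagonal_mem_range_prodι f IV.subschemeι IW.subschemeι x
  have hinter : (D.ker.support : Set ↥(pullback f f)) ∩ (P.ker.support : Set ↥(pullback f f)) =
      D '' ((IV.support : Set X) ∩ (IW.support : Set X)) := by
    ext y
    constructor
    · rintro ⟨h1, h2⟩
      obtain ⟨x, rfl⟩ := (hmemD y).mp h1
      exact ⟨x, (hDP x).mp h2, rfl⟩
    · rintro ⟨x, hx, rfl⟩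
      exact ⟨(hmemD _).mpr ⟨x, rfl⟩, (hDP x).mpr hx⟩
  have hproper : IntMult.ProperInt (D.ker.support : Set ↥(pullback f f))
      (P.ker.support : Set ↥(pullback f f)) (n + n) n (r + s) := by
    intro hne
    rw [hinter] at hne ⊢
    obtain ⟨h1, h2⟩ := hprop (by simpa using hne)
    refine ⟨by omega, ?_⟩
    have e : ↥((IV.support : Set X) ∩ (IW.support : Set X)) ≃ₜ
        ↥(D '' ((IV.support : Set X) ∩ (IW.support : Set X))) :=
      D.isEmbedding.homeomorphImage _
    rw [← IsHomeomorph.topologicalKrullDim_eq _ e.isHomeomorph]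
    have h3 : n + (r + s) - (n + n) = r + s - n := by omega
    rw [h3]
    exact h2
  obtain ⟨c, g, hg, hreg, -⟩ :=
    Groth.Agent.CycA.DiagReg.exists_regular_generators_diagonal K f ξ
  have key := (S1874.result K (pullback f f) (pullback.fst f f ≫ f) D.ker P.ker (n + n) n (r + s)
    hdimY hdimD hdimP hproper (D ξ) ((hmemD _).mpr ⟨ξ, rfl⟩) ((hDP ξ).mpr ⟨hξV, hξW⟩) (by
      intro y hyD hyP hy
      obtain ⟨x, rfl⟩ := (hmemD y).mp hyD
      obtain ⟨hx1, hx2⟩ := (hDP x).mp hyP
      rw [hmax x hx1 hx2 (D.isEmbedding.isInducing.specializes_iff.mp hy)]) c g hg hreg).2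
  rw [S1913.result K X f IV IW n r s hn hr hs hprop ξ hξV hξW hmax, mult_comm]
  exact key

end Groth.Agent.S1871
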