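import Groth.Statements.S1875
import Groth.Agent.CycA.LenPow
import Mathlib.FieldTheory.PurelyInseparable.PerfectClosure
import Mathlib.RingTheory.AlgebraicIndependent.TranscendenceBasis
import Mathlib.RingTheory.Spectrum.Prime.Homeomorph
import Mathlib.RingTheory.Unramified.Field
import Mathlib.RingTheory.TensorProduct.MvPolynomial
import Mathlib.RingTheory.Localization.BaseChange
import Mathlib.FieldTheory.IntermediateField.Adjoin.Algebra

set_option autoImplicit false
universe u
open TensorProduct
open RelCyc

namespace Groth.Agent.S1875

section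

open Module Groth.Agent.CycA.LenPow

/-- The property for all extensions `K/k`. -/
def P (p : ℕ) (k L : Type u) [Field k] [Field L] [Algebra k L] : Prop :=
  ∀ (K : Type u) [Field K] [Algebra k K], PPL p (K ⊗[k] L)

theorem P.tower {p : ℕ} {k L₁ L₂ : Type u} [Field k] [Field L₁] [Field L₂] [Algebra k L₁]
    [Algebra L₁ L₂] [Algebra k L₂] [IsScalarTower k L₁ L₂]
    (h₁ : P p k L₁) (h₂ : P p L₁ L₂) : P p k L₂ := by
  intro K _ _
  let A := L₁ ⊗[k] K
  let B := A ⊗[L₁] L₂
  have hA : PPL p A := (h₁ K).of_ringEquiv (Algebra.TensorProduct.comm k K L₁).toRingEquiv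
  have hB : PPL p B := by
    refine PPL.of_flat (A := A) (B := B) hA ?_
    intro q hq _
    exact (h₂ q.ResidueField).of_ringEquiv
      (Algebra.TensorProduct.cancelBaseChange L₁ A A q.ResidueField L₂).symm.toRingEquiv
  refine hB.of_ringEquiv ?_
  exact (Algebra.TensorProduct.comm L₁ A L₂).toRingEquiv.trans
    ((Algebra.TensorProduct.cancelBaseChange k L₁ L₁ L₂ K).toRingEquiv.trans
      (Algebra.TensorProduct.comm k L₂ K).toRingEquiv)

theorem P.of_isSeparable (p : ℕ) (k L : Type u) [Field k] [Field L] [Algebra k L]
    [FiniteDimensional k L] [Algebra.IsSeparable k L] : P p k L := by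
  intro K _ _
  have := Algebra.FormallyUnramified.of_isSeparable k L
  have : IsReduced (K ⊗[k] L) :=
    Algebra.FormallyUnramified.isReduced_of_field K (K ⊗[k] L)
  exact PPL.of_isReduced _ _

theorem P.of_isPurelyInseparable (p : ℕ) (k L : Type u) [Field k] [Field L] [Algebra k L]
    [ExpChar k p] [FiniteDimensional k L] [IsPurelyInseparable k L] : P p k L := by
  intro K _ _ q hq _
  obtain ⟨m, hm⟩ := IsPurelyInseparable.finrank_eq_pow (F := k) L p
  have hK : ExpChar K p := expChar_of_injective_algebraMap (algebraMap k K).injective p
  have hinj := (PrimeSpectrum.isHomeomorph_comap_of_isPurelyInseparable k L K).bijective.injective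
  have hlen : Module.length K (Localization.AtPrime q) = (p ^ m : ℕ) := by
    have hu : q.primeCompl ≤ IsUnit.submonoid (K ⊗[k] L) := by
      intro x hx
      by_contra hxu
      obtain ⟨M, hM, hxM⟩ := exists_max_ideal_of_mem_nonunits hxu
      have h1 : (⟨M, hM.isPrime⟩ : PrimeSpectrum (K ⊗[k] L)) = ⟨q, hq⟩ :=
        hinj (Subsingleton.elim _ _)
      have h2 : M = q := congrArg PrimeSpectrum.asIdeal h1
      exact hx (h2 ▸ hxM)
    let e : (K ⊗[k] L) ≃ₗ[K] Localization.AtPrime q :=
      ((IsLocalization.atUnits (K ⊗[k] L) q.primeCompl
        (S := Localization.AtPrime q) hu).restrictScalars K).toLinearEquiv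
    rw [← e.length_eq, Module.length_eq_finrank, Module.finrank_baseChange, hm]
  rw [IsLocalRing.length_restrictScalars K (Localization.AtPrime q) (Localization.AtPrime q)]
    at hlen
  have hb : Module.length (IsLocalRing.ResidueField K)
      (IsLocalRing.ResidueField (Localization.AtPrime q)) ≠ 0 := by
    simpa [pos_iff_ne_zero] using Module.length_pos
  have ha : Module.length (Localization.AtPrime q) (Localization.AtPrime q) ≠ 0 := by
    simpa [pos_iff_ne_zero] using Module.length_pos
  generalize Module.length (Localization.AtPrime q) (Localization.AtPrime q) = a at *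
  generalize Module.length (IsLocalRing.ResidueField K)
      (IsLocalRing.ResidueField (Localization.AtPrime q)) = b at *
  induction a using ENat.recTopCoe with
  | top =>
    rw [ENat.top_mul hb] at hlen
    exact absurd hlen.symm (ENat.natCast_ne_top _)
  | coe a =>
    induction b using ENat.recTopCoe with
    | top =>
      rw [ENat.mul_top ha] at hlen
      exact absurd hlen.symm (ENat.natCast_ne_top _)
    | coe b =>
      have hab : a * b = p ^ m := by exact_mod_cast hlen
      have hdvd : a ∣ p ^ m := ⟨b, hab.symm⟩
      rcases ‹ExpChar k p› with _ | hp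
      · refine ⟨0, ?_⟩
        rw [one_pow, Nat.dvd_one] at hdvd
        simp [hdvd]
      · obtain ⟨n, -, hn⟩ := (Nat.dvd_prime_pow hp).mp hdvd
        exact ⟨n, by rw [hn]⟩

open scoped IntermediateField.algebraAdjoinAdjoin in
theorem P.of_transcendental (p : ℕ) (k L : Type u) [Field k] [Field L] [Algebra k L]
    (s : Set L) (hs : AlgebraicIndependent k ((↑) : s → L)) :
    P p k (IntermediateField.adjoin k s) := by
  intro K _ _
  let A := Algebra.adjoin k s
  have hA : IsReduced (K ⊗[k] A) := by
    have e1 : MvPolynomial s k ≃ₐ[k] A :=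
      hs.aevalEquiv.trans (Subalgebra.equivOfEq _ _ (by simp [A]))
    have e2 : MvPolynomial s K ≃ₐ[K] K ⊗[k] A :=
      (MvPolynomial.algebraTensorAlgEquiv k K).symm.trans
        (Algebra.TensorProduct.congr AlgEquiv.refl e1)
    exact isReduced_of_injective e2.symm e2.symm.injective
  let e := IsLocalization.tensorProductEquivOfMapIncludeRight k K (nonZeroDivisors A)
    (IntermediateField.adjoin k s)
    (Localization ((nonZeroDivisors A).map (Algebra.TensorProduct.includeRight (R := k) (A := K))))
  have : IsReduced (K ⊗[k] (IntermediateField.adjoin k s)) :=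
    isReduced_of_injective e e.injective
  exact PPL.of_isReduced _ _

theorem P.of_fg (p : ℕ) (k L : Type u) [Field k] [Field L] [Algebra k L] [ExpChar k p]
    (hL : (⊤ : IntermediateField k L).FG) : P p k L := by
  obtain ⟨s, hs⟩ := exists_isTranscendenceBasis k L
  let L₀ := IntermediateField.adjoin k s
  have halg : Algebra.IsAlgebraic L₀ L := by
    have := hs.isAlgebraic_field
    rwa [Subtype.range_coe] at this
  have hess : Algebra.EssFiniteType k L := IntermediateField.fg_top_iff.mp hL
  have hess' : Algebra.EssFiniteType L₀ L := Algebra.EssFiniteType.of_comp k L₀ L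
  have hfin : FiniteDimensional L₀ L := Algebra.finite_of_essFiniteType_of_isAlgebraic
  have hexp : ExpChar L₀ p := expChar_of_injective_algebraMap (algebraMap k L₀).injective p
  let L₁ := separableClosure L₀ L
  have hexp' : ExpChar L₁ p := expChar_of_injective_algebraMap (algebraMap L₀ L₁).injective p
  have h1 : P p k L₀ := P.of_transcendental p k L s hs.1
  have h2 : P p L₀ L₁ := P.of_isSeparable p L₀ L₁
  have h3 : P p L₁ L := P.of_isPurelyInseparable p L₁ L
  exact P.tower h1 (P.tower h2 h3)

end

/-- Stacks Tag 0H4F, algebraic form: let k be a field of exponential characteristic p, K/k any field extension and L/k a finitely generated field extension (the function field of an integral scheme locally of finite type over k). For every minimal prime 𝔮 of K ⊗_k L the length of the Artinian local ring (K ⊗_k L)_𝔮 — the multiplicity of the corresponding irreducible component of the base change — is a power of p (so 1 in characteristic zero). -/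
theorem result (k K L : Type u) [Field k] [Field K] [Field L] [Algebra k K] [Algebra k L] (hL : (⊤ : IntermediateField k L).FG) (p : ℕ) [ExpChar k p] (q : Ideal (K ⊗[k] L)) [q.IsPrime] (hq : q ∈ minimalPrimes (K ⊗[k] L)) : ∃ n : ℕ, Module.length (Localization.AtPrime q) (Localization.AtPrime q) = (p ^ n : ℕ) :=
  P.of_fg p k L hL K q hq

end Groth.Agent.S1875
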