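import Groth.Statements.S1876
import Mathlib.Algebra.Homology.DerivedCategory.KProjective

set_option autoImplicit false
universe u
open CategoryTheory
attribute [local instance] HasDerivedCategory.standard
open Trace

namespace Groth.Agent.S1876

section

variable {Λ : Type u} [CommRing Λ]

/-- The alternating trace over the interval `[a, b]`. -/
noncomputable def tr (a b : ℤ) {P : DRing.Cx Λ} (f : P ⟶ P) : Λ :=
  ∑ i ∈ Finset.Icc a b, ((i.negOnePow : ℤˣ) : ℤ) • LinearMap.trace Λ (P.X i) (f.f i).hom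

theorem trace_comp_comm {M N : ModuleCat.{u} Λ} (hM : Module.Finite Λ M ∧ Module.Free Λ M)
    (hN : Module.Finite Λ N ∧ Module.Free Λ N) (x : M ⟶ N) (y : N ⟶ M) :
    LinearMap.trace Λ M (x ≫ y).hom = LinearMap.trace Λ N (y ≫ x).hom := by
  obtain ⟨_, _⟩ := hM
  obtain ⟨_, _⟩ := hN
  rw [ModuleCat.hom_comp, ModuleCat.hom_comp]
  exact LinearMap.trace_comp_comm' _ _

theorem tr_comp_comm (a b : ℤ) {P Q : DRing.Cx Λ} (hP : DRing.TermwiseFiniteFree P)
    (hQ : DRing.TermwiseFiniteFree Q) (x : P ⟶ Q) (y : Q ⟶ P) :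
    tr a b (x ≫ y) = tr a b (y ≫ x) := by
  unfold tr
  refine Finset.sum_congr rfl fun i _ => ?_
  rw [HomologicalComplex.comp_f, HomologicalComplex.comp_f, trace_comp_comm (hP i) (hQ i)]

theorem telescope (v : ℤ → Λ) (a b : ℤ) (hab : a - 1 ≤ b) :
    ∑ i ∈ Finset.Icc a b, (v i - v (i - 1)) = v b - v (a - 1) := by
  induction b, hab using Int.leInduction with
  | base => simp
  | succ n hn ih =>
    have : Finset.Icc a (n + 1) = insert (n + 1) (Finset.Icc a n) := by
      ext x
      simp only [Finset.mem_Icc, Finset.mem_insert]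
      omega
    rw [this, Finset.sum_insert (by simp), ih, add_sub_cancel_right]
    ring

theorem tr_eq_of_homotopy (a b : ℤ) {P : DRing.Cx Λ} (hP : DRing.VanishesOutside P a b)
    (hPf : DRing.TermwiseFiniteFree P) (f g : P ⟶ P) (h : Homotopy f g) :
    tr a b f = tr a b g := by
  rcases lt_or_ge b a with hab | hab
  · simp [tr, Finset.Icc_eq_empty (not_le.mpr hab)]
  let u : ℤ → Λ := fun i => LinearMap.trace Λ (P.X i) (P.d i (i + 1) ≫ h.hom (i + 1) i).hom
  have hu' : ∀ j k : ℤ, j + 1 = k →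
      LinearMap.trace Λ (P.X j) (P.d j k ≫ h.hom k j).hom = u j := by
    rintro j _ rfl
    rfl
  have hu : ∀ i, LinearMap.trace Λ (P.X i) (f.f i).hom - LinearMap.trace Λ (P.X i) (g.f i).hom =
      u i + u (i - 1) := by
    intro i
    have h1 := h.comm i
    rw [dNext_eq h.hom (show (ComplexShape.up ℤ).Rel i (i + 1) by simp),
      prevD_eq h.hom (show (ComplexShape.up ℤ).Rel (i - 1) i by simp)] at h1
    rw [h1, ModuleCat.hom_add, ModuleCat.hom_add, map_add, map_add, add_sub_cancel_right,
      trace_comp_comm (hPf i) (hPf (i - 1)), hu' _ _ rfl, hu' _ _ (sub_add_cancel i 1)]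
  have hzero : ∀ i, Limits.IsZero (P.X i) → u i = 0 := by
    intro i hi
    have : P.d i (i + 1) ≫ h.hom (i + 1) i = 0 := hi.eq_of_src _ _
    simp only [u, this]
    simp
  have hub : u b = 0 := by
    have h0 : P.d b (b + 1) = 0 := (hP (b + 1) (Or.inr (by omega))).eq_of_tgt _ _
    simp only [u, h0]
    simp
  have hua : u (a - 1) = 0 := hzero _ (hP _ (Or.inl (by omega)))
  rw [← sub_eq_zero]
  unfold tr
  rw [← Finset.sum_sub_distrib]
  have := telescope (fun i => ((i.negOnePow : ℤˣ) : ℤ) • u i) a b (by omega)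
  rw [hub, hua, smul_zero, smul_zero, sub_zero] at this
  rw [← this]
  refine Finset.sum_congr rfl fun i _ => ?_
  rw [← smul_sub, hu i, smul_add]
  have hs : (((i - 1).negOnePow : ℤˣ) : ℤ) = -((i.negOnePow : ℤˣ) : ℤ) := by
    rw [Int.negOnePow_sub, Int.negOnePow_one]
    simp
  simp only [hs, neg_smul, sub_neg_eq_add]

variable {a b : ℤ}

theorem isKProjective {P : DRing.Cx Λ} (hP : DRing.VanishesOutside P a b)
    (hPf : DRing.TermwiseFiniteFree P) : CochainComplex.IsKProjective P := by
  have h1 : CochainComplex.IsStrictlyLE P b := by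
    rw [CochainComplex.isStrictlyLE_iff]
    exact fun i hi => hP i (Or.inr hi)
  have h2 : ∀ n, Projective (P.X n) := by
    intro n
    have := (hPf n).2
    exact ModuleCat.projective_of_free (Module.Free.chooseBasis Λ (P.X n))
  exact CochainComplex.isKProjective_of_projective P b

/-- Chain maps out of a K-projective complex: maps in the derived category lift. -/
theorem exists_lift (P Q : DRing.Cx Λ) [CochainComplex.IsKProjective P]
    (x : DRing.toD P ⟶ DRing.toD Q) : ∃ y : P ⟶ Q, DerivedCategory.Q.map y = x := by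
  obtain ⟨g, hg⟩ := (CochainComplex.IsKProjective.Qh_map_bijective P
    ((HomotopyCategory.quotient _ _).obj Q)).surjective
    ((DerivedCategory.quotientCompQhIso (ModuleCat.{u} Λ)).hom.app P ≫ x ≫
      (DerivedCategory.quotientCompQhIso (ModuleCat.{u} Λ)).inv.app Q)
  obtain ⟨y, rfl⟩ := (HomotopyCategory.quotient _ _).map_surjective g
  refine ⟨y, ?_⟩
  have h1 := (DerivedCategory.quotientCompQhIso (ModuleCat.{u} Λ)).hom.naturality y
  rw [← cancel_epi ((DerivedCategory.quotientCompQhIso (ModuleCat.{u} Λ)).hom.app P), ← h1,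
    Functor.comp_map, hg, Category.assoc, Category.assoc, Iso.inv_hom_id_app]
  exact congrArg _ (Category.comp_id _)

theorem homotopy_of_eq (P Q : DRing.Cx Λ) [CochainComplex.IsKProjective P]
    (x y : P ⟶ Q) (h : DerivedCategory.Q.map x = DerivedCategory.Q.map y) :
    Nonempty (Homotopy x y) := by
  refine ⟨HomotopyCategory.homotopyOfEq _ _ ?_⟩
  apply (CochainComplex.IsKProjective.Qh_map_bijective P
    ((HomotopyCategory.quotient _ _).obj Q)).injective
  have h1 := (DerivedCategory.quotientCompQhIso (ModuleCat.{u} Λ)).hom.naturality x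
  have h2 := (DerivedCategory.quotientCompQhIso (ModuleCat.{u} Λ)).hom.naturality y
  rw [h, ← h2] at h1
  exact (cancel_mono _).mp h1

end

/-- Stacks Tag 03TI (commutative coefficient ring, finite free terms): let P and Q be bounded complexes of finite free Λ-modules with chain endomorphisms f and g, and α : P ≅ Q an isomorphism in the derived category D(Λ) with α ∘ f = g ∘ α there. Then Σ_i (−1)^i Tr(f^i | P^i) = Σ_i (−1)^i Tr(g^i | Q^i); that is, the trace of an endomorphism of a perfect object of D(Λ) is well defined. -/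
theorem result (Λ : Type u) [CommRing Λ] (P Q : DRing.Cx Λ) (a b : ℤ) (hP : DRing.VanishesOutside P a b) (hQ : DRing.VanishesOutside Q a b) (hPf : DRing.TermwiseFiniteFree P) (hQf : DRing.TermwiseFiniteFree Q) (f : P ⟶ P) (g : Q ⟶ Q) (α : DRing.toD P ≅ DRing.toD Q) (h : α.hom ≫ DerivedCategory.Q.map g = DerivedCategory.Q.map f ≫ α.hom) : ∑ i ∈ Finset.Icc a b, ((i.negOnePow : ℤˣ) : ℤ) • LinearMap.trace Λ (P.X i) (f.f i).hom = ∑ i ∈ Finset.Icc a b, ((i.negOnePow : ℤˣ) : ℤ) • LinearMap.trace Λ (Q.X i) (g.f i).hom := by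
  have _ := isKProjective hP hPf
  have _ := isKProjective hQ hQf
  obtain ⟨x, hx⟩ := exists_lift P Q α.hom
  obtain ⟨y, hy⟩ := exists_lift Q P α.inv
  obtain ⟨h1⟩ := homotopy_of_eq P P f (f ≫ x ≫ y) (by
    rw [Functor.map_comp, Functor.map_comp, hx, hy, α.hom_inv_id, Category.comp_id])
  obtain ⟨h2⟩ := homotopy_of_eq Q Q (y ≫ f ≫ x) g (by
    rw [Functor.map_comp, Functor.map_comp, hx, hy, ← h, α.inv_hom_id_assoc])
  change tr a b f = tr a b g
  rw [tr_eq_of_homotopy a b hP hPf _ _ h1, ← tr_eq_of_homotopy a b hQ hQf _ _ h2,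
    ← Category.assoc, tr_comp_comm a b hPf hQf]

end Groth.Agent.S1876
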