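import Groth.Statements.S1878
import Groth.Agent.Grpsch.QuotPoints

set_option autoImplicit false
universe u
open CategoryTheory CategoryTheory.Limits AlgebraicGeometry
open Grpd

namespace Groth.Agent.S1878

/-- Stacks Tag 03BL: let (U, R, s, t, c) be a groupoid scheme over S with U, R affine and s, t finite locally free, and M = Spec C. (1) U → M is surjective and two points of U have the same image iff some point of R has them as target and source. (2) For every algebraically closed field k, M(k) = U(k)/R(k): every k-point of M lifts to U, and two k-points of U agree in M iff they are the target and source of a k-point of R. (A groupoid scheme carries U, R, s, t, c, e, i over S with the groupoid axioms on T-points; 'finite locally free' is finite, flat and locally of finite presentation; C ⊂ Γ(U) is the ring of functions a with s♯(a) = t♯(a) and M = Spec C.) -/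
theorem result (S : Scheme.{u}) (G : Grpd.GroupoidScheme S) [IsAffine G.U] [IsAffine G.R] [IsFinite G.s] [Flat G.s] [LocallyOfFinitePresentation G.s] [IsFinite G.t] [Flat G.t] [LocallyOfFinitePresentation G.t] : (Function.Surjective G.toQuot ∧ ∀ u₀ u₁ : G.U, G.toQuot u₀ = G.toQuot u₁ ↔ ∃ r : G.R, G.t r = u₀ ∧ G.s r = u₁) ∧ ∀ (k : Type u) [Field k] [IsAlgClosed k], (∀ m : Spec (CommRingCat.of k) ⟶ Spec (CommRingCat.of G.invariants), ∃ x : Spec (CommRingCat.of k) ⟶ G.U, x ≫ G.toQuot = m) ∧ ∀ x₀ x₁ : Spec (CommRingCat.of k) ⟶ G.U, x₀ ≫ G.toQuot = x₁ ≫ G.toQuot ↔ ∃ r : Spec (CommRingCat.of k) ⟶ G.R, r ≫ G.t = x₀ ∧ r ≫ G.s = x₁ := by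
  refine ⟨⟨Groth.Agent.Grpsch.AffGrpd.toQuot_surjective G,
    Groth.Agent.Grpsch.AffGrpd.toQuot_eq_iff G⟩, fun k _ _ =>
    ⟨Groth.Agent.Grpsch.AffGrpd.exists_geomPoint_U G k, fun x₀ x₁ =>
      ⟨Groth.Agent.Grpsch.AffGrpd.exists_geomPoint_R G k x₀ x₁, ?_⟩⟩⟩
  rintro ⟨r, rfl, rfl⟩
  rw [Category.assoc, Groth.Agent.Grpsch.AffGrpd.t_toQuot, Category.assoc]

end Groth.Agent.S1878
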