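import Groth.Statements.S1880
import Groth.Agent.Grpsch.Shear
import Groth.Agent.Grpsch.FLF

set_option autoImplicit false
universe u
open CategoryTheory CategoryTheory.Limits AlgebraicGeometry
open Grpd

namespace Groth.Agent.S1880

open Groth.Agent.Grpsch.AffGrpd in
lemma norm_mem_aux {A B : Type u} [CommRing A] [CommRing B] (G : RGrpd A B) (f : A) :
    G.s (letI := G.s.toAlgebra; Algebra.norm A (G.t f)) =
      G.t (letI := G.s.toAlgebra; Algebra.norm A (G.t f)) := by
  let := G.s.toAlgebra
  by_cases h : ∃ s : Finset B, Nonempty (Module.Basis s A B)
  · obtain ⟨s, ⟨b0⟩⟩ := h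
    let b : Module.Basis (Fin s.card) A B := b0.reindex s.equivFin
    let D : DB G.s s.card :=
      { b := b
        l := fun i => (b.coord i).toAddMonoidHom
        l_mul := fun i a y => by
          change b.coord i (G.s a * y) = a * b.coord i y
          have : G.s a * y = a • y := by rw [Algebra.smul_def]; rfl
          rw [this, map_smul, smul_eq_mul]
        sum_eq := fun y => by
          have h1 := b.sum_repr y
          refine Eq.trans (Finset.sum_congr rfl fun i _ => ?_) h1
          rw [Algebra.smul_def]
          rfl }
    have hdet : Algebra.norm A (G.t f) = (D.mat (G.t f)).det := by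
      rw [Algebra.norm_eq_matrix_det b]
      congr 1
      ext i j
      rw [Algebra.leftMulMatrix_eq_repr_mul]
      rfl
    rw [hdet, Matrix.det_eq_sign_charpoly_coeff, map_mul, map_mul]
    congr 1
    · simp
    · exact G.cp_coeff_invariant D f 0
  · rw [Algebra.norm_eq_one_of_not_exists_basis A h, map_one, map_one]

/-- Stacks Tag 03BH: let (U, R, s, t, c) be a groupoid scheme with U, R affine and s, t finite locally free. For f ∈ Γ(U), the norm along s♯ of t♯(f) is an R-invariant function. (Mathlib's norm is the determinant when Γ(R) is free over Γ(U) via s♯ and 1 otherwise; the content is the free case, e.g. after localizing U.) (A groupoid scheme carries U, R, s, t, c, e, i over S with the groupoid axioms on T-points; 'finite locally free' is finite, flat and locally of finite presentation; C ⊂ Γ(U) is the ring of functions a with s♯(a) = t♯(a) and M = Spec C.) -/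
theorem result (S : Scheme.{u}) (G : Grpd.GroupoidScheme S) [IsAffine G.U] [IsAffine G.R] [IsFinite G.s] [Flat G.s] [LocallyOfFinitePresentation G.s] [IsFinite G.t] [Flat G.t] [LocallyOfFinitePresentation G.t] (f : Γ(G.U, ⊤)) : G.normST f ∈ G.invariants := by
  exact norm_mem_aux (Groth.Agent.Grpsch.AffGrpd.RGrpd.ofScheme G) f

end Groth.Agent.S1880
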