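import Groth.Statements.S1882
import Groth.Agent.Grpsch.FieldUni
-- import your own Groth.Agent.* helpers here

set_option autoImplicit false
universe u
open CategoryTheory CategoryTheory.Limits AlgebraicGeometry
open Grpd

namespace Groth.Agent.S1882

/-- Stacks Tag 04LT (1), (2): let (U, R, s, t, c) be a groupoid scheme over S with U the spectrum of a field k. Then every local ring of R has exactly one minimal prime ideal, and exactly one irreducible component of R passes through the identity point e. (Part (3), geometric irreducibility of that component over k, is not stated.) (A groupoid scheme carries U, R, s, t, c, e, i over S with the groupoid axioms on T-points; 'finite locally free' is finite, flat and locally of finite presentation; C ⊂ Γ(U) is the ring of functions a with s♯(a) = t♯(a) and M = Spec C.) -/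
theorem result (S : Scheme.{u}) (G : Grpd.GroupoidScheme S) (k : Type u) [Field k] (eU : G.U ≅ Spec (CommRingCat.of k)) : (∀ r : G.R, (minimalPrimes (G.R.presheaf.stalk r)).Subsingleton) ∧ ∃! Z : Set G.R, Z ∈ irreducibleComponents (G.R : Type u) ∧ G.e (eU.inv (IsLocalRing.closedPoint k)) ∈ Z := by
  refine ⟨fun r => (Grpsch.FieldUni.uniAt G k eU r).minimalPrimes_subsingleton,
    (Grpsch.FieldUni.uniAt G k eU _).existsUnique_irreducibleComponent⟩

end Groth.Agent.S1882
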