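import Groth.Statements.S1884
import Groth.Agent.Grpsch.GrpdPt
import Groth.Agent.Grpsch.DimOne
import Groth.Agent.S0217

set_option autoImplicit false
universe u
open CategoryTheory CategoryTheory.Limits AlgebraicGeometry
open Grpd

namespace Groth.Agent.S1884

/-- Stacks Tag 0ABI: let (U, R, s, t, c) be a groupoid scheme with s, t finite, U separated and locally Noetherian, and u a point such that every point u' in the orbit of u (u' = t(r) with s(r) = u) has local ring of dimension at most 1. Then u lies in an R-invariant affine open of U. (A groupoid scheme carries U, R, s, t, c, e, i over S with the groupoid axioms on T-points; 'finite locally free' is finite, flat and locally of finite presentation; C ⊂ Γ(U) is the ring of functions a with s♯(a) = t♯(a) and M = Spec C.) -/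
theorem result (S : Scheme.{u}) (G : Grpd.GroupoidScheme S) [IsFinite G.s] [IsFinite G.t] [G.U.IsSeparated] [IsLocallyNoetherian G.U] (u : G.U) (hdim : ∀ r : G.R, G.s r = u → ringKrullDim (G.U.presheaf.stalk (G.t r)) ≤ 1) : ∃ W : G.U.Opens, IsAffineOpen W ∧ u ∈ W ∧ G.s ⁻¹ᵁ W = G.t ⁻¹ᵁ W := by
  have hst := Grpsch.GrpdPt.isPtEquiv G
  have hlfp : LocallyOfFinitePresentation G.s :=
    LocallyOfFinitePresentation.iff_locallyOfFiniteType.2 inferInstance
  let O : Set G.U := Grpsch.PtRestrict.orbit G.s G.t u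
  have hO : O.Finite := Grpsch.PtRestrict.orbit_finite G.s G.t u
  have hOinv : ∀ r, G.s r ∈ O → G.t r ∈ O := Grpsch.PtRestrict.orbit_inv hst u
  have hOorb : ∀ x ∈ O, ∀ y ∈ O, ∃ r, G.s r = x ∧ G.t r = y := by
    rintro _ ⟨r₁, h1, rfl⟩ _ ⟨r₂, h2, rfl⟩
    obtain ⟨r₃, h3, h4⟩ := hst.symm r₁
    obtain ⟨r₄, h5, h6⟩ := hst.trans r₂ r₃ (by rw [h2, h4, h1])
    exact ⟨r₄, by rw [h5, h3], h6⟩
  have hOdim : ∀ x ∈ O, ringKrullDim (G.U.presheaf.stalk x) ≤ 1 := by
    rintro _ ⟨r, h1, rfl⟩
    exact hdim r h1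
  -- an affine open containing the orbit
  obtain ⟨V, hV, hOV⟩ := S0217.result G.U (fun V hV => by
    have h1 : CompactSpace V := isCompact_iff_compactSpace.1 hV
    have h2 : CompactSpace V.toScheme := h1
    have h3 : IsNoetherian V.toScheme := {}
    have h4 : TopologicalSpace.NoetherianSpace V.toScheme := inferInstance
    exact TopologicalSpace.NoetherianSpace.finite_irreducibleComponents (α := V.toScheme))
    hO.toFinset (fun x hx => ⟨inferInstance, hOdim x (hO.mem_toFinset.1 hx)⟩)
  have hOV' : O ⊆ V := fun x hx => hOV x (hO.mem_toFinset.2 hx)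
  let W : G.U.Opens := ⟨Grpsch.InvAffine.core G.s G.t (V : Set G.U),
    Grpsch.InvAffine.isOpen_core G.s.isClosedMap V.isOpen⟩
  have hWV : W ≤ V := Grpsch.InvAffine.core_subset hst (V : Set G.U)
  have hWinv : ∀ r, G.s r ∈ W → G.t r ∈ W :=
    Grpsch.InvAffine.core_invariant hst (V : Set G.U)
  have hW := Grpsch.PtRestrict.preimage_eq_of_inv hst W hWinv
  have hOW : O ⊆ W := Grpsch.InvAffine.subset_core hOinv hOV'
  have hVN : TopologicalSpace.NoetherianSpace V := by
    have : IsNoetherianRing Γ(G.U, V) := IsLocallyNoetherian.component_noetherian ⟨V, hV⟩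
    exact noetherianSpace_of_isAffineOpen V hV
  have hWN : TopologicalSpace.NoetherianSpace W.toScheme := by
    have : TopologicalSpace.NoetherianSpace V.toScheme := hVN
    exact (G.U.homOfLE hWV).isOpenEmbedding.isInducing.noetherianSpace
  obtain ⟨N, hNaff, hON, hNinv⟩ := Grpsch.DimOne.exists_invariant_affine
    (Grpsch.PtRestrict.isPtEquiv_res hst W hW) (Grpsch.PtRestrict.toSpec hV hWV)
    (W.ι ⁻¹' O) (hO.preimage W.ι.isOpenEmbedding.injective.injOn)
    (Grpsch.PtRestrict.preimage_inv W hW _ hOinv) (by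
      intro x hx y hy
      obtain ⟨r, h1, h2⟩ := hOorb _ hx _ hy
      obtain ⟨r', rfl⟩ := Grpsch.PtRestrict.exists_lift (s := G.s) W r (by rw [h1]; exact x.2)
      refine ⟨r', ?_, ?_⟩
      · apply W.ι.isOpenEmbedding.injective
        rw [Grpsch.PtRestrict.sRes_ι, h1]
      · apply W.ι.isOpenEmbedding.injective
        rw [Grpsch.PtRestrict.tRes_ι, h2]) (by
      intro x hx z y hzy hyx
      rcases Grpsch.DimOne.eq_or_eq_of_dim_le_one (W.ι x) (hOdim _ hx) (W.ι z) (W.ι y)
        (hzy.map W.ι.continuous) (hyx.map W.ι.continuous) with h | h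
      · exact Or.inl (W.ι.isOpenEmbedding.injective h)
      · exact Or.inr (W.ι.isOpenEmbedding.injective h))
  have huO : u ∈ O := Grpsch.PtRestrict.mem_orbit hst u
  refine ⟨W.ι ''ᵁ N, hNaff.image_of_isOpenImmersion W.ι, ?_, ?_⟩
  · exact ⟨⟨u, hOW huO⟩, hON huO, rfl⟩
  · exact Grpsch.PtRestrict.preimage_eq_of_inv hst _
      (Grpsch.PtRestrict.image_inv W hW _ hNinv)

end Groth.Agent.S1884
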