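import Groth.Statements.S1885
import Groth.Agent.Grpsch.GrpdPt

set_option autoImplicit false
universe u
open CategoryTheory CategoryTheory.Limits AlgebraicGeometry
open Grpd

namespace Groth.Agent.S1885

/-- Stacks Tag 0ABF: for a groupoid scheme (U, R, s, t, c) over S whose source and target maps are finite and of finite presentation, take u₁, …, u_m points of U such that every point in their R-orbits is generic in an irreducible component of U; j : U → Spec A an immersion; I ⊆ A an ideal with j(U) ∩ V(I) = ∅ and V(I) ∪ j(U) closed. Then for some h ∈ I the preimage j⁻¹D(h) is an R-invariant affine open of U containing u₁, …, u_m. (A groupoid scheme carries U, R, s, t, c, e, i over S with the groupoid axioms on T-points; 'finite locally free' is finite, flat and locally of finite presentation; C ⊂ Γ(U) is the ring of functions a with s♯(a) = t♯(a) and M = Spec C.) -/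
theorem result (S : Scheme.{u}) (G : Grpd.GroupoidScheme S) [IsFinite G.s] [LocallyOfFinitePresentation G.s] [IsFinite G.t] [LocallyOfFinitePresentation G.t] (m : ℕ) (u : Fin m → G.U) (hu : ∀ i (r : G.R), G.s r = u i → ∀ x : G.U, x ⤳ G.t r → x = G.t r) (A : Type u) [CommRing A] (j : G.U ⟶ Spec (CommRingCat.of A)) [IsImmersion j] (I : Ideal A) (hI : ∀ x : G.U, j x ∉ PrimeSpectrum.zeroLocus (I : Set A)) (hcl : IsClosed (PrimeSpectrum.zeroLocus (I : Set A) ∪ Set.range j)) : ∃ h ∈ I, IsAffineOpen (j ⁻¹ᵁ PrimeSpectrum.basicOpen h) ∧ (∀ i, u i ∈ j ⁻¹ᵁ PrimeSpectrum.basicOpen h) ∧ G.s ⁻¹ᵁ (j ⁻¹ᵁ PrimeSpectrum.basicOpen h) = G.t ⁻¹ᵁ (j ⁻¹ᵁ PrimeSpectrum.basicOpen h) := by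
  have hst := Grpsch.GrpdPt.isPtEquiv G
  let O : Set G.U := {x | ∃ i, ∃ r : G.R, G.s r = u i ∧ G.t r = x}
  have hO : O.Finite := by
    have h1 : O = ⋃ i, G.t '' (G.s ⁻¹' {u i}) := by
      ext x
      simp only [O, Set.mem_iUnion, Set.mem_image, Set.mem_preimage, Set.mem_singleton_iff]
      rfl
    rw [h1]
    exact Set.finite_iUnion fun i => (G.s.finite_preimage_singleton (u i)).image _
  obtain ⟨h, hh, haff, hOh, hinv, -⟩ := Grpsch.InvAffine.exists_invariant_basicOpen G.s G.t hst j I hI hcl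
    Set.univ isClosed_univ (fun _ _ => trivial) O hO (by
      rintro r ⟨i, r', h1, h2⟩
      obtain ⟨r'', h3, h4⟩ := hst.trans r r' h2.symm
      exact ⟨i, r'', by rw [h3, h1], h4⟩) (Set.subset_univ _) (Or.inl (by
      rintro x ⟨i, r, hr, rfl⟩ y - hy
      exact hu i r hr y hy))
  refine ⟨h, hh, haff, fun i => hOh _ ?_, ?_⟩
  · obtain ⟨r, h1, h2⟩ := hst.refl (u i)
    exact ⟨i, r, h1, h2⟩
  · ext r
    exact Grpsch.InvAffine.invariant_iff hst (O := (j ⁻¹ᵁ PrimeSpectrum.basicOpen h : G.U.Opens))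
      (fun r hr => hinv r trivial hr) r

end Groth.Agent.S1885
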