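import Groth.Statements.S1886
-- import your own Groth.Agent.* helpers here
import Groth.Agent.Grpsch.Points

set_option autoImplicit false
universe u
open CategoryTheory CategoryTheory.Limits AlgebraicGeometry
open Grpd

namespace Groth.Agent.S1886

/-- Stacks Tag 02YI: let (U, R, s, t, c) be a groupoid scheme over S with stabilizer group scheme G → U and identity section e : U → G. Then j = (t, s) : R → U ×_S U is separated iff G → U is separated iff e is a closed immersion; and j is quasi-separated iff G → U is quasi-separated iff e is quasi-compact. (A groupoid scheme carries U, R, s, t, c, e, i over S with the groupoid axioms on T-points; 'finite locally free' is finite, flat and locally of finite presentation; C ⊂ Γ(U) is the ring of functions a with s♯(a) = t♯(a) and M = Spec C.) -/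
theorem result (S : Scheme.{u}) (G : Grpd.GroupoidScheme S) : ((IsSeparated G.j ↔ IsSeparated G.stabilizerToU) ∧ (IsSeparated G.stabilizerToU ↔ IsClosedImmersion G.eStab)) ∧ ((QuasiSeparated G.j ↔ QuasiSeparated G.stabilizerToU) ∧ (QuasiSeparated G.stabilizerToU ↔ QuasiCompact G.eStab)) := by
  have hstab := Grpsch.Points.isPullback_stab G
  have hdiag := Grpsch.Points.isPullback_diagonal_j G
  have hsec := Grpsch.Points.eStab_stabilizerToU G
  have a1 : IsSeparated G.j → IsSeparated G.stabilizerToU := fun h =>
    MorphismProperty.of_isPullback (P := @IsSeparated) hstab h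
  have a2 : IsSeparated G.stabilizerToU → IsClosedImmersion G.eStab := fun h => by
    have : IsClosedImmersion (G.eStab ≫ G.stabilizerToU) := by rw [hsec]; infer_instance
    exact IsClosedImmersion.of_comp G.eStab G.stabilizerToU
  have a3 : IsClosedImmersion G.eStab → IsSeparated G.j := fun h =>
    ⟨MorphismProperty.of_isPullback (P := @IsClosedImmersion) hdiag.flip h⟩
  have b1 : QuasiSeparated G.j → QuasiSeparated G.stabilizerToU := fun h =>
    MorphismProperty.of_isPullback (P := @QuasiSeparated) hstab h
  have b2 : QuasiSeparated G.stabilizerToU → QuasiCompact G.eStab := fun h => by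
    have : QuasiCompact (G.eStab ≫ G.stabilizerToU) := by rw [hsec]; infer_instance
    exact QuasiCompact.of_comp G.eStab G.stabilizerToU
  have b3 : QuasiCompact G.eStab → QuasiSeparated G.j := fun h =>
    ⟨MorphismProperty.of_isPullback (P := @QuasiCompact) hdiag.flip h⟩
  exact ⟨⟨⟨a1, fun h => a3 (a2 h)⟩, ⟨a2, fun h => a1 (a3 h)⟩⟩,
    ⟨⟨b1, fun h => b3 (b2 h)⟩, ⟨b2, fun h => b1 (b3 h)⟩⟩⟩

end Groth.Agent.S1886
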