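import Groth.Statements.S1888
import Mathlib.AlgebraicGeometry.Morphisms.ClosedImmersion
-- import your own Groth.Agent.* helpers here

set_option autoImplicit false
universe u
open CategoryTheory CategoryTheory.Limits AlgebraicGeometry
open Grpd

namespace Groth.Agent.S1888

/-- Composition of `T`-valued arrows. -/
noncomputable def mul {S : Scheme.{u}} (G : Grpd.GroupoidScheme S) {T : Scheme.{u}} (α β : T ⟶ G.R)
    (h : α ≫ G.s = β ≫ G.t) : T ⟶ G.R := pullback.lift α β h ≫ G.c

section
variable {S : Scheme.{u}} (G : Grpd.GroupoidScheme S) {T T' : Scheme.{u}}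

lemma mul_s (α β : T ⟶ G.R) (h : α ≫ G.s = β ≫ G.t) : mul G α β h ≫ G.s = β ≫ G.s :=
  G.comp_s α β h

lemma mul_t (α β : T ⟶ G.R) (h : α ≫ G.s = β ≫ G.t) : mul G α β h ≫ G.t = α ≫ G.t :=
  G.comp_t α β h

lemma comp_mul (f : T' ⟶ T) (α β : T ⟶ G.R) (h : α ≫ G.s = β ≫ G.t) :
    f ≫ mul G α β h = mul G (f ≫ α) (f ≫ β) (by simp [h]) := by
  unfold mul
  rw [← Category.assoc]
  congr 1
  apply pullback.hom_ext
  · rw [Category.assoc, pullback.lift_fst, pullback.lift_fst]
  · rw [Category.assoc, pullback.lift_snd, pullback.lift_snd]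

lemma mul_congr {α α' β β' : T ⟶ G.R} (hα : α = α') (hβ : β = β') (h : α ≫ G.s = β ≫ G.t) :
    mul G α β h = mul G α' β' (by rw [← hα, ← hβ, h]) := by
  subst hα; subst hβ; rfl

lemma inv_mul_mul (α β : T ⟶ G.R) (h : α ≫ G.s = β ≫ G.t) :
    mul G (α ≫ G.i) (mul G α β h) (by rw [mul_t, Category.assoc, G.i_s]) = β := by
  have h1 : (α ≫ G.i) ≫ G.s = α ≫ G.t := by rw [Category.assoc, G.i_s]
  have := G.assoc (α ≫ G.i) α β h1 h
  change _ = mul G (α ≫ G.i) (mul G α β h) _ at this
  rw [← this]
  refine Eq.trans (mul_congr G ?_ rfl _) (G.e_comp β)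
  rw [G.i_comp α, reassoc_of% h]

lemma mul_inv_mul (α β : T ⟶ G.R) (h : α ≫ G.t = β ≫ G.t) :
    mul G α (mul G (α ≫ G.i) β (by rw [Category.assoc, G.i_s, h]))
      (by rw [mul_t, Category.assoc, G.i_t]) = β := by
  have h1 : α ≫ G.s = (α ≫ G.i) ≫ G.t := by rw [Category.assoc, G.i_t]
  have h2 : (α ≫ G.i) ≫ G.s = β ≫ G.t := by rw [Category.assoc, G.i_s, h]
  have := G.assoc α (α ≫ G.i) β h1 h2
  change _ = mul G α (mul G (α ≫ G.i) β h2) _ at this
  rw [← this]
  refine Eq.trans (mul_congr G ?_ rfl _) (G.e_comp β)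
  rw [G.comp_i α, reassoc_of% h]

end

lemma isIso_fromSpecResidueField {X : Scheme.{u}} [IsReduced X] [Subsingleton X] (x : X) :
    IsIso (X.fromSpecResidueField x) := by
  have hr : Set.range (X.fromSpecResidueField x) = Set.univ := by
    rw [Scheme.range_fromSpecResidueField]
    ext y; simp [Subsingleton.elim y x]
  have h1 : IsClosedImmersion (X.fromSpecResidueField x) :=
    IsClosedImmersion.of_isPreimmersion _ (by rw [hr]; exact isClosed_univ)
  have h2 : Surjective (X.fromSpecResidueField x) := ⟨Set.range_eq_univ.mp hr⟩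
  exact isIso_of_isClosedImmersion_of_surjective _

/-- Stacks Tag 04LS: let (U, R, s, t, c) be a groupoid scheme over S with U the spectrum of a field k, and r a point of R such that both s and t induce isomorphisms from k to κ(r). Then there is an automorphism of the scheme R carrying the identity point e to r. (The source's automorphism is x ↦ c(r, x); only the existence of an automorphism moving e to r is stated here.) (A groupoid scheme carries U, R, s, t, c, e, i over S with the groupoid axioms on T-points; 'finite locally free' is finite, flat and locally of finite presentation; C ⊂ Γ(U) is the ring of functions a with s♯(a) = t♯(a) and M = Spec C.) -/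
theorem result (S : Scheme.{u}) (G : Grpd.GroupoidScheme S) (k : Type u) [Field k] (eU : G.U ≅ Spec (CommRingCat.of k)) (r : G.R) (hs : IsIso (G.s.residueFieldMap r)) (ht : IsIso (G.t.residueFieldMap r)) : ∃ φ : G.R ≅ G.R, φ.hom (G.e (eU.inv (IsLocalRing.closedPoint k))) = r := by
  have hred : IsReduced G.U := isReduced_of_isOpenImmersion eU.hom
  have hsub : Subsingleton G.U := eU.hom.homeomorph.injective.subsingleton
  have hU := fun x : G.U => isIso_fromSpecResidueField x
  have hs1 : IsIso (G.R.fromSpecResidueField r ≫ G.s) := by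
    rw [← Scheme.Hom.SpecMap_residueFieldMap_fromSpecResidueField]
    infer_instance
  have ht1 : IsIso (G.R.fromSpecResidueField r ≫ G.t) := by
    rw [← Scheme.Hom.SpecMap_residueFieldMap_fromSpecResidueField]
    infer_instance
  -- the section through r
  let σ : G.U ⟶ G.R := inv (G.R.fromSpecResidueField r ≫ G.s) ≫ G.R.fromSpecResidueField r
  have hσs : σ ≫ G.s = 𝟙 _ := by simp only [σ, Category.assoc]; exact IsIso.inv_hom_id _
  have hσt : IsIso (σ ≫ G.t) := by
    simp only [σ, Category.assoc]; infer_instance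
  let τ := σ ≫ G.t
  have hσr : ∀ x, σ x = r := by
    intro x
    simp [σ]
  let f : G.R ⟶ G.R := mul G (G.t ≫ σ) (𝟙 _) (by rw [Category.assoc, hσs, Category.comp_id, Category.id_comp])
  have hft : f ≫ G.t = G.t ≫ τ := by
    simp only [f, mul_t, Category.assoc, τ]
  let g : G.R ⟶ G.R := mul G ((G.t ≫ inv τ ≫ σ) ≫ G.i) (𝟙 _) (by
    rw [Category.assoc, G.i_s, Category.assoc, Category.assoc]
    change G.t ≫ inv τ ≫ τ = _
    simp)
  have hgt : g ≫ G.t = G.t ≫ inv τ := by
    simp only [g, mul_t, Category.assoc, G.i_t, hσs, Category.comp_id]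
  have hfg : f ≫ g = 𝟙 _ := by
    simp only [g, comp_mul]
    refine Eq.trans (mul_congr G ?_ ?_ _) (inv_mul_mul G (G.t ≫ σ) (𝟙 _) ?_)
    · rw [← Category.assoc, ← Category.assoc, hft]
      simp
    · simp [f]
    · simp [hσs]
  have hgf : g ≫ f = 𝟙 _ := by
    simp only [f, comp_mul]
    refine Eq.trans (mul_congr G ?_ ?_ _) (mul_inv_mul G (G.t ≫ inv τ ≫ σ) (𝟙 _) ?_)
    · rw [← Category.assoc, hgt, Category.assoc]
    · simp [g]
    · simp [τ]
  have hef : G.e ≫ f = σ := by
    simp only [f, comp_mul]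
    have h3 := G.comp_e σ
    change mul G σ (σ ≫ G.s ≫ G.e) _ = _ at h3
    refine Eq.trans (mul_congr G ?_ ?_ _) h3
    · rw [← Category.assoc, G.e_t, Category.id_comp]
    · rw [Category.comp_id, ← Category.assoc, hσs, Category.id_comp]
  refine ⟨⟨f, g, hfg, hgf⟩, ?_⟩
  change f (G.e _) = r
  rw [← Scheme.Hom.comp_apply, hef, hσr]

end Groth.Agent.S1888
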