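import Groth.Statements.S1889
import Mathlib.AlgebraicGeometry.Morphisms.UniversallyOpen
import Groth.Agent.S1888
-- import your own Groth.Agent.* helpers here

set_option autoImplicit false
universe u
open CategoryTheory CategoryTheory.Limits AlgebraicGeometry
open Grpd

namespace Groth.Agent.S1889

/-- Stacks Tag 0B7V: let (U, R, s, t, c) be a groupoid scheme over S with U the spectrum of a field, W ⊆ R open and a : Z → R a morphism. Then the image of Z ×_{s∘a, U, t} W → R ×_{s,U,t} R → R (composition) is open. (A groupoid scheme carries U, R, s, t, c, e, i over S with the groupoid axioms on T-points; 'finite locally free' is finite, flat and locally of finite presentation; C ⊂ Γ(U) is the ring of functions a with s♯(a) = t♯(a) and M = Spec C.) -/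
theorem result (S : Scheme.{u}) (G : Grpd.GroupoidScheme S) (k : Type u) [Field k] (eU : G.U ≅ Spec (CommRingCat.of k)) (W : G.R.Opens) (Z : Scheme.{u}) (a : Z ⟶ G.R) : IsOpen (Set.range ⇑(pullback.lift (pullback.fst (a ≫ G.s) (W.ι ≫ G.t) ≫ a) (pullback.snd (a ≫ G.s) (W.ι ≫ G.t) ≫ W.ι) ((Category.assoc _ _ _).trans (pullback.condition.trans (Category.assoc _ _ _).symm)) ≫ G.c)) := by
  have hne : Nonempty G.U := ⟨eU.inv (IsLocalRing.closedPoint k)⟩
  have hred : IsIntegral G.U := isIntegral_of_isOpenImmersion eU.hom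
  have hsub : Subsingleton G.U := eU.hom.homeomorph.injective.subsingleton
  let P := pullback (a ≫ G.s) (W.ι ≫ G.t)
  let Q := pullback (a ≫ G.s) G.t
  let Q' := pullback (a ≫ G.t) G.t
  let ι : P ⟶ Q := pullback.map _ _ _ _ (𝟙 Z) W.ι (𝟙 _) (by simp) (by simp)
  have hι : IsOpenImmersion ι := inferInstance
  let θ : Q ⟶ Q' := pullback.lift (pullback.fst _ _)
    (S1888.mul G (pullback.fst _ _ ≫ a) (pullback.snd _ _) (by rw [Category.assoc, pullback.condition]))
    (by rw [S1888.mul_t, Category.assoc])
  let θ' : Q' ⟶ Q := pullback.lift (pullback.fst _ _)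
    (S1888.mul G ((pullback.fst _ _ ≫ a) ≫ G.i) (pullback.snd _ _)
      (by rw [Category.assoc, G.i_s, Category.assoc, pullback.condition]))
    (by rw [S1888.mul_t, Category.assoc, G.i_t, Category.assoc])
  have h1 : θ ≫ θ' = 𝟙 _ := by
    apply pullback.hom_ext
    · simp only [θ, θ', Category.assoc, pullback.lift_fst, Category.id_comp]
    · simp only [θ, θ', Category.assoc, pullback.lift_snd, Category.id_comp]
      rw [S1888.comp_mul]
      refine Eq.trans (S1888.mul_congr G ?_ ?_ _) (S1888.inv_mul_mul G (pullback.fst _ _ ≫ a) (pullback.snd _ _) ?_)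
      · rw [← Category.assoc, ← Category.assoc, pullback.lift_fst]
      · rw [pullback.lift_snd]
  have h2 : θ' ≫ θ = 𝟙 _ := by
    apply pullback.hom_ext
    · simp only [θ, θ', Category.assoc, pullback.lift_fst, Category.id_comp]
    · simp only [θ, θ', Category.assoc, pullback.lift_snd, Category.id_comp]
      rw [S1888.comp_mul]
      refine Eq.trans (S1888.mul_congr G ?_ ?_ _) (S1888.mul_inv_mul G (pullback.fst _ _ ≫ a) (pullback.snd _ _) ?_)
      · rw [← Category.assoc, pullback.lift_fst]
      · rw [pullback.lift_snd]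
        refine S1888.mul_congr G ?_ rfl _
        rw [Category.assoc]
      · rw [Category.assoc, pullback.condition]
  have hθ : IsIso θ := ⟨θ', h1, h2⟩
  have key : ι ≫ θ ≫ pullback.snd _ _ = pullback.lift (pullback.fst (a ≫ G.s) (W.ι ≫ G.t) ≫ a) (pullback.snd (a ≫ G.s) (W.ι ≫ G.t) ≫ W.ι) ((Category.assoc _ _ _).trans (pullback.condition.trans (Category.assoc _ _ _).symm)) ≫ G.c := by
    simp only [θ, pullback.lift_snd]
    rw [S1888.comp_mul]
    refine S1888.mul_congr G ?_ ?_ _
    · simp only [ι, ← Category.assoc]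
      congr 1
      exact (pullback.lift_fst _ _ _).trans (Category.comp_id _)
    · exact pullback.lift_snd _ _ _
  rw [← key]
  have : UniversallyOpen (a ≫ G.t) := inferInstance
  have : UniversallyOpen (ι ≫ θ ≫ pullback.snd (a ≫ G.t) G.t) := inferInstance
  exact (Scheme.Hom.isOpenMap _).isOpen_range

end Groth.Agent.S1889
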