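import Groth.Statements.S1893
import Mathlib.AlgebraicGeometry.Morphisms.UniversallyOpen
-- import your own Groth.Agent.* helpers here

set_option autoImplicit false
universe u
open CategoryTheory CategoryTheory.Limits AlgebraicGeometry
open Grpd

namespace Groth.Agent.S1893

lemma exists_compact_open_of_not_mem (X : Scheme.{u}) {E : Set X} (hE : IsCompact E)
    (hgen : StableUnderGeneralization E) (y : X) (hy : y ∉ E) :
    ∃ V : X.Opens, IsCompact (V : Set X) ∧ E ⊆ V ∧ y ∉ V := by
  have key : ∀ e ∈ E, ∃ V : X.Opens, IsCompact (V : Set X) ∧ e ∈ V ∧ y ∉ V := by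
    intro e he
    have h1 : ¬ (y ⤳ e) := fun h => hy (hgen h he)
    rw [specializes_iff_forall_open] at h1
    push Not at h1
    obtain ⟨O, hO, heO, hyO⟩ := h1
    obtain ⟨V, hV, heV, hVO⟩ := X.isBasis_affineOpens.exists_subset_of_mem_open heO hO
    obtain ⟨V, hV', rfl⟩ := hV
    exact ⟨V, IsAffineOpen.isCompact hV', heV, fun h => hyO (hVO h)⟩
  choose! V hV using key
  obtain ⟨t, ht⟩ := hE.elim_finite_subcover (fun e : E => (V e : Set X)) (fun e => (V e).isOpen)
    (fun e he => Set.mem_iUnion.mpr ⟨⟨e, he⟩, (hV e he).2.1⟩)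
  refine ⟨⨆ i : t, V i.1, ?_, ?_, ?_⟩
  · rw [TopologicalSpace.Opens.coe_iSup]
    exact isCompact_iUnion fun i => (hV i.1 i.1.2).1
  · rw [TopologicalSpace.Opens.coe_iSup]
    intro e he
    obtain ⟨i, hi, hei⟩ := Set.mem_iUnion₂.mp (ht he)
    exact Set.mem_iUnion.mpr ⟨⟨i, hi⟩, hei⟩
  · intro h
    rw [TopologicalSpace.Opens.mem_iSup] at h
    obtain ⟨i, hi⟩ := h
    exact (hV i.1 i.1.2).2.2 hi

lemma exists_compact_open (X : Scheme.{u}) {E : Set X} (hE : IsCompact E) :
    ∃ V : X.Opens, IsCompact (V : Set X) ∧ E ⊆ V := by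
  obtain ⟨t, ht⟩ := hE.elim_finite_subcover (fun V : X.affineOpens => (V.1 : Set X))
    (fun e => e.1.isOpen) (fun e he => by
      have : e ∈ (⨆ i : X.affineOpens, (i : X.Opens)) := by
        rw [iSup_affineOpens_eq_top X]; trivial
      simpa using this)
  refine ⟨⨆ i : t, i.1.1, ?_, ?_⟩
  · rw [TopologicalSpace.Opens.coe_iSup]
    exact isCompact_iUnion fun i => IsAffineOpen.isCompact i.1.2
  · rw [TopologicalSpace.Opens.coe_iSup]
    intro e he
    obtain ⟨i, hi, hei⟩ := Set.mem_iUnion₂.mp (ht he)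
    exact Set.mem_iUnion.mpr ⟨⟨i, hi⟩, hei⟩

/-- Stacks Tag 0APA: let (U, R, s, t, c) be a groupoid scheme over S with s, t quasi-compact and flat and U quasi-separated, and W ⊆ U a quasi-compact open. Then the saturation t(s⁻¹(W)) can be written as an intersection of quasi-compact opens of U, indexed by a nonempty set. (A groupoid scheme carries U, R, s, t, c, e, i over S with the groupoid axioms on T-points; 'finite locally free' is finite, flat and locally of finite presentation; C ⊂ Γ(U) is the ring of functions a with s♯(a) = t♯(a) and M = Spec C.) -/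
theorem result (S : Scheme.{u}) (G : Grpd.GroupoidScheme S) [QuasiCompact G.s] [Flat G.s] [QuasiCompact G.t] [Flat G.t] [QuasiSeparatedSpace G.U] (W : G.U.Opens) (hW : IsCompact (W : Set G.U)) : ∃ (ι : Type u) (_ : Nonempty ι) (V : ι → G.U.Opens), (∀ i, IsCompact (V i : Set G.U)) ∧ ⇑G.t '' (⇑G.s ⁻¹' (W : Set G.U)) = ⋂ i, (V i : Set G.U) := by
  set E : Set G.U := ⇑G.t '' (⇑G.s ⁻¹' (W : Set G.U)) with hEdef
  have hEc : IsCompact E := (QuasiCompact.isCompact_preimage (f := G.s) W W.isOpen hW).image G.t.continuous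
  have hEg : StableUnderGeneralization E :=
    (Flat.generalizingMap G.t).stableUnderGeneralization_image
      ((W.isOpen.preimage G.s.continuous).stableUnderGeneralization)
  obtain ⟨V₀, hV₀, hEV₀⟩ := exists_compact_open G.U hEc
  refine ⟨{V : G.U.Opens // IsCompact (V : Set G.U) ∧ E ⊆ V}, ⟨⟨V₀, hV₀, hEV₀⟩⟩, fun V => V.1,
    fun V => V.2.1, ?_⟩
  apply Set.Subset.antisymm
  · exact Set.subset_iInter fun V => V.2.2
  · intro y hy
    by_contra hyE
    obtain ⟨V, hV, hEV, hyV⟩ := exists_compact_open_of_not_mem G.U hEc hEg y hyE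
    exact hyV (Set.mem_iInter.mp hy ⟨V, hV, hEV⟩)

end Groth.Agent.S1893
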