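import Groth.Statements.S1894
import Groth.Agent.S1893
import Groth.Agent.Grpsch.ClosureImage
-- import your own Groth.Agent.* helpers here

set_option autoImplicit false
universe u
open CategoryTheory CategoryTheory.Limits AlgebraicGeometry
open Grpd

namespace Groth.Agent.S1894

section
variable {S : Scheme.{u}} (G : Grpd.GroupoidScheme S)

lemma exists_comp (r r' : G.R) (h : G.s r' = G.t r) :
    ∃ r'' : G.R, G.s r'' = G.s r ∧ G.t r'' = G.t r' := by
  obtain ⟨z, hz1, hz2⟩ := Scheme.Pullback.exists_preimage_pullback r' r h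
  refine ⟨G.c z, ?_, ?_⟩
  · have := G.comp_s (pullback.fst G.s G.t) (pullback.snd G.s G.t) pullback.condition
    rw [show pullback.lift (pullback.fst G.s G.t) (pullback.snd G.s G.t) pullback.condition = 𝟙 _ from
      pullback.hom_ext (by simp) (by simp), Category.id_comp] at this
    rw [← Scheme.Hom.comp_apply, this, Scheme.Hom.comp_apply, hz2]
  · have := G.comp_t (pullback.fst G.s G.t) (pullback.snd G.s G.t) pullback.condition
    rw [show pullback.lift (pullback.fst G.s G.t) (pullback.snd G.s G.t) pullback.condition = 𝟙 _ from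
      pullback.hom_ext (by simp) (by simp), Category.id_comp] at this
    rw [← Scheme.Hom.comp_apply, this, Scheme.Hom.comp_apply, hz1]

lemma s_i (r : G.R) : G.s (G.i r) = G.t r := by
  rw [← Scheme.Hom.comp_apply, G.i_s]

lemma t_i (r : G.R) : G.t (G.i r) = G.s r := by
  rw [← Scheme.Hom.comp_apply, G.i_t]

/-- The saturation `t(s⁻¹(Z))` is invariant. -/
lemma mem_orbit_iff (Z : Set G.U) (r : G.R) :
    G.s r ∈ ⇑G.t '' (⇑G.s ⁻¹' Z) ↔ G.t r ∈ ⇑G.t '' (⇑G.s ⁻¹' Z) := by
  constructor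
  · rintro ⟨r', hr', h⟩
    obtain ⟨r'', h1, h2⟩ := exists_comp G r' r h.symm
    exact ⟨r'', by rw [Set.mem_preimage, h1]; exact hr', h2⟩
  · rintro ⟨r', hr', h⟩
    obtain ⟨r'', h1, h2⟩ := exists_comp G r' (G.i r) (by rw [s_i, h])
    exact ⟨r'', by rw [Set.mem_preimage, h1]; exact hr', by rw [h2, t_i]⟩

lemma subset_orbit (Z : Set G.U) : Z ⊆ ⇑G.t '' (⇑G.s ⁻¹' Z) := by
  intro z hz
  refine ⟨G.e z, ?_, ?_⟩
  · rw [Set.mem_preimage, ← Scheme.Hom.comp_apply, G.e_s]
    exact hz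
  · rw [← Scheme.Hom.comp_apply, G.e_t]
    rfl

/-- The closure of the saturation of a closed subset is invariant if `s` is flat
and `t` is quasi-compact. -/
lemma mem_closure_orbit_of_mem [Flat G.s] [QuasiCompact G.t] {Z : Set G.U} (hZ : IsClosed Z)
    (r : G.R) (hr : G.s r ∈ closure (⇑G.t '' (⇑G.s ⁻¹' Z))) :
    G.t r ∈ closure (⇑G.t '' (⇑G.s ⁻¹' Z)) := by
  obtain ⟨z, hz, hzr⟩ := Grpsch.ClosureImage.exists_specializes_of_mem_closure_image G.t
    (hZ.preimage G.s.continuous) hr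
  obtain ⟨r', hr'r, hr'⟩ := Flat.generalizingMap G.s hzr
  have h1 : G.s r' ∈ ⇑G.t '' (⇑G.s ⁻¹' Z) := by rw [hr']; exact ⟨z, hz, rfl⟩
  have h2 : G.t r' ∈ closure (⇑G.t '' (⇑G.s ⁻¹' Z)) := subset_closure ((mem_orbit_iff G Z r').mp h1)
  exact (hr'r.map G.t.continuous).mem_closed isClosed_closure h2

lemma mem_closure_orbit_iff [Flat G.s] [QuasiCompact G.t] {Z : Set G.U} (hZ : IsClosed Z)
    (r : G.R) : G.s r ∈ closure (⇑G.t '' (⇑G.s ⁻¹' Z)) ↔
      G.t r ∈ closure (⇑G.t '' (⇑G.s ⁻¹' Z)) := by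
  refine ⟨mem_closure_orbit_of_mem G hZ r, fun h => ?_⟩
  rw [← s_i] at h
  have := mem_closure_orbit_of_mem G hZ (G.i r) h
  rwa [t_i] at this

end

/-- Stacks Tag 0APB: let (U, R, s, t, c) be a groupoid scheme over S with s, t quasi-compact and flat and U quasi-separated, and W ⊆ U a quasi-compact open. Then there are an R-invariant open V (s⁻¹V = t⁻¹V) and a quasi-compact open W' with W ⊆ V ⊆ W'. (A groupoid scheme carries U, R, s, t, c, e, i over S with the groupoid axioms on T-points; 'finite locally free' is finite, flat and locally of finite presentation; C ⊂ Γ(U) is the ring of functions a with s♯(a) = t♯(a) and M = Spec C.) -/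
theorem result (S : Scheme.{u}) (G : Grpd.GroupoidScheme S) [QuasiCompact G.s] [Flat G.s] [QuasiCompact G.t] [Flat G.t] [QuasiSeparatedSpace G.U] (W : G.U.Opens) (hW : IsCompact (W : Set G.U)) : ∃ V W' : G.U.Opens, G.s ⁻¹ᵁ V = G.t ⁻¹ᵁ V ∧ IsCompact (W' : Set G.U) ∧ W ≤ V ∧ V ≤ W' := by
  set E : Set G.U := ⇑G.t '' (⇑G.s ⁻¹' (W : Set G.U)) with hEdef
  have hEc : IsCompact E :=
    (QuasiCompact.isCompact_preimage (f := G.s) W W.isOpen hW).image G.t.continuous
  obtain ⟨W', hW', hEW'⟩ := S1893.exists_compact_open G.U hEc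
  have hZ : IsClosed (W' : Set G.U)ᶜ := W'.isOpen.isClosed_compl
  set T : Set G.U := ⇑G.t '' (⇑G.s ⁻¹' (W' : Set G.U)ᶜ) with hT
  refine ⟨⟨(closure T)ᶜ, isClosed_closure.isOpen_compl⟩, W', ?_, hW', ?_, ?_⟩
  · ext r
    exact not_congr (mem_closure_orbit_iff G hZ r)
  · have hdisj : Disjoint (W : Set G.U) T := by
      rw [Set.disjoint_left]
      rintro w hw ⟨r, hr, rfl⟩
      have h1 : G.t r ∈ E := subset_orbit G _ hw
      have h2 := (mem_orbit_iff G (W : Set G.U) r).mpr h1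
      exact hr (hEW' h2)
    have := hdisj.closure_right W.isOpen
    intro w hw hwT
    exact Set.disjoint_left.mp this hw hwT
  · intro v hv
    by_contra hvW'
    exact hv (subset_closure (subset_orbit G _ hvW'))

end Groth.Agent.S1894
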