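import Groth.Statements.S1895
import Groth.Agent.Grpsch.EtaleQuotC
import Groth.Agent.Grpsch.QuotPoints
import Groth.Agent.Grpsch.Points
import Groth.Agent.Grpsch.AffGrpd
import Groth.Agent.S1878
import Groth.Agent.S1879
import Mathlib.AlgebraicGeometry.Morphisms.Etale
import Mathlib.AlgebraicGeometry.Morphisms.Finite

set_option autoImplicit false
universe u
open CategoryTheory CategoryTheory.Limits AlgebraicGeometry
open Grpd

namespace Groth.Agent.S1895

open Groth.Agent.Grpsch.AffGrpd Groth.Agent.Grpsch.Points

section pushout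

variable {P X Y Z : Scheme.{u}} [IsAffine P] [IsAffine X] [IsAffine Y] [IsAffine Z]
  {fst : P ⟶ X} {snd : P ⟶ Y} {f : X ⟶ Z} {g : Y ⟶ Z}

lemma exists_push (h : IsPullback fst snd f g) (T : Type u) [CommRing T]
    (a : Γ(Y, ⊤) →+* T) (b : Γ(X, ⊤) →+* T)
    (hab : ∀ x, a (g.appTop.hom x) = b (f.appTop.hom x)) :
    ∃ γ : Γ(P, ⊤) →+* T, (∀ x, γ (snd.appTop.hom x) = a x) ∧ (∀ x, γ (fst.appTop.hom x) = b x) := by
  have h1 : pt b ≫ f = pt a ≫ g := by
    rw [pt_comp, pt_comp]
    congr 1
    ext x
    exact (hab x).symm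
  refine ⟨unpt (h.lift (pt b) (pt a) h1), fun x => ?_, fun x => ?_⟩
  · have h2 : (unpt (h.lift (pt b) (pt a) h1)).comp snd.appTop.hom = a := by
      apply pt_injective
      rw [← pt_comp, pt_unpt, h.lift_snd]
    exact congr($h2 x)
  · have h2 : (unpt (h.lift (pt b) (pt a) h1)).comp fst.appTop.hom = b := by
      apply pt_injective
      rw [← pt_comp, pt_unpt, h.lift_fst]
    exact congr($h2 x)

lemma push_ext (h : IsPullback fst snd f g) {T : Type u} [CommRing T]
    {γ γ' : Γ(P, ⊤) →+* T} (h1 : ∀ x, γ (snd.appTop.hom x) = γ' (snd.appTop.hom x))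
    (h2 : ∀ x, γ (fst.appTop.hom x) = γ' (fst.appTop.hom x)) : γ = γ' := by
  apply pt_injective
  apply h.hom_ext
  · rw [pt_comp, pt_comp]
    congr 1
    ext x
    exact h2 x
  · rw [pt_comp, pt_comp]
    congr 1
    ext x
    exact h1 x

lemma closure_eq_top (h : IsPullback fst snd f g) :
    Subring.closure (Set.range snd.appTop.hom ∪ Set.range fst.appTop.hom) = ⊤ := by
  rw [eq_top_iff]
  intro x _
  let D := Subring.closure (Set.range snd.appTop.hom ∪ Set.range fst.appTop.hom)
  have hcomm : ∀ x, snd.appTop.hom (g.appTop.hom x) = fst.appTop.hom (f.appTop.hom x) := by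
    intro x
    have := congr(($(h.w)).appTop.hom x)
    simpa only [Scheme.Hom.comp_appTop, CommRingCat.hom_comp, RingHom.comp_apply] using this.symm
  obtain ⟨γ, h1, h2⟩ := exists_push h D
    (snd.appTop.hom.codRestrict D (fun x => Subring.subset_closure (Or.inl ⟨x, rfl⟩)))
    (fst.appTop.hom.codRestrict D (fun x => Subring.subset_closure (Or.inr ⟨x, rfl⟩)))
    (fun x => Subtype.ext (hcomm x))
  have h3 : D.subtype.comp γ = RingHom.id _ := by
    apply push_ext h
    · intro x
      rw [RingHom.comp_apply, h1]; rfl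
    · intro x
      rw [RingHom.comp_apply, h2]; rfl
  have h4 : (γ x : Γ(P, ⊤)) = x := congr($h3 x)
  rw [← h4]
  exact (γ x).2

end pushout

/-- Stacks Tag 0DT9 (first conclusion): let f : (U', R', s', t', c') → (U, R, s, t, c) be a morphism of groupoid schemes over S with U, R, U', R' affine, s, t, s', t' finite locally free, the squares for s and for t cartesian, the induced square of stabilizer group schemes cartesian, and f : U' → U étale. Then the induced morphism Spec C' → Spec C on spectra of invariant rings (the unique one compatible with U' → U) is étale. (The source's second conclusion, U' = Spec C' ×_{Spec C} U, is not stated.) (A groupoid scheme carries U, R, s, t, c, e, i over S with the groupoid axioms on T-points; 'finite locally free' is finite, flat and locally of finite presentation; C ⊂ Γ(U) is the ring of functions a with s♯(a) = t♯(a) and M = Spec C.) -/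
theorem result (S : Scheme.{u}) (G' G : Grpd.GroupoidScheme S) (f : Grpd.GroupoidScheme.Hom G' G) [IsAffine G.U] [IsAffine G.R] [IsAffine G'.U] [IsAffine G'.R] [IsFinite G.s] [Flat G.s] [LocallyOfFinitePresentation G.s] [IsFinite G.t] [Flat G.t] [LocallyOfFinitePresentation G.t] [IsFinite G'.s] [Flat G'.s] [LocallyOfFinitePresentation G'.s] [IsFinite G'.t] [Flat G'.t] [LocallyOfFinitePresentation G'.t] (hs : IsPullback f.fR G'.s G.s f.fU) (ht : IsPullback f.fR G'.t G.t f.fU) (hstab : ∃ g : G'.stabilizer ⟶ G.stabilizer, g ≫ pullback.fst G.j G.diag = pullback.fst G'.j G'.diag ≫ f.fR ∧ IsPullback g G'.stabilizerToU G.stabilizerToU f.fU) [Etale f.fU] : ∃ g : Spec (CommRingCat.of G'.invariants) ⟶ Spec (CommRingCat.of G.invariants), G'.toQuot ≫ g = f.fU ≫ G.toQuot ∧ Etale g := by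
  have hcs : ∀ a, G'.s.appTop.hom (f.fU.appTop.hom a) = f.fR.appTop.hom (G.s.appTop.hom a) := by
    intro a
    have := congr(($(f.comm_s)).appTop.hom a)
    simpa only [Scheme.Hom.comp_appTop, CommRingCat.hom_comp, RingHom.comp_apply] using this.symm
  have hct : ∀ a, G'.t.appTop.hom (f.fU.appTop.hom a) = f.fR.appTop.hom (G.t.appTop.hom a) := by
    intro a
    have := congr(($(f.comm_t)).appTop.hom a)
    simpa only [Scheme.Hom.comp_appTop, CommRingCat.hom_comp, RingHom.comp_apply] using this.symm
  let f₀ : G.invariants →+* G'.invariants :=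
    (f.fU.appTop.hom.comp G.invariants.subtype).codRestrict G'.invariants (fun c => by
      change G'.s.appTop.hom (f.fU.appTop.hom c.1) = G'.t.appTop.hom (f.fU.appTop.hom c.1)
      rw [hcs, hct]
      exact congrArg _ c.2)
  have : Algebra.IsIntegral (RingHom.eqLocus G.s.appTop.hom G.t.appTop.hom) Γ(G.U, ⊤) :=
    Groth.Agent.S1879.result S G
  have hEF : Etale f.fR := MorphismProperty.of_isPullback hs.flip (inferInstance : Etale f.fU)
  have hf₀ : f₀.Etale := by
    refine Groth.Agent.Grpsch.EtaleQuotC.etale_of_eqLocus G.s.appTop.hom G.t.appTop.hom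
      G'.s.appTop.hom G'.t.appTop.hom f.fU.appTop.hom f.fR.appTop.hom hcs hct f₀ (fun c => rfl)
      (closure_eq_top hs) (closure_eq_top ht)
      (HasRingHomProperty.appTop (P := @Etale) _ inferInstance)
      (HasRingHomProperty.appTop (P := @Etale) _ hEF)
      (Scheme.Hom.finite_appTop _) (Scheme.Hom.finite_appTop _) ?_ ?_ ?_ ?_
      (fun X _ a b h => exists_push hs X a b h) (fun X _ a b h => exists_push ht X a b h)
    · intro K _ _ x₀ x₁ h
      obtain ⟨r, hr0, hr1⟩ := exists_geomPoint_R G K (pt x₀) (pt x₁) (by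
        rw [pt_toQuot, pt_toQuot]
        congr 2
        ext c
        exact h _ c.2)
      refine ⟨unpt r, fun a => ?_, fun a => ?_⟩
      · have h2 : (unpt r).comp G.t.appTop.hom = x₀ := by
          apply pt_injective
          rw [← pt_comp, pt_unpt, hr0]
        exact congr($h2 a)
      · have h2 : (unpt r).comp G.s.appTop.hom = x₁ := by
          apply pt_injective
          rw [← pt_comp, pt_unpt, hr1]
        exact congr($h2 a)
    · intro K _ _ x₀ x₁ h
      obtain ⟨r, hr0, hr1⟩ := exists_geomPoint_R G' K (pt x₀) (pt x₁) (by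
        rw [pt_toQuot, pt_toQuot]
        congr 2
        ext c
        exact h _ c.2)
      refine ⟨unpt r, fun a => ?_, fun a => ?_⟩
      · have h2 : (unpt r).comp G'.t.appTop.hom = x₀ := by
          apply pt_injective
          rw [← pt_comp, pt_unpt, hr0]
        exact congr($h2 a)
      · have h2 : (unpt r).comp G'.s.appTop.hom = x₁ := by
          apply pt_injective
          rw [← pt_comp, pt_unpt, hr1]
        exact congr($h2 a)
    · intro K _ _ κ
      obtain ⟨x, hx⟩ := exists_geomPoint_U G' K (Spec.map (CommRingCat.ofHom κ))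
      refine ⟨unpt x, fun c => ?_⟩
      have h2 : (unpt x).comp G'.invariants.subtype = κ := by
        rw [← pt_unpt x, pt_toQuot] at hx
        have h' := congrArg CommRingCat.Hom.hom (Spec.map_injective hx)
        simpa only [CommRingCat.hom_ofHom] using h'
      exact congr($h2 c)
    · intro K _ _ r hr
      obtain ⟨g, hg, hpb⟩ := hstab
      have hr1 : (pt r ≫ f.fR) ≫ G.t = (pt r ≫ f.fR) ≫ G.s := by
        rw [pt_comp, pt_comp, pt_comp]
        congr 1
        ext a
        exact (hr a).symm
      -- the stabilizer point of `G`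
      let y : Spec (CommRingCat.of K) ⟶ G.stabilizer :=
        stabLift G (pt r ≫ f.fR) ((pt r ≫ f.fR) ≫ G.s) hr1 rfl
      have hy : y ≫ G.stabilizerToU = (pt r ≫ G'.s) ≫ f.fU := by
        rw [stabLift_stabilizerToU, Category.assoc, Category.assoc, f.comm_s]
      let z : Spec (CommRingCat.of K) ⟶ G'.stabilizer := hpb.lift y (pt r ≫ G'.s) hy
      have hz1 : z ≫ g = y := hpb.lift_fst _ _ _
      have hz2 : z ≫ G'.stabilizerToU = pt r ≫ G'.s := hpb.lift_snd _ _ _
      have hzr : z ≫ stabToR G' = pt r := by
        apply hs.hom_ext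
        · have := congr(z ≫ $hg)
          rw [← Category.assoc, hz1] at this
          change y ≫ stabToR G = z ≫ stabToR G' ≫ f.fR at this
          rw [stabLift_stabToR] at this
          rw [Category.assoc, ← this]
        · rw [Category.assoc, stabToR_s, hz2]
      have h3 : pt r ≫ G'.s = pt r ≫ G'.t := by
        rw [← hzr, Category.assoc, Category.assoc, stabToR_s, stabToR_t]
      rw [pt_comp, pt_comp] at h3
      intro a
      exact congr($(pt_injective h3) a)
  refine ⟨Spec.map (CommRingCat.ofHom f₀), ?_, ?_⟩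
  · rw [GroupoidScheme.toQuot, GroupoidScheme.toQuot, Category.assoc, ← Spec.map_comp,
      Scheme.toSpecΓ_naturality_assoc, ← Spec.map_comp]
    rfl
  · rw [HasRingHomProperty.Spec_iff (P := @Etale)]
    exact hf₀

end Groth.Agent.S1895
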