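import Groth.Statements.S1916
import Groth.Agent.CycB.CohStalk

set_option autoImplicit false
universe u
open CategoryTheory AlgebraicGeometry
open Cyc

namespace Groth.Agent.S1916

/-- Stacks Tag 02QW (1), (2): let F be a coherent O_X-module on a locally Noetherian scheme X. The irreducible components of Supp F form a locally finite family of closed subsets, and at a point ξ of Supp F admitting no proper generalization inside Supp F the stalk F_ξ has finite length over O_{X,ξ}. -/
theorem result (X : Scheme.{u}) [IsLocallyNoetherian X] (F : X.Modules) (hF : Coh.IsCoh F) : LocallyFinite (fun Z : irreducibleComponents {x : X | Nontrivial (F.presheaf.stalk x)} => ((↑) '' (Z : Set {x : X | Nontrivial (F.presheaf.stalk x)}) : Set X)) ∧ ∀ ξ : X, Nontrivial (F.presheaf.stalk ξ) → (∀ x : X, Nontrivial (F.presheaf.stalk x) → x ⤳ ξ → x = ξ) → Module.length (X.presheaf.stalk ξ) (F.presheaf.stalk ξ) < ⊤ :=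
  ⟨Groth.Agent.CycB.LocFinComp.locallyFinite_irreducibleComponents_of_isLocallyNoetherian X _,
    fun ξ _ h => Groth.Agent.CycB.CohStalk.length_stalk_lt_top F hF ξ h⟩

end Groth.Agent.S1916
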