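import Groth.Statements.S1896
import Groth.Agent.CycB.StalkExact
import Groth.Agent.S1916

set_option autoImplicit false
universe u
open CategoryTheory AlgebraicGeometry
open Cyc

namespace Groth.Agent.S1896

/-- Stacks Tag 02QZ: for a short exact sequence 0 → F → G → H → 0 of coherent O_X-modules (X locally Noetherian with dimension function δ) whose supports have δ-dimension at most k, one has [G]_k = [F]_k + [H]_k coefficientwise. Here (X, δ) satisfies Cyc.IsSetup (X locally Noetherian with universally catenary local rings, δ a dimension function). -/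
theorem result (X : Scheme.{u}) (δ : X → ℤ) (hX : Cyc.IsSetup X δ) (k : ℤ) (T : ShortComplex X.Modules) (hT : T.ShortExact) (h₁ : Coh.IsCoh T.X₁) (h₂ : Coh.IsCoh T.X₂) (h₃ : Coh.IsCoh T.X₃) (hdim : ∀ x : X, Nontrivial (T.X₂.presheaf.stalk x) → δ x ≤ k) : Cyc.sheafFun δ k T.X₂ = Cyc.sheafFun δ k T.X₁ + Cyc.sheafFun δ k T.X₃ := by
  haveI := hX.1
  funext x
  rw [Pi.add_apply]
  unfold Cyc.sheafFun
  split_ifs with hx
  · have hlen := CycB.StalkExact.length_stalk_shortExact T hT x
    have hfin : Module.length (X.presheaf.stalk x) (T.X₂.presheaf.stalk x) ≠ ⊤ := by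
      by_cases hn : Nontrivial (T.X₂.presheaf.stalk x)
      · refine ((Groth.Agent.S1916.result X T.X₂ h₂).2 x hn fun x' hx' hs => ?_).ne
        by_contra hne
        have h1 := (hX.2.2 x' x hs hne).1
        have h2 := hdim x' hx'
        omega
      · rw [not_nontrivial_iff_subsingleton] at hn
        rw [Module.length_eq_zero]
        exact ENat.zero_ne_top
    rw [hlen] at hfin ⊢
    rw [ENat.toNat_add (fun h => hfin (by rw [h, top_add])) (fun h => hfin (by rw [h, add_top])),
      Nat.cast_add]
  · rfl

end Groth.Agent.S1896
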