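import Groth.Statements.S1897
import Groth.Agent.CycB.PullLen
import Groth.Agent.CycB.RelDim3

set_option autoImplicit false
universe u
open CategoryTheory AlgebraicGeometry
open Cyc

namespace Groth.Agent.S1897

/-- Stacks Tag 02RE (2): let f : X → Y be flat, locally of finite type, of relative dimension r, and F a coherent O_Y-module whose support has δ-dimension ≤ k. Then the support of f^*F has δ-dimension ≤ k + r and f^*[F]_k = [f^*F]_{k+r} (coefficientwise). Here a pair (X, δ) with Cyc.IsSetup plays the role of a scheme locally of finite type over the base (S, δ) of the source (X locally Noetherian with universally catenary local rings, δ a dimension function), and Cyc.DeltaCompat records that the dimension function upstairs is the induced one. -/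
theorem result (X Y : Scheme.{u}) (δX : X → ℤ) (δY : Y → ℤ) (hX : Cyc.IsSetup X δX) (hY : Cyc.IsSetup Y δY) (f : X ⟶ Y) [Flat f] [LocallyOfFiniteType f] (r : ℕ) (hr : Cyc.HasRelDim f r) (hδ : Cyc.DeltaCompat f δX δY) (k : ℤ) (F : Y.Modules) (hF : Coh.IsCoh F) (hdim : ∀ y : Y, Nontrivial (F.presheaf.stalk y) → δY y ≤ k) : (∀ x : X, Nontrivial (((Scheme.Modules.pullback f).obj F).presheaf.stalk x) → δX x ≤ k + r) ∧ Cyc.pullFun f δX δY r (Cyc.sheafFun δY k F) = Cyc.sheafFun δX (k + r) ((Scheme.Modules.pullback f).obj F) := by
  refine ⟨fun x hx => ?_, ?_⟩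
  · have hy : Nontrivial (F.presheaf.stalk (f x)) := by
      by_contra hn
      rw [not_nontrivial_iff_subsingleton] at hn
      exact not_subsingleton _ (CycB.PullLen.subsingleton_stalk_pullback f F x)
    have h1 := hdim _ hy
    have h2 := CycB.RelDim.delta_le hr hδ x
    omega
  · funext x
    unfold Cyc.pullFun Cyc.sheafFun
    have hlen := CycB.PullLen.length_stalk_pullback f F x
    rw [hlen]
    by_cases h1 : δX x = δY (f x) + r
    · rw [if_pos h1]
      by_cases h2 : δY (f x) = k
      · rw [if_pos h2, if_pos (by omega), ENat.toNat_mul, Nat.cast_mul]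
      · rw [if_neg h2, if_neg (by omega), zero_mul]
    · rw [if_neg h1]
      split_ifs with h2
      · by_cases hn : Nontrivial (F.presheaf.stalk (f x))
        · exfalso
          have h3 := hdim _ hn
          have h4 := CycB.RelDim.delta_le hr hδ x
          omega
        · rw [not_nontrivial_iff_subsingleton] at hn
          rw [Module.length_eq_zero, zero_mul]
          rfl
      · rfl

end Groth.Agent.S1897
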