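import Groth.Statements.S1898
import Groth.Agent.CycB.Push
import Groth.Agent.CycB.PushLen
import Groth.Agent.CohqA.FTStalk
import Groth.Agent.S1916

set_option autoImplicit false
universe u
open CategoryTheory AlgebraicGeometry
open Cyc

namespace Groth.Agent.S1898

/-- Stacks Tag 02R6 (2): let f : X → Y be proper and F a coherent O_X-module whose support has δ-dimension ≤ k. Then f_*[F]_k = [f_*F]_k: for any cycle α on X with the coefficients of [F]_k, the pushforward f_*α has the coefficients of [f_*F]_k. Here a pair (X, δ) with Cyc.IsSetup plays the role of a scheme locally of finite type over the base (S, δ) of the source (X locally Noetherian with universally catenary local rings, δ a dimension function), and Cyc.DeltaCompat records that the dimension function upstairs is the induced one. -/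
theorem result (X Y : Scheme.{u}) (δX : X → ℤ) (δY : Y → ℤ) (hX : Cyc.IsSetup X δX) (hY : Cyc.IsSetup Y δY) (f : X ⟶ Y) [IsProper f] (hδ : Cyc.DeltaCompat f δX δY) (k : ℤ) (F : X.Modules) (hF : Coh.IsCoh F) (hdim : ∀ x : X, Nontrivial (F.presheaf.stalk x) → δX x ≤ k) (α : AlgebraicCycle X ℤ) (hα : ⇑α = Cyc.sheafFun δX k F) : ⇑(AlgebraicCycle.map f δX δY α) = Cyc.sheafFun δY k ((Coh.push f).obj F) := by
  have : IsLocallyNoetherian X := hX.1
  funext y
  rw [CycB.Push.map_apply]
  -- only points with `δX = k` contribute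
  have hα0 : ∀ x : X, α x ≠ 0 → δX x = k ∧ Nontrivial (F.presheaf.stalk x) := by
    intro x hx
    rw [hα] at hx
    unfold Cyc.sheafFun at hx
    have hk : δX x = k := by
      by_contra h
      rw [if_neg h] at hx
      exact hx rfl
    rw [if_pos hk] at hx
    refine ⟨hk, ?_⟩
    by_contra h
    rw [not_nontrivial_iff_subsingleton] at h
    rw [Module.length_eq_zero] at hx
    exact hx rfl
  by_cases hy : δY y = k
  swap
  · have h0 : ∀ x : X, x ∈ {x : X | f x = y} → α x * (AlgebraicCycle.mapCoeff f δX δY x : ℤ) = 0 := by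
      rintro x rfl
      by_cases hx : α x = 0
      · rw [hx, zero_mul]
      · have h1 := (hα0 x hx).1
        unfold AlgebraicCycle.mapCoeff
        rw [if_neg (fun h => hy (h.symm.trans h1))]
        simp
    rw [finsum_mem_congr rfl h0]
    unfold Cyc.sheafFun
    rw [if_neg hy]
    simp
  -- the interesting case
  let Z : Set X := {x : X | Nontrivial (F.presheaf.stalk x)}
  have hZo : IsOpen {x : X | Subsingleton (F.presheaf.stalk x)} :=
    CohqA.FTStalk.isOpen_setOf_subsingleton_stalk F hF.2
  have hZc : IsClosed Z := by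
    rw [← isOpen_compl_iff]
    convert hZo using 1
    ext x
    simp [Z, not_nontrivial_iff_subsingleton]
  have hZ : ∀ x, x ∉ Z → Subsingleton (F.presheaf.stalk x) := fun x hx =>
    not_nontrivial_iff_subsingleton.mp hx
  have hδZ : ∀ x ∈ Z, f x = y → δX x = k := by
    rintro x hx rfl
    obtain ⟨n, -, hn⟩ := hδ x
    have := hdim x hx
    omega
  have hmax : ∀ x ∈ Z, f x = y → ∀ x' ∈ Z, x' ⤳ x → x' = x := by
    intro x hx hxy x' hx' hs
    by_contra hne
    have h1 := (hX.2.2 x' x hs hne).1
    have h2 := hδZ x hx hxy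
    have h3 := hdim x' hx'
    omega
  have hfin : ∀ x ∈ Z, f x = y → (f.residueFieldMap x).hom.Finite := by
    rintro x hx rfl
    exact CycB.PushLen.residueFieldMap_finite f δX δY hδ x ((hδZ x hx rfl).trans hy.symm)
  obtain ⟨hS, hlen⟩ := CycB.PushLen.length_push_stalk f f.isClosedMap F Z hZc hZ y hmax hfin
  unfold Cyc.sheafFun
  rw [if_pos hy, hlen]
  have hlt : ∀ x ∈ hS.toFinset, Module.length (X.presheaf.stalk x) (F.presheaf.stalk x) *
      (f.residueDegree x : ℕ∞) =
      (((Module.length (X.presheaf.stalk x) (F.presheaf.stalk x)).toNat * f.residueDegree x : ℕ) : ℕ∞) := by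
    intro x hx
    obtain ⟨hxy, hxZ⟩ := hS.mem_toFinset.mp hx
    push_cast
    rw [ENat.coe_toNat ((S1916.result X F hF).2 x hxZ
      (fun x' hx' hs => hmax x hxZ hxy x' hx' hs)).ne]
  rw [Finset.sum_congr rfl hlt, ← Nat.cast_sum, ENat.toNat_coe]
  have hL : (∑ᶠ x ∈ {x : X | f x = y}, α x * (AlgebraicCycle.mapCoeff f δX δY x : ℤ)) =
      ∑ x ∈ hS.toFinset, α x * (AlgebraicCycle.mapCoeff f δX δY x : ℤ) := by
    apply finsum_mem_eq_sum_of_inter_support_eq
    ext x
    simp only [Set.mem_inter_iff, Set.mem_ofPred_eq, Function.mem_support, Set.Finite.coe_toFinset]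
    constructor
    · rintro ⟨h1, h2⟩; exact ⟨⟨h1, (hα0 x (left_ne_zero_of_mul h2)).2⟩, h2⟩
    · rintro ⟨⟨h1, h2⟩, h3⟩; exact ⟨h1, h3⟩
  rw [hL]
  push_cast
  refine Finset.sum_congr rfl ?_
  intro x hx
  obtain ⟨hxy, hxZ⟩ := hS.mem_toFinset.mp hx
  have h1 := hδZ x hxZ hxy
  unfold AlgebraicCycle.mapCoeff
  have h2 : δX x = δY (f.base x) := by
    have : f.base x = y := hxy
    rw [this, h1, hy]
  rw [if_pos h2, hα]
  unfold Cyc.sheafFun
  rw [if_pos h1]

end Groth.Agent.S1898
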