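import Groth.Statements.S1899
import Groth.Agent.CycB.PushStalk
import Groth.Agent.CycB.DivNat

set_option autoImplicit false
universe u
open CategoryTheory AlgebraicGeometry
open Cyc

namespace Groth.Agent.S1899

/-- Stacks Tag 02QY: for a closed immersion i : Z → X with Z of δ-dimension ≤ k, [Z]_k = [O_Z]_k, i.e. the multiplicities computed from lengths of the local rings O_{Z,z} agree with those computed from the stalks of i_*O_Z as O_X-modules. Here a pair (X, δ) with Cyc.IsSetup plays the role of a scheme locally of finite type over the base (S, δ) of the source (X locally Noetherian with universally catenary local rings, δ a dimension function), and Cyc.DeltaCompat records that the dimension function upstairs is the induced one. -/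
theorem result (X Z : Scheme.{u}) (δ : X → ℤ) (hX : Cyc.IsSetup X δ) (i : Z ⟶ X) [IsClosedImmersion i] (k : ℤ) (hdim : ∀ z : Z, δ (i z) ≤ k) : Cyc.subschemeFun δ k i = Cyc.sheafFun δ k ((Coh.push i).obj (Coh.structureModule Z)) := by
  have hinj : Function.Injective i := i.isClosedEmbedding.injective
  funext x
  unfold Cyc.subschemeFun Cyc.sheafFun
  split_ifs with hx
  · by_cases hr : x ∈ Set.range i
    · obtain ⟨z, rfl⟩ := hr
      have hset : {z' : Z | i z' = i z} = {z} := by
        ext z'
        exact ⟨fun h => hinj h, fun h => by rw [Set.mem_singleton_iff] at h; rw [h]; rfl⟩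
      rw [hset, finsum_mem_singleton]
      congr 2
      have h1 := CycB.DivNat.length_eq_of_semilinear (i.stalkMap z).hom
        (i.stalkMap_surjective z)
        (CycB.PushStalk.pushStalk i (Coh.structureModule Z) z)
        (CycB.PushStalk.pushStalk_bijective i i.isClosedEmbedding.isInducing
          (Coh.structureModule Z) z)
      have h2 := (CycB.PushStalk.unitStalk Z z).length_eq
      exact h2.trans h1.symm
    · have hset : {z' : Z | i z' = x} = ∅ := by
        ext z'
        simp only [Set.mem_setOf_eq, Set.mem_empty_iff_false, iff_false]
        intro h
        exact hr ⟨z', h⟩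
      rw [hset, finsum_mem_empty]
      have : x ∉ closure (Set.range i) := by
        rwa [i.isClosedEmbedding.isClosed_range.closure_eq]
      have := CycB.PushStalk.subsingleton_stalk_push i (Coh.structureModule Z) x this
      rw [Module.length_eq_zero]
      rfl
  · rfl

end Groth.Agent.S1899
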