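import Groth.Statements.S1904
import Groth.Agent.CycB.GraphPt

set_option autoImplicit false
universe u
open CategoryTheory AlgebraicGeometry
open CategoryTheory.Limits
open Cyc

namespace Groth.Agent.S1904

/-- Stacks Tag 02RQ (6): let X be integral with δ(η) = n, U ⊆ X a nonempty open and f an invertible function on U, viewed as a rational function on X. Let Y ⊆ P^1_X be the scheme-theoretic closure of the graph of f and Y_0, Y_∞ → X its pullbacks along the sections at 0 and ∞. Then div_X(f) = [Y_0]_{n−1} − [Y_∞]_{n−1} coefficientwise. (Parts (1)–(5) are not stated.) Here a pair (X, δ) with Cyc.IsSetup plays the role of a scheme locally of finite type over the base (S, δ) of the source (X locally Noetherian with universally catenary local rings, δ a dimension function), and Cyc.DeltaCompat records that the dimension function upstairs is the induced one. -/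
theorem result (X : Scheme.{u}) [IsIntegral X] (δ : X → ℤ) (hX : Cyc.IsSetup X δ) (n : ℤ) (hn : δ (genericPoint X) = n) (U : X.Opens) (hη : genericPoint X ∈ U) (f : Γ(X, U)) (hf : IsUnit f) : Cyc.divFun δ (genericPoint X) (X.evaluation U (genericPoint X) hη f) = fun x => Cyc.subschemeFun δ (n - 1) (pullback.snd (P1.graphClosureι X U f) (P1.sect X 0)) x - Cyc.subschemeFun δ (n - 1) (pullback.snd (P1.graphClosureι X U f) (P1.sect X 1)) x := by
  have := hX.1
  exact Groth.Agent.CycB.GraphPt.divFun_eq_graphClosure hX.2.2 (n - 1) (by omega) U hη f hf

end Groth.Agent.S1904
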