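import Groth.Statements.S1908
-- import your own Groth.Agent.* helpers here
import Groth.Agent.Grpsch.Thicken

set_option autoImplicit false
universe u
open CategoryTheory CategoryTheory.Limits AlgebraicGeometry
open Grpd

namespace Groth.Agent.S1908

/-- Stacks Tag 0ABA: let (U, R, s, t, c) be a groupoid scheme over S with s, t finite. There are an R-invariant open W ⊆ U and an R-invariant closed subscheme W' ⊆ W with the same underlying set (W is a thickening of W') such that U = t(s⁻¹(closure of W)) set-theoretically and the source and target of the restriction of R to W' are finite locally free. Here W is an open of U, W' a closed subscheme of W with the same underlying set, ι' : W' → U the inclusion; R-invariance of W' is expressed as an isomorphism s⁻¹(W') ≅ t⁻¹(W') of the two pullbacks compatible with the maps to R, and the restricted source and target maps are the base changes of s and t along ι'. (A groupoid scheme carries U, R, s, t, c, e, i over S with the groupoid axioms on T-points; 'finite locally free' is finite, flat and locally of finite presentation; C ⊂ Γ(U)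 is the ring of functions a with s♯(a) = t♯(a) and M = Spec C.) -/
theorem result (S : Scheme.{u}) (G : Grpd.GroupoidScheme S) [IsFinite G.s] [IsFinite G.t] : ∃ (W : G.U.Opens) (W' : (↑W : Scheme.{u}).IdealSheafData), G.s ⁻¹ᵁ W = G.t ⁻¹ᵁ W ∧ W'.support = ⊤ ∧ (∃ φ : pullback G.s (W'.subschemeι ≫ W.ι) ≅ pullback G.t (W'.subschemeι ≫ W.ι), φ.hom ≫ pullback.fst G.t (W'.subschemeι ≫ W.ι) = pullback.fst G.s (W'.subschemeι ≫ W.ι)) ∧ (∀ u : G.U, ∃ r : G.R, G.t r = u ∧ G.s r ∈ closure (W : Set G.U)) ∧ Mor2.IsFinLocFree (pullback.snd G.s (W'.subschemeι ≫ W.ι)) ∧ Mor2.IsFinLocFree (pullback.snd G.t (W'.subschemeι ≫ W.ι)) := by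
  exact ⟨Grpsch.Thicken.W G, Grpsch.Thicken.W' G, Grpsch.Thicken.preimage_W G,
    Grpsch.FibRank.support_flatSheaf _ _, Grpsch.Thicken.exists_iso G,
    Grpsch.Thicken.exists_closure_W G, Grpsch.Thicken.isFinLocFree_s G,
    Grpsch.Thicken.isFinLocFree_t G⟩

end Groth.Agent.S1908
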