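import Groth.Statements.S1910
import Groth.Agent.CycB.SpSub

set_option autoImplicit false
universe u
open CategoryTheory AlgebraicGeometry
open CategoryTheory.Limits
open Cyc

namespace Groth.Agent.S1910

open Groth.Agent.CycB Groth.Agent.CycB.SpDVR Groth.Agent.CycB.SpMod Groth.Agent.CycB.SpSub
open scoped Pointwise

/-- the local data of a closed subscheme at a point `z` of `X` -/
theorem exists_ideal {W X S : Scheme.{u}} (i : W ⟶ X) [IsClosedImmersion i] (a : X ⟶ S)
    [Flat (i ≫ a)] (w : W) (z : X) (hz : i w = z) : ∃ I : Ideal (X.presheaf.stalk z), I ≠ ⊤ ∧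
    (∀ (z' : X) (h : z' ⤳ z), I ≤ RingHom.ker (Cyc.specMap z z' h) → z' ∈ Set.range i) ∧
    (∀ (w' : W) (h : i w' ⤳ z) (p : Ideal (X.presheaf.stalk z)) [p.IsPrime],
      p = RingHom.ker (Cyc.specMap z (i w') h) →
      Module.length (Localization.AtPrime p)
        (LocalizedModule p.primeCompl (X.presheaf.stalk z ⧸ I)) =
      Module.length (W.presheaf.stalk w') (W.presheaf.stalk w')) ∧
    (∀ π : S.presheaf.stalk (a z), π ∈ nonZeroDivisors (S.presheaf.stalk (a z)) →
      IsSMulRegular (X.presheaf.stalk z ⧸ I) ((a.stalkMap z).hom π)) ∧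
    (∀ π : S.presheaf.stalk (a z), IsLocalRing.maximalIdeal (S.presheaf.stalk (a z)) =
        Ideal.span {π} →
      Module.length (X.presheaf.stalk z) ((X.presheaf.stalk z ⧸ I) ⧸
        ((a.stalkMap z).hom π • (⊤ : Submodule (X.presheaf.stalk z) (X.presheaf.stalk z ⧸ I)))) =
      Module.length (W.presheaf.stalk w)
        (W.presheaf.stalk w ⧸ FiberStalk.fibIdeal (i ≫ a) w)) := by
  subst hz
  refine ⟨RingHom.ker (i.stalkMap w).hom, RingHom.ker_ne_top _, ?_, ?_, ?_, ?_⟩
  · intro z' h hle
    obtain ⟨w', -, rfl⟩ := exists_point_of_ker_le i w h hle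
    exact ⟨w', rfl⟩
  · intro w' h p hp hpe
    have h' : w' ⤳ w := (DivNat.specializes_iff i w w').1 h
    exact length_localized_ker i w w' h' p hpe
  · intro π hπ
    exact regular_ker i a w hπ
  · intro π hπ
    rw [length_quot_smul (i.stalkMap w).hom (i.stalkMap_surjective w) _ rfl,
      span_eq_fibIdeal i a w hπ]

/-- Stacks Tag 0H4J: let W → X be a closed immersion with W flat over R and dim W_η ≤ r. Then dim W_s ≤ r and sp([W_η]_r) = [W_s]_r. Here R is a discrete valuation ring, a : X → Spec R is locally of finite type, X_η and X_s are the fibres over the generic and closed points (Mathlib's Scheme.Hom.fiber) with their dimension functions δη, δs (transcendence degree of residue fields), r-cycles on X_η are cycles supported at points with δη = r, and sp is the specialization map Z_r(X_η) → Z_r(X_s) on coefficient functions (Cyc.spFun). -/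
theorem result (R : Type u) [CommRing R] [IsDomain R] [IsDiscreteValuationRing R] (X : Scheme.{u}) (a : X ⟶ Spec (CommRingCat.of R)) [LocallyOfFiniteType a] (δη : ↥(a.fiber (genericPoint ↥(Spec (CommRingCat.of R)))) → ℤ) (δs : ↥(a.fiber (IsLocalRing.closedPoint R)) → ℤ) (hδη : Cyc.DeltaCompat (a.fiberToSpecResidueField (genericPoint ↥(Spec (CommRingCat.of R)))) δη (fun _ => 0)) (hδs : Cyc.DeltaCompat (a.fiberToSpecResidueField (IsLocalRing.closedPoint R)) δs (fun _ => 0)) (r : ℤ) (W : Scheme.{u}) (ι : W ⟶ X) [IsClosedImmersion ι] [Flat (ι ≫ a)] (hdim : ∀ ζ : ↥(a.fiber (genericPoint ↥(Spec (CommRingCat.of R)))), a.fiberι (genericPoint ↥(Spec (CommRingCat.of R))) ζ ∈ Set.range ⇑ι → δη ζ ≤ r) : (∀ x : ↥(a.fiber (IsLocalRing.closedPoint R)), a.fiberι (IsLocalRing.closedPoint R) x ∈ Set.range ⇑ι → δs x ≤ r) ∧ Cyc.spFun a (genericPoint ↥(Spec (CommRingCat.of R))) (IsLocalRing.closedPoint R) δη δs r (Cyc.subschemeFun δη r (pullback.snd ι (a.fiberι (genericPoint ↥(Spec (CommRingCat.of R)))))) = Cyc.subschemeFun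 δs r (pullback.snd ι (a.fiberι (IsLocalRing.closedPoint R))) := by
  have hnoeth : IsLocallyNoetherian X := LocallyOfFiniteType.isLocallyNoetherian a
  constructor
  · rintro x ⟨w, hw⟩
    obtain ⟨π, hπ⟩ := exists_maximalIdeal_stalk_eq_span R (a (a.fiberι _ x))
    have hπ0 := pi_mem_nonZeroDivisors R (apply_fiberι a _ x) hπ
    obtain ⟨I, hI, h1, h2, h3, h4⟩ := exists_ideal ι a w _ hw
    have hnt : Nontrivial (X.presheaf.stalk (a.fiberι _ x) ⧸ I) :=
      Ideal.Quotient.nontrivial_iff.2 hI
    refine SpCore.delta_le_of_nontrivial (M := X.presheaf.stalk (a.fiberι _ x) ⧸ I)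
      a hδη hδs π hπ (h3 π hπ0) ?_
    intro ζ h hs
    apply hdim ζ
    apply h1 _ h
    rw [Module.mem_support_iff_of_finite, Ideal.annihilator_quotient,
      LocQuot.primeOf_asIdeal] at hs
    exact hs
  · funext x
    by_cases hx : δs x = r
    swap
    · unfold Cyc.spFun Cyc.subschemeFun
      rw [if_neg hx, if_neg hx]
    by_cases hxr : a.fiberι _ x ∈ Set.range ι
    · obtain ⟨w, hw⟩ := hxr
      obtain ⟨π, hπ⟩ := exists_maximalIdeal_stalk_eq_span R (a (a.fiberι _ x))
      have hπ0 := pi_mem_nonZeroDivisors R (apply_fiberι a _ x) hπ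
      obtain ⟨I, hI, h1, h2, h3, h4⟩ := exists_ideal ι a w _ hw
      have hsupp : ∀ (ζ : ↥(a.fiber (genericPoint ↥(Spec (CommRingCat.of R)))))
          (h : a.fiberι _ ζ ⤳ a.fiberι _ x),
          LocQuot.primeOf h ∈ Module.support (X.presheaf.stalk (a.fiberι _ x))
            (X.presheaf.stalk (a.fiberι _ x) ⧸ I) → a.fiberι _ ζ ∈ Set.range ι := by
        intro ζ h hs
        apply h1 _ h
        rw [Module.mem_support_iff_of_finite, Ideal.annihilator_quotient,
          LocQuot.primeOf_asIdeal] at hs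
        exact hs
      rw [SpCore.spFun_eq (M := X.presheaf.stalk (a.fiberι _ x) ⧸ I) a hδη hδs π hπ (h3 π hπ0)
        (fun ζ h hs => hdim ζ (hsupp ζ h hs)) hx]
      · rw [subschemeFun_of_eq ι a _ δs r x hx w hw, h4 π hπ]
      · intro ζ h hζ
        by_cases hζr : a.fiberι _ ζ ∈ Set.range ι
        · obtain ⟨w', hw'⟩ := hζr
          have h5 : ι w' ⤳ a.fiberι _ x := hw' ▸ h
          have h6 : FiberStalk.fibIdeal (ι ≫ a) w' = ⊥ := by
            unfold FiberStalk.fibIdeal
            rw [maximalIdeal_stalk_genericPoint R _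
              (by rw [Scheme.Hom.comp_apply, hw']; exact apply_fiberι a _ ζ), Ideal.map_bot]
          have h7 : (LocQuot.primeOf h).asIdeal =
              RingHom.ker (Cyc.specMap (a.fiberι _ x) (ι w') h5) := by
            rw [LocQuot.primeOf_asIdeal, LocQuot.ker_inj]
            exact hw'.symm
          rw [subschemeFun_of_eq ι a _ δη r ζ hζ w' hw', h2 w' h5 _ h7, h6]
          congr 2
          exact (Submodule.quotEquivOfEqBot _ rfl).length_eq
        · rw [subschemeFun_of_notMem ι a _ δη r ζ hζr]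
          have h5 : LocQuot.primeOf h ∉ Module.support (X.presheaf.stalk (a.fiberι _ x))
            (X.presheaf.stalk (a.fiberι _ x) ⧸ I) := fun hs => hζr (hsupp ζ h hs)
          rw [Module.mem_support_iff, not_nontrivial_iff_subsingleton] at h5
          rw [Module.length_eq_zero_iff.2 h5]
          simp
    · rw [subschemeFun_of_notMem ι a _ δs r x hxr]
      unfold Cyc.spFun
      rw [if_pos hx]
      apply finsum_eq_zero_of_forall_eq_zero
      rintro ⟨ζ, hζ, h⟩
      have hζr : a.fiberι _ ζ ∉ Set.range ι := fun h' =>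
        hxr (h.mem_closed ι.isClosedEmbedding.isClosed_range h')
      rw [subschemeFun_of_notMem ι a _ δη r ζ hζr, zero_mul]

end Groth.Agent.S1910
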