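import Groth.Statements.S1911
import Groth.Agent.CycB.SpMod
import Groth.Agent.CycB.PullLen

set_option autoImplicit false
universe u
open CategoryTheory AlgebraicGeometry
open CategoryTheory.Limits
open Cyc

namespace Groth.Agent.S1911

open Groth.Agent.CycB Groth.Agent.CycB.SpDVR Groth.Agent.CycB.SpMod

theorem aux_support {X : Scheme.{u}} (F : X.Modules) (hF : Coh.IsCoh F) {x z : X} (h : z ⤳ x) :
    Module.length (Localization.AtPrime (LocQuot.primeOf h).asIdeal)
        (LocalizedModule (LocQuot.primeOf h).asIdeal.primeCompl (F.presheaf.stalk x)) =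
      Module.length (X.presheaf.stalk z) (F.presheaf.stalk z) := by
  have key : ∀ (p : Ideal (X.presheaf.stalk x)) [p.IsPrime],
      p = RingHom.ker (Cyc.specMap x z h) →
      Module.length (Localization.AtPrime p)
        (LocalizedModule p.primeCompl (F.presheaf.stalk x)) =
      Module.length (X.presheaf.stalk z) (F.presheaf.stalk z) := by
    intro p hp hpe
    subst hpe
    let := StalkLoc.specAlg h
    let := StalkLoc.specMod F h
    have := StalkLoc.isScalarTower F h
    have := StalkLoc.isLocalizedModule_specLin F hF.1 h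
    have := LocQuot.isLocalization_stalkSpecializes h
    exact SpAlg2.length_localized (RingHom.ker (Cyc.specMap x z h)) (F.presheaf.stalk x)
      (X.presheaf.stalk z) (F.presheaf.stalk z) (StalkLoc.specLin F h)
  exact key _ (LocQuot.primeOf_asIdeal h)

/-- Stacks Tag 0H4I: let F be a coherent O_X-module flat over R with dim Supp(F_η) ≤ r. Then dim Supp(F_s) ≤ r and sp([F_η]_r) = [F_s]_r, where F_η, F_s are the pullbacks of F to the two fibres. Here R is a discrete valuation ring, a : X → Spec R is locally of finite type, X_η and X_s are the fibres over the generic and closed points (Mathlib's Scheme.Hom.fiber) with their dimension functions δη, δs (transcendence degree of residue fields), r-cycles on X_η are cycles supported at points with δη = r, and sp is the specialization map Z_r(X_η) → Z_r(X_s) on coefficient functions (Cyc.spFun). -/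
theorem result (R : Type u) [CommRing R] [IsDomain R] [IsDiscreteValuationRing R] (X : Scheme.{u}) (a : X ⟶ Spec (CommRingCat.of R)) [LocallyOfFiniteType a] (δη : ↥(a.fiber (genericPoint ↥(Spec (CommRingCat.of R)))) → ℤ) (δs : ↥(a.fiber (IsLocalRing.closedPoint R)) → ℤ) (hδη : Cyc.DeltaCompat (a.fiberToSpecResidueField (genericPoint ↥(Spec (CommRingCat.of R)))) δη (fun _ => 0)) (hδs : Cyc.DeltaCompat (a.fiberToSpecResidueField (IsLocalRing.closedPoint R)) δs (fun _ => 0)) [IsLocallyNoetherian X] (r : ℤ) (F : X.Modules) (hF : Coh.IsCoh F) (hflat : FlatMod.IsFlatOver a F) (hdim : ∀ ζ : ↥(a.fiber (genericPoint ↥(Spec (CommRingCat.of R)))), Nontrivial (((Scheme.Modules.pullback (a.fiberι (genericPoint ↥(Spec (CommRingCat.of R))))).obj F).presheaf.stalk ζ) → δη ζ ≤ r) : (∀ x : ↥(a.fiber (IsLocalRing.closedPoint R)), Nontrivial (((Scheme.Modules.pullback (a.fiberι (IsLocalRing.closedPoint R))).obj F).presheaf.stalk x) → δs x ≤ r) ∧ Cyc.spFun a (genericPoint ↥(Spec (CommRingCat.of R))) (IsLocalRing.closedPoint R) δη δs r (Cyc.sheafFun δη r ((Scheme.Modules.pullback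 (a.fiberι (genericPoint ↥(Spec (CommRingCat.of R))))).obj F)) = Cyc.sheafFun δs r ((Scheme.Modules.pullback (a.fiberι (IsLocalRing.closedPoint R))).obj F) := by
  have hsupp : ∀ (x : ↥(a.fiber (IsLocalRing.closedPoint R)))
      (ζ : ↥(a.fiber (genericPoint ↥(Spec (CommRingCat.of R)))))
      (h : a.fiberι _ ζ ⤳ a.fiberι _ x),
      LocQuot.primeOf h ∈ Module.support (X.presheaf.stalk (a.fiberι _ x))
        (F.presheaf.stalk (a.fiberι _ x)) → δη ζ ≤ r := by
    intro x ζ h hs
    apply hdim ζ
    rw [Module.mem_support_iff] at hs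
    by_contra hcon
    rw [not_nontrivial_iff_subsingleton, ← Module.length_eq_zero_iff (R := (a.fiber _).presheaf.stalk ζ),
      length_stalk_generic, ← aux_support F hF h, Module.length_eq_zero_iff] at hcon
    exact not_subsingleton _ hcon
  constructor
  · intro x hx
    obtain ⟨π, hπ⟩ := exists_maximalIdeal_stalk_eq_span R (a (a.fiberι _ x))
    have hfin := StalkLoc.finite_stalk F hF (a.fiberι _ x)
    have hnt : Nontrivial (F.presheaf.stalk (a.fiberι _ x)) := by
      by_contra hcon
      rw [not_nontrivial_iff_subsingleton] at hcon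
      have := PullLen.subsingleton_stalk_pullback (a.fiberι _) F x
      exact not_subsingleton _ this
    exact SpCore.delta_le_of_nontrivial a hδη hδs π hπ (regular_of_flat a F hflat x hπ)
      (hsupp x)
  · funext x
    by_cases hx : δs x = r
    · obtain ⟨π, hπ⟩ := exists_maximalIdeal_stalk_eq_span R (a (a.fiberι _ x))
      have hfin := StalkLoc.finite_stalk F hF (a.fiberι _ x)
      rw [SpCore.spFun_eq a hδη hδs π hπ (regular_of_flat a F hflat x hπ) (hsupp x) hx]
      · unfold Cyc.sheafFun
        rw [if_pos hx, length_stalk_closed a F x hπ]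
      · intro ζ h hζ
        unfold Cyc.sheafFun
        rw [if_pos hζ, length_stalk_generic, aux_support F hF h]
    · unfold Cyc.spFun Cyc.sheafFun
      rw [if_neg hx, if_neg hx]

end Groth.Agent.S1911
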