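import Groth.Statements.S1914
import Groth.Agent.CycA.KoszulChi
import Groth.Agent.CycA.FiniteLen

set_option autoImplicit false
universe u
open CategoryTheory
attribute [local instance] HasDerivedCategory.standard
open IntMult

namespace Groth.Agent.S1914

/-- Stacks Tag 0B03: let A be a Noetherian local ring, I = (g₁, …, g_c) an ideal generated by a regular sequence and M a finite A-module with Supp(M/IM) of dimension ≤ 0. Then c! · length_A(M/I^t M)/t^c tends, as t → ∞, to Σ_i (−1)^i length_A Tor_i^A(A/I, M); that is, e_I(M, c) equals this alternating sum. -/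
theorem result (A : Type u) [CommRing A] [IsNoetherianRing A] [IsLocalRing A] (c : ℕ) (g : Fin c → A) (hreg : RingTheory.Sequence.IsRegular A (List.ofFn g)) (M : Type u) [AddCommGroup M] [Module A M] [Module.Finite A M] (h0 : Module.supportDim A (M ⧸ (Ideal.span (Set.range g) • (⊤ : Submodule A M))) ≤ 0) : Filter.Tendsto (fun t : ℕ => (c.factorial : ℝ) * ((Module.length A (M ⧸ (Ideal.span (Set.range g) ^ t • (⊤ : Submodule A M)))).toNat : ℝ) / (t : ℝ) ^ c) Filter.atTop (nhds (IntMult.chi A (A ⧸ Ideal.span (Set.range g)) M : ℝ)) := by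
  have hl : (List.ofFn g).length = c := List.length_ofFn
  have hset : (Set.range g) = {x | x ∈ List.ofFn g} := by
    ext x
    simp [List.mem_ofFn]
  have hart : IsArtinian A (M ⧸ (Ideal.span {x | x ∈ List.ofFn g} • ⊤ : Submodule A M)) := by
    rw [← hset]
    have h1 := Groth.Agent.CycA.FiniteLen.length_lt_top_of_supportDim_le_zero h0
    have h2 := h1.ne
    rw [Module.length_ne_top_iff, isFiniteLength_iff_isNoetherian_isArtinian] at h2
    exact h2.2
  have key := Groth.Agent.CycA.KoszulChi.tendsto_samuel_chi (List.ofFn g) hreg.toIsWeaklyRegular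
    M hart
  rw [hl, ← hset] at key
  exact key

end Groth.Agent.S1914
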