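import Groth.Statements.S1917
import Groth.Agent.CycA.ExtRat

set_option autoImplicit false
universe u
open CategoryTheory CategoryTheory.Limits AlgebraicGeometry
open IntMult

namespace Groth.Agent.S1917

open CategoryTheory AlgebraicGeometry Limits Groth.Agent.CycA.GenProd in
theorem extProd_apply {K : Type u} [Field K] [IsAlgClosed K] {X Y : Scheme.{u}}
    (f : X ⟶ Spec (CommRingCat.of K)) (g : Y ⟶ Spec (CommRingCat.of K))
    [LocallyOfFiniteType f] [LocallyOfFiniteType g] (δX : X → ℤ) (δY : Y → ℤ)
    (δ : ↥(pullback f g) → ℤ) (hX : Cyc.DeltaCompat f δX (fun _ => 0))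
    (hY : Cyc.DeltaCompat g δY (fun _ => 0))
    (hXY : Cyc.DeltaCompat (pullback.fst f g ≫ f) δ (fun _ => 0)) (α : X → ℤ) (β : Y → ℤ)
    (z : ↥(pullback f g)) :
    IntMult.extProd f g δX δY δ α β z =
      if δ z = δX (pullback.fst f g z) + δY (pullback.snd f g z) then
        α (pullback.fst f g z) * β (pullback.snd f g z) else 0 := by
  unfold IntMult.extProd
  split_ifs with h
  · have h1 := length_eq_one (IsPullback.of_hasPullback f g) hX hY hXY z h
    unfold ideal2 at h1
    rw [h1]
    simp
  · rfl

/-- Stacks Tag 0B0S: let X, Y be varieties over an algebraically closed field K (integral, separated, of finite type), α an r-cycle on X and β an s-cycle on Y. If α or β is rationally equivalent to zero then so is the exterior product α × β, an (r + s)-cycle on X ×_K Y (any cycle with the exterior-product coefficients). Dimension functions are transcendence degrees of residue fields over K. -/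
theorem result (K : Type u) [Field K] [IsAlgClosed K] (X Y : Scheme.{u}) (f : X ⟶ Spec (CommRingCat.of K)) (g : Y ⟶ Spec (CommRingCat.of K)) [IsIntegral X] [IsIntegral Y] [IsSeparated f] [IsSeparated g] [LocallyOfFiniteType f] [LocallyOfFiniteType g] [QuasiCompact f] [QuasiCompact g] (δX : X → ℤ) (δY : Y → ℤ) (δ : ↥(pullback f g) → ℤ) (hX : Cyc.DeltaCompat f δX (fun _ => 0)) (hY : Cyc.DeltaCompat g δY (fun _ => 0)) (hXY : Cyc.DeltaCompat (pullback.fst f g ≫ f) δ (fun _ => 0)) (r s : ℤ) (α : AlgebraicCycle X ℤ) (β : AlgebraicCycle Y ℤ) (hα : α ∈ Cyc.Zk X δX r) (hβ : β ∈ Cyc.Zk Y δY s) (h0 : Cyc.RatEquivZero δX r α ∨ Cyc.RatEquivZero δY s β) (γ : AlgebraicCycle (pullback f g) ℤ) (hγ : ⇑γ = IntMult.extProd f g δX δY δ ⇑α ⇑β) : Cyc.RatEquivZero δ (r + s) γ := by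
  have hval : ∀ z, γ z = if δ z = δX (pullback.fst f g z) + δY (pullback.snd f g z) then
      α (pullback.fst f g z) * β (pullback.snd f g z) else 0 := fun z => by
    rw [hγ]; exact extProd_apply f g δX δY δ hX hY hXY ⇑α ⇑β z
  have hcX : CompactSpace X := QuasiCompact.compactSpace_of_compactSpace f
  have hcY : CompactSpace Y := QuasiCompact.compactSpace_of_compactSpace g
  rcases h0 with h0 | h0
  · exact Groth.Agent.CycA.ExtRat.ratEquivZero_prod (IsPullback.of_hasPullback f g) hX hY hXY
      r s α hα h0 β hβ γ hval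
  · have hXY' : Cyc.DeltaCompat (pullback.snd f g ≫ g) δ (fun _ => 0) := by
      rw [← pullback.condition]; exact hXY
    have := Groth.Agent.CycA.ExtRat.ratEquivZero_prod (IsPullback.of_hasPullback f g).flip hY hX
      hXY' s r β hβ h0 α hα γ (fun z => by
        rw [hval z, add_comm (δY _), mul_comm (β _)])
    rw [add_comm] at this
    exact this

end Groth.Agent.S1917
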