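import Groth.Statements.S1918
import Groth.Agent.CycB.RatTransport
import Groth.Agent.CycB.OrdFrac
import Groth.Agent.CycB.DivFun

set_option autoImplicit false
universe u
open CategoryTheory AlgebraicGeometry
open CategoryTheory.Limits
open Cyc

namespace Groth.Agent.S1918

section Aux

open Groth.Agent.CycB.DivNat Groth.Agent.CycB.RatTransport

theorem finsum_split {ι : Type*} (p : ι → Prop) (F : ι → ℤ) (hF : (Function.support F).Finite) :
    ∑ᶠ i, F i = ∑ᶠ j : {i // p i}, F j + ∑ᶠ j : {i // ¬ p i}, F j := by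
  classical
  have e1 : ∑ᶠ j : {i // p i}, F j = ∑ᶠ (i) (_ : p i), F i := finsum_subtype_eq_finsum_cond p
  have e2 : ∑ᶠ j : {i // ¬ p i}, F j = ∑ᶠ (i) (_ : ¬ p i), F i :=
    finsum_subtype_eq_finsum_cond (fun i => ¬ p i)
  rw [e1, e2, ← finsum_add_distrib]
  · refine finsum_congr fun i => ?_
    by_cases hi : p i <;> simp [hi]
  · refine hF.subset fun i hi => ?_
    rw [Function.mem_support] at hi ⊢
    intro h0; apply hi; rw [h0]; simp
  · refine hF.subset fun i hi => ?_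
    rw [Function.mem_support] at hi ⊢
    intro h0; apply hi; rw [h0]; simp

theorem ratEquivZero_neg {Z : Scheme.{u}} {δ : Z → ℤ} (k : ℤ) (α : AlgebraicCycle Z ℤ)
    (h : Cyc.RatEquivZero δ k α) : Cyc.RatEquivZero δ k (-α) := by
  obtain ⟨ι, ξ, f, hξ, hf, hlf, hα⟩ := h
  refine ⟨ι, ξ, fun j => (f j)⁻¹, hξ, fun j => inv_ne_zero (hf j), hlf, fun x => ?_⟩
  change -(α x) = _
  rw [hα, ← finsum_neg_distrib]
  refine finsum_congr fun j => ?_
  rw [Groth.Agent.CycB.OrdFrac.divFun_inv]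
  rfl

/-- A family of divisors on a closed subscheme as a rational equivalence there. -/
theorem exists_family {Z X : Scheme.{u}} (i : Z ⟶ X) [IsClosedImmersion i] (δ : X → ℤ) (k : ℤ)
    {ι : Type u} (ξ : ι → X) (f : ∀ j, X.residueField (ξ j)) (hξ : ∀ j, δ (ξ j) = k + 1)
    (hf : ∀ j, f j ≠ 0) (hlf : LocFin ξ) (hr : ∀ j, ξ j ∈ Set.range ⇑i)
    (S : AlgebraicCycle X ℤ) (hS : ∀ x, S x = ∑ᶠ j, Cyc.divFun δ (ξ j) (f j) x) :
    Cyc.RatEquivZero (fun z => δ (i z)) k (comapCycle i i.isEmbedding.injective S) ∧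
      ∀ x, x ∉ Set.range ⇑i → S x = 0 := by
  choose ζ g hζ hg hd using fun j : ι => exists_lift i δ (ξ j) (hr j) (f j) (hf j)
  refine ⟨⟨ι, ζ, g, fun j => by simp only [hζ j, hξ], hg, LocFin.lift i hlf hζ, fun z => ?_⟩, ?_⟩
  · rw [comapCycle_apply, hS]
    exact finsum_congr fun j => (hd j z).symm
  · intro x hx
    rw [hS]
    refine finsum_eq_zero_of_forall_eq_zero fun j => ?_
    unfold Cyc.divFun
    rw [dif_neg]
    rintro ⟨h, -⟩
    exact hx (h.mem_closed i.isClosedEmbedding.isClosed_range (hr j))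

end Aux

/-- Stacks Tag 0F94 (exactness in the middle): let i₁ : X₁ → X, i₂ : X₂ → X be closed immersions covering X set-theoretically and X₁₂ = X₁ ×_X X₂ their scheme-theoretic intersection. If k-cycles α₁ on X₁ and α₂ on X₂ have rationally equivalent pushforwards on X, then there is a k-cycle β on X₁₂ with α₁ ∼_rat (pr₁)_*β on X₁ and α₂ ∼_rat (pr₂)_*β on X₂. (Surjectivity of CH_k(X₁) ⊕ CH_k(X₂) → CH_k(X) is not restated.) Here a pair (X, δ) with Cyc.IsSetup plays the role of a scheme locally of finite type over the base (S, δ) of the source (X locally Noetherian with universally catenary local rings, δ a dimension function), and Cyc.DeltaCompat records that the dimension function upstairs is the induced one. -/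
theorem result (X : Scheme.{u}) (δ : X → ℤ) (hX : Cyc.IsSetup X δ) (X₁ X₂ : Scheme.{u}) (i₁ : X₁ ⟶ X) (i₂ : X₂ ⟶ X) [IsClosedImmersion i₁] [IsClosedImmersion i₂] (hcov : Set.range ⇑i₁ ∪ Set.range ⇑i₂ = Set.univ) (k : ℤ) (α₁ : AlgebraicCycle X₁ ℤ) (α₂ : AlgebraicCycle X₂ ℤ) (h₁ : α₁ ∈ Cyc.Zk X₁ (fun x => δ (i₁ x)) k) (h₂ : α₂ ∈ Cyc.Zk X₂ (fun x => δ (i₂ x)) k) (h : Cyc.RatEquiv δ k (AlgebraicCycle.map i₁ (fun x => δ (i₁ x)) δ α₁) (AlgebraicCycle.map i₂ (fun x => δ (i₂ x)) δ α₂)) : ∃ β : AlgebraicCycle (pullback i₁ i₂) ℤ, β ∈ Cyc.Zk (pullback i₁ i₂) (fun z => δ (i₁ (pullback.fst i₁ i₂ z))) k ∧ Cyc.RatEquiv (fun x => δ (i₁ x)) k α₁ (AlgebraicCycle.map (pullback.fst i₁ i₂) (fun z => δ (i₁ (pullback.fst i₁ i₂ z))) (fun x => δ (i₁ x)) β) ∧ Cyc.RatEquiv (fun x => δ (i₂ x)) k α₂ (AlgebraicCycle.map (pullback.snd i₁ i₂) (fun z => δ (i₁ (pullback.fst i₁ i₂ z))) (fun x => δ (i₂ x)) β) := by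
  classical
  obtain ⟨ι, ξ, f, hξ, hf, hlf, hsum⟩ := h
  -- split the family
  have := hX.1
  have hlfA : Groth.Agent.CycB.RatTransport.LocFin
      (fun j : {j : ι // ξ j ∈ Set.range ⇑i₁} => ξ j.1) :=
    Groth.Agent.CycB.RatTransport.LocFin.comp hlf Subtype.val Subtype.val_injective
  have hlfB : Groth.Agent.CycB.RatTransport.LocFin
      (fun j : {j : ι // ξ j ∉ Set.range ⇑i₁} => ξ j.1) :=
    Groth.Agent.CycB.RatTransport.LocFin.comp hlf Subtype.val Subtype.val_injective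
  obtain ⟨SA, hSA⟩ := Groth.Agent.CycB.DivFun.exists_cycle_sum_divFun hX.2.2 ((Groth.Agent.CycB.DivFun.locFin_iff _).2 hlfA)
    (fun j => f j.1)
  obtain ⟨SB, hSB⟩ := Groth.Agent.CycB.DivFun.exists_cycle_sum_divFun hX.2.2 ((Groth.Agent.CycB.DivFun.locFin_iff _).2 hlfB)
    (fun j => f j.1)
  obtain ⟨hA, hA0⟩ := exists_family i₁ δ k (fun j : {j : ι // ξ j ∈ Set.range ⇑i₁} => ξ j.1)
    (fun j => f j.1) (fun j => hξ j.1) (fun j => hf j.1) hlfA (fun j => j.2) SA hSA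
  obtain ⟨hB, hB0⟩ := exists_family i₂ δ k (fun j : {j : ι // ξ j ∉ Set.range ⇑i₁} => ξ j.1)
    (fun j => f j.1) (fun j => hξ j.1) (fun j => hf j.1) hlfB (fun j => by
      have := hcov.ge (Set.mem_univ (ξ j.1))
      exact this.resolve_left j.2) SB hSB
  set S₁ := Groth.Agent.CycB.RatTransport.comapCycle i₁ i₁.isEmbedding.injective SA with hS₁
  set S₂ := Groth.Agent.CycB.RatTransport.comapCycle i₂ i₂.isEmbedding.injective SB with hS₂
  -- pointwise values of pushforwards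
  have hsplit : ∀ x, SA x + SB x =
      AlgebraicCycle.map i₁ (fun x => δ (i₁ x)) δ α₁ x - AlgebraicCycle.map i₂ (fun x => δ (i₂ x)) δ α₂ x := by
    intro x
    have h3 := hsum x
    rw [finsum_split (fun j => ξ j ∈ Set.range ⇑i₁) _
      (Groth.Agent.CycB.DivFun.finite_support_divFun ((Groth.Agent.CycB.DivFun.locFin_iff _).2 hlf) f x), ← hSA, ← hSB] at h3
    exact h3.symm
  have hinj₁ := i₁.isEmbedding.injective
  have hinj₂ := i₂.isEmbedding.injective
  have hm₁ : ∀ (c : AlgebraicCycle X₁ ℤ) z, AlgebraicCycle.map i₁ (fun x => δ (i₁ x)) δ c (i₁ z) = c z :=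
    fun c z => Groth.Agent.CycB.DivNat.map_apply_of_isPreimmersion i₁ _ _ _ _ rfl
  have hm₂ : ∀ (c : AlgebraicCycle X₂ ℤ) z, AlgebraicCycle.map i₂ (fun x => δ (i₂ x)) δ c (i₂ z) = c z :=
    fun c z => Groth.Agent.CycB.DivNat.map_apply_of_isPreimmersion i₂ _ _ _ _ rfl
  have hcond : ∀ z : ↥(pullback i₁ i₂), i₁ (pullback.fst i₁ i₂ z) = i₂ (pullback.snd i₁ i₂ z) := by
    intro z
    rw [← Scheme.Hom.comp_apply, ← Scheme.Hom.comp_apply, pullback.condition]
  -- the cycle on the intersection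
  let β : AlgebraicCycle (pullback i₁ i₂) ℤ :=
    Groth.Agent.CycB.RatTransport.comapCycle (pullback.fst i₁ i₂)
      (pullback.fst i₁ i₂).isEmbedding.injective (α₁ - S₁)
  have hβ : ∀ z, β z = α₁ (pullback.fst i₁ i₂ z) - SA (i₁ (pullback.fst i₁ i₂ z)) := fun z => rfl
  have hβ' : ∀ z, β z = α₂ (pullback.snd i₁ i₂ z) + SB (i₂ (pullback.snd i₁ i₂ z)) := by
    intro z
    have h4 := hsplit (i₁ (pullback.fst i₁ i₂ z))
    rw [hm₁, hcond z, hm₂, ← hcond z] at h4
    rw [hβ, ← hcond z]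
    linarith
  refine ⟨β, ?_, ?_, ?_⟩
  · intro z hz
    have h5 : SA (i₁ (pullback.fst i₁ i₂ z)) = 0 := by
      rw [hSA]
      exact finsum_eq_zero_of_forall_eq_zero fun j =>
        Groth.Agent.CycB.RatTransport.divFun_eq_zero_of_ne δ k _ _ (hξ j.1) _ hz
    rw [hβ, h5, h₁ _ hz, sub_zero]
  · have h6 : α₁ - AlgebraicCycle.map (pullback.fst i₁ i₂) (fun z => δ (i₁ (pullback.fst i₁ i₂ z))) (fun x => δ (i₁ x)) β = S₁ := by
      ext x
      change α₁ x - _ = SA (i₁ x)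
      by_cases hx : x ∈ Set.range ⇑(pullback.fst i₁ i₂)
      · obtain ⟨z, rfl⟩ := hx
        rw [Groth.Agent.CycB.DivNat.map_apply_of_isPreimmersion (pullback.fst i₁ i₂) _ _ _ _ rfl, hβ]
        ring
      · rw [Groth.Agent.CycB.DivNat.map_apply_notMem_range (pullback.fst i₁ i₂) _ _ _ _ hx, sub_zero]
        have hx2 : i₁ x ∉ Set.range ⇑i₂ := by
          rintro ⟨y, hy⟩
          apply hx
          obtain ⟨z, hz, -⟩ := Scheme.Pullback.exists_preimage_pullback x y hy.symm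
          exact ⟨z, hz⟩
        have h7 := hsplit (i₁ x)
        rw [hm₁, Groth.Agent.CycB.DivNat.map_apply_notMem_range i₂ _ _ _ _ hx2, hB0 _ hx2] at h7
        linarith
    unfold Cyc.RatEquiv
    rw [h6]
    exact hA
  · have h6 : α₂ - AlgebraicCycle.map (pullback.snd i₁ i₂) (fun z => δ (i₁ (pullback.fst i₁ i₂ z))) (fun x => δ (i₂ x)) β = -S₂ := by
      ext x
      change α₂ x - _ = -(SB (i₂ x))
      by_cases hx : x ∈ Set.range ⇑(pullback.snd i₁ i₂)
      · obtain ⟨z, rfl⟩ := hx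
        rw [Groth.Agent.CycB.DivNat.map_apply_of_isPreimmersion (pullback.snd i₁ i₂) _ _ _ _
          (by simp only [hcond z]), hβ']
        ring
      · rw [Groth.Agent.CycB.DivNat.map_apply_notMem_range (pullback.snd i₁ i₂) _ _ _ _ hx, sub_zero]
        have hx2 : i₂ x ∉ Set.range ⇑i₁ := by
          rintro ⟨y, hy⟩
          apply hx
          obtain ⟨z, -, hz⟩ := Scheme.Pullback.exists_preimage_pullback y x hy
          exact ⟨z, hz⟩
        have h7 := hsplit (i₂ x)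
        rw [hm₂, Groth.Agent.CycB.DivNat.map_apply_notMem_range i₁ _ _ _ _ hx2, hA0 _ hx2] at h7
        linarith
    unfold Cyc.RatEquiv
    rw [h6]
    exact ratEquivZero_neg k S₂ hB

end Groth.Agent.S1918
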