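import Groth.Statements.S1919
import Groth.Agent.S1875
import Groth.Agent.CycB.RelDim
import Groth.Agent.CycB.FiberStalk
import Groth.Agent.Ega43.DvrScheme
import Mathlib.AlgebraicGeometry.Morphisms.UniversallyInjective
import Mathlib.FieldTheory.IntermediateField.Adjoin.Algebra
import Mathlib.RingTheory.AlgebraicIndependent.Transcendental

set_option autoImplicit false
universe u
open CategoryTheory AlgebraicGeometry
open CategoryTheory.Limits
open RelCyc

namespace Groth.Agent.S1919

open Groth.Agent.CycB TensorProduct

section perf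

variable (k : Type u) [Field k] (p : ℕ) [Fact p.Prime] [CharP k p]

/-- the morphism from the spectrum of the perfect closure -/
noncomputable abbrev g : Spec (CommRingCat.of (PerfectClosure k p)) ⟶ Spec (CommRingCat.of k) :=
  Spec.map (CommRingCat.ofHom (PerfectClosure.of k p))

theorem hom_eq_of_comp_eq {K : Type u} [Field K] (φ ψ : PerfectClosure k p →+* K)
    (h : φ.comp (PerfectClosure.of k p) = ψ.comp (PerfectClosure.of k p)) : φ = ψ := by
  ext x
  have : CharP K p := charP_of_injective_ringHom φ.injective p
  induction x using PerfectClosure.induction_on with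
  | h x =>
    obtain ⟨n, a⟩ := x
    have h1 := PerfectClosure.iterate_frobenius_mk (K := k) (p := p) n a
    have h2 := congrArg φ h1
    have h3 := congrArg ψ h1
    have h4 : φ (PerfectClosure.of k p a) = ψ (PerfectClosure.of k p a) := RingHom.congr_fun h a
    rw [RingHom.map_iterate_frobenius] at h2 h3
    rw [← h4, ← h2] at h3
    exact (Function.Injective.iterate (frobenius_inj K p) n h3).symm

instance universallyInjective_g : UniversallyInjective (g k p) := by
  refine ((tfae_universallyInjective (g k p)).out 0 1).mpr ?_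
  intro K _ a b hab
  obtain ⟨φ, rfl⟩ := Spec.map_surjective a
  obtain ⟨ψ, rfl⟩ := Spec.map_surjective b
  congr 1
  ext1
  refine hom_eq_of_comp_eq k p φ.hom ψ.hom ?_
  simp only [← Spec.map_comp] at hab
  have := Spec.map_injective hab
  exact congrArg CommRingCat.Hom.hom this

instance surjective_g : Surjective (g k p) := by
  constructor
  intro y
  have : Nonempty (PrimeSpectrum (PerfectClosure k p)) := inferInstance
  obtain ⟨x⟩ := this
  exact ⟨x, Subsingleton.elim (α := PrimeSpectrum k) _ _⟩

end perf

theorem rtd_eq_zero {X Y : Scheme.{u}} (h : X ⟶ Y) [UniversallyInjective h] (x : X) :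
    RelDim.rtd h x = 0 := by
  have h0 : UniversallyInjective h ↔
      (Function.Injective h ∧ ∀ x, (h.residueFieldMap x).hom.IsPurelyInseparable) :=
    (tfae_universallyInjective h).out 0 2
  have h1 := (h0.mp inferInstance).2 x
  let _ := (h.residueFieldMap x).hom.toAlgebra
  have h2 : IsPurelyInseparable (Y.residueField (h x)) (X.residueField x) := h1
  have h3 : Algebra.IsAlgebraic (Y.residueField (h x)) (X.residueField x) := inferInstance
  exact trdeg_eq_zero (R := Y.residueField (h x)) (A := X.residueField x)

theorem isIso_fromSpecResidueField (k : Type u) [Field k] (y : Spec (CommRingCat.of k)) :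
    IsIso ((Spec (CommRingCat.of k)).fromSpecResidueField y) := by
  have hs : Subsingleton (Spec (CommRingCat.of k)) :=
    inferInstanceAs (Subsingleton (PrimeSpectrum k))
  have h1 : IsClosedImmersion ((Spec (CommRingCat.of k)).fromSpecResidueField y) := by
    rw [← isClosed_singleton_iff_isClosedImmersion]
    have : ({y} : Set (Spec (CommRingCat.of k))) = Set.univ :=
      Set.eq_univ_of_forall fun z => Subsingleton.elim _ _
    rw [this]
    exact isClosed_univ
  have h2 : Surjective ((Spec (CommRingCat.of k)).fromSpecResidueField y) := by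
    constructor
    intro z
    exact ⟨IsLocalRing.closedPoint _, Subsingleton.elim _ _⟩
  have h3 : IsReduced (Spec (CommRingCat.of k)) := inferInstance
  exact isIso_of_isClosedImmersion_of_surjective _

theorem essFiniteType_of_fromSpec {k : Type u} [Field k] {X : Scheme.{u}}
    (f : X ⟶ Spec (CommRingCat.of k)) [LocallyOfFiniteType f] (x : X)
    (φ : CommRingCat.of k ⟶ X.residueField x) (hφ : X.fromSpecResidueField x ≫ f = Spec.map φ) :
    φ.hom.EssFiniteType := by
  have h1 := Ega43.DvrScheme.essFiniteType_residueFieldMap f x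
  have h2 := Scheme.Hom.SpecMap_residueFieldMap_fromSpecResidueField f x
  obtain ⟨ψ, hψ⟩ := Spec.map_surjective ((Spec (CommRingCat.of k)).fromSpecResidueField (f x))
  have h3 : IsIso (Spec.map ψ) := hψ ▸ isIso_fromSpecResidueField k (f x)
  have h4 : IsIso ψ := by
    have h5 : IsIso (Scheme.Spec.map ψ.op) := h3
    have h6 : IsIso ψ.op := isIso_of_reflects_iso ψ.op Scheme.Spec
    exact (isIso_op_iff ψ).mp h6
  rw [hφ, ← hψ, ← Spec.map_comp] at h2
  have h5 := Spec.map_injective h2
  rw [← h5]
  have h6 : ψ.hom.EssFiniteType := by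
    let _ := ψ.hom.toAlgebra
    have : Function.Surjective ψ.hom := (ConcreteCategory.bijective_of_isIso ψ).2
    exact RingHom.FiniteType.essFiniteType (RingHom.FiniteType.of_surjective _ this)
  exact RingHom.EssFiniteType.comp h6 h1

/-- Stalks of a scheme isomorphic to the spectrum of a ring all of whose prime ideals are equal. -/
theorem length_stalk_of_iso {Z : Scheme.{u}} {R : Type u} [CommRing R]
    (e : Z ≅ Spec (CommRingCat.of R)) [Subsingleton Z] (z : Z) (P : ℕ∞ → Prop)
    (hP : ∀ (q : Ideal R) [q.IsPrime], q ∈ minimalPrimes R →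
      P (Module.length (Localization.AtPrime q) (Localization.AtPrime q))) :
    P (Module.length (Z.presheaf.stalk z) (Z.presheaf.stalk z)) := by
  let y : Spec (CommRingCat.of R) := e.hom z
  let q : Ideal R := PrimeSpectrum.asIdeal y
  have hsub : Subsingleton (PrimeSpectrum R) := by
    constructor
    intro a b
    have h1 : (e.inv a : Z) = e.inv b := Subsingleton.elim _ _
    have h2 := congrArg (fun t => e.hom t) h1
    have h3 : (e.inv ≫ e.hom) a = (e.inv ≫ e.hom) b := h2
    rwa [e.inv_hom_id] at h3
  have hq : q ∈ minimalPrimes R := by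
    obtain ⟨q₀, hq₀, hle⟩ := Ideal.exists_minimalPrimes_le (bot_le : (⊥ : Ideal R) ≤ q)
    have h3 : (⟨q₀, hq₀.1.1⟩ : PrimeSpectrum R) = y := Subsingleton.elim _ _
    have h4 : q₀ = q := congrArg PrimeSpectrum.asIdeal h3
    exact h4 ▸ hq₀
  have h5 := hP q hq
  let e1 : (Spec (CommRingCat.of R)).presheaf.stalk y ≃+* Localization.AtPrime q :=
    (StructureSheaf.stalkIso R y).symm.toRingEquiv
  let e2 : (Spec (CommRingCat.of R)).presheaf.stalk y ≃+* Z.presheaf.stalk z :=
    (asIso (e.hom.stalkMap z)).commRingCatIsoToRingEquiv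
  rwa [← Groth.Agent.CycA.LenPow.length_self_of_ringEquiv (e2.symm.trans e1)] at h5

theorem length_fiber (k : Type u) [Field k] (p : ℕ) [Fact p.Prime] [CharP k p] {X : Scheme.{u}}
    (f : X ⟶ Spec (CommRingCat.of k)) [LocallyOfFiniteType f]
    (x : ↥(pullback f (g k p))) : ∃ n : ℕ,
      Module.length ((pullback f (g k p)).presheaf.stalk x)
        ((pullback f (g k p)).presheaf.stalk x ⧸
          FiberStalk.fibIdeal (pullback.fst f (g k p)) x) = (p ^ n : ℕ) := by
  rw [FiberStalk.length_stalk_asFiber]
  set x₀ : X := pullback.fst f (g k p) x with hx₀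
  obtain ⟨φ, hφ⟩ := Spec.map_surjective (X.fromSpecResidueField x₀ ≫ f)
  have hfg := essFiniteType_of_fromSpec f x₀ φ hφ.symm
  let _ : Algebra k (X.residueField x₀) := φ.hom.toAlgebra
  let _ : Algebra k (PerfectClosure k p) := (PerfectClosure.of k p).toAlgebra
  have hess : Algebra.EssFiniteType k (X.residueField x₀) := hfg
  have hL : (⊤ : IntermediateField k (X.residueField x₀)).FG := IntermediateField.fg_top _ _
  let e : (pullback.fst f (g k p)).fiber x₀ ≅
      Spec (CommRingCat.of (PerfectClosure k p ⊗[k] X.residueField x₀)) :=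
    pullbackSymmetry _ _ ≪≫ pullbackRightPullbackFstIso f (g k p) (X.fromSpecResidueField x₀) ≪≫
      pullback.congrHom hφ.symm rfl ≪≫ pullbackSymmetry _ _ ≪≫
      pullbackSpecIso k (PerfectClosure k p) (X.residueField x₀)
  have hsub : Subsingleton ((pullback.fst f (g k p)).fiber x₀) := by
    have h1 : UniversallyInjective (pullback.fst f (g k p)) :=
      MorphismProperty.pullback_fst _ _ (universallyInjective_g k p)
    have h2 : UniversallyInjective ((pullback.fst f (g k p)).fiberToSpecResidueField x₀) :=
      MorphismProperty.pullback_snd _ _ h1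
    have h3 : Subsingleton (Spec (X.residueField x₀)) :=
      inferInstanceAs (Subsingleton (PrimeSpectrum (X.residueField x₀)))
    exact ((pullback.fst f (g k p)).fiberToSpecResidueField x₀).injective.subsingleton
  have : ExpChar k p := ExpChar.prime Fact.out
  exact length_stalk_of_iso e _ (fun l => ∃ n : ℕ, l = (p ^ n : ℕ)) fun q hq hqm =>
    S1875.result k (PerfectClosure k p) (X.residueField x₀) hL p q hqm

/-- Stacks Tag 0H4G: for a scheme X of finite type over a field k of characteristic p > 0, with base change X' = X ×_k k' to the perfect closure k', the base change map Z_r(X) → Z_r(X') (flat pullback along the projection) has p-power torsion cokernel: for every r-cycle β on X' some p^n β is the base change of an r-cycle on X. Dimension functions are transcendence degrees of residue fields over the ground fields. -/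
theorem result (k : Type u) [Field k] (p : ℕ) [Fact p.Prime] [CharP k p] (X : Scheme.{u}) (f : X ⟶ Spec (CommRingCat.of k)) [LocallyOfFiniteType f] [QuasiCompact f] (δ : X → ℤ) (hδ : Cyc.DeltaCompat f δ (fun _ => 0)) (δ' : ↥(pullback f (Spec.map (CommRingCat.ofHom (PerfectClosure.of k p)))) → ℤ) (hδ' : Cyc.DeltaCompat (pullback.snd f (Spec.map (CommRingCat.ofHom (PerfectClosure.of k p)))) δ' (fun _ => 0)) (r : ℤ) (β : AlgebraicCycle (pullback f (Spec.map (CommRingCat.ofHom (PerfectClosure.of k p)))) ℤ) (hβ : β ∈ Cyc.Zk _ δ' r) : ∃ (n : ℕ) (α : AlgebraicCycle X ℤ), α ∈ Cyc.Zk X δ r ∧ (p : ℤ) ^ n • ⇑β = Cyc.pullFun (pullback.fst f (Spec.map (CommRingCat.ofHom (PerfectClosure.of k p)))) δ' δ 0 ⇑α := by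
  classical
  have hui : UniversallyInjective (pullback.fst f (g k p)) :=
    MorphismProperty.pullback_fst _ _ (universallyInjective_g k p)
  have hsj : Surjective (pullback.fst f (g k p)) :=
    MorphismProperty.pullback_fst _ _ (surjective_g k p)
  have hinj : Function.Injective (pullback.fst f (g k p)) := (pullback.fst f (g k p)).injective
  have hsurj : Function.Surjective (pullback.fst f (g k p)) := hsj.surj
  have hδeq : ∀ x' : ↥(pullback f (g k p)), δ' x' = δ (pullback.fst f (g k p) x') := by
    intro x'
    obtain ⟨n, hn, hn'⟩ := hδ (pullback.fst f (g k p) x')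
    obtain ⟨n', h1, h1'⟩ := hδ' x'
    have h2 : RelDim.rtd (pullback.fst f (g k p) ≫ f) x' =
      RelDim.rtd (pullback.snd f (g k p) ≫ g k p) x' := by rw [pullback.condition]
    rw [RelDim.rtd_comp, RelDim.rtd_comp, rtd_eq_zero (pullback.fst f (g k p)),
      rtd_eq_zero (g k p), add_zero, zero_add] at h2
    have h3 : RelDim.rtd f (pullback.fst f (g k p) x') = n := hn
    have h4 : RelDim.rtd (pullback.snd f (g k p)) x' = n' := h1
    rw [h3, h4] at h2
    have h5 : n = n' := Nat.cast_injective h2
    rw [hn', h1', h5]
  choose N hN using length_fiber k p f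
  have hcomp : CompactSpace ↥(pullback f (g k p)) := by
    have h1 : QuasiCompact (pullback.snd f (g k p)) := inferInstance
    exact QuasiCompact.compactSpace_of_compactSpace (pullback.snd f (g k p))
  have hfin : (Function.support β).Finite := by
    have h := β.locallyFiniteSupport.finite_inter_support_of_isCompact isCompact_univ
    rwa [Set.univ_inter] at h
  obtain ⟨n, hn⟩ : ∃ n, ∀ x' ∈ Function.support β, N x' ≤ n := by
    obtain ⟨n, hn⟩ := (hfin.image N).bddAbove
    exact ⟨n, fun x' hx' => hn ⟨x', hx', rfl⟩⟩
  let e : ↥(pullback f (g k p)) ≃ X := Equiv.ofBijective _ ⟨hinj, hsurj⟩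
  have he : ∀ x', e x' = pullback.fst f (g k p) x' := fun x' => rfl
  let a : X → ℤ := fun x => (p : ℤ) ^ (n - N (e.symm x)) * β (e.symm x)
  have hae : ∀ x', a (pullback.fst f (g k p) x') = (p : ℤ) ^ (n - N x') * β x' := by
    intro x'
    simp only [a]
    rw [← he, Equiv.symm_apply_apply]
  have hsupp : (Function.support a).Finite := by
    refine (hfin.image e).subset ?_
    intro x hx
    refine ⟨e.symm x, ?_, by simp⟩
    intro h0
    apply hx
    simp only [a, h0, mul_zero]
  refine ⟨n, ⟨a, Set.subset_univ _, fun z _ => ⟨Set.univ, Filter.univ_mem, ?_⟩⟩, ?_, ?_⟩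
  · rwa [Set.univ_inter]
  · intro x hx
    change a x = 0
    obtain ⟨x', rfl⟩ := hsurj x
    rw [hae, hβ x', mul_zero]
    rwa [hδeq]
  · funext x'
    change (p : ℤ) ^ n • β x' = _
    simp only [Cyc.pullFun]
    rw [if_pos (by rw [add_zero]; exact hδeq x')]
    have h1 := hN x'
    have h2 : (Module.length ((pullback f (g k p)).presheaf.stalk x')
        ((pullback f (g k p)).presheaf.stalk x' ⧸ Ideal.map ((pullback.fst f (g k p)).stalkMap x').hom
        (IsLocalRing.maximalIdeal (X.presheaf.stalk ((pullback.fst f (g k p)) x'))))).toNat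
          = p ^ N x' := by
      have h3 : Module.length ((pullback f (g k p)).presheaf.stalk x')
        ((pullback f (g k p)).presheaf.stalk x' ⧸ Ideal.map ((pullback.fst f (g k p)).stalkMap x').hom
        (IsLocalRing.maximalIdeal (X.presheaf.stalk ((pullback.fst f (g k p)) x')))) =
          (p ^ N x' : ℕ) := h1
      rw [h3]
      rfl
    change _ = a (pullback.fst f (g k p) x') * _
    rw [hae]
    erw [h2]
    rw [smul_eq_mul]
    by_cases h0 : β x' = 0
    · rw [h0, mul_zero, mul_zero, zero_mul]
    · have h4 : n = (n - N x') + N x' := (Nat.sub_add_cancel (hn x' h0)).symm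
      conv_lhs => rw [h4, pow_add]
      push_cast
      ring

end Groth.Agent.S1919
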