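import Groth.Statements.S1922
import Groth.Agent.CycB.CapComm
-- import your own Groth.Agent.* helpers here

set_option autoImplicit false
universe u
open CategoryTheory AlgebraicGeometry
open Cyc

namespace Groth.Agent.S1922

/-- Stacks Tag 02TJ: let L, N be invertible O_X-modules and α a (k + 2)-cycle on X. Then c_1(L) ∩ (c_1(N) ∩ α) ∼_rat c_1(N) ∩ (c_1(L) ∩ α) as k-cycles, for any nonzero rational sections used in the computations. Here L(ξ) = L_ξ/𝔪_ξ L_ξ is the space of rational sections of L on the closure of ξ, div_{L|W}(s) and c_1(L) ∩ α are computed as coefficient functions from chosen nonzero rational sections (Cyc.secDivFun, Cyc.c1CapFun), and results are compared up to rational equivalence for any cycles with those coefficients. Here a pair (X, δ) with Cyc.IsSetup plays the role of a scheme locally of finite type over the base (S, δ) of the source (X locally Noetherian with universally catenary local rings, δ a dimension function), and Cyc.DeltaCompat records that the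 dimension function upstairs is the induced one. -/
theorem result (X : Scheme.{u}) (δ : X → ℤ) (hX : Cyc.IsSetup X δ) (L N : X.Modules) (hL : PicF.IsInvertible L) (hN : PicF.IsInvertible N) (k : ℤ) (α : AlgebraicCycle X ℤ) (hα : α ∈ Cyc.Zk X δ (k + 2)) (sL sL' : (ξ : X) → Cyc.secFibre L ξ) (sN sN' : (ξ : X) → Cyc.secFibre N ξ) (hsL : ∀ ξ, sL ξ ≠ 0) (hsL' : ∀ ξ, sL' ξ ≠ 0) (hsN : ∀ ξ, sN ξ ≠ 0) (hsN' : ∀ ξ, sN' ξ ≠ 0) (γ₁ γ₂ : AlgebraicCycle X ℤ) (h₁ : ⇑γ₁ = Cyc.c1CapFun δ L (Cyc.c1CapFun δ N ⇑α sN) sL) (h₂ : ⇑γ₂ = Cyc.c1CapFun δ N (Cyc.c1CapFun δ L ⇑α sL') sN') : Cyc.RatEquiv δ k γ₁ γ₂ := by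
  have := hX.1
  have hδ := hX.2.2
  obtain ⟨ι, ξ, ζ, h, f, h1, h2, h3, h4, -, -, h5⟩ :=
    Groth.Agent.CycB.CapComm.exists_family hδ hL hN α hsL hsL' hsN hsN'
  refine Groth.Agent.CycB.DivFun.ratEquivZero_of ζ f (fun i => ?_) h3 h4 _ fun x => ?_
  · have h6 : δ (ξ i) = k + 2 := by
      by_contra hcon
      exact h1 i (hα (ξ i) hcon)
    have := h2 i
    omega
  · rw [← h5 x, Function.locallyFinsuppWithin.coe_sub, Pi.sub_apply, h₁, h₂]

end Groth.Agent.S1922
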