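import Groth.Statements.S1923
import Groth.Agent.CycB.C1Basic
import Groth.Agent.CycB.LocQuot
import Groth.Agent.CycB.DivNat
import Mathlib.AlgebraicGeometry.FunctionField

set_option autoImplicit false
universe u
open CategoryTheory AlgebraicGeometry
open Cyc

namespace Groth.Agent.S1923

open Groth.Agent.CycB.ModStalk Groth.Agent.CycB.C1Basic Groth.Agent.CycB.LocQuot

theorem ord_quot_eq {A : Type u} [CommRing A] (I : Ideal A) (hI : I = ⊥) (f : A) :
    Ring.ord (A ⧸ I) (Ideal.Quotient.mk I f) = Module.length A (A ⧸ Ideal.span {f}) := by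
  subst hI
  exact Groth.Agent.CycB.DivNat.ord_map_ringEquiv (RingEquiv.quotientBot A).symm f

theorem ker_specMap_generic (X : Scheme.{u}) [IsIntegral X] (x : X) (hx : genericPoint X ⤳ x) :
    RingHom.ker (specMap x (genericPoint X) hx) = ⊥ := by
  have : (⊥ : Ideal (X.presheaf.stalk x)).IsPrime := Ideal.isPrime_bot
  obtain ⟨z, hz, h⟩ := exists_eq_ker (⊥ : Ideal (X.presheaf.stalk x))
  rw [eq_bot_iff, h, ker_le_iff hx hz]
  exact genericPoint_specializes z

/-- Stacks Tag 02SK (first equality): let X be integral with δ(η) = n, L an invertible O_X-module and s a global section of L whose germ at η is nonzero. Then div_L(s) = [Z(s)]_{n−1} as (n − 1)-cycles, where s is viewed as a rational section through its image in L(η). Here L(ξ) = L_ξ/𝔪_ξ L_ξ is the space of rational sections of L on the closure of ξ, div_{L|W}(s) and c_1(L) ∩ α are computed as coefficient functions from chosen nonzero rational sections (Cyc.secDivFun, Cyc.c1CapFun), and results are compared up to rational equivalence for any cycles with those coefficients. Here a pair (X, δ) with Cyc.IsSetup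 plays the role of a scheme locally of finite type over the base (S, δ) of the source (X locally Noetherian with universally catenary local rings, δ a dimension function), and Cyc.DeltaCompat records that the dimension function upstairs is the induced one. -/
theorem result (X : Scheme.{u}) [IsIntegral X] (δ : X → ℤ) (hX : Cyc.IsSetup X δ) (n : ℤ) (hn : δ (genericPoint X) = n) (L : X.Modules) (hL : PicF.IsInvertible L) (s : L.presheaf.obj (Opposite.op ⊤)) (hs : (L.presheaf.germ ⊤ (genericPoint X) trivial) s ≠ 0) : Cyc.secDivFun δ L (genericPoint X) (Submodule.Quotient.mk ((L.presheaf.germ ⊤ (genericPoint X) trivial) s)) = Cyc.zeroSectionFun δ (n - 1) L s := by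
  have := hX.1
  funext x
  have hx : genericPoint X ⤳ x := genericPoint_specializes x
  by_cases hδ : δ x = n - 1
  swap
  · simp only [secDivFun, zeroSectionFun]
    rw [dif_neg (fun h => hδ (by have := h.2; omega)), if_neg hδ]
  have hδ' : δ x + 1 = δ (genericPoint X) := by omega
  simp only [secDivFun, zeroSectionFun]
  rw [dif_pos ⟨hx, hδ'⟩, if_pos hδ]
  obtain ⟨t, ht⟩ := exists_isGen hL x
  have h1 : ∃ t : L.presheaf.stalk x, Submodule.span (X.presheaf.stalk x) {t} = ⊤ :=
    ⟨t, ht.span_eq_top⟩
  have ht₀ : IsGen L x (Classical.choose h1) := isGen_of_span_eq_top hL (Classical.choose_spec h1)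
  rw [dif_pos h1]
  have h2 : ∃ f : X.presheaf.stalk x,
          (L.presheaf.germ ⊤ x trivial) s = f • Classical.choose h1 := by
    obtain ⟨f, hf⟩ := ht₀.2 ((L.presheaf.germ ⊤ x trivial) s)
    exact ⟨f, hf.symm⟩
  rw [dif_pos h2]
  have h3 := Classical.choose_spec h2
  set f := Classical.choose h2
  set t₀ := Classical.choose h1
  have h4 : (L.presheaf.germ ⊤ (genericPoint X) trivial) s =
      X.presheaf.stalkSpecializes hx f • L.presheaf.stalkSpecializes hx t₀ := by
    rw [← stalkSpecializes_smul, ← h3]
    exact (TopCat.Presheaf.germ_stalkSpecializes_apply L.presheaf (U := ⊤) trivial hx s).symm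
  have h5 : RingHom.ker (specMap x (genericPoint X) hx) = ⊥ := ker_specMap_generic X x hx
  have hf : X.residue (genericPoint X) (X.presheaf.stalkSpecializes hx f) ≠ 0 := by
    intro h0
    have h6 : f ∈ RingHom.ker (specMap x (genericPoint X) hx) := h0
    rw [h5, Ideal.mem_bot] at h6
    rw [h6, map_zero, zero_smul] at h4
    exact hs h4
  change secOrdAt L (genericPoint X) x hx (cl L _ _) = _
  rw [h4, map_smul, secOrdAt_smul hL hx ht₀ _ hf]
  have := krullDimLE_one_locQuot hX.2.2 hx hδ'
  change CycAlg.ordFrac _ _ (algebraMap (LocQuot x _ hx) (X.residueField (genericPoint X)) (Ideal.Quotient.mk _ f)) = _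
  rw [ordFrac_algebraMap, ord_quot_eq _ h5]
  intro h0
  apply hf
  have := congrArg (algebraMap (LocQuot x _ hx) (X.residueField (genericPoint X))) h0
  rw [map_zero] at this
  exact this

end Groth.Agent.S1923
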