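import Groth.Statements.S1925
import Groth.Agent.CycB.LenPt
import Groth.Agent.CycB.C1Basic

set_option autoImplicit false
universe u
open CategoryTheory AlgebraicGeometry
open Cyc

namespace Groth.Agent.S1925

open Groth.Agent.CycB.ModStalk Groth.Agent.CycB.C1Basic Groth.Agent.CycB.LocQuot
  Groth.Agent.CycB.LenPt

/-- Stacks Tag 0EPI: let L be an invertible O_Y-module and s a global section of L; assume δ ≤ k + 1 on Y, δ ≤ k on the zero locus of s, and multiplication by the germ of s injective on O_{Y,ξ} at the points ξ of δ-dimension k. Writing [Y]_{k+1} = Σ n_i[Y_i] over the irreducible components of δ-dimension k + 1, one has [Z(s)]_k = Σ n_i [Z(s|_{Y_i})]_k as k-cycles on Y; here the right side is computed as c_1(L) ∩ [Y]_{k+1} with the rational sections induced by s. Here L(ξ) = L_ξ/𝔪_ξ L_ξ is the space of rational sections of L on the closure of ξ, div_{L|W}(s) and c_1(L) ∩ α are computed as coefficient functions from chosen nonzero rational sections (Cyc.secDivFun, Cyc.c1CapFun), and results are compared up to rational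 equivalence for any cycles with those coefficients. Here a pair (X, δ) with Cyc.IsSetup plays the role of a scheme locally of finite type over the base (S, δ) of the source (X locally Noetherian with universally catenary local rings, δ a dimension function), and Cyc.DeltaCompat records that the dimension function upstairs is the induced one. -/
theorem result (Y : Scheme.{u}) (δ : Y → ℤ) (hY : Cyc.IsSetup Y δ) (L : Y.Modules) (hL : PicF.IsInvertible L) (k : ℤ) (hdim : ∀ y : Y, δ y ≤ k + 1) (s : L.presheaf.obj (Opposite.op ⊤)) (hZ : ∀ y : Y, (L.presheaf.germ ⊤ y trivial) s ∈ IsLocalRing.maximalIdeal (Y.presheaf.stalk y) • (⊤ : Submodule (Y.presheaf.stalk y) (L.presheaf.stalk y)) → δ y ≤ k) (hreg : ∀ y : Y, δ y = k → Function.Injective (fun a : Y.presheaf.stalk y => a • (L.presheaf.germ ⊤ y trivial) s)) : Cyc.zeroSectionFun δ k L s = Cyc.c1CapFun δ L (Cyc.subschemeFun δ (k + 1) (𝟙 Y)) (fun ξ => Submodule.Quotient.mk ((L.presheaf.germ ⊤ ξ trivial) s)) := by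
  classical
  have := hY.1
  funext x
  simp only [zeroSectionFun, c1CapFun]
  have hsub : ∀ ξ : Y, Cyc.subschemeFun δ (k + 1) (𝟙 Y) ξ = if δ ξ = k + 1 then
      ((Module.length (Y.presheaf.stalk ξ) (Y.presheaf.stalk ξ)).toNat : ℤ) else 0 := by
    intro ξ
    simp only [subschemeFun]
    split_ifs with h
    · rw [← finsum_mem_singleton (a := ξ) (f := fun z : Y =>
        ((Module.length (Y.presheaf.stalk z) (Y.presheaf.stalk z)).toNat : ℤ))]
      refine finsum_mem_congr ?_ (fun _ _ => rfl)
      ext z
      simp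
    · rfl
  by_cases hx : δ x = k
  swap
  · rw [if_neg hx]
    symm
    apply finsum_eq_zero_of_forall_eq_zero
    intro ξ
    rw [hsub]
    split_ifs with h
    · simp only [secDivFun]
      rw [dif_neg (fun h' => hx (by have := h'.2; omega)), mul_zero]
    · rw [zero_mul]
  rw [if_pos hx]
  obtain ⟨t, ht⟩ := exists_isGen hL x
  have h1 : ∃ t : L.presheaf.stalk x, Submodule.span (Y.presheaf.stalk x) {t} = ⊤ :=
    ⟨t, ht.span_eq_top⟩
  have ht₀ : IsGen L x (Classical.choose h1) := isGen_of_span_eq_top hL (Classical.choose_spec h1)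
  rw [dif_pos h1]
  have h2 : ∃ f : Y.presheaf.stalk x,
          (L.presheaf.germ ⊤ x trivial) s = f • Classical.choose h1 := by
    obtain ⟨f, hf⟩ := ht₀.2 ((L.presheaf.germ ⊤ x trivial) s)
    exact ⟨f, hf.symm⟩
  rw [dif_pos h2]
  have h3 := Classical.choose_spec h2
  set f := Classical.choose h2
  set t₀ := Classical.choose h1
  have hf : f ∈ nonZeroDivisors (Y.presheaf.stalk x) := by
    rw [mem_nonZeroDivisors_iff_right]
    intro a ha
    apply hreg x hx
    dsimp only
    rw [h3, smul_smul, ha, zero_smul, zero_smul]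
  have h4 := ord_toNat_eq_finsum_pt hY.2.2 x (fun z _ => by have := hdim z; omega) f hf
  refine h4.trans ?_
  refine finsum_congr fun ξ => ?_
  rw [hsub]
  simp only [secDivFun]
  by_cases hξ : ξ ⤳ x ∧ δ x + 1 = δ ξ
  · rw [dif_pos hξ, dif_pos hξ, if_pos (by have := hξ.2; omega)]
    congr 1
    have h5 : (L.presheaf.germ ⊤ ξ trivial) s =
        Y.presheaf.stalkSpecializes hξ.1 f • L.presheaf.stalkSpecializes hξ.1 t₀ := by
      rw [← stalkSpecializes_smul, ← h3]
      exact (TopCat.Presheaf.germ_stalkSpecializes_apply L.presheaf (U := ⊤) trivial hξ.1 s).symm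
    have h6 : Y.residue ξ (Y.presheaf.stalkSpecializes hξ.1 f) ≠ 0 := by
      intro h0
      have h7 : cl L ξ ((L.presheaf.germ ⊤ ξ trivial) s) = 0 := by
        rw [h5, map_smul, smul_cl_eq_zero_iff (ht₀.stalkSpecializes hL hξ.1)]
        exact h0
      have h8 := hZ ξ ((Submodule.Quotient.mk_eq_zero _).mp h7)
      have := hξ.2
      omega
    change _ = secOrdAt L ξ x hξ.1 (cl L ξ ((L.presheaf.germ ⊤ ξ trivial) s))
    rw [h5, map_smul, secOrdAt_smul hL hξ.1 ht₀ _ h6]
    rfl
  · rw [dif_neg hξ, dif_neg hξ, mul_zero]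

end Groth.Agent.S1925
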