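import Groth.Statements.S1924
import Groth.Agent.CycB.C1Fin
import Groth.Agent.S1925

set_option autoImplicit false
universe u
open CategoryTheory AlgebraicGeometry
open Cyc

namespace Groth.Agent.S1924

open Groth.Agent.CycB.ModStalk Groth.Agent.CycB.C1Basic Groth.Agent.CycB.C1Pull
  Groth.Agent.CycB.C1Cap Groth.Agent.CycB.C1Fin Groth.Agent.CycB.DivFun
  Groth.Agent.CycB.RatTransport Groth.Agent.CycB.DivNat

/-- Stacks Tag 02SQ: let L be invertible on X, ι : Y → X a closed immersion with δ ≤ k + 1 on Y, and s a global section of L|_Y = ι^*L such that the points of its zero locus have δ ≤ k and, at every such point ξ with δ(ξ) = k, multiplication by the germ of s is injective on O_{Y,ξ}. Then c_1(L) ∩ [Y]_{k+1} ∼_rat ι_*[Z(s)]_k as k-cycles on X (for any nonzero rational sections used to compute the left side and any cycle on Y with the coefficients of [Z(s)]_k). Here L(ξ) = L_ξ/𝔪_ξ L_ξ is the space of rational sections of L on the closure of ξ, div_{L|W}(s) and c_1(L) ∩ α are computed as coefficient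 functions from chosen nonzero rational sections (Cyc.secDivFun, Cyc.c1CapFun), and results are compared up to rational equivalence for any cycles with those coefficients. Here a pair (X, δ) with Cyc.IsSetup plays the role of a scheme locally of finite type over the base (S, δ) of the source (X locally Noetherian with universally catenary local rings, δ a dimension function), and Cyc.DeltaCompat records that the dimension function upstairs is the induced one. -/
theorem result (X Y : Scheme.{u}) (δ : X → ℤ) (hX : Cyc.IsSetup X δ) (L : X.Modules) (hL : PicF.IsInvertible L) (ι : Y ⟶ X) [IsClosedImmersion ι] (k : ℤ) (hY : ∀ y : Y, δ (ι y) ≤ k + 1) (s : ((Scheme.Modules.pullback ι).obj L).presheaf.obj (Opposite.op ⊤)) (hZ : ∀ y : Y, (((Scheme.Modules.pullback ι).obj L).presheaf.germ ⊤ y trivial) s ∈ IsLocalRing.maximalIdeal (Y.presheaf.stalk y) • (⊤ : Submodule (Y.presheaf.stalk y) (((Scheme.Modules.pullback ι).obj L).presheaf.stalk y)) → δ (ι y) ≤ k) (hreg : ∀ y : Y, δ (ι y) = k → Function.Injective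 (fun a : Y.presheaf.stalk y => a • (((Scheme.Modules.pullback ι).obj L).presheaf.germ ⊤ y trivial) s)) (v : (ξ : X) → Cyc.secFibre L ξ) (hv : ∀ ξ, v ξ ≠ 0) (γ : AlgebraicCycle X ℤ) (hγ : ⇑γ = Cyc.c1CapFun δ L (Cyc.subschemeFun δ (k + 1) ι) v) (ζ : AlgebraicCycle Y ℤ) (hζ : ⇑ζ = Cyc.zeroSectionFun (fun y => δ (ι y)) k ((Scheme.Modules.pullback ι).obj L) s) : Cyc.RatEquiv δ k γ (AlgebraicCycle.map ι (fun y => δ (ι y)) δ ζ) := by
  classical
  have hYs : IsSetup Y (fun y => δ (ι y)) := isSetup_of_isClosedImmersion ι hX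
  have := hX.1
  have := hYs.1
  have hM : PicF.IsInvertible ((Scheme.Modules.pullback ι).obj L) := isInvertible_pullback ι hL
  obtain ⟨α, hα⟩ := exists_cycle_subschemeFun_id hYs.2.2 hY
  have hαk : ∀ y, α y ≠ 0 → δ (ι y) = k + 1 := by
    intro y hy
    rw [hα, subschemeFun_id] at hy
    by_contra h
    exact hy (if_neg h)
  have hα' : α ∈ Zk Y (fun y => δ (ι y)) (k + 1) := by
    intro y hy
    by_contra h
    exact hy (hαk y h)
  have hinj : Function.Injective ⇑ι := ι.isClosedEmbedding.injective
  let γY : AlgebraicCycle Y ℤ := comapCycle ι hinj γ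
  have hsub0 : ∀ x, x ∉ Set.range ⇑ι → Cyc.subschemeFun δ (k + 1) ι x = 0 :=
    subschemeFun_apply_notMem ι δ (k + 1)
  have hγY : ⇑γY = c1CapFun (fun y => δ (ι y)) ((Scheme.Modules.pullback ι).obj L) ⇑α
      (fun ξ => fib ι L ξ (v (ι ξ))) := by
    funext y
    change γ (ι y) = _
    rw [hγ, c1CapFun_closedImmersion ι hL δ _ hsub0 v (fun ξ _ => hv ξ)]
    congr 1
    rw [hα]
    funext z
    exact subschemeFun_apply_of_injective ι hinj δ (k + 1) z
  have hζ' : ⇑ζ = c1CapFun (fun y => δ (ι y)) ((Scheme.Modules.pullback ι).obj L) ⇑α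
      (fun ξ => Submodule.Quotient.mk
        ((((Scheme.Modules.pullback ι).obj L).presheaf.germ ⊤ ξ trivial) s)) := by
    rw [hζ, hα]
    exact Groth.Agent.S1925.result Y (fun y => δ (ι y)) hYs _ hM k hY s hZ hreg
  have key : RatEquiv (fun y => δ (ι y)) k γY ζ := by
    refine ratEquiv_of_c1CapFun hM k α hα' _ _ ?_ ?_ γY ζ hγY hζ'
    · intro ξ _
      exact fib_ne_zero ι hL (hv _)
    · intro ξ hξ h0
      have h1 := hZ ξ ((Submodule.Quotient.mk_eq_zero _).mp h0)
      have h2 := hαk ξ hξ
      omega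
  have h3 := ratEquivZero_push ι δ k _ key
  refine RatEquivZero.congr h3 fun x => ?_
  by_cases hx : x ∈ Set.range ⇑ι
  · obtain ⟨y, rfl⟩ := hx
    rw [map_apply_of_isPreimmersion ι _ _ _ _ rfl]
    change γ (ι y) - ζ y = γ (ι y) - _
    rw [map_apply_of_isPreimmersion ι _ _ _ _ rfl]
  · rw [map_apply_notMem_range ι _ _ _ _ hx]
    change 0 = γ x - _
    rw [map_apply_notMem_range ι _ _ _ _ hx, hγ,
      c1CapFun_eq_zero_of_notMem ι δ _ hsub0 v x hx, sub_zero]

end Groth.Agent.S1924
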