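import Groth.Statements.S1926
import Groth.Agent.CycB.C1Push
import Groth.Agent.CycB.PushDivMain
import Groth.Agent.S1855

set_option autoImplicit false
universe u
open CategoryTheory AlgebraicGeometry
open Cyc

namespace Groth.Agent.S1926

open Groth.Agent.CycB.ModStalk Groth.Agent.CycB.C1Basic Groth.Agent.CycB.C1Pull
  Groth.Agent.CycB.C1Cap Groth.Agent.CycB.C1Fin Groth.Agent.CycB.DivFun
  Groth.Agent.CycB.C1Push

/-- Stacks Tag 02SU: let p : X → Y be proper, L an invertible O_Y-module and α a (k + 1)-cycle on X. Then p_*(c_1(p^*L) ∩ α) ∼_rat c_1(L) ∩ p_*α as k-cycles on Y, the two sides computed with any nonzero rational sections of p^*L on X and of L on Y respectively. Here L(ξ) = L_ξ/𝔪_ξ L_ξ is the space of rational sections of L on the closure of ξ, div_{L|W}(s) and c_1(L) ∩ α are computed as coefficient functions from chosen nonzero rational sections (Cyc.secDivFun, Cyc.c1CapFun), and results are compared up to rational equivalence for any cycles with those coefficients.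 Here a pair (X, δ) with Cyc.IsSetup plays the role of a scheme locally of finite type over the base (S, δ) of the source (X locally Noetherian with universally catenary local rings, δ a dimension function), and Cyc.DeltaCompat records that the dimension function upstairs is the induced one. -/
theorem result (X Y : Scheme.{u}) (δX : X → ℤ) (δY : Y → ℤ) (hX : Cyc.IsSetup X δX) (hY : Cyc.IsSetup Y δY) (p : X ⟶ Y) [IsProper p] (hδ : Cyc.DeltaCompat p δX δY) (L : Y.Modules) (hL : PicF.IsInvertible L) (k : ℤ) (α : AlgebraicCycle X ℤ) (hα : α ∈ Cyc.Zk X δX (k + 1)) (u : (ξ : X) → Cyc.secFibre ((Scheme.Modules.pullback p).obj L) ξ) (hu : ∀ ξ, u ξ ≠ 0) (v : (η : Y) → Cyc.secFibre L η) (hv : ∀ η, v η ≠ 0) (γ : AlgebraicCycle X ℤ) (hγ : ⇑γ = Cyc.c1CapFun δX ((Scheme.Modules.pullback p).obj L) ⇑α u) (γ' : AlgebraicCycle Y ℤ) (hγ' : ⇑γ' = Cyc.c1CapFun δY L ⇑(AlgebraicCycle.map p δX δY α) v) : Cyc.RatEquiv δY k (AlgebraicCycle.map p δX δY γ) γ' := by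
  have := hX.1
  have := hY.1
  have hM : PicF.IsInvertible ((Scheme.Modules.pullback p).obj L) := isInvertible_pullback p hL
  obtain ⟨γ₁, hγ₁⟩ := exists_cycle_c1Cap hX.2.2 hM α (fun ξ => fib p L ξ (v (p ξ)))
    (fun ξ _ => fib_ne_zero p hL (hv _))
  have h1 : RatEquiv δX k γ γ₁ :=
    ratEquiv_of_c1CapFun hM k α hα _ _ (fun ξ _ => hu ξ) (fun ξ _ => fib_ne_zero p hL (hv _))
      γ γ₁ hγ hγ₁
  have hγk : γ ∈ Zk X δX k := fun x hx => by
    rw [hγ]; exact c1Cap_eq_zero_of_ne hα u x hx
  have hγ₁k : γ₁ ∈ Zk X δX k := fun x hx => by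
    rw [hγ₁]; exact c1Cap_eq_zero_of_ne hα _ x hx
  have h2 := Groth.Agent.S1855.result X Y δX δY hX hY p hδ k γ γ₁ hγk hγ₁k h1
  have h3 : AlgebraicCycle.map p δX δY γ₁ = γ' := by
    ext y
    rw [hγ', map_c1Cap p (Groth.Agent.CycB.PushDivMain.pushDiv p hX hY hδ) hX.2.2 hY.2.2 hδ
      hL α v hv γ₁ hγ₁ y]
  rw [h3] at h2
  exact h2

end Groth.Agent.S1926
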