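import Groth.Statements.S1930
import Groth.Agent.CycB.GysinCap
import Groth.Agent.CycB.C1Fin
import Groth.Agent.CycB.FiberStalk
import Groth.Agent.S1923
-- import your own Groth.Agent.* helpers here

set_option autoImplicit false
universe u
open CategoryTheory AlgebraicGeometry
open Cyc

namespace Groth.Agent.S1930

open Groth.Agent.CycB Groth.Agent.CycB.GysinCl Groth.Agent.CycB.CapComm Groth.Agent.CycB.GysinCap
open Groth.Agent.CycB.DivFun Groth.Agent.CycB.ModStalk Groth.Agent.CycB.C1Cap
open Groth.Agent.CycB.KeySec Groth.Agent.CycB.KeySum Groth.Agent.CycB.KeyComm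

/-- The divisor of s at the points of its zero scheme D is the fundamental cycle of D. -/
theorem secDivFun_eq_subschemeFun (X D : Scheme.{u}) [IsIntegral X] (δ : X → ℤ)
    (hX : Cyc.IsSetup X δ) (n : ℤ) (hn : δ (genericPoint X) = n) (L : X.Modules)
    (hL : PicF.IsInvertible L) (s : L.presheaf.obj (Opposite.op ⊤))
    (hs : (L.presheaf.germ ⊤ (genericPoint X) trivial) s ≠ 0)
    (i : D ⟶ X) [IsClosedImmersion i] (hD : Cyc.IsZeroSchemeOf i L s) (d : D) :
    Cyc.secDivFun δ L (genericPoint X) (val L s (genericPoint X)) (i d) =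
      Cyc.subschemeFun (fun d => δ (i d)) (n - 1) (𝟙 D) d := by
  rw [S1923.result X δ hX n hn L hL s hs, C1Fin.subschemeFun_id]
  simp only [Cyc.zeroSectionFun]
  by_cases hδ : δ (i d) = n - 1
  swap
  · rw [if_neg hδ, if_neg hδ]
  rw [if_pos hδ, if_pos hδ]
  obtain ⟨t, f, h1, h2, h3⟩ := hD.2 d
  have ht : IsGen L (i d) t := isGen_of_span_eq_top hL h1
  have e1 : ∃ t : L.presheaf.stalk (i d), Submodule.span (X.presheaf.stalk (i d)) {t} = ⊤ :=
    ⟨t, h1⟩
  have ht₀ : IsGen L (i d) (Classical.choose e1) :=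
    isGen_of_span_eq_top hL (Classical.choose_spec e1)
  rw [dif_pos e1]
  have e2 : ∃ f : X.presheaf.stalk (i d),
          (L.presheaf.germ ⊤ (i d) trivial) s = f • Classical.choose e1 := by
    obtain ⟨f, hf⟩ := ht₀.2 ((L.presheaf.germ ⊤ (i d) trivial) s)
    exact ⟨f, hf.symm⟩
  rw [dif_pos e2]
  have h4 := Classical.choose_spec e2
  set f₀ := Classical.choose e2
  set t₀ := Classical.choose e1
  obtain ⟨a, ha⟩ := ht₀.exists_unit_smul ht
  have h5 : f₀ = f * a := by
    apply ht₀.1
    dsimp only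
    rw [← h4, h2, ha, Units.smul_def, smul_smul]
  have h6 : Ideal.span {f₀} = Ideal.span {f} := by
    rw [h5]
    exact Ideal.span_singleton_mul_right_unit a.isUnit f
  rw [h6, ← h3, FiberStalk.length_quotient_eq (i.stalkMap d).hom (i.stalkMap_surjective d) _ rfl]

/-- Stacks Tag 02TM: let X be integral with δ(η) = n, i : D → X an effective Cartier divisor given as the zero scheme of a global section s of an invertible module L which is a nonzerodivisor at every point, N an invertible O_X-module and t ∈ N(η) a nonzero rational section. Then i^*(div_N t) ∼_rat c_1(N|_D) ∩ [D]_{n−1} as (n − 2)-cycles on D, the right side computed with any nonzero rational sections of i^*N on D. Here i : D → X is the zero scheme of a global section s of the invertible module L (Cyc.IsZeroSchemeOf), the Gysin map i^* : Z_{k+1}(X) → CH_k(D) of Definition 02T8 is computed on coefficient functions as c_1(L) ∩ − with the rational sections taken to be s where it is nonzero (Cyc.gysinChoice) and restricted to the points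 of D, and classes on D are compared up to rational equivalence on D for the restricted dimension function. Here a pair (X, δ) with Cyc.IsSetup plays the role of a scheme locally of finite type over the base (S, δ) of the source (X locally Noetherian with universally catenary local rings, δ a dimension function), and Cyc.DeltaCompat records that the dimension function upstairs is the induced one. -/
theorem result (X D : Scheme.{u}) [IsIntegral X] (δ : X → ℤ) (hX : Cyc.IsSetup X δ) (n : ℤ) (hn : δ (genericPoint X) = n) (L : X.Modules) (hL : PicF.IsInvertible L) (s : L.presheaf.obj (Opposite.op ⊤)) (hreg : ∀ x : X, Function.Injective (fun a : X.presheaf.stalk x => a • (L.presheaf.germ ⊤ x trivial) s)) (i : D ⟶ X) [IsClosedImmersion i] (hD : Cyc.IsZeroSchemeOf i L s) (N : X.Modules) (hN : PicF.IsInvertible N) (t : Cyc.secFibre N (genericPoint X)) (ht : t ≠ 0) (w : (ξ : X) → Cyc.secFibre L ξ) (hw : ∀ ξ, w ξ ≠ 0) (u : (d : D) → Cyc.secFibre ((Scheme.Modules.pullback i).obj N) d) (hu : ∀ d, u d ≠ 0) (γ₁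 γ₂ : AlgebraicCycle D ℤ) (h₁ : ∀ d : D, γ₁ d = Cyc.c1CapFun δ L (Cyc.secDivFun δ N (genericPoint X) t) (Cyc.gysinChoice L s w) (i d)) (h₂ : ⇑γ₂ = Cyc.c1CapFun (fun d => δ (i d)) ((Scheme.Modules.pullback i).obj N) (Cyc.subschemeFun (fun d => δ (i d)) (n - 1) (𝟙 D)) u) : Cyc.RatEquiv (fun d => δ (i d)) (n - 2) γ₁ γ₂ := by
  have := hX.1
  have hδ := hX.2.2
  have hs : (L.presheaf.germ ⊤ (genericPoint X) trivial) s ≠ 0 := by
    intro h0
    have h1 : (1 : X.presheaf.stalk (genericPoint X)) = 0 := hreg (genericPoint X) (by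
      dsimp only
      rw [h0, smul_zero, smul_zero])
    exact one_ne_zero h1
  have hs0 : val L s (genericPoint X) ≠ 0 := by
    obtain ⟨f₁, hf₁⟩ := exists_isGen hL (genericPoint X)
    obtain ⟨a, ha⟩ := hf₁.2 ((L.presheaf.germ ⊤ (genericPoint X) trivial) s)
    dsimp only at ha
    rw [val_eq, ← ha, map_smul, ne_eq, C1Basic.smul_cl_eq_zero_iff hf₁]
    intro h0
    have h1 : ¬ IsUnit a := by
      intro hu
      exact (IsLocalRing.residue_ne_zero_iff_isUnit a).2 hu h0
    have h2 : IsUnit a := by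
      have : a ≠ 0 := by
        rintro rfl
        rw [zero_smul] at ha
        exact hs ha.symm
      have : IsUnit (show X.functionField from a) := Ne.isUnit (show (show X.functionField from a) ≠ 0 from this)
      exact this
    exact h1 h2
  obtain ⟨vN, hvN⟩ := exists_nonzero hN
  let D₁ := secData δ hN ht hvN
  let D₂ := secData δ hL hs0 (gysinChoice_ne_zero s hw)
  -- the family of tame symbols restricts to D
  have hC := ratZ_restrict (δ := δ) (k := n - 2) i (ι := D₁.bad D₂) (ξ := fun ζ => ζ.1)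
    (f := fun ζ => D₁.sym D₂ ⟨ζ.1, ζ.2.1⟩) (fun ζ => by
      have := ζ.2.1.2
      omega) (fun ζ => D₁.sym_ne_zero hδ D₂ _) (D₁.locFin_bad hδ D₂) (by
    intro ζ hζ d
    rw [mem_range_iff hD] at hζ
    dsimp only at hζ ⊢
    have h1 : Cyc.gysinChoice L s w ζ.1 = val L s ζ.1 := gysinChoice_of_ne s w hζ
    obtain ⟨u₁, hu₁, hu₁'⟩ := exists_ratio_eq_unit hL (gysinChoice_ne_zero s hw) ζ.1 ζ.2.1.1
      ((L.presheaf.germ ⊤ ζ.1 trivial) s) h1.symm
      (by rw [germ_spec]; rfl : _ = val L s (genericPoint X))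
    have h2 : D₁.sym D₂ ⟨ζ.1, ζ.2.1⟩ = 1 :=
      LineData.sym_eq_one_right hδ D₁ D₂ ⟨ζ.1, ζ.2.1⟩ u₁ hu₁ hu₁'
    rw [h2, OrdFrac.divFun_one]
    rfl)
  obtain ⟨G, hG⟩ := exists_locallyFinsupp _ (locallyFinite_secDivFun hδ hL (genericPoint X) hs0)
  let g := RatTransport.comapCycle i i.isEmbedding.injective G
  have hg : ∀ d, g d = Cyc.secDivFun δ L (genericPoint X) (val L s (genericPoint X)) (i d) := by
    intro d
    rw [RatTransport.comapCycle_apply, hG]
  have hg' : Cyc.subschemeFun (fun d => δ (i d)) (n - 1) (𝟙 D) = ⇑g := by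
    funext d
    rw [hg, secDivFun_eq_subschemeFun X D δ hX n hn L hL s hs i hD d]
  have hA := ratZ_cap_sub_cap (k := n - 2) (δ := δ) i (𝟙 D) hN
    (Cyc.secDivFun δ L (genericPoint X) (val L s (genericPoint X))) (fun x hx => by
      rw [mem_range_iff hD] at hx
      exact secDivFun_val_eq_zero hL δ s hx) g hg (fun d hd => by
      rw [hg] at hd
      have := (secDivFun_ne_zero hd).2
      omega) vN hvN u hu (fun d hd => absurd ⟨d, rfl⟩ hd)
  change RatEquivZero _ _ _
  rw [ratEquivZero_iff_ratZ]
  refine (hC.sub hA).congr fun d => ?_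
  rw [Function.locallyFinsuppWithin.coe_sub, Pi.sub_apply, h₁, h₂, hg']
  have e1 := key_bad hδ D₁ D₂ (i d)
  rw [← c1CapFun_secDivFun hN hL ht hs0 (gysinChoice_ne_zero s hw) hvN,
    ← c1CapFun_secDivFun hL hN hs0 ht hvN (gysinChoice_ne_zero s hw)] at e1
  rw [e1]
  change _ - _ = _ - _ - (Cyc.c1CapFun (fun d => δ (i d)) ((Scheme.Modules.pullback i).obj N) ⇑g u d
    - Cyc.c1CapFun δ N _ vN (i d))
  ring

end Groth.Agent.S1930
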