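import Groth.Statements.S1931
import Groth.Agent.CycB.GysinCap
-- import your own Groth.Agent.* helpers here

set_option autoImplicit false
universe u
open CategoryTheory AlgebraicGeometry
open CategoryTheory.Limits
open Cyc

namespace Groth.Agent.S1931

open Groth.Agent.CycB Groth.Agent.CycB.GysinCl Groth.Agent.CycB.CapComm Groth.Agent.CycB.GysinCap
open Groth.Agent.CycB.DivFun

/-- One of the two sides: the Gysin map of D ∩ D' → D applied to i^* α, compared with the iterated
cap on X. -/
theorem side (X D D' : Scheme.{u}) (δ : X → ℤ) (hX : Cyc.IsSetup X δ) (L L' : X.Modules)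
    (hL : PicF.IsInvertible L) (hL' : PicF.IsInvertible L')
    (s : L.presheaf.obj (Opposite.op ⊤)) (s' : L'.presheaf.obj (Opposite.op ⊤)) (i : D ⟶ X)
    (i' : D' ⟶ X) [IsClosedImmersion i] [IsClosedImmersion i'] (hD : Cyc.IsZeroSchemeOf i L s)
    (hD' : Cyc.IsZeroSchemeOf i' L' s')
    (σ' : ((Scheme.Modules.pullback i).obj L').presheaf.obj (Opposite.op ⊤))
    (hσ' : Cyc.IsZeroSchemeOf (pullback.fst i i') ((Scheme.Modules.pullback i).obj L') σ')
    (k : ℤ) (α : AlgebraicCycle X ℤ) (hα : α ∈ Cyc.Zk X δ k)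
    (w : (ξ : X) → Cyc.secFibre L ξ) (hw : ∀ ξ, w ξ ≠ 0)
    (w' : (ξ : X) → Cyc.secFibre L' ξ) (hw' : ∀ ξ, w' ξ ≠ 0)
    (w₁ : (d : D) → Cyc.secFibre ((Scheme.Modules.pullback i).obj L') d) (hw₁ : ∀ d, w₁ d ≠ 0)
    {W : Scheme.{u}} (j : W ⟶ D) [IsPreimmersion j]
    (hj : Set.range ⇑j = Set.range ⇑(pullback.fst i i')) :
    RatZ (fun z => δ (i (j z))) (k - 2) (fun z =>
      Cyc.c1CapFun (fun d => δ (i d)) ((Scheme.Modules.pullback i).obj L')
        (fun d => Cyc.c1CapFun δ L ⇑α (Cyc.gysinChoice L s w) (i d))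
        (Cyc.gysinChoice ((Scheme.Modules.pullback i).obj L') σ' w₁) (j z) -
      Cyc.c1CapFun δ L' (Cyc.c1CapFun δ L ⇑α (Cyc.gysinChoice L s w))
        (Cyc.gysinChoice L' s' w') (i (j z))) := by
  have := hX.1
  have hδ := hX.2.2
  have hLi := C1Pull.isInvertible_pullback i hL'
  obtain ⟨γ, hγ⟩ := exists_cycle_c1CapFun hδ hL α (gysinChoice_ne_zero s hw)
  have hγk : ∀ x, δ x ≠ k - 1 → γ x = 0 := by
    intro x hx
    rw [hγ]
    exact c1CapFun_eq_zero_of_ne (k := k - 1) ⇑α (fun y hy => hα y (by omega)) _ hx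
  let g := RatTransport.comapCycle i i.isEmbedding.injective γ
  have hg : ∀ d, g d = Cyc.c1CapFun δ L ⇑α (Cyc.gysinChoice L s w) (i d) := by
    intro d
    rw [RatTransport.comapCycle_apply, hγ]
  have hg' : (fun d => Cyc.c1CapFun δ L ⇑α (Cyc.gysinChoice L s w) (i d)) = ⇑g :=
    funext fun d => (hg d).symm
  rw [hg']
  refine ratZ_cap_sub_cap (k := k - 2) i j hL' _ ?_ g hg ?_ (Cyc.gysinChoice L' s' w')
    (gysinChoice_ne_zero s' hw') _ (gysinChoice_ne_zero σ' hw₁) ?_
  · intro x hx
    refine c1CapFun_eq_zero_of_forall _ _ fun ξ _ _ => ?_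
    rw [mem_range_iff hD] at hx
    exact secDivFun_gysinChoice_eq_zero hL δ s w hx
  · intro d hd
    by_contra hcon
    exact hd (hγk (i d) (by omega))
  · intro d hd d'
    rw [hj, mem_range_iff hσ'] at hd
    have h0 := (val_restrict_ne_zero_iff hD' hσ' d).1 hd
    rw [gysinChoice_of_ne σ' w₁ hd, gysinChoice_of_ne s' w' h0]
    exact secDivFun_val_restrict hL' hD' hσ' δ d d' h0

/-- Stacks Tag 0B73: let (L, s, i : D → X) and (L', s', i' : D' → X) be two invertible modules with global sections and their zero schemes, D ∩ D' = D ×_X D' with projections j to D and j' to D' (the zero schemes of the restricted sections). For a k-cycle α on X, (j')^*(i^*α) ∼_rat j^*((i')^*α) as (k − 2)-cycles on D ∩ D'. The Gysin maps on D and D' are computed from any global sections σ' of L'|_D and σ of L|_{D'} whose zero schemes are j and j'. Here i : D → X is the zero scheme of a global section s of the invertible module L (Cyc.IsZeroSchemeOf), the Gysin map i^* : Z_{k+1}(X) → CH_k(D) of Definition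 02T8 is computed on coefficient functions as c_1(L) ∩ − with the rational sections taken to be s where it is nonzero (Cyc.gysinChoice) and restricted to the points of D, and classes on D are compared up to rational equivalence on D for the restricted dimension function. Here a pair (X, δ) with Cyc.IsSetup plays the role of a scheme locally of finite type over the base (S, δ) of the source (X locally Noetherian with universally catenary local rings, δ a dimension function), and Cyc.DeltaCompat records that the dimension function upstairs is the induced one. -/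
theorem result (X D D' : Scheme.{u}) (δ : X → ℤ) (hX : Cyc.IsSetup X δ) (L L' : X.Modules) (hL : PicF.IsInvertible L) (hL' : PicF.IsInvertible L') (s : L.presheaf.obj (Opposite.op ⊤)) (s' : L'.presheaf.obj (Opposite.op ⊤)) (i : D ⟶ X) (i' : D' ⟶ X) [IsClosedImmersion i] [IsClosedImmersion i'] (hD : Cyc.IsZeroSchemeOf i L s) (hD' : Cyc.IsZeroSchemeOf i' L' s') (σ' : ((Scheme.Modules.pullback i).obj L').presheaf.obj (Opposite.op ⊤)) (hσ' : Cyc.IsZeroSchemeOf (pullback.fst i i') ((Scheme.Modules.pullback i).obj L') σ') (σ : ((Scheme.Modules.pullback i').obj L).presheaf.obj (Opposite.op ⊤)) (hσ : Cyc.IsZeroSchemeOf (pullback.snd i i') ((Scheme.Modules.pullback i').obj L) σ) (k : ℤ) (α : AlgebraicCycle X ℤ) (hα : α ∈ Cyc.Zk X δ k) (w : (ξ : X) → Cyc.secFibre L ξ) (hw : ∀ ξ, w ξ ≠ 0) (w' : (ξ : X) → Cyc.secFibre L' ξ) (hw' : ∀ ξ, w' ξ ≠ 0) (w₁ : (d : D) → Cyc.secFibre ((Scheme.Modules.pullback i).obj L') d) (hw₁ : ∀ d, w₁ d ≠ 0) (w₂ : (d : D') → Cyc.secFibre ((Scheme.Modules.pullback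 i').obj L) d) (hw₂ : ∀ d, w₂ d ≠ 0) (γ : D → ℤ) (hγ : γ = fun d => Cyc.c1CapFun δ L ⇑α (Cyc.gysinChoice L s w) (i d)) (γ' : D' → ℤ) (hγ' : γ' = fun d => Cyc.c1CapFun δ L' ⇑α (Cyc.gysinChoice L' s' w') (i' d)) (ζ₁ ζ₂ : AlgebraicCycle (pullback i i') ℤ) (h₁ : ∀ z, ζ₁ z = Cyc.c1CapFun (fun d => δ (i d)) ((Scheme.Modules.pullback i).obj L') γ (Cyc.gysinChoice ((Scheme.Modules.pullback i).obj L') σ' w₁) (pullback.fst i i' z)) (h₂ : ∀ z, ζ₂ z = Cyc.c1CapFun (fun d => δ (i' d)) ((Scheme.Modules.pullback i').obj L) γ' (Cyc.gysinChoice ((Scheme.Modules.pullback i').obj L) σ w₂) (pullback.snd i i' z)) : Cyc.RatEquiv (fun z => δ (i (pullback.fst i i' z))) (k - 2) ζ₁ ζ₂ := by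
  have := hX.1
  have hδ := hX.2.2
  have hr1 : ∀ z, i (pullback.fst i i' z) = i' (pullback.snd i i' z) := fun z =>
    congr(($(pullback.condition (f := i) (g := i'))) z)
  have hA := side X D D' δ hX L L' hL hL' s s' i i' hD hD' σ' hσ' k α hα w hw w' hw' w₁ hw₁
    (pullback.fst i i') rfl
  have hrange : Set.range ⇑(pullback.snd i i') = Set.range ⇑(pullback.fst i' i) := by
    rw [Scheme.Pullback.range_snd, Scheme.Pullback.range_fst]
  have hB := side X D' D δ hX L' L hL' hL s' s i' i hD' hD σ (isZeroSchemeOf_fst_of_snd i i' hσ)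
    k α hα w' hw' w hw w₂ hw₂ (pullback.snd i i') hrange
  obtain ⟨ι, ξ, ζ, h, f, h1, h2, h3, h4, h5, h6, h7⟩ :=
    exists_family hδ hL' hL α (gysinChoice_ne_zero s' hw') (gysinChoice_ne_zero s' hw')
      (gysinChoice_ne_zero s hw) (gysinChoice_ne_zero s hw)
  have hC := ratZ_restrict (δ := δ) (k := k - 2) (pullback.fst i i' ≫ i) (ξ := ζ) (f := f) (fun p => by
    have h8 : δ (ξ p) = k := by
      by_contra hcon
      exact h1 p (hα (ξ p) hcon)
    have := h2 p
    omega) h3 h4 (by
    intro p hp z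
    have h8 : f p = 1 := by
      by_cases h9 : val L s (ζ p) = 0
      · by_cases h10 : val L' s' (ζ p) = 0
        · exfalso
          apply hp
          rw [← mem_range_iff hD] at h9
          rw [← mem_range_iff hD'] at h10
          obtain ⟨d, hd⟩ := h9
          have h11 : d ∈ Set.range ⇑(pullback.fst i i') := by
            rw [Scheme.Pullback.range_fst]
            change i d ∈ Set.range ⇑i'
            rw [hd]
            exact h10
          obtain ⟨z, rfl⟩ := h11
          exact ⟨z, hd⟩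
        · exact h6 p (sameGerm_gysinChoice hL' s' w' (h p) h10)
      · exact h5 p (sameGerm_gysinChoice hL s w (h p) h9)
    rw [h8, OrdFrac.divFun_one]
    rfl)
  change RatEquivZero _ _ _
  rw [ratEquivZero_iff_ratZ]
  have hB' : RatZ (fun z => δ (i (pullback.fst i i' z))) (k - 2) (fun z =>
      Cyc.c1CapFun (fun d => δ (i' d)) ((Scheme.Modules.pullback i').obj L)
        (fun d => Cyc.c1CapFun δ L' ⇑α (Cyc.gysinChoice L' s' w') (i' d))
        (Cyc.gysinChoice ((Scheme.Modules.pullback i').obj L) σ w₂) (pullback.snd i i' z) -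
      Cyc.c1CapFun δ L (Cyc.c1CapFun δ L' ⇑α (Cyc.gysinChoice L' s' w'))
        (Cyc.gysinChoice L s w) (i' (pullback.snd i i' z))) := by
    have e : (fun z => δ (i (pullback.fst i i' z))) = (fun z => δ (i' (pullback.snd i i' z))) :=
      funext fun z => by rw [hr1]
    rw [e]
    exact hB
  refine ((hA.add hC).sub hB').congr fun z => ?_
  have h8 := h7 (i (pullback.fst i i' z))
  rw [Function.locallyFinsuppWithin.coe_sub, Pi.sub_apply, h₁, h₂, hγ, hγ']
  change _ = _ - _ + ∑ᶠ p, Cyc.divFun δ (ζ p) (f p) (i (pullback.fst i i' z)) - _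
  rw [← h8, ← hr1]
  ring

end Groth.Agent.S1931
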