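import Groth.Statements.S1932
import Groth.Agent.CycB.GysinPush
import Groth.Agent.CycB.PushDivMain
import Groth.Agent.S1855

set_option autoImplicit false
universe u
open CategoryTheory AlgebraicGeometry
open CategoryTheory.Limits
open Cyc

namespace Groth.Agent.S1932

open Groth.Agent.CycB Groth.Agent.CycB.C1Fin Groth.Agent.CycB.C1Pull Groth.Agent.CycB.GysinCl

/-- Stacks Tag 02TA: let f : X' → X be proper, (L, s, i : D → X) as in the Gysin construction, D' = X' ×_X D with i' : D' → X', g : D' → D, where i' is the zero scheme of some global section of f^*L. For a (k + 1)-cycle α' on X', i^*(f_*α') ∼_rat g_*((i')^*α') as k-cycles on D. Here i : D → X is the zero scheme of a global section s of the invertible module L (Cyc.IsZeroSchemeOf), the Gysin map i^* : Z_{k+1}(X) → CH_k(D) of Definition 02T8 is computed on coefficient functions as c_1(L) ∩ − with the rational sections taken to be s where it is nonzero (Cyc.gysinChoice) and restricted to the points of D, and classes on D are compared up to rational equivalence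 on D for the restricted dimension function. Here a pair (X, δ) with Cyc.IsSetup plays the role of a scheme locally of finite type over the base (S, δ) of the source (X locally Noetherian with universally catenary local rings, δ a dimension function), and Cyc.DeltaCompat records that the dimension function upstairs is the induced one. -/
theorem result (X X' D : Scheme.{u}) (δ : X → ℤ) (δ' : X' → ℤ) (hX : Cyc.IsSetup X δ) (hX' : Cyc.IsSetup X' δ') (f : X' ⟶ X) [IsProper f] (hδ : Cyc.DeltaCompat f δ' δ) (L : X.Modules) (hL : PicF.IsInvertible L) (s : L.presheaf.obj (Opposite.op ⊤)) (i : D ⟶ X) [IsClosedImmersion i] (hD : Cyc.IsZeroSchemeOf i L s) (s' : ((Scheme.Modules.pullback f).obj L).presheaf.obj (Opposite.op ⊤)) (hD' : Cyc.IsZeroSchemeOf (pullback.fst f i) ((Scheme.Modules.pullback f).obj L) s') (k : ℤ) (α' : AlgebraicCycle X' ℤ) (hα' : α' ∈ Cyc.Zk X' δ' (k + 1)) (w : (ξ : X) → Cyc.secFibre L ξ) (hw : ∀ ξ, w ξ ≠ 0) (w' : (ξ : X') → Cyc.secFibre ((Scheme.Modules.pullback f).obj L) ξ) (hw' : ∀ ξ, w' ξ ≠ 0) (γ : AlgebraicCycle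 D ℤ) (hγ : ∀ d, γ d = Cyc.c1CapFun δ L ⇑(AlgebraicCycle.map f δ' δ α') (Cyc.gysinChoice L s w) (i d)) (γ' : AlgebraicCycle (pullback f i) ℤ) (hγ' : ∀ z, γ' z = Cyc.c1CapFun δ' ((Scheme.Modules.pullback f).obj L) ⇑α' (Cyc.gysinChoice ((Scheme.Modules.pullback f).obj L) s' w') (pullback.fst f i z)) : Cyc.RatEquiv (fun d => δ (i d)) k γ (AlgebraicCycle.map (pullback.snd f i) (fun z => δ' (pullback.fst f i z)) (fun d => δ (i d)) γ') := by
  have := hX.1
  have := hX'.1
  have hDs : IsSetup D (fun d => δ (i d)) := isSetup_of_isClosedImmersion i hX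
  have hDs' : IsSetup (pullback f i) (fun z => δ' (pullback.fst f i z)) :=
    isSetup_of_isClosedImmersion (pullback.fst f i) hX'
  have hM : PicF.IsInvertible ((Scheme.Modules.pullback f).obj L) := isInvertible_pullback f hL
  have ht0 : ∀ ξ, gysinChoice L s w ξ ≠ 0 := gysinChoice_ne_zero s hw
  obtain ⟨Γ, hΓ⟩ := exists_cycle_c1Cap hX'.2.2 hM α'
    (fun ξ => fib f L ξ (gysinChoice L s w (f ξ))) (fun ξ _ => fib_ne_zero f hL (ht0 _))
  have hinj : Function.Injective ⇑(pullback.fst f i) :=
    (pullback.fst f i).isClosedEmbedding.injective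
  have h1 : RatEquiv (fun z => δ' (pullback.fst f i z)) k γ'
      (RatTransport.comapCycle (pullback.fst f i) hinj Γ) :=
    GysinPush.ratEquiv_choice f hL hD hD' k α' hα' w hw w' hw' _ _ hγ' (fun z => by
      rw [RatTransport.comapCycle_apply, hΓ])
  have h1' : RatEquiv (fun z => δ' (pullback.fst f i z)) k
      (RatTransport.comapCycle (pullback.fst f i) hinj Γ) γ' := by
    have h2 := DivFun.RatEquivZero.neg h1
    rwa [neg_sub] at h2
  have hk1 : γ' ∈ Zk (pullback f i) (fun z => δ' (pullback.fst f i z)) k := fun z hz => by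
    rw [hγ']; exact c1Cap_eq_zero_of_ne hα' _ _ hz
  have hk2 : RatTransport.comapCycle (pullback.fst f i) hinj Γ ∈
      Zk (pullback f i) (fun z => δ' (pullback.fst f i z)) k := fun z hz => by
    rw [RatTransport.comapCycle_apply, hΓ]; exact c1Cap_eq_zero_of_ne hα' _ _ hz
  have h3 := Groth.Agent.S1855.result (pullback f i) D (fun z => δ' (pullback.fst f i z))
    (fun d => δ (i d)) hDs' hDs (pullback.snd f i) (GysinPush.deltaCompat_snd f hδ) k _ γ' hk2 hk1
    h1'
  have h4 : AlgebraicCycle.map (pullback.snd f i) (fun z => δ' (pullback.fst f i z))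
      (fun d => δ (i d)) (RatTransport.comapCycle (pullback.fst f i) hinj Γ) = γ := by
    ext d
    rw [GysinPush.map_snd_apply f Γ _ (fun z => rfl) d, hγ d]
    exact C1Push.map_c1Cap f (PushDivMain.pushDiv f hX' hX hδ) hX'.2.2 hX.2.2 hδ
      hL α' (gysinChoice L s w) ht0 Γ hΓ (i d)
  rw [h4] at h3
  exact h3

end Groth.Agent.S1932
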