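import Groth.Statements.S1937
import Groth.Agent.Grpsch.ConormalIso
import Groth.Agent.Grpsch.ShearGrp
import Groth.Agent.Fga.UnitRestrict
import Groth.Agent.PerfA.IdealModule
import Groth.Agent.VarietyB.PullSec
import Mathlib.AlgebraicGeometry.Modules.Tilde

set_option autoImplicit false
universe u v
open CategoryTheory MonoidalCategory CartesianMonoidalCategory MonObj GrpObj AlgebraicGeometry
open GrpSch

namespace Groth.Agent.S1937

open CategoryTheory.Limits

/-- A quasi-coherent module on the spectrum of a field is free. -/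
lemma exists_free (K : Type u) [Field K] (M : (Spec (CommRingCat.of K)).Modules)
    (hM : Coh.IsQCoh M) :
    ∃ I : Type u, Nonempty (M ≅ ∐ fun _ : I => Coh.structureModule (Spec (CommRingCat.of K))) := by
  have h1 : M.IsQuasicoherent := hM
  have h2 : IsIso (Scheme.Modules.fromTildeΓ (R := CommRingCat.of K) M) :=
    Scheme.Modules.isIso_fromTildeΓ_of_isQuasicoherent (R := CommRingCat.of K) M
  let V : ModuleCat (CommRingCat.of K) := (moduleSpecΓFunctor (R := CommRingCat.of K)).obj M
  let V' : Type u := V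
  let : AddCommGroup V' := inferInstanceAs (AddCommGroup V)
  let : Module K V' := inferInstanceAs (Module (CommRingCat.of K) V)
  let b := Module.Basis.ofVectorSpace K V'
  let I : Type u := Module.Basis.ofVectorSpaceIndex K V'
  let e1 : V ≅ ModuleCat.of (CommRingCat.of K) (I →₀ K) :=
    LinearEquiv.toModuleIso (b.repr)
  exact ⟨I, ⟨(asIso (Scheme.Modules.fromTildeΓ (R := CommRingCat.of K) M)).symm ≪≫
    (tilde.functor _).mapIso e1 ≪≫ tildeFinsupp I⟩⟩

/-- The pullback of a free module is free. -/
lemma pullback_free {X Y : Scheme.{u}} (f : X ⟶ Y) (I : Type u) :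
    Nonempty ((Scheme.Modules.pullback f).obj (∐ fun _ : I => Coh.structureModule Y) ≅
      ∐ fun _ : I => Coh.structureModule X) :=
  ⟨PreservesCoproduct.iso (Scheme.Modules.pullback f) _ ≪≫
    Sigma.mapIso (fun _ => Groth.Agent.Fga.UnitRestrict.pullbackUnitIso f)⟩

/-- Stacks Tag 047I: let G be a group scheme over S with structure morphism f and unit section e : S → G. Then Ω_{G/S} ≅ f^* C_{S/G}, the pullback of the conormal sheaf of the immersion e; and when S is the spectrum of a field, Ω_{G/S} is a free O_G-module (a coproduct of copies of O_G). Stated for G → S quasi-separated, where the shared prelude's Ω (conormal sheaf of the diagonal through Mathlib's kernel ideal sheaf) and conormal sheaf of e are the usual ones. -/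
theorem result (S : Scheme.{u}) (G : Over S) [GrpObj G] [QuasiSeparated G.hom] : Nonempty (Omega.sheaf G.hom ≅ (Scheme.Modules.pullback G.hom).obj (Omega.conormal η[G].left)) ∧ ∀ (K : Type u) [Field K], Nonempty (S ≅ Spec (CommRingCat.of K)) → ∃ I : Type u, Nonempty (Omega.sheaf G.hom ≅ ∐ fun _ : I => Coh.structureModule G.left) := by
  have h0 : (η[G] : 𝟙_ (Over S) ⟶ G).left ≫ G.hom = 𝟙 S := Over.w _
  have hpre : IsPreimmersion (X := S) (η[G] : 𝟙_ (Over S) ⟶ G).left :=
    Groth.Agent.Grpsch.ConormalIso.isPreimmersion_of_section h0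
  have hqc : QuasiCompact (X := S) (η[G] : 𝟙_ (Over S) ⟶ G).left :=
    Groth.Agent.Grpsch.ConormalIso.quasiCompact_of_section h0
  have hiso := Groth.Agent.Grpsch.ConormalIso.isIso_conormalMap_of_section
    (Z := S) (Groth.Agent.Grpsch.ShearGrp.isPullback_diagonal G)
    (Groth.Agent.Grpsch.ShearGrp.isPullback_sub_fst G) h0
  let e := (asIso (Groth.Agent.Grpsch.ConormalIso.conormalMap (Z := S)
    (Groth.Agent.Grpsch.ShearGrp.isPullback_diagonal G).w)).symm
  refine ⟨⟨e⟩, fun K _ ⟨r⟩ => ?_⟩
  let N : S.Modules := Omega.conormal (Z := S) (η[G] : 𝟙_ (Over S) ⟶ G).left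
  have hN : Coh.IsQCoh N := Groth.Agent.VarietyB.PullSec.isQCoh_pullback _ _
    (Groth.Agent.PerfA.IdealModule.isQCoh_idealMod _)
  obtain ⟨I, ⟨e2⟩⟩ := exists_free K ((Scheme.Modules.pullback r.inv).obj N)
    (Groth.Agent.VarietyB.PullSec.isQCoh_pullback _ _ hN)
  obtain ⟨e4⟩ := pullback_free (G.hom ≫ r.hom) I
  let e3 : N ≅ (Scheme.Modules.pullback r.hom).obj ((Scheme.Modules.pullback r.inv).obj N) :=
    (Scheme.Modules.pullbackId S).symm.app N ≪≫
      (Scheme.Modules.pullbackCongr r.hom_inv_id.symm).app N ≪≫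
      (Scheme.Modules.pullbackComp r.hom r.inv).symm.app N
  exact ⟨I, ⟨e ≪≫ (Scheme.Modules.pullback G.hom).mapIso (e3 ≪≫
    (Scheme.Modules.pullback r.hom).mapIso e2) ≪≫
    (Scheme.Modules.pullbackComp G.hom r.hom).app _ ≪≫ e4⟩⟩

end Groth.Agent.S1937
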