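import Groth.Statements.S1939
import Groth.Agent.CycB.RelDim4

set_option autoImplicit false
universe u
open CategoryTheory AlgebraicGeometry
open CategoryTheory.Limits
open Cyc

namespace Groth.Agent.S1939

/-- Stacks Tag 0FVH: let (S, δS), (S', δS') be as in the setup, g : S' → S flat with δS'(s') = δS(g s') + c for every s' generic in an irreducible component of its fibre g⁻¹(g s'), a : X → S locally of finite type with X integral of δ-dimension k (δX induced from δS), and X' = X ×_S S' with δX' induced from δS'. Then every generic point x' of an irreducible component of X' has δX'(x') = k + c. Here a pair (X, δ) with Cyc.IsSetup plays the role of a scheme locally of finite type over the base (S, δ) of the source (X locally Noetherian with universally catenary local rings, δ a dimension function), and Cyc.DeltaCompat records that the dimension function upstairs is the induced one. -/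
theorem result (S S' X : Scheme.{u}) (δS : S → ℤ) (δS' : S' → ℤ) (hS : Cyc.IsSetup S δS) (hS' : Cyc.IsSetup S' δS') (g : S' ⟶ S) [Flat g] (c : ℤ) (hc : ∀ s' : S', (∀ y, g y = g s' → y ⤳ s' → y = s') → δS' s' = δS (g s') + c) (a : X ⟶ S) [LocallyOfFiniteType a] [IsIntegral X] (δX : X → ℤ) (hX : Cyc.DeltaCompat a δX δS) (δX' : ↥(pullback a g) → ℤ) (hX' : Cyc.DeltaCompat (pullback.snd a g) δX' δS') (k : ℤ) (hk : δX (genericPoint X) = k) (x' : ↥(pullback a g)) (hx' : ∀ y : ↥(pullback a g), y ⤳ x' → y = x') : δX' x' = k + c := by
  -- `x'` maps to the generic point of `X`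
  have hgen : ∀ y : ↥(pullback a g), y ⤳ x' → y = x' := hx'
  have hξ : ∀ ξ : X, ξ ⤳ pullback.fst a g x' → ξ = pullback.fst a g x' := by
    intro ξ hξ
    obtain ⟨y, hy, rfl⟩ :=
      Groth.Agent.CycB.RelDim.exists_specializes_of_flat (pullback.fst a g) hξ
    rw [hgen y hy]
  have hfst : pullback.fst a g x' = genericPoint X :=
    (hξ _ (genericPoint_specializes _)).symm
  have hfib : Groth.Agent.CycB.RelDim.FibGeneric (pullback.fst a g) x' :=
    fun y _ hy => hgen y hy
  have hs' := hc (pullback.snd a g x') (fun y h1 h2 => hfib.snd y h1 h2)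
  obtain ⟨n, hn, hn'⟩ := Groth.Agent.CycB.RelDim.deltaCompat_iff.mp hX' x'
  obtain ⟨m, hm, hm'⟩ := Groth.Agent.CycB.RelDim.deltaCompat_iff.mp hX (genericPoint X)
  have h1 := Groth.Agent.CycB.RelDim.rtd_snd_of_fibGeneric_fst hfib
  rw [hfst, hn, hm] at h1
  have h2 : n = m := by exact_mod_cast h1
  have h3 : g (pullback.snd a g x') = a (genericPoint X) := by
    rw [← hfst]
    exact congr($(pullback.condition (f := a) (g := g)) x').symm
  rw [hn', hs', h3, ← hk, hm', h2]
  ring

end Groth.Agent.S1939
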