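import Groth.Statements.S1942
import Groth.Agent.CycB.GysinLen2
import Groth.Agent.CycB.DivFun

set_option autoImplicit false
universe u
open CategoryTheory AlgebraicGeometry
open CategoryTheory.Limits
open Cyc

namespace Groth.Agent.S1942

/-- Stacks Tag 02TB (2): let (L, s, i : D → X) be an invertible module, a global section and its zero scheme, and F a coherent O_X-module with δ ≤ k + 1 on its support such that s : F → F ⊗ L is injective (at each point, writing s = f·t on a generator t of L_x, multiplication by f is injective on F_x). Then i^*[F]_{k+1} ∼_rat [i^*F]_k as k-cycles on D. Here i : D → X is the zero scheme of a global section s of the invertible module L (Cyc.IsZeroSchemeOf), the Gysin map i^* : Z_{k+1}(X) → CH_k(D) of Definition 02T8 is computed on coefficient functions as c_1(L) ∩ − with the rational sections taken to be s where it is nonzero (Cyc.gysinChoice) and restricted to the points of D, and classes on D are compared up to rational equivalence on D for the restricted dimension function. Here a pair (X, δ) with Cyc.IsSetup plays the role of a scheme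 locally of finite type over the base (S, δ) of the source (X locally Noetherian with universally catenary local rings, δ a dimension function), and Cyc.DeltaCompat records that the dimension function upstairs is the induced one. -/
theorem result (X D : Scheme.{u}) (δ : X → ℤ) (hX : Cyc.IsSetup X δ) (L : X.Modules) (hL : PicF.IsInvertible L) (s : L.presheaf.obj (Opposite.op ⊤)) (i : D ⟶ X) [IsClosedImmersion i] (hD : Cyc.IsZeroSchemeOf i L s) (k : ℤ) (F : X.Modules) (hF : Coh.IsCoh F) (hdim : ∀ x : X, Nontrivial (F.presheaf.stalk x) → δ x ≤ k + 1) (hreg : ∀ (x : X) (t : L.presheaf.stalk x) (f : X.presheaf.stalk x), Submodule.span (X.presheaf.stalk x) {t} = ⊤ → (L.presheaf.germ ⊤ x trivial) s = f • t → Function.Injective (fun m : F.presheaf.stalk x => f • m)) (w : (ξ : X) → Cyc.secFibre L ξ) (hw : ∀ ξ, w ξ ≠ 0) (γ : AlgebraicCycle D ℤ) (hγ : ∀ d, γ d = Cyc.c1CapFun δ L (Cyc.sheafFun δ (k + 1) F) (Cyc.gysinChoice L s w) (i d)) (ζ : AlgebraicCycle D ℤ) (hζ : ⇑ζ = Cyc.sheafFun (fun d => δ (i d)) k ((Scheme.Modules.pullback i).obj F)) : Cyc.RatEquiv (fun d => δ (i d)) k γ ζ :=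 by
  haveI := hX.1
  have hδ := hX.2.2
  have key : γ = ζ := by
    ext d
    rw [hγ, hζ]
    obtain ⟨t, f, ht, hs, hk⟩ := hD.2 d
    have htg := CycB.ModStalk.isGen_of_span_eq_top hL ht
    unfold Cyc.sheafFun
    by_cases hd : δ (i d) = k
    · rw [if_pos hd]
      haveI : Module.Finite (X.presheaf.stalk (i d)) (F.presheaf.stalk (i d)) :=
        CycB.StalkLoc.finite_stalk F hF (i d)
      rw [CycB.GysinLen.c1CapFun_gysin hδ hL s w _ (i d) htg hs (F.presheaf.stalk (i d))
        ?_ (hreg _ t f ht hs) 1 ?_, one_mul,
        CycB.GysinLen.length_stalk_pullback_closed i d f hk F]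
      · intro ξ h hξ
        rw [CycB.StalkLen.mem_support_stalk_iff F hF.1 h] at hξ
        have := hdim ξ hξ
        omega
      · intro ξ h hξ
        rw [one_mul, if_pos (by omega), CycB.StalkLen.locLen_stalk F hF.1 h]
    · rw [if_neg hd, Cyc.c1CapFun]
      refine finsum_eq_zero_of_forall_eq_zero fun ξ => ?_
      by_cases h1 : δ ξ = k + 1
      · unfold Cyc.secDivFun
        rw [dif_neg (fun h => hd (by omega)), mul_zero]
      · rw [if_neg h1, zero_mul]
  rw [key]
  exact CycB.DivFun.ratEquiv_refl _

end Groth.Agent.S1942
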