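import Groth.Statements.S1943
import Groth.Agent.CycA.KoszulBridge
import Mathlib.RingTheory.Ideal.Quotient.Operations

set_option autoImplicit false
universe u
open CategoryTheory
open IntMult

namespace Groth.Agent.S1943

theorem isArtinian_quot_maximal {A : Type u} [CommRing A] [IsNoetherianRing A] [IsLocalRing A]
    (M : Type u) [AddCommGroup M] [Module A M] [Module.Finite A M] :
    IsArtinian A (M ⧸ (IsLocalRing.maximalIdeal A • ⊤ : Submodule A M)) := by
  have h1 : Module.Finite (A ⧸ IsLocalRing.maximalIdeal A)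
      (M ⧸ (IsLocalRing.maximalIdeal A • ⊤ : Submodule A M)) :=
    Module.Finite.of_restrictScalars_finite A _ _
  letI : Field (A ⧸ IsLocalRing.maximalIdeal A) := Ideal.Quotient.field _
  have h2 : Module.length A (M ⧸ (IsLocalRing.maximalIdeal A • ⊤ : Submodule A M)) ≠ ⊤ := by
    rw [Module.length_eq_of_surjective (R := A ⧸ IsLocalRing.maximalIdeal A)
      (Ideal.Quotient.mk_surjective)]
    exact Module.length_ne_top
  rw [Module.length_ne_top_iff, isFiniteLength_iff_isNoetherian_isArtinian] at h2
  exact h2.2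

theorem isArtinian_quot {A : Type u} [CommRing A] [IsNoetherianRing A] [IsLocalRing A]
    (M : Type u) [AddCommGroup M] [Module A M] [Module.Finite A M] (I : Ideal A)
    (hI : ∃ n : ℕ, IsLocalRing.maximalIdeal A ^ n ≤ I) :
    IsArtinian A (M ⧸ (I • ⊤ : Submodule A M)) := by
  obtain ⟨n, hn⟩ := hI
  have h1 := Groth.Agent.CycA.KoszulSamuel.isArtinian_quot_pow M (IsLocalRing.maximalIdeal A)
    (IsNoetherian.noetherian _) (isArtinian_quot_maximal M) n
  have hle : (IsLocalRing.maximalIdeal A ^ n • ⊤ : Submodule A M) ≤ (I • ⊤ : Submodule A M) :=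
    Submodule.smul_mono_left hn
  exact isArtinian_of_surjective _ (Submodule.factor hle) (Submodule.factor_surjective hle)


/-- Stacks Tag 0AZZ: let A be a Noetherian local ring, f₁, …, f_r elements generating an ideal of definition I (𝔪^n ⊆ I ⊆ 𝔪 for some n) and M a finite A-module. Then r! · length_A(M/I^t M)/t^r tends, as t → ∞, to Σ_i (−1)^i length_A H^i(K(f₁, …, f_r) ⊗_A M), the Euler characteristic of the Koszul complex tensored with M (cohomological indexing, degrees −r, …, 0); that is, e_I(M, r) equals that alternating sum. The Koszul complex is the shared prelude's mapping-cone model. -/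
theorem result (A : Type u) [CommRing A] [IsNoetherianRing A] [IsLocalRing A] (r : ℕ) (f : Fin r → A) (hI : Ideal.span (Set.range f) ≤ IsLocalRing.maximalIdeal A ∧ ∃ n : ℕ, IsLocalRing.maximalIdeal A ^ n ≤ Ideal.span (Set.range f)) (M : Type u) [AddCommGroup M] [Module A M] [Module.Finite A M] : Filter.Tendsto (fun t : ℕ => (r.factorial : ℝ) * ((Module.length A (M ⧸ (Ideal.span (Set.range f) ^ t • (⊤ : Submodule A M)))).toNat : ℝ) / (t : ℝ) ^ r) Filter.atTop (nhds ((∑ᶠ i : ℤ, ((i.negOnePow : ℤˣ) : ℤ) * ((Module.length A ((DRing.tensorCx (Koszul.koszul A (List.ofFn f)) (ModuleCat.of A M)).homology i)).toNat : ℤ) : ℤ) : ℝ)) := by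
  have hl : (List.ofFn f).length = r := List.length_ofFn
  have hset : (Set.range f) = {x | x ∈ List.ofFn f} := by
    ext x
    simp [List.mem_ofFn]
  have hart : IsArtinian A (M ⧸ (Ideal.span {x | x ∈ List.ofFn f} • ⊤ : Submodule A M)) := by
    rw [← hset]
    exact isArtinian_quot M _ hI.2
  have key := Groth.Agent.CycA.KoszulBridge.tendsto_samuel_koszul M (List.ofFn f) hart
  rw [hl, ← hset] at key
  exact key

end Groth.Agent.S1943
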