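import Groth.Statements.S1945
import Groth.Agent.CycB.GysinFib
import Groth.Agent.CycB.DivFun

set_option autoImplicit false
universe u
open CategoryTheory AlgebraicGeometry
open CategoryTheory.Limits
open Cyc

namespace Groth.Agent.S1945

/-- Stacks Tag 02TR (first formula): let p : X → Y be flat, locally of finite type, of relative dimension r + 1, and i : D → X the zero scheme of a global section s of an invertible module L which is a nonzerodivisor at every stalk, with D → Y flat (a relative effective Cartier divisor, so D → Y has relative dimension r). Then for a (k + 1)-cycle α on Y, i^*(p^*α) ∼_rat (p|_D)^*α as (k + r + 1)-cycles on D, flat pullbacks taken coefficientwise. (The second formula, c_1(L) ∩ p^*α = i_*((p|_D)^*α), is not restated.) Here i : D → X is the zero scheme of a global section s of the invertible module L (Cyc.IsZeroSchemeOf), the Gysin map i^* : Z_{k+1}(X) → CH_k(D) of Definition 02T8 is computed on coefficient functions as c_1(L) ∩ − with the rational sections taken to be s where it is nonzero (Cyc.gysinChoice) and restricted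 to the points of D, and classes on D are compared up to rational equivalence on D for the restricted dimension function. Here a pair (X, δ) with Cyc.IsSetup plays the role of a scheme locally of finite type over the base (S, δ) of the source (X locally Noetherian with universally catenary local rings, δ a dimension function), and Cyc.DeltaCompat records that the dimension function upstairs is the induced one. -/
theorem result (X Y D : Scheme.{u}) (δX : X → ℤ) (δY : Y → ℤ) (hX : Cyc.IsSetup X δX) (hY : Cyc.IsSetup Y δY) (p : X ⟶ Y) [Flat p] [LocallyOfFiniteType p] (r : ℕ) (hr : Cyc.HasRelDim p (r + 1)) (hδ : Cyc.DeltaCompat p δX δY) (L : X.Modules) (hL : PicF.IsInvertible L) (s : L.presheaf.obj (Opposite.op ⊤)) (hreg : ∀ x : X, Function.Injective (fun a : X.presheaf.stalk x => a • (L.presheaf.germ ⊤ x trivial) s)) (i : D ⟶ X) [IsClosedImmersion i] (hD : Cyc.IsZeroSchemeOf i L s) [Flat (i ≫ p)] (hrD : Cyc.HasRelDim (i ≫ p) r) (k : ℤ) (α : AlgebraicCycle Y ℤ) (hα : α ∈ Cyc.Zk Y δY (k + 1)) (w : (ξ : X) → Cyc.secFibre L ξ) (hw : ∀ ξ, w ξ ≠ 0) (γ ζ : AlgebraicCycle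 D ℤ) (hγ : ∀ d, γ d = Cyc.c1CapFun δX L (Cyc.pullFun p δX δY (r + 1) ⇑α) (Cyc.gysinChoice L s w) (i d)) (hζ : ⇑ζ = Cyc.pullFun (i ≫ p) (fun d => δX (i d)) δY r ⇑α) : Cyc.RatEquiv (fun d => δX (i d)) (k + r + 1) γ ζ := by
  classical
  haveI := hX.1
  have hδX := hX.2.2
  have hδY := hY.2.2
  have hcomp : Cyc.DeltaCompat (i ≫ p) (fun d => δX (i d)) δY :=
    CycB.RelDim.deltaCompat_comp (CycB.GysinFib.deltaCompat_closedImmersion i δX) hδ
  haveI : LocallyOfFiniteType (i ≫ p) := inferInstance
  have key : γ = ζ := by
    ext d
    rw [hγ, hζ]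
    obtain ⟨t, f, ht, hs, hk⟩ := hD.2 d
    have htg := CycB.ModStalk.isGen_of_span_eq_top hL ht
    have hf : Function.Injective (fun b : X.presheaf.stalk (i d) => b * f) := by
      intro a b hab
      apply hreg (i d)
      have hab' : a * f = b * f := hab
      change a • (L.presheaf.germ ⊤ (i d) trivial) s = b • (L.presheaf.germ ⊤ (i d) trivial) s
      rw [hs, smul_smul, smul_smul, hab']
    have hle : δX (i d) ≤ δY (p (i d)) + r := by
      have := CycB.RelDim.delta_le hrD hcomp d
      exact this
    -- points contributing to the sum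
    have hcontr : ∀ ξ : X, ξ ⤳ i d → δX (i d) + 1 = δX ξ →
        Cyc.pullFun p δX δY (r + 1) (⇑α) ξ ≠ 0 →
          p ξ = p (i d) ∧ δX (i d) = δY (p (i d)) + r := by
      intro ξ hξ hdξ hne
      unfold Cyc.pullFun at hne
      split_ifs at hne with h1
      · have hα1 : α (p ξ) ≠ 0 := left_ne_zero_of_mul hne
        have h2 : δY (p ξ) = k + 1 := by
          by_contra hcon
          exact hα1 (hα _ hcon)
        have h3 : δY (p (i d)) ≤ δY (p ξ) :=
          CycB.LocQuot.le_of_specializes hδY (hξ.map p.continuous)
        have h4 : δY (p (i d)) = δY (p ξ) := by omega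
        refine ⟨CycB.LocQuot.eq_of_specializes_of_eq hδY (hξ.map p.continuous) h4, by omega⟩
      · exact absurd rfl hne
    unfold Cyc.pullFun at hcontr ⊢
    by_cases hd : δX (i d) = δY (p (i d)) + r
    · rw [if_pos (show δX (i d) = δY ((i ≫ p) d) + r from hd)]
      have hlen := CycB.GysinFib.length_quot_fib p i d f hk
      rw [CycB.GysinLen.c1CapFun_gysin hδX hL s w _ (i d) htg hs
        (X.presheaf.stalk (i d) ⧸ CycB.FiberStalk.fibIdeal p (i d)) ?_
        (CycB.GysinFib.injective_smul_fib p i d f hk hf) (α (p (i d))) ?_, ← hlen]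
      · rfl
      · intro ξ h hξ
        rw [CycB.GysinFib.mem_support_fib_iff] at hξ
        have := CycB.RelDim.delta_le hr hδ ξ
        rw [hξ] at this
        push_cast at this
        omega
      · intro ξ h hdξ
        by_cases hpξ : p ξ = p (i d)
        · rw [CycB.GysinFib.locLen_fib p h hpξ, if_pos (by rw [hpξ]; omega),
            show α (p (i d)) = α (p ξ) from congrArg α hpξ.symm]
        · have h0 : CycB.StalkLen.locLen (CycB.LocQuot.primeOf h)
              (X.presheaf.stalk (i d) ⧸ CycB.FiberStalk.fibIdeal p (i d)) = 0 := by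
            rw [CycB.StalkLen.locLen_eq_zero_iff, CycB.GysinFib.mem_support_fib_iff]
            exact hpξ
          rw [h0]
          by_contra hcon
          exact hpξ (hcontr ξ h hdξ (by simpa using hcon)).1
    · rw [if_neg (show ¬ δX (i d) = δY ((i ≫ p) d) + r from hd), Cyc.c1CapFun]
      refine finsum_eq_zero_of_forall_eq_zero fun ξ => ?_
      by_cases h1 : ξ ⤳ i d ∧ δX (i d) + 1 = δX ξ
      · by_contra hcon
        exact hd (hcontr ξ h1.1 h1.2 (left_ne_zero_of_mul hcon)).2
      · unfold Cyc.secDivFun
        rw [dif_neg h1, mul_zero]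
  rw [key]
  exact CycB.DivFun.ratEquiv_refl _

end Groth.Agent.S1945
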