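import Groth.Statements.S1947
import Groth.Agent.CycB.K0Adj
import Groth.Agent.CycB.ClosedDev

set_option autoImplicit false
universe u
open CategoryTheory AlgebraicGeometry
open Cyc

namespace Groth.Agent.S1947

/-- Stacks Tag 0FDT: let X be locally Noetherian and i : Z → X a closed immersion. Pushforward of coherent modules along i induces an isomorphism K_0(Coh(Z)) → K_0(Coh_Z(X)), where Coh_Z(X) is the category of coherent O_X-modules whose support is contained in (the image of) Z. Here K_0 of a full subcategory of the abelian category of O-modules is the shared prelude's KZero.K0sub (free abelian group on the objects modulo the relations of short exact sequences with all terms in the subcategory), and the isomorphism is asserted to exist compatibly with classes of objects. -/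
theorem result (X Z : Scheme.{u}) [IsLocallyNoetherian X] (i : Z ⟶ X) [IsClosedImmersion i] : ∃ φ : KZero.K0sub (fun F : Z.Modules => Coh.IsCoh F) ≃+ KZero.K0sub (fun G : X.Modules => Coh.IsCoh G ∧ ∀ x : X, Nontrivial (G.presheaf.stalk x) → x ∈ Set.range ⇑i), ∀ F : Z.Modules, Coh.IsCoh F → φ (KZero.clSub (fun F : Z.Modules => Coh.IsCoh F) F) = KZero.clSub (fun G : X.Modules => Coh.IsCoh G ∧ ∀ x : X, Nontrivial (G.presheaf.stalk x) → x ∈ Set.range ⇑i) ((Coh.push i).obj F) := by
  have := CohqA.ClosedPush.full (i := i)
  have := CohqA.ClosedPush.faithful (i := i)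
  obtain ⟨φ₁, h₁⟩ := CycB.K0Adj.exists_equiv (Scheme.Modules.pullbackPushforwardAdjunction i)
    (CycB.CohProp.coh Z) (CycB.ClosedDev.cohOn i) (CycB.ClosedDev.cohOn_push i)
    (fun M hM => FormalA.PullbackQC.isCoh_pullback i M hM.1)
  obtain ⟨φ₂, h₂⟩ := (CycB.ClosedDev.hyp i).devissage
  refine ⟨φ₁.trans φ₂, fun F hF => ?_⟩
  have h3 : φ₁ (KZero.clSub (CycB.CohProp.coh Z) F) = _ := h₁ F hF
  refine (congrArg φ₂ h3).trans ?_
  exact h₂ _ ⟨CycB.ClosedDev.cohOn_push i F hF, CycB.ClosedDev.isIso_unit_push i F⟩

end Groth.Agent.S1947
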