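import Groth.Statements.S1948
import Groth.Agent.CycA.MovAssembly
import Groth.Agent.CycA.MovMain

set_option autoImplicit false
universe u
open CategoryTheory CategoryTheory.Limits AlgebraicGeometry
attribute [local instance] HasDerivedCategory.standard
open IntMult

namespace Groth.Agent.S1948

/-- Stacks Tag 0B1V: let X be a nonsingular projective variety (a closed subscheme of some P^N_K), α an r-cycle and β an s-cycle on X intersecting properly, with α ∼_rat 0. Then α · β ∼_rat 0 as an (r + s − n)-cycle (rational equivalence in the sense of Chow Homology, Tag 02RW; by Section 0AZH this agrees with the source's definition through fibres over P^1, Section 0AZG). Here X is a nonsingular variety over the algebraically closed field K (smooth, separated, quasi-compact, integral) with dimension function δ (transcendence degree) and n = dim X; cycles are Mathlib AlgebraicCycles with Cyc.Zk membership, proper intersection is IntMult.IntersectProperly and α · β is the Tor-formula intersection product on coefficient functions (IntMult.interProd), bundled where needed as 'any cycle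 with these coefficients'. -/
theorem result (K : Type u) [Field K] [IsAlgClosed K] (X : Scheme.{u}) (f : X ⟶ Spec (CommRingCat.of K)) [Smooth f] [IsSeparated f] [QuasiCompact f] [IsIntegral X] (δ : X → ℤ) (hX : Cyc.IsSetup X δ) (hδ : Cyc.DeltaCompat f δ (fun _ => 0)) (n : ℤ) (hn : δ (genericPoint X) = n) (N : ℕ) (ι : X ⟶ CohB1.ProjSpace N K) [IsClosedImmersion ι] (hι : ι ≫ CohB1.ProjSpace.toSpec N K = f) (r s : ℤ) (α β : AlgebraicCycle X ℤ) (hα : α ∈ Cyc.Zk X δ r) (hβ : β ∈ Cyc.Zk X δ s) (hprop : IntMult.IntersectProperly δ n ⇑α ⇑β) (h0 : Cyc.RatEquivZero δ r α) (γ : AlgebraicCycle X ℤ) (hγ : ⇑γ = IntMult.interProd δ n ⇑α ⇑β) : Cyc.RatEquivZero δ (r + s - n) γ := by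
  let ι' : X ⟶ Proj (MvPolynomial.homogeneousSubmodule (Fin (N + 1)) K) := ι
  have hci : IsClosedImmersion ι' := ‹IsClosedImmersion ι›
  have hι' : f = ι' ≫ Groth.Agent.VarietyB.ProjStd.toSpec (Fin (N + 1)) K := hι.symm
  clear_value ι'
  subst hι'
  exact Groth.Agent.CycA.MovAssembly.assembly _ δ hX hδ n hn
    (fun δP hP η hη T hT => Groth.Agent.CycA.MovMain.moves (I := Fin (N + 1)) ι' δ hX hδ n hn δP hP
      η hη T hT) r s α β hα hβ hprop h0 γ hγ

end Groth.Agent.S1948
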