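import Groth.Statements.S1950
import Groth.Agent.CycA.PFLocal
import Groth.Agent.CycB.PFFinal

set_option autoImplicit false
universe u
open CategoryTheory CategoryTheory.Limits AlgebraicGeometry
attribute [local instance] HasDerivedCategory.standard
open IntMult

namespace Groth.Agent.S1950

/-- Stacks Tag 0B10: let f : X → Y be proper and flat, where X and Y are nonsingular varieties over K of dimensions n and m, e = n − m, α an r-cycle on X and β an s-cycle on Y such that α and f^*β intersect properly. Then f_*α and β intersect properly and f_*α · β = f_*(α · f^*β) as cycles on Y (flat pullback and products taken coefficientwise; f_* is Mathlib's pushforward, applied to any cycle with the coefficients of α · f^*β). Here X is a nonsingular variety over the algebraically closed field K (smooth, separated, quasi-compact, integral) with dimension function δ (transcendence degree) and n = dim X; cycles are Mathlib AlgebraicCycles with Cyc.Zk membership, proper intersection is IntMult.IntersectProperly and α · β is the Tor-formula intersection product on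 coefficient functions (IntMult.interProd), bundled where needed as 'any cycle with these coefficients'. -/
theorem result (K : Type u) [Field K] [IsAlgClosed K] (X Y : Scheme.{u}) (f : X ⟶ Y) (gX : X ⟶ Spec (CommRingCat.of K)) (gY : Y ⟶ Spec (CommRingCat.of K)) (hf : f ≫ gY = gX) [Smooth gX] [IsSeparated gX] [QuasiCompact gX] [IsIntegral X] [Smooth gY] [IsSeparated gY] [QuasiCompact gY] [IsIntegral Y] [Flat f] [IsProper f] (δX : X → ℤ) (δY : Y → ℤ) (hX : Cyc.IsSetup X δX) (hY : Cyc.IsSetup Y δY) (hδX : Cyc.DeltaCompat gX δX (fun _ => 0)) (hδY : Cyc.DeltaCompat gY δY (fun _ => 0)) (hδ : Cyc.DeltaCompat f δX δY) (n m : ℤ) (hn : δX (genericPoint X) = n) (hm : δY (genericPoint Y) = m) (e : ℕ) (he : (e : ℤ) = n - m) (hrel : Cyc.HasRelDim f e) (r s : ℤ) (α : AlgebraicCycle X ℤ) (β : AlgebraicCycle Y ℤ) (hα : α ∈ Cyc.Zk X δX r) (hβ : β ∈ Cyc.Zk Y δY s) (hprop : IntMult.IntersectProperly δX n ⇑α (Cyc.pullFun f δX δY e ⇑β)) (γ : AlgebraicCycle X ℤ) (hγ : ⇑γ = IntMult.interProd δX n ⇑α (Cyc.pullFun f δX δY e ⇑β)) : IntMult.IntersectProperly δY m ⇑(AlgebraicCycle.map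 f δX δY α) ⇑β ∧ IntMult.interProd δY m ⇑(AlgebraicCycle.map f δX δY α) ⇑β = ⇑(AlgebraicCycle.map f δX δY γ) := by
  subst hn hm
  refine Groth.Agent.CycB.PFFinal.final hX hδ _ _ e he hrel ?_ α β hprop γ hγ
  intro v w ζ hv hw h1 h2
  exact Groth.Agent.CycA.PFLocal.local_formula f gX gY hδX hδY hδ hrel (by omega) hv hw h1 h2

end Groth.Agent.S1950
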