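import Groth.Statements.S1951
import Groth.Agent.CycA.ProdMult

set_option autoImplicit false
universe u
open CategoryTheory CategoryTheory.Limits AlgebraicGeometry
attribute [local instance] HasDerivedCategory.standard
open IntMult

namespace Groth.Agent.S1951

open Groth.Agent.CycA.ProdPoint

/-- Stacks Tag 0B0R: let X, Y be nonsingular varieties over K of dimensions n, m, α an r-cycle on X and β an s-cycle on Y. Then pr_X^*α and pr_Y^*β (flat pullbacks to X ×_K Y, of relative dimensions m and n) intersect properly on X ×_K Y and pr_X^*α · pr_Y^*β = α × β as (r + s)-cycles, coefficientwise. Here X is a nonsingular variety over the algebraically closed field K (smooth, separated, quasi-compact, integral) with dimension function δ (transcendence degree) and n = dim X; cycles are Mathlib AlgebraicCycles with Cyc.Zk membership, proper intersection is IntMult.IntersectProperly and α · β is the Tor-formula intersection product on coefficient functions (IntMult.interProd), bundled where needed as 'any cycle with these coefficients'. -/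
theorem result (K : Type u) [Field K] [IsAlgClosed K] (X Y : Scheme.{u}) (f : X ⟶ Spec (CommRingCat.of K)) (g : Y ⟶ Spec (CommRingCat.of K)) [Smooth f] [IsSeparated f] [QuasiCompact f] [IsIntegral X] [Smooth g] [IsSeparated g] [QuasiCompact g] [IsIntegral Y] (δX : X → ℤ) (δY : Y → ℤ) (δ : ↥(pullback f g) → ℤ) (hX : Cyc.DeltaCompat f δX (fun _ => 0)) (hY : Cyc.DeltaCompat g δY (fun _ => 0)) (hXY : Cyc.DeltaCompat (pullback.fst f g ≫ f) δ (fun _ => 0)) (n m : ℕ) (hn : δX (genericPoint X) = n) (hm : δY (genericPoint Y) = m) (r s : ℤ) (α : AlgebraicCycle X ℤ) (β : AlgebraicCycle Y ℤ) (hα : α ∈ Cyc.Zk X δX r) (hβ : β ∈ Cyc.Zk Y δY s) : IntMult.IntersectProperly δ (n + m) (Cyc.pullFun (pullback.fst f g) δ δX m ⇑α) (Cyc.pullFun (pullback.snd f g) δ δY n ⇑β) ∧ IntMult.interProd δ (n + m) (Cyc.pullFun (pullback.fst f g) δ δX m ⇑α) (Cyc.pullFun (pullback.snd f g) δ δY n ⇑β) = IntMult.extProd f g δX δY δ ⇑α ⇑β := by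
  have H : IsPullback (pullback.fst f g) (pullback.snd f g) f g := IsPullback.of_hasPullback f g
  -- nonvanishing of the pullbacks
  have hp : ∀ ξ, Cyc.pullFun (pullback.fst f g) δ δX m ⇑α ξ ≠ 0 →
      δ ξ = δX (pullback.fst f g ξ) + m ∧ δX (pullback.fst f g ξ) = r := by
    intro ξ hξ
    unfold Cyc.pullFun at hξ
    split_ifs at hξ with h1
    · refine ⟨h1, ?_⟩
      by_contra h2
      exact hξ (by rw [hα _ h2, zero_mul])
    · exact absurd rfl hξ
  have hq : ∀ η, Cyc.pullFun (pullback.snd f g) δ δY n ⇑β η ≠ 0 →
      δ η = δY (pullback.snd f g η) + n ∧ δY (pullback.snd f g η) = s := by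
    intro ξ hξ
    unfold Cyc.pullFun at hξ
    split_ifs at hξ with h1
    · refine ⟨h1, ?_⟩
      by_contra h2
      exact hξ (by rw [hβ _ h2, zero_mul])
    · exact absurd rfl hξ
  have hle := delta_le_add H hX hY hXY
  refine ⟨?_, ?_⟩
  · intro ξ η ζ h1 h2 h3 h4
    obtain ⟨a1, -⟩ := hp ξ h1
    obtain ⟨a2, -⟩ := hq η h2
    have b0 := hle ζ
    have b1 := delta_mono hX (h3.map (pullback.fst f g).continuous)
    have b2 := delta_mono hY (h4.map (pullback.snd f g).continuous)
    omega
  · ext ζ
    -- a nonzero pair of coefficients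
    have key : ∀ ξ η : ↥(pullback f g), ξ ⤳ ζ → η ⤳ ζ → δ ξ + δ η - (n + m) = δ ζ →
        Cyc.pullFun (pullback.fst f g) δ δX m ⇑α ξ ≠ 0 →
        Cyc.pullFun (pullback.snd f g) δ δY n ⇑β η ≠ 0 →
        pullback.fst f g ξ = pullback.fst f g ζ ∧ pullback.snd f g η = pullback.snd f g ζ ∧
        δ ζ = δX (pullback.fst f g ζ) + δY (pullback.snd f g ζ) ∧
        δ ξ = δX (pullback.fst f g ζ) + m ∧ δ η = δY (pullback.snd f g ζ) + n := by
      intro ξ η h3 h4 h5 h1 h2
      obtain ⟨a1, a1'⟩ := hp ξ h1
      obtain ⟨a2, a2'⟩ := hq η h2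
      have b0 := hle ζ
      have b1 := delta_mono hX (h3.map (pullback.fst f g).continuous)
      have b2 := delta_mono hY (h4.map (pullback.snd f g).continuous)
      have c1 := eq_of_delta_eq hX (h3.map (pullback.fst f g).continuous) (by omega)
      have c2 := eq_of_delta_eq hY (h4.map (pullback.snd f g).continuous) (by omega)
      refine ⟨c1, c2, by omega, ?_, ?_⟩
      · rw [← c1]; exact a1
      · rw [← c2]; exact a2
    unfold IntMult.extProd
    split_ifs with hζ
    · obtain ⟨ω₁, p1, q1, s1, r1⟩ := exists_generic_point H (pullback.fst f g ζ) (genericPoint Y)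
      obtain ⟨ω₂, p2, q2, s2, r2⟩ := exists_generic_point H (genericPoint X) (pullback.snd f g ζ)
      have d1 := delta_eq_add hX hY hXY r1
      have d2 := delta_eq_add hX hY hXY r2
      have e1 : ω₁ ⤳ ζ := s1 ζ (specializes_refl _) (genericPoint_specializes _)
      have e2 : ω₂ ⤳ ζ := s2 ζ (genericPoint_specializes _) (specializes_refl _)
      rw [hm] at d1
      rw [hn] at d2
      unfold IntMult.interProd
      rw [finsum_eq_single _ (⟨(ω₁, ω₂), e1, e2, (by omega : δ ω₁ + δ ω₂ - (n + m) = δ ζ)⟩ :
        {p : ↥(pullback f g) × ↥(pullback f g) // p.1 ⤳ ζ ∧ p.2 ⤳ ζ ∧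
          δ p.1 + δ p.2 - (n + m) = δ ζ})]
      · -- the coefficients
        have k1 : RingHom.ker (Cyc.specMap ζ ω₁ e1) =
            (IsLocalRing.maximalIdeal (X.presheaf.stalk (pullback.fst f g ζ))).map
              ((pullback.fst f g).stalkMap ζ).hom := by
          rw [ker_specMap_generic H (fun z hz _ => s1 z (by rw [hz])
            (genericPoint_specializes _)) p1 q1 e1 (specializes_refl _)
            (genericPoint_specializes _), Groth.Agent.CycB.LocQuot.ker_refl, ker_genericPoint,
            Ideal.map_bot, sup_bot_eq]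
        have k2 : RingHom.ker (Cyc.specMap ζ ω₂ e2) =
            (IsLocalRing.maximalIdeal (Y.presheaf.stalk (pullback.snd f g ζ))).map
              ((pullback.snd f g).stalkMap ζ).hom := by
          rw [ker_specMap_generic H (fun z _ hz => s2 z (genericPoint_specializes _)
            (by rw [hz])) p2 q2 e2 (genericPoint_specializes _)
            (specializes_refl _), Groth.Agent.CycB.LocQuot.ker_refl, ker_genericPoint,
            Ideal.map_bot, bot_sup_eq]
        have m1 := mult_eq_length H e1 e2 _ _ k1 k2
        have l1 : (Module.length ((pullback f g).presheaf.stalk ω₁)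
            ((pullback f g).presheaf.stalk ω₁ ⧸ Ideal.map ((pullback.fst f g).stalkMap ω₁).hom
              (IsLocalRing.maximalIdeal (X.presheaf.stalk (pullback.fst f g ω₁))))).toNat = 1 := by
          have := maximalIdeal_eq_generic H (z := ω₁) (fun z' h1 h2 => s1 z'
            (specializes_of_eq (by rw [h1, p1])) (genericPoint_specializes _))
          rw [maximalIdeal_genericPoint q1, Ideal.map_bot, sup_bot_eq] at this
          rw [← this, length_quot_maximalIdeal]
        have l2 : (Module.length ((pullback f g).presheaf.stalk ω₂)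
            ((pullback f g).presheaf.stalk ω₂ ⧸ Ideal.map ((pullback.snd f g).stalkMap ω₂).hom
              (IsLocalRing.maximalIdeal (Y.presheaf.stalk (pullback.snd f g ω₂))))).toNat = 1 := by
          have := maximalIdeal_eq_generic H (z := ω₂) (fun z' h1 h2 => s2 z'
            (genericPoint_specializes _) (specializes_of_eq (by rw [h2, q2])))
          rw [maximalIdeal_genericPoint p2, Ideal.map_bot, bot_sup_eq] at this
          rw [← this, length_quot_maximalIdeal]
        have v1 : Cyc.pullFun (pullback.fst f g) δ δX m ⇑α ω₁ = α (pullback.fst f g ζ) := by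
          unfold Cyc.pullFun
          rw [if_pos (by rw [p1]; omega), l1, p1]
          simp
        have v2 : Cyc.pullFun (pullback.snd f g) δ δY n ⇑β ω₂ = β (pullback.snd f g ζ) := by
          unfold Cyc.pullFun
          rw [if_pos (by rw [q2]; omega), l2, q2]
          simp
        change Cyc.pullFun (pullback.fst f g) δ δX m ⇑α ω₁ *
          Cyc.pullFun (pullback.snd f g) δ δY n ⇑β ω₂ * _ = _
        rw [v1, v2, m1]
      · rintro ⟨⟨ξ, η⟩, h3, h4, h5⟩ hne
        by_contra h0
        apply hne
        have t1 : Cyc.pullFun (pullback.fst f g) δ δX m ⇑α ξ ≠ 0 := by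
          intro h; apply h0; change Cyc.pullFun (pullback.fst f g) δ δX m ⇑α ξ * _ * _ = 0
          rw [h, zero_mul, zero_mul]
        have t2 : Cyc.pullFun (pullback.snd f g) δ δY n ⇑β η ≠ 0 := by
          intro h; apply h0; change _ * Cyc.pullFun (pullback.snd f g) δ δY n ⇑β η * _ = 0
          rw [h, mul_zero, zero_mul]
        obtain ⟨c1, c2, -, c4, c5⟩ := key ξ η h3 h4 h5 t1 t2
        have w1 : ω₁ = ξ := eq_of_delta_eq hXY (s1 ξ (specializes_of_eq c1.symm)
          (genericPoint_specializes _)) (by omega)
        have w2 : ω₂ = η := eq_of_delta_eq hXY (s2 η (genericPoint_specializes _)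
          (specializes_of_eq c2.symm)) (by omega)
        subst w1 w2
        rfl
    · unfold IntMult.interProd
      rw [← finsum_zero]
      apply finsum_congr
      rintro ⟨⟨ξ, η⟩, h3, h4, h5⟩
      by_contra h0
      apply hζ
      have t1 : Cyc.pullFun (pullback.fst f g) δ δX m ⇑α ξ ≠ 0 := by
        intro h; apply h0; change Cyc.pullFun (pullback.fst f g) δ δX m ⇑α ξ * _ * _ = 0
        rw [h, zero_mul, zero_mul]
      have t2 : Cyc.pullFun (pullback.snd f g) δ δY n ⇑β η ≠ 0 := by
        intro h; apply h0; change _ * Cyc.pullFun (pullback.snd f g) δ δY n ⇑β η * _ = 0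
        rw [h, mul_zero, zero_mul]
      exact (key ξ η h3 h4 h5 t1 t2).2.2.1

end Groth.Agent.S1951
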