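import Groth.Statements.S1952
import Groth.Agent.S1900
import Groth.Agent.CycA.P1Sect
import Groth.Agent.CycA.DivMult
import Groth.Agent.CycB.DivFun
import Groth.Agent.CycB.Push
import Groth.Agent.CycB.GysinFib
import Groth.Agent.CycB.RelDim

set_option autoImplicit false
universe u
open CategoryTheory CategoryTheory.Limits AlgebraicGeometry
attribute [local instance] HasDerivedCategory.standard
open IntMult

namespace Groth.Agent.S1952

open Groth.Agent.CycB Groth.Agent.CycA P1

theorem rtd_id {X : Scheme.{u}} (x : X) : RelDim.rtd (𝟙 X) x = 0 := by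
  obtain ⟨n, h1, h2⟩ := RelDim.deltaCompat_iff.1 (GysinFib.deltaCompat_closedImmersion (𝟙 X)
    (fun _ => (0 : ℤ))) x
  have : n = 0 := by simpa using h2.symm
  rw [h1, this, Nat.cast_zero]

theorem delta_sect {X : Scheme.{u}} {δ : X → ℤ} {δP : ↥(CohB1.ProjSpaceOver 1 X) → ℤ}
    (hP : Cyc.DeltaCompat (CohB1.ProjSpaceOver.toBase 1 X) δP δ) (i : Fin (1 + 1)) (x : X) :
    δP (sect X i x) = δ x := by
  obtain ⟨n, h1, h2⟩ := RelDim.deltaCompat_iff.1 hP (sect X i x)
  have h3 := RelDim.rtd_comp (sect X i) (CohB1.ProjSpaceOver.toBase 1 X) x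
  rw [P1Sect.sect_toBase, rtd_id, h1] at h3
  have h4 : (n : Cardinal.{u}) = 0 := by
    have := h3.symm
    rw [add_eq_zero] at this
    exact this.1
  have h5 : n = 0 := by exact_mod_cast h4
  rw [h2, h5, P1Sect.toBase_sect]
  simp

theorem mapCoeff_sect {X : Scheme.{u}} {δ : X → ℤ} {δP : ↥(CohB1.ProjSpaceOver 1 X) → ℤ}
    (hP : Cyc.DeltaCompat (CohB1.ProjSpaceOver.toBase 1 X) δP δ) (i : Fin (1 + 1)) (x : X) :
    AlgebraicCycle.mapCoeff (CohB1.ProjSpaceOver.toBase 1 X) δP δ (sect X i x) = 1 := by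
  have h1 : δP (sect X i x) = δ (CohB1.ProjSpaceOver.toBase 1 X (sect X i x)) := by
    rw [delta_sect hP, P1Sect.toBase_sect]
  unfold AlgebraicCycle.mapCoeff
  rw [if_pos h1]
  have h2 := Push.residueDegree_comp (sect X i) (CohB1.ProjSpaceOver.toBase 1 X) x
  rw [P1Sect.sect_toBase, DivNat.residueDegree_eq_one (𝟙 X), DivNat.residueDegree_eq_one (sect X i),
    mul_one] at h2
  exact h2.symm

/-- The cycle of a closed subscheme all of whose points have dimension at most `k`. -/
theorem exists_cycle_subschemeFun {X Z : Scheme.{u}} {δ : X → ℤ} (hX : Cyc.IsSetup X δ)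
    (j : Z ⟶ X) [IsClosedImmersion j] (k : ℤ) (hk : ∀ z, δ (j z) ≤ k) :
    ∃ c : AlgebraicCycle X ℤ, ⇑c = Cyc.subschemeFun δ k j := by
  have hZ := C1Fin.isSetup_of_isClosedImmersion j hX
  have := hZ.1
  obtain ⟨c, hc⟩ := C1Fin.exists_cycle_subschemeFun_id (k := k) hZ.2.2 hk
  refine ⟨AlgebraicCycle.map j (fun z => δ (j z)) δ c, ?_⟩
  funext x
  by_cases hx : x ∈ Set.range ⇑j
  · obtain ⟨z, rfl⟩ := hx
    rw [DivNat.map_apply_of_isPreimmersion j _ _ c z rfl, hc,
      C1Fin.subschemeFun_apply_of_injective j j.isClosedEmbedding.injective]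
  · rw [DivNat.map_apply_notMem_range j _ _ c x hx, C1Fin.subschemeFun_apply_notMem j _ _ x hx]

/-- Stacks Tag 0B07 (2): let α be a (k + 1)-cycle on P^1_X (X a nonsingular variety, P^1_X of dimension n + 1 with dimension function δP) intersecting the divisors X × 0 and X × ∞ (the images of the two sections, as prime cycles) properly. Then pr_{X,*}(α · [X × 0] − α · [X × ∞]) ∼_rat 0 as a k-cycle on X (the source's two distinct closed points a, b of P^1 are taken to be 0 and ∞), for any cycle on P^1_X with the coefficients of α · [X × 0] − α · [X × ∞]. Here X is a nonsingular variety over the algebraically closed field K (smooth, separated, quasi-compact, integral) with dimension function δ (transcendence degree) and n = dim X; cycles are Mathlib AlgebraicCycles with Cyc.Zk membership, proper intersection is IntMult.IntersectProperly and α · β is the Tor-formula intersection product on coefficient functions (IntMult.interProd), bundled where needed as 'any cycle with these coefficients'.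 -/
theorem result (K : Type u) [Field K] [IsAlgClosed K] (X : Scheme.{u}) (f : X ⟶ Spec (CommRingCat.of K)) [Smooth f] [IsSeparated f] [QuasiCompact f] [IsIntegral X] (δ : X → ℤ) (hX : Cyc.IsSetup X δ) (hδ : Cyc.DeltaCompat f δ (fun _ => 0)) (n : ℤ) (hn : δ (genericPoint X) = n) (δP : ↥(CohB1.ProjSpaceOver 1 X) → ℤ) (hPX : Cyc.IsSetup (CohB1.ProjSpaceOver 1 X) δP) (hP : Cyc.DeltaCompat (CohB1.ProjSpaceOver.toBase 1 X) δP δ) [QuasiCompact (CohB1.ProjSpaceOver.toBase 1 X)] (k : ℤ) (α : AlgebraicCycle (CohB1.ProjSpaceOver 1 X) ℤ) (hα : α ∈ Cyc.Zk _ δP (k + 1)) (h0 : IntMult.IntersectProperly δP (n + 1) ⇑α (Set.indicator {P1.sect X 0 (genericPoint X)} 1)) (h1 : IntMult.IntersectProperly δP (n + 1) ⇑α (Set.indicator {P1.sect X 1 (genericPoint X)} 1)) (γ : AlgebraicCycle (CohB1.ProjSpaceOver 1 X) ℤ) (hγ : ⇑γ = IntMult.interProd δP (n + 1) ⇑α (Set.indicator {P1.sect X 0 (genericPoint X)} 1) - IntMult.interProd δP (n + 1) ⇑α (Set.indicator {P1.sect X 1 (genericPoint X)} 1)) : Cyc.RatEquivZero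 δ k (AlgebraicCycle.map (CohB1.ProjSpaceOver.toBase 1 X) δP δ γ) := by
  classical
  have hd : ∀ i x, δP (sect X i x) = δ x := delta_sect hP
  have hαk : ∀ ξ, δP ξ ≠ k + 1 → α ξ = 0 := hα
  -- proper intersection
  have hns : ∀ i : Fin (1 + 1), IntMult.IntersectProperly δP (n + 1) ⇑α
      (Set.indicator {P1.sect X i (genericPoint X)} 1) → ∀ ξ, α ξ ≠ 0 →
      ξ ∉ Set.range ⇑(sect X i) := by
    rintro i hi _ hξ ⟨x, rfl⟩
    have h2 := hi (sect X i x) (sect X i (genericPoint X)) (sect X i x) hξ (by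
      rw [Set.indicator_of_mem (Set.mem_singleton _)]
      exact one_ne_zero) specializes_rfl (DivMult.specializes_apply (sect X i) x)
    rw [hd i (genericPoint X), hn] at h2
    omega
  have hS : {ξ | α ξ ≠ 0}.Finite := by
    have hc : IsCompact (Set.univ : Set X) := by
      have : CompactSpace X := by
        have := (QuasiCompact.isCompact_preimage (f := f) Set.univ isOpen_univ isCompact_univ)
        exact ⟨this⟩
      exact isCompact_univ
    have := Push.finite_support_preimage (CohB1.ProjSpaceOver.toBase 1 X) α ⊤ hc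
    exact this.subset fun ξ hξ => ⟨trivial, hξ⟩
  -- the coefficient functions
  let B : Fin (1 + 1) → ↥(CohB1.ProjSpaceOver 1 X) → X → ℤ := fun i ξ =>
    Cyc.subschemeFun δ k (pullback.snd (PtClosure.ptClι ξ) (sect X i))
  have hA : ∀ i : Fin (1 + 1), IntMult.IntersectProperly δP (n + 1) ⇑α
      (Set.indicator {P1.sect X i (genericPoint X)} 1) → ∀ x : X,
      interProd δP (n + 1) ⇑α (Set.indicator {P1.sect X i (genericPoint X)} 1) (sect X i x) =
        ∑ ξ ∈ hS.toFinset, α ξ * B i ξ x := by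
    intro i hi x
    rw [DivMult.interProd_divisor (sect X i) (P1Sect.exists_ker_stalkMap_sect i) δP n k
      ((hd _ _).trans hn) ⇑α hαk (hns i hi) x]
    have e1 : (fun d => δP (sect X i d)) = δ := funext (hd i)
    rw [e1]
    refine finsum_eq_sum_of_support_subset _ fun ξ hξ => ?_
    rw [Set.Finite.coe_toFinset]
    exact left_ne_zero_of_mul hξ
  -- the pushforward
  have hpush : ∀ x : X, AlgebraicCycle.map (CohB1.ProjSpaceOver.toBase 1 X) δP δ γ x =
      ∑ ξ ∈ hS.toFinset, α ξ * (B 0 ξ x - B 1 ξ x) := by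
    intro x
    rw [Push.map_apply, hγ, finsum_mem_def]
    have key : ∀ i : Fin (1 + 1), ∀ ζ : ↥(CohB1.ProjSpaceOver 1 X), ζ ≠ sect X i x →
        Set.indicator {ζ | CohB1.ProjSpaceOver.toBase 1 X ζ = x} (fun ζ =>
          interProd δP (n + 1) ⇑α (Set.indicator {P1.sect X i (genericPoint X)} 1) ζ *
          (AlgebraicCycle.mapCoeff (CohB1.ProjSpaceOver.toBase 1 X) δP δ ζ : ℤ)) ζ = 0 := by
      intro i ζ hζ
      by_cases h2 : ζ ∈ {ζ | CohB1.ProjSpaceOver.toBase 1 X ζ = x}
      · rw [Set.indicator_of_mem h2, DivMult.interProd_divisor_notMem, zero_mul]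
        rintro ⟨y, rfl⟩
        rw [Set.mem_ofPred_eq, P1Sect.toBase_sect] at h2
        exact hζ (by rw [h2])
      · exact Set.indicator_of_notMem h2 _
    have hsum : ∀ i : Fin (1 + 1), IntMult.IntersectProperly δP (n + 1) ⇑α
      (Set.indicator {P1.sect X i (genericPoint X)} 1) → 
        ∑ᶠ ζ, Set.indicator {ζ | CohB1.ProjSpaceOver.toBase 1 X ζ = x} (fun ζ =>
          interProd δP (n + 1) ⇑α (Set.indicator {P1.sect X i (genericPoint X)} 1) ζ *
          (AlgebraicCycle.mapCoeff (CohB1.ProjSpaceOver.toBase 1 X) δP δ ζ : ℤ)) ζ =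
          ∑ ξ ∈ hS.toFinset, α ξ * B i ξ x := by
      intro i hi
      rw [finsum_eq_single _ (sect X i x) (key i), Set.indicator_of_mem (by
        exact P1Sect.toBase_sect X i x), mapCoeff_sect hP, Nat.cast_one, mul_one, hA i hi]
    have hfin : ∀ i : Fin (1 + 1), (Function.support fun ζ => Set.indicator
        {ζ | CohB1.ProjSpaceOver.toBase 1 X ζ = x} (fun ζ =>
          interProd δP (n + 1) ⇑α (Set.indicator {P1.sect X i (genericPoint X)} 1) ζ *
          (AlgebraicCycle.mapCoeff (CohB1.ProjSpaceOver.toBase 1 X) δP δ ζ : ℤ)) ζ).Finite := by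
      intro i
      refine (Set.finite_singleton (sect X i x)).subset fun ζ hζ => ?_
      by_contra hcon
      exact hζ (key i ζ hcon)
    simp only [mul_sub, Finset.sum_sub_distrib]
    rw [← hsum 0 h0, ← hsum 1 h1, ← finsum_sub_distrib (hfin 0) (hfin 1)]
    refine finsum_congr fun ζ => ?_
    by_cases h2 : ζ ∈ {ζ | CohB1.ProjSpaceOver.toBase 1 X ζ = x}
    · rw [Set.indicator_of_mem h2, Set.indicator_of_mem h2, Set.indicator_of_mem h2, Pi.sub_apply,
        sub_mul]
    · rw [Set.indicator_of_notMem h2, Set.indicator_of_notMem h2, Set.indicator_of_notMem h2,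
        sub_zero]
  -- rational equivalence
  have hrat : ∀ T : Finset ↥(CohB1.ProjSpaceOver 1 X), (∀ ξ ∈ T, α ξ ≠ 0) →
      ∃ c : AlgebraicCycle X ℤ, Cyc.RatEquivZero δ k c ∧
        ∀ x, c x = ∑ ξ ∈ T, α ξ * (B 0 ξ x - B 1 ξ x) := by
    intro T
    induction T using Finset.induction_on with
    | empty =>
      intro _
      exact ⟨0, DivFun.ratEquivZero_zero, fun x => by simp⟩
    | insert ξ T hξT ih =>
      intro hT
      obtain ⟨c, hc, hcx⟩ := ih fun η hη => hT η (Finset.mem_insert_of_mem hη)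
      have hξ : α ξ ≠ 0 := hT ξ (Finset.mem_insert_self _ _)
      have hξk : δP ξ = k + 1 := by
        by_contra h
        exact hξ (hαk ξ h)
      have hcyc : ∀ i : Fin (1 + 1), IntMult.IntersectProperly δP (n + 1) ⇑α
          (Set.indicator {P1.sect X i (genericPoint X)} 1) →
          ∃ c : AlgebraicCycle X ℤ, ⇑c = B i ξ := by
        intro i hi
        apply exists_cycle_subschemeFun hX
        intro z
        rw [← hd i, ← Scheme.Hom.comp_apply, ← pullback.condition, Scheme.Hom.comp_apply]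
        have h2 := PtClosure.ptClι_specializes ξ (pullback.fst (PtClosure.ptClι ξ) (sect X i) z)
        have h3 : ξ ≠ PtClosure.ptClι ξ (pullback.fst (PtClosure.ptClι ξ) (sect X i) z) := by
          intro h
          apply hns i hi ξ hξ
          rw [h, ← Scheme.Hom.comp_apply, pullback.condition, Scheme.Hom.comp_apply]
          exact ⟨_, rfl⟩
        have := LocQuot.lt_of_specializes hPX.2.2 h2 h3
        omega
      obtain ⟨c0, hc0⟩ := hcyc 0 h0
      obtain ⟨c1, hc1⟩ := hcyc 1 h1
      have e1 := PtClosure.ptClι_genericPoint ξ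
      have hr : Cyc.RatEquiv δ k c0 c1 := S1900.result X δ hX δP hP k (PtClosure.ptCl ξ)
        (PtClosure.ptClι ξ) (by rw [e1, hξk]) (by rw [e1]; exact hns 0 h0 ξ hξ)
        (by rw [e1]; exact hns 1 h1 ξ hξ) c0 c1 hc0 hc1
      refine ⟨α ξ • (c0 - c1) + c, DivFun.RatEquivZero.add
        (DivFun.RatEquivZero.zsmul hr _) hc, fun x => ?_⟩
      rw [Finset.sum_insert hξT, ← hcx x, ← hc0, ← hc1]
      change α ξ • (c0 x - c1 x) + c x = _
      rw [smul_eq_mul]
  obtain ⟨c, hc, hcx⟩ := hrat hS.toFinset (fun ξ hξ => by simpa using hξ)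
  exact DivFun.RatEquivZero.congr hc fun x => by rw [hcx, hpush]

end Groth.Agent.S1952
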