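import Groth.Statements.S1953
import Groth.Agent.CycA.DiagMult
import Groth.Agent.CycB.Push

set_option autoImplicit false
universe u
open CategoryTheory CategoryTheory.Limits AlgebraicGeometry
attribute [local instance] HasDerivedCategory.standard
open IntMult

namespace Groth.Agent.S1953

open Groth.Agent.CycA.ProdPoint Groth.Agent.CycB.RelDim Groth.Agent.CycB.TrdegAlg

theorem rtd_of_eq_id {X : Scheme.{u}} (t : X ⟶ X) (ht : t = 𝟙 X) (x : X) : rtd t x = 0 := by
  have : IsIso t := by rw [ht]; infer_instance
  exact trd_eq_zero_of_surjective _ (RingHom.injective _)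
    (ConcreteCategory.bijective_of_isIso (t.residueFieldMap x)).2

theorem residueDegree_of_eq_id {X : Scheme.{u}} (t : X ⟶ X) (ht : t = 𝟙 X) (x : X) :
    t.residueDegree x = 1 := by
  subst ht; exact Scheme.Hom.residueDegree_id x

theorem residueDegree_section {X Y : Scheme.{u}} (t : X ⟶ Y) (p : Y ⟶ X) (ht : t ≫ p = 𝟙 X)
    (x : X) : p.residueDegree (t x) = 1 := by
  have h := residueDegree_of_eq_id _ ht x
  rw [Groth.Agent.CycB.Push.residueDegree_comp] at h
  exact Nat.eq_one_of_mul_eq_one_right h

theorem delta_section {X Y : Scheme.{u}} (t : X ⟶ Y) (p : Y ⟶ X) (ht : t ≫ p = 𝟙 X)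
    (δ : X → ℤ) (δ₂ : Y → ℤ) (h : Cyc.DeltaCompat p δ₂ δ) (x : X) : δ₂ (t x) = δ x := by
  rw [deltaCompat_iff] at h
  obtain ⟨n, h1, h2⟩ := h (t x)
  have h3 := rtd_of_eq_id _ ht x
  rw [rtd_comp, h1] at h3
  have h4 : (n : Cardinal.{u}) = 0 := by
    have := add_eq_zero.1 h3
    exact this.1
  have h5 : n = 0 := by exact_mod_cast h4
  have h6 : p (t x) = x := by
    rw [← Scheme.Hom.comp_apply, ht]; rfl
  rw [h2, h6, h5]
  simp

/-- Stacks Tag 0B0U (3): let X be a proper nonsingular variety over K, α an r-cycle and β an s-cycle intersecting properly, Δ ⊆ X ×_K X the diagonal (as the prime cycle of its generic point) and α × β the exterior product, with dimension function δ₂ on X ×_K X. Then [Δ] and α × β intersect properly and pr_{1,*}([Δ] · (α × β)) = α · β coefficientwise, for any cycle on X ×_K X with the coefficients of [Δ] · (α × β). Here X is a nonsingular variety over the algebraically closed field K (smooth, separated, quasi-compact, integral) with dimension function δ (transcendence degree) and n = dim X; cycles are Mathlib AlgebraicCycles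 with Cyc.Zk membership, proper intersection is IntMult.IntersectProperly and α · β is the Tor-formula intersection product on coefficient functions (IntMult.interProd), bundled where needed as 'any cycle with these coefficients'. -/
theorem result (K : Type u) [Field K] [IsAlgClosed K] (X : Scheme.{u}) (f : X ⟶ Spec (CommRingCat.of K)) [Smooth f] [IsProper f] [IsIntegral X] (δ : X → ℤ) (hX : Cyc.IsSetup X δ) (hδ : Cyc.DeltaCompat f δ (fun _ => 0)) (n : ℤ) (hn : δ (genericPoint X) = n) (δ₂ : ↥(pullback f f) → ℤ) (h₂ : Cyc.DeltaCompat (pullback.fst f f ≫ f) δ₂ (fun _ => 0)) (h₂' : Cyc.DeltaCompat (pullback.fst f f) δ₂ δ) (r s : ℤ) (α β : AlgebraicCycle X ℤ) (hα : α ∈ Cyc.Zk X δ r) (hβ : β ∈ Cyc.Zk X δ s) (hprop : IntMult.IntersectProperly δ n ⇑α ⇑β) (γ : AlgebraicCycle (pullback f f) ℤ) (hγ : ⇑γ = IntMult.interProd δ₂ (n + n) (Set.indicator {pullback.diagonal f (genericPoint X)} 1) (IntMult.extProd f f δ δ δ₂ ⇑α ⇑β)) : IntMult.IntersectProperly δ₂ (n + n) (Set.indicator {pullback.diagonal f (genericPoint X)} 1) (IntMult.extProd f f δ δ δ₂ ⇑α ⇑β) ∧ ⇑(AlgebraicCycle.map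 (pullback.fst f f) δ₂ δ γ) = IntMult.interProd δ n ⇑α ⇑β := by
  have H : IsPullback (pullback.fst f f) (pullback.snd f f) f f := IsPullback.of_hasPullback f f
  have hp : pullback.diagonal f ≫ pullback.fst f f = 𝟙 X := pullback.diagonal_fst f
  have hq : pullback.diagonal f ≫ pullback.snd f f = 𝟙 X := pullback.diagonal_snd f
  have hpt : ∀ y, pullback.fst f f (pullback.diagonal f y) = y := fun y => by
    rw [← Scheme.Hom.comp_apply, hp]; rfl
  have hqt : ∀ y, pullback.snd f f (pullback.diagonal f y) = y := fun y => by
    rw [← Scheme.Hom.comp_apply, hq]; rfl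
  have hΔ : ∀ x, δ₂ (pullback.diagonal f x) = δ x := delta_section _ _ hp δ δ₂ h₂'
  -- points of the diagonal
  have hdiag : ∀ z, pullback.diagonal f (genericPoint X) ⤳ z →
      pullback.diagonal f (pullback.fst f f z) = z := by
    intro z hz
    have hcl : IsClosed (Set.range (pullback.diagonal f)) :=
      (pullback.diagonal f).isClosedEmbedding.isClosed_range
    obtain ⟨x, rfl⟩ := hz.mem_closed hcl ⟨_, rfl⟩
    rw [hpt]
  -- nonvanishing
  have hind : ∀ ξ, Set.indicator {pullback.diagonal f (genericPoint X)} (1 : ↥(pullback f f) → ℤ) ξ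
      ≠ 0 → ξ = pullback.diagonal f (genericPoint X) := by
    intro ξ h
    by_contra h1
    have h2 : ξ ∉ ({pullback.diagonal f (genericPoint X)} : Set _) := h1
    exact h (Set.indicator_of_notMem h2 _)
  have hext : ∀ η, IntMult.extProd f f δ δ δ₂ ⇑α ⇑β η ≠ 0 →
      δ₂ η = δ (pullback.fst f f η) + δ (pullback.snd f f η) ∧ α (pullback.fst f f η) ≠ 0 ∧
      β (pullback.snd f f η) ≠ 0 := by
    intro η h
    unfold IntMult.extProd at h
    split_ifs at h with h1
    · exact ⟨h1, left_ne_zero_of_mul (left_ne_zero_of_mul h),
        right_ne_zero_of_mul (left_ne_zero_of_mul h)⟩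
    · exact absurd rfl h
  refine ⟨?_, ?_⟩
  · intro ξ η z h1 h2 h3 h4
    have e1 := hind ξ h1
    subst e1
    obtain ⟨b1, b2, b3⟩ := hext η h2
    have e2 := hdiag z h3
    have c1 := hprop _ _ (pullback.fst f f z) b2 b3 (h4.map (pullback.fst f f).continuous) (by
      have := h4.map (pullback.snd f f).continuous
      rw [← e2, hqt] at this
      exact this)
    have c2 := hΔ (genericPoint X)
    have c3 := hΔ (pullback.fst f f z)
    rw [e2] at c3
    omega
  · -- the coefficients of `γ`
    have hval : ∀ x, γ (pullback.diagonal f x) = IntMult.interProd δ n ⇑α ⇑β x := by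
      intro x
      rw [hγ]
      choose ω w1 w2 w3 w4 using fun (p : X × X) => exists_generic_point H p.1 p.2
      let Ψ : {p : X × X // p.1 ⤳ x ∧ p.2 ⤳ x ∧ δ p.1 + δ p.2 - n = δ x} →
          {p : ↥(pullback f f) × ↥(pullback f f) // p.1 ⤳ pullback.diagonal f x ∧
            p.2 ⤳ pullback.diagonal f x ∧
            δ₂ p.1 + δ₂ p.2 - (n + n) = δ₂ (pullback.diagonal f x)} :=
        fun p => ⟨(pullback.diagonal f (genericPoint X), ω p.1),
          (genericPoint_specializes x).map (pullback.diagonal f).continuous,
          w3 p.1 _ (by rw [hpt]; exact p.2.1) (by rw [hqt]; exact p.2.2.1), by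
            have c1 := p.2.2.2
            have c2 := delta_eq_add hδ hδ h₂ (w4 p.1)
            have c3 := hΔ x
            have c4 := hΔ (genericPoint X)
            change δ₂ (pullback.diagonal f (genericPoint X)) + δ₂ (ω p.1) - (n + n) =
              δ₂ (pullback.diagonal f x)
            omega⟩
      have hΨ : Function.Injective Ψ := by
        intro p p' h
        have h1 : ω p.1 = ω p'.1 := congrArg (fun t => t.1.2) h
        have h2 : p.1.1 = p'.1.1 := by rw [← w1 p.1, h1, w1]
        have h3 : p.1.2 = p'.1.2 := by rw [← w2 p.1, h1, w2]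
        exact Subtype.ext (Prod.ext h2 h3)
      unfold IntMult.interProd
      rw [← finsum_mem_univ, finsum_mem_inter_support_eq' _ _ (Set.range Ψ), finsum_mem_range hΨ]
      · refine finsum_congr fun p => ?_
        change Set.indicator {pullback.diagonal f (genericPoint X)} (1 : ↥(pullback f f) → ℤ)
          (pullback.diagonal f (genericPoint X)) * IntMult.extProd f f δ δ δ₂ ⇑α ⇑β (ω p.1) *
          IntMult.mult (IntMult.ptIdeal (pullback.diagonal f (genericPoint X)))
            (IntMult.ptIdeal (ω p.1)) (pullback.diagonal f x) = _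
        have c2 := delta_eq_add hδ hδ h₂ (w4 p.1)
        have m1 := maximalIdeal_eq_generic H (z := ω p.1) (fun z' h1 h2 => w3 p.1 z'
          (specializes_of_eq (by rw [h1, w1])) (specializes_of_eq (by rw [h2, w2])))
        have v1 : IntMult.extProd f f δ δ δ₂ ⇑α ⇑β (ω p.1) = α p.1.1 * β p.1.2 := by
          unfold IntMult.extProd
          rw [if_pos (by rw [w1, w2]; exact c2), ← m1, length_quot_maximalIdeal, w1, w2]
          simp
        rw [v1, Groth.Agent.CycA.DiagMult.mult_diagonal f x p.2.1 p.2.2.1 (w1 p.1) (w2 p.1)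
          (fun z h1 h2 => w3 p.1 z (specializes_of_eq h1.symm) (specializes_of_eq h2.symm))
          (w3 p.1 _ (by rw [hpt]; exact p.2.1) (by rw [hqt]; exact p.2.2.1))]
        rw [Set.indicator_of_mem (Set.mem_singleton _)]
        simp
      · rintro ⟨⟨ξ, η⟩, h3, h4, h5⟩ hne
        refine ⟨fun _ => ?_, fun _ => trivial⟩
        have t1 : Set.indicator {pullback.diagonal f (genericPoint X)}
            (1 : ↥(pullback f f) → ℤ) ξ ≠ 0 := by
          intro h; apply hne
          change Set.indicator {pullback.diagonal f (genericPoint X)}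
            (1 : ↥(pullback f f) → ℤ) ξ * _ * _ = 0
          rw [h, zero_mul, zero_mul]
        have t2 : IntMult.extProd f f δ δ δ₂ ⇑α ⇑β η ≠ 0 := by
          intro h; apply hne
          change _ * IntMult.extProd f f δ δ δ₂ ⇑α ⇑β η * _ = 0
          rw [h, mul_zero, zero_mul]
        have e1 := hind ξ t1
        subst e1
        obtain ⟨b1, b2, b3⟩ := hext η t2
        have e4 : ω (pullback.fst f f η, pullback.snd f f η) = η :=
          eq_of_delta_eq_add H hδ hδ h₂ (w1 _) (w2 _)
            (by rw [w1, w2]; exact delta_eq_add hδ hδ h₂ (w4 _)) b1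
        refine ⟨⟨(pullback.fst f f η, pullback.snd f f η), ?_, ?_, ?_⟩, ?_⟩
        · have := h4.map (pullback.fst f f).continuous
          rw [hpt] at this
          exact this
        · have := h4.map (pullback.snd f f).continuous
          rw [hqt] at this
          exact this
        · have c3 := hΔ x
          have c4 := hΔ (genericPoint X)
          change δ₂ (pullback.diagonal f (genericPoint X)) + δ₂ η - (n + n) =
            δ₂ (pullback.diagonal f x) at h5
          change δ (pullback.fst f f η) + δ (pullback.snd f f η) - n = δ x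
          omega
        · apply Subtype.ext
          change (pullback.diagonal f (genericPoint X),
            ω (pullback.fst f f η, pullback.snd f f η)) = _
          rw [e4]
    have hzero : ∀ z, γ z ≠ 0 → pullback.diagonal f (pullback.fst f f z) = z := by
      intro z hz
      apply hdiag
      by_contra hns
      apply hz
      rw [hγ]
      unfold IntMult.interProd
      rw [← finsum_zero]
      refine finsum_congr ?_
      rintro ⟨⟨ξ, η⟩, h3, h4, h5⟩
      have : Set.indicator {pullback.diagonal f (genericPoint X)}
            (1 : ↥(pullback f f) → ℤ) ξ = 0 := by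
        by_contra h0
        exact hns (by rw [← hind ξ h0]; exact h3)
      change Set.indicator {pullback.diagonal f (genericPoint X)}
            (1 : ↥(pullback f f) → ℤ) ξ * _ * _ = 0
      rw [this, zero_mul, zero_mul]
    ext x
    rw [Groth.Agent.CycB.Push.map_apply, ← hval x]
    rw [finsum_mem_inter_support_eq' _ _ {pullback.diagonal f x}, finsum_mem_singleton]
    · unfold AlgebraicCycle.mapCoeff
      have h1 : (pullback.fst f f).base (pullback.diagonal f x) = x := hpt x
      rw [h1, if_pos (hΔ x), residueDegree_section _ _ hp]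
      simp
    · intro z hz
      have h1 := hzero z (left_ne_zero_of_mul hz)
      constructor
      · intro h2
        have h3 : pullback.fst f f z = x := h2
        rw [h3] at h1
        exact h1.symm
      · intro h2
        have h3 : z = pullback.diagonal f x := h2
        change pullback.fst f f z = x
        rw [h3, hpt]

end Groth.Agent.S1953
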