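import Groth.Statements.S1954
import Groth.Agent.CycA.SubLoc
import Groth.Agent.CycA.ProdMult
import Groth.Agent.CycA.IntCore2
import Groth.Agent.VarietyA.RegSmoothSch

set_option autoImplicit false
universe u
open CategoryTheory CategoryTheory.Limits AlgebraicGeometry
attribute [local instance] HasDerivedCategory.standard
open IntMult

namespace Groth.Agent.S1954

open Groth.Agent.CycA.SubLoc Groth.Agent.CycB.LocQuot Groth.Agent.Flat2D.PbStalk

/-- The coefficient of a closed subscheme at the image of a point. -/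
theorem subschemeFun_apply {X Y : Scheme.{u}} (δ : X → ℤ) (k : ℤ) (i : Y ⟶ X)
    (hi : Function.Injective i) (y : Y) (hk : δ (i y) = k) :
    Cyc.subschemeFun δ k i (i y) =
      ((Module.length (Y.presheaf.stalk y) (Y.presheaf.stalk y)).toNat : ℤ) := by
  unfold Cyc.subschemeFun
  rw [if_pos hk]
  have : {z : Y | i z = i y} = {y} := by
    ext z
    exact ⟨fun h => hi h, fun h => congrArg i h⟩
  rw [this, finsum_mem_singleton]

theorem exists_of_subschemeFun_ne_zero {X Y : Scheme.{u}} (δ : X → ℤ) (k : ℤ) (i : Y ⟶ X)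
    {x : X} (h : Cyc.subschemeFun δ k i x ≠ 0) : ∃ y : Y, i y = x ∧ δ x = k := by
  unfold Cyc.subschemeFun at h
  split_ifs at h with hk
  · by_contra hne
    apply h
    have : {z : Y | i z = x} = ∅ := Set.eq_empty_of_forall_notMem
      fun z hz => hne ⟨z, hz, hk⟩
    rw [this, finsum_mem_empty]
  · exact absurd rfl h

/-- Uniqueness and multiplicity one of the component of a closed subscheme through `x` when the
local ring is regular. -/
theorem component {X Y : Scheme.{u}} (δ : X → ℤ) (hX : Cyc.IsDimFun X δ) (i : Y ⟶ X)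
    [IsClosedImmersion i] (r : ℤ) (hY : ∀ y, δ (i y) ≤ r) {x : X} (y : Y) (hy : i y = x)
    [IsDomain (X.presheaf.stalk x ⧸ IntMult.stalkIdeal i.ker x)] {ξ : X} (hξ : ξ ⤳ x)
    (hne : Cyc.subschemeFun δ r i ξ ≠ 0) :
    RingHom.ker (Cyc.specMap x ξ hξ) = IntMult.stalkIdeal i.ker x ∧
      Cyc.subschemeFun δ r i ξ = 1 ∧
      ∀ ξ', ξ' ⤳ x → Cyc.subschemeFun δ r i ξ' ≠ 0 → ξ' = ξ := by
  obtain ⟨y₀, h₀, hk, hl, huniq⟩ := exists_generic i y hy
  have key : ∀ ξ', ξ' ⤳ x → Cyc.subschemeFun δ r i ξ' ≠ 0 → ξ' = i y₀ := by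
    intro ξ' h' hne'
    obtain ⟨y', rfl, hr⟩ := exists_of_subschemeFun_ne_zero δ r i hne'
    by_contra hc
    have h2 := (hX _ _ (huniq y' h') (fun h => hc h.symm)).1
    have h3 := hY y₀
    omega
  have e := key ξ hξ hne
  subst e
  refine ⟨hk, ?_, fun ξ' h' hne' => key ξ' h' hne'⟩
  obtain ⟨y', -, hr⟩ := exists_of_subschemeFun_ne_zero δ r i hne
  rw [subschemeFun_apply δ r i i.isEmbedding.injective y₀ hr, hl]
  rfl

/-- Stacks Tag 0B1J (1), (2): let Y, Z → X be closed immersions into a nonsingular variety with δ ≤ r on Y and δ ≤ s on Z, such that [Y]_r and [Z]_s intersect properly, and let τ be a point of δ-dimension r + s − n lying under Y and Z (the generic point of a component of the intersection of components of dimension r and s) at which the scheme-theoretic intersection Y ×_X Z has multiplicity 1 (its local ring there has length 1). Then the coefficient of the closure of τ in [Y]_r · [Z]_s is 1, and the local rings of Y and Z at the points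 over τ are regular. (Parts (3), (4) are not restated.) Here X is a nonsingular variety over the algebraically closed field K (smooth, separated, quasi-compact, integral) with dimension function δ (transcendence degree) and n = dim X; cycles are Mathlib AlgebraicCycles with Cyc.Zk membership, proper intersection is IntMult.IntersectProperly and α · β is the Tor-formula intersection product on coefficient functions (IntMult.interProd), bundled where needed as 'any cycle with these coefficients'. -/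
theorem result (K : Type u) [Field K] [IsAlgClosed K] (X : Scheme.{u}) (f : X ⟶ Spec (CommRingCat.of K)) [Smooth f] [IsSeparated f] [QuasiCompact f] [IsIntegral X] (δ : X → ℤ) (hX : Cyc.IsSetup X δ) (hδ : Cyc.DeltaCompat f δ (fun _ => 0)) (n : ℤ) (hn : δ (genericPoint X) = n) (Y Z : Scheme.{u}) (ιY : Y ⟶ X) (ιZ : Z ⟶ X) [IsClosedImmersion ιY] [IsClosedImmersion ιZ] (r s : ℤ) (hY : ∀ y : Y, δ (ιY y) ≤ r) (hZ : ∀ z : Z, δ (ιZ z) ≤ s) (hprop : IntMult.IntersectProperly δ n (Cyc.subschemeFun δ r ιY) (Cyc.subschemeFun δ s ιZ)) (τ : X) (hτ : δ τ = r + s - n) (hξ : ∃ ξ η : X, Cyc.subschemeFun δ r ιY ξ ≠ 0 ∧ Cyc.subschemeFun δ s ιZ η ≠ 0 ∧ ξ ⤳ τ ∧ η ⤳ τ) (hmult : Cyc.subschemeFun δ (r + s - n) (pullback.fst ιY ιZ ≫ ιY) τ = 1) : IntMult.interProd δ n (Cyc.subschemeFun δ r ιY) (Cyc.subschemeFun δ s ιZ) τ = 1 ∧ (∀ y : Y, ιY y = τ → IsRegularLocalRing (Y.presheaf.stalk y)) ∧ (∀ z : Z, ιZ z = τ → IsRegularLocalRing (Z.presheaf.stalk z)) := by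
  have H : IsPullback (pullback.fst ιY ιZ) (pullback.snd ιY ιZ) ιY ιZ :=
    IsPullback.of_hasPullback ιY ιZ
  -- the point of the intersection
  obtain ⟨w, hw, -⟩ := exists_of_subschemeFun_ne_zero δ _ (pullback.fst ιY ιZ ≫ ιY)
    (x := τ) (by rw [hmult]; exact one_ne_zero)
  have hwY : ιY (pullback.fst ιY ιZ w) = τ := by rw [← hw, Scheme.Hom.comp_apply]
  have hwZ : ιZ (pullback.snd ιY ιZ w) = τ := by
    rw [← Scheme.Hom.comp_apply, ← H.w, hw]
  have hlen : Module.length ((pullback ιY ιZ).presheaf.stalk w)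
      ((pullback ιY ιZ).presheaf.stalk w) = 1 := by
    have h1 := subschemeFun_apply δ (r + s - n) (pullback.fst ιY ιZ ≫ ιY)
      (pullback.fst ιY ιZ ≫ ιY).isEmbedding.injective w (by rw [hw, hτ])
    rw [hw, hmult] at h1
    have h2 : (Module.length ((pullback ιY ιZ).presheaf.stalk w)
      ((pullback ιY ιZ).presheaf.stalk w)).toNat = 1 := by exact_mod_cast h1.symm
    exact (ENat.toNat_eq_iff one_ne_zero).1 h2
  -- the local ring of `X` at `τ`
  have hreg : IsRegularLocalRing (X.presheaf.stalk τ) :=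
    VarietyA.RegSmoothSch.isRegularLocalRing_stalk_of_mem_smoothLocus f τ
      (by rw [f.smoothLocus_eq_top]; trivial)
  have hsup : IntMult.stalkIdeal ιY.ker τ ⊔ IntMult.stalkIdeal ιZ.ker τ =
      RingHom.ker (stalkTo (pullback.fst ιY ιZ ≫ ιY) w hw).hom := by
    rw [stalkIdeal_ker_eq ιY _ hwY, stalkIdeal_ker_eq ιZ _ hwZ, ker_inter H w hwY hwZ hw]
  have hmax : (IntMult.stalkIdeal ιY.ker τ ⊔ IntMult.stalkIdeal ιZ.ker τ).IsMaximal := by
    rw [hsup]
    have h1 : (⊥ : Ideal ((pullback ιY ιZ).presheaf.stalk w)).IsMaximal := by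
      have := Module.length_eq_one_iff.1 hlen
      exact ⟨isCoatom_bot⟩
    exact Ideal.comap_isMaximal_of_surjective _
      (stalkTo_surjective (pullback.fst ιY ιZ ≫ ιY) w hw)
  have hl1 : Module.length (X.presheaf.stalk τ) (X.presheaf.stalk τ ⧸
      (IntMult.stalkIdeal ιY.ker τ ⊔ IntMult.stalkIdeal ιZ.ker τ)) = 1 := by
    have := isSimpleModule_iff_isCoatom.2 hmax.out
    exact Module.length_eq_one _ _
  have hIne : IntMult.stalkIdeal ιY.ker τ ≠ ⊤ := fun h => hmax.ne_top (by rw [h, top_sup_eq])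
  have hJne : IntMult.stalkIdeal ιZ.ker τ ≠ ⊤ := fun h => hmax.ne_top (by rw [h, sup_top_eq])
  obtain ⟨ξ, η, hξ0, hη0, hξτ, hητ⟩ := hξ
  obtain ⟨yξ, hyξ, hξr⟩ := exists_of_subschemeFun_ne_zero δ r ιY hξ0
  obtain ⟨zη, hzη, hηs⟩ := exists_of_subschemeFun_ne_zero δ s ιZ hη0
  -- dimensions
  have hdimA : ringKrullDim (X.presheaf.stalk τ) = ((n - δ τ).toNat : ℕ) := by
    have h1 := ringKrullDim_locQuot hX.2.2 (genericPoint_specializes τ)
    rw [hn] at h1
    rw [← h1]
    have h2 : RingHom.ker (Cyc.specMap τ (genericPoint X) (genericPoint_specializes τ)) = ⊥ :=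
      Groth.Agent.CycA.ProdPoint.ker_genericPoint τ _
    exact ringKrullDim_eq_of_ringEquiv
      ((Ideal.quotEquivOfEq h2).trans (RingEquiv.quotientBot _)).symm
  have hdimI : (((r - δ τ).toNat : ℕ) : WithBot ℕ∞) ≤
      ringKrullDim (X.presheaf.stalk τ ⧸ IntMult.stalkIdeal ιY.ker τ) := by
    have h1 := ringKrullDim_locQuot hX.2.2 hξτ
    rw [hξr] at h1
    rw [← h1]
    have h2 : IntMult.stalkIdeal ιY.ker τ ≤ RingHom.ker (Cyc.specMap τ ξ hξτ) := by
      subst hyξ
      exact stalkIdeal_le_ker ιY _ hwY yξ hξτ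
    exact ringKrullDim_le_of_surjective (Ideal.Quotient.factor h2)
      (Ideal.Quotient.factor_surjective h2)
  have hdimJ : (((s - δ τ).toNat : ℕ) : WithBot ℕ∞) ≤
      ringKrullDim (X.presheaf.stalk τ ⧸ IntMult.stalkIdeal ιZ.ker τ) := by
    have h1 := ringKrullDim_locQuot hX.2.2 hητ
    rw [hηs] at h1
    rw [← h1]
    have h2 : IntMult.stalkIdeal ιZ.ker τ ≤ RingHom.ker (Cyc.specMap τ η hητ) := by
      subst hzη
      exact stalkIdeal_le_ker ιZ _ hwZ zη hητ
    exact ringKrullDim_le_of_surjective (Ideal.Quotient.factor h2)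
      (Ideal.Quotient.factor_surjective h2)
  have hle : ringKrullDim (X.presheaf.stalk τ) ≤
      ringKrullDim (X.presheaf.stalk τ ⧸ IntMult.stalkIdeal ιY.ker τ) +
      ringKrullDim (X.presheaf.stalk τ ⧸ IntMult.stalkIdeal ιZ.ker τ) := by
    refine le_trans ?_ (add_le_add hdimI hdimJ)
    rw [hdimA]
    have : (n - δ τ).toNat ≤ (r - δ τ).toNat + (s - δ τ).toNat := by omega
    exact_mod_cast this
  obtain ⟨hchi, hrI, hrJ⟩ := Groth.Agent.CycA.IntCore2.multiplicity_one
    (IntMult.stalkIdeal ιY.ker τ) (IntMult.stalkIdeal ιZ.ker τ) hl1 hIne hJne hle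
  refine ⟨?_, ?_, ?_⟩
  · have hdI : IsDomain (X.presheaf.stalk τ ⧸ IntMult.stalkIdeal ιY.ker τ) :=
      Groth.Agent.CalgA.RegBasic.isDomain _
    have hdJ : IsDomain (X.presheaf.stalk τ ⧸ IntMult.stalkIdeal ιZ.ker τ) :=
      Groth.Agent.CalgA.RegBasic.isDomain _
    obtain ⟨kI, cI, uI⟩ := component δ hX.2.2 ιY r hY _ hwY hξτ hξ0
    obtain ⟨kJ, cJ, uJ⟩ := component δ hX.2.2 ιZ s hZ _ hwZ hητ hη0
    unfold IntMult.interProd
    rw [finsum_eq_single _ (⟨(ξ, η), hξτ, hητ, (by omega : δ ξ + δ η - n = δ τ)⟩ :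
        {p : X × X // p.1 ⤳ τ ∧ p.2 ⤳ τ ∧ δ p.1 + δ p.2 - n = δ τ})]
    · change Cyc.subschemeFun δ r ιY ξ * Cyc.subschemeFun δ s ιZ η *
        IntMult.mult (IntMult.ptIdeal ξ) (IntMult.ptIdeal η) τ = 1
      rw [cI, cJ, IntMult.mult, Groth.Agent.CycA.StalkIdeal.stalkIdeal_ptIdeal hξτ,
        Groth.Agent.CycA.StalkIdeal.stalkIdeal_ptIdeal hητ, kI, kJ, hchi]
      rfl
    · rintro ⟨⟨ξ', η'⟩, h3, h4, h5⟩ hne
      by_contra h0
      apply hne
      have t1 : Cyc.subschemeFun δ r ιY ξ' ≠ 0 := by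
        intro h; apply h0; change Cyc.subschemeFun δ r ιY ξ' * _ * _ = 0
        rw [h, zero_mul, zero_mul]
      have t2 : Cyc.subschemeFun δ s ιZ η' ≠ 0 := by
        intro h; apply h0; change _ * Cyc.subschemeFun δ s ιZ η' * _ = 0
        rw [h, mul_zero, zero_mul]
      have e1 := uI ξ' h3 t1
      have e2 := uJ η' h4 t2
      subst e1 e2
      rfl
  · intro y hy
    exact IsRegularLocalRing.of_ringEquiv (quotEquiv ιY y hy)
  · intro z hz
    exact IsRegularLocalRing.of_ringEquiv (quotEquiv ιZ z hz)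

end Groth.Agent.S1954
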