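import Groth.Statements.S1957
import Groth.Agent.CalgB.EtaleFactor
import Groth.Agent.CalgB.EtaleNbhd

set_option autoImplicit false
universe u
open Polynomial
open EtAlg

namespace Groth.Agent.S1957

/-- Stacks Tag 07M1: let A be a ring, I an ideal and f a monic polynomial over A. Suppose the image of f in (A/I)[x] factors as g h where the leading coefficient of g is a unit and g, h generate the unit ideal. Then there is an etale A-algebra A' such that A/I -> A'/IA' is bijective, together with a factorization f = g' h' in A'[x] whose reduction modulo IA' is the image of the given one. -/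
theorem result (A : Type u) [CommRing A] (I : Ideal A) (f : A[X]) (hf : f.Monic)
    (g h : (A ⧸ I)[X]) (hgh : f.map (Ideal.Quotient.mk I) = g * h) (hlead : IsUnit g.leadingCoeff)
    (hcop : IsCoprime g h) :
    ∃ (A' : Type u) (_ : CommRing A') (_ : Algebra A A') (_ : Algebra.Etale A A'),
      Function.Bijective (Ideal.quotientMap (I.map (algebraMap A A')) (algebraMap A A') Ideal.le_comap_map) ∧
      ∃ g' h' : A'[X], f.map (algebraMap A A') = g' * h' ∧
        g'.map (Ideal.Quotient.mk (I.map (algebraMap A A'))) =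
          g.map (Ideal.quotientMap (I.map (algebraMap A A')) (algebraMap A A') Ideal.le_comap_map) ∧
        h'.map (Ideal.Quotient.mk (I.map (algebraMap A A'))) =
          h.map (Ideal.quotientMap (I.map (algebraMap A A')) (algebraMap A A') Ideal.le_comap_map) := by
  rcases subsingleton_or_nontrivial (A ⧸ I) with hs | hn
  · have hI : I = ⊤ := Ideal.Quotient.subsingleton_iff.mp hs
    have hs' : Subsingleton (A ⧸ I.map (algebraMap A A)) := by
      rw [Ideal.Quotient.subsingleton_iff, hI, Ideal.map_top]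
    refine ⟨A, inferInstance, inferInstance, inferInstance, ?_, f, 1, by simp, ?_, ?_⟩
    · exact ⟨fun x y _ => Subsingleton.elim x y, fun y => ⟨0, Subsingleton.elim _ _⟩⟩
    · exact Subsingleton.elim _ _
    · exact Subsingleton.elim _ _
  · obtain ⟨u, hu⟩ := hlead
    have hg0 : (C (↑u⁻¹ : A ⧸ I) * g).Monic := by
      rw [Monic, leadingCoeff_mul' (by rw [leadingCoeff_C, ← hu]; simp), leadingCoeff_C, ← hu,
        Units.inv_mul]
    have hfg : f.map (Ideal.Quotient.mk I) = (C (↑u⁻¹ : A ⧸ I) * g) * (C (u : A ⧸ I) * h) := by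
      rw [hgh, mul_mul_mul_comm, ← C_mul, Units.inv_mul, C_1, one_mul]
    have hh0 : (C (u : A ⧸ I) * h).Monic :=
      hg0.of_mul_monic_left (by rw [← hfg]; exact hf.map _)
    have hunit : ∀ v : (A ⧸ I)ˣ, IsUnit (C (v : A ⧸ I)) := fun v => isUnit_C.mpr v.isUnit
    have hcop' : IsCoprime (C (↑u⁻¹ : A ⧸ I) * g) (C (u : A ⧸ I) * h) :=
      (isCoprime_mul_unit_left_left (hunit u⁻¹) _ _).mpr
        ((isCoprime_mul_unit_left_right (hunit u) _ _).mpr hcop)
    obtain ⟨A', _, _, hA', hbij, g0', h0', hg0', hh0', hcop0, hf0, hg1, hh1⟩ :=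
      CalgB.EtaleFactor.exists_etale_lift_monic_factorization I f hf _ _ hg0 hh0 hcop' hfg
    let e : (A ⧸ I) ≃ₐ[A] (A' ⧸ I.map (algebraMap A A')) :=
      AlgEquiv.ofBijective (IsScalarTower.toAlgHom A (A ⧸ I) (A' ⧸ I.map (algebraMap A A'))) hbij
    let σ' : A' →ₐ[A] A ⧸ I := e.symm.toAlgHom.comp (Ideal.Quotient.mkₐ A (I.map (algebraMap A A')))
    have hσ' : ∀ x : A', algebraMap (A ⧸ I) (A' ⧸ I.map (algebraMap A A')) (σ' x) =
        Ideal.Quotient.mk _ x := fun x => e.apply_symm_apply _
    obtain ⟨a, ha⟩ : ∃ a : A', σ' a = u := by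
      obtain ⟨a, ha⟩ := Ideal.Quotient.mk_surjective (e u)
      refine ⟨a, ?_⟩
      change e.symm (Ideal.Quotient.mk _ a) = u
      rw [ha, AlgEquiv.symm_apply_apply]
    let B := Localization.Away a
    have : Algebra.Etale A' B := Algebra.Etale.of_isLocalizationAway a
    have : Algebra.Etale A B := Algebra.Etale.comp A A' B
    let σ : B →ₐ[A] A ⧸ I :=
      IsLocalization.Away.liftAlgHom a (f := σ') (by rw [ha]; exact u.isUnit)
    have hσ : ∀ x : A', σ (algebraMap A' B x) = σ' x := fun x => by
      change IsLocalization.lift _ _ = _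
      rw [IsLocalization.lift_eq]
      rfl
    obtain ⟨A'', _, _, hA'', hbij'', τ, hτ⟩ := CalgB.EtaleNbhd.exists_etale_nbhd I σ
    let τ' : A' →ₐ[A] A'' := τ.comp (IsScalarTower.toAlgHom A A' B)
    have hτ' : ∀ x : A', Ideal.Quotient.mk (I.map (algebraMap A A'')) (τ' x) =
        algebraMap (A ⧸ I) (A'' ⧸ I.map (algebraMap A A'')) (σ' x) := fun x => by
      change Ideal.Quotient.mk _ (τ (algebraMap A' B x)) = _
      rw [hτ, hσ]
    have ha' : IsUnit (τ' a) := (IsLocalization.Away.algebraMap_isUnit (S := B) a).map τ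
    obtain ⟨w, hw⟩ := ha'
    -- reductions
    have hred : ∀ (p : A'[X]) (q : (A ⧸ I)[X]),
        p.map (Ideal.Quotient.mk (I.map (algebraMap A A'))) =
          q.map (algebraMap (A ⧸ I) (A' ⧸ I.map (algebraMap A A'))) →
        (p.map τ'.toRingHom).map (Ideal.Quotient.mk (I.map (algebraMap A A''))) =
          q.map (algebraMap (A ⧸ I) (A'' ⧸ I.map (algebraMap A A''))) := by
      intro p q hpq
      have h1 : p.map σ'.toRingHom = q := by
        apply Polynomial.map_injective _ hbij.1
        rw [← hpq, Polynomial.map_map]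
        congr 1
        ext x
        exact hσ' x
      rw [← h1, Polynomial.map_map, Polynomial.map_map]
      congr 1
      ext x
      exact hτ' x
    have hwinv : Ideal.Quotient.mk (I.map (algebraMap A A'')) (↑w⁻¹ : A'') =
        algebraMap (A ⧸ I) (A'' ⧸ I.map (algebraMap A A'')) (↑u⁻¹ : A ⧸ I) := by
      have h1 : Ideal.Quotient.mk (I.map (algebraMap A A'')) (w : A'') =
        algebraMap (A ⧸ I) (A'' ⧸ I.map (algebraMap A A'')) (u : A ⧸ I) := by
        rw [hw, hτ', ha]
      have h2 : Ideal.Quotient.mk (I.map (algebraMap A A'')) (↑w⁻¹ : A'') *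
          Ideal.Quotient.mk (I.map (algebraMap A A'')) (w : A'') = 1 := by
        rw [← map_mul, Units.inv_mul, map_one]
      have h3 : Ideal.Quotient.mk (I.map (algebraMap A A'')) (w : A'') *
        algebraMap (A ⧸ I) (A'' ⧸ I.map (algebraMap A A'')) (↑u⁻¹ : A ⧸ I) = 1 := by
        rw [h1, ← map_mul, Units.mul_inv, map_one]
      exact left_inv_eq_right_inv h2 h3
    refine ⟨A'', inferInstance, inferInstance, hA'', hbij'', C (w : A'') * g0'.map τ'.toRingHom,
      C (↑w⁻¹ : A'') * h0'.map τ'.toRingHom, ?_, ?_, ?_⟩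
    · rw [mul_mul_mul_comm, ← C_mul, Units.mul_inv, C_1, one_mul, ← Polynomial.map_mul, ← hf0,
        Polynomial.map_map]
      congr 1
      ext x
      exact (τ'.commutes x).symm
    · rw [Polynomial.map_mul, map_C, hred _ _ hg1, Polynomial.map_mul, map_C, ← mul_assoc, ← C_mul,
        hw, hτ', ha, ← map_mul, Units.mul_inv, map_one, C_1, one_mul]
      rfl
    · rw [Polynomial.map_mul, map_C, hred _ _ hh1, Polynomial.map_mul, map_C, ← mul_assoc, ← C_mul,
        hwinv, ← map_mul, Units.inv_mul, map_one, C_1, one_mul]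
      rfl

end Groth.Agent.S1957
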