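import Groth.Statements.S1958
import Groth.Agent.Etalg.PairHens2

set_option autoImplicit false
universe u
open EtAlg

namespace Groth.Agent.S1958

/-- Stacks Tag 0AGU: let (A, I) be a pair and B a henselization of it (universal henselian pair under (A, I)). Then B is flat over A and for every n the map A/I^n -> B/I^n B is bijective. -/
theorem result (A : Type u) [CommRing A] (I : Ideal A) (B : Type u) [CommRing B]
    [Algebra A B] (hB : Hens2.IsPairHenselization A I B) :
    Module.Flat A B ∧ ∀ n : ℕ, Function.Bijective
      (Ideal.quotientMap ((I ^ n).map (algebraMap A B)) (algebraMap A B) Ideal.le_comap_map) := by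
  have hf := Groth.Agent.Etalg.PairHens2.flat B hB
  exact ⟨hf, fun n => Groth.Agent.Etalg.PairHens2.quot_pow_bijective
    (Groth.Agent.Etalg.PairHens2.quot_bijective B hB) n⟩

end Groth.Agent.S1958
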