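import Groth.Statements.S1959
import Mathlib.RingTheory.IntegralClosure.Algebra.Ideal
import Mathlib.Algebra.Polynomial.Monic
import Mathlib.Tactic
-- import your own Groth.Agent.* helpers here

set_option autoImplicit false
universe u
open Polynomial
open EtAlg

namespace Groth.Agent.S1959

/-- Stacks Tag 09XG: let I be an ideal of a ring A, A -> B an integral ring map and b an element of B whose image in B/IB is idempotent. Then there are d ≥ 1 and a monic polynomial f over A with f(b) = 0 whose reduction modulo I is x^d (x - 1)^d. -/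
theorem result (A B : Type u) [CommRing A] [CommRing B] [Algebra A B]
    [Algebra.IsIntegral A B] (I : Ideal A) (b : B)
    (hb : IsIdempotentElem (Ideal.Quotient.mk (I.map (algebraMap A B)) b)) :
    ∃ (f : A[X]) (d : ℕ), f.Monic ∧ 1 ≤ d ∧ aeval b f = 0 ∧
      f.map (Ideal.Quotient.mk I) = X ^ d * (X - 1) ^ d := by
  have h1 : b * b - b ∈ I.map (algebraMap A B) := by
    rw [← Ideal.Quotient.eq_zero_iff_mem, map_sub, map_mul, hb.eq, sub_self]
  obtain ⟨p, hp, hpb, hpc⟩ := exists_monic_aeval_eq_zero_forall_mem_of_mem_map h1
  -- `q = X * p` to ensure the degree is positive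
  let q : A[X] := X * p
  have hq : q.Monic := monic_X.mul hp
  have hmapp : p.map (Ideal.Quotient.mk I) = X ^ p.natDegree := by
    ext i
    rw [coeff_map, coeff_X_pow]
    split_ifs with h
    · rw [h, hp.coeff_natDegree, map_one]
    · exact Ideal.Quotient.eq_zero_iff_mem.mpr (hpc i h)
  have hmon : (X * X - X : A[X]).Monic := by
    have : (X * X - X : A[X]) = X * (X - C 1) := by rw [C_1]; ring
    rw [this]
    exact monic_X.mul (monic_X_sub_C 1)
  refine ⟨q.comp (X * X - X), p.natDegree + 1, ?_, by omega, ?_, ?_⟩
  · by_cases hA : Nontrivial A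
    · refine hq.comp hmon ?_
      have : (X * X - X : A[X]) = X * (X - C 1) := by rw [C_1]; ring
      rw [this, (monic_X).natDegree_mul (monic_X_sub_C 1), natDegree_X, natDegree_X_sub_C]
      omega
    · rw [not_nontrivial_iff_subsingleton] at hA
      exact Subsingleton.elim _ _
  · rw [aeval_comp]
    simp only [map_sub, map_mul, aeval_X, q]
    rw [hpb, mul_zero]
  · rw [map_comp]
    simp only [q, Polynomial.map_mul, map_X, hmapp, Polynomial.map_sub, mul_comp, X_comp, pow_comp]
    rw [← pow_succ', ← mul_pow]
    congr 1
    ring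

end Groth.Agent.S1959
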