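import Groth.Statements.S1963
import Groth.Agent.Etalg.EtaleValuation
import Groth.Agent.Etalg.WeakDimEtale
import Groth.Agent.S1969
import Mathlib.RingTheory.Flat.FaithfullyFlat.Algebra
import Mathlib.RingTheory.Flat.Localization
import Mathlib.RingTheory.Flat.TorsionFree

set_option autoImplicit false
universe u
open EtAlg

namespace Groth.Agent.S1963

theorem flat_ideals_of_valuationRing (A : Type u) [CommRing A] [IsDomain A] [ValuationRing A]
    (I : Ideal A) : Module.Flat A I := by
  rw [Module.Flat.flat_iff_torsion_eq_bot_of_isBezout, ← Submodule.isTorsionFree_iff_torsion_eq_bot]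
  infer_instance

/-- Stacks Tag 0ASJ: let A be a valuation ring, B an etale A-algebra and m a prime of B lying over the maximal ideal of A. Then the localization B_m is a valuation ring, the map A -> B_m is injective and local, and the extension is weakly unramified: every nonzero element of B_m is a unit multiple of the image of an element of A. -/
theorem result (A B : Type u) [CommRing A] [IsDomain A] [ValuationRing A]
    [CommRing B] [Algebra A B] [Algebra.Etale A B] (m : Ideal B) [m.IsPrime]
    (hm : m.comap (algebraMap A B) = IsLocalRing.maximalIdeal A) :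
    IsDomain (Localization.AtPrime m) ∧ (∀ _ : IsDomain (Localization.AtPrime m), ValuationRing (Localization.AtPrime m)) ∧
    Function.Injective (algebraMap A (Localization.AtPrime m)) ∧ IsLocalHom (algebraMap A (Localization.AtPrime m)) ∧
    ∀ b : Localization.AtPrime m, b ≠ 0 → ∃ (a : A) (u : (Localization.AtPrime m)ˣ),
      b = u * algebraMap A (Localization.AtPrime m) a := by
  have hAtot : ∀ a b : A, a ∣ b ∨ b ∣ a := ValuationRing.dvd_total
  have hB : ∀ J : Ideal B, Module.Flat B J :=
    Etalg.WeakDimEtale.flat_ideals_of_weaklyEtale (flat_ideals_of_valuationRing A)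
  have hB' : ∀ (p : Ideal B) [p.IsPrime], ∃ _ : IsDomain (Localization.AtPrime p),
      ValuationRing (Localization.AtPrime p) :=
    ((Groth.Agent.S1969.result B).out 0 3).mp hB
  obtain ⟨hdom, hval⟩ := hB' m
  have hflat : Module.Flat A (Localization.AtPrime m) := Module.Flat.trans A B _
  have hloc : IsLocalHom (algebraMap A (Localization.AtPrime m)) := by
    constructor
    intro a ha
    by_contra hna
    have h1 : a ∈ m.comap (algebraMap A B) := by
      rw [hm]; exact hna
    rw [IsScalarTower.algebraMap_apply A B] at ha
    have := (IsLocalization.AtPrime.isUnit_to_map_iff (Localization.AtPrime m) m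
      (algebraMap A B a)).mp ha
    exact this h1
  have hff : Module.FaithfullyFlat A (Localization.AtPrime m) :=
    Module.FaithfullyFlat.of_flat_of_isLocalHom
  refine ⟨hdom, fun _ => hval, FaithfulSMul.algebraMap_injective A _, hloc, fun b hb => ?_⟩
  obtain ⟨a, ha⟩ := Etalg.EtaleValuation.exists_span_eq_of_etale hAtot m b
  obtain ⟨u, hu⟩ := Ideal.span_singleton_eq_span_singleton.mp ha
  refine ⟨a, u⁻¹, ?_⟩
  rw [← hu, mul_comm b, Units.inv_mul_cancel_left]

end Groth.Agent.S1963
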