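import Groth.Statements.S1965
import Groth.Agent.Etalg.HenselNewton
import Mathlib.RingTheory.Noetherian.Nilpotent
import Mathlib.RingTheory.KrullDimension.Field
import Mathlib.Tactic.LinearCombination

set_option autoImplicit false
universe u
open Polynomial
open EtAlg

namespace Groth.Agent.S1965

/-- a nonzero ideal of a one-dimensional noetherian local domain contains a power of the maximal ideal -/
theorem exists_pow_le {A : Type u} [CommRing A] [IsDomain A] [IsLocalRing A] [IsNoetherianRing A]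
    (hdim : ringKrullDim A = 1) (J : Ideal A) (hJ : J ≠ ⊥) :
    ∃ n, IsLocalRing.maximalIdeal A ^ n ≤ J := by
  have : Ring.KrullDimLE 1 A := by
    rw [Ring.KrullDimLE, Order.krullDimLE_iff]
    exact hdim.le
  refine Ideal.exists_pow_le_of_le_radical_of_fg ?_ (IsNoetherian.noetherian _)
  rw [Ideal.radical_eq_sInf, le_sInf_iff]
  rintro p ⟨hp, hpp⟩
  have hp0 : p ≠ ⊥ := fun h => hJ (le_bot_iff.mp (h ▸ hp))
  have hmax := Ideal.IsPrime.isMaximal_of_ne_bot hpp hp0
  exact (IsLocalRing.eq_maximalIdeal hmax).ge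

theorem eval_mem {A : Type u} [CommRing A] (I : Ideal A) (Q : A[X]) (h : ∀ i, Q.coeff i ∈ I) (a : A) :
    Q.eval a ∈ I := by
  rw [eval_eq_sum_range]
  exact I.sum_mem fun i _ => I.mul_mem_right _ (h i)

theorem derivative_coeff_mem {A : Type u} [CommRing A] (I : Ideal A) (Q : A[X]) (h : ∀ i, Q.coeff i ∈ I) :
    ∀ i, (derivative Q).coeff i ∈ I := by
  intro i
  rw [coeff_derivative]
  exact I.mul_mem_right _ (h _)

/-- Stacks Tag 09EI: let A be a complete Noetherian local domain of Krull dimension 1 with maximal ideal m, P a polynomial over A and α a root of P which is not a root of the derivative P'. Then for every c there is an n such that for every polynomial Q all of whose coefficients lie in m^n, the polynomial P + Q has a root β with β - α in m^c. -/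
theorem result (A : Type u) [CommRing A] [IsDomain A] [IsLocalRing A] [IsNoetherianRing A]
    [IsAdicComplete (IsLocalRing.maximalIdeal A) A] (hdim : ringKrullDim A = 1) (P : A[X]) (α : A)
    (hα : P.eval α = 0) (hα' : (derivative P).eval α ≠ 0) (c : ℕ) :
    ∃ n : ℕ, ∀ Q : A[X], (∀ i, Q.coeff i ∈ IsLocalRing.maximalIdeal A ^ n) →
      ∃ β : A, (P + Q).eval β = 0 ∧ β - α ∈ IsLocalRing.maximalIdeal A ^ c := by
  set m := IsLocalRing.maximalIdeal A with hm
  set π := (derivative P).eval α with hπ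
  have hm0 : m ≠ ⊥ := by
    intro h0
    have hf : IsField A := IsLocalRing.isField_iff_maximalIdeal_eq.mpr h0
    have : ringKrullDim A = 0 := ringKrullDim_eq_zero_of_isField hf
    rw [hdim] at this
    exact one_ne_zero this
  have hJ : Ideal.span {π ^ 2} * m ^ (c + 1) ≠ ⊥ := by
    rw [Ne, Ideal.mul_eq_bot, not_or]
    refine ⟨?_, ?_⟩
    · rw [Ideal.span_singleton_eq_bot]
      exact pow_ne_zero _ hα'
    · exact pow_ne_zero (M₀ := Ideal A) (c + 1) hm0
  obtain ⟨n, hn⟩ := exists_pow_le hdim _ hJ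
  refine ⟨n, fun Q hQ => ?_⟩
  have h0 : Q.eval α ∈ Ideal.span {π ^ 2} * m ^ (c + 1) := hn (eval_mem _ Q hQ α)
  have h1 : (derivative Q).eval α ∈ Ideal.span {π ^ 2} * m ^ (c + 1) :=
    hn (eval_mem _ _ (derivative_coeff_mem _ Q hQ) α)
  rw [Ideal.mem_span_singleton_mul] at h0 h1
  obtain ⟨q0, hq0, hq0'⟩ := h0
  obtain ⟨q1, hq1, hq1'⟩ := h1
  have hle : m ^ (c + 1) ≤ m := Ideal.pow_le_self (Nat.succ_ne_zero c)
  have hunit : IsUnit (1 + π * q1) := by
    have : π * q1 ∈ m := m.mul_mem_left _ (hle hq1)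
    have h2 := Groth.Agent.Etalg.HenselNewton.isUnit_of_sub_mem
      (I := m) (IsLocalRing.maximalIdeal_le_jacobson ⊥) (u := 1) (z := 1 + π * q1) isUnit_one (by simpa using this)
    exact h2
  let T : A[X] := (taylor α (P + Q)).divX.divX
  obtain ⟨γ, hγ, hdvd⟩ := Groth.Agent.Etalg.HenselNewton.exists_root_aux (I := m) q0 (1 + π * q1)
    (hle hq0) hunit (T.comp (C π * X))
  refine ⟨α + π * γ, ?_, ?_⟩
  · rw [Groth.Agent.Etalg.HenselNewton.eval_add_eq]
    simp only [derivative_add, eval_add, hα, zero_add]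
    rw [← hq0', ← hq1', ← hπ]
    have hT : eval γ (T.comp (C π * X)) = eval (π * γ) T := by
      rw [eval_comp]; simp
    rw [hT] at hγ
    change π ^ 2 * q0 + (π + π ^ 2 * q1) * (π * γ) + (π * γ) ^ 2 * eval (π * γ) T = 0
    linear_combination (π ^ 2) * hγ
  · rw [add_sub_cancel_left]
    refine Ideal.mul_mem_left _ _ ?_
    exact Ideal.pow_le_pow_right (Nat.le_succ c) (Ideal.mem_of_dvd _ hdvd hq0)

end Groth.Agent.S1965
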