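import Groth.Statements.S1966
import Mathlib.Dynamics.Newton
import Mathlib.RingTheory.Nilpotent.Basic

set_option autoImplicit false
universe u
open EtAlg

namespace Groth.Agent.S1966

/-- Stacks Tag 0CT7 (towers indexed by the natural numbers): let (A_k) be rings with surjective transition maps A_{k+1} -> A_k whose kernels consist of nilpotent elements, and let A be a ring with compatible projections p_k : A -> A_k identifying A with the set of compatible sequences (p is jointly injective and every compatible sequence comes from an element of A). Then for every k the pair (A, ker p_k) is henselian. -/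
theorem result (A : Type u) [CommRing A] (As : ℕ → Type u) [∀ k, CommRing (As k)]
    (t : ∀ k, As (k + 1) →+* As k) (ht : ∀ k, Function.Surjective (t k))
    (hnil : ∀ k (x : As (k + 1)), t k x = 0 → IsNilpotent x)
    (p : ∀ k, A →+* As k) (hp : ∀ k, (t k).comp (p (k + 1)) = p k)
    (hinj : ∀ a b : A, (∀ k, p k a = p k b) → a = b)
    (hsurj : ∀ x : ∀ k, As k, (∀ k, t k (x (k + 1)) = x k) → ∃ a : A, ∀ k, p k a = x k) (k : ℕ) :
    HenselianRing A (RingHom.ker (p k)) := by
  -- elements dying in `As k` are nilpotent in every `As j`
  have hle : ∀ j i (x : A), p (j + i) x = 0 → p j x = 0 := by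
    intro j i x
    induction i with
    | zero => exact fun h => h
    | succ i ih =>
      intro h
      apply ih
      have h1 : t (j + i) (p (j + i + 1) x) = p (j + i) x := RingHom.congr_fun (hp (j + i)) x
      rw [← h1, show p (j + i + 1) x = 0 from h, map_zero]
  have hnilp : ∀ x : A, IsNilpotent (p k x) → ∀ i, IsNilpotent (p (k + i) x) := by
    intro x hx i
    induction i with
    | zero => exact hx
    | succ i ih =>
      obtain ⟨n, hn⟩ := ih
      have h1 : t (k + i) (p (k + i + 1) x) = p (k + i) x := RingHom.congr_fun (hp (k + i)) x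
      have h2 : IsNilpotent ((p (k + i + 1) x) ^ n) := by
        apply hnil
        rw [map_pow, h1, hn]
      obtain ⟨m, hm⟩ := h2
      exact ⟨n * m, by rw [pow_mul]; exact hm⟩
  have hnilp' : ∀ x : A, p k x = 0 → ∀ j, IsNilpotent (p j x) := by
    intro x hx j
    rcases le_total j k with h | h
    · obtain ⟨i, rfl⟩ := Nat.exists_eq_add_of_le h
      rw [hle j i x hx]
      exact IsNilpotent.zero
    · obtain ⟨i, rfl⟩ := Nat.exists_eq_add_of_le h
      exact hnilp x (hx ▸ IsNilpotent.zero) i
  have hunit : ∀ x : A, (∀ j, IsUnit (p j x)) → IsUnit x := by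
    intro x hx
    choose v hv using fun j => isUnit_iff_exists_inv.mp (hx j)
    obtain ⟨b, hb⟩ := hsurj v (by
      intro j
      have h1 : t j (p (j + 1) x) = p j x := RingHom.congr_fun (hp j) x
      have h2 := congrArg (t j) (hv (j + 1))
      rw [map_mul, h1, map_one] at h2
      calc t j (v (j + 1)) = t j (v (j + 1)) * (p j x * v j) := by rw [hv j, mul_one]
        _ = (p j x * t j (v (j + 1))) * v j := by ring
        _ = v j := by rw [h2, one_mul])
    refine isUnit_iff_exists_inv.mpr ⟨b, hinj _ _ fun j => ?_⟩
    rw [map_mul, hb, hv, map_one]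
  have hker : ∀ x ∈ RingHom.ker (p k), ∀ y, IsUnit (x * y + 1) := by
    intro x hx y
    apply hunit
    intro j
    rw [map_add, map_one]
    have h1 : IsNilpotent (p j (x * y)) := hnilp' _ (by rw [map_mul, hx, zero_mul]) j
    exact h1.isUnit_add_one
  refine ⟨fun x hx => ?_, ?_⟩
  · rw [Ideal.mem_jacobson_bot]
    exact hker x hx
  · intro f _ a₀ h1 h2
    obtain ⟨b, hb⟩ := isUnit_iff_exists_inv.mp h2
    obtain ⟨b, rfl⟩ := Ideal.Quotient.mk_surjective b
    rw [← map_mul, ← map_one (Ideal.Quotient.mk _), Ideal.Quotient.eq] at hb
    -- at every level there is a unique root near `a₀`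
    have hder : ∀ j, IsUnit (p j (f.derivative.eval a₀)) := by
      intro j
      have h3 : IsNilpotent (p j (f.derivative.eval a₀ * b - 1)) := hnilp' _ hb j
      have h4 : IsUnit (p j (f.derivative.eval a₀ * b - 1) + 1) := h3.isUnit_add_one
      rw [map_sub, map_one, sub_add_cancel, map_mul] at h4
      exact isUnit_of_mul_isUnit_left h4
    have hroot : ∀ j, ∃! r : As j, IsNilpotent (p j a₀ - r) ∧
        Polynomial.aeval r (f.map (p j)) = 0 := by
      intro j
      apply Polynomial.existsUnique_nilpotent_sub_and_aeval_eq_zero
      · rw [Polynomial.coe_aeval_eq_eval, Polynomial.eval_map_apply]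
        exact hnilp' _ h1 j
      · rw [Polynomial.coe_aeval_eq_eval, Polynomial.derivative_map, Polynomial.eval_map_apply]
        exact hder j
    simp only [Polynomial.coe_aeval_eq_eval] at hroot
    choose r hr hr' using hroot
    obtain ⟨a, ha⟩ := hsurj r (by
      intro j
      apply hr' j
      have h3 : t j (p (j + 1) a₀) = p j a₀ := RingHom.congr_fun (hp j) a₀
      refine ⟨?_, ?_⟩
      · have := (hr (j + 1)).1.map (t j)
        rwa [map_sub, h3] at this
      · have := congrArg (t j) (hr (j + 1)).2
        rw [map_zero, ← Polynomial.eval_map_apply, Polynomial.map_map, hp] at this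
        exact this)
    refine ⟨a, ?_, ?_⟩
    · rw [Polynomial.IsRoot]
      apply hinj
      intro j
      rw [map_zero, ← Polynomial.eval_map_apply, ha]
      exact (hr j).2
    · rw [RingHom.mem_ker, map_sub, ha, sub_eq_zero]
      symm
      apply hr' k
      refine ⟨by rw [sub_self]; exact IsNilpotent.zero, ?_⟩
      rw [Polynomial.eval_map_apply]
      exact h1

end Groth.Agent.S1966
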