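import Groth.Statements.S1971
import Groth.Agent.S0525

set_option autoImplicit false
universe u
open EtAlg

namespace Groth.Agent.S1971

theorem le_radical_map {A B : Type u} [CommRing A] [CommRing B] (f : A →+* B) (I J : Ideal A)
    (h : I.radical = J.radical) : J.map f ≤ (I.map f).radical := by
  rw [Ideal.map_le_iff_le_comap]
  intro x hx
  have h1 : x ∈ I.radical := by rw [h]; exact Ideal.le_radical hx
  obtain ⟨n, hn⟩ := h1
  refine ⟨n, ?_⟩
  rw [← map_pow]
  exact Ideal.mem_map_of_mem f hn

theorem radical_map_eq {A B : Type u} [CommRing A] [CommRing B] (f : A →+* B) (I J : Ideal A)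
    (h : I.radical = J.radical) : (I.map f).radical = (J.map f).radical := by
  apply le_antisymm
  · rw [← Ideal.radical_idem (J.map f)]
    exact Ideal.radical_mono (le_radical_map f J I h.symm)
  · rw [← Ideal.radical_idem (I.map f)]
    exact Ideal.radical_mono (le_radical_map f I J h)

theorem mp (A : Type u) [CommRing A] (I J : Ideal A)
    (h : I.radical = J.radical) (B : Type u) [CommRing B] [Algebra A B]
    (H : Hens2.IsPairHenselization A I B) : Hens2.IsPairHenselization A J B := by
  refine ⟨(Groth.Agent.S0525.result B _ _ (radical_map_eq _ I J h)).mp H.1, ?_⟩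
  intro C _ K f hK hJ
  refine H.2 C K.radical f ((Groth.Agent.S0525.henselianRing_iff_radical C K).mp hK) ?_
  exact (le_radical_map f J I h.symm).trans (Ideal.radical_mono hJ)

/-- Stacks Tag 0F0L: let A be a ring with ideals I and J having the same zero locus in Spec A. Then an A-algebra is a henselization of the pair (A, I) if and only if it is a henselization of the pair (A, J). -/
theorem result (A : Type u) [CommRing A] (I J : Ideal A)
    (h : PrimeSpectrum.zeroLocus (I : Set A) = PrimeSpectrum.zeroLocus (J : Set A)) (B : Type u) [CommRing B] [Algebra A B] :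
    Hens2.IsPairHenselization A I B ↔ Hens2.IsPairHenselization A J B := by
  have hr : I.radical = J.radical := by
    rw [← PrimeSpectrum.vanishingIdeal_zeroLocus_eq_radical, h,
      PrimeSpectrum.vanishingIdeal_zeroLocus_eq_radical]
  exact ⟨mp A I J hr B, mp A J I hr.symm B⟩

end Groth.Agent.S1971
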