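import Groth.Statements.S1972
import Groth.Agent.Hensel.Exist
import Groth.Agent.Hensel.LazardPerm
import Groth.Agent.Hensel.EtalePerm

set_option autoImplicit false
universe u
open EtAlg

namespace Groth.Agent.S1972

open scoped TensorProduct

/-- Stacks Tag 0ASE: let R be a local ring and S a henselization or a strict henselization of R. Then the nilradical of S is the extension of the nilradical of R. -/
theorem result (R S : Type u) [CommRing R] [IsLocalRing R] [CommRing S] [IsLocalRing S]
    [Algebra R S] [IsLocalHom (algebraMap R S)]
    (h : Hensel.IsHenselization R S ∨ Hensel.IsStrictHenselization R S) :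
    (nilradical R).map (algebraMap R S) = nilradical S := by
  have hL : Groth.Agent.Hensel.LazardPerm.LazardEtale R S := by
    rcases h with h | h
    · exact (Groth.Agent.Hensel.Exist.isHull_of_isHenselization R S).lazard
    · exact (Groth.Agent.Hensel.Exist.isHull_of_isStrictHenselization R S).lazard
  apply le_antisymm
  · refine Ideal.map_le_iff_le_comap.mpr fun x hx => ?_
    rw [Ideal.mem_comap, mem_nilradical]
    exact (mem_nilradical.mp hx).map _
  · intro x hx
    obtain ⟨n, hn⟩ := mem_nilradical.mp hx
    obtain ⟨E, _, _, hE, b, t, ht, hT⟩ := hL.exists_relations (σ := Unit) (fun _ => x)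
      {MvPolynomial.X () ^ n} (by simpa using hn)
    have h1 : t () ^ n = 0 := by simpa using hT (MvPolynomial.X () ^ n) (by simp)
    have hred : IsReduced (R ⧸ nilradical R) := by
      rw [← Ideal.isRadical_iff_quotient_reduced]
      exact Ideal.radical_isRadical _
    have hred2 : IsReduced ((R ⧸ nilradical R) ⊗[R] E) :=
      Groth.Agent.Hensel.EtalePerm.isReduced_of_etale (R ⧸ nilradical R) _
    let e := Algebra.TensorProduct.quotIdealMapEquivTensorQuot E (nilradical R)
    have h2 : IsReduced (E ⧸ (nilradical R).map (algebraMap R E)) := by
      have h3 : IsReduced (E ⊗[R] (R ⧸ nilradical R)) :=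
        isReduced_of_injective (Algebra.TensorProduct.comm R E (R ⧸ nilradical R)).toRingHom
          (Algebra.TensorProduct.comm R E (R ⧸ nilradical R)).injective
      exact isReduced_of_injective e.toRingHom e.injective
    have h4 : t () ∈ (nilradical R).map (algebraMap R E) := by
      rw [← Ideal.Quotient.eq_zero_iff_mem]
      exact IsReduced.eq_zero _ ⟨n, by rw [← map_pow, h1, map_zero]⟩
    have h5 := Ideal.mem_map_of_mem b.toRingHom h4
    rw [Ideal.map_map] at h5
    have e1 : b.toRingHom.comp (algebraMap R E) = algebraMap R S := by
      ext r; exact b.commutes r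
    have e2 : b.toRingHom (t ()) = x := ht ()
    rwa [e1, e2] at h5

end Groth.Agent.S1972
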