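import Groth.Statements.S1973
import Groth.Agent.Etalg.WeakDimEtale
import Groth.Agent.S1969
import Mathlib.RingTheory.Flat.TorsionFree
import Mathlib.RingTheory.Etale.Pi
import Mathlib.RingTheory.DedekindDomain.Dvr
import Mathlib.RingTheory.DiscreteValuationRing.TFAE
import Mathlib.RingTheory.Ideal.MinimalPrime.Noetherian
import Mathlib.RingTheory.LocalProperties.Reduced
import Mathlib.RingTheory.FiniteType
import Mathlib.RingTheory.Ideal.Quotient.Operations

set_option autoImplicit false
universe u
open EtAlg

namespace Groth.Agent.S1973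

/-- A minimal prime contained in a maximal ideal `m` such that `B_m` is a domain is the kernel of
`B → B_m`. -/
theorem minimalPrime_eq_ker {B : Type u} [CommRing B] (m : Ideal B) [m.IsPrime]
    [IsDomain (Localization.AtPrime m)] (p : Ideal B) (hp : p ∈ minimalPrimes B) (hpm : p ≤ m) :
    p = RingHom.ker (algebraMap B (Localization.AtPrime m)) := by
  have hK : (RingHom.ker (algebraMap B (Localization.AtPrime m))).IsPrime := RingHom.ker_isPrime _
  have hpp : p.IsPrime := hp.1.1
  refine le_antisymm (hp.2 ⟨hK, bot_le⟩ ?_) ?_
  all_goals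
    intro x hx
    obtain ⟨s, hs⟩ := (IsLocalization.map_eq_zero_iff m.primeCompl (Localization.AtPrime m) x).mp hx
    have h0 : (s : B) * x ∈ p := by rw [hs]; exact zero_mem _
    exact (hpp.mem_or_mem h0).resolve_left fun h => s.2 (hpm h)

/-- A noetherian ring whose local rings are domains is the product of finitely many domains. -/
theorem exists_decomposition (B : Type u) [CommRing B] [IsNoetherianRing B]
    (h : ∀ (m : Ideal B) [m.IsPrime], IsDomain (Localization.AtPrime m)) :
    ∃ (n : ℕ) (p : Fin n → Ideal B), (∀ i, (p i).IsPrime) ∧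
      Pairwise (Function.onFun IsCoprime p) ∧ ⨅ i, p i = ⊥ := by
  have hfin : (minimalPrimes B).Finite := minimalPrimes.finite_of_isNoetherianRing B
  have : Finite (minimalPrimes B) := hfin
  obtain ⟨n, ⟨e⟩⟩ := Finite.exists_equiv_fin (minimalPrimes B)
  refine ⟨n, fun i => (e.symm i).1, fun i => (e.symm i).2.1.1, fun i j hij => ?_, ?_⟩
  · change IsCoprime (e.symm i).1 (e.symm j).1
    rw [Ideal.isCoprime_iff_sup_eq]
    by_contra hne
    obtain ⟨m, hm, hle⟩ := Ideal.exists_le_maximal _ hne
    have := h m
    have h1 := minimalPrime_eq_ker m _ (e.symm i).2 (le_sup_left.trans hle)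
    have h2 := minimalPrime_eq_ker m _ (e.symm j).2 (le_sup_right.trans hle)
    exact hij (e.symm.injective (Subtype.ext (h1.trans h2.symm)))
  · have hred : IsReduced B := isReduced_ofLocalizationMaximal B fun m _ => by
      have := h m
      infer_instance
    rw [eq_bot_iff]
    intro x hx
    rw [Ideal.mem_iInf] at hx
    have h1 : x ∈ sInf (minimalPrimes B) := by
      rw [Ideal.mem_sInf]
      intro p hp
      have := hx (e ⟨p, hp⟩)
      simpa using this
    rw [show minimalPrimes B = (⊥ : Ideal B).minimalPrimes from rfl, Ideal.sInf_minimalPrimes] at h1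
    have h2 : IsNilpotent x := mem_nilradical.mp h1
    exact h2.eq_zero

theorem isDVR_of_etale_dedekind (A B : Type u) [CommRing A] [IsDedekindDomain A] [CommRing B] [Algebra A B]
    [Algebra.Etale A B] (q : Ideal B) [q.IsPrime] :
    ∃ _ : IsDomain (Localization.AtPrime q), ¬ IsField (Localization.AtPrime q) →
      IsDiscreteValuationRing (Localization.AtPrime q) := by
  have hB : ∀ J : Ideal B, Module.Flat B J :=
    Etalg.WeakDimEtale.flat_ideals_of_weaklyEtale (A := A) (fun I => inferInstance)
  have hB' : ∀ (p : Ideal B) [p.IsPrime], ∃ _ : IsDomain (Localization.AtPrime p),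
      ValuationRing (Localization.AtPrime p) :=
    ((Groth.Agent.S1969.result B).out 0 3).mp hB
  obtain ⟨h1, h2⟩ := hB' q
  have : IsNoetherianRing B := Algebra.FiniteType.isNoetherianRing A B
  have : IsNoetherianRing (Localization.AtPrime q) :=
    IsLocalization.isNoetherianRing q.primeCompl _ inferInstance
  exact ⟨h1, fun hf => ((IsDiscreteValuationRing.TFAE _ hf).out 0 1).mpr h2⟩

/-- Stacks Tag 0AP2: let A be a Dedekind domain and B an etale A-algebra. Then B is isomorphic as a ring to a finite product of Dedekind domains, and for every maximal ideal q of B whose localization is not a field, the localization B_q is a discrete valuation ring. (The source states the last claim for all maximal ideals; it fails for field factors, e.g. A a DVR with uniformizer π and B = A[1/π], so the guard is needed.) -/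
theorem result (A B : Type u) [CommRing A] [IsDedekindDomain A] [CommRing B] [Algebra A B]
    [Algebra.Etale A B] :
    (∃ (n : ℕ) (D : Fin n → Type u) (_ : ∀ i, CommRing (D i)) (_ : ∀ i, IsDedekindDomain (D i)),
      Nonempty (B ≃+* ∀ i, D i)) ∧
    ∀ (q : Ideal B) [q.IsMaximal], ¬ IsField (Localization.AtPrime q) →
      ∃ _ : IsDomain (Localization.AtPrime q), IsDiscreteValuationRing (Localization.AtPrime q) := by
  have hnoeth : IsNoetherianRing B := Algebra.FiniteType.isNoetherianRing A B
  refine ⟨?_, fun q _ hq => ?_⟩
  · obtain ⟨n, p, hp, hco, hinf⟩ := exists_decomposition B fun m _ =>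
      (isDVR_of_etale_dedekind A B m).1
    let e0 : B ≃ₐ[A] ∀ i, B ⧸ p i := AlgEquiv.ofBijective
      (AlgHom.pi fun i => Ideal.Quotient.mkₐ A (p i)) (by
        constructor
        · rw [injective_iff_map_eq_zero]
          intro x hx
          have h1 : x ∈ ⨅ i, p i := by
            rw [Ideal.mem_iInf]
            intro i
            exact Ideal.Quotient.eq_zero_iff_mem.mp (congrFun hx i)
          rw [hinf] at h1
          exact h1
        · intro y
          obtain ⟨x, hx⟩ := Ideal.pi_quotient_surjective hco y
          exact ⟨x, funext fun i => hx i⟩)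
    have hfe : Algebra.FormallyEtale A (∀ i, B ⧸ p i) := Algebra.FormallyEtale.of_equiv e0
    have hfe' : ∀ i, Algebra.FormallyEtale A (B ⧸ p i) := (Algebra.FormallyEtale.pi_iff _).mp hfe
    have hded : ∀ i, IsDedekindDomain (B ⧸ p i) := by
      intro i
      have := hp i
      have hft : Algebra.FiniteType A (B ⧸ p i) := inferInstance
      have hfp : Algebra.FinitePresentation A (B ⧸ p i) :=
        Algebra.FinitePresentation.of_finiteType.mp hft
      have het : Algebra.Etale A (B ⧸ p i) := ⟨hfe' i, hfp⟩
      have hno : IsNoetherianRing (B ⧸ p i) := inferInstance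
      have : IsDedekindDomainDvr (B ⧸ p i) :=
        { toIsNoetherian := hno
          is_dvr_at_nonzero_prime := fun P hP hPp =>
            (isDVR_of_etale_dedekind A (B ⧸ p i) P).2 (IsLocalization.AtPrime.not_isField (B ⧸ p i) hP _) }
      infer_instance
    exact ⟨n, fun i => B ⧸ p i, fun i => inferInstance, hded, ⟨e0.toRingEquiv⟩⟩
  · obtain ⟨h1, h2⟩ := isDVR_of_etale_dedekind A B q
    exact ⟨h1, h2 hq⟩

end Groth.Agent.S1973
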