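import Groth.Statements.S1974
import Groth.Agent.Proet.WEtale2

set_option autoImplicit false
universe u
open EtAlg

namespace Groth.Agent.S1974

/-- Stacks Tag 092R: let A -> B be weakly etale and q a prime of B lying over the prime p of A. Then the residue field of q is a separable algebraic extension of the residue field of p. -/
theorem result (A B : Type u) [CommRing A] [CommRing B] [Algebra A B]
    [Algebra.WeaklyEtale A B] (p : Ideal A) [p.IsPrime] (q : Ideal B) [q.IsPrime] [q.LiesOver p]
    [Algebra (Localization.AtPrime p) (Localization.AtPrime q)] [Localization.AtPrime.IsLiesOverAlgebra p q] :
    Algebra.IsSeparable p.ResidueField q.ResidueField := by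
  exact Proet.WEtale2.isSeparable_residueField A B p q

end Groth.Agent.S1974
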