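import Groth.Statements.S1978
import Groth.Agent.Etalg.MaxWEt
import Groth.Agent.Etalg.SepBaseChange

set_option autoImplicit false
universe u
open TensorProduct
open EtAlg

namespace Groth.Agent.S1978

/-- Stacks Tag 0CKU: let L/K be a field extension and A a K-algebra. Then the largest weakly etale L-subalgebra of L ⊗_K A is the L-subalgebra generated by the image of the largest weakly etale K-subalgebra of A. -/
theorem result (K L : Type u) [Field K] [Field L] [Algebra K L] (A : Type u) [CommRing A] [Algebra K A] :
    EtAlgD.maxWeaklyEtale L (L ⊗[K] A) =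
      Algebra.adjoin L ((Algebra.TensorProduct.includeRight : A →ₐ[K] L ⊗[K] A) '' (EtAlgD.maxWeaklyEtale K A : Set A)) := by
  rw [Groth.Agent.Etalg.MaxWEt.maxWeaklyEtale_eq K A]
  exact (Groth.Agent.Etalg.MaxWEt.maxWeaklyEtale_eq L (L ⊗[K] A)).trans Groth.Agent.Etalg.SepBaseChange.sepElt_baseChange

end Groth.Agent.S1978
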