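import Groth.Statements.S1980
import Groth.Agent.Etalg.SolGood
import Groth.Agent.Etalg.SolFinal
import Groth.Agent.Etalg.EssTrdeg

set_option autoImplicit false
universe u
open EtAlg

namespace Groth.Agent.S1980

open Groth.Agent.Etalg.ResInd Groth.Agent.Etalg.ResAlgInd IsLocalRing IntermediateField EtRam
  Groth.Agent.Etalg.RamBasic

/-- the residual algebraic independence in a big valued field -/
theorem rli_of_residual {A B K L Ω : Type u} [CommRing A] [IsDomain A] [IsDiscreteValuationRing A]
    [CommRing B] [IsDomain B] [IsDiscreteValuationRing B] [Algebra A B] [IsLocalHom (algebraMap A B)]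
    [Field K] [Field L] [Algebra A K] [IsFractionRing A K] [Algebra B L] [IsFractionRing B L]
    [Algebra K L] [Algebra A L] [IsScalarTower A K L] [IsScalarTower A B L]
    [Field Ω] [Algebra L Ω] [Algebra K Ω] [IsScalarTower K L Ω]
    (O : ValuationSubring Ω) (hO : Dominates B ((algebraMap L Ω).comp (algebraMap B L)) O)
    {r : ℕ} (y : Fin r → B) (hy : AlgebraicIndependent (ResidueField A) (fun i => residue B (y i))) :
    IsDiscreteValuationRing (O.comap (algebraMap K Ω)) ∧
      RLI O (Set.range (algebraMap K Ω)) (mon fun i => algebraMap L Ω (algebraMap B L (y i))) := by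
  have hcomp : ∀ a : A, algebraMap K Ω (algebraMap A K a) = algebraMap L Ω (algebraMap B L (algebraMap A B a)) := by
    intro a
    rw [IsScalarTower.algebraMap_apply K L Ω, ← IsScalarTower.algebraMap_apply A K L,
      IsScalarTower.algebraMap_apply A B L]
  have hOA : Dominates A ((algebraMap K Ω).comp (algebraMap A K)) O := by
    refine ⟨fun a => ?_, fun a ha => ?_⟩
    · show algebraMap K Ω (algebraMap A K a) ∈ O
      rw [hcomp]; exact hO.1 _
    · show O.valuation (algebraMap K Ω (algebraMap A K a)) < 1
      rw [hcomp]
      refine hO.2 _ ?_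
      rw [mem_maximalIdeal, mem_nonunits_iff] at ha ⊢
      exact fun hu => ha (isUnit_of_map_unit (algebraMap A B) a hu)
  have hcomapK : O.comap (algebraMap K Ω) = vsub A K := (dominates_comp_algebraMap_iff _).1 hOA
  have dK : IsDiscreteValuationRing (O.comap (algebraMap K Ω)) := by rw [hcomapK]; infer_instance
  refine ⟨dK, ?_⟩
  let ψ : B →+* O := ((algebraMap L Ω).comp (algebraMap B L)).codRestrict O hO.1
  have hψ : IsLocalHom ψ := Dominates.isLocalHom hO
  have hA1 : ∀ a : A, algebraMap A K a ∈ O.comap (algebraMap K Ω) := fun a => hOA.1 a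
  let φ : A →+* O.comap (algebraMap K Ω) := (algebraMap A K).codRestrict _ hA1
  have hφ : IsLocalHom φ := by
    have h1 : Dominates A (algebraMap A K) (O.comap (algebraMap K Ω)) := by
      rw [← dominates_comp_iff]; exact hOA
    exact Dominates.isLocalHom h1
  let i0 : Algebra (ResidueField (O.comap (algebraMap K Ω))) (ResidueField O) :=
    (ResidueField.map (inclOfComap O (algebraMap K Ω))).toAlgebra
  let i1 : Algebra (ResidueField A) (ResidueField (O.comap (algebraMap K Ω))) := (ResidueField.map φ).toAlgebra
  let i2 : Algebra (ResidueField A) (ResidueField O) :=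
    ((ResidueField.map ψ).comp (algebraMap (ResidueField A) (ResidueField B))).toAlgebra
  have t : IsScalarTower (ResidueField A) (ResidueField (O.comap (algebraMap K Ω))) (ResidueField O) := by
    refine IsScalarTower.of_algebraMap_eq fun x => ?_
    obtain ⟨a, rfl⟩ := residue_surjective x
    show residue O (ψ (algebraMap A B a)) = residue O (inclOfComap O (algebraMap K Ω) (φ a))
    congr 1
    exact Subtype.ext (hcomp a).symm
  have hsurj : Function.Surjective (algebraMap (ResidueField A) (ResidueField (O.comap (algebraMap K Ω)))) := by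
    intro x
    obtain ⟨x, rfl⟩ := residue_surjective x
    have hx : (x : K) ∈ vsub A K := hcomapK ▸ x.2
    obtain ⟨a, ha⟩ := (mem_vsub_iff A K _).1 hx
    refine ⟨residue A a, ?_⟩
    show residue _ (φ a) = residue _ x
    congr 1
    exact Subtype.ext ha
  have halg : Algebra.IsAlgebraic (ResidueField A) (ResidueField (O.comap (algebraMap K Ω))) := ⟨fun x => by
    obtain ⟨a, rfl⟩ := hsurj x
    exact isAlgebraic_algebraMap a⟩
  let ψ' : ResidueField B →ₐ[ResidueField A] ResidueField O :=
    { ResidueField.map ψ with commutes' := fun _ => rfl }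
  have hind : AlgebraicIndependent (ResidueField A) (fun i => residue O (ψ (y i))) :=
    hy.map' (f := ψ') (ResidueField.map ψ).injective
  exact (rli_mon_iff (algebraMap K Ω) (fun i => ψ (y i))).2
    (hind.extendScalars (ResidueField (O.comap (algebraMap K Ω))))

/-- Stacks Tag 09II: let A -> B be an extension of discrete valuation rings with fraction fields K ⊂ L such that B is essentially of finite type over A. Then there is a finite extension K₁ of K which is a solution for A -> B: for every compositum M of L and K₁ and every valuation subring W of M dominating B, the extension W ∩ K₁ -> W is weakly unramified with separable (geometrically reduced, possibly transcendental) residue field extension (equivalently, formally smooth for the adic topology). -/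
theorem result (A B K L : Type u) [CommRing A] [IsDomain A] [IsDiscreteValuationRing A]
    [CommRing B] [IsDomain B] [IsDiscreteValuationRing B] [Algebra A B] [IsLocalHom (algebraMap A B)]
    (hinj : Function.Injective (algebraMap A B))
    [Field K] [Field L] [Algebra A K] [IsFractionRing A K] [Algebra B L] [IsFractionRing B L]
    [Algebra K L] [Algebra A L] [IsScalarTower A K L] [IsScalarTower A B L] [Algebra.EssFiniteType A B] :
    ∃ (K₁ : Type u) (_ : Field K₁) (_ : Algebra K K₁) (_ : FiniteDimensional K K₁), EtRam.IsSolution B K L K₁ := by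
  classical
  obtain ⟨r, y, hy, hyalg⟩ := Groth.Agent.Etalg.EssTrdeg.exists_residual_basis (A := A) (B := B) (K := K) (L := L) hinj
  let Ω := AlgebraicClosure L
  obtain ⟨O, hO⟩ := exists_dominates ((algebraMap L Ω).comp (algebraMap B L))
  obtain ⟨dK, hrli⟩ := rli_of_residual (A := A) (K := K) O hO y hy
  -- generators
  have e1 : Algebra.EssFiniteType B L := Algebra.EssFiniteType.of_isLocalization L (nonZeroDivisors B)
  have e2 : Algebra.EssFiniteType A L := Algebra.EssFiniteType.comp A B L
  have e3 : Algebra.EssFiniteType K L := Algebra.EssFiniteType.of_comp A K L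
  obtain ⟨T₀, hT₀⟩ : ∃ T₀ : Finset L, adjoin K (T₀ : Set L) = ⊤ := fg_top K L
  let T : Finset Ω := T₀.image (algebraMap L Ω)
  have hX : adjoin K (T : Set Ω) = (IsScalarTower.toAlgHom K L Ω).fieldRange := by
    have h1 : (T : Set Ω) = (IsScalarTower.toAlgHom K L Ω) '' (T₀ : Set L) := Finset.coe_image
    rw [h1, ← adjoin_map, hT₀]
    exact (AlgHom.fieldRange_eq_map _).symm
  let w : Fin r → Ω := fun i => algebraMap L Ω (algebraMap B L (y i))
  have hw1 : ∀ i, O.valuation (w i) ≤ 1 := fun i => (ValuationSubring.valuation_le_one_iff _ _).2 (hO.1 _)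
  have hwX : ∀ i, w i ∈ adjoin K (T : Set Ω) := fun i => by
    rw [hX]; exact ⟨_, rfl⟩
  have hTw : ∀ x ∈ T, IsAlgebraic (adjoin K (Set.range w)) x := by
    intro x hx
    obtain ⟨t, -, rfl⟩ := Finset.mem_image.1 hx
    let F := adjoin K (Set.range fun i => algebraMap B L (y i))
    have hF : ∀ z ∈ F, algebraMap L Ω z ∈ adjoin K (Set.range w) := by
      have h1 : F.map (IsScalarTower.toAlgHom K L Ω) = adjoin K (Set.range w) := by
        rw [adjoin_map, ← Set.range_comp]; rfl
      intro z hz
      rw [← h1]
      exact ⟨z, hz, rfl⟩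
    let φ : F →+* adjoin K (Set.range w) := ((algebraMap L Ω).comp (algebraMap F L)).codRestrict _ fun z => hF z z.2
    obtain ⟨P, hP0, hP⟩ : IsAlgebraic F t := Algebra.IsAlgebraic.isAlgebraic t
    refine ⟨P.map φ, (Polynomial.map_ne_zero_iff φ.injective).2 hP0, ?_⟩
    rw [Polynomial.aeval_def, Polynomial.eval₂_map]
    have h2 := Polynomial.hom_eval₂ P (algebraMap F L) (algebraMap L Ω) t
    have h3 : Polynomial.eval₂ (algebraMap F L) t P = 0 := hP
    rw [h3, map_zero] at h2
    exact h2.symm
  obtain ⟨E, hE, π, hπE, hπ, hgeo⟩ := Groth.Agent.Etalg.SolGood.exists_good T w hw1 hwX hTw hrli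
  rw [hX] at hπ hgeo
  let M₀ : IntermediateField K Ω := (IsScalarTower.toAlgHom K L Ω).fieldRange ⊔ E
  let f : E →+* M₀ := (IntermediateField.inclusion (le_sup_right : E ≤ M₀)).toRingHom
  exact Groth.Agent.Etalg.SolFinal.isSolution_of_good O hO E M₀ rfl f (fun _ => rfl) hπE hπ
    (hgeo M₀ rfl f fun _ => rfl)

end Groth.Agent.S1980
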