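import Groth.Statements.S1981
import Groth.Agent.Etalg.SepSol

set_option autoImplicit false
universe u
open EtAlg

namespace Groth.Agent.S1981

/-- Stacks Tag 0BRP: let A -> B be an extension of discrete valuation rings with fraction fields K ⊂ L such that B is essentially of finite type over A, A or B is a Nagata ring, and L/K is separable. Then there is a finite separable extension K₁ of K which is a solution for A -> B. -/
theorem result (A B K L : Type u) [CommRing A] [IsDomain A] [IsDiscreteValuationRing A]
    [CommRing B] [IsDomain B] [IsDiscreteValuationRing B] [Algebra A B] [IsLocalHom (algebraMap A B)]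
    (hinj : Function.Injective (algebraMap A B))
    [Field K] [Field L] [Algebra A K] [IsFractionRing A K] [Algebra B L] [IsFractionRing B L]
    [Algebra K L] [Algebra A L] [IsScalarTower A K L] [IsScalarTower A B L] [Algebra.EssFiniteType A B]
    (hN : CAlg.IsNagata A ∨ CAlg.IsNagata B) [Algebra.IsSeparable K L] :
    ∃ (K₁ : Type u) (_ : Field K₁) (_ : Algebra K K₁) (_ : FiniteDimensional K K₁) (_ : Algebra.IsSeparable K K₁),
      EtRam.IsSolution B K L K₁ := by
  have hfd : FiniteDimensional K L := Etalg.SepSol.finite_of_essFiniteType (A := A) (B := B)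
  obtain ⟨K₃, i1, i2, i3, i4, i5, ⟨ι⟩⟩ := Etalg.SepSol.exists_galois K L
  exact ⟨K₃, i1, i2, i3, i4, Etalg.SepSol.isSolution_of_normal ι⟩

end Groth.Agent.S1981
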