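import Groth.Statements.S1982
import Groth.Agent.Etalg.RamAbh

set_option autoImplicit false
universe u
open EtAlg

namespace Groth.Agent.S1982

/-- Stacks Tag 0BRM (Abhyankar's lemma): let A -> B be an extension of discrete valuation rings with fraction fields K ⊂ L and ramification index e; assume the residue characteristic of A is zero, or it is p with p not dividing e and the residue field extension of A -> B separable (in the general sense, i.e. geometrically reduced; it need not be algebraic). Let K₁/K be a finite extension. Then for every compositum M of L and K₁ and every valuation subring W of M dominating B such that e divides the ramification index of A -> W ∩ K₁, the extension W ∩ K₁ -> W is weakly unramified with separable (geometrically reduced) residue field extension. -/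
theorem result (A B K L : Type u) [CommRing A] [IsDomain A] [IsDiscreteValuationRing A]
    [CommRing B] [IsDomain B] [IsDiscreteValuationRing B] [Algebra A B] [IsLocalHom (algebraMap A B)]
    (hinj : Function.Injective (algebraMap A B))
    [Field K] [Field L] [Algebra A K] [IsFractionRing A K] [Algebra B L] [IsFractionRing B L]
    [Algebra K L] [Algebra A L] [IsScalarTower A K L] [IsScalarTower A B L]
    (htame : CharZero (IsLocalRing.ResidueField A) ∨
      ∃ p : ℕ, p.Prime ∧ CharP (IsLocalRing.ResidueField A) p ∧
        ¬ p ∣ Ideal.ramificationIdx' (IsLocalRing.maximalIdeal A) (IsLocalRing.maximalIdeal B) ∧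
        Algebra.IsGeometricallyReduced (IsLocalRing.ResidueField A) (IsLocalRing.ResidueField B))
    (K₁ : Type u) [Field K₁] [Algebra K K₁] [FiniteDimensional K K₁] :
    EtRam.ForallLocalExt B K L K₁ (fun M _ W f =>
      ∀ hA : ∀ a : A, (algebraMap K K₁) (algebraMap A K a) ∈ W.comap f,
        letI : Algebra A (W.comap f) := (RingHom.codRestrict ((algebraMap K K₁).comp (algebraMap A K)) (W.comap f) hA).toAlgebra
        letI : Algebra (W.comap f) W := (EtRam.inclOfComap W f).toAlgebra
        Ideal.ramificationIdx' (IsLocalRing.maximalIdeal A) (IsLocalRing.maximalIdeal B) ∣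
          Ideal.ramificationIdx' (IsLocalRing.maximalIdeal A) (IsLocalRing.maximalIdeal (W.comap f)) →
        EtRam.IsWeaklyUnramified (W.comap f) W ∧
          @Algebra.IsGeometricallyReduced (IsLocalRing.ResidueField (W.comap f)) (IsLocalRing.ResidueField W) _ _
            (IsLocalRing.ResidueField.map (EtRam.inclOfComap W f)).toAlgebra) := by
  intro M _ _ _ _ _ _ hadj W hW hA
  have hVdom := Groth.Agent.Etalg.RamAbh.dominates_comap (A := A) (B := B) (K := K) (L := L) (K₁ := K₁) (M := M) hW
  intro hdvd
  obtain ⟨he, hgeom⟩ : IsUnit ((Ideal.ramificationIdx' (IsLocalRing.maximalIdeal A) (IsLocalRing.maximalIdeal B) : ℕ) :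
      IsLocalRing.ResidueField A) ∧
      Algebra.IsGeometricallyReduced (IsLocalRing.ResidueField A) (IsLocalRing.ResidueField B) := by
    obtain ⟨π, hπ⟩ := IsDiscreteValuationRing.exists_irreducible A
    obtain ⟨ρ, hρ⟩ := IsDiscreteValuationRing.exists_irreducible B
    have h0 := (Groth.Agent.Etalg.RamApp.exists_unit_ramificationIdx hinj hπ hρ).1
    rcases htame with h | ⟨p, hp, hchar, hndvd, hg⟩
    · refine ⟨?_, Groth.Agent.Etalg.RamApp.isGeometricallyReduced_of_perfectField⟩
      rw [isUnit_iff_ne_zero, Nat.cast_ne_zero]
      exact h0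
    · refine ⟨?_, hg⟩
      rw [isUnit_iff_ne_zero, Ne, CharP.cast_eq_zero_iff _ p]
      exact hndvd
  have key := @Groth.Agent.Etalg.RamAbh.core A B K L _ _ _ _ _ _ _ _ _ _ _ _ _ _ _ _ _ _ hinj hgeom he K₁ _ _ _ M _ _ _ _ _ _
    hadj W hW (W.comap (algebraMap K₁ M)) hVdom
    (RingHom.codRestrict ((algebraMap K K₁).comp (algebraMap A K)) (W.comap (algebraMap K₁ M)) hA).toAlgebra
    (fun a => rfl) (EtRam.inclOfComap W (algebraMap K₁ M)).toAlgebra (fun x => rfl)
    (EtRam.isLocalHom_inclOfComap W (algebraMap K₁ M)) hdvd
  exact ⟨key.1, @Groth.Agent.Etalg.RamAbh.geomReduced_map (W.comap (algebraMap K₁ M)) W _ _ _ _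
    (EtRam.inclOfComap W (algebraMap K₁ M)).toAlgebra (EtRam.isLocalHom_inclOfComap W (algebraMap K₁ M)) key.2⟩

end Groth.Agent.S1982
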