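import Groth.Statements.S1984
import Groth.Agent.Etalg.DVRExt
import Groth.Agent.Etalg.RamDVR
import Mathlib.RingTheory.DedekindDomain.IntegralClosure

set_option autoImplicit false
universe u
open EtAlg

namespace Groth.Agent.S1984

section TotRam

open IsLocalRing

variable {A K K₁ : Type u} [CommRing A] [IsDomain A] [IsDiscreteValuationRing A] [Field K] [Algebra A K]
  [IsFractionRing A K] [Field K₁] [Algebra K K₁] [FiniteDimensional K K₁]

/-- A valuation subring of `K₁` containing `A` but not dominating `A` is everything. -/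
theorem eq_top_of_not_dominates (V : ValuationSubring K₁)
    (hA : ∀ a : A, (algebraMap K K₁).comp (algebraMap A K) a ∈ V)
    (hV : ¬ EtRam.Dominates A ((algebraMap K K₁).comp (algebraMap A K)) V) (x : K₁) : x ∈ V := by
  obtain ⟨ϖ, hϖ⟩ := IsDiscreteValuationRing.exists_irreducible A
  have h1 : ∃ a ∈ maximalIdeal A, ¬ V.valuation (algebraMap K K₁ (algebraMap A K a)) < 1 := by
    by_contra hcon
    push Not at hcon
    exact hV ⟨hA, hcon⟩
  obtain ⟨a, ha, hva⟩ := h1
  have hva' : V.valuation (algebraMap K K₁ (algebraMap A K a)) = 1 :=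
    le_antisymm ((V.valuation_le_one_iff _).mpr (hA a)) (not_lt.mp hva)
  have hinv : (algebraMap K K₁ (algebraMap A K ϖ))⁻¹ ∈ V := by
    rw [hϖ.maximalIdeal_eq, Ideal.mem_span_singleton] at ha
    obtain ⟨c, rfl⟩ := ha
    have h2 : (algebraMap K K₁ (algebraMap A K ϖ))⁻¹ =
        algebraMap K K₁ (algebraMap A K c) * (algebraMap K K₁ (algebraMap A K (ϖ * c)))⁻¹ := by
      have h0 : algebraMap K K₁ (algebraMap A K (ϖ * c)) ≠ 0 := by
        intro h; rw [h, map_zero] at hva'; exact zero_ne_one hva'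
      rw [map_mul, map_mul] at h0
      have h3 := left_ne_zero_of_mul h0
      have h4 := right_ne_zero_of_mul h0
      rw [map_mul, map_mul]
      field_simp
    rw [h2]
    apply V.mul_mem _ _ (hA c)
    rw [← V.valuation_le_one_iff, map_inv₀, hva', inv_one]
  have hK : ∀ y : K, algebraMap K K₁ y ∈ V := by
    intro y
    by_cases hy : y = 0
    · rw [hy, map_zero]; exact V.zero_mem
    obtain ⟨n, u, hn⟩ := IsDiscreteValuationRing.exists_units_eq_smul_zpow_of_irreducible hϖ hy
    rw [hn, Units.smul_def, Algebra.smul_def, map_mul, map_zpow₀]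
    apply V.mul_mem _ _ (hA u)
    obtain ⟨m, rfl | rfl⟩ := Int.eq_nat_or_neg n
    · rw [zpow_natCast]
      exact pow_mem (hA ϖ) m
    · rw [zpow_neg, zpow_natCast, ← inv_pow]
      exact pow_mem hinv m
  have hint : IsIntegral K x := Algebra.IsIntegral.isIntegral x
  exact Etalg.DVRExt.mem_of_isIntegralElem V (algebraMap K K₁) hK hint

/-- If there is a unique valuation subring dominating `A`, it is the integral closure of `A`. -/
theorem mem_iff_isIntegral [Algebra A K₁] [IsScalarTower A K K₁] (V : ValuationSubring K₁)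
    (hV : EtRam.Dominates A ((algebraMap K K₁).comp (algebraMap A K)) V)
    (huniq : ∀ V', EtRam.Dominates A ((algebraMap K K₁).comp (algebraMap A K)) V' → V' = V) (x : K₁) :
    x ∈ V ↔ IsIntegral A x := by
  have halg : algebraMap A K₁ = (algebraMap K K₁).comp (algebraMap A K) := IsScalarTower.algebraMap_eq A K K₁
  constructor
  · intro hx
    by_contra hcon
    have : x ∉ (integralClosure A K₁).toSubring := hcon
    have h0 : IsIntegrallyClosedIn (integralClosure A K₁).toSubring K₁ :=
      inferInstanceAs (IsIntegrallyClosedIn (integralClosure A K₁) K₁)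
    obtain ⟨V', hle, hxV'⟩ := Subring.exists_le_valuationSubring_of_isIntegrallyClosedIn this
    by_cases hd : EtRam.Dominates A ((algebraMap K K₁).comp (algebraMap A K)) V'
    · rw [huniq V' hd] at hxV'
      exact hxV' hx
    · refine hxV' (eq_top_of_not_dominates V' ?_ hd x)
      intro a
      apply hle
      show IsIntegral A _
      rw [← halg]
      exact isIntegral_algebraMap
  · intro hx
    apply Etalg.DVRExt.mem_of_isIntegralElem V _ hV.1
    rw [← halg]
    exact hx

/-- structure of the valuation ring of a totally ramified finite separable extension -/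
theorem facts [Algebra A K₁] [IsScalarTower A K K₁] [Algebra.IsSeparable K K₁] (V : ValuationSubring K₁)
    (hV : EtRam.Dominates A ((algebraMap K K₁).comp (algebraMap A K)) V)
    (huniq : ∀ V', EtRam.Dominates A ((algebraMap K K₁).comp (algebraMap A K)) V' → V' = V)
    (hres : Function.Surjective (fun a : A => IsLocalRing.residue V
      (RingHom.codRestrict ((algebraMap K K₁).comp (algebraMap A K)) V hV.1 a)))
    [Algebra A V] [IsScalarTower A V K₁] :
    Module.Finite A V ∧ ∃ ϖ : V, Irreducible ϖ ∧ (∀ y : V, ∃ (a : A) (r : V), y = algebraMap A V a + ϖ * r) ∧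
      (∀ a ∈ maximalIdeal A, ∃ r, algebraMap A V a = ϖ * r) ∧
      (∃ (n : ℕ) (a : A), a ∈ maximalIdeal A ∧ ∃ w, ϖ ^ n = algebraMap A V a * w) := by
  have halg : ∀ a : A, algebraMap A V a = RingHom.codRestrict ((algebraMap K K₁).comp (algebraMap A K)) V hV.1 a := by
    intro a
    apply Subtype.ext
    show algebraMap V K₁ (algebraMap A V a) = _
    rw [← IsScalarTower.algebraMap_apply A V K₁, IsScalarTower.algebraMap_apply A K K₁]
    rfl
  have hIC : IsIntegralClosure V A K₁ := by
    refine ⟨Subtype.val_injective, ?_⟩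
    intro x
    rw [← mem_iff_isIntegral V hV huniq x]
    constructor
    · intro hx; exact ⟨⟨x, hx⟩, rfl⟩
    · rintro ⟨y, rfl⟩; exact y.2
  have hfin : Module.Finite A V := IsIntegralClosure.finite A K K₁ V
  refine ⟨hfin, ?_⟩
  have hdvr : IsDiscreteValuationRing V := Etalg.RamDVR.isDVR_of_dominates hV
  obtain ⟨ϖ, hϖ⟩ := IsDiscreteValuationRing.exists_irreducible V
  obtain ⟨π, hπ⟩ := IsDiscreteValuationRing.exists_irreducible A
  have hmem : ∀ a ∈ maximalIdeal A, algebraMap A V a ∈ maximalIdeal V := by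
    intro a ha
    rw [V.valuation_lt_one_iff, halg a]
    exact hV.2 a ha
  refine ⟨ϖ, hϖ, ?_, ?_, ?_⟩
  · intro y
    obtain ⟨a, ha⟩ := hres (IsLocalRing.residue V y)
    dsimp only at ha
    rw [← halg a, eq_comm, ← sub_eq_zero, ← map_sub, IsLocalRing.residue_eq_zero_iff, hϖ.maximalIdeal_eq,
      Ideal.mem_span_singleton] at ha
    obtain ⟨r, hr⟩ := ha
    exact ⟨a, r, by rw [← hr]; ring⟩
  · intro a ha
    have := hmem a ha
    rw [hϖ.maximalIdeal_eq, Ideal.mem_span_singleton] at this
    exact this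
  · have hπ0 : algebraMap A V π ≠ 0 := by
      intro h0
      have h1 : algebraMap A K₁ π = 0 := by
        rw [IsScalarTower.algebraMap_apply A V K₁, h0, map_zero]
      rw [IsScalarTower.algebraMap_apply A K K₁, map_eq_zero, map_eq_zero_iff _ (IsFractionRing.injective A K)] at h1
      exact hπ.ne_zero h1
    obtain ⟨n, u, hu⟩ := IsDiscreteValuationRing.associated_pow_irreducible hπ0 hϖ
    exact ⟨n, π, by rw [hπ.maximalIdeal_eq]; exact Ideal.mem_span_singleton_self _, u, hu.symm⟩

end TotRam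

section Main

open TensorProduct IsLocalRing

variable (A B V : Type u) [CommRing A] [IsDomain A] [IsDiscreteValuationRing A]
    [CommRing B] [IsDomain B] [IsDiscreteValuationRing B] [Algebra A B]
    (hinj : Function.Injective (algebraMap A B)) (hw : EtRam.IsWeaklyUnramified A B)
    [CommRing V] [Algebra A V] [Module.Finite A V] [Module.Flat A V] (ϖ : V)
    (h1 : ∀ y : V, ∃ (a : A) (r : V), y = algebraMap A V a + ϖ * r)
    (h2 : ∀ a ∈ maximalIdeal A, ∃ r, algebraMap A V a = ϖ * r)
    (h3 : ∃ (n : ℕ) (a : A), a ∈ maximalIdeal A ∧ ∃ w, ϖ ^ n = algebraMap A V a * w)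
    (hnil : ¬ IsNilpotent ϖ)

include hinj hw h1 h2 h3 hnil

/-- `B ⊗[A] V` is a DVR with uniformizer `1 ⊗ ϖ`. -/
theorem tensor_dvr : ∃ (_ : IsDomain (B ⊗[A] V)) (_ : IsDiscreteValuationRing (B ⊗[A] V)),
    maximalIdeal (B ⊗[A] V) = Ideal.span {(1 : B) ⊗ₜ[A] ϖ} := by
  have hincl : Function.Injective (Algebra.TensorProduct.includeRight : V →ₐ[A] B ⊗[A] V) :=
    Algebra.TensorProduct.includeRight_injective hinj
  have hnilR : ¬ IsNilpotent ((1 : B) ⊗ₜ[A] ϖ) := by
    intro h
    have h5 : IsNilpotent ((Algebra.TensorProduct.includeRight : V →ₐ[A] B ⊗[A] V) ϖ) := h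
    exact hnil ((IsNilpotent.map_iff hincl).mp h5)
  have hnt : Nontrivial (B ⊗[A] V) := by
    refine nontrivial_of_ne ((1 : B) ⊗ₜ[A] ϖ) 0 ?_
    intro h
    exact hnilR (h ▸ IsNilpotent.zero)
  have hnoeth : IsNoetherianRing (B ⊗[A] V) := IsNoetherianRing.of_finite B _
  obtain ⟨hloc, hmax⟩ := Etalg.DVRExt.isLocal_of_totallyRamified B (B ⊗[A] V) ((1 : B) ⊗ₜ[A] ϖ)
    (by
      intro y
      induction y with
      | zero => exact ⟨0, 0, by simp⟩
      | tmul b v =>
        obtain ⟨a, r, har⟩ := h1 v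
        refine ⟨a • b, b ⊗ₜ r, ?_⟩
        rw [har, tmul_add, Algebra.TensorProduct.tmul_mul_tmul, one_mul, Algebra.TensorProduct.algebraMap_apply,
          Algebra.algebraMap_self, RingHom.id_apply, smul_tmul, Algebra.smul_def, mul_one]
      | add x y hx hy =>
        obtain ⟨b, r, hx⟩ := hx
        obtain ⟨b', r', hy⟩ := hy
        exact ⟨b + b', r + r', by rw [hx, hy, map_add]; ring⟩)
    (by
      intro b hb
      have hb' : b ∈ (maximalIdeal A).map (algebraMap A B) := by
        have : (maximalIdeal A).map (algebraMap A B) = maximalIdeal B := hw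
        rw [this]; exact hb
      have hle : (maximalIdeal A).map (algebraMap A B) ≤
          (Ideal.span {(1 : B) ⊗ₜ[A] ϖ}).comap (algebraMap B (B ⊗[A] V)) := by
        rw [Ideal.map_le_iff_le_comap]
        intro a ha
        obtain ⟨r, hr⟩ := h2 a ha
        rw [Ideal.mem_comap, Ideal.mem_comap, Ideal.mem_span_singleton]
        refine ⟨1 ⊗ₜ r, ?_⟩
        rw [Algebra.TensorProduct.tmul_mul_tmul, one_mul, ← hr, Algebra.TensorProduct.algebraMap_apply,
          Algebra.algebraMap_self, RingHom.id_apply, Algebra.algebraMap_eq_smul_one, smul_tmul,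
          ← Algebra.algebraMap_eq_smul_one]
      exact hle hb')
    (by
      obtain ⟨n, a, ha, w, hw'⟩ := h3
      refine ⟨n, ?_⟩
      have hb : algebraMap A B a ∈ maximalIdeal B := by
        have : (maximalIdeal A).map (algebraMap A B) = maximalIdeal B := hw
        rw [← this]
        exact Ideal.mem_map_of_mem _ ha
      have : ((1 : B) ⊗ₜ[A] ϖ) ^ n = algebraMap B (B ⊗[A] V) (algebraMap A B a) * ((1 : B) ⊗ₜ[A] w) := by
        rw [Algebra.TensorProduct.tmul_pow, hw', one_pow, Algebra.TensorProduct.algebraMap_apply,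
          Algebra.algebraMap_self, RingHom.id_apply, Algebra.TensorProduct.tmul_mul_tmul, one_mul, mul_one,
          ← Algebra.smul_def, tmul_smul, Algebra.algebraMap_eq_smul_one, smul_tmul']
      rw [this]
      exact Ideal.mul_mem_right _ _ (Ideal.mem_map_of_mem _ hb))
  obtain ⟨hdom, hdvr⟩ := Etalg.DVRExt.isDVR_of_principal (B ⊗[A] V) _ hmax hnilR
  exact ⟨hdom, hdvr, hmax⟩

end Main

open TensorProduct in
/-- denominators -/
theorem exists_denominator {A B K L K₁ : Type u} [CommRing A] [IsDomain A] [CommRing B] [IsDomain B] [Algebra A B]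
    (hinj : Function.Injective (algebraMap A B)) [Field K] [Field L] [Field K₁] [Algebra A K] [IsFractionRing A K]
    [Algebra B L] [IsFractionRing B L]
    [Algebra K L] [Algebra A L] [IsScalarTower A K L] [IsScalarTower A B L] [Algebra K K₁] [Algebra A K₁]
    [IsScalarTower A K K₁] [FiniteDimensional K K₁] (V : ValuationSubring K₁) [Algebra A V] [IsScalarTower A V K₁]
    (hint : ∀ x : K₁, IsIntegral A x → x ∈ V) (ψ : B ⊗[A] V →ₐ[A] L ⊗[K] K₁)
    (hψ : ∀ b v, ψ (b ⊗ₜ v) = (algebraMap B L b) ⊗ₜ (v : K₁)) (z : L ⊗[K] K₁) :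
    ∃ b : B, b ≠ 0 ∧ ∃ r, ((algebraMap B L b) ⊗ₜ[K] (1 : K₁)) * z = ψ r := by
  induction z with
  | zero => exact ⟨1, one_ne_zero, 0, by simp⟩
  | tmul l k =>
    obtain ⟨⟨b₁, b₂⟩, hb⟩ := IsLocalization.surj (nonZeroDivisors B) l
    have halgK : IsAlgebraic A k := by
      have : Algebra.IsAlgebraic A K₁ :=
        (IsFractionRing.comap_isAlgebraic_iff (A := A) (K := K) (C := K₁)).mpr
          (Algebra.IsAlgebraic.of_finite K K₁)
      exact this.isAlgebraic k
    obtain ⟨a, ha0, ha⟩ := halgK.exists_integral_multiple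
    refine ⟨b₂ * algebraMap A B a, mul_ne_zero (nonZeroDivisors.ne_zero b₂.2) ?_, b₁ ⊗ₜ ⟨a • k, hint _ ha⟩, ?_⟩
    · intro h
      exact ha0 (hinj (by rw [h, map_zero]))
    · rw [hψ, Algebra.TensorProduct.tmul_mul_tmul, one_mul, map_mul, ← IsScalarTower.algebraMap_apply A B L,
        IsScalarTower.algebraMap_apply A K L]
      have h1 : algebraMap B L b₂ * algebraMap K L (algebraMap A K a) * l =
          (algebraMap A K a) • algebraMap B L b₁ := by
        rw [Algebra.smul_def, ← hb]; ring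
      rw [h1, smul_tmul, algebraMap_smul]
  | add x y hx hy =>
    obtain ⟨b, hb, r, hr⟩ := hx
    obtain ⟨b', hb', r', hr'⟩ := hy
    refine ⟨b * b', mul_ne_zero hb hb', (b' ⊗ₜ 1) * r + (b ⊗ₜ 1) * r', ?_⟩
    have e1 : ψ (b' ⊗ₜ 1) = (algebraMap B L b') ⊗ₜ[K] (1 : K₁) := hψ b' 1
    have e2 : ψ (b ⊗ₜ 1) = (algebraMap B L b) ⊗ₜ[K] (1 : K₁) := hψ b 1
    have e3 : (algebraMap B L (b * b')) ⊗ₜ[K] (1 : K₁) =
        ((algebraMap B L b) ⊗ₜ[K] (1 : K₁)) * ((algebraMap B L b') ⊗ₜ[K] (1 : K₁)) := by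
      rw [Algebra.TensorProduct.tmul_mul_tmul, one_mul, map_mul]
    rw [map_add ψ, map_mul ψ, map_mul ψ, ← hr, ← hr', e1, e2, e3]
    ring

open TensorProduct in
/-- Stacks Tag 09ER: let A -> B be a weakly unramified extension of discrete valuation rings with fraction fields K ⊂ L, and K₁/K a finite separable extension which is totally ramified with respect to A. Then L ⊗_K K₁ is a field and K₁ is a weak solution for A -> B (the valuation ring of L ⊗_K K₁ over B is weakly unramified over that of K₁ over A). -/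
theorem result (A B K L : Type u) [CommRing A] [IsDomain A] [IsDiscreteValuationRing A]
    [CommRing B] [IsDomain B] [IsDiscreteValuationRing B] [Algebra A B] [IsLocalHom (algebraMap A B)]
    (hinj : Function.Injective (algebraMap A B))
    [Field K] [Field L] [Algebra A K] [IsFractionRing A K] [Algebra B L] [IsFractionRing B L]
    [Algebra K L] [Algebra A L] [IsScalarTower A K L] [IsScalarTower A B L]
    (hw : EtRam.IsWeaklyUnramified A B) (K₁ : Type u) [Field K₁] [Algebra K K₁] [FiniteDimensional K K₁]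
    [Algebra.IsSeparable K K₁] (ht : EtRam.IsTotallyRamified A ((algebraMap K K₁).comp (algebraMap A K))) :
    IsField (L ⊗[K] K₁) ∧ EtRam.IsWeakSolution B K L K₁ := by
  classical
  obtain ⟨⟨V, hV⟩, huniq, hres⟩ := ht
  let _ : Algebra A K₁ := ((algebraMap K K₁).comp (algebraMap A K)).toAlgebra
  have : IsScalarTower A K K₁ := IsScalarTower.of_algebraMap_eq' rfl
  let _ : Algebra A V := (RingHom.codRestrict ((algebraMap K K₁).comp (algebraMap A K)) V hV.1).toAlgebra
  have : IsScalarTower A V K₁ := IsScalarTower.of_algebraMap_eq' rfl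
  have huniq' : ∀ V', EtRam.Dominates A ((algebraMap K K₁).comp (algebraMap A K)) V' → V' = V :=
    fun V' h => huniq V' V h hV
  obtain ⟨hfin, ϖ, hϖ, h1, h2, h3⟩ := facts V hV huniq' (hres V hV)
  have hmemV : ∀ x : K₁, IsIntegral A x → x ∈ V := fun x hx => (mem_iff_isIntegral V hV huniq' x).mpr hx
  have hfs : FaithfulSMul A K₁ := by
    rw [faithfulSMul_iff_algebraMap_injective, IsScalarTower.algebraMap_eq A K K₁]
    exact (algebraMap K K₁).injective.comp (IsFractionRing.injective A K)
  have htf : Module.IsTorsionFree A K₁ := inferInstance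
  have htfN : Module.IsTorsionFree A V :=
    Subtype.val_injective.moduleIsTorsionFree (IsScalarTower.toAlgHom A V K₁)
      (fun a x => (IsScalarTower.toAlgHom A V K₁).toLinearMap.map_smul a x)
  have hnil : ¬ IsNilpotent ϖ := by
    intro h
    exact hϖ.ne_zero h.eq_zero
  obtain ⟨hdomR, hdvrR, hmaxR⟩ := tensor_dvr A B V hinj hw ϖ h1 h2 h3 hnil
  -- the comparison map
  let f1 : B →ₐ[A] L ⊗[K] K₁ :=
    (Algebra.TensorProduct.includeLeft : L →ₐ[A] L ⊗[K] K₁).comp (IsScalarTower.toAlgHom A B L)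
  let f2 : V →ₐ[A] L ⊗[K] K₁ :=
    ((Algebra.TensorProduct.includeRight : K₁ →ₐ[K] L ⊗[K] K₁).restrictScalars A).comp
      (IsScalarTower.toAlgHom A V K₁)
  let ψ : B ⊗[A] V →ₐ[A] L ⊗[K] K₁ := Algebra.TensorProduct.lift f1 f2 (fun _ _ => Commute.all _ _)
  have hψ : ∀ b v, ψ (b ⊗ₜ v) = (algebraMap B L b) ⊗ₜ (v : K₁) := by
    intro b v
    show f1 b * f2 v = _
    show (algebraMap B L b ⊗ₜ[K] (1 : K₁)) * ((1 : L) ⊗ₜ[K] (v : K₁)) = _
    rw [Algebra.TensorProduct.tmul_mul_tmul, one_mul, mul_one]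
  have hden := exists_denominator hinj V hmemV ψ hψ
  have hbunit : ∀ b : B, b ≠ 0 → IsUnit ((algebraMap B L b) ⊗ₜ[K] (1 : K₁)) := by
    intro b hb
    have : (algebraMap B L b) ⊗ₜ[K] (1 : K₁) = algebraMap L (L ⊗[K] K₁) (algebraMap B L b) := rfl
    rw [this]
    apply IsUnit.map
    rw [isUnit_iff_ne_zero, Ne, map_eq_zero_iff _ (IsFractionRing.injective B L)]
    exact hb
  have hntE : Nontrivial (L ⊗[K] K₁) :=
    (Algebra.TensorProduct.includeLeft_injective (S := K) (A := L) (B := K₁)
      (algebraMap K K₁).injective).nontrivial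
  have hϖ0 : (ϖ : K₁) ≠ 0 := fun h => hϖ.ne_zero (Subtype.ext h)
  have hψϖ : IsUnit (ψ ((1 : B) ⊗ₜ ϖ)) := by
    rw [hψ, map_one]
    refine IsUnit.of_mul_eq_one ((1 : L) ⊗ₜ (ϖ : K₁)⁻¹) ?_
    rw [Algebra.TensorProduct.tmul_mul_tmul, one_mul, mul_inv_cancel₀ hϖ0]
    rfl
  have hirrR : Irreducible ((1 : B) ⊗ₜ[A] ϖ) := (IsDiscreteValuationRing.irreducible_iff_uniformizer _).mpr hmaxR
  -- `ψ` is injective
  have hψinj : Function.Injective ψ := by
    rw [injective_iff_map_eq_zero]
    intro r hr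
    by_contra hr0
    obtain ⟨n, u, hu⟩ := IsDiscreteValuationRing.associated_pow_irreducible hr0 hirrR
    have h4 : IsUnit (ψ r) := by
      have h5 : ψ r * ψ u = ψ ((1 : B) ⊗ₜ[A] ϖ) ^ n := by rw [← map_mul, hu, map_pow]
      exact isUnit_of_mul_isUnit_left (h5 ▸ hψϖ.pow n)
    rw [hr] at h4
    exact not_isUnit_zero h4
  have hdomE : IsDomain (L ⊗[K] K₁) := by
    have : NoZeroDivisors (L ⊗[K] K₁) := by
      constructor
      intro z w hzw
      obtain ⟨b, hb, r, hr⟩ := hden z
      obtain ⟨b', hb', r', hr'⟩ := hden w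
      have h4 : ψ (r * r') = 0 := by
        rw [map_mul, ← hr, ← hr']
        calc _ = (((algebraMap B L b) ⊗ₜ[K] (1 : K₁)) * ((algebraMap B L b') ⊗ₜ[K] (1 : K₁))) * (z * w) := by ring
          _ = 0 := by rw [hzw, mul_zero]
      rw [map_eq_zero_iff _ hψinj, mul_eq_zero] at h4
      rcases h4 with h4 | h4
      · left
        rw [h4, map_zero, (hbunit b hb).mul_right_eq_zero] at hr
        exact hr
      · right
        rw [h4, map_zero, (hbunit b' hb').mul_right_eq_zero] at hr'
        exact hr'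
    exact NoZeroDivisors.to_isDomain _
  refine ⟨?_, ?_⟩
  · exact isField_of_isIntegral_of_isField' (Field.toIsField L)
  · intro M _ _ _ _ _ _ hadj W hW
    -- the map to `M`
    let χ : L ⊗[K] K₁ →ₐ[L] M := Algebra.TensorProduct.lift (Algebra.ofId L M) (IsScalarTower.toAlgHom K K₁ M)
      (fun _ _ => Commute.all _ _)
    have hχ : ∀ l k, χ (l ⊗ₜ k) = algebraMap L M l * algebraMap K₁ M k := by
      intro l k
      simp [χ, Algebra.ofId_apply]
    have hχsurj : Function.Surjective χ := by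
      rw [← AlgHom.range_eq_top, eq_top_iff, ← hadj, Algebra.adjoin_le_iff]
      rintro _ ⟨k, rfl⟩
      exact ⟨1 ⊗ₜ k, by show χ _ = _; rw [hχ, map_one, one_mul]⟩
    let φ : B ⊗[A] V →+* M := χ.toRingHom.comp ψ.toRingHom
    have hφ : ∀ b v, φ (b ⊗ₜ v) = algebraMap L M (algebraMap B L b) * algebraMap K₁ M v := by
      intro b v
      show χ (ψ _) = _
      rw [hψ, hχ]
    have hφB : ∀ b, φ (algebraMap B (B ⊗[A] V) b) = algebraMap L M (algebraMap B L b) := by
      intro b
      rw [Algebra.TensorProduct.algebraMap_apply, hφ]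
      simp
    have hgen : ∀ x : M, ∃ a b : B ⊗[A] V, φ b ≠ 0 ∧ x * φ b = φ a := by
      intro x
      obtain ⟨z, rfl⟩ := hχsurj x
      obtain ⟨b, hb, r, hr⟩ := hden z
      refine ⟨r, algebraMap B _ b, ?_, ?_⟩
      · rw [hφB, Ne, map_eq_zero, map_eq_zero_iff _ (IsFractionRing.injective B L)]
        exact hb
      · rw [hφB]
        show _ = χ (ψ r)
        rw [← hr, map_mul, hχ, map_one, mul_one, mul_comm]
    have hφW : ∀ r, φ r ∈ W := by
      intro r
      apply Etalg.DVRExt.mem_of_isIntegralElem W ((algebraMap L M).comp (algebraMap B L)) hW.1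
      obtain ⟨p, hp, hpr⟩ := Algebra.IsIntegral.isIntegral (R := B) r
      refine ⟨p, hp, ?_⟩
      have h5 : (algebraMap L M).comp (algebraMap B L) = φ.comp (algebraMap B (B ⊗[A] V)) := by
        ext b
        exact (hφB b).symm
      rw [h5, ← Polynomial.hom_eval₂, hpr, map_zero]
    have hφϖ : W.valuation (φ ((1 : B) ⊗ₜ[A] ϖ)) < 1 := by
      by_contra hcon
      rw [not_lt] at hcon
      obtain ⟨n, a, ha, w, hw'⟩ := h3
      have h6 : W.valuation (φ ((1 : B) ⊗ₜ[A] ϖ)) ^ n < 1 := by
        rw [← map_pow, ← map_pow, Algebra.TensorProduct.tmul_pow, one_pow, hw',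
          ← Algebra.smul_def, tmul_smul, smul_tmul', ← Algebra.algebraMap_eq_smul_one,
          hφ, map_mul]
        have h7 : algebraMap K₁ M (w : K₁) = φ (1 ⊗ₜ w) := by rw [hφ]; simp
        have h8 : W.valuation (algebraMap K₁ M (w : K₁)) ≤ 1 := by
          rw [h7]; exact (W.valuation_le_one_iff _).mpr (hφW _)
        have h9 : W.valuation (algebraMap L M (algebraMap B L (algebraMap A B a))) < 1 := by
          apply hW.2
          have hl : IsLocalHom (algebraMap A B) := inferInstance
          intro hu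
          exact ha (hl.map_nonunit a hu)
        calc _ ≤ W.valuation (algebraMap L M (algebraMap B L (algebraMap A B a))) * 1 := by gcongr
          _ < 1 := by rw [mul_one]; exact h9
      exact absurd h6 (not_lt.mpr (one_le_pow₀ hcon))
    have hloc : ∀ r ∈ IsLocalRing.maximalIdeal (B ⊗[A] V), W.valuation (φ r) < 1 := by
      intro r hr
      rw [hmaxR, Ideal.mem_span_singleton] at hr
      obtain ⟨c, rfl⟩ := hr
      rw [map_mul, map_mul]
      have h4 : W.valuation (φ c) ≤ 1 := (W.valuation_le_one_iff _).mpr (hφW c)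
      calc _ ≤ W.valuation (φ ((1 : B) ⊗ₜ[A] ϖ)) * 1 := by gcongr
        _ < 1 := by rw [mul_one]; exact hφϖ
    have hall := Etalg.DVRExt.exists_eq_of_local φ W hloc hgen
    show Ideal.map (EtRam.inclOfComap W (algebraMap K₁ M)) _ = _
    apply le_antisymm
    · rw [Ideal.map_le_iff_le_comap]
      intro y hy hu
      exact hy ((EtRam.isLocalHom_inclOfComap W (algebraMap K₁ M)).map_nonunit y hu)
    · intro x hx
      obtain ⟨r, hr⟩ := hall x x.2
      have hrm : r ∈ IsLocalRing.maximalIdeal (B ⊗[A] V) := by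
        intro hu
        rw [W.valuation_lt_one_iff, ← hr] at hx
        obtain ⟨u, rfl⟩ := hu
        have h10 : W.valuation (φ (u : B ⊗[A] V)) * W.valuation (φ ((u⁻¹ : (B ⊗[A] V)ˣ) : B ⊗[A] V)) = 1 := by
          rw [← map_mul, ← map_mul, Units.mul_inv, map_one, map_one]
        have h11 : W.valuation (φ ((u⁻¹ : (B ⊗[A] V)ˣ) : B ⊗[A] V)) ≤ 1 := (W.valuation_le_one_iff _).mpr (hφW _)
        have h12 : W.valuation (φ (u : B ⊗[A] V)) * W.valuation (φ ((u⁻¹ : (B ⊗[A] V)ˣ) : B ⊗[A] V)) ≤
          W.valuation (φ (u : B ⊗[A] V)) * 1 := by gcongr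
        rw [h10, mul_one] at h12
        exact absurd hx (not_lt.mpr h12)
      rw [hmaxR, Ideal.mem_span_singleton] at hrm
      obtain ⟨c, rfl⟩ := hrm
      have hϖW : (ϖ : K₁) ∈ W.comap (algebraMap K₁ M) := by
        rw [ValuationSubring.mem_comap]
        have : algebraMap K₁ M ϖ = φ (1 ⊗ₜ ϖ) := by rw [hφ]; simp
        rw [this]
        exact hφW _
      have hx' : x = EtRam.inclOfComap W (algebraMap K₁ M) ⟨(ϖ : K₁), hϖW⟩ * ⟨φ c, hφW c⟩ := by
        apply Subtype.ext
        rw [← hr, map_mul, hφ]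
        simp
      rw [hx']
      apply Ideal.mul_mem_right
      apply Ideal.mem_map_of_mem
      by_contra hu
      have hu' : IsUnit (⟨(ϖ : K₁), hϖW⟩ : W.comap (algebraMap K₁ M)) := by
        by_contra h; exact hu h
      have h13 := hu'.map (EtRam.inclOfComap W (algebraMap K₁ M))
      rw [W.valuation_eq_one_iff] at h13
      have h14 : algebraMap K₁ M ϖ = φ (1 ⊗ₜ ϖ) := by rw [hφ]; simp
      rw [← h14] at hφϖ
      exact hφϖ.ne h13

end Groth.Agent.S1984
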