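import Groth.Statements.S1985
import Groth.Agent.Etalg.N2Descent

set_option autoImplicit false
universe u
open EtAlg

namespace Groth.Agent.S1985

/-- Stacks Tag 0GLS: let A -> B be an extension of discrete valuation rings whose extension of fraction fields L/K is separable. If B is a Nagata ring then so is A. -/
theorem result (A B K L : Type u) [CommRing A] [IsDomain A] [IsDiscreteValuationRing A]
    [CommRing B] [IsDomain B] [IsDiscreteValuationRing B] [Algebra A B] [IsLocalHom (algebraMap A B)]
    (hinj : Function.Injective (algebraMap A B))
    [Field K] [Field L] [Algebra A K] [IsFractionRing A K] [Algebra B L] [IsFractionRing B L]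
    [Algebra K L] [Algebra A L] [IsScalarTower A K L] [IsScalarTower A B L] [Algebra.IsSeparable K L] (hB : CAlg.IsNagata B) :
    CAlg.IsNagata A := by
  have : FaithfulSMul A B := (faithfulSMul_iff_algebraMap_injective A B).mpr hinj
  have : Module.IsTorsionFree A B := inferInstance
  have : Module.Flat A B := inferInstance
  have : Module.FaithfullyFlat A B := Module.FaithfullyFlat.of_flat_of_isLocalHom
  refine Groth.Agent.Etalg.N2Descent.isNagata_of_n2For A (fun p hp h0 => ?_) K
    (Groth.Agent.Etalg.N2Descent.n2For_descend A B K L
      (Groth.Agent.Etalg.N2Descent.n2For_of_isNagata B L hB))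
  exact Ring.DimensionLEOne.maximalOfPrime h0 hp

end Groth.Agent.S1985
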