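import Groth.Statements.S1986
import Groth.Agent.Etalg.SepSol3
import Groth.Agent.S1983

set_option autoImplicit false
universe u
open EtAlg

namespace Groth.Agent.S1986

/-- Stacks Tag 0BRN: let A -> B be an extension of discrete valuation rings with separable extension of fraction fields L/K and B a Nagata ring. If some finite extension of K is a solution for A -> B, then some finite separable extension of K is a solution as well. -/
theorem result (A B K L : Type u) [CommRing A] [IsDomain A] [IsDiscreteValuationRing A]
    [CommRing B] [IsDomain B] [IsDiscreteValuationRing B] [Algebra A B] [IsLocalHom (algebraMap A B)]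
    (hinj : Function.Injective (algebraMap A B))
    [Field K] [Field L] [Algebra A K] [IsFractionRing A K] [Algebra B L] [IsFractionRing B L]
    [Algebra K L] [Algebra A L] [IsScalarTower A K L] [IsScalarTower A B L] [Algebra.IsSeparable K L] (hB : CAlg.IsNagata B)
    (K₂ : Type u) [Field K₂] [Algebra K K₂] [FiniteDimensional K K₂] (h₂ : EtRam.IsSolution B K L K₂) :
    ∃ (K₃ : Type u) (_ : Field K₃) (_ : Algebra K K₃) (_ : FiniteDimensional K K₃) (_ : Algebra.IsSeparable K K₃),
      EtRam.IsSolution B K L K₃ := by
  classical
  let V : ValuationSubring L := Etalg.RamBasic.vsub B L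
  have hdvrV : IsDiscreteValuationRing V := Etalg.RamBasic.isDiscreteValuationRing_vsub B L
  -- domination of `B` and of `V` are equivalent
  have hdomiff : ∀ {E : Type u} [Field E] (f : L →+* E) (W : ValuationSubring E),
      EtRam.Dominates V (f.comp (algebraMap V L)) W ↔ EtRam.Dominates B (f.comp (algebraMap B L)) W := by
    intro E _ f W
    rw [Etalg.RamBasic.dominates_comp_algebraMap_iff, Etalg.RamBasic.dominates_comp_algebraMap_iff,
      Etalg.RamBasic.vsub_valuationSubring]
  have h₂' : EtRam.IsSolution V K L K₂ := by
    intro M _ _ _ _ _ _ hadj W hW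
    exact h₂ M hadj W ((hdomiff _ W).mp hW)
  have hdomA : EtRam.Dominates A ((algebraMap K L).comp (algebraMap A K)) V := by
    refine ⟨fun a => ?_, fun a ha => ?_⟩
    · rw [RingHom.comp_apply, ← IsScalarTower.algebraMap_apply A K L, IsScalarTower.algebraMap_apply A B L]
      exact Etalg.RamBasic.algebraMap_mem_vsub B L _
    · rw [RingHom.comp_apply, ← IsScalarTower.algebraMap_apply A K L, IsScalarTower.algebraMap_apply A B L]
      rw [Etalg.RamBasic.vsub_valuation_lt_one_iff]
      intro hu
      exact ha ((inferInstance : IsLocalHom (algebraMap A B)).map_nonunit a hu)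
  obtain ⟨s, hs⟩ := Etalg.SepSol3.exists_stage A K L V hdomA K₂ h₂'
  let L' : IntermediateField K L := IntermediateField.adjoin K (s : Set L)
  have hfinL' : FiniteDimensional K L' :=
    IntermediateField.finiteDimensional_adjoin (fun x _ => Algebra.IsIntegral.isIntegral x)
  obtain ⟨hwu, hgr⟩ := hs L' (fun b hb => IntermediateField.subset_adjoin K _ hb)
  obtain ⟨K₃, i1, i2, i3, i4, i5, ⟨ι⟩⟩ := Etalg.SepSol.exists_galois K L'
  refine ⟨K₃, i1, i2, i3, i4, ?_⟩
  intro M _ _ _ _ _ _ hadj W hW
  -- the embedding of `L'` into `K₃` compatible with `M`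
  let F : K₃ →ₐ[K] M := IsScalarTower.toAlgHom K K₃ M
  let G : L' →ₐ[K] M := (IsScalarTower.toAlgHom K L M).comp (IsScalarTower.toAlgHom K L' L)
  have hmem : ∀ l : L', ∃ y, F y = G l := Etalg.SepSol.mem_range_of_normal ι F G
  choose j hj using hmem
  have hFinj : Function.Injective F := F.injective
  let J : L' →ₐ[K] K₃ :=
    { toFun := j
      map_one' := hFinj (by rw [hj, map_one, map_one])
      map_mul' := fun x y => hFinj (by rw [hj, map_mul, map_mul, hj, hj])
      map_zero' := hFinj (by rw [hj, map_zero, map_zero])
      map_add' := fun x y => hFinj (by rw [hj, map_add, map_add, hj, hj])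
      commutes' := fun r => hFinj (by rw [hj, AlgHom.commutes, AlgHom.commutes]) }
  let _ : Algebra L' K₃ := J.toRingHom.toAlgebra
  have t1 : IsScalarTower K L' K₃ := IsScalarTower.of_algebraMap_eq (fun x => (J.commutes x).symm)
  have t2 : IsScalarTower L' L M := inferInstance
  have t3 : IsScalarTower L' K₃ M := IsScalarTower.of_algebraMap_eq (fun x => (hj x).symm)
  have hfin3 : FiniteDimensional L' K₃ := Module.Finite.of_restrictScalars_finite K L' K₃
  -- the stage
  let V' : ValuationSubring L' := V.comap (algebraMap L' L)
  let _ : Algebra V' V := (EtRam.inclOfComap V (algebraMap L' L)).toAlgebra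
  have hl6 : IsLocalHom (algebraMap V' V) := EtRam.isLocalHom_inclOfComap V (algebraMap L' L)
  have hdomAV' : EtRam.Dominates A ((algebraMap K L').comp (algebraMap A K)) V' := by
    rw [← Etalg.RamBasic.dominates_comp_iff, ← RingHom.comp_assoc, ← IsScalarTower.algebraMap_eq K L' L]
    exact hdomA
  have hdvrV' : IsDiscreteValuationRing V' := Etalg.RamDVR.isDVR_of_dominates hdomAV'
  let _ : Algebra V' L := ((algebraMap L' L).comp (algebraMap V' L')).toAlgebra
  have t4 : IsScalarTower V' L' L := IsScalarTower.of_algebraMap_eq' rfl
  have t5 : IsScalarTower V' V L := IsScalarTower.of_algebraMap_eq' rfl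
  have hinj' : Function.Injective (algebraMap V' V) := by
    intro x y hxy
    apply Subtype.ext
    apply (algebraMap L' L).injective
    exact congrArg (fun z : V => (z : L)) hxy
  have hsol := S1983.result V' V L' L hinj' hwu K₃
  exact hsol M hadj W ((hdomiff _ W).mpr hW)

end Groth.Agent.S1986
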