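import Groth.Statements.S1987
import Groth.Agent.Etalg.DVRExt
import Groth.Agent.Etalg.RamDVR
import Mathlib.RingTheory.Polynomial.Eisenstein.Basic
import Mathlib.RingTheory.Polynomial.UniqueFactorization
import Mathlib.RingTheory.Valuation.LocalSubring
import Mathlib.RingTheory.Ideal.GoingUp

set_option autoImplicit false
universe u
open Polynomial
open EtAlg

namespace Groth.Agent.S1987

section helpers

variable {A : Type u} [CommRing A] {π : A} {n : ℕ}

theorem monic_f (hn : 2 ≤ n) : (X ^ n - C π : A[X]).Monic :=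
  monic_X_pow_sub_C π (by omega)

theorem natDegree_f [Nontrivial A] : (X ^ n - C π : A[X]).natDegree = n :=
  natDegree_X_pow_sub_C

theorem irreducible_f [IsDomain A] [IsDiscreteValuationRing A] (hπ : Irreducible π) (hn : 2 ≤ n) : Irreducible (X ^ n - C π : A[X]) := by
  have hprime : (Ideal.span {π}).IsPrime := by
    rw [← hπ.maximalIdeal_eq]; infer_instance
  apply IsEisensteinAt.irreducible (𝓟 := Ideal.span {π}) _ hprime (monic_f hn).isPrimitive
  · rw [natDegree_f]; omega
  · refine (monic_f hn).isEisensteinAt_of_mem_of_notMem hprime.ne_top ?_ ?_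
    · intro k hk
      rw [natDegree_f] at hk
      rw [coeff_sub, coeff_X_pow, if_neg hk.ne, zero_sub, coeff_C]
      split_ifs
      · exact (Ideal.neg_mem_iff _).mpr (Ideal.mem_span_singleton_self π)
      · simp
    · rw [coeff_sub, coeff_X_pow, if_neg (by omega), zero_sub, coeff_C_zero, Ideal.neg_mem_iff,
        Ideal.span_singleton_pow, Ideal.mem_span_singleton]
      intro hd
      obtain ⟨c, hc⟩ := hd
      have : π * (π * c - 1) = 0 := by linear_combination -hc
      rcases mul_eq_zero.mp this with h | h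
      · exact hπ.ne_zero h
      · exact hπ.not_isUnit (IsUnit.of_mul_eq_one c (by linear_combination h))

/-- the root to the power `n` is `π`. -/
theorem root_pow : (AdjoinRoot.root (X ^ n - C π : A[X])) ^ n = algebraMap A _ π := by
  have := AdjoinRoot.eval₂_root (X ^ n - C π : A[X])
  simp only [eval₂_sub, eval₂_X_pow, eval₂_C] at this
  rw [AdjoinRoot.algebraMap_eq]
  exact sub_eq_zero.mp this

/-- every element is a constant plus a multiple of the root -/
theorem exists_eq_add (y : AdjoinRoot (X ^ n - C π : A[X])) :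
    ∃ (a : A) (r : AdjoinRoot (X ^ n - C π : A[X])), y = algebraMap A _ a + AdjoinRoot.root _ * r := by
  obtain ⟨p, rfl⟩ := AdjoinRoot.mk_surjective y
  refine ⟨p.coeff 0, AdjoinRoot.mk _ p.divX, ?_⟩
  conv_lhs => rw [← Polynomial.divX_mul_X_add p]
  rw [map_add, map_mul, AdjoinRoot.mk_X, AdjoinRoot.mk_C, AdjoinRoot.algebraMap_eq]
  ring

end helpers

/-- Stacks Tag 09EV (1)–(5): let A be a discrete valuation ring with uniformizer π and n ≥ 2, and let A' = A[x]/(x^n - π). Then x^n - π is irreducible over A, A' is an integrally closed discrete valuation ring (so it is the integral closure of A in its fraction field K₁ = K(π^{1/n}), of degree n over K), the maximal ideal of A generates the n-th power of the maximal ideal of A' (ramification index n), and K₁ is totally ramified with respect to A. -/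
theorem result (A : Type u) [CommRing A] [IsDomain A] [IsDiscreteValuationRing A] (π : A)
    (hπ : Irreducible π) (n : ℕ) (hn : 2 ≤ n) :
    Irreducible (X ^ n - C π : A[X]) ∧
    ∃ (_ : IsDomain (AdjoinRoot (X ^ n - C π : A[X]))) (_ : IsDiscreteValuationRing (AdjoinRoot (X ^ n - C π : A[X]))),
      IsIntegrallyClosed (AdjoinRoot (X ^ n - C π : A[X])) ∧
      (IsLocalRing.maximalIdeal A).map (algebraMap A (AdjoinRoot (X ^ n - C π : A[X]))) = IsLocalRing.maximalIdeal (AdjoinRoot (X ^ n - C π : A[X])) ^ n ∧
      ∀ (K₁ : Type u) [Field K₁] [Algebra (AdjoinRoot (X ^ n - C π : A[X])) K₁] [IsFractionRing (AdjoinRoot (X ^ n - C π : A[X])) K₁],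
        EtRam.IsTotallyRamified A ((algebraMap (AdjoinRoot (X ^ n - C π : A[X])) K₁).comp (algebraMap A (AdjoinRoot (X ^ n - C π : A[X])))) := by
  have hirr := irreducible_f hπ hn
  have hmonic := monic_f (π := π) hn
  have hdeg : (X ^ n - C π : A[X]).natDegree = n := natDegree_f
  have hdom : IsDomain (AdjoinRoot (X ^ n - C π : A[X])) := AdjoinRoot.isDomain_of_prime hirr.prime
  have hinj : Function.Injective (algebraMap A (AdjoinRoot (X ^ n - C π : A[X]))) := by
    rw [AdjoinRoot.algebraMap_eq]
    apply AdjoinRoot.of.injective_of_degree_ne_zero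
    rw [degree_eq_natDegree hmonic.ne_zero, hdeg]
    intro h
    have : n = 0 := by exact_mod_cast h
    omega
  have hfin : Module.Finite A (AdjoinRoot (X ^ n - C π : A[X])) := hmonic.finite_adjoinRoot
  have hroot : (AdjoinRoot.root (X ^ n - C π : A[X])) ^ n = algebraMap A _ π := root_pow
  have hmemA : ∀ a ∈ IsLocalRing.maximalIdeal A, algebraMap A (AdjoinRoot (X ^ n - C π : A[X])) a ∈
      Ideal.span {AdjoinRoot.root (X ^ n - C π : A[X])} := by
    intro a ha
    rw [hπ.maximalIdeal_eq, Ideal.mem_span_singleton] at ha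
    obtain ⟨c, rfl⟩ := ha
    rw [map_mul, ← hroot, Ideal.mem_span_singleton]
    exact Dvd.dvd.mul_right (dvd_pow_self _ (by omega)) _
  have hmap : (IsLocalRing.maximalIdeal A).map (algebraMap A (AdjoinRoot (X ^ n - C π : A[X]))) =
      Ideal.span {AdjoinRoot.root (X ^ n - C π : A[X])} ^ n := by
    rw [hπ.maximalIdeal_eq, Ideal.map_span, Set.image_singleton, Ideal.span_singleton_pow, hroot]
  obtain ⟨hloc, hmax⟩ := Etalg.DVRExt.isLocal_of_totallyRamified A (AdjoinRoot (X ^ n - C π : A[X]))
    (AdjoinRoot.root _) exists_eq_add hmemA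
    ⟨n, by rw [hmap, Ideal.span_singleton_pow]; exact Ideal.mem_span_singleton_self _⟩
  have hrnil : ¬ IsNilpotent (AdjoinRoot.root (X ^ n - C π : A[X])) := by
    intro h
    have h0 := h.eq_zero
    rw [h0, zero_pow (by omega)] at hroot
    exact hπ.ne_zero (hinj (by rw [← hroot, map_zero]))
  obtain ⟨_, hdvr⟩ := Etalg.DVRExt.isDVR_of_principal (AdjoinRoot (X ^ n - C π : A[X])) _ hmax hrnil
  refine ⟨hirr, hdom, hdvr, inferInstance, ?_, ?_⟩
  · rw [hmap, hmax]
  · intro K₁ _ _ _
    set R := AdjoinRoot (X ^ n - C π : A[X]) with hR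
    set g := (algebraMap R K₁).comp (algebraMap A R) with hg
    have hinjK : Function.Injective (algebraMap R K₁) := IsFractionRing.injective R K₁
    -- facts on dominating valuation rings
    have key : ∀ V : ValuationSubring K₁, EtRam.Dominates A g V →
        (∀ r : R, algebraMap R K₁ r ∈ V) ∧
          (∀ r ∈ IsLocalRing.maximalIdeal R, V.valuation (algebraMap R K₁ r) < 1) := by
      intro V hV
      have h1 : ∀ r : R, algebraMap R K₁ r ∈ V := by
        intro r
        apply Etalg.DVRExt.mem_of_isIntegralElem V g hV.1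
        obtain ⟨p, hp, hpr⟩ := Algebra.IsIntegral.isIntegral (R := A) r
        refine ⟨p, hp, ?_⟩
        rw [hg, ← hom_eval₂, hpr, map_zero]
      refine ⟨h1, ?_⟩
      intro r hr
      rw [hmax, Ideal.mem_span_singleton] at hr
      obtain ⟨c, rfl⟩ := hr
      have h2 : V.valuation (algebraMap R K₁ (AdjoinRoot.root _)) < 1 := by
        by_contra hcon
        rw [not_lt] at hcon
        have h3 : V.valuation (g π) < 1 :=
          hV.2 π (by rw [hπ.maximalIdeal_eq]; exact Ideal.mem_span_singleton_self _)
        rw [hg, RingHom.comp_apply, ← hroot, map_pow, map_pow] at h3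
        exact absurd h3 (not_lt.mpr (one_le_pow₀ hcon))
      rw [map_mul, map_mul]
      have h4 : V.valuation (algebraMap R K₁ c) ≤ 1 := (V.valuation_le_one_iff _).mpr (h1 c)
      calc V.valuation (algebraMap R K₁ (AdjoinRoot.root _)) * V.valuation (algebraMap R K₁ c)
          ≤ V.valuation (algebraMap R K₁ (AdjoinRoot.root _)) * 1 := by gcongr
        _ < 1 := by rw [mul_one]; exact h2
    have hgen : ∀ x : K₁, ∃ a b : R, algebraMap R K₁ b ≠ 0 ∧ x * algebraMap R K₁ b = algebraMap R K₁ a := by
      intro x
      obtain ⟨⟨a, b⟩, hab⟩ := IsLocalization.surj (nonZeroDivisors R) x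
      exact ⟨a, b, IsFractionRing.to_map_ne_zero_of_mem_nonZeroDivisors b.2, hab⟩
    have key2 : ∀ V : ValuationSubring K₁, EtRam.Dominates A g V → ∀ x, x ∈ V ↔ ∃ r, algebraMap R K₁ r = x := by
      intro V hV x
      constructor
      · exact Etalg.DVRExt.exists_eq_of_local (algebraMap R K₁) V (key V hV).2 hgen x
      · rintro ⟨r, rfl⟩
        exact (key V hV).1 r
    refine ⟨?_, ?_, ?_⟩
    · refine ⟨⟨(algebraMap R K₁).range, ValuationRing.isInteger_or_isInteger R⟩, ?_⟩
      set V₀ : ValuationSubring K₁ := ⟨(algebraMap R K₁).range, ValuationRing.isInteger_or_isInteger R⟩ with hV₀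
      refine ⟨fun a => ⟨algebraMap A R a, rfl⟩, fun a ha => ?_⟩
      have hle : V₀.valuation (g a) ≤ 1 := (V₀.valuation_le_one_iff _).mpr ⟨algebraMap A R a, rfl⟩
      refine lt_of_le_of_ne hle ?_
      intro heq
      have hinv : (g a)⁻¹ ∈ V₀ := by
        rw [← V₀.valuation_le_one_iff, map_inv₀, heq, inv_one]
      obtain ⟨r, hr⟩ := hinv
      have h0 : g a ≠ 0 := by
        intro h
        rw [h, map_zero] at heq
        exact zero_ne_one heq
      have h5 : algebraMap A R a * r = 1 := by
        apply hinjK
        rw [map_mul, map_one, hr]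
        exact mul_inv_cancel₀ h0
      have h6 : algebraMap A R a ∈ IsLocalRing.maximalIdeal R := by
        rw [hmax]; exact hmemA a ha
      exact h6 (IsUnit.of_mul_eq_one _ h5)
    · intro V V' hV hV'
      ext x
      rw [key2 V hV, key2 V' hV']
    · intro V hV z
      obtain ⟨v, rfl⟩ := IsLocalRing.residue_surjective z
      obtain ⟨r, hr⟩ := (key2 V hV v).mp v.2
      obtain ⟨a, r', har⟩ := exists_eq_add r
      refine ⟨a, ?_⟩
      show IsLocalRing.residue V _ = IsLocalRing.residue V _
      rw [← sub_eq_zero, ← map_sub, IsLocalRing.residue_eq_zero_iff, V.valuation_lt_one_iff]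
      have h7 : (((RingHom.codRestrict g V hV.1 a) - v : V) : K₁) =
          algebraMap R K₁ (AdjoinRoot.root _ * (- r')) := by
        show g a - (v : K₁) = _
        rw [← hr, har, map_add]
        show g a - (g a + _) = _
        rw [map_mul, map_mul, map_neg]
        ring
      rw [h7]
      apply (key V hV).2
      rw [hmax]
      exact Ideal.mul_mem_right _ _ (Ideal.mem_span_singleton_self _)

end Groth.Agent.S1987
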