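import Groth.Statements.S1988
import Groth.Agent.Etalg.RamAmalgam
import Groth.Agent.Etalg.RamWeak
import Mathlib.FieldTheory.IntermediateField.Adjoin.Basic

set_option autoImplicit false
universe u
open EtAlg

namespace Groth.Agent.S1988

open Groth.Agent.Etalg.RamBasic Groth.Agent.Etalg.RamAmalgam Groth.Agent.Etalg.RamWeak IsLocalRing EtRam

/-- Every local extension attached to `B` and `K₁` is dominated by one attached to `C` and `K₁`. -/
theorem aux (A B C K L M₀ K₁ : Type u) [CommRing A] [IsDomain A] [IsDiscreteValuationRing A]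
    [CommRing B] [IsDomain B] [IsDiscreteValuationRing B] [Algebra A B]
    [CommRing C] [IsDomain C] [IsDiscreteValuationRing C] [Algebra B C] [IsLocalHom (algebraMap B C)]
    [Field K] [Field L] [Field M₀] [Field K₁] [Algebra K L] [Algebra K M₀] [Algebra L M₀] [IsScalarTower K L M₀]
    [Algebra K K₁] [FiniteDimensional K K₁]
    [Algebra B L] [IsFractionRing B L]
    [Algebra C M₀] [IsFractionRing C M₀] [Algebra B M₀]
    [IsScalarTower B C M₀] [IsScalarTower B L M₀]
    (P : ∀ (M : Type u) [Field M], ValuationSubring M → (K₁ →+* M) → Prop)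
    (Q : ∀ (M : Type u) [Field M], ValuationSubring M → (K₁ →+* M) → Prop)
    (hPQ : ∀ (M Ω : Type u) [Field M] [Field Ω] (g : M →+* Ω) (f : K₁ →+* M) (W : ValuationSubring Ω),
      P Ω W (g.comp f) → Q M (W.comap g) f)
    (h : ForallLocalExt C K M₀ K₁ P) : ForallLocalExt B K L K₁ Q := by
  intro M _ _ _ _ _ _ hgen W hW
  rw [dominates_comp_algebraMap_iff] at hW
  have hC : (vsub C M₀).comap (algebraMap L M₀) = vsub B L := by
    rw [← dominates_comp_algebraMap_iff]
    have hcomp : (algebraMap L M₀).comp (algebraMap B L) = (algebraMap C M₀).comp (algebraMap B C) := by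
      rw [← IsScalarTower.algebraMap_eq, ← IsScalarTower.algebraMap_eq]
    rw [hcomp]
    refine ⟨fun b => algebraMap_mem_vsub C M₀ _, fun b hb => ?_⟩
    rw [RingHom.comp_apply, vsub_valuation_lt_one_iff]
    exact (((local_hom_TFAE (algebraMap B C)).out 0 2 rfl rfl).mp ‹_›) (Ideal.mem_map_of_mem _ hb)
  obtain ⟨Ω, _, f₁, f₂, W', hF, hW₁, hW₂, hΩ⟩ := exists_amalgam (F := L) W (vsub C M₀) (hW.trans hC.symm)
  subst hW₁
  letI : Algebra K Ω := (f₁.comp (algebraMap K M)).toAlgebra
  letI : Algebra M₀ Ω := f₂.toAlgebra
  letI : Algebra K₁ Ω := (f₁.comp (algebraMap K₁ M)).toAlgebra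
  have hKM₀ : (algebraMap M₀ Ω).comp (algebraMap K M₀) = algebraMap K Ω := by
    show f₂.comp (algebraMap K M₀) = f₁.comp (algebraMap K M)
    rw [IsScalarTower.algebraMap_eq K L M₀, IsScalarTower.algebraMap_eq K L M, ← RingHom.comp_assoc,
      ← RingHom.comp_assoc, hF]
  haveI : IsScalarTower K M₀ Ω := IsScalarTower.of_algebraMap_eq' hKM₀.symm
  haveI : IsScalarTower K K₁ Ω := IsScalarTower.of_algebraMap_eq' (by
    show f₁.comp (algebraMap K M) = (f₁.comp (algebraMap K₁ M)).comp (algebraMap K K₁)
    rw [RingHom.comp_assoc, ← IsScalarTower.algebraMap_eq])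
  refine hPQ M Ω f₁ (algebraMap K₁ M) W' (h Ω ?_ W' ?_)
  · -- generation
    have halg : ∀ x ∈ Set.range (algebraMap K₁ Ω), IsAlgebraic M₀ x := by
      rintro _ ⟨y, rfl⟩
      have h1 : IsAlgebraic K y := Algebra.IsAlgebraic.isAlgebraic y
      exact (h1.algebraMap (A := Ω)).tower_top M₀
    rw [← IntermediateField.adjoin_toSubalgebra_of_isAlgebraic halg]
    have h1 : (IntermediateField.adjoin M₀ (Set.range (algebraMap K₁ Ω))).toSubfield = ⊤ := by
      apply hΩ
      · -- image of `M`
        have h2 : ∀ m : M, f₁ m ∈ (IntermediateField.adjoin M₀ (Set.range (algebraMap K₁ Ω))) := by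
          intro m
          have hm : m ∈ Algebra.adjoin L (Set.range (algebraMap K₁ M)) := by rw [hgen]; trivial
          induction hm using Algebra.adjoin_induction with
          | mem x hx =>
            obtain ⟨y, rfl⟩ := hx
            exact IntermediateField.subset_adjoin _ _ ⟨y, rfl⟩
          | algebraMap r =>
            have : f₁ (algebraMap L M r) = f₂ (algebraMap L M₀ r) := RingHom.congr_fun hF r
            rw [this]
            exact IntermediateField.algebraMap_mem _ (algebraMap L M₀ r)
          | add x y _ _ hx hy => rw [map_add]; exact add_mem hx hy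
          | mul x y _ _ hx hy => rw [map_mul]; exact mul_mem hx hy
        rintro _ ⟨m, rfl⟩
        exact h2 m
      · rintro _ ⟨m, rfl⟩
        exact IntermediateField.algebraMap_mem (IntermediateField.adjoin M₀ (Set.range (algebraMap K₁ Ω))) m
    rw [eq_top_iff]
    rintro x -
    have : x ∈ (IntermediateField.adjoin M₀ (Set.range (algebraMap K₁ Ω))).toSubfield := by
      rw [h1]; trivial
    exact this
  · rw [dominates_comp_algebraMap_iff]
    exact hW₂

/-- Stacks Tag 09ES (1): let A -> B -> C be extensions of discrete valuation rings (local injective maps) with fraction fields K ⊂ L ⊂ M₀ and K₁/K a finite extension. (The solution predicates mention only B, C and the fields: in them the bottom ring is recovered as B ∩ K, which the hypotheses on A force to be A.) If K₁ is a weak solution (resp. a solution) for A -> C then it is a weak solution (resp. a solution) for A -> B. -/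
theorem result (A B C K L M₀ K₁ : Type u) [CommRing A] [IsDomain A] [IsDiscreteValuationRing A]
    [CommRing B] [IsDomain B] [IsDiscreteValuationRing B] [Algebra A B] [IsLocalHom (algebraMap A B)]
    (hinjA : Function.Injective (algebraMap A B))
    [CommRing C] [IsDomain C] [IsDiscreteValuationRing C] [Algebra B C] [IsLocalHom (algebraMap B C)]
    (hinj : Function.Injective (algebraMap B C))
    [Field K] [Field L] [Field M₀] [Field K₁] [Algebra K L] [Algebra K M₀] [Algebra L M₀] [IsScalarTower K L M₀]
    [Algebra K K₁] [FiniteDimensional K K₁] [Algebra A K] [IsFractionRing A K]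
    [Algebra B L] [IsFractionRing B L] [Algebra A L] [IsScalarTower A K L] [IsScalarTower A B L]
    [Algebra C M₀] [IsFractionRing C M₀] [Algebra B M₀]
    [IsScalarTower B C M₀] [IsScalarTower B L M₀] :
    (EtRam.IsWeakSolution C K M₀ K₁ → EtRam.IsWeakSolution B K L K₁) ∧
    (EtRam.IsSolution C K M₀ K₁ → EtRam.IsSolution B K L K₁) := by
  constructor
  · intro h
    exact aux A B C K L M₀ K₁ _ _ (fun M Ω _ _ g f W hP => isWeaklyUnramified_of_comp W f g hP) h
  · intro h
    exact aux A B C K L M₀ K₁ _ _ (fun M Ω _ _ g f W hP =>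
      ⟨isWeaklyUnramified_of_comp W f g hP.1, isGeometricallyReduced_of_comp W f g hP.2⟩) h

end Groth.Agent.S1988
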