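import Groth.Statements.S1989
import Groth.Agent.Etalg.RamTower
import Mathlib.FieldTheory.SeparableDegree

set_option autoImplicit false
universe u
open EtAlg

namespace Groth.Agent.S1989

open Groth.Agent.Etalg.RamBasic Groth.Agent.Etalg.RamDVR2 Groth.Agent.Etalg.RamTower IsLocalRing

/-- Stacks Tags 0EXV and 0EXR (1): let A be a discrete valuation ring with fraction field K and K ⊂ L ⊂ M finite separable extensions. If M is tamely ramified, respectively unramified, with respect to A, then so is L. -/
theorem result (A K : Type u) [CommRing A] [IsDomain A] [IsDiscreteValuationRing A] [Field K] [Algebra A K] [IsFractionRing A K] (L M : Type u) [Field L] [Field M]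
    [Algebra K L] [Algebra K M] [Algebra L M] [IsScalarTower K L M] [FiniteDimensional K M] [Algebra.IsSeparable K M] :
    (EtRam.IsTamelyRamified A ((algebraMap K M).comp (algebraMap A K)) →
      EtRam.IsTamelyRamified A ((algebraMap K L).comp (algebraMap A K))) ∧
    (EtRam.IsUnramifiedExt A ((algebraMap K M).comp (algebraMap A K)) →
      EtRam.IsUnramifiedExt A ((algebraMap K L).comp (algebraMap A K))) := by
  have : FiniteDimensional K L := FiniteDimensional.left K L M
  have hcomp : (algebraMap L M).comp ((algebraMap K L).comp (algebraMap A K)) =
      (algebraMap K M).comp (algebraMap A K) := by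
    rw [← RingHom.comp_assoc, ← IsScalarTower.algebraMap_eq]
  have hinjAK : Function.Injective (algebraMap A K) := IsFractionRing.injective A K
  constructor
  · intro h V hV
    let _ : Algebra A V := (RingHom.codRestrict ((algebraMap K L).comp (algebraMap A K)) V hV.1).toAlgebra
    intro hlocAV
    obtain ⟨W, rfl⟩ := exists_comap_eq (algebraMap L M) V
    have hW : EtRam.Dominates A ((algebraMap K M).comp (algebraMap A K)) W := by
      rw [← hcomp, dominates_comp_iff]; exact hV
    have hVdvr : IsDiscreteValuationRing (W.comap (algebraMap L M)) := isDVR_of_dominates hV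
    have hWdvr : IsDiscreteValuationRing W := isDVR_of_dominates hW
    letI : Algebra A W := (RingHom.codRestrict ((algebraMap K M).comp (algebraMap A K)) W hW.1).toAlgebra
    haveI : IsLocalHom (algebraMap A W) := Dominates.isLocalHom hW
    letI : Algebra (W.comap (algebraMap L M)) W := (EtRam.inclOfComap W (algebraMap L M)).toAlgebra
    haveI : IsLocalHom (algebraMap (W.comap (algebraMap L M)) W) :=
      EtRam.isLocalHom_inclOfComap W (algebraMap L M)
    haveI : IsScalarTower A (W.comap (algebraMap L M)) W := IsScalarTower.of_algebraMap_eq fun a =>
      Subtype.ext (RingHom.congr_fun hcomp a).symm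
    obtain ⟨h1, h2⟩ := h W hW
    refine ⟨?_, fun p hp hchar hdvd => ?_⟩
    · exact Algebra.isSeparable_tower_bot_of_isSeparable _ _ (ResidueField W)
    · refine h2 p hp hchar ?_
      rw [ramificationIdx'_tower (B := W.comap (algebraMap L M))]
      · exact dvd_mul_of_dvd_left hdvd _
      · intro a b hab
        exact hinjAK ((algebraMap K L).injective (congrArg Subtype.val hab))
      · intro a b hab
        exact Subtype.ext ((algebraMap L M).injective (congrArg Subtype.val hab))
  · intro h V hV
    let _ : Algebra A V := (RingHom.codRestrict ((algebraMap K L).comp (algebraMap A K)) V hV.1).toAlgebra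
    intro hlocAV
    obtain ⟨W, rfl⟩ := exists_comap_eq (algebraMap L M) V
    have hW : EtRam.Dominates A ((algebraMap K M).comp (algebraMap A K)) W := by
      rw [← hcomp, dominates_comp_iff]; exact hV
    have hVdvr : IsDiscreteValuationRing (W.comap (algebraMap L M)) := isDVR_of_dominates hV
    have hWdvr : IsDiscreteValuationRing W := isDVR_of_dominates hW
    letI : Algebra A W := (RingHom.codRestrict ((algebraMap K M).comp (algebraMap A K)) W hW.1).toAlgebra
    haveI : IsLocalHom (algebraMap A W) := Dominates.isLocalHom hW
    letI : Algebra (W.comap (algebraMap L M)) W := (EtRam.inclOfComap W (algebraMap L M)).toAlgebra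
    haveI : IsLocalHom (algebraMap (W.comap (algebraMap L M)) W) :=
      EtRam.isLocalHom_inclOfComap W (algebraMap L M)
    haveI : IsScalarTower A (W.comap (algebraMap L M)) W := IsScalarTower.of_algebraMap_eq fun a =>
      Subtype.ext (RingHom.congr_fun hcomp a).symm
    obtain ⟨h1, h2⟩ := h W hW
    have hinj1 : Function.Injective (algebraMap A (W.comap (algebraMap L M))) := fun a b hab =>
      hinjAK ((algebraMap K L).injective (congrArg Subtype.val hab))
    have hinj2 : Function.Injective (algebraMap (W.comap (algebraMap L M)) W) := fun a b hab =>
      Subtype.ext ((algebraMap L M).injective (congrArg Subtype.val hab))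
    have hinj3 : Function.Injective (algebraMap A W) := fun a b hab =>
      hinjAK ((algebraMap K M).injective (congrArg Subtype.val hab))
    refine ⟨?_, ?_⟩
    · rw [isWeaklyUnramified_iff hinj3, ramificationIdx'_tower (B := W.comap (algebraMap L M)) hinj1 hinj2] at h1
      rw [isWeaklyUnramified_iff hinj1]
      exact Nat.eq_one_of_mul_eq_one_right h1
    · exact Algebra.isSeparable_tower_bot_of_isSeparable _ _ (ResidueField W)

end Groth.Agent.S1989
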