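import Groth.Statements.S1990
import Groth.Agent.Etalg.RamTower
import Mathlib.FieldTheory.SeparableDegree

set_option autoImplicit false
universe u
open EtAlg

namespace Groth.Agent.S1990

open Groth.Agent.Etalg.RamBasic Groth.Agent.Etalg.RamDVR2 Groth.Agent.Etalg.RamTower IsLocalRing

/-- Stacks Tags 0EXU and 0EXS: let A be a discrete valuation ring with fraction field K and K ⊂ L ⊂ M finite separable extensions. If L/K is tamely ramified (resp. unramified) with respect to A and M/L is tamely ramified (resp. unramified) with respect to every valuation subring of L dominating A, then M/K is tamely ramified (resp. unramified) with respect to A. -/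
theorem result (A K : Type u) [CommRing A] [IsDomain A] [IsDiscreteValuationRing A] [Field K] [Algebra A K] [IsFractionRing A K] (L M : Type u) [Field L] [Field M]
    [Algebra K L] [Algebra K M] [Algebra L M] [IsScalarTower K L M] [FiniteDimensional K M] [Algebra.IsSeparable K M] :
    (EtRam.IsTamelyRamified A ((algebraMap K L).comp (algebraMap A K)) →
      (∀ (V : ValuationSubring L), EtRam.Dominates A ((algebraMap K L).comp (algebraMap A K)) V →
        EtRam.IsTamelyRamified V ((algebraMap L M).comp V.subtype)) →
      EtRam.IsTamelyRamified A ((algebraMap K M).comp (algebraMap A K))) ∧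
    (EtRam.IsUnramifiedExt A ((algebraMap K L).comp (algebraMap A K)) →
      (∀ (V : ValuationSubring L), EtRam.Dominates A ((algebraMap K L).comp (algebraMap A K)) V →
        EtRam.IsUnramifiedExt V ((algebraMap L M).comp V.subtype)) →
      EtRam.IsUnramifiedExt A ((algebraMap K M).comp (algebraMap A K))) := by
  have : FiniteDimensional K L := FiniteDimensional.left K L M
  have hcomp : (algebraMap L M).comp ((algebraMap K L).comp (algebraMap A K)) =
      (algebraMap K M).comp (algebraMap A K) := by
    rw [← RingHom.comp_assoc, ← IsScalarTower.algebraMap_eq]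
  have hinjAK : Function.Injective (algebraMap A K) := IsFractionRing.injective A K
  constructor
  · intro h h' W hW
    let _ : Algebra A W := (RingHom.codRestrict ((algebraMap K M).comp (algebraMap A K)) W hW.1).toAlgebra
    intro hlocAW
    have hV : EtRam.Dominates A ((algebraMap K L).comp (algebraMap A K)) (W.comap (algebraMap L M)) := by
      rw [← dominates_comp_iff, hcomp]; exact hW
    have hVW : EtRam.Dominates (W.comap (algebraMap L M))
        ((algebraMap L M).comp (W.comap (algebraMap L M)).subtype) W := by
      rw [dominates_comp_subtype_iff]
    have hVdvr : IsDiscreteValuationRing (W.comap (algebraMap L M)) := isDVR_of_dominates hV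
    have hWdvr : IsDiscreteValuationRing W := isDVR_of_dominates hW
    let _ : Algebra A (W.comap (algebraMap L M)) :=
      (RingHom.codRestrict ((algebraMap K L).comp (algebraMap A K)) (W.comap (algebraMap L M)) hV.1).toAlgebra
    have _ : IsLocalHom (algebraMap A (W.comap (algebraMap L M))) := Dominates.isLocalHom hV
    let _ : Algebra (W.comap (algebraMap L M)) W :=
      (RingHom.codRestrict ((algebraMap L M).comp (W.comap (algebraMap L M)).subtype) W hVW.1).toAlgebra
    have _ : IsLocalHom (algebraMap (W.comap (algebraMap L M)) W) := Dominates.isLocalHom hVW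
    have _ : IsScalarTower A (W.comap (algebraMap L M)) W := IsScalarTower.of_algebraMap_eq fun a =>
      Subtype.ext (RingHom.congr_fun hcomp a).symm
    obtain ⟨h1, h2⟩ := h _ hV
    obtain ⟨h3, h4⟩ := h' _ hV W hVW
    have hinj1 : Function.Injective (algebraMap A (W.comap (algebraMap L M))) := fun a b hab =>
      hinjAK ((algebraMap K L).injective (congrArg Subtype.val hab))
    have hinj2 : Function.Injective (algebraMap (W.comap (algebraMap L M)) W) := fun a b hab =>
      Subtype.ext ((algebraMap L M).injective (congrArg Subtype.val hab))
    refine ⟨?_, fun p hp hchar hdvd => ?_⟩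
    · exact Algebra.IsSeparable.trans _ (ResidueField (W.comap (algebraMap L M))) _
    · rw [ramificationIdx'_tower (B := W.comap (algebraMap L M)) hinj1 hinj2, hp.dvd_mul] at hdvd
      rcases hdvd with hdvd | hdvd
      · exact h2 p hp hchar hdvd
      · exact h4 p hp (charP_of_injective_algebraMap
          (algebraMap (ResidueField A) (ResidueField (W.comap (algebraMap L M)))).injective p) hdvd
  · intro h h' W hW
    let _ : Algebra A W := (RingHom.codRestrict ((algebraMap K M).comp (algebraMap A K)) W hW.1).toAlgebra
    intro hlocAW
    have hV : EtRam.Dominates A ((algebraMap K L).comp (algebraMap A K)) (W.comap (algebraMap L M)) := by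
      rw [← dominates_comp_iff, hcomp]; exact hW
    have hVW : EtRam.Dominates (W.comap (algebraMap L M))
        ((algebraMap L M).comp (W.comap (algebraMap L M)).subtype) W := by
      rw [dominates_comp_subtype_iff]
    have hVdvr : IsDiscreteValuationRing (W.comap (algebraMap L M)) := isDVR_of_dominates hV
    have hWdvr : IsDiscreteValuationRing W := isDVR_of_dominates hW
    let _ : Algebra A (W.comap (algebraMap L M)) :=
      (RingHom.codRestrict ((algebraMap K L).comp (algebraMap A K)) (W.comap (algebraMap L M)) hV.1).toAlgebra
    have _ : IsLocalHom (algebraMap A (W.comap (algebraMap L M))) := Dominates.isLocalHom hV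
    let _ : Algebra (W.comap (algebraMap L M)) W :=
      (RingHom.codRestrict ((algebraMap L M).comp (W.comap (algebraMap L M)).subtype) W hVW.1).toAlgebra
    have _ : IsLocalHom (algebraMap (W.comap (algebraMap L M)) W) := Dominates.isLocalHom hVW
    have _ : IsScalarTower A (W.comap (algebraMap L M)) W := IsScalarTower.of_algebraMap_eq fun a =>
      Subtype.ext (RingHom.congr_fun hcomp a).symm
    obtain ⟨h1, h2⟩ := h _ hV
    obtain ⟨h3, h4⟩ := h' _ hV W hVW
    have hinj1 : Function.Injective (algebraMap A (W.comap (algebraMap L M))) := fun a b hab =>
      hinjAK ((algebraMap K L).injective (congrArg Subtype.val hab))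
    have hinj2 : Function.Injective (algebraMap (W.comap (algebraMap L M)) W) := fun a b hab =>
      Subtype.ext ((algebraMap L M).injective (congrArg Subtype.val hab))
    have hinj3 : Function.Injective (algebraMap A W) := fun a b hab =>
      hinjAK ((algebraMap K M).injective (congrArg Subtype.val hab))
    refine ⟨?_, Algebra.IsSeparable.trans _ (ResidueField (W.comap (algebraMap L M))) _⟩
    rw [isWeaklyUnramified_iff hinj1] at h1
    rw [isWeaklyUnramified_iff hinj2] at h3
    rw [isWeaklyUnramified_iff hinj3, ramificationIdx'_tower (B := W.comap (algebraMap L M)) hinj1 hinj2,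
      h1, h3]

end Groth.Agent.S1990
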