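import Groth.Statements.S1991
import Groth.Agent.Etalg.RamGalois

set_option autoImplicit false
universe u
open EtAlg

namespace Groth.Agent.S1991

/-- Stacks Tags 0EXR (2),(3) and 0EXX (1),(2): let A be a discrete valuation ring with fraction field K. A finite separable extension L/K that is unramified (resp. tamely ramified) with respect to A embeds over K into a finite Galois extension of K that is unramified (resp. tamely ramified) with respect to A; and two finite separable extensions unramified (resp. tamely ramified) with respect to A embed over K into a common finite separable extension with the same property. -/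
theorem result (A K : Type u) [CommRing A] [IsDomain A] [IsDiscreteValuationRing A] [Field K] [Algebra A K] [IsFractionRing A K] :
    (∀ (L : Type u) [Field L] [Algebra K L] [FiniteDimensional K L] [Algebra.IsSeparable K L],
      (EtRam.IsUnramifiedExt A ((algebraMap K L).comp (algebraMap A K)) →
        ∃ (M : Type u) (_ : Field M) (_ : Algebra K M) (_ : FiniteDimensional K M) (_ : IsGalois K M) (_ : L →ₐ[K] M),
          EtRam.IsUnramifiedExt A ((algebraMap K M).comp (algebraMap A K))) ∧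
      (EtRam.IsTamelyRamified A ((algebraMap K L).comp (algebraMap A K)) →
        ∃ (M : Type u) (_ : Field M) (_ : Algebra K M) (_ : FiniteDimensional K M) (_ : IsGalois K M) (_ : L →ₐ[K] M),
          EtRam.IsTamelyRamified A ((algebraMap K M).comp (algebraMap A K)))) ∧
    (∀ (L₁ L₂ : Type u) [Field L₁] [Field L₂] [Algebra K L₁] [Algebra K L₂] [FiniteDimensional K L₁] [FiniteDimensional K L₂]
      [Algebra.IsSeparable K L₁] [Algebra.IsSeparable K L₂],
      (EtRam.IsUnramifiedExt A ((algebraMap K L₁).comp (algebraMap A K)) →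
        EtRam.IsUnramifiedExt A ((algebraMap K L₂).comp (algebraMap A K)) →
        ∃ (M : Type u) (_ : Field M) (_ : Algebra K M) (_ : FiniteDimensional K M) (_ : Algebra.IsSeparable K M)
          (_ : L₁ →ₐ[K] M) (_ : L₂ →ₐ[K] M), EtRam.IsUnramifiedExt A ((algebraMap K M).comp (algebraMap A K))) ∧
      (EtRam.IsTamelyRamified A ((algebraMap K L₁).comp (algebraMap A K)) →
        EtRam.IsTamelyRamified A ((algebraMap K L₂).comp (algebraMap A K)) →
        ∃ (M : Type u) (_ : Field M) (_ : Algebra K M) (_ : FiniteDimensional K M) (_ : Algebra.IsSeparable K M)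
          (_ : L₁ →ₐ[K] M) (_ : L₂ →ₐ[K] M), EtRam.IsTamelyRamified A ((algebraMap K M).comp (algebraMap A K)))) := by
  have hU : ∀ (L₁ L₂ : Type u) [Field L₁] [Field L₂] [Algebra K L₁] [Algebra K L₂]
      [FiniteDimensional K L₁] [FiniteDimensional K L₂]
      [Algebra.IsSeparable K L₁] [Algebra.IsSeparable K L₂],
      EtRam.IsUnramifiedExt A ((algebraMap K L₁).comp (algebraMap A K)) →
      EtRam.IsUnramifiedExt A ((algebraMap K L₂).comp (algebraMap A K)) →
        ∃ (M : Type u) (_ : Field M) (_ : Algebra K M) (_ : FiniteDimensional K M)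
          (_ : IsGalois K M) (_ : L₁ →ₐ[K] M) (_ : L₂ →ₐ[K] M),
          EtRam.IsUnramifiedExt A ((algebraMap K M).comp (algebraMap A K)) := by
    intro L₁ L₂ _ _ _ _ _ _ _ _ h₁ h₂
    obtain ⟨M, _, _, _, _, ⟨g₁⟩, ⟨g₂⟩⟩ := Etalg.RamGalois.exists_galois K L₁ L₂
    obtain ⟨S, hS, hcrit⟩ := Etalg.RamGalois.exists_set_unram A (K := K) (M := M)
    obtain ⟨F, hG, hP, ⟨f₁⟩, ⟨f₂⟩⟩ := Etalg.RamGalois.core S hS
      (fun L _ _ ↦ EtRam.IsUnramifiedExt A ((algebraMap K L).comp (algebraMap A K)))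
      hcrit L₁ L₂ g₁ g₂ h₁ h₂
    exact ⟨F, inferInstance, inferInstance, inferInstance, hG, f₁, f₂, hP⟩
  have hT : ∀ (L₁ L₂ : Type u) [Field L₁] [Field L₂] [Algebra K L₁] [Algebra K L₂]
      [FiniteDimensional K L₁] [FiniteDimensional K L₂]
      [Algebra.IsSeparable K L₁] [Algebra.IsSeparable K L₂],
      EtRam.IsTamelyRamified A ((algebraMap K L₁).comp (algebraMap A K)) →
      EtRam.IsTamelyRamified A ((algebraMap K L₂).comp (algebraMap A K)) →
        ∃ (M : Type u) (_ : Field M) (_ : Algebra K M) (_ : FiniteDimensional K M)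
          (_ : IsGalois K M) (_ : L₁ →ₐ[K] M) (_ : L₂ →ₐ[K] M),
          EtRam.IsTamelyRamified A ((algebraMap K M).comp (algebraMap A K)) := by
    intro L₁ L₂ _ _ _ _ _ _ _ _ h₁ h₂
    obtain ⟨M, _, _, _, _, ⟨g₁⟩, ⟨g₂⟩⟩ := Etalg.RamGalois.exists_galois K L₁ L₂
    obtain ⟨S, hS, hcrit⟩ := Etalg.RamGalois.exists_set_tame A (K := K) (M := M)
    obtain ⟨F, hG, hP, ⟨f₁⟩, ⟨f₂⟩⟩ := Etalg.RamGalois.core S hS
      (fun L _ _ ↦ EtRam.IsTamelyRamified A ((algebraMap K L).comp (algebraMap A K)))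
      hcrit L₁ L₂ g₁ g₂ h₁ h₂
    exact ⟨F, inferInstance, inferInstance, inferInstance, hG, f₁, f₂, hP⟩
  refine ⟨fun L _ _ _ _ ↦ ⟨fun h ↦ ?_, fun h ↦ ?_⟩, fun L₁ L₂ _ _ _ _ _ _ _ _ ↦
    ⟨fun h₁ h₂ ↦ ?_, fun h₁ h₂ ↦ ?_⟩⟩
  · obtain ⟨M, i1, i2, i3, i4, f, -, hP⟩ := hU L L h h
    exact ⟨M, i1, i2, i3, i4, f, hP⟩
  · obtain ⟨M, i1, i2, i3, i4, f, -, hP⟩ := hT L L h h
    exact ⟨M, i1, i2, i3, i4, f, hP⟩
  · obtain ⟨M, i1, i2, i3, i4, f₁, f₂, hP⟩ := hU L₁ L₂ h₁ h₂
    exact ⟨M, i1, i2, i3, i4.to_isSeparable, f₁, f₂, hP⟩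
  · obtain ⟨M, i1, i2, i3, i4, f₁, f₂, hP⟩ := hT L₁ L₂ h₁ h₂
    exact ⟨M, i1, i2, i3, i4.to_isSeparable, f₁, f₂, hP⟩

end Groth.Agent.S1991
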