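import Groth.Statements.S1992
import Mathlib.RingTheory.Polynomial.ScaleRoots
import Mathlib.RingTheory.Localization.Integer
import Mathlib.FieldTheory.IsAlgClosed.Basic
import Mathlib.Algebra.Polynomial.Lifts

set_option autoImplicit false
universe u
open Polynomial
open EtAlg

namespace Groth.Agent.S1992

/-- A monic polynomial over a localization becomes, after scaling the roots by a unit, the image of a monic
polynomial upstairs. -/
theorem exists_scaleRoots {A R : Type u} [CommRing A] [CommRing R] [Algebra A R] (M : Submonoid A)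
    [IsLocalization M R] (f : R[X]) (hf : f.Monic) :
    ∃ (s : M) (F : A[X]), F.Monic ∧ F.map (algebraMap A R) = f.scaleRoots (algebraMap A R s) := by
  obtain ⟨s, hs⟩ := IsLocalization.exist_integer_multiples (R := A) M (Finset.range (f.natDegree)) (fun i => f.coeff i)
  have hl : f.scaleRoots (algebraMap A R s) ∈ lifts (algebraMap A R) := by
    rw [lifts_iff_coeff_lifts]
    intro i
    rw [coeff_scaleRoots]
    rcases lt_trichotomy i f.natDegree with h | h | h
    · obtain ⟨a, ha⟩ := hs i (Finset.mem_range.mpr h)
      refine ⟨a * s ^ (f.natDegree - i - 1), ?_⟩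
      have h1 : f.natDegree - i = (f.natDegree - i - 1) + 1 := by omega
      rw [h1, pow_succ, map_mul, map_pow, ha, Algebra.smul_def]
      simp only [Nat.add_sub_cancel]
      ring
    · subst h
      refine ⟨1, ?_⟩
      rw [hf.coeff_natDegree]
      simp
    · refine ⟨0, ?_⟩
      rw [coeff_eq_zero_of_natDegree_lt h]
      simp
  obtain ⟨F, hF, -, hFm⟩ := lifts_and_natDegree_eq_and_monic hl ((monic_scaleRoots_iff _).mpr hf)
  exact ⟨s, F, hFm, hF⟩

/-- roots of the localized polynomial near a point -/
theorem exists_roots {A R : Type u} [CommRing A] [CommRing R] [Algebra A R] (M : Submonoid A)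
    [IsLocalization M R] (hA : ∀ f : A[X], f.Monic → ∃ s : Multiset A, f = (s.map fun a => X - C a).prod)
    (f : R[X]) (hf : f.Monic) :
    ∃ (u : Rˣ) (T : Multiset R), f.scaleRoots (u : R) = (T.map fun a => X - C a).prod ∧
      ∀ t ∈ T, f.eval ((u⁻¹ : Rˣ) * t) = 0 := by
  obtain ⟨s, F, hF, hFs⟩ := exists_scaleRoots M f hf
  obtain ⟨T, hT⟩ := hA F hF
  obtain ⟨u, hu⟩ := IsLocalization.map_units R s
  have h1 : f.scaleRoots (u : R) = ((T.map (algebraMap A R)).map fun a => X - C a).prod := by
    rw [hu, ← hFs, hT, Polynomial.map_multiset_prod, Multiset.map_map, Multiset.map_map]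
    congr 1
    refine Multiset.map_congr rfl fun a _ => ?_
    simp
  refine ⟨u, T.map (algebraMap A R), h1, fun t ht => ?_⟩
  have h2 : (f.scaleRoots (u : R)).eval t = 0 := by
    rw [h1, eval_multiset_prod, Multiset.prod_eq_zero]
    rw [Multiset.mem_map]
    refine ⟨X - C t, Multiset.mem_map.mpr ⟨t, ht, rfl⟩, by simp⟩
  have h3 : (f.scaleRoots (u : R)).eval ((u : R) * ((u⁻¹ : Rˣ) * t)) = (u : R) ^ f.natDegree * f.eval ((u⁻¹ : Rˣ) * t) :=
    scaleRoots_eval_mul f _ _
  rw [← mul_assoc, Units.mul_inv, one_mul, h2] at h3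
  exact ((u.isUnit.pow _).mul_right_eq_zero).mp h3.symm

/-- Stacks Tag 0DCS: let A be an absolutely integrally closed ring, i.e. every monic polynomial over A is a product of linear factors X - a. Then for every prime p of A the localization A_p is a strictly henselian local ring (henselian with separably closed residue field). -/
theorem result (A : Type u) [CommRing A]
    (hA : ∀ f : A[X], f.Monic → ∃ s : Multiset A, f = (s.map fun a => X - C a).prod)
    (p : Ideal A) [p.IsPrime] :
    EtCoh.IsStrictlyHenselianLocalRing (Localization.AtPrime p) := by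
  have hH : HenselianLocalRing (Localization.AtPrime p) := by
    refine ⟨fun f hf a₀ h1 h2 => ?_⟩
    obtain ⟨u, T, hT, hroot⟩ := exists_roots (R := Localization.AtPrime p) p.primeCompl hA f hf
    have h3 : (f.scaleRoots (u : Localization.AtPrime p)).eval ((u : Localization.AtPrime p) * a₀) ∈
        IsLocalRing.maximalIdeal (Localization.AtPrime p) := by
      rw [scaleRoots_eval_mul]
      exact Ideal.mul_mem_left _ _ h1
    rw [hT, eval_multiset_prod, Multiset.map_map] at h3
    obtain ⟨y, hy, hym⟩ := ((IsLocalRing.maximalIdeal.isMaximal _).isPrime.multiset_prod_mem_iff_exists_mem _).mp h3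
    obtain ⟨t, ht, rfl⟩ := Multiset.mem_map.mp hy
    have htm := hym
    simp only [Function.comp_apply, eval_sub, eval_X, eval_C] at htm
    refine ⟨(u⁻¹ : (Localization.AtPrime p)ˣ) * t, hroot t ht, ?_⟩
    have h4 : ((u⁻¹ : (Localization.AtPrime p)ˣ) : Localization.AtPrime p) * t - a₀ =
        -(((u⁻¹ : (Localization.AtPrime p)ˣ) : Localization.AtPrime p)) * ((u : Localization.AtPrime p) * a₀ - t) := by
      have h5 : ((u⁻¹ : (Localization.AtPrime p)ˣ) : Localization.AtPrime p) * u = 1 := u.inv_mul
      linear_combination a₀ * h5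
    rw [h4]
    exact Ideal.mul_mem_left _ _ htm
  refine ⟨hH, ?_⟩
  have : IsAlgClosed (IsLocalRing.ResidueField (Localization.AtPrime p)) := by
    refine IsAlgClosed.of_exists_root _ (fun h hm hirr => ?_)
    have hl : h ∈ lifts (IsLocalRing.residue (Localization.AtPrime p)) := by
      rw [lifts_iff_coeff_lifts]
      intro n
      exact IsLocalRing.residue_surjective _
    obtain ⟨f, hf, hdeg, hfm⟩ := lifts_and_natDegree_eq_and_monic hl hm
    obtain ⟨u, T, hT, hroot⟩ := exists_roots (R := Localization.AtPrime p) p.primeCompl hA f hfm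
    have hne : T ≠ 0 := by
      rintro rfl
      simp only [Multiset.map_zero, Multiset.prod_zero] at hT
      have h1 : (f.scaleRoots (u : Localization.AtPrime p)).natDegree = 0 := by rw [hT, natDegree_one]
      rw [natDegree_scaleRoots, hdeg] at h1
      exact hirr.natDegree_pos.ne' h1
    obtain ⟨t, ht⟩ := Multiset.exists_mem_of_ne_zero hne
    refine ⟨IsLocalRing.residue _ (((u⁻¹ : (Localization.AtPrime p)ˣ) : Localization.AtPrime p) * t), ?_⟩
    rw [← hf, eval_map, eval₂_at_apply, hroot t ht, map_zero]
  infer_instance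

end Groth.Agent.S1992
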