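import Groth.Statements.S1994
import Groth.Agent.Etalg.PairHensNoeth

set_option autoImplicit false
universe u
open EtAlg

namespace Groth.Agent.S1994

/-- Stacks Tag 0AGV: let (A, I) be a pair with A Noetherian and B a henselization of the pair. Then B is Noetherian and flat over A, and the induced map of adic completions, from the I-adic completion of A to the IB-adic completion of B, is bijective. -/
theorem result (A : Type u) [CommRing A] [IsNoetherianRing A] (I : Ideal A)
    (B : Type u) [CommRing B] [Algebra A B] (hB : Hens2.IsPairHenselization A I B) :
    IsNoetherianRing B ∧ Module.Flat A B ∧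
      Function.Bijective (AdicCompletion.map I (Algebra.linearMap A B) :
        AdicCompletion I A → AdicCompletion I B) := by
  have hf := Groth.Agent.Etalg.PairHens2.flat B hB
  refine ⟨?_, hf, ?_⟩
  · obtain ⟨e⟩ := Groth.Agent.Etalg.PairHens2.exists_equiv
      (Groth.Agent.Etalg.PairHens.isPairHenselization_Hens A I) hB
    have := Groth.Agent.Etalg.PairHensNoeth.isNoetherianRing_Hens (I := I)
    exact isNoetherianRing_of_ringEquiv _ e.toRingEquiv
  · exact Groth.Agent.Etalg.PairHensNoeth.map_bijective fun n =>
      Groth.Agent.Etalg.PairHens2.quot_pow_bijective
        (Groth.Agent.Etalg.PairHens2.quot_bijective B hB) n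

end Groth.Agent.S1994
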