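import Groth.Statements.S1995
import Groth.Agent.S0522
import Groth.Agent.S0526
import Groth.Agent.S0528
import Groth.Agent.S0529
import Mathlib.RingTheory.Idempotents
import Mathlib.RingTheory.Ideal.Quotient.Operations

set_option autoImplicit false
universe u
open EtAlg

namespace Groth.Agent.S1995

open Groth.Agent.Hensel.PairIdem

/-- Two henselizations of a pair are isomorphic. -/
theorem uniq (A : Type u) [CommRing A] (K : Ideal A) (B P : Type u) [CommRing B] [Algebra A B]
    [CommRing P] [Algebra A P] (hB : Hens2.IsPairHenselization A K B)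
    (hP : Hens2.IsPairHenselization A K P) : Nonempty (B ≃ₐ[A] P) := by
  obtain ⟨g, hg, -⟩ := hB.2 P (K.map (algebraMap A P)) (algebraMap A P) hP.1 le_rfl
  obtain ⟨h, hh, -⟩ := hP.2 B (K.map (algebraMap A B)) (algebraMap A B) hB.1 le_rfl
  have h1 : h.comp g = RingHom.id B := by
    apply (hB.2 B (K.map (algebraMap A B)) (algebraMap A B) hB.1 le_rfl).unique
    · rw [RingHom.comp_assoc, hg, hh]
    · rfl
  have h2 : g.comp h = RingHom.id P := by
    apply (hP.2 P (K.map (algebraMap A P)) (algebraMap A P) hP.1 le_rfl).unique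
    · rw [RingHom.comp_assoc, hh, hg]
    · rfl
  exact ⟨AlgEquiv.ofRingEquiv (f := RingEquiv.ofRingHom g h h2 h1)
    (fun r => RingHom.congr_fun hg r)⟩

theorem lift_idem (C : Type u) [CommRing C] (J : Ideal C) (hJ : HenselianRing C J) (x : C)
    (hx : x * x - x ∈ J) : ∃ e, IsIdempotentElem e ∧ e - x ∈ J := by
  have h := exists_idempotent_lift_of_factor_lift J hJ.jac
      ((Groth.Agent.S0520.result C J).mp hJ).2 (B := C) x (by simpa [Ideal.map_id] using hx)
  simpa [Ideal.map_id] using h

/-- The extension of `⨅ I i` to the product is contained in the product ideal. -/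
theorem map_iInf_le (A : Type u) [CommRing A] {n : ℕ} (I : Fin n → Ideal A)
    (Bi : Fin n → Type u) [∀ i, CommRing (Bi i)] [∀ i, Algebra A (Bi i)] :
    (⨅ i, I i).map (algebraMap A (∀ i, Bi i)) ≤
      ⨅ i, Ideal.comap (Pi.evalRingHom Bi i) ((I i).map (algebraMap A (Bi i))) := by
  rw [le_iInf_iff]
  intro i
  rw [Ideal.map_le_iff_le_comap]
  intro x hx
  rw [Ideal.mem_comap, Ideal.mem_comap]
  exact Ideal.mem_map_of_mem _ ((iInf_le I i) hx)

theorem eval_pi {J : Type} (A : J → Type u) [∀ j, CommRing (A j)] (f : Polynomial (∀ j, A j))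
    (a : ∀ j, A j) (j : J) :
    (f.eval a) j = (f.map (Pi.evalRingHom A j)).eval (a j) := by
  have := Polynomial.eval_map_apply (f := Pi.evalRingHom A j) (p := f) (x := a)
  simpa using this.symm

theorem mem_iInf_comap_iff {J : Type} (A : J → Type u) [∀ j, CommRing (A j)]
    (I : ∀ j, Ideal (A j)) (x : ∀ j, A j) :
    x ∈ (⨅ j, Ideal.comap (Pi.evalRingHom A j) (I j)) ↔ ∀ j, x j ∈ I j := by
  simp [Ideal.mem_comap]

theorem henselianRing_pi {J : Type} (A : J → Type u) [∀ j, CommRing (A j)]
    (I : ∀ j, Ideal (A j)) (H : ∀ j, HenselianRing (A j) (I j)) :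
    HenselianRing (∀ j, A j) (⨅ j, Ideal.comap (Pi.evalRingHom A j) (I j)) := by
  have hjac : (⨅ j, Ideal.comap (Pi.evalRingHom A j) (I j)) ≤ Ideal.jacobson ⊥ := by
    intro x hx
    rw [mem_iInf_comap_iff] at hx
    rw [Ideal.mem_jacobson_bot]
    intro y
    rw [Pi.isUnit_iff]
    intro j
    exact Ideal.mem_jacobson_bot.mp ((H j).jac (hx j)) (y j)
  refine ⟨hjac, ?_⟩
  intro f hf a₀ h₁ h₂
  rw [mem_iInf_comap_iff] at h₁
  rw [Groth.Agent.S0529.isUnit_mk_iff] at h₂
  obtain ⟨b, hb⟩ := h₂
  rw [mem_iInf_comap_iff] at hb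
  have key : ∀ j, ∃ a : A j, (f.map (Pi.evalRingHom A j)).IsRoot a ∧ a - a₀ j ∈ I j := by
    intro j
    refine (H j).is_henselian _ (hf.map _) (a₀ j) ?_ ?_
    · have := h₁ j
      rwa [eval_pi] at this
    · rw [Groth.Agent.S0529.isUnit_mk_iff]
      refine ⟨b j, ?_⟩
      have := hb j
      rw [Pi.sub_apply, Pi.mul_apply, eval_pi, ← Polynomial.derivative_map] at this
      exact this
  choose a ha1 ha2 using key
  refine ⟨a, ?_, ?_⟩
  · rw [Polynomial.IsRoot.def]
    funext j
    rw [eval_pi]
    exact ha1 j
  · rw [mem_iInf_comap_iff]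
    exact ha2

/-- The product of the henselizations satisfies the universal property. -/
theorem isPairHenselization_pi (A : Type u) [CommRing A] {n : ℕ} (I : Fin n → Ideal A)
    (hI : Pairwise fun i j => I i ⊔ I j = ⊤)
    (Bi : Fin n → Type u) [∀ i, CommRing (Bi i)] [∀ i, Algebra A (Bi i)]
    (hBi : ∀ i, Hens2.IsPairHenselization A (I i) (Bi i)) :
    Hens2.IsPairHenselization A (⨅ i, I i) (∀ i, Bi i) := by
  classical
  let P := ∀ i, Bi i
  let K : Ideal A := ⨅ i, I i
  let L : Ideal P := ⨅ i, Ideal.comap (Pi.evalRingHom Bi i) ((I i).map (algebraMap A (Bi i)))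
  have hL : HenselianRing P L := henselianRing_pi Bi _ fun i => (hBi i).1
  have hKL : K.map (algebraMap A P) ≤ L := map_iInf_le A I Bi
  have hK : HenselianRing P (K.map (algebraMap A P)) :=
    ((Groth.Agent.S0528.result P _ _ hKL).mp hL).1
  refine ⟨hK, ?_⟩
  intro C _ J f hJ hfJ
  -- Chinese remainder elements
  have hcop : Pairwise (Function.onFun IsCoprime I) := by
    intro i j hij
    exact Ideal.isCoprime_iff_sup_eq.mpr (hI hij)
  have hε : ∀ i, ∃ ε : A, ∀ j, ε - (if i = j then 1 else 0) ∈ I j := fun i =>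
    Ideal.exists_forall_sub_mem_ideal hcop (fun j => if i = j then (1 : A) else 0)
  choose ε hε using hε
  have hε1 : ∀ i, ε i - 1 ∈ I i := fun i => by simpa using hε i i
  have hε0 : ∀ i j, i ≠ j → ε i ∈ I j := fun i j hij => by simpa [hij] using hε i j
  have hεidem : ∀ i, ε i * ε i - ε i ∈ K := by
    intro i
    rw [Ideal.mem_iInf]
    intro j
    by_cases hij : i = j
    · subst hij
      have : ε i * ε i - ε i = ε i * (ε i - 1) := by ring
      rw [this]
      exact Ideal.mul_mem_left _ _ (hε1 i)
    · have : ε i * ε i - ε i = (ε i - 1) * ε i := by ring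
      rw [this]
      exact Ideal.mul_mem_left _ _ (hε0 i j hij)
  have hεorth : ∀ i j, i ≠ j → ε i * ε j ∈ K := by
    intro i j hij
    rw [Ideal.mem_iInf]
    intro k
    by_cases hik : i = k
    · subst hik
      exact Ideal.mul_mem_left _ _ (hε0 j i hij.symm)
    · exact Ideal.mul_mem_right _ _ (hε0 i k hik)
  have hεsum : (∑ i, ε i) - 1 ∈ K := by
    rw [Ideal.mem_iInf]
    intro j
    have h1 : (∑ i, ε i) - 1 = ∑ i, (ε i - (if i = j then 1 else 0)) := by
      rw [Finset.sum_sub_distrib]
      simp
    rw [h1]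
    exact Ideal.sum_mem _ fun i _ => hε i j
  have hfK : ∀ x ∈ K, f x ∈ J := fun x hx => hfJ (Ideal.mem_map_of_mem f hx)
  -- lift the idempotents
  have he : ∀ i, ∃ e : C, IsIdempotentElem e ∧ e - f (ε i) ∈ J := by
    intro i
    apply lift_idem C J hJ
    rw [← map_mul, ← map_sub]
    exact hfK _ (hεidem i)
  choose e he1 he2 using he
  have he_orth : ∀ i j, i ≠ j → e i * e j = 0 := by
    intro i j hij
    apply eq_of_isIdempotentElem_of_sub_mem J hJ.jac _ _ ((he1 i).mul (he1 j)) IsIdempotentElem.zero
    have h1 : e i * e j - 0 = (e i - f (ε i)) * e j + f (ε i) * (e j - f (ε j)) + f (ε i * ε j) := by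
      rw [map_mul]; ring
    rw [h1]
    exact J.add_mem (J.add_mem (J.mul_mem_right _ (he2 i)) (J.mul_mem_left _ (he2 j)))
      (hfK _ (hεorth i j hij))
  have he_o : OrthogonalIdempotents e := ⟨he1, fun i j hij => he_orth i j hij⟩
  have he_sum : ∑ i, e i = 1 := by
    apply eq_of_isIdempotentElem_of_sub_mem J hJ.jac _ _ he_o.isIdempotentElem_sum
      IsIdempotentElem.one
    have h1 : ∑ i, e i - 1 = ∑ i, (e i - f (ε i)) + f ((∑ i, ε i) - 1) := by
      rw [Finset.sum_sub_distrib, map_sub, map_sum, map_one]
      ring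
    rw [h1]
    exact J.add_mem (J.sum_mem fun i _ => he2 i) (hfK _ hεsum)
  have hec : CompleteOrthogonalIdempotents e := ⟨he_o, he_sum⟩
  have hbij := hec.bijective_pi
  -- the components
  let Ci : Fin n → Type u := fun i => C ⧸ Ideal.span {1 - e i}
  let q : ∀ i, C →+* Ci i := fun i => Ideal.Quotient.mk (Ideal.span {1 - e i})
  have hq : ∀ i, Function.Surjective (q i) := fun i => Ideal.Quotient.mk_surjective
  have hqe : ∀ i, q i (e i) = 1 := by
    intro i
    have : q i (1 - e i) = 0 := Ideal.Quotient.eq_zero_iff_mem.mpr (Ideal.mem_span_singleton_self _)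
    rw [map_sub, map_one, sub_eq_zero] at this
    exact this.symm
  have hinj : ∀ x y : C, (∀ i, q i x = q i y) → x = y := by
    intro x y h
    apply hbij.1
    funext i
    exact h i
  have hCi : ∀ i, HenselianRing (Ci i) (J.map (q i)) := by
    intro i
    have : Algebra.IsIntegral C (C ⧸ Ideal.span {1 - e i}) := Algebra.IsIntegral.of_finite _ _
    exact Groth.Agent.S0526.result C J (C ⧸ Ideal.span {1 - e i})
  have hfi : ∀ i, (I i).map ((q i).comp f) ≤ J.map (q i) := by
    intro i
    rw [Ideal.map_le_iff_le_comap]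
    intro x hx
    rw [Ideal.mem_comap, RingHom.comp_apply]
    have hxK : x * ε i ∈ K := by
      rw [Ideal.mem_iInf]
      intro j
      by_cases hij : i = j
      · subst hij
        exact Ideal.mul_mem_right _ _ hx
      · exact Ideal.mul_mem_left _ _ (hε0 i j hij)
    have h1 : f x * e i ∈ J := by
      have h2 : f x * e i = f x * (e i - f (ε i)) + f (x * ε i) := by rw [map_mul]; ring
      rw [h2]
      exact J.add_mem (J.mul_mem_left _ (he2 i)) (hfK _ hxK)
    have h3 : q i (f x) = q i (f x * e i) := by rw [map_mul, hqe, mul_one]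
    rw [h3]
    exact Ideal.mem_map_of_mem _ h1
  have huniv : ∀ i, ∃! g : Bi i →+* Ci i, g.comp (algebraMap A (Bi i)) = (q i).comp f :=
    fun i => (hBi i).2 (Ci i) (J.map (q i)) ((q i).comp f) (hCi i) (hfi i)
  -- idempotents of `P`
  have hu : ∀ i, (Pi.single i 1 : P) - algebraMap A P (ε i) ∈ K.map (algebraMap A P) := by
    intro i
    have hjac : L ≤ Ideal.jacobson ⊥ := hL.jac
    have hidem : algebraMap A P (ε i) * algebraMap A P (ε i) - algebraMap A P (ε i) ∈
        K.map (algebraMap A P) := by
      rw [← map_mul, ← map_sub]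
      exact Ideal.mem_map_of_mem _ (hεidem i)
    have hsingle : (Pi.single i 1 : P) * Pi.single i 1 = Pi.single i 1 := by
      rw [← Pi.single_mul, one_mul]
    -- elements of the Jacobson radical idempotent modulo `K P` lie in `K P`
    have key : ∀ w : P, w ∈ L → w * w - w ∈ K.map (algebraMap A P) →
        w ∈ K.map (algebraMap A P) := by
      intro w hw hw2
      obtain ⟨v, hv⟩ := Ideal.mem_jacobson_bot.mp (hjac hw) (-1)
      have h1 : w = (w * w - w) * (-↑v⁻¹) := by
        have h2 : (v : P) * ↑v⁻¹ = 1 := v.mul_inv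
        rw [hv] at h2
        linear_combination (-w) * h2
      rw [h1]
      exact Ideal.mul_mem_right _ _ hw2
    have h1 : (Pi.single i 1 : P) * (1 - algebraMap A P (ε i)) ∈ K.map (algebraMap A P) := by
      apply key
      · rw [mem_iInf_comap_iff]
        intro j
        by_cases hij : j = i
        · subst hij
          have h3 : ((Pi.single j 1 : P) * (1 - algebraMap A P (ε j))) j =
              -(algebraMap A (Bi j) (ε j - 1)) := by
            rw [Pi.mul_apply, Pi.single_eq_same, one_mul, Pi.sub_apply, Pi.one_apply,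
              Pi.algebraMap_apply, map_sub, map_one, neg_sub]
          rw [h3]
          exact Ideal.neg_mem_iff _ |>.mpr (Ideal.mem_map_of_mem _ (hε1 j))
        · rw [Pi.mul_apply, Pi.single_eq_of_ne hij, zero_mul]
          exact Ideal.zero_mem _
      · have h3 : (Pi.single i 1 : P) * (1 - algebraMap A P (ε i)) *
            ((Pi.single i 1 : P) * (1 - algebraMap A P (ε i))) -
            (Pi.single i 1 : P) * (1 - algebraMap A P (ε i)) =
            (Pi.single i 1 : P) * (algebraMap A P (ε i) * algebraMap A P (ε i) -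
              algebraMap A P (ε i)) := by
          linear_combination (1 - algebraMap A P (ε i)) ^ 2 * hsingle
        rw [h3]
        exact Ideal.mul_mem_left _ _ hidem
    have h2 : algebraMap A P (ε i) * (1 - (Pi.single i 1 : P)) ∈ K.map (algebraMap A P) := by
      apply key
      · rw [mem_iInf_comap_iff]
        intro j
        by_cases hij : j = i
        · subst hij
          rw [Pi.mul_apply, Pi.sub_apply, Pi.single_eq_same, Pi.one_apply, sub_self, mul_zero]
          exact Ideal.zero_mem _
        · rw [Pi.mul_apply, Pi.algebraMap_apply]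
          exact Ideal.mul_mem_right _ _ (Ideal.mem_map_of_mem _ (hε0 i j (Ne.symm hij)))
      · have h3 : algebraMap A P (ε i) * (1 - (Pi.single i 1 : P)) *
            (algebraMap A P (ε i) * (1 - (Pi.single i 1 : P))) -
            algebraMap A P (ε i) * (1 - (Pi.single i 1 : P)) =
            (1 - (Pi.single i 1 : P)) * (algebraMap A P (ε i) * algebraMap A P (ε i) -
              algebraMap A P (ε i)) := by
          linear_combination (algebraMap A P (ε i)) ^ 2 * hsingle
        rw [h3]
        exact Ideal.mul_mem_left _ _ hidem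
    have h4 : (Pi.single i 1 : P) - algebraMap A P (ε i) =
        (Pi.single i 1 : P) * (1 - algebraMap A P (ε i)) -
          algebraMap A P (ε i) * (1 - (Pi.single i 1 : P)) := by ring
    rw [h4]
    exact Ideal.sub_mem _ h1 h2
  -- a map `g : P → C` under `A` sends the standard idempotents to `e i`
  have hgu : ∀ g : P →+* C, g.comp (algebraMap A P) = f → ∀ i, g (Pi.single i 1) = e i := by
    intro g hg i
    apply eq_of_isIdempotentElem_of_sub_mem J hJ.jac
    · have hsingle : IsIdempotentElem (Pi.single i 1 : P) := by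
        change (Pi.single i 1 : P) * Pi.single i 1 = Pi.single i 1
        rw [← Pi.single_mul, one_mul]
      exact hsingle.map g
    · exact he1 i
    · have h1 : g (Pi.single i 1 - algebraMap A P (ε i)) ∈ J := by
        have h2 : K.map (algebraMap A P) ≤ J.comap g := by
          rw [Ideal.map_le_iff_le_comap]
          intro x hx
          rw [Ideal.mem_comap, Ideal.mem_comap, ← RingHom.comp_apply, hg]
          exact hfK x hx
        exact h2 (hu i)
      rw [map_sub, ← RingHom.comp_apply, hg] at h1
      have h3 : g (Pi.single i 1) - e i = (g (Pi.single i 1) - f (ε i)) - (e i - f (ε i)) := by ring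
      rw [h3]
      exact J.sub_mem h1 (he2 i)
  -- the component maps of such a `g`
  have hcomp : ∀ g : P →+* C, g.comp (algebraMap A P) = f → ∀ i, ∃ gi : Bi i →+* Ci i,
      gi.comp (algebraMap A (Bi i)) = (q i).comp f ∧ ∀ x : P, q i (g x) = gi (x i) := by
    intro g hg i
    have hmul : ∀ x : P, (Pi.single i 1 : P) * x = Pi.single i (x i) := by
      intro x
      funext j
      by_cases hij : j = i
      · subst hij
        rw [Pi.mul_apply, Pi.single_eq_same, Pi.single_eq_same, one_mul]
      · rw [Pi.mul_apply, Pi.single_eq_of_ne hij, Pi.single_eq_of_ne hij, zero_mul]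
    have hqg : ∀ x : P, q i (g x) = q i (g (Pi.single i (x i))) := by
      intro x
      rw [← hmul, map_mul g, hgu g hg i, map_mul, hqe, one_mul]
    refine ⟨{ toFun := fun b => q i (g (Pi.single i b))
              map_one' := by rw [hgu g hg i, hqe]
              map_zero' := by rw [Pi.single_zero, map_zero, map_zero]
              map_add' := fun a b => by rw [Pi.single_add, map_add, map_add]
              map_mul' := fun a b => by rw [Pi.single_mul, map_mul, map_mul] }, ?_, ?_⟩
    · ext a
      have h1 := hqg (algebraMap A P a)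
      rw [← RingHom.comp_apply g, hg] at h1
      exact h1.symm
    · intro x
      exact hqg x
  apply existsUnique_of_exists_of_unique
  · choose gi hgi using fun i => (huniv i).exists
    let Φ : C ≃+* ∀ i, Ci i := RingEquiv.ofBijective _ hbij
    refine ⟨(Φ.symm : (∀ i, Ci i) →+* C).comp
      (RingHom.pi fun i => (gi i).comp (Pi.evalRingHom Bi i)), ?_⟩
    ext a
    apply Φ.injective
    rw [RingHom.comp_apply, RingHom.comp_apply]
    change Φ (Φ.symm _) = _
    rw [RingEquiv.apply_symm_apply]
    funext i
    exact RingHom.congr_fun (hgi i) a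
  · intro g g' hg hg'
    ext x
    apply hinj
    intro i
    obtain ⟨gi, hgi1, hgi2⟩ := hcomp g hg i
    obtain ⟨gi', hgi1', hgi2'⟩ := hcomp g' hg' i
    rw [hgi2, hgi2', (huniv i).unique hgi1 hgi1']

/-- Stacks Tag 0H7Q: let I_1, …, I_n be pairwise comaximal ideals of a ring A, B a henselization of the pair (A, I_1 ∩ … ∩ I_n) and B_i a henselization of (A, I_i) for each i. Then B is isomorphic as an A-algebra to the product of the B_i (any such isomorphism is the natural comparison map, by the universal property). -/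
theorem result (A : Type u) [CommRing A] {n : ℕ} (I : Fin n → Ideal A)
    (hI : Pairwise fun i j => I i ⊔ I j = ⊤) (B : Type u) [CommRing B] [Algebra A B]
    (hB : Hens2.IsPairHenselization A (⨅ i, I i) B) (Bi : Fin n → Type u) [∀ i, CommRing (Bi i)] [∀ i, Algebra A (Bi i)]
    (hBi : ∀ i, Hens2.IsPairHenselization A (I i) (Bi i)) :
    Nonempty (B ≃ₐ[A] ∀ i, Bi i) := by
  exact uniq A _ B _ hB (isPairHenselization_pi A I hI Bi hBi)

end Groth.Agent.S1995
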