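import Groth.Statements.S1997
import Groth.Agent.Etalg.WeakDimEtale
import Groth.Agent.Etalg.WeakDimEpi
-- import your own Groth.Agent.* helpers here

set_option autoImplicit false
universe u
open CategoryTheory
open EtAlg

namespace Groth.Agent.S1997

/-- Stacks Tag 092V: let A be a ring all of whose ideals are flat (weak dimension at most one) and A -> B a flat, injective ring map which is an epimorphism in the category of commutative rings. Then A is integrally closed in B. -/
theorem result (A B : Type u) [CommRing A] [CommRing B] [Algebra A B]
    (hA : ∀ I : Ideal A, Module.Flat A I) [Module.Flat A B] (hinj : Function.Injective (algebraMap A B))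
    (hepi : Epi (CommRingCat.ofHom (algebraMap A B))) : IsIntegrallyClosedIn A B := by
  have : Algebra.IsEpi A B := by
    rw [CommRingCat.epi_iff_epi] at hepi
    exact hepi
  exact Groth.Agent.Etalg.WeakDimEpi.isIntegrallyClosedIn_of_flat_epi hA hinj

end Groth.Agent.S1997
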