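import Groth.Statements.S1998
import Mathlib.Algebra.Polynomial.Lifts

set_option autoImplicit false
universe u
open EtAlg

namespace Groth.Agent.S1998

open Polynomial in
/-- Descent of simple approximate roots to a finite stage. -/
theorem aux {ι : Type u} [Preorder ι] [IsDirected ι (· ≤ ·)] [Nonempty ι]
    (G : ι → Type u) [∀ i, CommRing (G i)] (f : ∀ i j, i ≤ j → G i →+* G j)
    [DirectedSystem G fun i j h => f i j h] (I : ∀ i, Ideal (G i))
    (hI : ∀ i j (h : i ≤ j), (I i).map (f i j h) ≤ I j)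
    (x : Ring.DirectLimit G fun i j h => f i j h)
    (hx : x ∈ ⨆ i, (I i).map (Ring.DirectLimit.of G (fun i j h => f i j h) i)) :
    ∃ i, ∃ y ∈ I i, Ring.DirectLimit.of G (fun i j h => f i j h) i y = x := by
  let J : Ideal (Ring.DirectLimit G fun i j h => f i j h) :=
    { carrier := {x | ∃ i, ∃ y ∈ I i, Ring.DirectLimit.of G (fun i j h => f i j h) i y = x}
      zero_mem' := by
        obtain ⟨i⟩ := ‹Nonempty ι›
        exact ⟨i, 0, Ideal.zero_mem _, map_zero _⟩
      add_mem' := by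
        rintro _ _ ⟨i, y, hy, rfl⟩ ⟨j, z, hz, rfl⟩
        obtain ⟨k, hik, hjk⟩ := exists_ge_ge i j
        refine ⟨k, f i k hik y + f j k hjk z, Ideal.add_mem _ (hI i k hik (Ideal.mem_map_of_mem _ hy))
          (hI j k hjk (Ideal.mem_map_of_mem _ hz)), ?_⟩
        rw [map_add, Ring.DirectLimit.of_f, Ring.DirectLimit.of_f]
      smul_mem' := by
        rintro c _ ⟨j, z, hz, rfl⟩
        obtain ⟨i, c, rfl⟩ := Ring.DirectLimit.exists_of c
        obtain ⟨k, hik, hjk⟩ := exists_ge_ge i j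
        refine ⟨k, f i k hik c * f j k hjk z, Ideal.mul_mem_left _ _
          (hI j k hjk (Ideal.mem_map_of_mem _ hz)), ?_⟩
        rw [map_mul, Ring.DirectLimit.of_f, Ring.DirectLimit.of_f, smul_eq_mul] }
  have hle : (⨆ i, (I i).map (Ring.DirectLimit.of G (fun i j h => f i j h) i)) ≤ J := by
    apply iSup_le
    intro i
    rw [Ideal.map_le_iff_le_comap]
    intro y hy
    exact ⟨i, y, hy, rfl⟩
  exact hle hx

/-- Stacks Tag 0FWT: let (A_j, I_j) be a directed system of henselian pairs (ring maps A_j -> A_k for j ≤ k carrying I_j into I_k). Then the direct limit A of the A_j together with the ideal generated by the images of the I_j is a henselian pair. -/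
theorem result {ι : Type u} [Preorder ι] [IsDirected ι (· ≤ ·)] [Nonempty ι]
    (G : ι → Type u) [∀ i, CommRing (G i)] (f : ∀ i j, i ≤ j → G i →+* G j)
    [DirectedSystem G fun i j h => f i j h] (I : ∀ i, Ideal (G i))
    (hI : ∀ i j (h : i ≤ j), (I i).map (f i j h) ≤ I j) (hh : ∀ i, HenselianRing (G i) (I i)) :
    HenselianRing (Ring.DirectLimit G fun i j h => f i j h)
      (⨆ i, (I i).map (Ring.DirectLimit.of G (fun i j h => f i j h) i)) := by
  classical
  let o : ∀ i, G i →+* Ring.DirectLimit G fun i j h => f i j h :=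
    fun i => Ring.DirectLimit.of G (fun i j h => f i j h) i
  have o_f : ∀ i j (h : i ≤ j) (x : G i), o j (f i j h x) = o i x :=
    fun i j h x => Ring.DirectLimit.of_f (f := fun i j h => f i j h) h x
  have exo : ∀ z : Ring.DirectLimit G fun i j h => f i j h, ∃ i x, o i x = z :=
    fun z => Ring.DirectLimit.exists_of z
  constructor
  · apply iSup_le
    intro i
    rw [Ideal.map_le_iff_le_comap]
    intro x hx
    rw [Ideal.mem_comap, Ideal.mem_jacobson_bot]
    intro y
    obtain ⟨j, y, rfl⟩ := exo y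
    obtain ⟨k, hik, hjk⟩ := exists_ge_ge i j
    have h1 := (hh k).jac (hI i k hik (Ideal.mem_map_of_mem _ hx))
    rw [Ideal.mem_jacobson_bot] at h1
    have h2 := (h1 (f j k hjk y)).map (o k)
    rw [map_add, map_mul, o_f, o_f, map_one] at h2
    exact h2
  · intro g hg a₀ h1 h2
    obtain ⟨i₁, p, hp⟩ := Ring.DirectLimit.Polynomial.exists_of (f' := fun i j h => f i j h) g
    have hlifts : g ∈ Polynomial.lifts (o i₁) := ⟨p, hp⟩
    obtain ⟨p, hp, -, hpm⟩ := Polynomial.lifts_and_natDegree_eq_and_monic hlifts hg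
    obtain ⟨i₂, a, rfl⟩ := exo a₀
    obtain ⟨i₃, y, hy, hy'⟩ := aux G f I hI _ h1
    obtain ⟨b, hb⟩ := isUnit_iff_exists_inv.mp h2
    obtain ⟨b, rfl⟩ := Ideal.Quotient.mk_surjective b
    rw [← map_mul, ← map_one (Ideal.Quotient.mk _), Ideal.Quotient.eq] at hb
    obtain ⟨i₄, z, hz, hz'⟩ := aux G f I hI _ hb
    obtain ⟨i₅, b, rfl⟩ := exo b
    obtain ⟨k₁, hk1, hk2⟩ := exists_ge_ge i₁ i₂
    obtain ⟨k₂, hk3, hk4⟩ := exists_ge_ge i₃ i₄
    obtain ⟨k₃, hk5, hk6⟩ := exists_ge_ge k₁ k₂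
    obtain ⟨k, hk7, hk8⟩ := exists_ge_ge k₃ i₅
    have l1 : i₁ ≤ k := hk1.trans (hk5.trans hk7)
    have l2 : i₂ ≤ k := hk2.trans (hk5.trans hk7)
    have l3 : i₃ ≤ k := hk3.trans (hk6.trans hk7)
    have l4 : i₄ ≤ k := hk4.trans (hk6.trans hk7)
    -- move everything to stage `k`
    obtain ⟨P, hPm, hP⟩ : ∃ P : Polynomial (G k), P.Monic ∧ P.map (o k) = g := by
      refine ⟨p.map (f i₁ k l1), hpm.map _, ?_⟩
      rw [Polynomial.map_map, ← hp]
      congr 1
      ext x
      exact o_f _ _ _ x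
    obtain ⟨α, hα⟩ : ∃ α : G k, o k α = o i₂ a := ⟨f i₂ k l2 a, o_f _ _ _ _⟩
    obtain ⟨β, hβ⟩ : ∃ β : G k, o k β = o i₅ b := ⟨f i₅ k hk8 b, o_f _ _ _ _⟩
    obtain ⟨Y, hYI, hY⟩ : ∃ Y ∈ I k, o k Y = g.eval (o i₂ a) :=
      ⟨f i₃ k l3 y, hI i₃ k l3 (Ideal.mem_map_of_mem _ hy), (o_f _ _ _ _).trans hy'⟩
    obtain ⟨Z, hZI, hZ⟩ : ∃ Z ∈ I k, o k Z = g.derivative.eval (o i₂ a) * o i₅ b - 1 :=
      ⟨f i₄ k l4 z, hI i₄ k l4 (Ideal.mem_map_of_mem _ hz), (o_f _ _ _ _).trans hz'⟩
    have e1 : o k (P.eval α - Y) = 0 := by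
      rw [map_sub, ← Polynomial.eval_map_apply, hP, hα, hY, sub_self]
    have e2 : o k (P.derivative.eval α * β - 1 - Z) = 0 := by
      rw [map_sub, map_sub, map_mul, ← Polynomial.eval_map_apply, ← Polynomial.derivative_map, hP,
        hα, hβ, hZ, map_one, sub_self]
    obtain ⟨m₁, hm1, e1'⟩ := Ring.DirectLimit.of.zero_exact (f' := fun i j h => f i j h) e1
    obtain ⟨m₂, hm2, e2'⟩ := Ring.DirectLimit.of.zero_exact (f' := fun i j h => f i j h) e2
    obtain ⟨m, hm3, hm4⟩ := exists_ge_ge m₁ m₂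
    have e1m : f k m (hm1.trans hm3) (P.eval α - Y) = 0 := by
      rw [← DirectedSystem.map_map' (fun i j h => f i j h) hm1 hm3, e1', map_zero]
    have e2m : f k m (hm1.trans hm3) (P.derivative.eval α * β - 1 - Z) = 0 := by
      rw [← DirectedSystem.map_map' (fun i j h => f i j h) hm2 hm4, e2', map_zero]
    let φ : G k →+* G m := f k m (hm1.trans hm3)
    have oφ : (o m).comp φ = o k := by
      ext x
      exact o_f _ _ _ x
    have hφI : ∀ x ∈ I k, φ x ∈ I m := fun x hx => hI k m _ (Ideal.mem_map_of_mem _ hx)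
    change φ _ = 0 at e1m e2m
    have r1 : (P.map φ).eval (φ α) ∈ I m := by
      rw [Polynomial.eval_map_apply]
      rw [map_sub, sub_eq_zero] at e1m
      rw [e1m]
      exact hφI _ hYI
    have r2 : IsUnit (Ideal.Quotient.mk (I m) ((P.map φ).derivative.eval (φ α))) := by
      rw [Polynomial.derivative_map, Polynomial.eval_map_apply]
      rw [map_sub, sub_eq_zero] at e2m
      apply isUnit_iff_exists_inv.mpr
      refine ⟨Ideal.Quotient.mk (I m) (φ β), ?_⟩
      rw [← map_mul, ← map_one (Ideal.Quotient.mk (I m)), Ideal.Quotient.eq, ← map_mul,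
        ← map_one φ, ← map_sub, e2m]
      exact hφI _ hZI
    obtain ⟨t, ht1, ht2⟩ := (hh m).is_henselian (P.map φ) (hPm.map _) (φ α) r1 r2
    refine ⟨o m t, ?_, ?_⟩
    · have : g = (P.map φ).map (o m) := by rw [Polynomial.map_map, oφ, hP]
      rw [this, Polynomial.IsRoot, Polynomial.eval_map_apply, ht1, map_zero]
    · have h3 : o i₂ a = o m (φ α) := by
        rw [← hα, ← oφ]; rfl
      change o m t - o i₂ a ∈ _
      rw [h3, ← map_sub]
      exact (le_iSup (fun i => (I i).map (Ring.DirectLimit.of G (fun i j h => f i j h) i)) m)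
        (Ideal.mem_map_of_mem (o m) ht2)

end Groth.Agent.S1998
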