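import Groth.Statements.S1999
import Groth.Agent.Etalg.InertiaStructure

set_option autoImplicit false
universe u
open scoped Pointwise
open EtAlg

namespace Groth.Agent.S1999

/-- Stacks Tag 09EE, parts (2)–(5) in the case of part (6): let A be a discrete valuation ring with fraction field K, L/K a finite Galois extension with group G, B the integral closure of A in L, m a maximal ideal of B whose residue field is separable over that of A, and e the ramification index of m over A. Let D be the decomposition group (stabilizer of m), I the inertia group (elements acting trivially on B/m) and P the wild inertia group, here the elements of D acting trivially on B/m² (the description valid in the separable residue field case). Then P ≤ I, P is normal in D, P is a p-group if the residue characteristic is p > 0 and trivial if it is 0, and I/P is cyclic of order the prime-to-p part of e and isomorphic to a subgroup of the e-th roots of unity of B/m — more precisely to the full group of e-th roots of unity of B/m. -/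
theorem result (A K L B : Type u) [CommRing A] [IsDomain A] [IsDiscreteValuationRing A]
    [CommRing B] [IsDomain B] [Field K] [Field L] [Algebra A K] [Algebra B L] [IsFractionRing A K] [IsFractionRing B L]
    [Algebra A B] [Algebra K L] [Algebra A L] [IsScalarTower A K L] [IsScalarTower A B L] [IsIntegralClosure B A L]
    [FiniteDimensional K L] [IsGalois K L] (m : Ideal B) [m.IsMaximal]
    [Algebra.IsSeparable (A ⧸ m.comap (algebraMap A B)) (B ⧸ m)] :
    letI := IsIntegralClosure.MulSemiringAction A K L B
    let D : Subgroup (L ≃ₐ[K] L) := MulAction.stabilizer (L ≃ₐ[K] L) m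
    let I : Subgroup (L ≃ₐ[K] L) := m.inertia (L ≃ₐ[K] L)
    let P : Subgroup (L ≃ₐ[K] L) := D ⊓ (m ^ 2).inertia (L ≃ₐ[K] L)
    let e : ℕ := Ideal.ramificationIdx' (IsLocalRing.maximalIdeal A) m
    P ≤ I ∧ I ≤ D ∧ (P.subgroupOf D).Normal ∧
    (∀ p : ℕ, p.Prime → CharP (A ⧸ m.comap (algebraMap A B)) p → IsPGroup p P) ∧
    (CharZero (A ⧸ m.comap (algebraMap A B)) → P = ⊥) ∧
    (∀ [(P.subgroupOf I).Normal],
      IsCyclic (I ⧸ P.subgroupOf I) ∧
      (∀ p : ℕ, p.Prime → CharP (A ⧸ m.comap (algebraMap A B)) p → Nat.card (I ⧸ P.subgroupOf I) = e / p ^ e.factorization p) ∧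
      (CharZero (A ⧸ m.comap (algebraMap A B)) → Nat.card (I ⧸ P.subgroupOf I) = e) ∧
      Nonempty (I ⧸ P.subgroupOf I ≃* ↥(rootsOfUnity e (B ⧸ m)))) := by
  letI := IsIntegralClosure.MulSemiringAction A K L B
  have hDed : IsDedekindDomain B := IsIntegralClosure.isDedekindDomain A K L B
  have hfin : Module.Finite A B := IsIntegralClosure.finite A K L B
  have hGal : IsGaloisGroup (L ≃ₐ[K] L) A B := IsGaloisGroup.of_isFractionRing _ _ _ K L
  have hfaith : FaithfulSMul (L ≃ₐ[K] L) B := IsGaloisGroup.faithful A
  have hmax : (m.comap (algebraMap A B)).IsMaximal :=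
    Ideal.isMaximal_comap_of_isIntegral_of_isMaximal m
  have hover : m.LiesOver (m.comap (algebraMap A B)) := ⟨rfl⟩
  have hp : m.comap (algebraMap A B) = IsLocalRing.maximalIdeal A :=
    IsLocalRing.eq_maximalIdeal hmax
  have hinj : Function.Injective (algebraMap A B) := by
    have h1 : Function.Injective (algebraMap A L) := by
      rw [IsScalarTower.algebraMap_eq A K L]
      exact (algebraMap K L).injective.comp (IsFractionRing.injective A K)
    rw [IsScalarTower.algebraMap_eq A B L] at h1
    exact Function.Injective.of_comp h1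
  have hmb : IsLocalRing.maximalIdeal A ≠ ⊥ := IsDiscreteValuationRing.not_a_field A
  have hm : m ≠ ⊥ := by
    rintro rfl
    apply hmb
    rw [← hp, ← RingHom.ker_eq_comap_bot, (RingHom.injective_iff_ker_eq_bot _).mp hinj]
  have hover' : m.LiesOver (IsLocalRing.maximalIdeal A) := ⟨hp.symm⟩
  have hTF : Module.IsTorsionFree A B := Module.isTorsionFree_iff_algebraMap_injective.mpr hinj
  have hflat : Module.Flat A B := inferInstance
  have he : Ideal.ramificationIdx' (IsLocalRing.maximalIdeal A) m = m.ramificationIdx A :=
    Ideal.ramificationIdx'_eq_ramificationIdx _ _ hmb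
  have hsep : Algebra.IsSeparable (A ⧸ m.comap (algebraMap A B)) (B ⧸ m) := inferInstance
  obtain ⟨θ, hker, hrange, hcard⟩ := Etalg.InertiaStructure.main (G := L ≃ₐ[K] L)
    (m.comap (algebraMap A B)) m hm
  have hdom : IsDomain (B ⧸ m) := Ideal.Quotient.isDomain m
  have hinjq : Function.Injective (algebraMap (A ⧸ m.comap (algebraMap A B)) (B ⧸ m)) :=
    Ideal.algebraMap_quotient_injective
  intro D I P e
  have hPeq : P = (m ^ 2).inertia (L ≃ₐ[K] L) := by
    refine inf_eq_right.mpr ?_
    exact (Etalg.InertiaBasic.inertia_sq_le_inertia m).trans (Ideal.inertia_le_stabilizer m)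
  have hPI : P ≤ I := by rw [hPeq]; exact Etalg.InertiaBasic.inertia_sq_le_inertia m
  have hmi : ⨅ i : ℕ, m ^ i = ⊥ :=
    Ideal.iInf_pow_eq_bot_of_isDomain m (Ideal.IsMaximal.ne_top inferInstance)
  refine ⟨hPI, Ideal.inertia_le_stabilizer m, ?_, ?_, ?_, ?_⟩
  · rw [hPeq]
    exact Etalg.InertiaStructure.normal_inertia_sq m
  · intro p hp hchar
    rw [hPeq]
    refine Etalg.InertiaBasic.isPGroup_inertia_sq m hmi p hp ?_
    have : CharP (B ⧸ m) p := charP_of_injective_algebraMap hinjq p
    rw [← Ideal.Quotient.eq_zero_iff_mem, map_natCast]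
    exact CharP.cast_eq_zero _ p
  · intro hchar
    rw [hPeq]
    have : CharZero (B ⧸ m) := charZero_of_injective_algebraMap hinjq
    refine Etalg.InertiaBasic.inertia_sq_eq_bot m hmi fun n hn hnm ↦ ?_
    rw [← Ideal.Quotient.eq_zero_iff_mem, map_natCast, Nat.cast_eq_zero] at hnm
    exact hn hnm
  · intro hnormal
    have hkerP : θ.ker = P.subgroupOf I := by rw [hker, hPeq]
    have heqv : I ⧸ P.subgroupOf I ≃* θ.range :=
      (QuotientGroup.quotientMulEquivOfEq hkerP.symm).trans (QuotientGroup.quotientKerEquivRange θ)
    have hfinr : Finite θ.range := Finite.of_surjective _ θ.rangeRestrict_surjective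
    have hcyc : IsCyclic θ.range := by
      refine isCyclic_of_injective_ringHom ((Units.coeHom (B ⧸ m)).comp θ.range.subtype) ?_
      exact Units.val_injective.comp Subtype.val_injective
    refine ⟨?_, ?_, ?_, ?_⟩
    · exact isCyclic_of_surjective heqv.symm heqv.symm.surjective
    · intro p hp hchar
      have : CharP (B ⧸ m) p := charP_of_injective_algebraMap hinjq p
      have hexp : ExpChar (B ⧸ m) p := ExpChar.prime hp
      obtain ⟨a, -, h1, h2⟩ := hcard p
      have hN : Nat.card θ.range ≠ 0 := Nat.card_pos.ne'
      have he' : e = p ^ a * Nat.card θ.range := he.trans h1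
      have hfact : e.factorization p = a := by
        rw [he', Nat.factorization_mul (pow_ne_zero _ hp.ne_zero) hN, Finsupp.add_apply,
          Nat.factorization_eq_zero_of_not_dvd ((Nat.Prime.coprime_iff_not_dvd hp).mp h2),
          hp.factorization_pow, Finsupp.single_eq_same, add_zero]
      rw [hfact, he', Nat.mul_div_cancel_left _ (pow_pos hp.pos a)]
      exact Nat.card_congr heqv.toEquiv
    · intro hchar
      have : CharZero (B ⧸ m) := charZero_of_injective_algebraMap hinjq
      have hexp : ExpChar (B ⧸ m) 1 := ExpChar.zero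
      obtain ⟨a, -, h1, h2⟩ := hcard 1
      have he' : e = Nat.card θ.range := by rw [← one_mul (Nat.card _), ← one_pow a]; exact he.trans h1
      rw [he']
      exact Nat.card_congr heqv.toEquiv
    · have h3 : θ.range = rootsOfUnity e (B ⧸ m) := by rw [hrange, ← he]
      exact ⟨heqv.trans (MulEquiv.subgroupCongr h3)⟩

end Groth.Agent.S1999
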