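import Groth.Statements.S2000
import Mathlib.Tactic.LinearCombination
import Mathlib.LinearAlgebra.TensorProduct.Quotient
import Mathlib.LinearAlgebra.TensorProduct.RightExactness
import Mathlib.LinearAlgebra.DirectSum.Finsupp
import Mathlib.RingTheory.Localization.BaseChange
import Mathlib.Tactic.Abel

set_option autoImplicit false
universe u
open TensorProduct
open EtAlg

namespace Groth.Agent.S2000

section Basic

variable {R R' : Type u} [CommRing R] [CommRing R'] [Algebra R R'] {f : R}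

theorem approx (hq : EtGlue.QuotPowBijective R R' f) (n : ℕ) (a : R') :
    ∃ (b : R) (c : R'), a = algebraMap R R' b + algebraMap R R' f ^ n * c := by
  rcases Nat.eq_zero_or_pos n with rfl | hn
  · exact ⟨0, a, by simp⟩
  · obtain ⟨y, hy⟩ := (hq n hn).2 (Ideal.Quotient.mk _ a)
    obtain ⟨b, rfl⟩ := Ideal.Quotient.mk_surjective y
    rw [Ideal.quotientMap_mk, eq_comm, Ideal.Quotient.eq, Ideal.map_span, Set.image_singleton,
      Ideal.mem_span_singleton] at hy
    obtain ⟨c, hc⟩ := hy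
    refine ⟨b, c, ?_⟩
    rw [map_pow] at hc
    rw [← hc]; ring

theorem descend (hq : EtGlue.QuotPowBijective R R' f) (n : ℕ) (b : R) (c : R')
    (h : algebraMap R R' b = algebraMap R R' f ^ n * c) : ∃ b', b = f ^ n * b' := by
  rcases Nat.eq_zero_or_pos n with rfl | hn
  · exact ⟨b, by simp⟩
  · have h1 : Ideal.Quotient.mk (Ideal.span {f ^ n}) b = 0 := by
      apply (hq n hn).1
      rw [map_zero, Ideal.quotientMap_mk, Ideal.Quotient.eq_zero_iff_mem, Ideal.map_span,
        Set.image_singleton, Ideal.mem_span_singleton, map_pow]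
      exact ⟨c, h⟩
    rw [Ideal.Quotient.eq_zero_iff_mem, Ideal.mem_span_singleton] at h1
    exact h1

/-- the `R`-linear retraction `R' → R/f^n`. -/
theorem exists_retract (hq : EtGlue.QuotPowBijective R R' f) (n : ℕ) :
    ∃ ρ : R' →ₗ[R] (R ⧸ Ideal.span {f ^ n}), ρ 1 = 1 := by
  have key : ∀ a : R', ∃ b : R, ∃ c : R', a = algebraMap R R' b + algebraMap R R' f ^ n * c :=
    approx hq n
  have wd : ∀ (b b' : R) (c c' : R'),
      algebraMap R R' b + algebraMap R R' f ^ n * c = algebraMap R R' b' + algebraMap R R' f ^ n * c' →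
      Ideal.Quotient.mk (Ideal.span {f ^ n}) b = Ideal.Quotient.mk (Ideal.span {f ^ n}) b' := by
    intro b b' c c' h
    rw [Ideal.Quotient.eq, Ideal.mem_span_singleton]
    apply descend hq n (b - b') (c' - c)
    rw [map_sub]; linear_combination h
  choose β γ hβ using key
  refine ⟨{ toFun := fun a => Ideal.Quotient.mk _ (β a), map_add' := ?_, map_smul' := ?_ }, ?_⟩
  · intro x y
    rw [← map_add]
    apply wd _ _ (γ (x + y)) (γ x + γ y)
    rw [← hβ, map_add]
    linear_combination hβ x + hβ y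
  · intro r x
    rw [RingHom.id_apply, ← Ideal.Quotient.mk_eq_mk, ← Ideal.Quotient.mk_eq_mk,
      ← Submodule.Quotient.mk_smul, smul_eq_mul]
    apply wd _ _ (γ (r • x)) (algebraMap R R' r * γ x)
    rw [← hβ, map_mul, Algebra.smul_def]
    linear_combination algebraMap R R' r * hβ x
  · change Ideal.Quotient.mk _ (β 1) = 1
    rw [← map_one (Ideal.Quotient.mk (Ideal.span {f ^ n}))]
    apply wd _ _ (γ 1) 0
    rw [← hβ]; simp

variable {M : Type u} [AddCommGroup M] [Module R M]

theorem tensor_approx (hq : EtGlue.QuotPowBijective R R' f) (n : ℕ) (z : R' ⊗[R] M) :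
    ∃ (m : M) (w : R' ⊗[R] M), z = (1 : R') ⊗ₜ[R] m + f ^ n • w := by
  induction z with
  | zero => exact ⟨0, 0, by simp⟩
  | tmul a m =>
    obtain ⟨b, c, rfl⟩ := approx hq n a
    refine ⟨b • m, c ⊗ₜ m, ?_⟩
    rw [TensorProduct.add_tmul, TensorProduct.tmul_smul, TensorProduct.smul_tmul',
      TensorProduct.smul_tmul', Algebra.smul_def, Algebra.smul_def, mul_one, map_pow]
  | add x y hx hy =>
    obtain ⟨m, w, rfl⟩ := hx
    obtain ⟨m', w', rfl⟩ := hy
    refine ⟨m + m', w + w', ?_⟩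
    rw [TensorProduct.tmul_add, smul_add]; abel

theorem tensor_descend (hq : EtGlue.QuotPowBijective R R' f) (n : ℕ) (m : M) (w : R' ⊗[R] M)
    (h : (1 : R') ⊗ₜ[R] m = f ^ n • w) : ∃ m' : M, m = f ^ n • m' := by
  obtain ⟨ρ, hρ⟩ := exists_retract hq n
  have h1 := congrArg (fun z => TensorProduct.quotTensorEquivQuotSMul M (Ideal.span {f ^ n})
    (LinearMap.rTensor M ρ z)) h
  simp only [LinearMap.rTensor_tmul, hρ, map_smul] at h1
  rw [← map_one (Ideal.Quotient.mk (Ideal.span {f ^ n})),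
    TensorProduct.quotTensorEquivQuotSMul_mk_tmul, one_smul] at h1
  set t := TensorProduct.quotTensorEquivQuotSMul M (Ideal.span {f ^ n})
    (LinearMap.rTensor M ρ w)
  obtain ⟨y, hy⟩ := Submodule.Quotient.mk_surjective _ t
  rw [← hy, ← Submodule.Quotient.mk_smul, Submodule.Quotient.eq] at h1
  rw [Submodule.ideal_span_singleton_smul] at h1
  obtain ⟨u, -, hu⟩ := (Submodule.mem_smul_pointwise_iff_exists _ _ _).1 h1
  exact ⟨u + y, by rw [smul_add, hu]; abel⟩

theorem ring_torsion (hRR : EtGlue.IsGlueingPair R R' f) (n : ℕ) (x : R')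
    (hx : algebraMap R R' f ^ n * x = 0) : ∃ r : R, algebraMap R R' r = x ∧ f ^ n * r = 0 := by
  obtain ⟨hq, hinj, hex, -⟩ := hRR
  obtain ⟨r, hr1, hr2⟩ := hex x 0 (by
    rw [map_zero]
    rw [IsLocalization.map_eq_zero_iff (Submonoid.powers (algebraMap R R' f))]
    exact ⟨⟨_, n, rfl⟩, hx⟩)
  refine ⟨r, hr1, ?_⟩
  apply hinj
  simp only [map_mul, map_pow, hr1, hr2, hx, mul_zero, map_zero]

theorem torsion_finsupp (hRR : EtGlue.IsGlueingPair R R' f) (n : ℕ) (ι : Type u)
    (z : R' ⊗[R] (ι →₀ R)) (hz : f ^ n • z = 0) :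
    ∃ t : ι →₀ R, (1 : R') ⊗ₜ[R] t = z ∧ f ^ n • t = 0 := by
  classical
  let g : R' → R := fun x => if x = 0 then 0 else
    if h : algebraMap R R' f ^ n * x = 0 then (ring_torsion hRR n x h).choose else 0
  have hg0 : g 0 = 0 := by simp [g]
  have hg1 : ∀ x, algebraMap R R' f ^ n * x = 0 → algebraMap R R' (g x) = x ∧ f ^ n * g x = 0 := by
    intro x hx
    by_cases h0 : x = 0
    · subst h0; simp [hg0]
    · simp only [g, if_neg h0, dif_pos hx]
      exact (ring_torsion hRR n x hx).choose_spec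
  let e := TensorProduct.finsuppScalarRight R R R' ι
  have hc : ∀ i, algebraMap R R' f ^ n * (e z) i = 0 := by
    intro i
    have h1 : e (f ^ n • z) = 0 := by rw [hz, map_zero]
    have h2 := congrArg (fun v => v i) h1
    simp only [map_smul, Finsupp.smul_apply, Algebra.smul_def, Finsupp.zero_apply, map_pow] at h2
    exact h2
  refine ⟨(e z).mapRange g hg0, ?_, ?_⟩
  · apply e.injective
    ext i
    rw [TensorProduct.finsuppScalarRight_apply_tmul_apply, Finsupp.mapRange_apply,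
      Algebra.smul_def, mul_one]
    exact (hg1 _ (hc i)).1
  · ext i
    simp only [Finsupp.smul_apply, Finsupp.mapRange_apply, smul_eq_mul, Finsupp.zero_apply]
    exact (hg1 _ (hc i)).2

theorem torsion_surj_aux (hRR : EtGlue.IsGlueingPair R R' f) (n : ℕ)
    {K F : Type u} [AddCommGroup K] [Module R K] [AddCommGroup F] [Module R F]
    (ι : K →ₗ[R] F) (p : F →ₗ[R] M)
    (hex : Function.Exact ι p) (hp : Function.Surjective p)
    (hF : ∀ z : R' ⊗[R] F, f ^ n • z = 0 → ∃ t : F, (1 : R') ⊗ₜ[R] t = z ∧ f ^ n • t = 0)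
    (z : R' ⊗[R] M) (hz : f ^ n • z = 0) :
    ∃ t : M, (1 : R') ⊗ₜ[R] t = z ∧ f ^ n • t = 0 := by
  have hex' := lTensor_exact R' hex hp
  obtain ⟨z', rfl⟩ := LinearMap.lTensor_surjective R' hp z
  rw [← map_smul] at hz
  obtain ⟨k, hk⟩ := (hex' _).1 hz
  obtain ⟨k0, k1, rfl⟩ := tensor_approx hRR.1 n k
  rw [map_add, LinearMap.lTensor_tmul, map_smul] at hk
  have h1 : (1 : R') ⊗ₜ[R] (ι k0) = f ^ n • (z' - LinearMap.lTensor R' ι k1) := by
    rw [smul_sub, ← hk]; abel
  obtain ⟨y, hy⟩ := tensor_descend hRR.1 n _ _ h1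
  have h2 : f ^ n • (z' - LinearMap.lTensor R' ι k1 - (1 : R') ⊗ₜ[R] y) = 0 := by
    rw [smul_sub, ← h1, hy, ← TensorProduct.tmul_smul, sub_self]
  obtain ⟨t, ht1, ht2⟩ := hF _ h2
  refine ⟨p (y + t), ?_, ?_⟩
  · have h3 : z' = LinearMap.lTensor R' ι k1 + (1 : R') ⊗ₜ[R] (y + t) := by
      rw [TensorProduct.tmul_add, ht1]; abel
    have h4 : LinearMap.lTensor R' p (LinearMap.lTensor R' ι k1) = 0 :=
      (hex' _).2 ⟨k1, rfl⟩
    rw [h3, map_add (LinearMap.lTensor R' p), h4, zero_add, LinearMap.lTensor_tmul]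
  · rw [← map_smul, smul_add, ht2, add_zero, ← hy]
    exact (hex _).2 ⟨k0, rfl⟩

/-- for a glueing pair `M[f^n] → (R' ⊗ M)[f^n]` is surjective. -/
theorem torsion_surj (hRR : EtGlue.IsGlueingPair R R' f) (n : ℕ)
    (z : R' ⊗[R] M) (hz : f ^ n • z = 0) :
    ∃ t : M, (1 : R') ⊗ₜ[R] t = z ∧ f ^ n • t = 0 :=
  torsion_surj_aux (K := LinearMap.ker (Finsupp.linearCombination R (id : M → M)))
    (F := M →₀ R) hRR n (LinearMap.ker (Finsupp.linearCombination R (id : M → M))).subtype
    (Finsupp.linearCombination R (id : M → M))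
    (fun x => by simp) (Finsupp.linearCombination_id_surjective R M)
    (torsion_finsupp hRR n M) z hz

end Basic

section Glue

variable {R R' : Type u} [CommRing R] [CommRing R'] [Algebra R R'] {f : R}
variable {M₁ : Type u} [AddCommGroup M₁] [Module R M₁]

theorem lTensor_loc_ker {N : Type u} [AddCommGroup N] [Module R N]
    (s : N →ₗ[R] M₁) [IsLocalizedModule (Submonoid.powers f) s] (z : R' ⊗[R] N)
    (hz : LinearMap.lTensor R' s z = 0) : ∃ n : ℕ, f ^ n • z = 0 := by
  have h1 : AlgebraTensorModule.rTensor R R' s (TensorProduct.comm R R' N z) = 0 := by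
    have := TensorProduct.map_comm s (LinearMap.id : R' →ₗ[R] R') z
    have h2 : AlgebraTensorModule.rTensor R R' s (TensorProduct.comm R R' N z) =
        TensorProduct.comm R R' M₁ (LinearMap.lTensor R' s z) := this
    rw [h2, hz, map_zero]
  have h3 := IsLocalizedModule.exists_of_eq (S := Submonoid.powers f)
    (f := AlgebraTensorModule.rTensor R R' s)
    (x₁ := TensorProduct.comm R R' N z) (x₂ := 0) (by rw [h1, map_zero])
  obtain ⟨⟨g, hg⟩, hc⟩ := h3
  obtain ⟨n, rfl⟩ := (Submonoid.mem_powers_iff _ _).1 hg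
  refine ⟨n, ?_⟩
  rw [smul_zero, Submonoid.mk_smul, ← map_smul] at hc
  exact (TensorProduct.comm R R' N).map_eq_zero_iff.1 hc

theorem lTensor_loc_surj {N : Type u} [AddCommGroup N] [Module R N]
    (s : N →ₗ[R] M₁) [IsLocalizedModule (Submonoid.powers f) s] (y : R' ⊗[R] M₁) :
    ∃ (n : ℕ) (z : R' ⊗[R] N), f ^ n • y = LinearMap.lTensor R' s z := by
  obtain ⟨⟨x, ⟨g, hg⟩⟩, h⟩ := IsLocalizedModule.surj (Submonoid.powers f)
    (AlgebraTensorModule.rTensor R R' s) (TensorProduct.comm R R' M₁ y)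
  obtain ⟨n, rfl⟩ := (Submonoid.mem_powers_iff _ _).1 hg
  refine ⟨n, TensorProduct.comm R N R' x, ?_⟩
  have := TensorProduct.map_comm (LinearMap.id : R' →ₗ[R] R') s x
  have h2 : LinearMap.lTensor R' s (TensorProduct.comm R N R' x) =
        TensorProduct.comm R M₁ R' (AlgebraTensorModule.rTensor R R' s x) := this
  simp only [Submonoid.mk_smul] at h
  rw [h2, ← h, map_smul]
  congr 1
  exact ((TensorProduct.comm R R' M₁).symm_apply_apply y).symm

theorem pow_bij (hf : Function.Bijective fun x : M₁ => f • x) (n : ℕ) :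
    Function.Bijective fun x : M₁ => f ^ n • x := by
  induction n with
  | zero => simp only [pow_zero, one_smul]; exact Function.bijective_id
  | succ n ih =>
    have : (fun x : M₁ => f ^ (n + 1) • x) = (fun x : M₁ => f ^ n • x) ∘ (fun x : M₁ => f • x) := by
      ext x; simp [pow_succ, mul_smul]
    rw [this]; exact ih.comp hf

theorem tensor_pow_bij (hf : Function.Bijective fun x : M₁ => f • x) :
    Function.Bijective fun x : R' ⊗[R] M₁ => f • x := by
  let e : M₁ ≃ₗ[R] M₁ := LinearEquiv.ofBijective (LinearMap.lsmul R M₁ f) hf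
  have h := (LinearEquiv.lTensor R' e).bijective
  convert h using 1
  ext x
  have h2 : (LinearEquiv.lTensor R' e).toLinearMap = LinearMap.lsmul R (R' ⊗[R] M₁) f := by
    ext a m
    simp [e]
  exact (LinearMap.congr_fun h2 x).symm

theorem units_of_bij {N : Type u} [AddCommGroup N] [Module R N]
    (hf : Function.Bijective fun x : N => f • x) (x : Submonoid.powers f) :
    IsUnit (algebraMap R (Module.End R N) x) := by
  obtain ⟨_, n, rfl⟩ := x
  rw [Module.End.isUnit_iff]
  exact pow_bij hf n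

variable {M' : Type u} [AddCommGroup M'] [Module R M'] [Module R' M'] [IsScalarTower R R' M']

theorem snd_loc (hf : Function.Bijective fun x : M₁ => f • x) (A : M' →ₗ[R'] R' ⊗[R] M₁)
    (A1 : ∀ x, A x = 0 → ∃ n : ℕ, f ^ n • x = 0)
    (A2 : ∀ p, ∃ (n : ℕ) (x : M'), f ^ n • p = A x)
    (M : Submodule R (M' × M₁)) (hM : ∀ v, v ∈ M ↔ A v.1 = (1 : R') ⊗ₜ[R] v.2) :
    IsLocalizedModule (Submonoid.powers f) ((LinearMap.snd R M' M₁).comp M.subtype) where
  map_units := units_of_bij hf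
  surj y := by
    obtain ⟨n, x, hx⟩ := A2 ((1 : R') ⊗ₜ[R] y)
    exact ⟨⟨⟨(x, f ^ n • y), (hM _).2 (by rw [← hx, TensorProduct.tmul_smul])⟩, ⟨_, n, rfl⟩⟩, rfl⟩
  exists_of_eq := by
    intro v w h
    have hv := (hM _).1 v.2
    have hw := (hM _).1 w.2
    have h' : (v : M' × M₁).2 = (w : M' × M₁).2 := h
    obtain ⟨n, hn⟩ := A1 ((v : M' × M₁).1 - (w : M' × M₁).1) (by rw [map_sub, hv, hw, h', sub_self])
    refine ⟨⟨_, n, rfl⟩, ?_⟩
    apply Subtype.ext
    apply Prod.ext
    · rw [smul_sub] at hn; exact sub_eq_zero.1 hn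
    · change f ^ n • (v : M' × M₁).2 = f ^ n • (w : M' × M₁).2
      rw [h']

theorem compat (A : M' →ₗ[R'] R' ⊗[R] M₁)
    (M : Submodule R (M' × M₁)) (hM : ∀ v, v ∈ M ↔ A v.1 = (1 : R') ⊗ₜ[R] v.2) (z : R' ⊗[R] M) :
    A (LinearMap.liftBaseChange R' ((LinearMap.fst R M' M₁).comp M.subtype) z) =
      LinearMap.lTensor R' ((LinearMap.snd R M' M₁).comp M.subtype) z := by
  induction z with
  | zero => simp only [map_zero]
  | tmul a m =>
    rw [LinearMap.liftBaseChange_tmul, map_smul, LinearMap.lTensor_tmul]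
    have := (hM _).1 m.2
    simp only [LinearMap.coe_comp, Function.comp_apply, Submodule.subtype_apply,
      LinearMap.fst_apply, LinearMap.snd_apply]
    rw [this, TensorProduct.smul_tmul', smul_eq_mul, mul_one]
  | add x y hx hy => simp only [map_add, hx, hy]

theorem glue_bij (hRR : EtGlue.IsGlueingPair R R' f)
    (hf : Function.Bijective fun x : M₁ => f • x) (A : M' →ₗ[R'] R' ⊗[R] M₁)
    (A1 : ∀ x, A x = 0 → ∃ n : ℕ, f ^ n • x = 0)
    (A2 : ∀ p, ∃ (n : ℕ) (x : M'), f ^ n • p = A x)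
    (M : Submodule R (M' × M₁)) (hM : ∀ v, v ∈ M ↔ A v.1 = (1 : R') ⊗ₜ[R] v.2) :
    Function.Bijective
      (LinearMap.liftBaseChange R' ((LinearMap.fst R M' M₁).comp M.subtype)) := by
  have := snd_loc hf A A1 A2 M hM
  have hc := compat A M hM
  set g := LinearMap.liftBaseChange R' ((LinearMap.fst R M' M₁).comp M.subtype) with hg
  have hg1 : ∀ m : M, g ((1 : R') ⊗ₜ[R] m) = (m : M' × M₁).1 := by
    intro m; rw [hg, LinearMap.liftBaseChange_tmul, one_smul]; rfl
  have hgs : ∀ (r : R) z, g (r • z) = r • g z := fun r z => LinearMap.map_smul_of_tower g r z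
  have hAs : ∀ (r : R) z, A (r • z) = r • A z := fun r z => LinearMap.map_smul_of_tower A r z
  constructor
  · rw [injective_iff_map_eq_zero]
    intro z hz
    have h1 := hc z
    rw [hz, map_zero] at h1
    obtain ⟨n, hn⟩ := lTensor_loc_ker (f := f) _ z h1.symm
    obtain ⟨t, ht1, ht2⟩ := torsion_surj hRR n z hn
    have h3 : (t : M' × M₁).1 = 0 := by rw [← hg1, ht1, hz]
    have h4 : (t : M' × M₁).2 = 0 := by
      apply (pow_bij hf n).1
      have := congrArg (fun v : M => (v : M' × M₁).2) ht2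
      simpa using this
    have h5 : t = 0 := Subtype.ext (Prod.ext h3 h4)
    rw [← ht1, h5, TensorProduct.tmul_zero]
  · intro x'
    obtain ⟨n, z, hz⟩ := lTensor_loc_surj (f := f) ((LinearMap.snd R M' M₁).comp M.subtype) (A x')
    rw [← hc z] at hz
    obtain ⟨k, hk⟩ := A1 (f ^ n • x' - g z) (by rw [map_sub, hAs, hz, sub_self])
    obtain ⟨m, w, hmw⟩ := tensor_approx hRR.1 (k + n) (f ^ k • z)
    have h1 : f ^ (k + n) • (x' - g w) = (m : M' × M₁).1 := by
      have h2 : f ^ (k + n) • x' = g (f ^ k • z) := by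
        rw [smul_sub, sub_eq_zero, smul_smul, ← pow_add] at hk
        rw [hk, hgs]
      rw [smul_sub, h2, hmw, map_add, hg1, hgs, add_sub_cancel_right]
    obtain ⟨m1, hm1⟩ := (pow_bij hf (k + n)).2 (m : M' × M₁).2
    have h3 : A (x' - g w) = (1 : R') ⊗ₜ[R] m1 := by
      apply (pow_bij (tensor_pow_bij (R' := R') hf) (k + n)).1
      change f ^ (k + n) • A (x' - g w) = f ^ (k + n) • ((1 : R') ⊗ₜ[R] m1)
      rw [← hAs, h1, ← TensorProduct.tmul_smul]
      have : f ^ (k + n) • m1 = (m : M' × M₁).2 := hm1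
      rw [this]
      exact (hM _).1 m.2
    refine ⟨(1 : R') ⊗ₜ[R] (⟨(x' - g w, m1), (hM _).2 h3⟩ : M) + w, ?_⟩
    rw [map_add, hg1]
    simp

theorem glueable (hRR : EtGlue.IsGlueingPair R R' f)
    (hf : Function.Bijective fun x : M₁ => f • x) (A : M' →ₗ[R'] R' ⊗[R] M₁)
    (A1 : ∀ x, A x = 0 → ∃ n : ℕ, f ^ n • x = 0)
    (A2 : ∀ p, ∃ (n : ℕ) (x : M'), f ^ n • p = A x)
    (M : Submodule R (M' × M₁)) (hM : ∀ v, v ∈ M ↔ A v.1 = (1 : R') ⊗ₜ[R] v.2) :
    EtGlue.IsGlueable R R' f M := by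
  have hloc := snd_loc hf A A1 A2 M hM
  have hc := compat A M hM
  have hbij := glue_bij hRR hf A A1 A2 M hM
  set g := LinearMap.liftBaseChange R' ((LinearMap.fst R M' M₁).comp M.subtype) with hg
  set s := (LinearMap.snd R M' M₁).comp M.subtype with hs
  have hg1 : ∀ m : M, g ((1 : R') ⊗ₜ[R] m) = (m : M' × M₁).1 := by
    intro m; rw [hg, LinearMap.liftBaseChange_tmul, one_smul]; rfl
  let e₁ := IsLocalizedModule.iso (Submonoid.powers f) s
  have he₁ : ∀ m : M, e₁ (LocalizedModule.mkLinearMap (Submonoid.powers f) M m) = (m : M' × M₁).2 :=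
    fun m => IsLocalizedModule.iso_mk_one (Submonoid.powers f) s m
  -- the comparison map `(R' ⊗ M)_f → R' ⊗ M₁`
  have hu : ∀ x : Submonoid.powers f, IsUnit (algebraMap R (Module.End R (R' ⊗[R] M₁)) x) :=
    units_of_bij (N := R' ⊗[R] M₁) (tensor_pow_bij (R' := R') hf)
  let β := IsLocalizedModule.lift (Submonoid.powers f)
    (LocalizedModule.mkLinearMap (Submonoid.powers f) (R' ⊗[R] M)) (LinearMap.lTensor R' s) hu
  have hβ : ∀ z, β (EtGlue.locOfTensor R R' f M z) = LinearMap.lTensor R' s z := fun z =>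
    IsLocalizedModule.lift_apply (Submonoid.powers f) _ _ hu z
  have hβ' : ∀ y, β (EtGlue.tensorOfLoc R R' f M y) = (1 : R') ⊗ₜ[R] e₁ y := by
    intro y
    have : β ∘ₗ EtGlue.tensorOfLoc R R' f M = TensorProduct.mk R R' M₁ 1 ∘ₗ e₁.toLinearMap := by
      apply IsLocalizedModule.ext (Submonoid.powers f)
        (LocalizedModule.mkLinearMap (Submonoid.powers f) M) hu
      ext m
      simp only [LinearMap.coe_comp, Function.comp_apply, LinearEquiv.coe_coe]
      rw [he₁, IsLocalizedModule.map_apply]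
      exact hβ _
    exact LinearMap.congr_fun this y
  refine ⟨?_, ?_⟩
  · intro v w h
    have h1 := congrArg Prod.fst h
    have h2 := congrArg Prod.snd h
    simp only at h1 h2
    apply Subtype.ext
    apply Prod.ext
    · rw [← hg1, ← hg1, h1]
    · rw [← he₁, ← he₁, h2]
  · intro x y hxy
    have h1 : A (g x) = (1 : R') ⊗ₜ[R] e₁ y := by rw [hc, ← hβ, hxy, hβ']
    refine ⟨⟨(g x, e₁ y), (hM _).2 h1⟩, ?_, ?_⟩
    · apply hbij.1; rw [hg1]
    · apply e₁.injective; rw [he₁]

end Glue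

/-- Stacks Tag 0BP2 (Beauville–Laszlo, essential surjectivity with glueability): let (R -> R', f) be a glueing pair. Let M' be an R'-module, M₁ an R-module on which multiplication by f is bijective (i.e. an R_f-module), and α an R'-linear isomorphism from the localization of M' at f to R' ⊗_R M₁ (an isomorphism of R'_f-modules). Then there is an R-module M, glueable for (R -> R', f), with an R'-isomorphism R' ⊗_R M ≅ M' and an R-isomorphism M_f ≅ M₁ under which α becomes the canonical identification (R' ⊗_R M)_f = R' ⊗_R M_f. -/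
theorem result (R R' : Type u) [CommRing R] [CommRing R'] [Algebra R R'] (f : R)
    (hRR : EtGlue.IsGlueingPair R R' f) (M' : Type u) [AddCommGroup M'] [Module R' M'] (M₁ : Type u) [AddCommGroup M₁]
    [Module R M₁] (hf : Function.Bijective fun x : M₁ => f • x)
    (α : LocalizedModule (Submonoid.powers (algebraMap R R' f)) M' ≃ₗ[R'] R' ⊗[R] M₁) :
    ∃ (M : Type u) (_ : AddCommGroup M) (_ : Module R M) (_ : EtGlue.IsGlueable R R' f M)
      (e' : R' ⊗[R] M ≃ₗ[R'] M') (e₁ : LocalizedModule (Submonoid.powers f) M ≃ₗ[R] M₁),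
      ∀ m : M, α (LocalizedModule.mkLinearMap (Submonoid.powers (algebraMap R R' f)) M' (e' ((1 : R') ⊗ₜ[R] m))) =
        (1 : R') ⊗ₜ[R] e₁ (LocalizedModule.mkLinearMap (Submonoid.powers f) M m) := by
  let : Module R M' := Module.compHom M' (algebraMap R R')
  have : IsScalarTower R R' M' := IsScalarTower.of_algebraMap_smul fun _ _ => rfl
  let A : M' →ₗ[R'] R' ⊗[R] M₁ :=
    α.toLinearMap ∘ₗ LocalizedModule.mkLinearMap (Submonoid.powers (algebraMap R R' f)) M'
  have hsm : ∀ (n : ℕ) (N : Type u) [AddCommGroup N] [Module R N] [Module R' N]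
      [IsScalarTower R R' N] (x : N), (algebraMap R R' f) ^ n • x = f ^ n • x := by
    intro n N _ _ _ _ x
    rw [← map_pow, algebraMap_smul]
  have A1 : ∀ x, A x = 0 → ∃ n : ℕ, f ^ n • x = 0 := by
    intro x hx
    have h1 : LocalizedModule.mkLinearMap (Submonoid.powers (algebraMap R R' f)) M' x = 0 :=
      α.map_eq_zero_iff.1 hx
    obtain ⟨⟨_, n, rfl⟩, hc⟩ := IsLocalizedModule.exists_of_eq
      (S := Submonoid.powers (algebraMap R R' f))
      (f := LocalizedModule.mkLinearMap (Submonoid.powers (algebraMap R R' f)) M')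
      (x₁ := x) (x₂ := 0) (by rw [h1, map_zero])
    refine ⟨n, ?_⟩
    rw [smul_zero] at hc
    rw [← hsm]; exact hc
  have A2 : ∀ p, ∃ (n : ℕ) (x : M'), f ^ n • p = A x := by
    intro p
    obtain ⟨⟨x, ⟨g, hg⟩⟩, hc⟩ := IsLocalizedModule.surj
      (Submonoid.powers (algebraMap R R' f))
      (LocalizedModule.mkLinearMap (Submonoid.powers (algebraMap R R' f)) M') (α.symm p)
    obtain ⟨n, rfl⟩ := (Submonoid.mem_powers_iff _ _).1 hg
    refine ⟨n, x, ?_⟩
    have h2 : A x = (algebraMap R R' f) ^ n • p := by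
      change α (LocalizedModule.mkLinearMap (Submonoid.powers (algebraMap R R' f)) M' x) = _
      simp only at hc
      rw [← hc, Submonoid.mk_smul, map_smul, LinearEquiv.apply_symm_apply]
    rw [h2, ← map_pow, algebraMap_smul]
  let M : Submodule R (M' × M₁) :=
    LinearMap.ker ((A.restrictScalars R) ∘ₗ LinearMap.fst R M' M₁ -
      (TensorProduct.mk R R' M₁ 1) ∘ₗ LinearMap.snd R M' M₁)
  have hM : ∀ v, v ∈ M ↔ A v.1 = (1 : R') ⊗ₜ[R] v.2 := by
    intro v
    simp only [M, LinearMap.mem_ker, LinearMap.sub_apply, LinearMap.coe_comp, Function.comp_apply,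
      LinearMap.fst_apply, LinearMap.snd_apply, TensorProduct.mk_apply, sub_eq_zero]
    exact Iff.rfl
  have hloc := snd_loc hf A A1 A2 M hM
  refine ⟨M, inferInstance, inferInstance, glueable hRR hf A A1 A2 M hM,
    LinearEquiv.ofBijective _ (glue_bij hRR hf A A1 A2 M hM),
    IsLocalizedModule.iso (Submonoid.powers f) ((LinearMap.snd R M' M₁).comp M.subtype), ?_⟩
  intro m
  have h0 : IsLocalizedModule.iso (Submonoid.powers f) ((LinearMap.snd R M' M₁).comp M.subtype)
      (LocalizedModule.mkLinearMap (Submonoid.powers f) M m) = (m : M' × M₁).2 :=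
    IsLocalizedModule.iso_mk_one (Submonoid.powers f) _ m
  rw [h0]
  have h1 : (LinearEquiv.ofBijective _ (glue_bij hRR hf A A1 A2 M hM)) ((1 : R') ⊗ₜ[R] m) =
      (m : M' × M₁).1 := by
    rw [LinearEquiv.ofBijective_apply, LinearMap.liftBaseChange_tmul, one_smul]; rfl
  rw [h1]
  exact (hM _).1 m.2

end Groth.Agent.S2000
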