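import Groth.Statements.S2001
-- import your own Groth.Agent.* helpers here

set_option autoImplicit false
universe u
open TensorProduct
open EtAlg

namespace Groth.Agent.S2001

/-- Stacks Tag 0BP2 (Beauville–Laszlo, full faithfulness): let (R -> R', f) be a glueing pair and M, N R-modules glueable for it. Given an R'-linear map φ' : R' ⊗_R M -> R' ⊗_R N and an R-linear map φ₁ : M_f -> N_f which induce the same map into (R' ⊗_R N)_f on elements of M, there is a unique R-linear map ψ : M -> N whose base change to R' is φ' and whose localization is φ₁. -/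
theorem result (R R' : Type u) [CommRing R] [CommRing R'] [Algebra R R'] (f : R)
    (hRR : EtGlue.IsGlueingPair R R' f) (M N : Type u) [AddCommGroup M] [Module R M] [AddCommGroup N] [Module R N]
    (hM : EtGlue.IsGlueable R R' f M) (hN : EtGlue.IsGlueable R R' f N)
    (φ' : R' ⊗[R] M →ₗ[R'] R' ⊗[R] N)
    (φ₁ : LocalizedModule (Submonoid.powers f) M →ₗ[R] LocalizedModule (Submonoid.powers f) N)
    (hc : ∀ m : M, EtGlue.locOfTensor R R' f N (φ' ((1 : R') ⊗ₜ[R] m)) =
      EtGlue.tensorOfLoc R R' f N (φ₁ (LocalizedModule.mkLinearMap (Submonoid.powers f) M m))) :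
    ∃! ψ : M →ₗ[R] N, ψ.baseChange R' = φ' ∧
      IsLocalizedModule.map (Submonoid.powers f) (LocalizedModule.mkLinearMap (Submonoid.powers f) M)
        (LocalizedModule.mkLinearMap (Submonoid.powers f) N) ψ = φ₁ := by
  classical
  obtain ⟨hNinj, hNex⟩ := hN
  have key : ∀ m : M, ∃ n : N, (1 : R') ⊗ₜ[R] n = φ' ((1 : R') ⊗ₜ[R] m) ∧
      LocalizedModule.mkLinearMap (Submonoid.powers f) N n =
        φ₁ (LocalizedModule.mkLinearMap (Submonoid.powers f) M m) := fun m =>
    hNex _ _ (hc m)
  have uniq : ∀ n n' : N, (1 : R') ⊗ₜ[R] n = (1 : R') ⊗ₜ[R] n' →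
      LocalizedModule.mkLinearMap (Submonoid.powers f) N n =
        LocalizedModule.mkLinearMap (Submonoid.powers f) N n' → n = n' := fun n n' h1 h2 =>
    hNinj (Prod.ext h1 h2)
  choose g hg1 hg2 using key
  let ψ : M →ₗ[R] N :=
    { toFun := g
      map_add' := fun x y => uniq _ _
        (by rw [TensorProduct.tmul_add, hg1, hg1, hg1, TensorProduct.tmul_add, map_add])
        (by rw [map_add, hg2, hg2, hg2, map_add, map_add])
      map_smul' := fun r x => uniq _ _
        (by
          simp only [RingHom.id_apply]
          rw [TensorProduct.tmul_smul, hg1, hg1, TensorProduct.tmul_smul]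
          exact LinearMap.map_smul_of_tower φ' r _)
        (by simp only [RingHom.id_apply]; rw [map_smul, hg2, hg2, map_smul, map_smul]) }
  refine ⟨ψ, ⟨?_, ?_⟩, ?_⟩
  · apply TensorProduct.AlgebraTensorModule.curry_injective
    ext m
    simpa [ψ] using hg1 m
  · apply IsLocalizedModule.ext (Submonoid.powers f) (LocalizedModule.mkLinearMap (Submonoid.powers f) M)
    · exact IsLocalizedModule.map_units (LocalizedModule.mkLinearMap (Submonoid.powers f) N)
    · ext m
      simp only [LinearMap.coe_comp, Function.comp_apply]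
      rw [IsLocalizedModule.map_apply]
      exact hg2 m
  · rintro ψ' ⟨h1, h2⟩
    ext m
    apply uniq
    · have := congrArg (fun F => F ((1 : R') ⊗ₜ[R] m)) h1
      simp only [LinearMap.baseChange_tmul] at this
      rw [this]; exact (hg1 m).symm
    · have := congrArg (fun F => F (LocalizedModule.mkLinearMap (Submonoid.powers f) M m)) h2
      simp only [IsLocalizedModule.map_apply] at this
      rw [this]; exact (hg2 m).symm

end Groth.Agent.S2001
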