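import Groth.Statements.S2006
import Groth.Agent.Etalg.GlueBasic
import Mathlib.RingTheory.Localization.Finiteness
import Mathlib.RingTheory.TensorProduct.Finite

set_option autoImplicit false
universe u
open TensorProduct
open EtAlg

namespace Groth.Agent.S2006

/-- Stacks Tag 0BNN: let R -> R' induce bijections R/f^n R -> R'/f^n R' for all n > 0 and let M be an R-module. Then M is finitely generated if and only if R' ⊗_R M is finitely generated over R' and M_f is finitely generated over R_f. -/
theorem result (R R' : Type u) [CommRing R] [CommRing R'] [Algebra R R'] (f : R)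
    (hq : EtGlue.QuotPowBijective R R' f) (M : Type u) [AddCommGroup M] [Module R M] :
    Module.Finite R M ↔ Module.Finite R' (R' ⊗[R] M) ∧
      Module.Finite (Localization.Away f) (LocalizedModule (Submonoid.powers f) M) := by
  constructor
  · intro h
    exact ⟨inferInstance, Module.Finite.of_isLocalizedModule (Submonoid.powers f)
      (LocalizedModule.mkLinearMap (Submonoid.powers f) M)⟩
  · rintro ⟨h1, h2⟩
    -- a finitely generated submodule generating `R' ⊗ M`
    obtain ⟨s, hs⟩ := h1.fg_top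
    obtain ⟨N₁, hN₁, hsN₁⟩ := TensorProduct.exists_finite_submodule_right_of_setFinite
      (R := R) (M := R') (N := M) (s : Set (R' ⊗[R] M)) s.finite_toSet
    have hsurj : ∀ x : R' ⊗[R] M, x ∈ LinearMap.range (LinearMap.baseChange R' N₁.subtype) := by
      intro x
      have hx : x ∈ Submodule.span R' (s : Set (R' ⊗[R] M)) := hs ▸ Submodule.mem_top
      refine Submodule.span_le.2 ?_ hx
      exact hsN₁
    -- a finitely generated submodule generating `M_f`
    obtain ⟨t, ht⟩ := h2.fg_top
    let ℓ := LocalizedModule.mkLinearMap (Submonoid.powers f) M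
    have hnum : ∀ y : LocalizedModule (Submonoid.powers f) M, ∃ (a : M) (n : ℕ), f ^ n • y = ℓ a := by
      intro y
      obtain ⟨⟨a, ⟨_, n, rfl⟩⟩, rfl⟩ := IsLocalizedModule.mk'_surjective (Submonoid.powers f) ℓ y
      exact ⟨a, n, IsLocalizedModule.mk'_cancel' ℓ a (⟨f ^ n, n, rfl⟩ : Submonoid.powers f)⟩
    choose a n han using hnum
    let N₂ : Submodule R M := Submodule.span R (a '' (t : Set _))
    have hN₂ : N₂.FG := Submodule.fg_span (t.finite_toSet.image a)
    have hgen : ∀ z : LocalizedModule (Submonoid.powers f) M, ∃ (k : ℕ) (m : M), m ∈ N₂ ∧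
        f ^ k • z = ℓ m := by
      intro z
      have hz : z ∈ Submodule.span (Localization.Away f) (t : Set (LocalizedModule (Submonoid.powers f) M)) :=
        ht ▸ Submodule.mem_top
      induction hz using Submodule.span_induction with
      | mem x hx => exact ⟨n x, a x, Submodule.subset_span ⟨x, hx, rfl⟩, han x⟩
      | zero => exact ⟨0, 0, N₂.zero_mem, by simp⟩
      | add x y _ _ hx hy =>
        obtain ⟨k, m, hm, hk⟩ := hx
        obtain ⟨k', m', hm', hk'⟩ := hy
        refine ⟨k + k', f ^ k' • m + f ^ k • m', N₂.add_mem (N₂.smul_mem _ hm) (N₂.smul_mem _ hm'), ?_⟩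
        rw [map_add, map_smul, map_smul, ← hk, ← hk', smul_smul, smul_smul, smul_add, pow_add,
          mul_comm (f ^ k')]
      | smul c x _ hx =>
        obtain ⟨k, m, hm, hk⟩ := hx
        obtain ⟨⟨r, ⟨_, j, rfl⟩⟩, rfl⟩ := IsLocalization.mk'_surjective (Submonoid.powers f) c
        refine ⟨j + k, r • m, N₂.smul_mem _ hm, ?_⟩
        rw [map_smul, ← hk, pow_add, mul_smul, smul_comm (f ^ k) _ x, ← smul_assoc (f ^ j)]
        have : f ^ j • IsLocalization.mk' (Localization.Away f) r (⟨f ^ j, j, rfl⟩ : Submonoid.powers f) =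
            algebraMap R (Localization.Away f) r := by
          rw [Algebra.smul_def]
          exact IsLocalization.mk'_spec' (Localization.Away f) r (⟨f ^ j, j, rfl⟩ : Submonoid.powers f)
        rw [this, algebraMap_smul]
    have htors : ∀ q : M ⧸ (N₁ ⊔ N₂), ∃ k : ℕ, f ^ k • q = 0 := by
      intro q
      obtain ⟨m, rfl⟩ := Submodule.mkQ_surjective _ q
      obtain ⟨k, m', hm', hk⟩ := hgen (ℓ m)
      rw [← map_smul] at hk
      obtain ⟨⟨_, l, rfl⟩, hc⟩ := (IsLocalizedModule.eq_iff_exists (Submonoid.powers f) ℓ).1 hk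
      refine ⟨l + k, ?_⟩
      rw [← map_smul, pow_add, mul_smul]
      have hc' : f ^ l • (f ^ k • m) = f ^ l • m' := hc
      rw [hc']
      exact (Submodule.Quotient.mk_eq_zero _).2 (Submodule.smul_mem _ _ (le_sup_right (a := N₁) hm'))
    have hzero : ∀ q : M ⧸ (N₁ ⊔ N₂), q = 0 := by
      intro q
      apply Etalg.GlueBasic.eq_zero_of_tmul_eq_zero_of_torsion hq htors
      obtain ⟨m, rfl⟩ := Submodule.mkQ_surjective _ q
      obtain ⟨z, hz⟩ := hsurj ((1 : R') ⊗ₜ[R] m)
      have hcomp : LinearMap.lTensor R' (N₁ ⊔ N₂).mkQ ((1 : R') ⊗ₜ[R] m) =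
          (1 : R') ⊗ₜ[R] (N₁ ⊔ N₂).mkQ m := LinearMap.lTensor_tmul _ _ _ _
      rw [← hcomp, ← hz]
      have h0 : (N₁ ⊔ N₂).mkQ ∘ₗ N₁.subtype = 0 := by
        ext x
        exact (Submodule.Quotient.mk_eq_zero _).2 (le_sup_left (a := N₁) x.2)
      show (LinearMap.lTensor R' (N₁ ⊔ N₂).mkQ ∘ₗ LinearMap.lTensor R' N₁.subtype) z = 0
      rw [← LinearMap.lTensor_comp, h0, LinearMap.lTensor_zero, LinearMap.zero_apply]
    have htop : N₁ ⊔ N₂ = ⊤ := by
      rw [eq_top_iff]
      intro m _
      exact (Submodule.Quotient.mk_eq_zero _).1 (hzero (Submodule.Quotient.mk m))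
    exact ⟨htop ▸ Submodule.FG.sup (Module.Finite.iff_fg.1 hN₁) hN₂⟩

end Groth.Agent.S2006
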