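import Groth.Statements.S2003
import Groth.Agent.S2002
import Groth.Agent.S2006
import Mathlib.RingTheory.Flat.EquationalCriterion
import Mathlib.Algebra.Module.FinitePresentation
import Mathlib.RingTheory.Localization.Finiteness
import Mathlib.RingTheory.LocalProperties.Projective
import Mathlib.Algebra.Module.LocalizedModule.Exact

set_option autoImplicit false
universe u
open TensorProduct
open EtAlg

namespace Groth.Agent.S2003

/-- Stacks Tag 0BP6: let (R -> R', f) be a glueing pair and M any R-module. Then M is finite projective over R if and only if R' ⊗_R M is finite projective over R' and M_f is finite projective over R_f. -/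
theorem result (R R' : Type u) [CommRing R] [CommRing R'] [Algebra R R'] (f : R)
    (hRR : EtGlue.IsGlueingPair R R' f) (M : Type u) [AddCommGroup M] [Module R M] :
    (Module.Finite R M ∧ Module.Projective R M) ↔
      (Module.Finite R' (R' ⊗[R] M) ∧ Module.Projective R' (R' ⊗[R] M)) ∧
      (Module.Finite (Localization.Away f) (LocalizedModule (Submonoid.powers f) M) ∧
        Module.Projective (Localization.Away f) (LocalizedModule (Submonoid.powers f) M)) := by
  constructor
  · rintro ⟨h1, h2⟩
    exact ⟨⟨inferInstance, inferInstance⟩, Module.Finite.of_isLocalizedModule (Submonoid.powers f)
      (LocalizedModule.mkLinearMap (Submonoid.powers f) M), inferInstance⟩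
  · rintro ⟨⟨h1, h2⟩, ⟨h3, h4⟩⟩
    have hflat : Module.Flat R M := (S2002.result R R' f hRR M).2 ⟨inferInstance, inferInstance⟩
    have hfin : Module.Finite R M := (S2006.result R R' f hRR.1 M).2 ⟨h1, h3⟩
    -- finite presentation
    obtain ⟨n, π, hπ⟩ := Module.Finite.exists_fin' R M
    have hker : Module.Finite R (LinearMap.ker π) := by
      rw [S2006.result R R' f hRR.1 (LinearMap.ker π)]
      constructor
      · have hfp : Module.FinitePresentation R' (R' ⊗[R] M) :=
          Module.finitePresentation_of_projective _ _
        have hsurj : Function.Surjective (π.baseChange R') := LinearMap.lTensor_surjective R' hπ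
        have hfg := Module.FinitePresentation.fg_ker (π.baseChange R') hsurj
        have hinj : Function.Injective ((LinearMap.ker π).subtype.baseChange R') :=
          LinearMap.lTensor_injective_of_exact_of_flat π hπ (LinearMap.ker π).subtype
            (Submodule.injective_subtype _) (LinearMap.exact_subtype_ker_map π) R'
        have hex : LinearMap.ker (π.baseChange R') =
            LinearMap.range ((LinearMap.ker π).subtype.baseChange R') := by
          have := lTensor_exact (f := (LinearMap.ker π).subtype) (g := π) R'
            (LinearMap.exact_subtype_ker_map π) hπ
          ext x
          exact this x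
        rw [hex, ← Module.Finite.iff_fg] at hfg
        exact Module.Finite.equiv (LinearEquiv.ofInjective _ hinj).symm
      · have hfp : Module.FinitePresentation (Localization.Away f)
            (LocalizedModule (Submonoid.powers f) M) :=
          Module.finitePresentation_of_projective _ _
        have hsurj : Function.Surjective (LocalizedModule.map (Submonoid.powers f) π) :=
          LocalizedModule.map_surjective _ π hπ
        have hfree : Module.Finite (Localization.Away f)
            (LocalizedModule (Submonoid.powers f) (Fin n → R)) :=
          Module.Finite.of_isLocalizedModule (Submonoid.powers f)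
            (LocalizedModule.mkLinearMap (Submonoid.powers f) (Fin n → R))
        have hfg := Module.FinitePresentation.fg_ker (LocalizedModule.map (Submonoid.powers f) π) hsurj
        have hinj : Function.Injective
            (LocalizedModule.map (Submonoid.powers f) (LinearMap.ker π).subtype) :=
          LocalizedModule.map_injective _ _ (Submodule.injective_subtype _)
        have hex : LinearMap.ker (LocalizedModule.map (Submonoid.powers f) π) =
            LinearMap.range (LocalizedModule.map (Submonoid.powers f) (LinearMap.ker π).subtype) := by
          have := LocalizedModule.map_exact (Submonoid.powers f) (LinearMap.ker π).subtype π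
            (LinearMap.exact_subtype_ker_map π)
          ext x
          exact this x
        rw [hex, ← Module.Finite.iff_fg] at hfg
        exact Module.Finite.equiv (LinearEquiv.ofInjective _ hinj).symm
    have hfp : Module.FinitePresentation R M :=
      Module.finitePresentation_of_surjective π hπ (Module.Finite.iff_fg.1 hker)
    exact ⟨hfin, Module.Flat.projective_of_finitePresentation⟩

end Groth.Agent.S2003
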