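import Groth.Statements.S2004
import Groth.Agent.Etalg.GlueBasic

set_option autoImplicit false
universe u
open TensorProduct
open EtAlg

namespace Groth.Agent.S2004

/-- Stacks Tag 0BNR (last assertion): let R -> R' induce bijections R/f^n R -> R'/f^n R' for all n > 0. Then (R -> R', f) is a glueing pair if and only if R -> R' maps the f-power torsion of R bijectively onto the f-power torsion of R' (stated as: injective on f-power torsion elements, and every f-power torsion element of R' is the image of one of R). -/
theorem result (R R' : Type u) [CommRing R] [CommRing R'] [Algebra R R'] (f : R)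
    (hq : EtGlue.QuotPowBijective R R' f) :
    EtGlue.IsGlueingPair R R' f ↔
      ((∀ x : R, (∃ n : ℕ, f ^ n * x = 0) → algebraMap R R' x = 0 → x = 0) ∧
       (∀ x' : R', (∃ n : ℕ, algebraMap R R' f ^ n * x' = 0) →
          ∃ x : R, (∃ n : ℕ, f ^ n * x = 0) ∧ algebraMap R R' x = x')) := by
  constructor
  · intro h
    refine ⟨fun x ⟨n, hx⟩ h0 => Etalg.GlueBasic.torsion_ring_inj h x n hx h0, fun x' ⟨n, hx⟩ => ?_⟩
    obtain ⟨x, h1, h2⟩  := Etalg.GlueBasic.torsion_ring h n x' hx
    exact ⟨x, ⟨n, h1⟩, h2⟩
  · rintro ⟨hinj, hsurj⟩
    refine ⟨hq, ?_, ?_, ?_⟩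
    · intro a b hab
      rw [Prod.mk.injEq] at hab
      obtain ⟨h1, h2⟩ := hab
      rw [← sub_eq_zero]
      refine hinj _ ?_ (by rw [map_sub, h1, sub_self])
      obtain ⟨⟨_, n, rfl⟩, hc⟩ := (IsLocalization.eq_iff_exists (Submonoid.powers f) _).1 h2
      exact ⟨n, by rw [mul_sub, sub_eq_zero]; exact hc⟩
    · intro x y hxy
      obtain ⟨⟨a, ⟨_, n, rfl⟩⟩, rfl⟩ := IsLocalization.mk'_surjective (Submonoid.powers f) y
      simp only at hxy ⊢
      have hu : IsUnit (algebraMap R (Localization.Away f) f) :=
        IsLocalization.Away.algebraMap_isUnit _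
      have hya : algebraMap R (Localization.Away f) f ^ n *
          IsLocalization.mk' (Localization.Away f) a (⟨f ^ n, n, rfl⟩ : Submonoid.powers f) =
          algebraMap R _ a := by
        rw [← map_pow]
        exact IsLocalization.mk'_spec' (Localization.Away f) a (⟨f ^ n, n, rfl⟩ : Submonoid.powers f)
      have hawm : ∀ r : R, Localization.awayMap (algebraMap R R') f
          (algebraMap R (Localization.Away f) r) =
          algebraMap R' (Localization.Away (algebraMap R R' f)) (algebraMap R R' r) := by
        intro r
        simp [Localization.awayMap, IsLocalization.Away.map]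
      have h1 : algebraMap R' (Localization.Away (algebraMap R R' f))
          (algebraMap R R' f ^ n * x) = algebraMap R' _ (algebraMap R R' a) := by
        rw [map_mul, map_pow, hxy, ← hawm, ← hawm, ← hya, map_mul, map_pow]
      obtain ⟨⟨_, N, rfl⟩, hc⟩ := (IsLocalization.eq_iff_exists
        (Submonoid.powers (algebraMap R R' f)) _).1 h1
      simp only at hc
      obtain ⟨b, hb⟩ := Etalg.GlueBasic.dvd_of_map_dvd hq (N + n) (f ^ N * a) ⟨x, by
        rw [map_mul, map_pow, ← hc]; ring⟩
      obtain ⟨c, ⟨k, hk⟩, hc'⟩ := hsurj (x - algebraMap R R' b) ⟨N + n, by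
        have h3 := congrArg (algebraMap R R') hb
        simp only [map_mul, map_pow] at h3
        rw [mul_sub, ← h3, ← hc]; ring⟩
      refine ⟨b + c, by rw [map_add, hc']; ring, ?_⟩
      have hc0 : algebraMap R (Localization.Away f) c = 0 := by
        have := congrArg (algebraMap R (Localization.Away f)) hk
        rw [map_mul, map_pow, map_zero] at this
        exact (hu.pow k).mul_right_eq_zero.1 this
      rw [map_add, hc0, add_zero]
      apply (hu.pow n).mul_left_cancel
      rw [hya]
      apply (hu.pow N).mul_left_cancel
      rw [← map_pow, ← map_pow, ← map_mul, ← map_mul, ← map_mul, hb]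
      ring_nf
    · intro z
      obtain ⟨⟨x, ⟨_, n, rfl⟩⟩, rfl⟩ := IsLocalization.mk'_surjective
        (Submonoid.powers (algebraMap R R' f)) z
      obtain ⟨r, s, rfl⟩ := Etalg.GlueBasic.exists_decomp hq n x
      simp only
      have hu : IsUnit (algebraMap R (Localization.Away f) f) :=
        IsLocalization.Away.algebraMap_isUnit _
      have hu' : IsUnit (algebraMap R' (Localization.Away (algebraMap R R' f)) (algebraMap R R' f)) :=
        IsLocalization.Away.algebraMap_isUnit _
      have hawm : ∀ r : R, Localization.awayMap (algebraMap R R') f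
          (algebraMap R (Localization.Away f) r) =
          algebraMap R' (Localization.Away (algebraMap R R' f)) (algebraMap R R' r) := by
        intro r
        simp [Localization.awayMap, IsLocalization.Away.map]
      have hya : algebraMap R (Localization.Away f) f ^ n *
          IsLocalization.mk' (Localization.Away f) (-r) (⟨f ^ n, n, rfl⟩ : Submonoid.powers f) =
          algebraMap R _ (-r) := by
        rw [← map_pow]
        exact IsLocalization.mk'_spec' (Localization.Away f) (-r) (⟨f ^ n, n, rfl⟩ : Submonoid.powers f)
      refine ⟨s, IsLocalization.mk' (Localization.Away f) (-r) (⟨f ^ n, n, rfl⟩ : Submonoid.powers f), ?_⟩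
      apply (hu'.pow n).mul_left_cancel
      have h2 : algebraMap R' (Localization.Away (algebraMap R R' f)) (algebraMap R R' f) ^ n *
          IsLocalization.mk' (Localization.Away (algebraMap R R' f))
            (algebraMap R R' r + algebraMap R R' f ^ n * s)
            (⟨algebraMap R R' f ^ n, n, rfl⟩ : Submonoid.powers (algebraMap R R' f)) =
          algebraMap R' _ (algebraMap R R' r + algebraMap R R' f ^ n * s) := by
        rw [← map_pow]
        exact IsLocalization.mk'_spec' (Localization.Away (algebraMap R R' f)) _
          (⟨algebraMap R R' f ^ n, n, rfl⟩ : Submonoid.powers (algebraMap R R' f))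
      rw [h2, mul_sub]
      rw [← hawm f, ← map_pow (Localization.awayMap (algebraMap R R') f), ← map_mul
        (Localization.awayMap (algebraMap R R') f), hya, map_neg, map_neg, hawm, map_pow, hawm,
        map_add, map_mul, map_pow]
      ring

end Groth.Agent.S2004
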