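import Groth.Statements.S2005
import Groth.Agent.Etalg.GlueBasic

set_option autoImplicit false
universe u
open TensorProduct
open EtAlg

namespace Groth.Agent.S2005

/-- Stacks Tag 0BNW (last assertions): let R -> R' induce bijections R/f^n R -> R'/f^n R' for all n > 0 and let M be an R-module. Then M is glueable for (R -> R', f) if and only if m ↦ 1 ⊗ m maps the f-power torsion of M bijectively onto the f-power torsion of R' ⊗_R M; and if (R -> R', f) is a glueing pair, injectivity on the f-power torsion already suffices. -/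
theorem result (R R' : Type u) [CommRing R] [CommRing R'] [Algebra R R'] (f : R)
    (hq : EtGlue.QuotPowBijective R R' f) (M : Type u) [AddCommGroup M] [Module R M] :
    (EtGlue.IsGlueable R R' f M ↔
      ((∀ m : M, (∃ n : ℕ, f ^ n • m = 0) → (1 : R') ⊗ₜ[R] m = 0 → m = 0) ∧
       (∀ x : R' ⊗[R] M, (∃ n : ℕ, f ^ n • x = 0) → ∃ m : M, (∃ n : ℕ, f ^ n • m = 0) ∧ (1 : R') ⊗ₜ[R] m = x))) ∧
    (EtGlue.IsGlueingPair R R' f →
      (EtGlue.IsGlueable R R' f M ↔ ∀ m : M, (∃ n : ℕ, f ^ n • m = 0) → (1 : R') ⊗ₜ[R] m = 0 → m = 0)) := by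
  have key : EtGlue.IsGlueable R R' f M ↔
      ((∀ m : M, (∃ n : ℕ, f ^ n • m = 0) → (1 : R') ⊗ₜ[R] m = 0 → m = 0) ∧
       (∀ x : R' ⊗[R] M, (∃ n : ℕ, f ^ n • x = 0) →
          ∃ m : M, (∃ n : ℕ, f ^ n • m = 0) ∧ (1 : R') ⊗ₜ[R] m = x)) := by
    have tors : ∀ {N : Type u} [AddCommGroup N] [Module R N] (x : N),
        LocalizedModule.mkLinearMap (Submonoid.powers f) N x = 0 ↔ ∃ n : ℕ, f ^ n • x = 0 := by
      intro N _ _ x
      rw [IsLocalizedModule.eq_zero_iff (Submonoid.powers f)]
      constructor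
      · rintro ⟨⟨_, n, rfl⟩, hc⟩; exact ⟨n, hc⟩
      · rintro ⟨n, hn⟩; exact ⟨⟨_, n, rfl⟩, hn⟩
    have hcancel : ∀ {N : Type u} [AddCommGroup N] [Module R N] (n : ℕ)
        (a b : LocalizedModule (Submonoid.powers f) N), f ^ n • a = f ^ n • b → a = b := by
      intro N _ _ n a b hab
      exact IsLocalizedModule.smul_injective (LocalizedModule.mkLinearMap (Submonoid.powers f) N)
        (⟨f ^ n, n, rfl⟩ : Submonoid.powers f) hab
    constructor
    · rintro ⟨hinj, hmid⟩
      refine ⟨fun m hm h0 => hinj ?_, fun x hx => ?_⟩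
      · simp only [h0, (tors m).2 hm, TensorProduct.tmul_zero, map_zero]
      · obtain ⟨m, h1, h2⟩ := hmid x 0 (by
          rw [map_zero]; exact (tors x).2 hx)
        exact ⟨m, (tors m).1 h2, h1⟩
    · rintro ⟨hinj, hsurj⟩
      constructor
      · intro a b hab
        rw [Prod.mk.injEq] at hab
        rw [← sub_eq_zero]
        refine hinj _ ((tors _).1 (by rw [map_sub, hab.2, sub_self])) ?_
        rw [TensorProduct.tmul_sub, hab.1, sub_self]
      · intro x y hxy
        obtain ⟨⟨a, ⟨_, n, rfl⟩⟩, rfl⟩ := IsLocalizedModule.mk'_surjective (Submonoid.powers f)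
          (LocalizedModule.mkLinearMap (Submonoid.powers f) M) y
        simp only [Function.uncurry_apply_pair] at hxy ⊢
        have hy : f ^ n • IsLocalizedModule.mk' (LocalizedModule.mkLinearMap (Submonoid.powers f) M) a
            (⟨f ^ n, n, rfl⟩ : Submonoid.powers f) =
            LocalizedModule.mkLinearMap (Submonoid.powers f) M a :=
          IsLocalizedModule.mk'_cancel' (LocalizedModule.mkLinearMap (Submonoid.powers f) M) a
            (⟨f ^ n, n, rfl⟩ : Submonoid.powers f)
        have h1 : LocalizedModule.mkLinearMap (Submonoid.powers f) (R' ⊗[R] M)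
            (f ^ n • x - (1 : R') ⊗ₜ[R] a) = 0 := by
          have h2 := congrArg (fun z => f ^ n • z) hxy
          simp only [← map_smul, hy, IsLocalizedModule.map_apply] at h2
          rw [map_sub, sub_eq_zero]
          exact h2
        obtain ⟨N, hN⟩ := (tors _).1 h1
        rw [smul_sub, sub_eq_zero, smul_smul, ← pow_add, ← TensorProduct.tmul_smul] at hN
        obtain ⟨b, hb⟩ := Etalg.GlueBasic.exists_smul_of_tmul_eq_smul hq (N + n) _ _ hN.symm
        obtain ⟨c, hc, hc'⟩ := hsurj (x - (1 : R') ⊗ₜ[R] b) ⟨N + n, by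
          rw [smul_sub, hN, hb, TensorProduct.tmul_smul, sub_self]⟩
        refine ⟨b + c, by rw [TensorProduct.tmul_add, hc']; abel, ?_⟩
        rw [map_add, (tors c).2 hc, add_zero]
        apply hcancel (N + n)
        rw [← map_smul, ← hb, map_smul, ← hy, smul_smul, pow_add]
  refine ⟨key, fun hg => ?_⟩
  rw [key]
  refine ⟨fun h => h.1, fun h => ⟨h, fun x ⟨n, hx⟩ => ?_⟩⟩
  obtain ⟨m, h1, h2⟩ := Etalg.GlueBasic.torsion_surj hg n x hx
  exact ⟨m, ⟨n, h1⟩, h2⟩

end Groth.Agent.S2005
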