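import Groth.Statements.S2007
import Mathlib.Tactic.LinearCombination
import Mathlib.LinearAlgebra.TensorProduct.Quotient
import Mathlib.LinearAlgebra.TensorProduct.RightExactness
import Mathlib.RingTheory.Flat.Basic
import Mathlib.Tactic.Abel

set_option autoImplicit false
universe u
open TensorProduct
open EtAlg

namespace Groth.Agent.S2007

section Torsion

variable {R S : Type u} [CommRing R] [CommRing S] [Algebra R S] {I : Ideal R}

theorem ring_approx (hq : Function.Surjective (Ideal.quotientMap (I.map (algebraMap R S))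
    (algebraMap R S) Ideal.le_comap_map)) (n : ℕ) (s : S) :
    ∃ r : R, s - algebraMap R S r ∈ (I ^ n).map (algebraMap R S) := by
  have h1 : ∀ s : S, ∃ r : R, s - algebraMap R S r ∈ I.map (algebraMap R S) := by
    intro s
    obtain ⟨y, hy⟩ := hq (Ideal.Quotient.mk _ s)
    obtain ⟨r, rfl⟩ := Ideal.Quotient.mk_surjective y
    rw [Ideal.quotientMap_mk, eq_comm, Ideal.Quotient.eq] at hy
    exact ⟨r, hy⟩
  induction n generalizing s with
  | zero => exact ⟨0, by simp [Ideal.map_top]⟩
  | succ n ih =>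
    obtain ⟨r, hr⟩ := ih s
    have h2 : ∀ t ∈ (I ^ n).map (algebraMap R S), ∃ r ∈ I ^ n,
        t - algebraMap R S r ∈ (I ^ (n + 1)).map (algebraMap R S) := by
      intro t ht
      induction ht using Submodule.span_induction with
      | mem x hx =>
        obtain ⟨a, ha, rfl⟩ := hx
        exact ⟨a, ha, by rw [sub_self]; exact Ideal.zero_mem _⟩
      | zero => exact ⟨0, Ideal.zero_mem _, by simp⟩
      | add x y _ _ hx hy =>
        obtain ⟨a, ha', ha⟩ := hx
        obtain ⟨b, hb', hb⟩ := hy
        refine ⟨a + b, Ideal.add_mem _ ha' hb', ?_⟩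
        have := Ideal.add_mem _ ha hb
        rw [map_add]
        convert this using 1
        ring
      | smul c x hx' hx =>
        obtain ⟨a, ha', ha⟩ := hx
        obtain ⟨b, hb⟩ := h1 c
        refine ⟨b * a, Ideal.mul_mem_left _ _ ha', ?_⟩
        have h3 : (c - algebraMap R S b) * algebraMap R S a ∈ (I ^ (n + 1)).map (algebraMap R S) := by
          rw [pow_succ', Ideal.map_mul]
          exact Ideal.mul_mem_mul hb (Ideal.mem_map_of_mem _ ha')
        have := Ideal.add_mem _ (Ideal.mul_mem_left _ c ha) h3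
        rw [map_mul, smul_eq_mul]
        convert this using 1
        ring
    obtain ⟨r', -, hr'⟩ := h2 _ hr
    refine ⟨r + r', ?_⟩
    rw [map_add, ← sub_sub]
    exact hr'

theorem tensor_surj (hq : Function.Surjective (Ideal.quotientMap (I.map (algebraMap R S))
    (algebraMap R S) Ideal.le_comap_map)) {T : Type u} [AddCommGroup T] [Module R T]
    (hT : ∀ t : T, ∃ n : ℕ, ∀ a ∈ I ^ n, a • t = 0) (z : S ⊗[R] T) :
    ∃ t : T, (1 : S) ⊗ₜ[R] t = z := by
  induction z with
  | zero => exact ⟨0, by simp⟩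
  | add x y hx hy =>
    obtain ⟨a, rfl⟩ := hx
    obtain ⟨b, rfl⟩ := hy
    exact ⟨a + b, TensorProduct.tmul_add _ _ _⟩
  | tmul s t =>
    obtain ⟨n, hn⟩ := hT t
    obtain ⟨r, hr⟩ := ring_approx hq n s
    have h1 : ∀ u ∈ (I ^ n).map (algebraMap R S), u ⊗ₜ[R] t = 0 := by
      intro u hu
      induction hu using Submodule.span_induction with
      | mem x hx =>
        obtain ⟨a, ha, rfl⟩ := hx
        rw [Algebra.algebraMap_eq_smul_one, TensorProduct.smul_tmul, hn a ha,
          TensorProduct.tmul_zero]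
      | zero => exact TensorProduct.zero_tmul _ _
      | add x y _ _ hx hy => rw [TensorProduct.add_tmul, hx, hy, add_zero]
      | smul c x _ hx => rw [← TensorProduct.smul_tmul', hx, smul_zero]
    have h2 := h1 _ hr
    rw [TensorProduct.sub_tmul, sub_eq_zero] at h2
    exact ⟨r • t, by rw [h2, Algebra.algebraMap_eq_smul_one, TensorProduct.smul_tmul]⟩

theorem mult_inj (hq : Function.Surjective (Ideal.quotientMap (I.map (algebraMap R S))
    (algebraMap R S) Ideal.le_comap_map)) {T : Type u} [AddCommGroup T] [Module R T]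
    [Module S T] [IsScalarTower R S T]
    (hT : ∀ t : T, ∃ n : ℕ, ∀ a ∈ I ^ n, a • t = 0) (z : S ⊗[R] T)
    (hz : LinearMap.liftBaseChange S (LinearMap.id : T →ₗ[R] T) z = 0) : z = 0 := by
  obtain ⟨t, rfl⟩ := tensor_surj hq hT z
  rw [LinearMap.liftBaseChange_tmul, one_smul, LinearMap.id_apply] at hz
  rw [hz, TensorProduct.tmul_zero]

end Torsion

section Main

variable {R S : Type u} [CommRing R] [CommRing S] [Algebra R S] [Module.Flat R S] {I : Ideal R}
  {N : Type u} [AddCommGroup N] [Module R N]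
  {M' : Type u} [AddCommGroup M'] [Module R M'] [Module S M'] [IsScalarTower R S M']

theorem comp_eq (φ : M' →ₗ[S] S ⊗[R] N) (M : Submodule R (M' × N))
    (hM : ∀ v, v ∈ M ↔ φ v.1 = (1 : S) ⊗ₜ[R] v.2) (z : S ⊗[R] M) :
    φ (LinearMap.liftBaseChange S ((LinearMap.fst R M' N).comp M.subtype) z) =
      LinearMap.lTensor S ((LinearMap.snd R M' N).comp M.subtype) z := by
  induction z with
  | zero => simp only [map_zero]
  | tmul a m =>
    rw [LinearMap.liftBaseChange_tmul, map_smul, LinearMap.lTensor_tmul]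
    have := (hM _).1 m.2
    simp only [LinearMap.coe_comp, Function.comp_apply, Submodule.subtype_apply,
      LinearMap.fst_apply, LinearMap.snd_apply]
    rw [this, TensorProduct.smul_tmul', smul_eq_mul, mul_one]
  | add x y hx hy => simp only [map_add, hx, hy]

theorem glue_inj (hq : Function.Surjective (Ideal.quotientMap (I.map (algebraMap R S))
    (algebraMap R S) Ideal.le_comap_map))
    (φ : M' →ₗ[S] S ⊗[R] N)
    (hker : ∀ x : M', φ x = 0 → ∃ n : ℕ, ∀ a ∈ I ^ n, a • x = 0)
    (M : Submodule R (M' × N))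
    (hM : ∀ v, v ∈ M ↔ φ v.1 = (1 : S) ⊗ₜ[R] v.2) :
    Function.Injective (LinearMap.liftBaseChange S ((LinearMap.fst R M' N).comp M.subtype)) := by
  rw [injective_iff_map_eq_zero]
  intro z hz
  have h1 := comp_eq φ M hM z
  rw [hz, map_zero] at h1
  let K := LinearMap.ker φ
  let ι : K →ₗ[R] M :=
    { toFun := fun k => ⟨((k : M'), 0), (hM _).2 (by
        rw [TensorProduct.tmul_zero]; exact k.2)⟩
      map_add' := fun x y => by ext <;> simp
      map_smul' := fun r x => by ext <;> simp }
  have hex : Function.Exact ι ((LinearMap.snd R M' N).comp M.subtype) := by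
    intro m
    constructor
    · intro hm
      have hm2 : (m : M' × N).2 = 0 := hm
      have h3 := (hM _).1 m.2
      rw [hm2, TensorProduct.tmul_zero] at h3
      exact ⟨⟨(m : M' × N).1, h3⟩, Subtype.ext (Prod.ext rfl hm2.symm)⟩
    · rintro ⟨k, rfl⟩
      rfl
  have hex' := Module.Flat.lTensor_exact S hex
  obtain ⟨w, rfl⟩ := (hex' z).1 h1.symm
  have h2 : ∀ w : S ⊗[R] K,
      LinearMap.liftBaseChange S ((LinearMap.fst R M' N).comp M.subtype) (LinearMap.lTensor S ι w) =
      (LinearMap.liftBaseChange S (LinearMap.id : K →ₗ[R] K) w : K) := by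
    intro w
    induction w with
    | zero => simp only [map_zero]; rfl
    | tmul a m =>
      rw [LinearMap.lTensor_tmul, LinearMap.liftBaseChange_tmul, LinearMap.liftBaseChange_tmul]
      rfl
    | add x y hx hy => rw [map_add, map_add, map_add, hx, hy]; rfl
  rw [h2] at hz
  have h3 : LinearMap.liftBaseChange S (LinearMap.id : K →ₗ[R] K) w = 0 := Subtype.ext hz
  have h4 : w = 0 := by
    refine mult_inj hq ?_ w h3
    intro t
    obtain ⟨n, hn⟩ := hker t t.2
    exact ⟨n, fun a ha => Subtype.ext (hn a ha)⟩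
  rw [h4, map_zero]

theorem glue_surj (hq : Function.Surjective (Ideal.quotientMap (I.map (algebraMap R S))
    (algebraMap R S) Ideal.le_comap_map))
    (φ : M' →ₗ[S] S ⊗[R] N)
    (hcoker : ∀ y : S ⊗[R] N, ∃ n : ℕ, ∀ a ∈ I ^ n, a • y ∈ LinearMap.range φ)
    (M : Submodule R (M' × N))
    (hM : ∀ v, v ∈ M ↔ φ v.1 = (1 : S) ⊗ₜ[R] v.2) :
    Function.Surjective (LinearMap.liftBaseChange S ((LinearMap.fst R M' N).comp M.subtype)) := by
  intro x
  -- the cokernel
  let P : Submodule S (S ⊗[R] N) := LinearMap.range φ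
  let C := (S ⊗[R] N) ⧸ P
  let q : S ⊗[R] N →ₗ[S] C := P.mkQ
  let qN : N →ₗ[R] C := (q.restrictScalars R) ∘ₗ TensorProduct.mk R S N 1
  let s : M →ₗ[R] N := (LinearMap.snd R M' N).comp M.subtype
  have hex : Function.Exact s qN := by
    intro n
    constructor
    · intro hn
      have h1 : q ((1 : S) ⊗ₜ[R] n) = 0 := hn
      rw [Submodule.mkQ_apply, Submodule.Quotient.mk_eq_zero] at h1
      obtain ⟨y, hy⟩ := h1
      exact ⟨⟨(y, n), (hM _).2 hy⟩, rfl⟩
    · rintro ⟨m, rfl⟩
      have h1 : q ((1 : S) ⊗ₜ[R] (m : M' × N).2) = 0 := by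
        rw [Submodule.mkQ_apply, Submodule.Quotient.mk_eq_zero]
        exact ⟨_, (hM _).1 m.2⟩
      exact h1
  have hex' := Module.Flat.lTensor_exact S hex
  have hm : ∀ y : S ⊗[R] N, LinearMap.liftBaseChange S (LinearMap.id : C →ₗ[R] C)
      (LinearMap.lTensor S qN y) = q y := by
    intro y
    induction y with
    | zero => simp only [map_zero]
    | tmul a n =>
      rw [LinearMap.lTensor_tmul, LinearMap.liftBaseChange_tmul, LinearMap.id_apply]
      change a • q ((1 : S) ⊗ₜ[R] n) = _
      rw [← map_smul, TensorProduct.smul_tmul', smul_eq_mul, mul_one]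
    | add x y hx hy => simp only [map_add, hx, hy]
  have h0 : LinearMap.lTensor S qN (φ x) = 0 := by
    apply mult_inj hq _ _ _
    · intro t
      obtain ⟨y, rfl⟩ := P.mkQ_surjective t
      obtain ⟨n, hn⟩ := hcoker y
      refine ⟨n, fun a ha => ?_⟩
      have := hn a ha
      have h5 : a • P.mkQ y = P.mkQ (a • y) := (LinearMap.map_smul_of_tower P.mkQ a y).symm
      rw [h5, Submodule.mkQ_apply, Submodule.Quotient.mk_eq_zero]
      exact this
    · rw [hm, Submodule.mkQ_apply, Submodule.Quotient.mk_eq_zero]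
      exact ⟨x, rfl⟩
  obtain ⟨z, hz⟩ := (hex' _).1 h0
  have h1 : φ (x - LinearMap.liftBaseChange S ((LinearMap.fst R M' N).comp M.subtype) z) = 0 := by
    rw [map_sub, comp_eq φ M hM z, ← hz, sub_self]
  refine ⟨z + (1 : S) ⊗ₜ[R] ⟨(x - LinearMap.liftBaseChange S
    ((LinearMap.fst R M' N).comp M.subtype) z, 0), (hM _).2 (by
      rw [h1, TensorProduct.tmul_zero])⟩, ?_⟩
  rw [map_add, LinearMap.liftBaseChange_tmul, one_smul]
  simp

end Main

/-- Stacks Tag 0ALK (1): let R -> S be a flat ring map and I a finitely generated ideal of R such that R/I -> S/IS is bijective. Let N be an R-module, M' an S-module and φ : M' -> S ⊗_R N an S-linear map whose kernel and cokernel are I-power torsion (every element of the kernel, resp. of the target modulo the image, is killed by some power of I). Then there are an R-module M, an R-linear map ψ : M -> N and an S-isomorphism S ⊗_R M ≅ M' identifying φ with the base change of ψ. -/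
theorem result (R S : Type u) [CommRing R] [CommRing S] [Algebra R S] [Module.Flat R S] (I : Ideal R)
    (hI : I.FG) (hq : Function.Bijective (Ideal.quotientMap (I.map (algebraMap R S)) (algebraMap R S) Ideal.le_comap_map))
    (N : Type u) [AddCommGroup N] [Module R N] (M' : Type u) [AddCommGroup M'] [Module S M'] (φ : M' →ₗ[S] S ⊗[R] N)
    (hker : ∀ x : M', φ x = 0 → ∃ n : ℕ, ∀ a ∈ I ^ n, algebraMap R S a • x = 0)
    (hcoker : ∀ y : S ⊗[R] N, ∃ n : ℕ, ∀ a ∈ I ^ n, algebraMap R S a • y ∈ LinearMap.range φ) :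
    ∃ (M : Type u) (_ : AddCommGroup M) (_ : Module R M) (ψ : M →ₗ[R] N) (e : S ⊗[R] M ≃ₗ[S] M'),
      φ ∘ₗ e.toLinearMap = ψ.baseChange S := by
  let : Module R M' := Module.compHom M' (algebraMap R S)
  have : IsScalarTower R S M' := IsScalarTower.of_algebraMap_smul fun _ _ => rfl
  let M : Submodule R (M' × N) :=
    LinearMap.ker ((φ.restrictScalars R) ∘ₗ LinearMap.fst R M' N -
      (TensorProduct.mk R S N 1) ∘ₗ LinearMap.snd R M' N)
  have hM : ∀ v, v ∈ M ↔ φ v.1 = (1 : S) ⊗ₜ[R] v.2 := by
    intro v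
    simp only [M, LinearMap.mem_ker, LinearMap.sub_apply, LinearMap.coe_comp, Function.comp_apply,
      LinearMap.fst_apply, LinearMap.snd_apply, TensorProduct.mk_apply, sub_eq_zero]
    exact Iff.rfl
  have hcoker' : ∀ y : S ⊗[R] N, ∃ n : ℕ, ∀ a ∈ I ^ n, a • y ∈ LinearMap.range φ := by
    intro y
    obtain ⟨n, hn⟩ := hcoker y
    exact ⟨n, fun a ha => by have := hn a ha; rwa [algebraMap_smul] at this⟩
  refine ⟨M, inferInstance, inferInstance, (LinearMap.snd R M' N).comp M.subtype,
    LinearEquiv.ofBijective _ ⟨glue_inj hq.2 φ hker M hM, glue_surj hq.2 φ hcoker' M hM⟩, ?_⟩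
  apply LinearMap.ext
  intro z
  exact comp_eq φ M hM z

end Groth.Agent.S2007
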