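import Groth.Statements.S2009
import Groth.Agent.Etalg.FormalGlue

set_option autoImplicit false
universe u
open TensorProduct
open EtAlg

namespace Groth.Agent.S2009

/-- Stacks Tag 05E9: let R -> S be flat with S/IS faithfully flat over R/I. Then the natural map M -> S ⊗_R M is bijective for every I-power torsion R-module M if and only if R/I -> S/IS is bijective. -/
theorem result (R S : Type u) [CommRing R] [CommRing S] [Algebra R S] (I : Ideal R)
    [Module.Flat R S] [Module.FaithfullyFlat (R ⧸ I) (S ⧸ I.map (algebraMap R S))] :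
    (∀ (M : Type u) [AddCommGroup M] [Module R M], (∀ m : M, ∃ n : ℕ, ∀ a ∈ I ^ n, a • m = 0) →
      Function.Bijective (TensorProduct.mk R S M 1)) ↔
    Function.Bijective (Ideal.quotientMap (I.map (algebraMap R S)) (algebraMap R S) Ideal.le_comap_map) := by
  constructor
  · intro h
    have hI : ∀ m : R ⧸ I, ∃ n : ℕ, ∀ a ∈ I ^ n, a • m = 0 := by
      intro m
      obtain ⟨m, rfl⟩ := Ideal.Quotient.mk_surjective m
      refine ⟨1, fun a ha => ?_⟩
      rw [pow_one] at ha
      rw [← Ideal.Quotient.mk_eq_mk, ← Submodule.Quotient.mk_smul, Submodule.Quotient.mk_eq_zero]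
      exact Ideal.mul_mem_right _ _ ha
    have h1 := h (R ⧸ I) hI
    have h2 : (fun x => (Algebra.TensorProduct.quotIdealMapEquivTensorQuot S I).symm
        (TensorProduct.mk R S (R ⧸ I) 1 x)) =
        Ideal.quotientMap (I.map (algebraMap R S)) (algebraMap R S) Ideal.le_comap_map := by
      funext x
      obtain ⟨x, rfl⟩ := Ideal.Quotient.mk_surjective x
      rw [Ideal.quotientMap_mk, TensorProduct.mk_apply, AlgEquiv.symm_apply_eq,
        Algebra.TensorProduct.quotIdealMapEquivTensorQuot_mk]
      have : (Ideal.Quotient.mk I x : R ⧸ I) = x • (1 : R ⧸ I) := by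
        rw [Algebra.smul_def, mul_one]; rfl
      rw [this, TensorProduct.tmul_smul, TensorProduct.smul_tmul', Algebra.algebraMap_eq_smul_one]
    rw [← h2]
    exact (Algebra.TensorProduct.quotIdealMapEquivTensorQuot S I).symm.bijective.comp h1
  · intro h M _ _ hM
    exact Etalg.FormalGlue.mk_bijective_of_torsion h hM

end Groth.Agent.S2009
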