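import Groth.Statements.S2010
import Groth.Agent.Etalg.FormalGlue

set_option autoImplicit false
universe u
open TensorProduct
open EtAlg

namespace Groth.Agent.S2010

section Aux

variable {R S : Type u} [CommRing R] [CommRing S] [Algebra R S]

/-- The defining relation of the glued extension. -/
def Rel (N : Type u) [AddCommGroup N] [Module R N] (E' : Type u) [AddCommGroup E'] [Module S E']
    [Module R E'] (i' : S ⊗[R] N →ₗ[S] E') {ι : Type u} (g : ι → R)
    (e : E' × (∀ i, LocalizedModule (Submonoid.powers (g i)) N)) (m : ℕ) (x : ι → N) : Prop :=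
  (∀ i j, g i ^ m • x j = g j ^ m • x i) ∧
  (∀ i, g i ^ m • e.2 i = LocalizedModule.mkLinearMap (Submonoid.powers (g i)) N (x i)) ∧
  (∀ i, g i ^ m • e.1 = i' ((1 : S) ⊗ₜ[R] x i))

variable {N : Type u} [AddCommGroup N] [Module R N] {E' : Type u} [AddCommGroup E'] [Module S E']
    [Module R E'] [IsScalarTower R S E'] {i' : S ⊗[R] N →ₗ[S] E'} {ι : Type u} {g : ι → R}

theorem map_smul_tower (i' : S ⊗[R] N →ₗ[S] E') (r : R) (x : S ⊗[R] N) :
    i' (r • x) = r • i' x := by
  rw [← algebraMap_smul S r x, map_smul, algebraMap_smul]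

theorem Rel.mono {e : E' × (∀ i, LocalizedModule (Submonoid.powers (g i)) N)} {m : ℕ} {x : ι → N}
    (h : Rel N E' i' g e m x) (l : ℕ) : Rel N E' i' g e (m + l) (fun i => g i ^ l • x i) := by
  obtain ⟨h1, h2, h3⟩ := h
  refine ⟨fun i j => ?_, fun i => ?_, fun i => ?_⟩
  · rw [pow_add, mul_smul, pow_add, mul_smul, smul_comm (g i ^ l) (g j ^ l),
      smul_comm (g i ^ m) (g j ^ l), smul_comm (g j ^ m) (g j ^ l), smul_comm (g i ^ m) (g i ^ l),
      smul_comm (g j ^ m) (g i ^ l), h1 i j, smul_comm (g j ^ l) (g i ^ l)]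
  · rw [pow_add, mul_comm, mul_smul, h2 i, map_smul]
  · rw [pow_add, mul_comm, mul_smul, h3 i, TensorProduct.tmul_smul, map_smul_tower]

theorem Rel.add {e e2 : E' × (∀ i, LocalizedModule (Submonoid.powers (g i)) N)} {m : ℕ}
    {x y : ι → N} (h : Rel N E' i' g e m x) (h' : Rel N E' i' g e2 m y) :
    Rel N E' i' g (e + e2) m (x + y) := by
  obtain ⟨h1, h2, h3⟩ := h
  obtain ⟨h1', h2', h3'⟩ := h'
  refine ⟨fun i j => ?_, fun i => ?_, fun i => ?_⟩
  · rw [Pi.add_apply, Pi.add_apply, smul_add, smul_add, h1 i j, h1' i j]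
  · rw [Prod.snd_add, Pi.add_apply, Pi.add_apply, smul_add, map_add, h2 i, h2' i]
  · rw [Prod.fst_add, Pi.add_apply, smul_add, TensorProduct.tmul_add, map_add, h3 i, h3' i]

theorem Rel.smul {e : E' × (∀ i, LocalizedModule (Submonoid.powers (g i)) N)} {m : ℕ}
    {x : ι → N} (h : Rel N E' i' g e m x) (r : R) :
    Rel N E' i' g (r • e) m (r • x) := by
  obtain ⟨h1, h2, h3⟩ := h
  refine ⟨fun i j => ?_, fun i => ?_, fun i => ?_⟩
  · rw [Pi.smul_apply, Pi.smul_apply, smul_comm, h1 i j, smul_comm]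
  · rw [Prod.smul_snd, Pi.smul_apply, Pi.smul_apply, smul_comm, h2 i, map_smul]
  · rw [Prod.smul_fst, Pi.smul_apply, smul_comm, h3 i, TensorProduct.tmul_smul, map_smul_tower]

theorem Rel.zero : Rel N E' i' g 0 0 0 :=
  ⟨fun i j => by simp, fun i => by simp, fun i => by simp⟩

variable (N E' i' g) in
/-- The glued extension. -/
def glued : Submodule R (E' × (∀ i, LocalizedModule (Submonoid.powers (g i)) N)) where
  carrier := {e | ∃ m x, Rel N E' i' g e m x}
  zero_mem' := ⟨0, 0, Rel.zero⟩
  add_mem' := by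
    rintro e e2 ⟨m, x, h⟩ ⟨m', y, h'⟩
    have h2 := h'.mono m
    rw [add_comm m' m] at h2
    exact ⟨m + m', _, (h.mono m').add h2⟩
  smul_mem' := by
    rintro r e ⟨m, x, h⟩
    exact ⟨m, r • x, h.smul r⟩

variable (N E' i' g) in
/-- The inclusion of `N` in the glued extension. -/
noncomputable def inl : N →ₗ[R] glued N E' i' g where
  toFun n := ⟨(i' ((1 : S) ⊗ₜ[R] n), fun i => LocalizedModule.mkLinearMap (Submonoid.powers (g i)) N n),
    ⟨0, fun _ => n, fun i j => by simp, fun i => by simp, fun i => by simp⟩⟩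
  map_add' a b := by
    ext
    · simp [TensorProduct.tmul_add]
    · simp
  map_smul' r a := by
    ext
    · simp only [TensorProduct.tmul_smul, map_smul_tower, RingHom.id_apply]
      rfl
    · simp

end Aux

/-- Stacks Tag 05EG: let R -> S be flat and I a finitely generated ideal with R/I -> S/IS bijective; let N be an R-module and M an I-power torsion R-module. For every short exact sequence 0 -> S ⊗_R N -> E' -> S ⊗_R M -> 0 of S-modules there are a short exact sequence 0 -> N -> E -> M -> 0 of R-modules and an R-linear map E -> E' making the two squares with the maps n ↦ 1 ⊗ n and m ↦ 1 ⊗ m commute. -/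
theorem result (R S : Type u) [CommRing R] [CommRing S] [Algebra R S] [Module.Flat R S] (I : Ideal R)
    (hI : I.FG) (hq : Function.Bijective (Ideal.quotientMap (I.map (algebraMap R S)) (algebraMap R S) Ideal.le_comap_map))
    (N M : Type u) [AddCommGroup N] [Module R N] [AddCommGroup M] [Module R M]
    (hM : ∀ m : M, ∃ n : ℕ, ∀ a ∈ I ^ n, a • m = 0)
    (E' : Type u) [AddCommGroup E'] [Module S E'] [Module R E'] [IsScalarTower R S E'] (i' : S ⊗[R] N →ₗ[S] E') (p' : E' →ₗ[S] S ⊗[R] M)
    (hi' : Function.Injective i') (hp' : Function.Surjective p') (hex' : LinearMap.range i' = LinearMap.ker p') :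
    ∃ (E : Type u) (_ : AddCommGroup E) (_ : Module R E) (i : N →ₗ[R] E) (p : E →ₗ[R] M) (g : E →ₗ[R] E'),
      Function.Injective i ∧ Function.Surjective p ∧ LinearMap.range i = LinearMap.ker p ∧
      (∀ n : N, g (i n) = i' ((1 : S) ⊗ₜ[R] n)) ∧ (∀ e : E, p' (g e) = (1 : S) ⊗ₜ[R] p e) := by
  classical
  obtain ⟨k, g0, hg0⟩ := Submodule.fg_iff_exists_fin_generating_family.mp hI
  let ι : Type u := ULift.{u} (Fin k)
  let g : ι → R := fun i => g0 i.down
  have hg : Ideal.span (Set.range g) = I := by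
    rw [← hg0]
    congr 1
    ext x
    simp [g, ι]
  have hpow : ∀ m : ℕ, ∃ l : ℕ, I ^ l ≤ Ideal.span (Set.range fun i => g i ^ m) := by
    intro m
    apply Ideal.exists_pow_le_of_le_radical_of_fg _ hI
    rw [← hg, Ideal.span_le]
    rintro _ ⟨i, rfl⟩
    exact ⟨m, Ideal.subset_span ⟨i, rfl⟩⟩
  have hbijM := Etalg.FormalGlue.mk_bijective_of_torsion (S := S) hq hM
  let eM : M ≃ₗ[R] S ⊗[R] M := LinearEquiv.ofBijective (TensorProduct.mk R S M 1) hbijM
  let p'R : E' →ₗ[R] S ⊗[R] M := p'.restrictScalars R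
  have hmk : ∀ x : S ⊗[R] M, (1 : S) ⊗ₜ[R] eM.symm x = x := fun x => eM.apply_symm_apply x
  let g1 : glued N E' i' g →ₗ[R] E' := (LinearMap.fst R _ _).comp (glued N E' i' g).subtype
  refine ⟨glued N E' i' g, inferInstance, inferInstance, inl N E' i' g,
    eM.symm.toLinearMap.comp (p'R.comp g1), g1, ?_, ?_, ?_, fun n => rfl, fun e => ?_⟩
  · -- injectivity
    rw [← LinearMap.ker_eq_bot, eq_bot_iff]
    intro n hn
    have hn' : inl N E' i' g n = 0 := hn
    have h1 : i' ((1 : S) ⊗ₜ[R] n) = 0 := congrArg (fun e : glued N E' i' g => e.1.1) hn'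
    have h2 : ∀ i, LocalizedModule.mkLinearMap (Submonoid.powers (g i)) N n = 0 := fun i =>
      congrFun (congrArg (fun e : glued N E' i' g => e.1.2) hn') i
    have h3 : ∀ i, ∃ l : ℕ, g i ^ l • n = 0 := by
      intro i
      obtain ⟨⟨_, l, rfl⟩, hl⟩ := (IsLocalizedModule.eq_zero_iff (Submonoid.powers (g i))
        (LocalizedModule.mkLinearMap (Submonoid.powers (g i)) N)).mp (h2 i)
      exact ⟨l, hl⟩
    choose l hl using h3
    obtain ⟨L, hL⟩ := hpow (∑ i, l i)
    refine Etalg.FormalGlue.eq_zero_of_torsion (S := S) hq n L (fun a ha => ?_)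
      (hi' (h1.trans (map_zero i').symm))
    refine Submodule.span_induction (p := fun a _ => a • n = 0) ?_ ?_ ?_ ?_ (hL ha)
    · rintro _ ⟨i, rfl⟩
      have : l i ≤ ∑ i, l i := Finset.single_le_sum (fun _ _ => Nat.zero_le _) (Finset.mem_univ i)
      obtain ⟨d, hd⟩ := Nat.exists_eq_add_of_le this
      simp only
      rw [hd, pow_add, mul_comm, mul_smul, hl i, smul_zero]
    · exact zero_smul _ _
    · intro a b _ _ h1 h2
      rw [add_smul, h1, h2, add_zero]
    · intro a b _ h1
      rw [smul_eq_mul, mul_smul, h1, smul_zero]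
  · -- surjectivity
    intro m
    obtain ⟨e', he'⟩ := hp' ((1 : S) ⊗ₜ[R] m)
    obtain ⟨n, hn⟩ := hM m
    have hker : ∀ i, ∃ y : S ⊗[R] N, i' y = g i ^ n • e' := by
      intro i
      have : g i ^ n • e' ∈ LinearMap.ker p' := by
        rw [LinearMap.mem_ker, ← algebraMap_smul S (g i ^ n) e', map_smul, he', algebraMap_smul,
          ← TensorProduct.tmul_smul, hn _ (Ideal.pow_mem_pow (by rw [← hg]; exact Ideal.subset_span ⟨i, rfl⟩) n),
          TensorProduct.tmul_zero]
      rw [← hex'] at this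
      exact this
    choose y hy using hker
    obtain ⟨L, hL⟩ := hpow n
    obtain ⟨x, q, hx, hxq⟩ := Etalg.FormalGlue.exists_compat_family (S := S) (I := I) hq.2
      (fun i => g i ^ n) L hL y (fun i j => by
        apply hi'
        rw [map_smul_tower, map_smul_tower, hy, hy, smul_comm])
    refine ⟨⟨(e' - i' q, fun i => IsLocalizedModule.mk' (LocalizedModule.mkLinearMap (Submonoid.powers (g i)) N) (x i)
      (⟨g i ^ n, n, rfl⟩ : Submonoid.powers (g i))), n, x, hx, fun i => ?_, fun i => ?_⟩, ?_⟩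
    · exact IsLocalizedModule.mk'_cancel' _ (x i) (⟨g i ^ n, n, rfl⟩ : Submonoid.powers (g i))
    · change g i ^ n • (e' - i' q) = _
      rw [smul_sub, ← hy i, hxq i, map_add, map_smul_tower, add_sub_cancel_right]
    · change eM.symm (p' (e' - i' q)) = m
      have h0 : p' (i' q) = 0 := by
        have : i' q ∈ LinearMap.ker p' := by rw [← hex']; exact ⟨q, rfl⟩
        exact this
      rw [map_sub, h0, sub_zero, he', LinearEquiv.symm_apply_eq]
      rfl
  · -- exactness
    ext e
    rw [LinearMap.mem_range, LinearMap.mem_ker]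
    constructor
    · rintro ⟨n, rfl⟩
      change eM.symm (p' (i' _)) = 0
      have h0 : p' (i' ((1 : S) ⊗ₜ[R] n)) = 0 := by
        have : i' ((1 : S) ⊗ₜ[R] n) ∈ LinearMap.ker p' := by rw [← hex']; exact ⟨_, rfl⟩
        exact this
      rw [h0, map_zero]
    · obtain ⟨⟨e', v⟩, m, x, h1, h2, h3⟩ := e
      intro he
      have he' : p' e' = 0 := by
        have : eM.symm (p' e') = 0 := he
        rwa [LinearEquiv.map_eq_zero_iff] at this
      obtain ⟨q, rfl⟩ : e' ∈ LinearMap.range i' := by rw [hex']; exact he'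
      obtain ⟨L, hL⟩ := hpow m
      obtain ⟨n, hn, hn'⟩ := Etalg.FormalGlue.exists_of_compat_family (S := S) (I := I) hq
        (fun i => g i ^ m) L hL x h1 q (fun i => by
          apply hi'
          rw [map_smul_tower]
          exact (h3 i).symm)
      refine ⟨n, ?_⟩
      ext
      · change i' ((1 : S) ⊗ₜ[R] n) = i' q
        rw [hn]
      · rename_i i
        change LocalizedModule.mkLinearMap (Submonoid.powers (g i)) N n = v i
        have h4 := h2 i
        rw [hn' i, map_smul] at h4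
        exact (IsLocalizedModule.smul_injective (LocalizedModule.mkLinearMap (Submonoid.powers (g i)) N)
          (⟨g i ^ m, m, rfl⟩ : Submonoid.powers (g i)) h4).symm
  · change p' e.1.1 = (1 : S) ⊗ₜ[R] eM.symm (p' e.1.1)
    rw [hmk]

end Groth.Agent.S2010
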