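import Groth.Statements.S2012
-- import your own Groth.Agent.* helpers here
import Mathlib.RingTheory.Ideal.Pure
import Mathlib.RingTheory.Nakayama
import Mathlib.RingTheory.IntegralClosure.IsIntegralClosure.Basic

set_option autoImplicit false
universe u
open EtAlg

namespace Groth.Agent.S2012

/-- Stacks Tag 0ELZ: let A be a ring and I an ideal contained in its Jacobson radical. Let B be an A-algebra which is flat, integral and of finite presentation over A and such that A/I -> B/IB is bijective. Then A -> B is bijective. -/
theorem result (A B : Type u) [CommRing A] [CommRing B] [Algebra A B]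
    (I : Ideal A) (hI : I ≤ (⊥ : Ideal A).jacobson) [Module.Flat A B] [Algebra.IsIntegral A B] [Algebra.FinitePresentation A B]
    (hq : Function.Bijective (Ideal.quotientMap (I.map (algebraMap A B)) (algebraMap A B) Ideal.le_comap_map)) :
    Function.Bijective (algebraMap A B) := by
  have hfin : Module.Finite A B := Algebra.IsIntegral.finite
  -- surjectivity by Nakayama
  have hsurj : Function.Surjective (algebraMap A B) := by
    have key : (⊤ : Submodule A B) ≤ LinearMap.range (Algebra.linearMap A B) := by
      refine Submodule.le_of_le_smul_of_le_jacobson_bot hfin.fg_top hI ?_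
      rintro b -
      obtain ⟨a, ha⟩ := hq.2 (Ideal.Quotient.mk _ b)
      obtain ⟨a, rfl⟩ := Ideal.Quotient.mk_surjective a
      rw [Ideal.quotientMap_mk, Ideal.Quotient.eq] at ha
      have hb : b = algebraMap A B a - (algebraMap A B a - b) := by ring
      rw [hb]
      refine Submodule.sub_mem _ (Submodule.mem_sup_left ⟨a, rfl⟩) (Submodule.mem_sup_right ?_)
      rw [Ideal.smul_top_eq_map]
      exact ha
    intro b
    obtain ⟨a, ha⟩ := key (Submodule.mem_top (x := b))
    exact ⟨a, ha⟩
  refine ⟨?_, hsurj⟩
  have hflat : Module.Flat A (A ⧸ RingHom.ker (algebraMap A B)) := by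
    have e : (A ⧸ RingHom.ker (algebraMap A B)) ≃ₐ[A] B :=
      Ideal.quotientKerAlgEquivOfSurjective (f := Algebra.ofId A B) hsurj
    exact Module.Flat.of_linearEquiv e.toLinearEquiv
  rw [injective_iff_map_eq_zero]
  intro x hx
  obtain ⟨y, hy, hxy⟩ := @Ideal.exists_eq_mul_of_pure A _ (RingHom.ker (algebraMap A B)) hflat x hx
  have hyI : y ∈ I := by
    rw [← Ideal.Quotient.eq_zero_iff_mem]
    apply hq.1
    rw [Ideal.quotientMap_mk, map_zero, (RingHom.mem_ker).1 hy, map_zero]
  have hu : IsUnit (1 - y) := by
    have := Ideal.mem_jacobson_bot.1 (hI hyI) (-1)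
    convert this using 1
    ring
  have h0 : x * (1 - y) = 0 := by rw [mul_sub, mul_one, ← hxy, sub_self]
  exact (hu.mul_left_eq_zero).1 h0

end Groth.Agent.S2012
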