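import Groth.Statements.S2013
import Groth.Agent.Etalg.ReducedHyp

set_option autoImplicit false
universe u
open EtAlg

namespace Groth.Agent.S2013

/-- Stacks Tag 0BWZ: let R be a catenary Noetherian local normal domain and J a nonzero radical ideal of R. Then J contains a nonzero element f such that R/fR is reduced. (The source does not say 'nonzero ideal' but its conclusion requires it.) -/
theorem result (R : Type u) [CommRing R] [IsDomain R] [IsNoetherianRing R]
    [IsLocalRing R] [IsIntegrallyClosed R] (hc : CAlg.IsCatenary R) (J : Ideal R) (hJ : J.IsRadical) (hJ0 : J ≠ ⊥) :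
    ∃ f ∈ J, f ≠ 0 ∧ IsReduced (R ⧸ Ideal.span {f}) := by
  classical
  by_cases hJt : J = ⊤
  · refine ⟨1, by rw [hJt]; trivial, one_ne_zero, ?_⟩
    have : Subsingleton (R ⧸ Ideal.span {(1 : R)}) := by
      rw [Ideal.Quotient.subsingleton_iff, Ideal.span_singleton_one]
    exact ⟨fun x _ => Subsingleton.elim _ _⟩
  have hJm : J ≤ IsLocalRing.maximalIdeal R := IsLocalRing.le_maximalIdeal hJt
  obtain ⟨f₀, hf₀J, hf₀⟩ := Submodule.exists_mem_ne_zero_of_ne_bot hJ0
  by_cases hm : (IsLocalRing.maximalIdeal R).height = 1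
  · have hprime : ∀ P : Ideal R, P ≠ ⊥ → P.IsPrime → P = IsLocalRing.maximalIdeal R := by
      intro P hP0 hP
      by_contra hne
      have hlt : P < IsLocalRing.maximalIdeal R :=
        lt_of_le_of_ne (IsLocalRing.le_maximalIdeal hP.ne_top) hne
      have h1 := Ideal.height_add_one_le_of_lt_of_isPrime hlt
      rw [hm] at h1
      have h2 : P.height = 0 := by
        have : P.height + 1 ≤ 0 + 1 := by simpa using h1
        exact le_antisymm ((ENat.add_le_add_iff_right (by simp)).mp this) bot_le
      rw [Ideal.height_eq_zero_iff_eq_bot] at h2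
      exact hP0 h2
    have hJeq : J = IsLocalRing.maximalIdeal R := by
      apply le_antisymm hJm
      rw [← hJ.radical, Ideal.radical_eq_sInf]
      refine le_sInf fun P hP => ?_
      have hP0 : P ≠ ⊥ := by
        rintro rfl
        exact hf₀ (hP.1 hf₀J)
      exact (hprime P hP0 hP.2).ge
    have hnf : ¬ IsField R := by
      intro h
      rw [IsLocalRing.isField_iff_maximalIdeal_eq] at h
      exact Ideal.ne_bot_of_height_eq_one hm h
    have hdvr : IsDiscreteValuationRing R := by
      have h4 : IsIntegrallyClosed R ∧ ∃! P : Ideal R, P ≠ ⊥ ∧ P.IsPrime :=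
        ⟨inferInstance, IsLocalRing.maximalIdeal R,
          ⟨Ideal.ne_bot_of_height_eq_one hm, inferInstance⟩, fun P hP => hprime P hP.1 hP.2⟩
      exact ((IsDiscreteValuationRing.TFAE R hnf).out 3 0).mp h4
    obtain ⟨ϖ, hϖ⟩ := IsDiscreteValuationRing.exists_irreducible R
    have h1 : IsLocalRing.maximalIdeal R = Ideal.span {ϖ} := hϖ.maximalIdeal_eq
    refine ⟨ϖ, ?_, hϖ.ne_zero, ?_⟩
    · rw [hJeq, h1]; exact Ideal.mem_span_singleton_self ϖ
    · rw [← h1, ← Ideal.isRadical_iff_quotient_reduced]
      exact Ideal.IsPrime.isRadical inferInstance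
  · obtain ⟨f, hf, hf0, hred⟩ := Etalg.ReducedHyp.exists_reduced R hc hm f₀ (hJm hf₀J) hf₀
    refine ⟨f, ?_, hf0, hred⟩
    have h1 : (Ideal.span {f₀}).radical ≤ J := by
      rw [hJ.radical_le_iff, Ideal.span_singleton_le_iff_mem]
      exact hf₀J
    exact h1 hf

end Groth.Agent.S2013
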