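import Groth.Statements.S2014
import Mathlib.RingTheory.Nakayama
import Mathlib.RingTheory.Ideal.MinimalPrime.Noetherian

set_option autoImplicit false
universe u
open EtAlg

namespace Groth.Agent.S2014

theorem aux {R : Type u} [CommRing R] [IsNoetherianRing R] [IsLocalRing R]
    (x : R) (hx : x ∈ IsLocalRing.maximalIdeal R) (hmin : ∀ p ∈ minimalPrimes R, x ∉ p)
    (s : Finset (Ideal R)) :
    (∀ p ∈ s, p ∈ minimalPrimes R) →
      (s.card : ℕ∞) ≤ Order.coheight (s.inf id ⊔ Ideal.span {x} : Ideal R) := by
  classical
  induction s using Finset.induction_on with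
  | empty => intro _; simp
  | insert p s hps ih =>
    intro hs
    have ih' := ih (fun q hq => hs q (Finset.mem_insert_of_mem hq))
    have hp : p ∈ minimalPrimes R := hs p (Finset.mem_insert_self _ _)
    have hpp : p.IsPrime := hp.1.1
    rw [Finset.card_insert_of_notMem hps, Finset.inf_insert]
    have hlt : ((id p ⊓ s.inf id) ⊔ Ideal.span {x} : Ideal R) < s.inf id ⊔ Ideal.span {x} := by
      refine lt_of_le_not_ge (sup_le_sup_right inf_le_right _) ?_
      intro hle
      have h1 : s.inf id ≤ (id p ⊓ s.inf id) ⊔ Ideal.span {x} • s.inf id := by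
        intro y hy
        have hy' := hle (Ideal.mem_sup_left hy)
        rw [Submodule.mem_sup] at hy'
        obtain ⟨z, hz, w, hw, rfl⟩ := hy'
        rw [Ideal.mem_span_singleton'] at hw
        obtain ⟨r, rfl⟩ := hw
        refine Submodule.add_mem_sup hz ?_
        have hr : r ∈ s.inf id := by
          rw [Submodule.mem_finsetInf]
          intro q hq
          have hqm : q ∈ minimalPrimes R := hs q (Finset.mem_insert_of_mem hq)
          have hqp : q.IsPrime := hqm.1.1
          have h2 : r * x ∈ s.inf id := by
            have := Submodule.sub_mem _ hy hz.2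
            simpa using this
          rw [Submodule.mem_finsetInf] at h2
          exact (hqp.mem_or_mem (h2 q hq)).resolve_right (hmin q hqm)
        rw [mul_comm]
        exact Submodule.smul_mem_smul (Ideal.mem_span_singleton_self x) hr
      have h2 : s.inf id ≤ id p ⊓ s.inf id := by
        refine Submodule.le_of_le_smul_of_le_jacobson_bot (I := Ideal.span {x})
          (IsNoetherian.noetherian _) ?_ h1
        rw [IsLocalRing.jacobson_eq_maximalIdeal ⊥ bot_ne_top]
        rwa [Ideal.span_singleton_le_iff_mem]
      have h3 : s.inf id ≤ p := h2.trans inf_le_left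
      rw [hpp.inf_le'] at h3
      obtain ⟨q, hq, hqp⟩ := h3
      have hqm : q ∈ minimalPrimes R := hs q (Finset.mem_insert_of_mem hq)
      have : q = p := le_antisymm hqp (hp.2 hqm.1 hqp)
      exact hps (this ▸ hq)
    calc ((s.card + 1 : ℕ) : ℕ∞) = (s.card : ℕ∞) + 1 := by push_cast; rfl
      _ ≤ Order.coheight (s.inf id ⊔ Ideal.span {x} : Ideal R) + 1 := by gcongr
      _ ≤ _ := Order.coheight_add_one_le hlt

/-- Stacks Tag 0BWT: let R be a Noetherian local ring of Krull dimension 1 and x an element of the maximal ideal contained in no minimal prime of R. Then the number of minimal prime ideals of R is at most the length of R/xR as an R-module. -/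
theorem result (R : Type u) [CommRing R] [IsNoetherianRing R] [IsLocalRing R]
    (hdim : ringKrullDim R = 1) (x : R) (hx : x ∈ IsLocalRing.maximalIdeal R) (hmin : ∀ p ∈ minimalPrimes R, x ∉ p) :
    (Set.ncard (minimalPrimes R) : ℕ∞) ≤ Module.length R (R ⧸ Ideal.span {x}) := by
  classical
  have hfin : (minimalPrimes R).Finite := minimalPrimes.finite_of_isNoetherianRing R
  have h := aux x hx hmin hfin.toFinset (fun p hp => hfin.mem_toFinset.mp hp)
  rw [Set.ncard_eq_toFinset_card _ hfin, Module.length_quotient]
  exact h.trans (Order.coheight_anti le_sup_right)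

end Groth.Agent.S2014
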