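import Groth.Statements.S2015
import Mathlib.LinearAlgebra.Quotient.Pi
import Mathlib.Algebra.Module.FinitePresentation

set_option autoImplicit false
universe u
open EtAlg

namespace Groth.Agent.S2015

/-- Elementary coordinate change making the vector `w` (with `w 0 = 1`) the zeroth basis vector. -/
def shear {R : Type u} [CommRing R] {n : ℕ} (w : Fin n → R) :
    (Fin (n + 1) → R) ≃ₗ[R] (Fin (n + 1) → R) where
  toFun x := Fin.cons (x 0) (fun l => x l.succ - x 0 * w l)
  invFun x := Fin.cons (x 0) (fun l => x l.succ + x 0 * w l)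
  map_add' x y := by
    ext l
    refine Fin.cases ?_ (fun l => ?_) l <;> simp <;> ring
  map_smul' r x := by
    ext l
    refine Fin.cases ?_ (fun l => ?_) l <;> simp <;> ring
  left_inv x := by
    ext l
    refine Fin.cases ?_ (fun l => ?_) l <;> simp
  right_inv x := by
    ext l
    refine Fin.cases ?_ (fun l => ?_) l <;> simp

/-- in a finite family of a ring with total divisibility some member divides all the others. -/
theorem exists_dvd_all {R : Type u} [CommRing R] (h : ∀ a b : R, a ∣ b ∨ b ∣ a)
    (s : Finset R) (hs : s.Nonempty) : ∃ a ∈ s, ∀ b ∈ s, a ∣ b := by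
  classical
  induction hs using Finset.Nonempty.cons_induction with
  | singleton a => exact ⟨a, by simp, by simp⟩
  | cons a s ha hs ih =>
    obtain ⟨c, hc, hcs⟩ := ih
    rcases h a c with hac | hca
    · refine ⟨a, by simp, ?_⟩
      intro b hb
      rcases Finset.mem_cons.mp hb with rfl | hb
      · exact dvd_rfl
      · exact hac.trans (hcs b hb)
    · refine ⟨c, by simp [hc], ?_⟩
      intro b hb
      rcases Finset.mem_cons.mp hb with rfl | hb
      · exact hca
      · exact hcs b hb

theorem diagonalize {R : Type u} [CommRing R] (h : ∀ a b : R, a ∣ b ∨ b ∣ a) (n : ℕ) :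
    ∀ K : Submodule R (Fin n → R), K.FG →
      ∃ (e : (Fin n → R) ≃ₗ[R] (Fin n → R)) (f : Fin n → R),
        K.map e.toLinearMap = Submodule.pi Set.univ (fun i => Ideal.span {f i}) := by
  classical
  induction n with
  | zero =>
    intro K _
    refine ⟨LinearEquiv.refl _ _, fun i => i.elim0, ?_⟩
    ext x
    have : x = 0 := Subsingleton.elim _ _
    subst this
    simp
  | succ n ih =>
    intro K hK
    obtain ⟨S, rfl⟩ := hK
    -- all coordinates of all generators
    by_cases hS : S = ∅
    · subst hS
      refine ⟨LinearEquiv.refl _ _, fun _ => 0, ?_⟩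
      ext x
      simp only [Finset.coe_empty, Submodule.span_empty, Submodule.map_bot, Submodule.mem_bot,
        Submodule.mem_pi, Set.mem_univ, forall_const, Ideal.mem_span_singleton, zero_dvd_iff]
      exact funext_iff
    have hSne : S.Nonempty := Finset.nonempty_iff_ne_empty.mpr hS
    let T : Finset R := (S ×ˢ (Finset.univ : Finset (Fin (n + 1)))).image (fun q => q.1 q.2)
    have hT : T.Nonempty := by
      obtain ⟨v, hv⟩ := hSne
      exact ⟨v 0, Finset.mem_image.mpr ⟨(v, 0), by simp [hv], rfl⟩⟩
    obtain ⟨a, ha, hadvd⟩ := exists_dvd_all h T hT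
    obtain ⟨⟨v, i⟩, hvi, hva⟩ := Finset.mem_image.mp ha
    simp only [Finset.mem_product, Finset.mem_univ, and_true] at hvi hva
    have hadvd' : ∀ u ∈ Submodule.span R (S : Set (Fin (n + 1) → R)), ∀ j, a ∣ u j := by
      intro u hu j
      have : Submodule.span R (S : Set (Fin (n + 1) → R)) ≤
          Submodule.comap (LinearMap.proj j) (Ideal.span {a} : Ideal R) := by
        rw [Submodule.span_le]
        intro u hu
        simp only [Submodule.comap_coe, LinearMap.coe_proj, Set.mem_preimage, Function.eval,
          SetLike.mem_coe, Ideal.mem_span_singleton]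
        exact hadvd _ (Finset.mem_image.mpr ⟨(u, j), by simpa using hu, rfl⟩)
      have h1 := this hu
      simpa [Ideal.mem_span_singleton] using h1
    -- swap i and 0
    let σ : (Fin (n + 1) → R) ≃ₗ[R] (Fin (n + 1) → R) :=
      LinearEquiv.funCongrLeft R R (Equiv.swap 0 i)
    have hσ : ∀ (u : Fin (n + 1) → R) j, σ u j = u (Equiv.swap 0 i j) := fun u j => rfl
    have hv : v ∈ Submodule.span R (S : Set (Fin (n + 1) → R)) := Submodule.subset_span hvi
    have hdiv : ∀ l : Fin n, ∃ c, σ v l.succ = a * c := fun l => hadvd' v hv _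
    choose w hw using hdiv
    have hv0 : σ v 0 = a := by rw [hσ]; simpa using hva
    let K1 : Submodule R (Fin (n + 1) → R) :=
      (Submodule.span R (S : Set (Fin (n + 1) → R))).map (σ.trans (shear w)).toLinearMap
    have hK1fg : K1.FG := Submodule.FG.map _ ⟨S, rfl⟩
    have hae : (Fin.cons a 0 : Fin (n + 1) → R) ∈ K1 := by
      refine ⟨v, hv, ?_⟩
      ext l
      refine Fin.cases ?_ (fun l => ?_) l
      · simp [shear, hv0]
      · simp [shear, hv0, hw]
    have hK1dvd : ∀ u ∈ K1, a ∣ u 0 := by
      rintro _ ⟨u, hu, rfl⟩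
      simp only [LinearEquiv.coe_coe, LinearEquiv.trans_apply, shear, LinearEquiv.coe_mk,
        LinearMap.coe_mk, AddHom.coe_mk, Fin.cons_zero, hσ]
      exact hadvd' u hu _
    let tl : (Fin (n + 1) → R) →ₗ[R] (Fin n → R) := LinearMap.funLeft R R Fin.succ
    have htl : ∀ u l, tl u l = u l.succ := fun u l => rfl
    let K' : Submodule R (Fin n → R) := K1.map tl
    obtain ⟨e', f', he'⟩ := ih K' (hK1fg.map _)
    have hmem' : ∀ y : Fin n → R, y ∈ K' ↔ (Fin.cons 0 y : Fin (n + 1) → R) ∈ K1 := by
      intro y
      constructor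
      · rintro ⟨u, hu, rfl⟩
        obtain ⟨c, hc⟩ := hK1dvd u hu
        have : (Fin.cons 0 (tl u) : Fin (n + 1) → R) = u - c • (Fin.cons a 0 : Fin (n + 1) → R) := by
          ext l
          refine Fin.cases ?_ (fun l => ?_) l
          · simp [hc, mul_comm]
          · simp [htl]
        rw [this]
        exact K1.sub_mem hu (K1.smul_mem _ hae)
      · intro hy
        refine ⟨_, hy, ?_⟩
        ext l
        simp [htl]
    have hmem : ∀ u : Fin (n + 1) → R, u ∈ K1 ↔ a ∣ u 0 ∧ tl u ∈ K' := by
      intro u
      refine ⟨fun hu => ⟨hK1dvd u hu, u, hu, rfl⟩, ?_⟩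
      rintro ⟨⟨c, hc⟩, hu⟩
      rw [hmem'] at hu
      have : u = (Fin.cons 0 (tl u) : Fin (n + 1) → R) + c • (Fin.cons a 0 : Fin (n + 1) → R) := by
        ext l
        refine Fin.cases ?_ (fun l => ?_) l
        · simp [hc, mul_comm]
        · simp [htl]
      rw [this]
      exact K1.add_mem hu (K1.smul_mem _ hae)
    -- extend e'
    let E : (Fin (n + 1) → R) ≃ₗ[R] (Fin (n + 1) → R) :=
      { toFun := fun x => Fin.cons (x 0) (e' (tl x))
        invFun := fun x => Fin.cons (x 0) (e'.symm (tl x))
        map_add' := by
          intro x y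
          ext l
          refine Fin.cases ?_ (fun l => ?_) l <;> simp
        map_smul' := by
          intro x y
          ext l
          refine Fin.cases ?_ (fun l => ?_) l <;> simp
        left_inv := by
          intro x
          ext l
          have h1 : tl (Fin.cons (x 0) (e' (tl x)) : Fin (n + 1) → R) = e' (tl x) := by
            ext l; simp [htl]
          refine Fin.cases ?_ (fun l => ?_) l
          · simp
          · simp only [Fin.cons_succ]
            rw [h1]; simp [htl]
        right_inv := by
          intro x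
          ext l
          have h1 : tl (Fin.cons (x 0) (e'.symm (tl x)) : Fin (n + 1) → R) = e'.symm (tl x) := by
            ext l; simp [htl]
          refine Fin.cases ?_ (fun l => ?_) l
          · simp
          · simp only [Fin.cons_succ]
            rw [h1]; simp [htl] }
    have hE0 : ∀ x, E x 0 = x 0 := fun x => rfl
    have hEs : ∀ x l, E x (Fin.succ l) = e' (tl x) l := fun x l => rfl
    refine ⟨(σ.trans (shear w)).trans E, Fin.cons a f', ?_⟩
    have hcomp : ((σ.trans (shear w)).trans E).toLinearMap =
        E.toLinearMap ∘ₗ (σ.trans (shear w)).toLinearMap := rfl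
    rw [hcomp, Submodule.map_comp]
    change Submodule.map E.toLinearMap K1 = _
    ext x
    have hx' : ∃ x', x = E x' := ⟨E.symm x, by simp⟩
    obtain ⟨x', rfl⟩ := hx'
    have hiff : E x' ∈ Submodule.map E.toLinearMap K1 ↔ x' ∈ K1 := by
      constructor
      · rintro ⟨y, hy, hyx⟩
        have : y = x' := E.injective hyx
        exact this ▸ hy
      · intro hx
        exact ⟨x', hx, rfl⟩
    rw [hiff, hmem]
    have h2 : tl x' ∈ K' ↔ e' (tl x') ∈ K'.map e'.toLinearMap := by
      constructor
      · intro hx
        exact ⟨_, hx, rfl⟩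
      · rintro ⟨y, hy, hyx⟩
        have : y = tl x' := e'.injective hyx
        exact this ▸ hy
    rw [h2, he']
    simp only [Submodule.mem_pi, Set.mem_univ, forall_const, Ideal.mem_span_singleton]
    rw [Fin.forall_fin_succ]
    simp [hE0, hEs]

/-- Stacks Tag 0ASP (Warfield): let R be a nonzero ring such that for all a, b in R either a divides b or b divides a. Then each finitely presented R-module decomposes as a direct sum of finitely many cyclic modules R/fR. -/
theorem result (R : Type u) [CommRing R] [Nontrivial R] (h : ∀ a b : R, a ∣ b ∨ b ∣ a)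
    (M : Type u) [AddCommGroup M] [Module R M] [Module.FinitePresentation R M] :
    ∃ (n : ℕ) (f : Fin n → R), Nonempty (M ≃ₗ[R] ((i : Fin n) → R ⧸ Ideal.span {f i})) := by
  obtain ⟨n, K, e, hK⟩ := Module.FinitePresentation.exists_fin R M
  obtain ⟨E, f, hE⟩ := diagonalize h n K hK
  have e1 := Submodule.Quotient.equiv K _ E hE
  have e2 := Submodule.quotientPi (fun i => (Ideal.span {f i} : Submodule R R))
  exact ⟨n, f, ⟨e.trans (e1.trans e2)⟩⟩

end Groth.Agent.S2015
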