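import Groth.Statements.S2016
import Groth.Agent.S2015
import Mathlib.RingTheory.TensorProduct.IsBaseChangePi
import Mathlib.Algebra.Module.LocalizedModule.Submodule
import Mathlib.RingTheory.LocalRing.Basic

set_option autoImplicit false
universe u
open EtAlg

namespace Groth.Agent.S2016

/-- `M` factors `s • id` through a finite product of cyclic modules -/
def Fac {R : Type u} [CommRing R] (M : Type u) [AddCommGroup M] [Module R M] (s : R) : Prop :=
  ∃ (n : ℕ) (f : Fin n → R) (φ : M →ₗ[R] ((i : Fin n) → R ⧸ Ideal.span {f i}))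
    (ψ : ((i : Fin n) → R ⧸ Ideal.span {f i}) →ₗ[R] M), ∀ x, ψ (φ x) = s • x

theorem Fac.of_fintype {R : Type u} [CommRing R] {M : Type u} [AddCommGroup M] [Module R M] {s : R}
    {ι : Type} [Fintype ι] (f : ι → R) (φ : M →ₗ[R] ((i : ι) → R ⧸ Ideal.span {f i}))
    (ψ : ((i : ι) → R ⧸ Ideal.span {f i}) →ₗ[R] M) (h : ∀ x, ψ (φ x) = s • x) : Fac M s := by
  let e := (Fintype.equivFin ι).symm
  let E : ((i : Fin (Fintype.card ι)) → R ⧸ Ideal.span {f (e i)}) ≃ₗ[R]
    ((i : ι) → R ⧸ Ideal.span {f i}) := LinearEquiv.piCongrLeft R (fun i => R ⧸ Ideal.span {f i}) e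
  exact ⟨_, fun i => f (e i), E.symm.toLinearMap ∘ₗ φ, ψ ∘ₗ E.toLinearMap, fun x => by simp [h]⟩

theorem Fac.add {R : Type u} [CommRing R] {M : Type u} [AddCommGroup M] [Module R M] {s t : R}
    (hs : Fac M s) (ht : Fac M t) : Fac M (s + t) := by
  obtain ⟨n, f, φ, ψ, h⟩ := hs
  obtain ⟨n', f', φ', ψ', h'⟩ := ht
  let F : Fin n ⊕ Fin n' → R := Sum.elim f f'
  let Φ : M →ₗ[R] ((i : Fin n ⊕ Fin n') → R ⧸ Ideal.span {F i}) :=
    LinearMap.pi (fun i => match i with
      | .inl i => LinearMap.proj i ∘ₗ φ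
      | .inr i => LinearMap.proj i ∘ₗ φ')
  let Ψ : ((i : Fin n ⊕ Fin n') → R ⧸ Ideal.span {F i}) →ₗ[R] M :=
    ψ ∘ₗ (LinearMap.pi (fun i => LinearMap.proj (R := R) (φ := fun i => R ⧸ Ideal.span {F i}) (Sum.inl i))) +
    ψ' ∘ₗ (LinearMap.pi (fun i => LinearMap.proj (R := R) (φ := fun i => R ⧸ Ideal.span {F i}) (Sum.inr i)))
  refine Fac.of_fintype F Φ Ψ (fun x => ?_)
  have h1 : Ψ (Φ x) = ψ (φ x) + ψ' (φ' x) := rfl
  rw [h1, h, h', add_smul]

theorem Fac.mul {R : Type u} [CommRing R] {M : Type u} [AddCommGroup M] [Module R M] (r : R) {s : R}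
    (hs : Fac M s) : Fac M (r * s) := by
  obtain ⟨n, f, φ, ψ, h⟩ := hs
  exact ⟨n, f, φ, r • ψ, fun x => by simp [h, mul_smul]⟩

theorem Fac.zero {R : Type u} [CommRing R] {M : Type u} [AddCommGroup M] [Module R M] :
    Fac (R := R) M 0 :=
  ⟨0, fun _ => 0, 0, 0, fun x => by simp⟩

/-- the ideal of `s` for which `s • id` factors -/
def facIdeal (R : Type u) [CommRing R] (M : Type u) [AddCommGroup M] [Module R M] : Ideal R where
  carrier := {s | Fac M s}
  add_mem' := Fac.add
  zero_mem' := Fac.zero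
  smul_mem' r _ h := Fac.mul r h

theorem exists_fac {R : Type u} [CommRing R]
    (m : Ideal R) [m.IsMaximal] (h : ∀ a b : Localization.AtPrime m, a ∣ b ∨ b ∣ a)
    (M : Type u) [AddCommGroup M] [Module R M] [Module.FinitePresentation R M] :
    ∃ s : R, s ∉ m ∧ Fac M s := by
  have : Module.FinitePresentation (Localization.AtPrime m) (LocalizedModule m.primeCompl M) := by
    infer_instance
  obtain ⟨n, g, ⟨e⟩⟩ := Groth.Agent.S2015.result (Localization.AtPrime m) h
    (LocalizedModule m.primeCompl M)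
  -- replace generators by elements of R
  have hg : ∀ i, ∃ r : R, Ideal.span {g i} = Ideal.span {algebraMap R (Localization.AtPrime m) r} := by
    intro i
    obtain ⟨⟨r, s⟩, hrs⟩ := IsLocalization.surj m.primeCompl (g i)
    refine ⟨r, ?_⟩
    have hu : IsUnit (algebraMap R (Localization.AtPrime m) s) := IsLocalization.map_units _ s
    rw [← hrs]
    obtain ⟨u, hu⟩ := hu
    rw [← hu]
    exact (Ideal.span_singleton_mul_right_unit u.isUnit _).symm
  choose r hr using hg
  let W := (i : Fin n) → R ⧸ Ideal.span {r i}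
  let W' := (i : Fin n) → (Localization.AtPrime m) ⧸ Ideal.span {g i}
  have hloc : ∀ i, Submodule.localized' (Localization.AtPrime m) m.primeCompl
      (Algebra.linearMap R (Localization.AtPrime m)) (Ideal.span {r i}) = Ideal.span {g i} := by
    intro i
    rw [Ideal.span, Submodule.localized'_span, hr]
    simp [Ideal.span]
  have hex : ∀ i, ∃ l : (R ⧸ Ideal.span {r i}) →ₗ[R] ((Localization.AtPrime m) ⧸ Ideal.span {g i}),
      IsLocalizedModule m.primeCompl l := by
    intro i
    rw [← hloc i]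
    exact ⟨Submodule.toLocalizedQuotient' (Localization.AtPrime m) m.primeCompl
      (Algebra.linearMap R (Localization.AtPrime m)) (Ideal.span {r i} : Submodule R R), inferInstance⟩
  choose l hl using hex
  let L : W →ₗ[R] W' := .pi fun i ↦ l i ∘ₗ .proj i
  have hL : IsLocalizedModule m.primeCompl L := inferInstance
  let j : M →ₗ[R] LocalizedModule m.primeCompl M := LocalizedModule.mkLinearMap m.primeCompl M
  have hWfp : Module.Finite R W := inferInstance
  have hWfp : Module.FinitePresentation R W := by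
    have : ∀ i, Module.FinitePresentation R (R ⧸ Ideal.span {r i}) := by
      intro i
      apply Module.finitePresentation_of_surjective (Submodule.mkQ _) (Submodule.mkQ_surjective _)
      rw [Submodule.ker_mkQ]
      exact ⟨{r i}, by simp [Ideal.span]⟩
    infer_instance
  let eR : LocalizedModule m.primeCompl M ≃ₗ[R] W' := e.restrictScalars R
  obtain ⟨φ, s, hφ⟩ := Module.FinitePresentation.exists_lift_of_isLocalizedModule m.primeCompl L
    (eR.toLinearMap ∘ₗ j)
  obtain ⟨ψ, t, hψ⟩ := Module.FinitePresentation.exists_lift_of_isLocalizedModule m.primeCompl j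
    (eR.symm.toLinearMap ∘ₗ L)
  have hcomp : j ∘ₗ (ψ ∘ₗ φ) = j ∘ₗ ((t * s) • LinearMap.id) := by
    ext x
    have h1 : j (ψ (φ x)) = t • eR.symm (L (φ x)) := LinearMap.congr_fun hψ (φ x)
    have h2 : L (φ x) = s • eR (j x) := LinearMap.congr_fun hφ x
    simp only [LinearMap.comp_apply, h1, h2, Submonoid.smul_def, Submonoid.coe_mul,
      LinearMap.smul_apply, LinearMap.id_apply, map_smul, LinearEquiv.symm_apply_apply, mul_smul]
  obtain ⟨v, hv⟩ := Module.Finite.exists_smul_of_comp_eq_of_isLocalizedModule m.primeCompl j _ _ hcomp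
  refine ⟨v * (t * s), (v * (t * s)).2, n, r, φ, (v : R) • ψ, fun x => ?_⟩
  have := LinearMap.congr_fun hv x
  simp only [Submonoid.smul_def, LinearMap.smul_apply, LinearMap.comp_apply, LinearMap.id_apply,
    Submonoid.coe_mul] at this ⊢
  rw [this, ← mul_smul]

/-- Stacks Tag 0ASQ (Warfield): let R be a ring such that for every maximal ideal m and all a, b in R_m, either a divides b or b divides a in R_m. Then each finitely presented R-module is a direct summand of a direct sum of finitely many cyclic modules R/fR. -/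
theorem result (R : Type u) [CommRing R]
    (h : ∀ (m : Ideal R) [m.IsMaximal], ∀ a b : Localization.AtPrime m, a ∣ b ∨ b ∣ a)
    (M : Type u) [AddCommGroup M] [Module R M] [Module.FinitePresentation R M] :
    ∃ (n : ℕ) (f : Fin n → R) (N : Type u) (_ : AddCommGroup N) (_ : Module R N),
      Nonempty ((M × N) ≃ₗ[R] ((i : Fin n) → R ⧸ Ideal.span {f i})) := by
  have h1 : facIdeal R M = ⊤ := by
    by_contra hne
    obtain ⟨m, hm, hle⟩ := Ideal.exists_le_maximal _ hne
    obtain ⟨s, hs, hf⟩ := exists_fac m (h m) M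
    exact hs (hle hf)
  have h2 : Fac (R := R) M 1 := by
    have : (1 : R) ∈ facIdeal R M := by rw [h1]; trivial
    exact this
  obtain ⟨n, f, φ, ψ, hφψ⟩ := h2
  simp only [one_smul] at hφψ
  refine ⟨n, f, LinearMap.ker ψ, inferInstance, inferInstance, ⟨?_⟩⟩
  refine LinearEquiv.ofLinearMap (LinearMap.coprod φ (LinearMap.ker ψ).subtype)
    (LinearMap.prod ψ ((LinearMap.id - φ ∘ₗ ψ).codRestrict (LinearMap.ker ψ) (fun w => by simp [hφψ])))
    ?_ ?_
  · ext w
    simp
  · apply LinearMap.ext
    rintro ⟨x, k, hk⟩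
    have hk' : ψ k = 0 := hk
    refine Prod.ext ?_ (Subtype.ext ?_)
    · simp [hφψ, hk']
    · simp [hφψ, hk']

end Groth.Agent.S2016
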