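import Groth.Statements.S2018
-- import your own Groth.Agent.* helpers here

set_option autoImplicit false
universe u
open EtAlg

namespace Groth.Agent.S2018

/-- Stacks Tag 0E1S: let g : A' -> A be a surjective ring map and f : B -> A an integral ring map. Then the projection from the fibre product B ×_A A' (the equalizer of f ∘ pr₁ and g ∘ pr₂ in B × A') to A' is integral. -/
theorem result (A A' B : Type u) [CommRing A] [CommRing A'] [CommRing B] (g : A' →+* A)
    (hg : Function.Surjective g) (f : B →+* A) (hf : f.IsIntegral) :
    ((RingHom.snd B A').comp ((f.comp (RingHom.fst B A')).eqLocus (g.comp (RingHom.snd B A'))).subtype).IsIntegral := by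
  classical
  set F := (f.comp (RingHom.fst B A')).eqLocus (g.comp (RingHom.snd B A')) with hF
  set π : F →+* A' := (RingHom.snd B A').comp F.subtype with hπ
  set ρ : F →+* B := (RingHom.fst B A').comp F.subtype with hρ
  intro a'
  obtain ⟨P, hP, hP0⟩ := hf (g a')
  have hρs : Function.Surjective ρ := by
    intro b
    obtain ⟨x, hx⟩ := hg (f b)
    exact ⟨⟨(b, x), hx.symm⟩, rfl⟩
  rcases subsingleton_or_nontrivial F with hs | hn
  · have : Subsingleton A' := by
      have h10 : (1 : A') = 0 := by
        rw [← map_one π, ← map_zero π, Subsingleton.elim (1 : F) 0]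
      exact subsingleton_of_zero_eq_one h10.symm
    exact ⟨1, Polynomial.monic_one, Subsingleton.elim _ _⟩
  · have hPl : P ∈ Polynomial.lifts ρ := by
      rw [Polynomial.lifts_iff_coeff_lifts]
      intro n
      exact hρs _
    obtain ⟨P', hP', -, hPm⟩ := Polynomial.lifts_and_natDegree_eq_and_monic hPl hP
    set c : A' := Polynomial.eval₂ π a' P' with hc
    have hcomp : g.comp π = f.comp ρ := by
      ext x
      exact x.2.symm
    have hgc : g c = 0 := by
      rw [hc, Polynomial.hom_eval₂, hcomp, ← Polynomial.eval₂_map, hP', hP0]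
    let z : F := ⟨(0, a' * c), by
      change f 0 = g (a' * c)
      rw [map_zero, map_mul, hgc, mul_zero]⟩
    refine ⟨Polynomial.X * P' - Polynomial.C z, ?_, ?_⟩
    · apply (Polynomial.monic_X.mul hPm).sub_of_left
      rw [Polynomial.degree_mul' (by simp [hPm.leadingCoeff]), Polynomial.degree_X,
        Polynomial.degree_eq_natDegree hPm.ne_zero]
      refine lt_of_le_of_lt Polynomial.degree_C_le ?_
      have : (0 : WithBot ℕ) < ((1 + P'.natDegree : ℕ) : WithBot ℕ) := by
        exact_mod_cast Nat.lt_of_lt_of_le Nat.zero_lt_one (Nat.le_add_right 1 _)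
      simpa using this
    · rw [Polynomial.eval₂_sub, Polynomial.eval₂_mul, Polynomial.eval₂_X, Polynomial.eval₂_C]
      change a' * c - π z = 0
      have : π z = a' * c := rfl
      rw [this, sub_self]

end Groth.Agent.S2018
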