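import Groth.Statements.S2017
-- import your own Groth.Agent.* helpers here
import Groth.Agent.S2018
import Mathlib.RingTheory.Adjoin.Tower
import Mathlib.RingTheory.Finiteness.Prod

set_option autoImplicit false
universe u
open EtAlg

namespace Groth.Agent.S2017

/-- Stacks Tag 00IT: let R be a Noetherian ring, A, B, C R-algebras of finite type, f : A -> B a surjective R-algebra map and g : C -> B an R-algebra map making B a finite C-module. Then the fibre product A ×_B C (the equalizer of f ∘ pr₁ and g ∘ pr₂ in A × C) is an R-algebra of finite type. -/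
theorem result (R A B C : Type u) [CommRing R] [IsNoetherianRing R] [CommRing A] [CommRing B]
    [CommRing C] [Algebra R A] [Algebra R B] [Algebra R C] [Algebra.FiniteType R A] [Algebra.FiniteType R B]
    [Algebra.FiniteType R C] (f : A →ₐ[R] B) (hf : Function.Surjective f) (g : C →ₐ[R] B)
    (hg : (g.toRingHom).Finite) :
    Algebra.FiniteType R ↥(AlgHom.equalizer (f.comp (AlgHom.fst R A C)) (g.comp (AlgHom.snd R A C))) := by
  set D := AlgHom.equalizer (f.comp (AlgHom.fst R A C)) (g.comp (AlgHom.snd R A C)) with hD
  -- the two projections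
  let p1 : D →ₐ[R] A := (AlgHom.fst R A C).comp D.val
  let p2 : D →ₐ[R] C := (AlgHom.snd R A C).comp D.val
  have hp2 : Function.Surjective p2 := by
    intro c
    obtain ⟨a, ha⟩ := hf (g c)
    exact ⟨⟨(a, c), by simpa [hD, AlgHom.mem_equalizer] using ha⟩, rfl⟩
  have hp1 : p1.toRingHom.IsIntegral := by
    intro a
    have h := Groth.Agent.S2018.result B A C f.toRingHom hf g.toRingHom hg.to_isIntegral a
    obtain ⟨q, hqm, hq⟩ := h
    let φ : ((g.toRingHom.comp (RingHom.fst C A)).eqLocus (f.toRingHom.comp (RingHom.snd C A))) →+* D :=
      { toFun := fun x => ⟨(x.1.2, x.1.1), by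
          have := x.2
          simp only [RingHom.mem_eqLocus] at this
          simpa [hD, AlgHom.mem_equalizer] using this.symm⟩
        map_one' := rfl
        map_mul' := fun _ _ => rfl
        map_zero' := rfl
        map_add' := fun _ _ => rfl }
    refine ⟨q.map φ, hqm.map φ, ?_⟩
    rw [Polynomial.eval₂_map]
    exact hq
  have hfin1 : p1.toRingHom.Finite := by
    refine RingHom.Finite.of_isIntegral_of_finiteType hp1 ?_
    have : (p1.toRingHom.comp (algebraMap R D)).FiniteType := by
      have h1 : p1.toRingHom.comp (algebraMap R D) = algebraMap R A := by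
        ext r; rfl
      rw [h1]
      exact (RingHom.finiteType_algebraMap (A := R) (B := A)).2 inferInstance
    exact RingHom.FiniteType.of_comp_finiteType this
  have hfin2 : p2.toRingHom.Finite := RingHom.Finite.of_surjective _ hp2
  let _ := p1.toRingHom.toAlgebra
  let _ := p2.toRingHom.toAlgebra
  have : Module.Finite D A := hfin1
  have : Module.Finite D C := hfin2
  have : Module.Finite D (A × C) := @Module.Finite.prod D A C _ _ _ _ _ hfin1 hfin2
  refine ⟨fg_of_fg_of_fg R D (A × C) ?_ ?_ ?_⟩
  · exact (inferInstance : Algebra.FiniteType R (A × C)).1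
  · exact Module.Finite.fg_top
  · intro x y h
    exact Subtype.ext h

end Groth.Agent.S2017
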