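import Groth.Statements.S2020
import Groth.Agent.Etalg.Milnor2

set_option autoImplicit false
universe u
open TensorProduct
open EtAlg

namespace Groth.Agent.S2020

/-- Stacks Tag 0D2I (1),(2): let B' = B ×_A A' be a fibre product of rings with A' -> A surjective. (1) If N is flat over B, M' is flat over A' and φ : A ⊗_B N ≅ A ⊗_{A'} M', then the glued module N ×_φ M' is flat over B'. (2) If L' is a flat B'-module, then L' -> (B ⊗_{B'} L') × (A' ⊗_{B'} L') is injective with image the pairs having the same image in A ⊗_{B'} L'. -/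
theorem result (B' B A' A : Type u) [CommRing B'] [CommRing B] [CommRing A'] [CommRing A]
    [Algebra B' B] [Algebra B' A'] [Algebra B A] [Algebra A' A] [Algebra B' A] [IsScalarTower B' B A] [IsScalarTower B' A' A]
    (hsq : EtMil.IsFibreSquare B' B A' A) :
    (∀ (N M' : Type u) [AddCommGroup N] [Module B N] [Module B' N] [IsScalarTower B' B N]
    [AddCommGroup M'] [Module A' M'] [Module B' M'] [IsScalarTower B' A' M'] (φ : A ⊗[B] N ≃ₗ[A] A ⊗[A'] M'), Module.Flat B N → Module.Flat A' M' → Module.Flat B' ↥(EtMil.glue B' φ)) ∧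
    (∀ (L' : Type u) [AddCommGroup L'] [Module B' L'], Module.Flat B' L' →
      Function.Injective (fun l : L' => (((1 : B) ⊗ₜ[B'] l : B ⊗[B'] L'), ((1 : A') ⊗ₜ[B'] l : A' ⊗[B'] L'))) ∧
      ∀ (x : B ⊗[B'] L') (y : A' ⊗[B'] L'),
        (IsScalarTower.toAlgHom B' B A).toLinearMap.rTensor L' x = (IsScalarTower.toAlgHom B' A' A).toLinearMap.rTensor L' y →
          ∃ l : L', (1 : B) ⊗ₜ[B'] l = x ∧ (1 : A') ⊗ₜ[B'] l = y) := by
  refine ⟨?_, ?_⟩
  · intro N M' _ _ _ _ _ _ _ _ φ hN hM'
    exact Groth.Agent.Etalg.Milnor2.flat_glue hsq φ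
  · intro L' _ _ hL
    let d0 : B' →ₗ[B'] B × A' := (Algebra.linearMap B' B).prod (Algebra.linearMap B' A')
    let d1 : B × A' →ₗ[B'] A :=
      (IsScalarTower.toAlgHom B' B A).toLinearMap.comp (LinearMap.fst B' B A') -
        (IsScalarTower.toAlgHom B' A' A).toLinearMap.comp (LinearMap.snd B' B A')
    have hinj : Function.Injective d0 := by
      intro x y hxy
      apply Groth.Agent.Etalg.Milnor.ext_of hsq
      · exact congrArg Prod.fst hxy
      · exact congrArg Prod.snd hxy
    have hex : Function.Exact d0 d1 := by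
      rintro ⟨b, a'⟩
      constructor
      · intro h
        have h' : algebraMap B A b = algebraMap A' A a' := by
          have : algebraMap B A b - algebraMap A' A a' = 0 := h
          exact sub_eq_zero.mp this
        obtain ⟨b', h1, h2⟩ := Groth.Agent.Etalg.Milnor.exists_mem hsq b a' h'
        exact ⟨b', Prod.ext h1 h2⟩
      · rintro ⟨b', h⟩
        have h1 : algebraMap B' B b' = b := congrArg Prod.fst h
        have h2 : algebraMap B' A' b' = a' := congrArg Prod.snd h
        have : algebraMap B A b - algebraMap A' A a' = 0 := by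
          rw [← h1, ← h2, Groth.Agent.Etalg.Milnor.compat (A' := A'), sub_self]
        exact this
    have hinj' := Module.Flat.rTensor_preserves_injective_linearMap (M := L') d0 hinj
    have hex' := Module.Flat.rTensor_exact L' hex
    let e := TensorProduct.prodLeft B' B' B A' L'
    have he0 : ∀ l : L', e (d0.rTensor L' ((1 : B') ⊗ₜ[B'] l)) =
        (((1 : B) ⊗ₜ[B'] l : B ⊗[B'] L'), ((1 : A') ⊗ₜ[B'] l : A' ⊗[B'] L')) := by
      intro l
      simp [e, d0]
    have he1 : ∀ t : (B × A') ⊗[B'] L', d1.rTensor L' t =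
        (IsScalarTower.toAlgHom B' B A).toLinearMap.rTensor L' (e t).1 -
          (IsScalarTower.toAlgHom B' A' A).toLinearMap.rTensor L' (e t).2 := by
      intro t
      induction t using TensorProduct.induction_on with
      | zero => simp
      | tmul x l =>
        obtain ⟨b, a'⟩ := x
        simp [e, d1]
      | add x y hx hy =>
        rw [map_add, map_add, hx, hy]
        simp only [Prod.fst_add, Prod.snd_add, map_add]
        abel
    constructor
    · intro l l' hll
      have h1 : e (d0.rTensor L' ((1 : B') ⊗ₜ[B'] l)) = e (d0.rTensor L' ((1 : B') ⊗ₜ[B'] l')) := by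
        rw [he0, he0]; exact hll
      have h2 := hinj' (e.injective h1)
      have h3 := congrArg (TensorProduct.lid B' L') h2
      simpa using h3
    · intro x y hxy
      have h1 : d1.rTensor L' (e.symm (x, y)) = 0 := by
        rw [he1, LinearEquiv.apply_symm_apply, hxy, sub_self]
      obtain ⟨s, hs⟩ := (hex' _).mp h1
      obtain ⟨l, rfl⟩ : ∃ l : L', (1 : B') ⊗ₜ[B'] l = s :=
        ⟨TensorProduct.lid B' L' s, by
          apply (TensorProduct.lid B' L').injective
          simp⟩
      have h2 := congrArg e hs
      rw [he0, LinearEquiv.apply_symm_apply] at h2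
      exact ⟨l, congrArg Prod.fst h2, congrArg Prod.snd h2⟩

end Groth.Agent.S2020
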