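import Groth.Statements.S2030
import Groth.Agent.Smoothlim.Marked
import Mathlib.RingTheory.Smooth.Basic

set_option autoImplicit false
universe u
open Smoothing

namespace Groth.Agent.S2030

/-- Stacks Tag 07EZ, part (d): if `a` is strictly standard in the finitely presented `R`-algebra `A`, then the
localization `A_a` is smooth over `R` and its module of Kaehler differentials over `R` is stably free
(free after adding a finite free module). -/
theorem result {R A : Type u} [CommRing R] [CommRing A]
    [Algebra R A] (a : A) (ha : Smoothing.IsStrictlyStandard R A a) :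
    Algebra.Smooth R (Localization.Away a) ∧
      ∃ p q : ℕ, Nonempty ((Ω[Localization.Away a⁄R] × (Fin p → Localization.Away a)) ≃ₗ[Localization.Away a]
        (Fin q → Localization.Away a)) := by
  obtain ⟨P, h1, h2⟩ := ha
  obtain ⟨e, l, -, hl⟩ := Groth.Agent.Smoothlim.Marked.exists_of_strictlyStandard
    (T := Localization.Away a) P a h1 h2
  have hfs : Algebra.FormallySmooth R (Localization.Away a) :=
    (Groth.Agent.Smoothlim.LocConormal.formallySmooth_iff_exists
      (Groth.Agent.Smoothlim.Marked.gens P) (Submonoid.powers a)).mpr ⟨l, hl⟩
  have hfp : Algebra.FinitePresentation R A := by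
    refine Algebra.FinitePresentation.of_surjective P.surj ?_
    have : RingHom.ker P.hom.toRingHom = Ideal.span (Set.range P.rel) := P.ker_eq
    exact ⟨(Set.finite_range P.rel).toFinset, by rw [Set.Finite.coe_toFinset]; exact this.symm⟩
  have hfp' : Algebra.FinitePresentation A (Localization.Away a) :=
    IsLocalization.Away.finitePresentation a
  have hfp'' : Algebra.FinitePresentation R (Localization.Away a) :=
    Algebra.FinitePresentation.trans R A (Localization.Away a)
  refine ⟨{ }, P.c, P.n, ?_⟩
  have : Algebra.FormallyEtale A (Localization.Away a) :=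
    Algebra.FormallyEtale.of_isLocalization (Submonoid.powers a)
  obtain ⟨e'⟩ := Groth.Agent.Smoothlim.LocConormal.nonempty_equiv_prod
    (T := Localization.Away a) (Groth.Agent.Smoothlim.Marked.gens P) l hl
  have e1 : (Ω[Localization.Away a⁄R] × (Fin P.c → Localization.Away a)) ≃ₗ[Localization.Away a]
      ((Fin P.c → Localization.Away a) × Ω[Localization.Away a⁄R]) :=
    LinearEquiv.prodComm (Localization.Away a) _ _
  have e2 := LinearEquiv.prodCongr e
    (LinearEquiv.refl (Localization.Away a) Ω[Localization.Away a⁄R])
  have e3 := (Groth.Agent.Smoothlim.LocConormal.basisT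
    (Groth.Agent.Smoothlim.Marked.gens P) (Localization.Away a)).equivFun
  exact ⟨(e1.trans e2).trans (e'.symm.trans e3)⟩

end Groth.Agent.S2030
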