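import Groth.Statements.S2026
import Groth.Agent.Smoothlim.MarkedPerm
import Groth.Agent.Smoothlim.SingIdeal
import Groth.Agent.S2108
import Groth.Agent.S2030

set_option autoImplicit false
universe u
open Smoothing

namespace Groth.Agent.S2026

/-- Stacks Tag 07CA: for a finitely presented `R`-algebra `A`, the singular ideal (functions vanishing on the
non-smooth locus) coincides with the radical of the ideal spanned by all strictly standard elements, and
equally with the radical of the ideal spanned by all elementary standard elements. -/
theorem result {R A : Type u} [CommRing R] [CommRing A]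
    [Algebra R A] [Algebra.FinitePresentation R A] :
    Smoothing.singularIdeal R A = (Ideal.span {a : A | Smoothing.IsStrictlyStandard R A a}).radical ∧
      Smoothing.singularIdeal R A =
        (Ideal.span {a : A | Smoothing.IsElementaryStandard R A a}).radical := by
  classical
  obtain ⟨n, φ, hφ, hfg⟩ := Algebra.FinitePresentation.out (R := R) (A := A)
  obtain ⟨s, hs⟩ := hfg
  let m := s.card
  let f : Fin m → MvPolynomial (Fin n) R := fun i => (s.equivFin.symm i : MvPolynomial (Fin n) R)
  have hf : Set.range f = (s : Set (MvPolynomial (Fin n) R)) := by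
    ext x
    constructor
    · rintro ⟨i, rfl⟩
      exact (s.equivFin.symm i).2
    · intro hx
      exact ⟨s.equivFin ⟨x, hx⟩, by simp [f]⟩
  have hker : RingHom.ker φ.toRingHom = Ideal.span (Set.range f) := by rw [hf, ← hs]
  have h1 : Smoothing.singularIdeal R A ≤
      (Ideal.span {a : A | Smoothing.IsElementaryStandard R A a}).radical := by
    intro x hx
    rw [Ideal.radical_eq_sInf, Ideal.mem_sInf]
    rintro q ⟨hq, hqp⟩
    by_contra hxq
    have hsm : Algebra.IsSmoothAt R q := (Smoothlim.SingIdeal.mem_iff_forall x).mp hx q hxq
    obtain ⟨a, haq, c, rows, cols, a', ha, hk⟩ := S2108.result f φ hφ hker q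
    exact haq (hq (Ideal.subset_span
      (Smoothlim.MarkedPerm.isElementaryStandard_of_rows_cols f φ hφ hker rows cols a a' ha hk)))
  have h2 : (Ideal.span {a : A | Smoothing.IsElementaryStandard R A a}).radical ≤
      (Ideal.span {a : A | Smoothing.IsStrictlyStandard R A a}).radical :=
    Ideal.radical_mono (Ideal.span_mono fun a ha =>
      Smoothlim.MarkedPerm.isStrictlyStandard_of_isElementaryStandard ha)
  have h3 : (Ideal.span {a : A | Smoothing.IsStrictlyStandard R A a}).radical ≤
      Smoothing.singularIdeal R A := by
    rw [(Smoothlim.SingIdeal.isRadical R A).radical_le_iff, Ideal.span_le]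
    intro a ha
    exact (Smoothlim.SingIdeal.mem_iff_smooth a).mpr (S2030.result a ha).1
  exact ⟨le_antisymm (h1.trans h2) h3, le_antisymm h1 (h2.trans h3)⟩

end Groth.Agent.S2026
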