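import Groth.Statements.S2040
import Groth.Agent.CalgB.FlatLiftFS

set_option autoImplicit false
universe u
open CAlg

namespace Groth.Agent.S2040

/-- Stacks Tag 07NR: for a complete Noetherian local ring `A` with residue field `k`, and a complete Noetherian local `k`-algebra
`B` which is formally smooth over `k` for the adic topology of its maximal ideal, there is a
Noetherian complete local ring `C` with a local homomorphism `A → C`, formally smooth for the adic topology
of the maximal ideal of `C`, whose special fibre `C ⊗ k` is isomorphic to `B` over `k`. -/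
theorem result {A B : Type u} [CommRing A] [IsLocalRing A]
    [IsNoetherianRing A] [IsAdicComplete (IsLocalRing.maximalIdeal A) A] [CommRing B] [IsLocalRing B]
    [IsNoetherianRing B] [IsAdicComplete (IsLocalRing.maximalIdeal B) B]
    [Algebra (IsLocalRing.maximalIdeal A).ResidueField B]
    (hB : CAlgX.IsAdicFormallySmooth (IsLocalRing.maximalIdeal A).ResidueField B (IsLocalRing.maximalIdeal B)) :
    ∃ (C : Type u) (_ : CommRing C) (_ : IsLocalRing C) (_ : Algebra A C),
      IsNoetherianRing C ∧ IsAdicComplete (IsLocalRing.maximalIdeal C) C ∧ IsLocalHom (algebraMap A C) ∧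
        CAlgX.IsAdicFormallySmooth A C (IsLocalRing.maximalIdeal C) ∧
        Nonempty ((IsLocalRing.maximalIdeal A).Fiber C ≃ₐ[(IsLocalRing.maximalIdeal A).ResidueField] B) := by
  let _ : Algebra A B := Algebra.compHom B (algebraMap A (IsLocalRing.maximalIdeal A).ResidueField)
  have htow : IsScalarTower A (IsLocalRing.maximalIdeal A).ResidueField B :=
    IsScalarTower.of_algebraMap_eq fun _ => rfl
  have hk := Ideal.algebraMap_residueField_surjective (IsLocalRing.maximalIdeal A)
  obtain ⟨C, h1, h2, h3, π, h4, h5, h6, h7, h8, h9, h10⟩ :=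
    Groth.Agent.CalgB.FlatLiftFS.exists_lift (A := A) (B := B)
      (k := (IsLocalRing.maximalIdeal A).ResidueField) hk hB
  exact ⟨C, h1, h2, h3, h4, h5, h6, h8,
    Groth.Agent.CalgB.FlatLiftFS.exists_fiber_equiv hk (IsLocalRing.maximalIdeal A)
      (fun a ha => Ideal.algebraMap_residueField_eq_zero.mpr ha) π h9 h10.le⟩

end Groth.Agent.S2040
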