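import Groth.Statements.S2050
import Groth.Agent.S0387
import Mathlib.RingTheory.LocalProperties.FinitePresentation
import Mathlib.RingTheory.Flat.Localization
import Mathlib.LinearAlgebra.TensorProduct.Pi
import Mathlib.RingTheory.Polynomial.Basic
import Mathlib.RingTheory.FinitePresentation

set_option autoImplicit false
universe u
open CAlg

namespace Groth.Agent.S2050

/-- If the localization of a submodule is finitely generated then a finitely generated submodule has the
same localization. -/
theorem exists_fg_le_of_localized_fg {S F : Type*} [CommRing S] [AddCommGroup F] [Module S F]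
    (T : Submonoid S) (K : Submodule S F) (h : (K.localized T).FG) :
    ∃ K' : Submodule S F, K' ≤ K ∧ K'.FG ∧ ∀ x ∈ K, ∃ t ∈ T, t • x ∈ K' := by
  classical
  obtain ⟨s, hs⟩ := h
  have h1 : ∀ g : LocalizedModule T F, ∃ m : F, g ∈ s → (m ∈ K ∧ ∃ t : T, IsLocalizedModule.mk' (LocalizedModule.mkLinearMap T F) m t = g) := by
    intro g
    by_cases hg : g ∈ s
    · have : g ∈ K.localized T := by rw [← hs]; exact Submodule.subset_span hg
      obtain ⟨m, hm, t, ht⟩ := (Submodule.mem_localized' _ _ _ _ _).mp this
      exact ⟨m, fun _ => ⟨hm, t, ht⟩⟩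
    · exact ⟨0, fun h => absurd h hg⟩
  choose m hm using h1
  refine ⟨Submodule.span S (s.image m), ?_, ⟨_, rfl⟩, ?_⟩
  · rw [Submodule.span_le]
    intro x hx
    simp only [Finset.coe_image, Set.mem_image, Finset.mem_coe] at hx
    obtain ⟨g, hg, rfl⟩ := hx
    exact (hm g hg).1
  · have h2 : K.localized T ≤ (Submodule.span S (s.image m : Set F)).localized T := by
      rw [← hs, Submodule.span_le]
      intro g hg
      obtain ⟨-, t, ht⟩ := hm g hg
      rw [SetLike.mem_coe, Submodule.mem_localized']
      exact ⟨m g, Submodule.subset_span (by simpa using ⟨g, hg, rfl⟩), t, ht⟩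
    intro x hx
    have h3 : LocalizedModule.mkLinearMap T F x ∈ K.localized T :=
      (Submodule.mem_localized' _ _ _ _ _).mpr ⟨x, hx, 1, by simp⟩
    obtain ⟨y, hy, t, ht⟩ := (Submodule.mem_localized' _ _ _ _ _).mp (h2 h3)
    rw [IsLocalizedModule.mk'_eq_iff, ← LinearMap.map_smul_of_tower, IsLocalizedModule.eq_iff_exists T] at ht
    obtain ⟨c, hc⟩ := ht
    refine ⟨c * t, (c * t).2, ?_⟩
    have : ((c * t : T) : S) • x = c • y := by
      rw [hc]
      simp only [Submonoid.smul_def, smul_smul, Submonoid.coe_mul]
    rw [Submonoid.coe_mul] at this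
    rw [this]
    exact Submodule.smul_mem _ _ hy

/-- Over a flat module, elements `s j` with trivial common annihilator have trivial common annihilator. -/
theorem eq_zero_of_flat {R Y : Type*} [CommRing R] [AddCommGroup Y] [Module R Y] [Module.Flat R Y]
    {ι : Type*} [Fintype ι] (s : ι → R) (hs : ∀ r : R, (∀ j, s j * r = 0) → r = 0) (y : Y)
    (hy : ∀ j, s j • y = 0) : y = 0 := by
  classical
  let φ : R →ₗ[R] (ι → R) := LinearMap.pi fun j => (s j) • LinearMap.id
  have hφ : Function.Injective φ := by
    rw [injective_iff_map_eq_zero]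
    intro r hr
    exact hs r fun j => by simpa [φ] using congrFun hr j
  have h1 := Module.Flat.lTensor_preserves_injective_linearMap (M := Y) φ hφ
  have h2 : LinearMap.lTensor Y φ (y ⊗ₜ 1) = 0 := by
    apply (TensorProduct.piScalarRight R R Y ι).injective
    ext j
    simp [φ, hy j]
  have h3 : (y ⊗ₜ[R] (1 : R)) = 0 := h1 (by rw [h2, map_zero])
  simpa using congrArg (TensorProduct.rid R Y) h3


open TensorProduct LinearMap in
/-- Localizing an `R`-flat `S`-module at a submonoid of `S` keeps it `R`-flat. -/
theorem flat_of_isLocalizedModule_of_algebra {R S M M' : Type*} [CommRing R] [CommRing S] [Algebra R S]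
    [AddCommGroup M] [Module S M] [Module R M] [IsScalarTower R S M] [AddCommGroup M'] [Module S M'] [Module R M']
    [IsScalarTower R S M'] (T : Submonoid S) (f : M →ₗ[S] M') [IsLocalizedModule T f] [Module.Flat R M] :
    Module.Flat R M' := by
  rw [Module.Flat.iff_lTensor_injectiveₛ]
  intro P _ _ N
  have h0 := (Module.Flat.iff_lTensor_injectiveₛ (R := R) (M := M)).mp inferInstance N
  have := IsLocalizedModule.map_injective T (AlgebraTensorModule.rTensor R N f)
    (AlgebraTensorModule.rTensor R P f) (AlgebraTensorModule.lTensor S M N.subtype) h0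
  simpa [IsLocalizedModule.map_lTensor] using this

theorem key {R S M F : Type u} [CommRing R] [CommRing S] [Algebra R S] [Algebra.FinitePresentation R S]
    [AddCommGroup M] [Module S M] [Module R M] [IsScalarTower R S M] [Module.Flat R M]
    [AddCommGroup F] [Module S F] [Module R F] [IsScalarTower R S F] [Module.FinitePresentation S F]
    (π : F →ₗ[S] M) (hπ : Function.Surjective π)
    (s : Finset (PrimeSpectrum R))
    (hs : ∀ r : R, (∀ p ∈ s, ∃ t ∉ p.asIdeal, t * r = 0) → r = 0)
    (hK : ∀ p : PrimeSpectrum R, ∃ K' : Submodule S F, K' ≤ LinearMap.ker π ∧ K'.FG ∧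
      ∀ x ∈ LinearMap.ker π, ∃ t ∉ p.asIdeal, algebraMap R S t • x ∈ K') : (LinearMap.ker π).FG := by
  classical
  choose K' hK1 hK2 hK3 using hK
  have loc : ∀ q : PrimeSpectrum S, ∃ g ∉ q.asIdeal, ∃ L : Submodule S F, L ≤ LinearMap.ker π ∧ L.FG ∧
      ∀ x ∈ LinearMap.ker π, ∃ k : ℕ, g ^ k • x ∈ L := by
    intro q
    let p : PrimeSpectrum R := PrimeSpectrum.comap (algebraMap R S) q
    let L : Submodule S F := K' p ⊔ s.sup K'
    have hL : L ≤ LinearMap.ker π := sup_le (hK1 p) (Finset.sup_le fun j _ => hK1 j)
    have hLfg : L.FG := (hK2 p).sup (Submodule.fg_finset_sup _ _ fun j _ => hK2 j)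
    have hLp : ∀ j, (j = p ∨ j ∈ s) → ∀ x ∈ LinearMap.ker π, ∃ t ∉ j.asIdeal, algebraMap R S t • x ∈ L := by
      intro j hj x hx
      obtain ⟨t, ht, ht'⟩ := hK3 j x hx
      refine ⟨t, ht, ?_⟩
      rcases hj with rfl | hj
      · exact Submodule.mem_sup_left ht'
      · exact Submodule.mem_sup_right (Finset.le_sup (f := K') hj ht')
    have fp : Module.FinitePresentation S (F ⧸ L) :=
      Module.finitePresentation_of_surjective L.mkQ L.mkQ_surjective (by simpa using hLfg)
    let f : (F ⧸ L) →ₗ[S] M := L.liftQ π hL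
    let U : Set (PrimeSpectrum S) := {q : PrimeSpectrum S | Module.Flat R (LocalizedModule q.asIdeal.primeCompl (F ⧸ L))}
    have hU : IsOpen U := S0387.result
    have hfker : ∀ j, (j = p ∨ j ∈ s) → ∀ x : F ⧸ L, f x = 0 → ∃ t ∉ j.asIdeal, algebraMap R S t • x = 0 := by
      intro j hj x hx
      obtain ⟨x, rfl⟩ := L.mkQ_surjective x
      have hx' : x ∈ LinearMap.ker π := by simpa [f] using hx
      obtain ⟨t, ht, ht'⟩ := hLp j hj x hx'
      refine ⟨t, ht, ?_⟩
      rw [← map_smul]
      exact (Submodule.Quotient.mk_eq_zero L).mpr ht'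
    have hq : q ∈ U := by
      change Module.Flat R (LocalizedModule q.asIdeal.primeCompl (F ⧸ L))
      have h1 : Module.Flat R (LocalizedModule q.asIdeal.primeCompl M) :=
        flat_of_isLocalizedModule_of_algebra q.asIdeal.primeCompl (LocalizedModule.mkLinearMap _ M)
      let fq : LocalizedModule q.asIdeal.primeCompl (F ⧸ L) →ₗ[S] LocalizedModule q.asIdeal.primeCompl M :=
        IsLocalizedModule.map q.asIdeal.primeCompl (LocalizedModule.mkLinearMap _ _) (LocalizedModule.mkLinearMap _ _) f
      have hfq : Function.Bijective fq := by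
        constructor
        · rw [injective_iff_map_eq_zero]
          intro z hz
          obtain ⟨⟨x, t⟩, rfl⟩ := IsLocalizedModule.mk'_surjective q.asIdeal.primeCompl (LocalizedModule.mkLinearMap _ _) z
          simp only [Function.uncurry_apply_pair, fq, IsLocalizedModule.map_mk', IsLocalizedModule.mk'_eq_zero] at hz ⊢
          rw [IsLocalizedModule.eq_zero_iff q.asIdeal.primeCompl] at hz ⊢
          obtain ⟨c, hc⟩ := hz
          have hc' : f (c • x) = 0 := by rw [← hc]; simp [Submonoid.smul_def]
          obtain ⟨r, hr, hr'⟩ := hfker p (Or.inl rfl) _ hc'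
          refine ⟨⟨algebraMap R S r, hr⟩ * c, ?_⟩
          rw [mul_smul]
          exact hr'
        · apply IsLocalizedModule.map_surjective
          intro m
          obtain ⟨x, rfl⟩ := hπ m
          exact ⟨L.mkQ x, by simp [f]⟩
      exact Module.Flat.of_linearEquiv ((LinearEquiv.ofBijective fq hfq).restrictScalars R)
    obtain ⟨_, ⟨g, rfl⟩, hg1, hg2⟩ := PrimeSpectrum.isTopologicalBasis_basic_opens.exists_subset_of_mem_open hq hU
    refine ⟨g, hg1, L, hL, hLfg, ?_⟩
    intro x hx
    -- the annihilator of the class of `x` is not contained in any prime of `D(g)`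
    have hfx : f (L.mkQ x) = 0 := by simpa [f] using hx
    have h1 : g ∈ Ideal.radical (LinearMap.ker (LinearMap.toSpanSingleton S (F ⧸ L) (L.mkQ x))) := by
      rw [Ideal.radical_eq_sInf, Submodule.mem_sInf]
      rintro (J : Ideal S) ⟨hJ, hJp⟩
      by_contra hgJ
      have hmem : (⟨J, hJp⟩ : PrimeSpectrum S) ∈ U := hg2 hgJ
      have hflat : Module.Flat R (LocalizedModule J.primeCompl (F ⧸ L)) := hmem
      have h2 : ∀ j : s, ∃ t ∉ j.1.asIdeal, algebraMap R S t • (L.mkQ x) = 0 :=
        fun j => hfker j.1 (Or.inr j.2) _ hfx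
      choose t ht ht' using h2
      have h3 : LocalizedModule.mkLinearMap J.primeCompl (F ⧸ L) (L.mkQ x) = 0 := by
        refine eq_zero_of_flat (R := R) t ?_ _ ?_
        · intro r hr
          refine hs r fun p hp => ⟨t ⟨p, hp⟩, ht ⟨p, hp⟩, hr ⟨p, hp⟩⟩
        · intro j
          rw [← algebraMap_smul S, ← map_smul, ht' j, map_zero]
      rw [IsLocalizedModule.eq_zero_iff J.primeCompl] at h3
      obtain ⟨c, hc⟩ := h3
      exact c.2 (hJ (by simpa [LinearMap.mem_ker, Submonoid.smul_def] using hc))
    obtain ⟨k, hk⟩ := h1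
    refine ⟨k, ?_⟩
    rw [LinearMap.mem_ker, LinearMap.toSpanSingleton_apply, ← map_smul] at hk
    exact (Submodule.Quotient.mk_eq_zero L).mp hk
  choose g hg L hL hLfg hgL using loc
  have hspan : Ideal.span (Set.range g) = ⊤ := by
    by_contra h
    obtain ⟨m, hm, hm'⟩ := Ideal.exists_le_maximal _ h
    exact hg ⟨m, hm.isPrime⟩ (hm' (Ideal.subset_span ⟨_, rfl⟩))
  obtain ⟨t, ht, hspan'⟩ := (Ideal.span_eq_top_iff_finite _).mp hspan
  have ht' : ∀ e : t, ∃ q, g q = e := fun e => ht e.2
  choose q hq using ht'
  have heq : LinearMap.ker π = Finset.univ.sup (fun e : t => L (q e)) := by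
    apply le_antisymm
    · intro x hx
      choose k hk using fun e : t => hgL (q e) x hx
      have h1 : Ideal.span (Set.range fun e : t => (e : S) ^ (k e)) = ⊤ := by
        exact Ideal.span_range_pow_eq_top (t : Set S) hspan' k
      have h2 : ∀ a ∈ Ideal.span (Set.range fun e : t => (e : S) ^ (k e)), a • x ∈ Finset.univ.sup (fun e : t => L (q e)) := by
        intro a ha
        induction ha using Submodule.span_induction with
        | mem a ha =>
          obtain ⟨e, rfl⟩ := ha
          have := hk e
          rw [hq e] at this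
          exact Finset.le_sup (f := fun e : t => L (q e)) (Finset.mem_univ e) this
        | zero => simp
        | add a b _ _ ha hb => rw [add_smul]; exact add_mem ha hb
        | smul c a _ ha => rw [smul_eq_mul, mul_smul]; exact Submodule.smul_mem _ _ ha
      have := h2 1 (by rw [h1]; trivial)
      simpa using this
    · exact Finset.sup_le fun e _ => hL (q e)
  rw [heq]
  exact Submodule.fg_finset_sup _ _ fun e _ => hLfg (q e)

/-- Stacks Tag 053A: let `S = R[x_1, …, x_n]` and `M` a finite `S`-module, flat over `R`, such that for every prime `𝔭` of `R` the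
localization `M_𝔭` is finitely presented over `S_𝔭`. If `R` embeds into the product of finitely many of its local
rings, then `M` is finitely presented over `S`. -/
theorem result {R : Type u} [CommRing R] (n : ℕ)
    {M : Type u} [AddCommGroup M] [Module (MvPolynomial (Fin n) R) M] [Module R M]
    [IsScalarTower R (MvPolynomial (Fin n) R) M] [Module.Finite (MvPolynomial (Fin n) R) M] [Module.Flat R M]
    (s : Finset (PrimeSpectrum R))
    (hs : Function.Injective fun r : R => fun p : s => algebraMap R (Localization.AtPrime p.1.asIdeal) r)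
    (hloc : ∀ (p : Ideal R) [p.IsPrime],
      Module.FinitePresentation
        (Localization (Algebra.algebraMapSubmonoid (MvPolynomial (Fin n) R) p.primeCompl))
        (LocalizedModule (Algebra.algebraMapSubmonoid (MvPolynomial (Fin n) R) p.primeCompl) M)) :
    Module.FinitePresentation (MvPolynomial (Fin n) R) M := by
  obtain ⟨r, π, hπ⟩ := Module.Finite.exists_fin' (MvPolynomial (Fin n) R) M
  refine (Module.FinitePresentation.fg_ker_iff π hπ).mp ?_
  refine key (R := R) π hπ s ?_ ?_
  · intro r hr
    apply hs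
    funext p
    obtain ⟨t, ht, ht'⟩ := hr p.1 p.2
    simp only [map_zero]
    exact (IsLocalization.map_eq_zero_iff p.1.asIdeal.primeCompl _ _).mpr ⟨⟨t, ht⟩, ht'⟩
  · intro p
    have := hloc p.asIdeal
    let T := Algebra.algebraMapSubmonoid (MvPolynomial (Fin n) R) p.asIdeal.primeCompl
    obtain ⟨K', h1, h2, h3⟩ := exists_fg_le_of_localized_fg T (LinearMap.ker π) (by
        rw [Submodule.localized, LinearMap.localized'_ker_eq_ker_localizedMap (Localization T) T
          (LocalizedModule.mkLinearMap T _) (LocalizedModule.mkLinearMap T M) π]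
        apply Module.FinitePresentation.fg_ker
        rw [← LinearMap.range_eq_top] at hπ ⊢
        simp [← LinearMap.localized'_range_eq_range_localizedMap (Localization T) T, hπ])
    refine ⟨K', h1, h2, fun x hx => ?_⟩
    obtain ⟨_, ⟨t, ht, rfl⟩, h⟩ := h3 x hx
    exact ⟨t, ht, h⟩

end Groth.Agent.S2050
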