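import Groth.Statements.S2090
import Mathlib.RingTheory.Nakayama
import Mathlib.Algebra.Module.LocalizedModule.IsLocalization

set_option autoImplicit false
universe u
open CAlg

namespace Groth.Agent.S2090

open IsLocalRing

/-- Depth at least two of a finite module gives two elements of the maximal ideal, regular on `M` and on the quotient. -/
theorem exists_pair_of_two_le_depth {R M : Type u} [CommRing R] [IsLocalRing R] [AddCommGroup M] [Module R M]
    [Module.Finite R M] (h : 2 ≤ LocCoh.depth R M) :
    ∃ a ∈ maximalIdeal R, ∃ b ∈ maximalIdeal R, (∀ x : M, a • x = 0 → x = 0) ∧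
      ∀ x y : M, b • x = a • y → ∃ z : M, x = a • z := by
  classical
  unfold LocCoh.depth LocCoh.idealDepth at h
  split_ifs at h with htop
  · have hsub : (⊤ : Submodule R M) = ⊥ := by
      refine Submodule.eq_bot_of_le_smul_of_le_jacobson_bot (maximalIdeal R) ⊤ (Module.Finite.fg_top) htop.ge ?_
      exact IsLocalRing.maximalIdeal_le_jacobson ⊥
    have h0 : ∀ x : M, x = 0 := fun x => by
      have : x ∈ (⊤ : Submodule R M) := trivial
      rw [hsub] at this
      simpa using this
    refine ⟨0, zero_mem _, 0, zero_mem _, fun x _ => h0 x, fun x y _ => ⟨0, by rw [h0 x]; simp⟩⟩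
  · obtain ⟨rs, hrs, hlen⟩ : ∃ rs : List R, (RingTheory.Sequence.IsWeaklyRegular M rs ∧
        ∀ r ∈ rs, r ∈ maximalIdeal R) ∧ 2 ≤ rs.length := by
      by_contra hcon
      push Not at hcon
      have hle : (⨆ (rs : List R) (_ : RingTheory.Sequence.IsWeaklyRegular M rs ∧
          ∀ r ∈ rs, r ∈ maximalIdeal R), (rs.length : ℕ∞)) ≤ 1 := by
        refine iSup₂_le fun rs hrs => ?_
        have := hcon rs hrs
        have h1 : rs.length ≤ 1 := by omega
        exact_mod_cast h1
      have h21 : (2 : ℕ∞) ≤ 1 := h.trans hle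
      exact absurd h21 (by decide)
    match rs, hrs, hlen with
    | a :: b :: l, hrs, _ =>
      obtain ⟨hw, hm⟩ := hrs
      rw [RingTheory.Sequence.isWeaklyRegular_cons_iff, RingTheory.Sequence.isWeaklyRegular_cons_iff] at hw
      obtain ⟨ha, hb, -⟩ := hw
      refine ⟨a, hm a (by simp), b, hm b (by simp), fun x hx => ?_, fun x y hxy => ?_⟩
      · exact ha (by simpa using hx)
      · have : b • (Submodule.Quotient.mk x : QuotSMulTop a M) = b • 0 := by
          rw [smul_zero, ← Submodule.Quotient.mk_smul, hxy, Submodule.Quotient.mk_eq_zero]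
          exact Submodule.smul_mem_pointwise_smul _ _ _ trivial
        have h0 := hb this
        rw [Submodule.Quotient.mk_eq_zero, Submodule.mem_smul_pointwise_iff_exists] at h0
        obtain ⟨z, -, hz⟩ := h0
        exact ⟨z, hz.symm⟩

/-- The same at a prime of a Noetherian ring, with elements of the ring itself. -/
theorem exists_pair_of_two_le_depth_localization {R M : Type u} [CommRing R] [AddCommGroup M] [Module R M]
    [Module.Finite R M] (p : Ideal R) [p.IsPrime]
    (h : 2 ≤ LocCoh.depth (Localization.AtPrime p) (LocalizedModule p.primeCompl M)) :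
    ∃ a ∈ p, ∃ b ∈ p, (∀ x : M, a • x = 0 → ∃ s ∉ p, s • x = 0) ∧
      ∀ x y : M, b • x = a • y → ∃ s ∉ p, ∃ z : M, s • x = a • z := by
  obtain ⟨a, ha, b, hb, h1, h2⟩ := exists_pair_of_two_le_depth h
  obtain ⟨a', s, rfl⟩ := IsLocalization.exists_mk'_eq p.primeCompl a
  obtain ⟨b', t, rfl⟩ := IsLocalization.exists_mk'_eq p.primeCompl b
  rw [IsLocalization.AtPrime.mk'_mem_maximal_iff (Localization.AtPrime p) p] at ha hb
  rw [← Localization.mk_eq_mk'] at h1 h2
  refine ⟨a', ha, b', hb, fun x hx => ?_, fun x y hxy => ?_⟩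
  · have := h1 (LocalizedModule.mk x 1) (by
      rw [LocalizedModule.mk_smul_mk, hx, LocalizedModule.zero_mk])
    rw [← LocalizedModule.zero_mk 1, LocalizedModule.mk_eq] at this
    obtain ⟨u, hu⟩ := this
    refine ⟨u, u.2, ?_⟩
    simpa [Submonoid.smul_def] using hu
  · have := h2 (LocalizedModule.mk ((t : R) • x) 1) (LocalizedModule.mk ((s : R) • y) 1) (by
      rw [LocalizedModule.mk_smul_mk, LocalizedModule.mk_smul_mk, smul_comm b', smul_comm a', hxy, mul_one,
        mul_one]
      have e1 : LocalizedModule.mk ((t : R) • a' • y) t = LocalizedModule.mk (a' • y) (1 : p.primeCompl) :=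
        LocalizedModule.mk_cancel t (a' • y)
      have e2 : LocalizedModule.mk ((s : R) • a' • y) s = LocalizedModule.mk (a' • y) (1 : p.primeCompl) :=
        LocalizedModule.mk_cancel s (a' • y)
      rw [e1, e2])
    obtain ⟨z, hz⟩ := this
    induction z with | _ z w
    rw [LocalizedModule.mk_smul_mk, LocalizedModule.mk_eq] at hz
    obtain ⟨u, hu⟩ := hz
    refine ⟨(u : R) * ((s : R) * w) * t, ?_, (u : R) • z, ?_⟩
    · exact (u * (s * w) * t).2
    · simp only [Submonoid.smul_def, Submonoid.coe_mul, OneMemClass.coe_one, one_smul] at hu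
      rw [mul_smul, mul_smul, hu, smul_comm]

/-- Membership in `associatedPrimes` over a Noetherian ring, elementwise. -/
theorem mem_associatedPrimes_iff_exists {R M : Type u} [CommRing R] [IsNoetherianRing R] [AddCommGroup M] [Module R M]
    (p : Ideal R) : p ∈ associatedPrimes R M ↔ p.IsPrime ∧ ∃ x : M, ∀ r : R, r ∈ p ↔ r • x = 0 := by
  rw [AssociatedPrimes.mem_iff, isAssociatedPrime_iff]
  refine and_congr_right fun _ => exists_congr fun x => ?_
  rw [SetLike.ext_iff]
  simp [Submodule.mem_colon_singleton]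

/-- Stacks Tag 0AV8: let `R` be Noetherian and `φ : M → N` a map of `R`-modules with `M` finite. Suppose that for every prime `𝔭` either `φ_𝔭` is
bijective, or `M_𝔭` has depth at least two and `𝔭` is not an associated prime of `N`. Then `φ` is bijective. -/
theorem result {R M N : Type u} [CommRing R] [IsNoetherianRing R] [AddCommGroup M]
    [Module R M] [Module.Finite R M] [AddCommGroup N] [Module R N] (φ : M →ₗ[R] N)
    (h : ∀ (p : Ideal R) [p.IsPrime],
      Function.Bijective (LocalizedModule.map p.primeCompl φ) ∨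
        (2 ≤ LocCoh.depth (Localization.AtPrime p) (LocalizedModule p.primeCompl M) ∧
          p ∉ associatedPrimes R N)) :
    Function.Bijective φ := by
  classical
  have hinj : Function.Injective φ := by
    rw [← LinearMap.ker_eq_bot]
    by_contra hker
    have : Nontrivial (LinearMap.ker φ) := (Submodule.nontrivial_iff_ne_bot).2 hker
    obtain ⟨p, hp⟩ := associatedPrimes.nonempty R (LinearMap.ker φ)
    rw [mem_associatedPrimes_iff_exists] at hp
    obtain ⟨hp, x, hx⟩ := hp
    have hx' : ∀ r : R, r ∈ p ↔ r • (x : M) = 0 := fun r => by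
      rw [hx r, ← Submodule.coe_smul, Submodule.coe_eq_zero]
    rcases h p with h | ⟨h, -⟩
    · have h0 : LocalizedModule.map p.primeCompl φ (LocalizedModule.mk (x : M) 1) =
          LocalizedModule.map p.primeCompl φ 0 := by
        rw [LocalizedModule.map_mk, map_zero, LinearMap.mem_ker.1 x.2, LocalizedModule.zero_mk]
      have h1 := h.1 h0
      rw [← LocalizedModule.zero_mk 1, LocalizedModule.mk_eq] at h1
      obtain ⟨u, hu⟩ := h1
      exact u.2 ((hx' u).2 (by simpa [Submonoid.smul_def] using hu))
    · obtain ⟨a, ha, b, hb, h1, h2⟩ := exists_pair_of_two_le_depth_localization p h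
      obtain ⟨s, hs, hs'⟩ := h1 x ((hx' a).1 ha)
      exact hs ((hx' s).2 hs')
  refine ⟨hinj, ?_⟩
  rw [← LinearMap.range_eq_top]
  by_contra hrange
  have : Nontrivial (N ⧸ LinearMap.range φ) := Submodule.Quotient.nontrivial_iff.2 hrange
  obtain ⟨p, hp⟩ := associatedPrimes.nonempty R (N ⧸ LinearMap.range φ)
  rw [mem_associatedPrimes_iff_exists] at hp
  obtain ⟨hp, y, hy⟩ := hp
  obtain ⟨y, rfl⟩ := Submodule.Quotient.mk_surjective _ y
  have hy' : ∀ r : R, r ∈ p ↔ r • y ∈ LinearMap.range φ := fun r => by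
    rw [hy r, ← Submodule.Quotient.mk_smul, Submodule.Quotient.mk_eq_zero]
  rcases h p with h | ⟨h, hN⟩
  · obtain ⟨m, hm⟩ := h.2 (LocalizedModule.mk y 1)
    induction m with | _ m s
    rw [LocalizedModule.map_mk, LocalizedModule.mk_eq] at hm
    obtain ⟨u, hu⟩ := hm
    simp only [Submonoid.smul_def, OneMemClass.coe_one, one_smul] at hu
    refine (u * s).2 ((hy' _).2 ⟨(u : R) • m, ?_⟩)
    rw [map_smul, hu, Submonoid.coe_mul, mul_smul]
  · obtain ⟨a, ha, b, hb, h1, h2⟩ := exists_pair_of_two_le_depth_localization p h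
    obtain ⟨ma, hma⟩ := (hy' a).1 ha
    obtain ⟨mb, hmb⟩ := (hy' b).1 hb
    have hab : b • ma = a • mb := hinj (by rw [map_smul, map_smul, hma, hmb, smul_comm])
    obtain ⟨s, hs, z, hz⟩ := h2 ma mb hab
    -- `w = s y - φ z` is killed by `a`
    set w : N := s • y - φ z with hw
    have haw : a • w = 0 := by
      rw [hw, smul_sub, smul_comm, ← hma, ← map_smul, ← map_smul, hz, sub_self]
    have hwr : ∀ c : R, c • w ∈ LinearMap.range φ → c ∈ p := fun c hc => by
      have h3 : (c * s) • y ∈ LinearMap.range φ := by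
        have : (c * s) • y = c • w + φ (c • z) := by
          rw [hw, smul_sub, mul_smul, map_smul, sub_add_cancel]
        rw [this]
        exact add_mem hc ⟨_, rfl⟩
      exact (hp.mem_or_mem ((hy' _).2 h3)).resolve_right hs
    have hcw : ∀ c ∈ p, ∃ v ∉ p, v • c • w = 0 := fun c hc => by
      have h3 : c • w ∈ LinearMap.range φ := by
        rw [hw, smul_sub, smul_comm]
        exact sub_mem (Submodule.smul_mem _ _ ((hy' c).1 hc)) (Submodule.smul_mem _ _ ⟨_, rfl⟩)
      obtain ⟨m, hm⟩ := h3
      have h4 : a • m = 0 := hinj (by rw [map_smul, hm, smul_comm, haw, smul_zero, map_zero])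
      obtain ⟨v, hv, hv'⟩ := h1 m h4
      exact ⟨v, hv, by rw [← hm, ← map_smul, hv', map_zero]⟩
    obtain ⟨v, hv, hvw⟩ : ∃ v ∉ p, ∀ c ∈ p, c • v • w = 0 := by
      obtain ⟨S, hS⟩ := (inferInstance : IsNoetherianRing R).noetherian p
      have hSp : ∀ c ∈ S, c ∈ p := fun c hc => hS ▸ Submodule.subset_span hc
      choose! f hf hf' using hcw
      refine ⟨∏ c ∈ S, f c, ?_, fun c hc => ?_⟩
      · have := p.primeCompl.prod_mem (t := S) (f := f) (fun c hc => hf c (hSp c hc))
        exact this
      · rw [← hS] at hc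
        have : Ideal.span (S : Set R) ≤ LinearMap.ker (LinearMap.toSpanSingleton R N ((∏ c ∈ S, f c) • w)) := by
          rw [Ideal.span_le]
          intro c hc
          simp only [SetLike.mem_coe, LinearMap.mem_ker, LinearMap.toSpanSingleton_apply]
          rw [← Finset.prod_erase_mul S f hc, mul_smul, smul_comm, smul_comm c, hf' c (hSp c hc), smul_zero]
        simpa using this hc
    refine hN ((mem_associatedPrimes_iff_exists p).2 ⟨hp, v • w, fun r => ⟨fun hr => hvw r hr, fun hr => ?_⟩⟩)
    have : r * v ∈ p := hwr _ (by rw [mul_smul, hr]; exact zero_mem _)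
    exact (hp.mem_or_mem this).resolve_right hv

end Groth.Agent.S2090
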