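import Groth.Statements.S2054
import Groth.Agent.Divis.ReflexAlg
import Groth.Agent.S2090
import Groth.Agent.CalgB.DepthLite

set_option autoImplicit false
universe u
open CAlg

namespace Groth.Agent.S2054


open Groth.Agent.Divis.ReflexAlg Groth.Agent.Divis.DepthTwo IsLocalRing

lemma noZero_of_injective_eval {R M : Type u} [CommRing R] [IsDomain R] [AddCommGroup M] [Module R M]
    (h : Function.Injective (Module.Dual.eval R M)) : NoZeroSMulDivisors R M := by
  refine ⟨fun {r m} hrm => ?_⟩
  rw [or_iff_not_imp_left]
  intro hr
  apply h
  rw [map_zero]
  ext φ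
  have h1 : φ (r • m) = 0 := by rw [hrm, map_zero]
  rw [map_smul, smul_eq_mul] at h1
  exact (mul_eq_zero.mp h1).resolve_left hr

lemma noZero_localized {R M : Type u} [CommRing R] [IsDomain R] [AddCommGroup M] [Module R M]
    [NoZeroSMulDivisors R M] (p : Ideal R) [p.IsPrime] :
    NoZeroSMulDivisors (Localization.AtPrime p) (LocalizedModule p.primeCompl M) := by
  refine ⟨fun {a x} h => ?_⟩
  obtain ⟨r, s, rfl⟩ := IsLocalization.exists_mk'_eq p.primeCompl a
  induction x with | _ m t
  rw [← Localization.mk_eq_mk', LocalizedModule.mk_smul_mk, ← LocalizedModule.zero_mk (s * t),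
    LocalizedModule.mk_eq] at h
  obtain ⟨u, hu⟩ := h
  simp only [smul_zero, Submonoid.smul_def, smul_smul] at hu
  rcases smul_eq_zero.mp hu with h1 | h1
  · left
    have h2 : ∀ v : p.primeCompl, (v : R) ≠ 0 := fun v h => v.2 (h ▸ p.zero_mem)
    have h3 : r = 0 := by
      rcases mul_eq_zero.mp h1 with h1 | h1
      · exact absurd h1 (h2 _)
      · rcases mul_eq_zero.mp h1 with h1 | h1
        · exact absurd h1 (h2 _)
        · exact h1
    rw [h3, IsLocalization.mk'_zero]
  · right
    rw [h1, LocalizedModule.zero_mk]

lemma bijective_map_eval {R M : Type u} [CommRing R] [IsNoetherianRing R] [AddCommGroup M]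
    [Module R M] [Module.Finite R M] (p : Ideal R) [p.IsPrime]
    [Module.IsReflexive (Localization.AtPrime p) (LocalizedModule p.primeCompl M)] :
    Function.Bijective (LocalizedModule.map p.primeCompl (Module.Dual.eval R M)) := by
  constructor
  · rw [injective_iff_map_eq_zero]
    intro x hx
    induction x with | _ m t
    rw [LocalizedModule.map_mk, ← LocalizedModule.zero_mk t, LocalizedModule.mk_eq] at hx
    obtain ⟨u, hu⟩ := hx
    simp only [smul_zero, Submonoid.smul_def, smul_smul] at hu
    rw [← map_smul] at hu
    obtain ⟨s, hs, hs'⟩ := exists_smul_eq_zero_of_eval_eq_zero p.primeCompl (Localization.AtPrime p)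
      (LocalizedModule.mkLinearMap p.primeCompl M) _ hu
    rw [smul_smul] at hs'
    rw [← LocalizedModule.zero_mk t, LocalizedModule.mk_eq]
    refine ⟨⟨s, hs⟩ * u, ?_⟩
    simp only [smul_zero, Submonoid.smul_def, smul_smul]
    rw [Submonoid.coe_mul, mul_assoc]
    exact hs'
  · intro y
    induction y with | _ φ t
    obtain ⟨s, hs, m, hm⟩ := exists_smul_eq_eval p.primeCompl (Localization.AtPrime p)
      (LocalizedModule.mkLinearMap p.primeCompl M) φ
    refine ⟨LocalizedModule.mk m (⟨s, hs⟩ * t), ?_⟩
    rw [LocalizedModule.map_mk, ← hm, LocalizedModule.mk_eq]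
    refine ⟨1, ?_⟩
    simp only [Submonoid.smul_def, smul_smul, Submonoid.coe_mul, one_smul]
    rw [mul_comm]

/-- Stacks Tag 0AVB, (1) iff (2): let `R` be a Noetherian normal domain and `M` a finite `R`-module. Then `M` is reflexive (the
map to its double dual is bijective) if and only if `M` is torsion free and satisfies Serre's condition
`(S_2)`. -/
theorem result {R M : Type u} [CommRing R] [IsDomain R] [IsNoetherianRing R]
    [IsIntegrallyClosed R] [AddCommGroup M] [Module R M] [Module.Finite R M] :
    Module.IsReflexive R M ↔ NoZeroSMulDivisors R M ∧ LocCoh.HasSk 2 R M := by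
  constructor
  · intro hrefl
    refine ⟨noZero_of_injective_eval (Module.bijective_dual_eval R M).1, ?_⟩
    intro p hp
    have h1 : Module.IsReflexive (Localization.AtPrime p) (LocalizedModule p.primeCompl M) :=
      isReflexive_of_isLocalizedModule p.primeCompl (Localization.AtPrime p)
        (LocalizedModule.mkLinearMap p.primeCompl M)
    have h2 : IsNoetherianRing (Localization.AtPrime p) :=
      IsLocalization.isNoetherianRing p.primeCompl _ inferInstance
    have h3 : IsDomain (Localization.AtPrime p) := inferInstance
    have h4 : IsIntegrallyClosed (Localization.AtPrime p) :=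
      isIntegrallyClosed_of_isLocalization _ p.primeCompl p.primeCompl_le_nonZeroDivisors
    rcases le_or_gt (2 : WithBot ℕ∞) (ringKrullDim (Localization.AtPrime p)) with h | h
    · obtain ⟨a, ha, b, hb, hab⟩ := exists_regPair_of_isIntegrallyClosed h
      have h5 : RegPair a b (LocalizedModule p.primeCompl M) := regPair_of_isReflexive hab
      have h6 := h5.two_le_idealDepth ha hb
      refine (min_le_left _ _).trans ?_
      exact WithBot.coe_le_coe.mpr h6
    · refine (min_le_right _ _).trans ((Module.supportDim_le_ringKrullDim _ _).trans ?_)
      by_cases hm : maximalIdeal (Localization.AtPrime p) = ⊥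
      · have hf := (isField_iff_maximalIdeal_eq (R := Localization.AtPrime p)).mpr hm
        rw [ringKrullDim_eq_zero_of_isField hf]
        exact WithBot.coe_le_coe.mpr bot_le
      · have h5 : (1 : ℕ∞) ≤ LocCoh.depth (Localization.AtPrime p) (LocalizedModule p.primeCompl M) := by
          rw [Groth.Agent.CalgB.DepthLite.one_le_depth_iff]
          intro x hx
          obtain ⟨a, ha, ha0⟩ := Submodule.exists_mem_ne_zero_of_ne_bot hm
          have h6 : NoZeroSMulDivisors (Localization.AtPrime p) (LocalizedModule p.primeCompl M) :=
            noZero_of_injective_eval (Module.bijective_dual_eval _ _).1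
          exact (smul_eq_zero.mp (hx a ha)).resolve_left ha0
        have h6 : ringKrullDim (Localization.AtPrime p) ≤ 1 := by
          have : ringKrullDim (Localization.AtPrime p) < ((1 : ℕ) : WithBot ℕ∞) + 1 := by
            rw [Nat.cast_one, one_add_one_eq_two]; exact h
          exact ENat.WithBot.lt_add_one_iff.mp this
        exact h6.trans (WithBot.coe_le_coe.mpr h5)
  · rintro ⟨htf, hS2⟩
    constructor
    refine Groth.Agent.S2090.result (Module.Dual.eval R M) ?_
    intro p hp
    have h2 : IsNoetherianRing (Localization.AtPrime p) :=
      IsLocalization.isNoetherianRing p.primeCompl _ inferInstance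
    have h3 : IsDomain (Localization.AtPrime p) := inferInstance
    have h4 : IsIntegrallyClosed (Localization.AtPrime p) :=
      isIntegrallyClosed_of_isLocalization _ p.primeCompl p.primeCompl_le_nonZeroDivisors
    have h5 : NoZeroSMulDivisors (Localization.AtPrime p) (LocalizedModule p.primeCompl M) :=
      noZero_localized p
    rcases le_or_gt (ringKrullDim (Localization.AtPrime p)) 1 with h | h
    · left
      have h6 : IsPrincipalIdealRing (Localization.AtPrime p) :=
        isPrincipalIdealRing_of_isIntegrallyClosed h
      have h7 : Module.Free (Localization.AtPrime p) (LocalizedModule p.primeCompl M) :=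
        inferInstance
      exact bijective_map_eval p
    · rcases subsingleton_or_nontrivial (LocalizedModule p.primeCompl M) with hs | hn
      · left
        have : Module.IsReflexive (Localization.AtPrime p) (LocalizedModule p.primeCompl M) := by
          have : Module.Free (Localization.AtPrime p) (LocalizedModule p.primeCompl M) :=
            Module.Free.of_subsingleton _ _
          infer_instance
        exact bijective_map_eval p
      · right
        have h8 : (2 : WithBot ℕ∞) ≤ ringKrullDim (Localization.AtPrime p) := by
          have : ((1 : ℕ) : WithBot ℕ∞) + 1 ≤ ringKrullDim (Localization.AtPrime p) :=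
            ENat.WithBot.add_one_le_iff.mpr h
          rwa [Nat.cast_one, one_add_one_eq_two] at this
        refine ⟨?_, ?_⟩
        · have h6 := hS2 p
          have h7 : Module.supportDim (Localization.AtPrime p) (LocalizedModule p.primeCompl M) =
              ringKrullDim (Localization.AtPrime p) := by
            rw [Module.supportDim_eq_ringKrullDim_quotient_annihilator]
            have h9 : Module.annihilator (Localization.AtPrime p) (LocalizedModule p.primeCompl M) = ⊥ := by
              rw [eq_bot_iff]
              intro a ha
              obtain ⟨x, hx⟩ := exists_ne (0 : LocalizedModule p.primeCompl M)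
              rw [Module.mem_annihilator] at ha
              exact (smul_eq_zero.mp (ha x)).resolve_right hx
            rw [h9]
            exact ringKrullDim_eq_of_ringEquiv (RingEquiv.quotientBot _)
          rw [h7] at h6
          have h10 : (2 : WithBot ℕ∞) ≤ min ((2 : ℕ) : WithBot ℕ∞) (ringKrullDim (Localization.AtPrime p)) :=
            le_min le_rfl h8
          exact WithBot.coe_le_coe.mp (h10.trans h6)
        · intro hass
          rw [AssociatedPrimes.mem_iff, isAssociatedPrime_iff] at hass
          obtain ⟨_, φ, hφ⟩ := hass
          have hp0 : p ≠ ⊥ := by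
            rintro rfl
            rw [IsLocalization.AtPrime.ringKrullDim_eq_height (⊥ : Ideal R)
              (Localization.AtPrime (⊥ : Ideal R)), Ideal.height_bot] at h
            exact absurd h (by decide)
          obtain ⟨a, ha, ha0⟩ := Submodule.exists_mem_ne_zero_of_ne_bot hp0
          have hφ0 : φ = 0 := by
            rw [hφ, Submodule.mem_colon_singleton, Submodule.mem_bot] at ha
            ext ψ
            have := LinearMap.congr_fun ha ψ
            rw [LinearMap.smul_apply, smul_eq_mul] at this
            exact (mul_eq_zero.mp this).resolve_left ha0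
          apply hp.ne_top
          rw [hφ, hφ0]
          simp

end Groth.Agent.S2054
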