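import Groth.Statements.S2055
import Mathlib.Algebra.Exact.Basic
import Mathlib.RingTheory.Ideal.Quotient.Operations
import Mathlib.RingTheory.Flat.Basic
import Mathlib.LinearAlgebra.TensorProduct.RightExactness
import Mathlib.Algebra.Algebra.Bilinear
import Mathlib.LinearAlgebra.TensorProduct.Pi
import Mathlib.RingTheory.Finiteness.Ideal

set_option autoImplicit false
universe u
open CAlg

namespace Groth.Agent.S2055

open TensorProduct

/-- the map `N → S ⊗ N`. -/
def phi (R S N : Type u) [CommRing R] [CommRing S] [Algebra R S] [AddCommGroup N] [Module R N] :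
    N →ₗ[R] S ⊗[R] N := TensorProduct.mk R S N 1

lemma phi_apply (R S N : Type u) [CommRing R] [CommRing S] [Algebra R S] [AddCommGroup N] [Module R N]
    (y : N) : phi R S N y = 1 ⊗ₜ y := rfl

lemma lTensor_phi {R S N P : Type u} [CommRing R] [CommRing S] [Algebra R S] [AddCommGroup N] [Module R N]
    [AddCommGroup P] [Module R P] (f : N →ₗ[R] P) (y : N) :
    f.lTensor S (phi R S N y) = phi R S P (f y) := by
  simp [phi_apply]

/-- killed by `I`. -/
lemma phi_bijective_of_killed {R S N : Type u} [CommRing R] [CommRing S] [Algebra R S]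
    [AddCommGroup N] [Module R N] (I : Ideal R)
    (hq : Function.Bijective (algebraMap (R ⧸ I) (S ⧸ I.map (algebraMap R S))))
    (hN : ∀ a ∈ I, ∀ y : N, a • y = 0) : Function.Bijective (phi R S N) := by
  constructor
  · -- build a retraction
    let g : R ⧸ I →+* Module.End R N := Ideal.Quotient.lift I (algebraMap R (Module.End R N)) (by
      intro a ha
      ext y
      simpa using hN a ha y)
    let e := RingEquiv.ofBijective _ hq
    let h : S →+* Module.End R N :=
      g.comp ((e.symm : _ →+* R ⧸ I).comp (Ideal.Quotient.mk (I.map (algebraMap R S))))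
    have hh : ∀ r : R, h (algebraMap R S r) = algebraMap R (Module.End R N) r := by
      intro r
      have : e.symm (Ideal.Quotient.mk (I.map (algebraMap R S)) (algebraMap R S r)) =
          Ideal.Quotient.mk I r := by
        rw [RingEquiv.symm_apply_eq]
        rfl
      simp only [h, RingHom.comp_apply, RingHom.coe_coe, this]
      rfl
    let h' : S →ₗ[R] Module.End R N :=
      { toFun := h
        map_add' := map_add h
        map_smul' := by
          intro r s
          rw [Algebra.smul_def, map_mul, hh, RingHom.id_apply, Algebra.smul_def] }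
    have hr : ∀ y, TensorProduct.lift h' (phi R S N y) = y := by
      intro y
      rw [phi_apply, TensorProduct.lift.tmul]
      change h 1 y = y
      rw [map_one]; rfl
    intro y y' hy
    rw [← hr y, hy, hr]
  · intro z
    induction z using TensorProduct.induction_on with
    | zero => exact ⟨0, by simp⟩
    | tmul s y =>
      obtain ⟨r', hr'⟩ := hq.2 (Ideal.Quotient.mk _ s)
      obtain ⟨r, rfl⟩ := Ideal.Quotient.mk_surjective r'
      refine ⟨r • y, ?_⟩
      have h1 : s - algebraMap R S r ∈ I.map (algebraMap R S) := by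
        rw [← Ideal.Quotient.eq_zero_iff_mem, map_sub, sub_eq_zero, ← hr']
        rfl
      have h2 : ∀ t ∈ I.map (algebraMap R S), t ⊗ₜ[R] y = 0 := by
        intro t ht
        induction ht using Submodule.span_induction with
        | mem x hx =>
          obtain ⟨a, ha, rfl⟩ := hx
          rw [Algebra.algebraMap_eq_smul_one, TensorProduct.smul_tmul, hN a ha, TensorProduct.tmul_zero]
        | zero => simp
        | add x y _ _ hx hy => rw [TensorProduct.add_tmul, hx, hy, add_zero]
        | smul c x _ hx =>
          have : (c • x) ⊗ₜ[R] y = c • (x ⊗ₜ[R] y) := rfl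
          rw [this, hx, smul_zero]
      have := h2 _ h1
      rw [TensorProduct.sub_tmul, sub_eq_zero] at this
      rw [phi_apply, this, Algebra.algebraMap_eq_smul_one, TensorProduct.smul_tmul]
    | add x y hx hy =>
      obtain ⟨a, rfl⟩ := hx
      obtain ⟨b, rfl⟩ := hy
      exact ⟨a + b, by simp⟩

/-- extensions -/
lemma phi_bijective_of_submodule {R S N : Type u} [CommRing R] [CommRing S] [Algebra R S] [Module.Flat R S]
    [AddCommGroup N] [Module R N] (K : Submodule R N)
    (h1 : Function.Bijective (phi R S K)) (h2 : Function.Bijective (phi R S (N ⧸ K))) :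
    Function.Bijective (phi R S N) := by
  have hex : Function.Exact (K.subtype.lTensor S) (K.mkQ.lTensor S) :=
    lTensor_exact S (LinearMap.exact_subtype_mkQ K) K.mkQ_surjective
  have hinj : Function.Injective (K.subtype.lTensor S) :=
    Module.Flat.lTensor_preserves_injective_linearMap _ K.injective_subtype
  constructor
  · rw [injective_iff_map_eq_zero]
    intro y hy
    have hyK : y ∈ K := by
      have : phi R S (N ⧸ K) (K.mkQ y) = 0 := by rw [← lTensor_phi, hy, map_zero]
      rw [map_eq_zero_iff _ h2.1] at this
      simpa using this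
    have : K.subtype.lTensor S (phi R S K ⟨y, hyK⟩) = 0 := by rw [lTensor_phi]; exact hy
    rw [map_eq_zero_iff _ hinj, map_eq_zero_iff _ h1.1] at this
    exact congrArg Subtype.val this
  · intro z
    obtain ⟨w, hw⟩ := h2.2 (K.mkQ.lTensor S z)
    obtain ⟨y, rfl⟩ := K.mkQ_surjective w
    have : K.mkQ.lTensor S (z - phi R S N y) = 0 := by
      rw [map_sub, lTensor_phi, hw, sub_self]
    obtain ⟨v, hv⟩ := (hex _).1 this
    obtain ⟨x, rfl⟩ := h1.2 v
    rw [lTensor_phi] at hv
    refine ⟨K.subtype x + y, ?_⟩
    rw [map_add, hv, sub_add_cancel]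

/-- killed by `I ^ n`. -/
lemma phi_bijective_of_pow {R S : Type u} [CommRing R] [CommRing S] [Algebra R S] [Module.Flat R S]
    (I : Ideal R)
    (hq : Function.Bijective (algebraMap (R ⧸ I) (S ⧸ I.map (algebraMap R S)))) (n : ℕ) :
    ∀ (N : Type u) [AddCommGroup N] [Module R N]
    (_ : ∀ a ∈ I ^ n, ∀ y : N, a • y = 0), Function.Bijective (phi R S N) := by
  induction n with
  | zero =>
    intro N _ _ hN
    apply phi_bijective_of_killed I hq
    intro a _ y
    have := hN 1 (by simp) y
    rw [one_smul] at this
    rw [this, smul_zero]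
  | succ n ih =>
    intro N _ _ hN
    apply phi_bijective_of_submodule (I • (⊤ : Submodule R N))
    · apply ih
      rintro a ha ⟨y, hy⟩
      ext
      change a • y = 0
      induction hy using Submodule.smul_induction_on' with
      | smul b hb x hx =>
        rw [smul_smul]
        exact hN _ (by rw [pow_succ]; exact Ideal.mul_mem_mul ha hb) _
      | add x hx y hy h1 h2 => rw [smul_add, h1, h2, add_zero]
    · apply phi_bijective_of_killed I hq
      intro a ha y
      obtain ⟨y, rfl⟩ := Submodule.mkQ_surjective _ y
      rw [← map_smul, Submodule.mkQ_apply, Submodule.Quotient.mk_eq_zero]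
      exact Submodule.smul_mem_smul ha trivial

/-- the `I ^ n`-torsion -/
def tors {R : Type u} (N : Type u) [CommRing R] [AddCommGroup N] [Module R N] (J : Ideal R) : Submodule R N where
  carrier := {y | ∀ a ∈ J, a • y = 0}
  add_mem' := by
    intro x y hx hy a ha
    rw [smul_add, hx a ha, hy a ha, add_zero]
  zero_mem' := by intro a _; simp
  smul_mem' := by
    intro c x hx a ha
    rw [smul_comm, hx a ha, smul_zero]

lemma mem_tors {R N : Type u} [CommRing R] [AddCommGroup N] [Module R N] (J : Ideal R) (y : N) :
    y ∈ tors N J ↔ ∀ a ∈ J, a • y = 0 := Iff.rfl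

/-- flatness: torsion of `S ⊗ N` is `S ⊗` torsion -/
lemma tors_tensor {R S N : Type u} [CommRing R] [CommRing S] [Algebra R S] [Module.Flat R S]
    [AddCommGroup N] [Module R N] (J : Ideal R) (hJ : J.FG) (z : S ⊗[R] N) (hz : ∀ a ∈ J, a • z = 0) :
    ∃ w : S ⊗[R] (tors N J), (tors N J).subtype.lTensor S w = z := by
  obtain ⟨s, rfl⟩ := hJ
  let f : N →ₗ[R] (s → N) := LinearMap.pi fun a => LinearMap.lsmul R N a.1
  have hker : LinearMap.ker f = tors N (Ideal.span (s : Set R)) := by
    ext y
    rw [LinearMap.mem_ker, mem_tors]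
    constructor
    · intro h a ha
      induction ha using Submodule.span_induction with
      | mem x hx => exact congrFun h ⟨x, hx⟩
      | zero => simp
      | add x y _ _ hx hy => rw [add_smul, hx, hy, add_zero]
      | smul c x _ hx => rw [smul_eq_mul, mul_smul, hx, smul_zero]
    · intro h
      ext a
      exact h a.1 (Ideal.subset_span a.2)
  have hex : Function.Exact (tors N (Ideal.span (s : Set R))).subtype f := by
    rw [← hker]
    exact LinearMap.exact_subtype_ker_map f
  have hex' := Module.Flat.lTensor_exact S hex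
  apply (hex' z).1
  classical
  have hinj : Function.Injective (TensorProduct.piRight R R S (fun _ : s => N)) :=
    (TensorProduct.piRight R R S (fun _ : s => N)).injective
  apply hinj
  rw [map_zero]
  ext a
  have : ∀ z : S ⊗[R] N, (TensorProduct.piRight R R S (fun _ : s => N)) (f.lTensor S z) a = a.1 • z := by
    intro z
    induction z using TensorProduct.induction_on with
    | zero => simp
    | tmul s y =>
      simp only [LinearMap.lTensor_tmul, TensorProduct.piRight_apply, TensorProduct.piRightHom_tmul]
      simp [f]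
    | add x y hx hy => rw [map_add, map_add, Pi.add_apply, hx, hy, smul_add]
  rw [this]
  exact hz _ (Ideal.subset_span a.2)

open TensorProduct in
/-- Stacks Tag 05EC (2): let `R → S` be flat and `I ⊆ R` a finitely generated ideal with `R/I → S/IS` bijective. If one of the `R`-modules `M`, `N` has every
element killed by a power of `I`, then base change of linear maps `Hom_R(M, N) → Hom_S(S ⊗ M, S ⊗ N)` is bijective. -/
theorem result {R S M N : Type u} [CommRing R] [CommRing S]
    [Algebra R S] [Module.Flat R S] (I : Ideal R) (hI : I.FG)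
    (hq : Function.Bijective (algebraMap (R ⧸ I) (S ⧸ I.map (algebraMap R S))))
    [AddCommGroup M] [Module R M] [AddCommGroup N] [Module R N]
    (hMN : (∀ x : M, ∃ n : ℕ, ∀ a ∈ I ^ n, a • x = 0) ∨ (∀ y : N, ∃ n : ℕ, ∀ a ∈ I ^ n, a • y = 0)) :
    Function.Bijective (fun f : M →ₗ[R] N => LinearMap.baseChange S f) := by
  -- Step 1: torsion elements
  have key : ∀ (n : ℕ), Function.Bijective (phi R S (tors N (I ^ n))) := fun n =>
    phi_bijective_of_pow I hq n _ (by
      rintro a ha ⟨y, hy⟩
      ext
      exact hy a ha)
  have key1 : ∀ (n : ℕ) (y : N), (∀ a ∈ I ^ n, a • y = 0) → phi R S N y = 0 → y = 0 := by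
    intro n y hy h0
    have hinj : Function.Injective ((tors N (I ^ n)).subtype.lTensor S) :=
      Module.Flat.lTensor_preserves_injective_linearMap _ (Submodule.injective_subtype _)
    have : (tors N (I ^ n)).subtype.lTensor S (phi R S _ ⟨y, hy⟩) = 0 := by
      rw [lTensor_phi]; exact h0
    rw [map_eq_zero_iff _ hinj, map_eq_zero_iff _ (key n).1] at this
    exact congrArg Subtype.val this
  have key2 : ∀ (n : ℕ) (z : S ⊗[R] N), (∀ a ∈ I ^ n, a • z = 0) →
      ∃ y : N, (∀ a ∈ I ^ n, a • y = 0) ∧ phi R S N y = z := by
    intro n z hz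
    obtain ⟨w, hw⟩ := tors_tensor (I ^ n) (Ideal.FG.pow hI) z hz
    obtain ⟨⟨y, hy⟩, rfl⟩ := (key n).2 w
    rw [lTensor_phi] at hw
    exact ⟨y, hy, hw⟩
  -- Step 2 : reduction to Hom_R (M, S ⊗ N)
  have main : (∀ f : M →ₗ[R] N, (∀ x, phi R S N (f x) = 0) → f = 0) ∧
      (∀ g : M →ₗ[R] S ⊗[R] N, ∃ f : M →ₗ[R] N, ∀ x, phi R S N (f x) = g x) := by
    rcases hMN with hM | hN
    · have hpow : ∀ (x : M), ∃ n : ℕ, ∀ a ∈ I ^ n, a • x = 0 := hM
      refine ⟨?_, ?_⟩
      · intro f hf
        ext x
        obtain ⟨n, hn⟩ := hM x
        exact key1 n _ (fun a ha => by rw [← map_smul, hn a ha, map_zero]) (hf x)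
      · intro g
        have hex : ∀ x : M, ∃ y : N, (∃ n : ℕ, ∀ a ∈ I ^ n, a • y = 0) ∧ phi R S N y = g x := by
          intro x
          obtain ⟨n, hn⟩ := hM x
          obtain ⟨y, hy, h⟩ := key2 n (g x) (fun a ha => by rw [← map_smul, hn a ha, map_zero])
          exact ⟨y, ⟨n, hy⟩, h⟩
        have huniq : ∀ y y' : N, (∃ n : ℕ, ∀ a ∈ I ^ n, a • y = 0) → (∃ n : ℕ, ∀ a ∈ I ^ n, a • y' = 0) →
            phi R S N y = phi R S N y' → y = y' := by
          rintro y y' ⟨n, hn⟩ ⟨n', hn'⟩ h
          rw [← sub_eq_zero]
          apply key1 (n + n')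
          · intro a ha
            rw [smul_sub, hn a (Ideal.pow_le_pow_right (Nat.le_add_right _ _) ha),
              hn' a (Ideal.pow_le_pow_right (Nat.le_add_left _ _) ha), sub_zero]
          · rw [map_sub, h, sub_self]
        choose F hF1 hF2 using hex
        refine ⟨{ toFun := F, map_add' := ?_, map_smul' := ?_ }, hF2⟩
        · intro x x'
          apply huniq _ _ (hF1 _)
          · obtain ⟨n, hn⟩ := hF1 x
            obtain ⟨n', hn'⟩ := hF1 x'
            refine ⟨n + n', fun a ha => ?_⟩
            rw [smul_add, hn a (Ideal.pow_le_pow_right (Nat.le_add_right _ _) ha),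
              hn' a (Ideal.pow_le_pow_right (Nat.le_add_left _ _) ha), add_zero]
          · rw [hF2, map_add, map_add, hF2, hF2]
        · intro c x
          rw [RingHom.id_apply]
          apply huniq _ _ (hF1 _)
          · obtain ⟨n, hn⟩ := hF1 x
            refine ⟨n, fun a ha => ?_⟩
            rw [smul_comm, hn a ha, smul_zero]
          · rw [hF2, map_smul, map_smul, hF2]
    · have hbij : Function.Bijective (phi R S N) := by
        constructor
        · rw [injective_iff_map_eq_zero]
          intro y hy
          obtain ⟨n, hn⟩ := hN y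
          exact key1 n y hn hy
        · intro z
          induction z using TensorProduct.induction_on with
          | zero => exact ⟨0, by simp⟩
          | tmul s y =>
            obtain ⟨n, hn⟩ := hN y
            obtain ⟨w, hw⟩ := (key n).2 (s ⊗ₜ ⟨y, hn⟩)
            refine ⟨w.1, ?_⟩
            have := congrArg ((tors N (I ^ n)).subtype.lTensor S) hw
            rw [lTensor_phi] at this
            simpa using this
          | add x y hx hy =>
            obtain ⟨a, rfl⟩ := hx
            obtain ⟨b, rfl⟩ := hy
            exact ⟨a + b, by simp⟩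
      let e := LinearEquiv.ofBijective _ hbij
      refine ⟨?_, ?_⟩
      · intro f hf
        ext x
        have := hf x
        rwa [map_eq_zero_iff _ hbij.1] at this
      · intro g
        refine ⟨e.symm.toLinearMap ∘ₗ g, fun x => ?_⟩
        exact e.apply_symm_apply (g x)
  constructor
  · intro f g hfg
    have : f - g = 0 := by
      apply main.1
      intro x
      have := LinearMap.congr_fun hfg ((1 : S) ⊗ₜ[R] x)
      simp only [LinearMap.baseChange_tmul] at this
      rw [LinearMap.sub_apply, map_sub, phi_apply, phi_apply, this, sub_self]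
    rwa [sub_eq_zero] at this
  · intro G
    let g : M →ₗ[R] S ⊗[R] N := (G.restrictScalars R) ∘ₗ phi R S M
    obtain ⟨f, hf⟩ := main.2 g
    refine ⟨f, ?_⟩
    apply TensorProduct.AlgebraTensorModule.ext
    intro s x
    simp only [LinearMap.baseChange_tmul]
    have h1 : s ⊗ₜ[R] f x = s • phi R S N (f x) := by
      rw [phi_apply, TensorProduct.smul_tmul', smul_eq_mul, mul_one]
    have h2 : s ⊗ₜ[R] x = s • phi R S M x := by
      rw [phi_apply, TensorProduct.smul_tmul', smul_eq_mul, mul_one]
    rw [h1, hf, h2, map_smul]
    rfl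

end Groth.Agent.S2055
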