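import Groth.Statements.S2057
-- import your own Groth.Agent.* helpers here
import Mathlib.LinearAlgebra.TensorProduct.Vanishing
import Mathlib.Algebra.Colimit.TensorProduct
import Mathlib.RingTheory.TensorProduct.Finite
import Mathlib.Algebra.Module.FinitePresentation

set_option autoImplicit false
universe u
open CAlg

namespace Groth.Agent.S2057

open TensorProduct in
theorem exists_sum_tmul {R J M : Type u} [CommRing R] [AddCommGroup J] [Module R J]
    [AddCommGroup M] [Module R M] {n : ℕ} (g : Fin n → J)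
    (hg : Submodule.span R (Set.range g) = ⊤) (t : J ⊗[R] M) :
    ∃ x : Fin n → M, t = ∑ i, g i ⊗ₜ[R] x i := by
  induction t with
  | zero => exact ⟨0, by simp⟩
  | tmul j m =>
    have hj : j ∈ Submodule.span R (Set.range g) := hg ▸ Submodule.mem_top
    rw [Submodule.mem_span_range_iff_exists_fun] at hj
    obtain ⟨c, rfl⟩ := hj
    refine ⟨fun i => c i • m, ?_⟩
    simp [TensorProduct.sum_tmul, TensorProduct.smul_tmul]
  | add a b ha hb =>
    obtain ⟨x, rfl⟩ := ha
    obtain ⟨y, rfl⟩ := hb
    exact ⟨x + y, by simp [TensorProduct.tmul_add, Finset.sum_add_distrib]⟩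

open TensorProduct in
/-- The equational condition implies universal injectivity. -/
theorem universallyInjective_of_equational {R M₁ M₂ : Type u} [CommRing R] [AddCommGroup M₁]
    [Module R M₁] [AddCommGroup M₂] [Module R M₂] (f : M₁ →ₗ[R] M₂)
    (h : ∀ (n m : ℕ) (x : Fin n → M₁) (y : Fin m → M₂) (a : Fin n → Fin m → R),
        (∀ i, f (x i) = ∑ j, a i j • y j) → ∃ z : Fin m → M₁, ∀ i, x i = ∑ j, a i j • z j) :
    CAlgX.UniversallyInjective R f := by
  intro Q _ _
  rw [injective_iff_map_eq_zero]
  intro x hx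
  -- pass to `Q ⊗ M₁`
  obtain ⟨J, hJ, y, hy⟩ := Submodule.exists_fg_le_eq_rTensor_subtype (TensorProduct.comm R M₁ Q x)
  have h1 : (f.lTensor Q) (TensorProduct.comm R M₁ Q x) = 0 := by
    have := LinearMap.congr_fun (LinearMap.comm_comp_rTensor_comp_comm_eq f (Q := Q)) (TensorProduct.comm R M₁ Q x)
    simp only [LinearMap.comp_apply, LinearEquiv.coe_coe] at this
    rw [← this]
    have h2 : (TensorProduct.comm R Q M₁) ((TensorProduct.comm R M₁ Q) x) = x := by
      rw [← TensorProduct.comm_symm]; simp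
    rw [h2, hx, map_zero]
  have h3 : J.subtype.rTensor M₂ (f.lTensor J y) = J.subtype.rTensor M₂ 0 := by
    rw [map_zero, ← h1, hy, ← LinearMap.comp_apply, ← LinearMap.comp_apply,
      LinearMap.rTensor_comp_lTensor, LinearMap.lTensor_comp_rTensor]
  obtain ⟨J', hJ', hle, h4⟩ := hJ.exists_rTensor_fg_inclusion_eq h3
  rw [map_zero] at h4
  set y' := (Submodule.inclusion hle).rTensor M₁ y with hy'
  have h5 : f.lTensor J' y' = 0 := by
    rw [← h4, hy', ← LinearMap.comp_apply, ← LinearMap.comp_apply,
      LinearMap.rTensor_comp_lTensor, LinearMap.lTensor_comp_rTensor]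
  have h6 : (TensorProduct.comm R M₁ Q x) = J'.subtype.rTensor M₁ y' := by
    rw [hy, hy', ← LinearMap.comp_apply, ← LinearMap.rTensor_comp]
    rfl
  suffices hzero : y' = 0 by
    rw [hzero, map_zero] at h6
    exact (TensorProduct.comm R M₁ Q).map_eq_zero_iff.mp h6
  have : Module.Finite R J' := Module.Finite.iff_fg.mpr hJ'
  obtain ⟨n, g, hg⟩ := Module.Finite.exists_fin (R := R) (M := J')
  obtain ⟨xs, hxs⟩ := exists_sum_tmul g hg y'
  have h7 : ∑ i, g i ⊗ₜ[R] f (xs i) = (0 : J' ⊗[R] M₂) := by
    rw [← h5, hxs]; simp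
  obtain ⟨k, a, z, hz1, hz2⟩ := TensorProduct.vanishesTrivially_of_sum_tmul_eq_zero R hg h7
  obtain ⟨w, hw⟩ := h n k xs z a hz1
  rw [hxs]
  exact TensorProduct.sum_tmul_eq_zero_of_vanishesTrivially R ⟨k, a, w, hw, hz2⟩

open TensorProduct in
/-- Injectivity after tensoring with finitely presented modules implies the equational condition. -/
theorem equational_of_finitePresentation {R M₁ M₂ : Type u} [CommRing R] [AddCommGroup M₁]
    [Module R M₁] [AddCommGroup M₂] [Module R M₂] (f : M₁ →ₗ[R] M₂)
    (h : ∀ (Q : Type u) [AddCommGroup Q] [Module R Q], Module.FinitePresentation R Q →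
        Function.Injective (f.rTensor Q))
    (n m : ℕ) (x : Fin n → M₁) (y : Fin m → M₂) (a : Fin n → Fin m → R)
    (hxy : ∀ i, f (x i) = ∑ j, a i j • y j) : ∃ z : Fin m → M₁, ∀ i, x i = ∑ j, a i j • z j := by
  let K : Submodule R (Fin n → R) := Submodule.span R (Set.range fun j : Fin m => fun i => a i j)
  let Q := (Fin n → R) ⧸ K
  have hKfg : K.FG := Submodule.fg_span (Set.finite_range _)
  have : Module.FinitePresentation R Q :=
    Module.finitePresentation_of_surjective K.mkQ (Submodule.mkQ_surjective K) (by rwa [Submodule.ker_mkQ])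
  let q : Fin n → Q := fun i => K.mkQ (Pi.single i 1)
  have hq : Submodule.span R (Set.range q) = ⊤ := by
    have : Set.range q = K.mkQ '' (Set.range fun i : Fin n => (Pi.single i (1 : R) : Fin n → R)) := by
      rw [← Set.range_comp]; rfl
    rw [this, Submodule.span_image]
    have h2 : Submodule.span R (Set.range fun i : Fin n => (Pi.single i (1 : R) : Fin n → R)) = ⊤ := by
      have h3 := (Pi.basisFun R (Fin n)).span_eq
      have h4 : (fun i : Fin n => (Pi.single i (1 : R) : Fin n → R)) = Pi.basisFun R (Fin n) := by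
        funext i; simp [Pi.basisFun_apply]
      rw [h4]; exact h3
    rw [h2, Submodule.map_top, Submodule.range_mkQ]
  have hrel : ∀ (c : Fin n → R), ∑ i, c i • q i = K.mkQ c := by
    intro c
    simp only [q, ← map_smul, ← map_sum]
    congr 1
    ext i
    simp [Finset.sum_apply, Pi.single_apply]
  have hinj := h Q inferInstance
  -- the element `∑ x i ⊗ q i`
  have hz : ∑ i, x i ⊗ₜ[R] q i = (0 : M₁ ⊗[R] Q) := by
    apply hinj
    rw [map_zero, map_sum]
    simp only [LinearMap.rTensor_tmul, hxy, TensorProduct.sum_tmul]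
    rw [Finset.sum_comm]
    refine Finset.sum_eq_zero fun j _ => ?_
    have : ∑ i, (a i j • y j) ⊗ₜ[R] q i = y j ⊗ₜ[R] (∑ i, a i j • q i) := by
      simp [TensorProduct.tmul_sum, TensorProduct.smul_tmul]
    rw [this, hrel (fun i => a i j)]
    have : K.mkQ (fun i => a i j) = 0 := by
      rw [Submodule.mkQ_apply, Submodule.Quotient.mk_eq_zero]
      exact Submodule.subset_span ⟨j, rfl⟩
    rw [this, TensorProduct.tmul_zero]
  have hz' : ∑ i, q i ⊗ₜ[R] x i = (0 : Q ⊗[R] M₁) := by
    have := congrArg (TensorProduct.comm R M₁ Q) hz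
    simpa using this
  obtain ⟨k, b, w, hw1, hw2⟩ := TensorProduct.vanishesTrivially_of_sum_tmul_eq_zero R hq hz'
  have hmem : ∀ l : Fin k, ∃ c : Fin m → R, ∑ j, c j • (fun i => a i j) = fun i => b i l := by
    intro l
    have h1 := hw2 l
    rw [hrel (fun i => b i l), Submodule.mkQ_apply, Submodule.Quotient.mk_eq_zero] at h1
    exact (Submodule.mem_span_range_iff_exists_fun R).mp h1
  choose c hc using hmem
  refine ⟨fun j => ∑ l, c l j • w l, fun i => ?_⟩
  rw [hw1 i]
  have hb : ∀ l, b i l = ∑ j, c l j * a i j := by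
    intro l
    have := congrFun (hc l) i
    simpa [Finset.sum_apply] using this.symm
  simp only [hb, Finset.sum_smul, Finset.smul_sum, smul_smul]
  rw [Finset.sum_comm]
  refine Finset.sum_congr rfl fun j _ => Finset.sum_congr rfl fun l _ => ?_
  rw [mul_comm]

/-- Stacks Tag 058K, (1) iff (3): an injective linear map `f : M₁ → M₂` is universally injective if and only if: whenever
elements `x_i` of `M₁` satisfy `f(x_i) = Σ_j a_{ij} y_j` for some `y_j ∈ M₂` and scalars `a_{ij}`, there are `z_j ∈ M₁`
with `x_i = Σ_j a_{ij} z_j`. -/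
theorem result {R M₁ M₂ : Type u} [CommRing R] [AddCommGroup M₁]
    [Module R M₁] [AddCommGroup M₂] [Module R M₂] (f : M₁ →ₗ[R] M₂) (hf : Function.Injective f) :
    CAlgX.UniversallyInjective R f ↔
      ∀ (n m : ℕ) (x : Fin n → M₁) (y : Fin m → M₂) (a : Fin n → Fin m → R),
        (∀ i, f (x i) = ∑ j, a i j • y j) → ∃ z : Fin m → M₁, ∀ i, x i = ∑ j, a i j • z j := by
  constructor
  · intro h n m x y a hxy
    exact equational_of_finitePresentation f (fun Q _ _ _ => h Q) n m x y a hxy
  · exact universallyInjective_of_equational f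

end Groth.Agent.S2057
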