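import Groth.Statements.S2056
-- import your own Groth.Agent.* helpers here
import Groth.Agent.S2057

set_option autoImplicit false
universe u
open CAlg

namespace Groth.Agent.S2056

/-- Stacks Tag 058K, (1) iff (2): a linear map of `R`-modules is universally injective (injective after tensoring with
any module) if and only if it is injective after tensoring with every finitely presented module. -/
theorem result {R M N : Type u} [CommRing R] [AddCommGroup M]
    [Module R M] [AddCommGroup N] [Module R N] (f : M →ₗ[R] N) :
    CAlgX.UniversallyInjective R f ↔
      ∀ (Q : Type u) [AddCommGroup Q] [Module R Q], Module.FinitePresentation R Q →
        Function.Injective (f.rTensor Q) := by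
  constructor
  · intro h Q _ _ _
    exact h Q
  · intro h
    exact Groth.Agent.S2057.universallyInjective_of_equational f
      (Groth.Agent.S2057.equational_of_finitePresentation f h)

end Groth.Agent.S2056
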