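import Groth.Statements.S2058
import Mathlib.RingTheory.HopkinsLevitzki
import Mathlib.RingTheory.Ideal.AssociatedPrime.Finiteness
import Mathlib.RingTheory.Regular.IsSMulRegular
import Mathlib.RingTheory.Localization.FractionRing

set_option autoImplicit false
universe u
open CAlg

namespace Groth.Agent.S2058

open IsLocalRing Submodule

/-- A finite module over a Noetherian local ring such that the maximal ideal is not associated has
a regular element in the maximal ideal. -/
lemma exists_regular {R M : Type u} [CommRing R] [IsLocalRing R] [IsNoetherianRing R]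
    [AddCommGroup M] [Module R M] [Module.Finite R M]
    (h : maximalIdeal R ∉ associatedPrimes R M) :
    ∃ x ∈ maximalIdeal R, IsSMulRegular M x := by
  cases subsingleton_or_nontrivial M
  · exact ⟨0, Submodule.zero_mem _, IsSMulRegular.zero⟩
  by_contra! hx
  obtain ⟨Ia, hIa⟩ := associatedPrimes.nonempty R M
  have hexist : ∃ p ∈ associatedPrimes R M, maximalIdeal R ≤ p := by
    apply (Ideal.subset_union_prime_finite (associatedPrimes.finite R M) Ia Ia _).mp
    · rw [biUnion_associatedPrimes_eq_compl_regular R M]
      exact fun r hr ↦ hx r hr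
    · exact fun I hin _ _ ↦ IsAssociatedPrime.isPrime hin
  obtain ⟨p, hp, hle⟩ := hexist
  have hpp : p.IsPrime := IsAssociatedPrime.isPrime hp
  have : p = maximalIdeal R := le_antisymm (le_maximalIdeal hpp.ne_top) hle
  exact h (this ▸ hp)

/-- Existence part of Stacks 0BHZ, depth zero case. -/
lemma case_depth_zero {R : Type u} [CommRing R] [IsLocalRing R] [IsNoetherianRing R]
    (h1 : ¬ IsArtinianRing R) (hm : maximalIdeal R ∈ associatedPrimes R R) :
    ∃ (R' : Type u) (_ : CommRing R') (_ : Algebra R R'), Nontrivial R' ∧ Module.Finite R R' ∧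
      ¬ Function.Bijective (algebraMap R R') ∧
      (∃ n : ℕ, (∀ x : R, algebraMap R R' x = 0 → ∀ a ∈ IsLocalRing.maximalIdeal R ^ n, a * x = 0) ∧
        (∀ y : R', ∀ a ∈ IsLocalRing.maximalIdeal R ^ n, a • y ∈ Set.range (algebraMap R R'))) ∧
      IsLocalRing.maximalIdeal R ∉ associatedPrimes R R' := by
  -- the ideals `ann(m^n)` stabilise
  have hmono : Monotone fun n : ℕ => ((maximalIdeal R ^ n : Ideal R).annihilator : Ideal R) := by
    intro a b hab
    exact Submodule.annihilator_mono (Ideal.pow_le_pow_right hab)
  obtain ⟨n, hn⟩ := monotone_stabilizes_iff_noetherian.mpr (inferInstance : IsNoetherian R R)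
    ⟨_, hmono⟩
  simp only [OrderHom.coe_mk] at hn
  set J : Ideal R := ((maximalIdeal R ^ n : Ideal R).annihilator : Ideal R) with hJ
  have memJ : ∀ x : R, x ∈ J ↔ ∀ a ∈ maximalIdeal R ^ n, a * x = 0 := by
    intro x
    rw [hJ, Submodule.mem_annihilator]
    simp only [smul_eq_mul, mul_comm]
  have memJ' : ∀ k, n ≤ k → ∀ x : R, (∀ a ∈ maximalIdeal R ^ k, a * x = 0) → x ∈ J := by
    intro k hk x hx
    rw [hn k hk, Submodule.mem_annihilator]
    intro a ha
    rw [smul_eq_mul, mul_comm]
    exact hx a ha
  obtain ⟨hprime, y, hy⟩ := isAssociatedPrime_iff.mp hm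
  have hy' : ∀ a ∈ maximalIdeal R, a * y = 0 := by
    intro a ha
    rw [hy, mem_colon_singleton, mem_bot] at ha
    exact ha
  have hy0 : y ≠ 0 := by
    rintro rfl
    apply hprime.ne_top
    rw [hy]
    simp
  have hJtop : J ≠ ⊤ := by
    intro htop
    apply h1
    rw [isArtinianRing_iff_isNilpotent_maximalIdeal]
    refine ⟨n, ?_⟩
    rw [Submodule.zero_eq_bot, eq_bot_iff]
    intro a ha
    have h1 : (1 : R) ∈ J := htop ▸ Submodule.mem_top
    have := (memJ 1).mp h1 a ha
    simpa using this
  refine ⟨R ⧸ J, inferInstance, inferInstance, Ideal.Quotient.nontrivial_iff.mpr hJtop,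
    inferInstance, ?_, ⟨n, ?_, ?_⟩, ?_⟩
  · intro hbij
    have hyJ : y ∈ J := by
      apply memJ' (n + 1) (Nat.le_succ n)
      intro a ha
      exact hy' a (Ideal.pow_le_self (Nat.succ_ne_zero n) ha)
    have : algebraMap R (R ⧸ J) y = 0 := by
      rw [Ideal.Quotient.algebraMap_eq, Ideal.Quotient.eq_zero_iff_mem]
      exact hyJ
    rw [← map_zero (algebraMap R (R ⧸ J))] at this
    exact hy0 (hbij.1 this)
  · intro x hx
    rw [Ideal.Quotient.algebraMap_eq, Ideal.Quotient.eq_zero_iff_mem] at hx
    exact (memJ x).mp hx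
  · intro y a _
    exact Ideal.Quotient.mk_surjective _
  · intro hass
    obtain ⟨hp, z, hz⟩ := isAssociatedPrime_iff.mp hass
    obtain ⟨z, rfl⟩ := Ideal.Quotient.mk_surjective z
    have hzJ : z ∈ J := by
      apply memJ' (n + 1) (Nat.le_succ n)
      intro a ha
      rw [pow_succ] at ha
      refine Submodule.mul_induction_on ha ?_ ?_
      · intro b hb c hc
        rw [hz, mem_colon_singleton, mem_bot, Algebra.smul_def, Ideal.Quotient.algebraMap_eq,
          ← map_mul, Ideal.Quotient.eq_zero_iff_mem] at hc
        have := (memJ _).mp hc b hb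
        rw [mul_assoc]
        exact this
      · intro b c hb hc
        rw [add_mul, hb, hc, add_zero]
    apply hp.ne_top
    rw [hz, Ideal.Quotient.eq_zero_iff_mem.mpr hzJ]
    simp

/-- Existence part of Stacks 0BHZ, depth one case. -/
lemma case_depth_one {R : Type u} [CommRing R] [IsLocalRing R] [IsNoetherianRing R]
    (h1 : ¬ IsArtinianRing R) (h2 : ¬ (IsRegularLocalRing R ∧ ringKrullDim R = 1))
    (x : R) (hxm : x ∈ maximalIdeal R) (hx : IsSMulRegular R x) (z : R)
    (hz : ∀ b, z ≠ x * b) (hzm : ∀ a ∈ maximalIdeal R, ∃ b, a * z = x * b) :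
    ∃ (R' : Type u) (_ : CommRing R') (_ : Algebra R R'), Nontrivial R' ∧ Module.Finite R R' ∧
      ¬ Function.Bijective (algebraMap R R') ∧
      (∃ n : ℕ, (∀ x : R, algebraMap R R' x = 0 → ∀ a ∈ IsLocalRing.maximalIdeal R ^ n, a * x = 0) ∧
        (∀ y : R', ∀ a ∈ IsLocalRing.maximalIdeal R ^ n, a • y ∈ Set.range (algebraMap R R'))) ∧
      IsLocalRing.maximalIdeal R ∉ associatedPrimes R R' := by
  let K := FractionRing R
  have hxnz : x ∈ nonZeroDivisors R := by
    rw [mem_nonZeroDivisors_iff_right]
    intro y hy
    apply hx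
    simp only [smul_eq_mul, mul_zero]
    rw [mul_comm]; exact hy
  have hinj : Function.Injective (algebraMap R K) := IsFractionRing.injective R K
  have hxunit : IsUnit (algebraMap R K x) := IsLocalization.map_units K ⟨x, hxnz⟩
  let S : Subalgebra R K :=
    { carrier := {k | ∀ a ∈ maximalIdeal R, ∃ b ∈ maximalIdeal R,
        k * algebraMap R K a = algebraMap R K b}
      mul_mem' := by
        intro k l hk hl a ha
        obtain ⟨b, hb, hb'⟩ := hl a ha
        obtain ⟨c, hc, hc'⟩ := hk b hb
        exact ⟨c, hc, by rw [mul_assoc, hb', hc']⟩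
      add_mem' := by
        intro k l hk hl a ha
        obtain ⟨b, hb, hb'⟩ := hl a ha
        obtain ⟨c, hc, hc'⟩ := hk a ha
        exact ⟨c + b, Ideal.add_mem _ hc hb, by rw [add_mul, hb', hc', map_add]⟩
      algebraMap_mem' := by
        intro r a ha
        exact ⟨r * a, Ideal.mul_mem_left _ _ ha, by rw [map_mul]⟩ }
  have memS : ∀ k : K, k ∈ S ↔ ∀ a ∈ maximalIdeal R, ∃ b ∈ maximalIdeal R,
        k * algebraMap R K a = algebraMap R K b := fun k => Iff.rfl
  -- `z / x` lies in `S`
  have hq : (IsLocalization.mk' K z ⟨x, hxnz⟩ : K) ∈ S := by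
    by_contra hq
    rw [memS] at hq
    push Not at hq
    obtain ⟨a, ha, hab⟩ := hq
    obtain ⟨b, hb⟩ := hzm a ha
    have hb' : (IsLocalization.mk' K z ⟨x, hxnz⟩ : K) * algebraMap R K a = algebraMap R K b := by
      apply hxunit.mul_left_cancel
      rw [← mul_assoc, mul_comm (algebraMap R K x), IsLocalization.mk'_spec, ← map_mul, ← map_mul,
        mul_comm z a, hb]
    have hbu : b ∉ maximalIdeal R := fun hbm => hab b hbm hb'
    have hbu : IsUnit b := by
      by_contra h
      exact hbu ((mem_maximalIdeal b).mpr h)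
    obtain ⟨u, rfl⟩ := hbu
    -- `t z = x`
    set t := a * (↑u⁻¹ : R) with ht
    have htm : t ∈ maximalIdeal R := Ideal.mul_mem_right _ _ ha
    have htz : t * z = x := by
      rw [ht, mul_right_comm, hb, mul_assoc, Units.mul_inv, mul_one]
    have hspan : maximalIdeal R = Ideal.span {t} := by
      apply le_antisymm
      · intro c hc
        obtain ⟨b', hb'⟩ := hzm c hc
        rw [Ideal.mem_span_singleton]
        refine ⟨b', ?_⟩
        have hznz : IsSMulRegular R z := by
          intro r s hrs
          apply hx
          simp only [smul_eq_mul] at hrs ⊢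
          calc x * r = t * (z * r) := by rw [← mul_assoc, htz]
            _ = t * (z * s) := by rw [hrs]
            _ = x * s := by rw [← mul_assoc, htz]
        apply hznz
        simp only [smul_eq_mul]
        calc z * c = x * b' := by rw [mul_comm, hb']
          _ = z * (t * b') := by rw [← htz]; ring
      · rw [Ideal.span_singleton_le_iff_mem]
        exact htm
    have hdim : 1 ≤ ringKrullDim R := by
      by_contra hlt
      apply h1
      rw [isArtinianRing_iff_krullDimLE_zero, Ring.krullDimLE_iff]
      push Not at hlt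
      exact Order.le_of_lt_succ hlt
    have hrank : (maximalIdeal R).spanFinrank ≤ 1 := by
      rw [hspan, ← Set.ncard_singleton t]
      exact Submodule.spanFinrank_span_le_ncard_of_finite (Set.finite_singleton t)
    apply h2
    constructor
    · apply IsRegularLocalRing.of_spanFinrank_maximalIdeal_le
      exact le_trans (by exact_mod_cast hrank) hdim
    · apply le_antisymm _ hdim
      exact (ringKrullDim_le_spanFinrank_maximalIdeal R).trans (by exact_mod_cast hrank)
  have hfin : Module.Finite R S := by
    -- choose for `k : S` the element `x * k ∈ R`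
    have hex : ∀ k : S, ∃ b : R, (k : K) * algebraMap R K x = algebraMap R K b := by
      intro k
      obtain ⟨b, _, hb⟩ := k.2 x hxm
      exact ⟨b, hb⟩
    choose g hg using hex
    let G : S →ₗ[R] R :=
      { toFun := g
        map_add' := by
          intro k l
          apply hinj
          rw [map_add, ← hg, ← hg, ← hg]
          push_cast
          ring
        map_smul' := by
          intro r k
          apply hinj
          rw [RingHom.id_apply, smul_eq_mul, map_mul, ← hg, ← hg, Subalgebra.coe_smul,
            Algebra.smul_def]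
          ring }
    have hG : Function.Injective G := by
      intro k l hkl
      have hkl' : g k = g l := hkl
      apply Subtype.ext
      apply hxunit.mul_right_cancel
      rw [hg, hg, hkl']
    exact Module.Finite.of_injective G hG
  refine ⟨S, inferInstance, inferInstance, inferInstance, hfin, ?_, ⟨1, ?_, ?_⟩, ?_⟩
  · intro hbij
    obtain ⟨b, hb⟩ := hbij.2 ⟨_, hq⟩
    have hb' : algebraMap R K b = IsLocalization.mk' K z ⟨x, hxnz⟩ := by
      have := congrArg (Subtype.val) hb
      exact this
    apply hz b
    apply hinj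
    rw [map_mul, hb', mul_comm, IsLocalization.mk'_spec]
  · intro y hy a _
    have : algebraMap R K y = 0 := by
      have := congrArg (Subtype.val) hy
      exact this
    rw [← map_zero (algebraMap R K)] at this
    rw [hinj this, mul_zero]
  · intro y a ha
    rw [pow_one] at ha
    obtain ⟨b, _, hb⟩ := y.2 a ha
    refine ⟨b, ?_⟩
    apply Subtype.ext
    change algebraMap R K b = _
    rw [← hb, Subalgebra.coe_smul, Algebra.smul_def, mul_comm]
  · intro hass
    obtain ⟨hp, w, hw⟩ := isAssociatedPrime_iff.mp hass
    have hxw : x ∈ (⊥ : Submodule R S).colon {w} := hw ▸ hxm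
    rw [mem_colon_singleton, mem_bot] at hxw
    have hw0 : w = 0 := by
      apply Subtype.ext
      have := congrArg (Subtype.val) hxw
      rw [Subalgebra.coe_smul, Algebra.smul_def] at this
      apply hxunit.mul_left_cancel
      rw [this]
      simp
    apply hp.ne_top
    rw [hw, hw0]
    simp

/-- Stacks Tag 0BHZ (the four cases cover everything; the source also shows they are mutually exclusive): let `R` be a
Noetherian local ring which is not Artinian, is not a regular local ring of dimension one, and has depth at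
most one. Then there is a finite ring map `R → R'` with `R' ≠ 0`, not bijective, whose kernel and cokernel
are killed by a power of the maximal ideal, such that the maximal ideal of `R` is not an associated prime of
the `R`-module `R'`. -/
theorem result {R : Type u} [CommRing R] [IsLocalRing R] [IsNoetherianRing R]
    (h1 : ¬ IsArtinianRing R) (h2 : ¬ (IsRegularLocalRing R ∧ ringKrullDim R = 1))
    (h3 : LocCoh.depth R R ≤ 1) :
    ∃ (R' : Type u) (_ : CommRing R') (_ : Algebra R R'), Nontrivial R' ∧ Module.Finite R R' ∧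
      ¬ Function.Bijective (algebraMap R R') ∧
      (∃ n : ℕ, (∀ x : R, algebraMap R R' x = 0 → ∀ a ∈ IsLocalRing.maximalIdeal R ^ n, a * x = 0) ∧
        (∀ y : R', ∀ a ∈ IsLocalRing.maximalIdeal R ^ n, a • y ∈ Set.range (algebraMap R R'))) ∧
      IsLocalRing.maximalIdeal R ∉ associatedPrimes R R' := by
  by_cases hm : maximalIdeal R ∈ associatedPrimes R R
  · exact case_depth_zero h1 hm
  obtain ⟨x, hxm, hx⟩ := exists_regular hm
  have hm2 : maximalIdeal R ∈ associatedPrimes R (QuotSMulTop x R) := by
    by_contra hm2
    obtain ⟨y, hym, hy⟩ := exists_regular hm2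
    have hreg : RingTheory.Sequence.IsWeaklyRegular R [x, y] := by
      rw [RingTheory.Sequence.isWeaklyRegular_cons_iff]
      refine ⟨hx, ?_⟩
      rw [RingTheory.Sequence.isWeaklyRegular_cons_iff]
      exact ⟨hy, RingTheory.Sequence.IsWeaklyRegular.nil _ _⟩
    have hne : ¬ (maximalIdeal R • (⊤ : Submodule R R) = ⊤) := by
      intro h
      have hne := (maximalIdeal.isMaximal R).ne_top
      apply hne
      rw [← h]
      simp
    unfold LocCoh.depth LocCoh.idealDepth at h3
    rw [if_neg hne] at h3
    have h2 : ((2 : ℕ) : ℕ∞) ≤ 1 := by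
      refine le_trans ?_ h3
      refine le_iSup₂_of_le [x, y] ⟨hreg, ?_⟩ ?_
      · intro r hr
        simp only [List.mem_cons, List.not_mem_nil, or_false] at hr
        rcases hr with rfl | rfl
        · exact hxm
        · exact hym
      · simp
    norm_num at h2
  obtain ⟨hp, z, hz⟩ := isAssociatedPrime_iff.mp hm2
  obtain ⟨z, rfl⟩ := Submodule.Quotient.mk_surjective _ z
  have key : ∀ w : R, (Submodule.Quotient.mk w : QuotSMulTop x R) = 0 ↔ ∃ b, w = x * b := by
    intro w
    rw [Submodule.Quotient.mk_eq_zero, Submodule.mem_smul_pointwise_iff_exists]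
    simp only [Submodule.mem_top, true_and, smul_eq_mul]
    exact ⟨fun ⟨b, hb⟩ => ⟨b, hb.symm⟩, fun ⟨b, hb⟩ => ⟨b, hb.symm⟩⟩
  refine case_depth_one h1 h2 x hxm hx z ?_ ?_
  · intro b hb
    apply hp.ne_top
    rw [hz, (key z).mpr ⟨b, hb⟩]
    simp
  · intro a ha
    rw [hz, mem_colon_singleton, mem_bot, ← Submodule.Quotient.mk_smul, key] at ha
    exact ha

end Groth.Agent.S2058
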