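import Groth.Statements.S2059
import Mathlib.RingTheory.Jacobson.Ring
import Mathlib.RingTheory.Algebraic.LinearIndependent
import Mathlib.RingTheory.MvPolynomial
import Mathlib.SetTheory.Cardinal.Finsupp
import Mathlib.RingTheory.Algebraic.Integral
import Mathlib.RingTheory.Localization.Away.Basic

set_option autoImplicit false
universe u
open CAlg

namespace Groth.Agent.S2059

open Cardinal in
theorem alg_of_card {k L ι : Type u} [Field k] [Field L] [Algebra k L] (g : ι → L)
    (hg : Function.Surjective (MvPolynomial.aeval (R := k) g)) (hinf : max #ι ℵ₀ < #k) :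
    Algebra.IsAlgebraic k L := by
  by_contra h
  rw [Algebra.isAlgebraic_def] at h
  push Not at h
  obtain ⟨x, hx⟩ := h
  have hx : Transcendental k x := hx
  have h2 := hx.linearIndependent_sub_inv.cardinal_le_rank
  have h3 : Module.rank k L ≤ #(ι →₀ ℕ) := by
    have := LinearMap.rank_le_of_surjective (MvPolynomial.aeval (R := k) g).toLinearMap hg
    rw [MvPolynomial.rank_eq_lift] at this
    simpa using this
  have h4 : #(ι →₀ ℕ) ≤ max #ι ℵ₀ := by
    rcases isEmpty_or_nonempty ι with h | h
    · have : #(ι →₀ ℕ) ≤ ℵ₀ := by
        have : Subsingleton (ι →₀ ℕ) := inferInstance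
        exact (Cardinal.le_one_iff_subsingleton.2 this).trans (one_le_aleph0)
      exact this.trans (le_max_right _ _)
    · rw [mk_finsupp_nat]
  exact absurd (h2.trans (h3.trans h4)) (not_le.2 hinf)

/-- Stacks Tag 00FU: let `k` be a field and `S` a `k`-algebra generated by a set of cardinality smaller than that of `k`. Then
for every maximal ideal `𝔪` of `S` the residue field `S/𝔪` is algebraic over `k`, and `S` is a Jacobson ring. -/
theorem result {k S : Type u} [Field k] [CommRing S] [Algebra k S]
    (s : Set S) (hs : Algebra.adjoin k s = ⊤) (hcard : Cardinal.mk s < Cardinal.mk k) :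
    (∀ (m : Ideal S) [m.IsMaximal], Algebra.IsAlgebraic k (S ⧸ m)) ∧ IsJacobsonRing S := by
  rcases s.finite_or_infinite with hfin | hinf
  · have : Algebra.FiniteType k S := ⟨⟨hfin.toFinset, by simpa using hs⟩⟩
    refine ⟨fun m hm => ?_, isJacobsonRing_of_finiteType (A := k)⟩
    letI := Ideal.Quotient.field m
    have := finite_of_finite_type_of_isJacobsonRing k (S ⧸ m)
    infer_instance
  · have hinf' : Cardinal.aleph0 ≤ Cardinal.mk s := by
      rw [Cardinal.infinite_iff.symm]
      exact hinf.to_subtype
    have hsurj : Function.Surjective (MvPolynomial.aeval (R := k) ((↑) : s → S)) := by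
      rw [← AlgHom.range_eq_top, ← Algebra.adjoin_range_eq_range_aeval]
      simpa using hs
    refine ⟨fun m hm => ?_, ?_⟩
    · letI := Ideal.Quotient.field m
      refine alg_of_card (k := k) (ι := s) (fun x => Ideal.Quotient.mkₐ k m x.1) ?_ ?_
      · have : MvPolynomial.aeval (R := k) (fun x : s => Ideal.Quotient.mkₐ k m x.1) =
            (Ideal.Quotient.mkₐ k m).comp (MvPolynomial.aeval (R := k) ((↑) : s → S)) := by
          ext; simp
        rw [this]
        exact (Ideal.Quotient.mkₐ_surjective k m).comp hsurj
      · rw [max_eq_left hinf']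
        exact hcard
    · rw [isJacobsonRing_iff_prime_eq]
      intro P hP
      refine le_antisymm ?_ Ideal.le_jacobson
      intro f hf
      by_contra hfP
      let f' : S ⧸ P := Ideal.Quotient.mk P f
      have hf' : f' ≠ 0 := fun h => hfP (Ideal.Quotient.eq_zero_iff_mem.1 h)
      let B := Localization.Away f'
      have hB : Nontrivial B := by
        have := IsLocalization.isDomain_localization (M := Submonoid.powers f') (R := S ⧸ P)
          (powers_le_nonZeroDivisors_of_noZeroDivisors hf')
        exact IsDomain.toNontrivial
      obtain ⟨M, hM⟩ := Ideal.exists_maximal B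
      letI := Ideal.Quotient.field M
      let φ : S →ₐ[k] (B ⧸ M) := (Ideal.Quotient.mkₐ k M).comp ((IsScalarTower.toAlgHom k (S ⧸ P) B).comp (Ideal.Quotient.mkₐ k P))
      have hfinv : IsUnit (φ f) := by
        have : IsUnit (algebraMap (S ⧸ P) B f') := IsLocalization.Away.algebraMap_isUnit f'
        exact this.map (Ideal.Quotient.mkₐ k M)
      have halg : Algebra.IsAlgebraic k (B ⧸ M) := by
        refine alg_of_card (k := k) (ι := Option s) (fun x => x.elim (φ f)⁻¹ (fun x => φ x.1)) ?_ ?_
        · rw [← AlgHom.range_eq_top, ← Algebra.adjoin_range_eq_range_aeval, eq_top_iff]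
          set T := Algebra.adjoin k (Set.range fun x : Option s => x.elim (φ f)⁻¹ (fun x => φ x.1)) with hT
          have h1 : (φ f)⁻¹ ∈ T := Algebra.subset_adjoin ⟨none, rfl⟩
          have h2 : ∀ x : S, φ x ∈ T := by
            intro x
            have : x ∈ Algebra.adjoin k s := by rw [hs]; trivial
            have h3 : φ x ∈ (Algebra.adjoin k s).map φ := ⟨x, this, rfl⟩
            rw [AlgHom.map_adjoin] at h3
            refine Algebra.adjoin_mono ?_ h3
            rintro _ ⟨y, hy, rfl⟩
            exact ⟨some ⟨y, hy⟩, rfl⟩
          rintro y -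
          obtain ⟨b, rfl⟩ := Ideal.Quotient.mk_surjective y
          obtain ⟨n, a, hn⟩ := IsLocalization.Away.surj f' b
          obtain ⟨a, rfl⟩ := Ideal.Quotient.mk_surjective a
          have h4 : Ideal.Quotient.mk M b * (φ f) ^ n = φ a := by
            have := congrArg (Ideal.Quotient.mk M) hn
            rw [map_mul, map_pow] at this
            exact this
          have h5 : Ideal.Quotient.mk M b = φ a * ((φ f)⁻¹) ^ n := by
            rw [← h4, mul_assoc, ← mul_pow, mul_inv_cancel₀ hfinv.ne_zero, one_pow, mul_one]
          rw [h5]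
          exact T.mul_mem (h2 a) (T.pow_mem h1 n)
        · have : Cardinal.mk (Option s) = Cardinal.mk s := by
            rw [Cardinal.mk_option]
            exact Cardinal.add_one_eq hinf'
          rw [this, max_eq_left hinf']
          exact hcard
      have hmax : (RingHom.ker φ).IsMaximal := by
        have h1 : IsField φ.range := Subalgebra.isField_of_algebraic φ.range
        have h2 : IsField (S ⧸ RingHom.ker φ) :=
          MulEquiv.isField h1 (Ideal.quotientKerEquivRange φ).toMulEquiv
        exact Ideal.Quotient.maximal_of_isField _ h2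
      have hle : P ≤ RingHom.ker φ := by
        intro x hx
        rw [RingHom.mem_ker]
        change Ideal.Quotient.mk M (algebraMap (S ⧸ P) B (Ideal.Quotient.mk P x)) = 0
        rw [Ideal.Quotient.eq_zero_iff_mem.2 hx, map_zero, map_zero]
      have : f ∈ RingHom.ker φ := by
        rw [Ideal.jacobson, Ideal.mem_sInf] at hf
        exact hf ⟨hle, hmax⟩
      rw [RingHom.mem_ker] at this
      exact hfinv.ne_zero this

end Groth.Agent.S2059
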