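import Groth.Statements.S2060
import Mathlib.RingTheory.Smooth.Local
import Mathlib.RingTheory.Filtration
import Mathlib.RingTheory.Derivation.ToSquareZero
import Mathlib.RingTheory.Kaehler.Polynomial
import Mathlib.RingTheory.Localization.Algebra
import Mathlib.LinearAlgebra.Dual.Lemmas
import Mathlib.RingTheory.Etale.Kaehler
import Mathlib.RingTheory.HopkinsLevitzki

set_option autoImplicit false
universe u
open CAlg

namespace Groth.Agent.S2060

open TensorProduct

/-- The kernel of `M → K ⊗ M` for `P → K` surjective. -/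
theorem mem_smul_top_of_one_tmul_eq_zero {P K M : Type*} [CommRing P] [CommRing K] [Algebra P K]
    [AddCommGroup M] [Module P M] (hs : Function.Surjective (algebraMap P K)) (x : M)
    (hx : (1 : K) ⊗ₜ[P] x = 0) :
    x ∈ (RingHom.ker (algebraMap P K)) • (⊤ : Submodule P M) := by
  let I := RingHom.ker (algebraMap P K)
  let e : (P ⧸ I) ≃ₐ[P] K := Ideal.quotientKerAlgEquivOfSurjective (f := Algebra.ofId P K) hs
  have h1 : (1 : P ⧸ I) ⊗ₜ[P] x = 0 := by
    have := congrArg (TensorProduct.congr e.symm.toLinearEquiv (LinearEquiv.refl P M)) hx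
    simpa using this
  have h2 := congrArg (TensorProduct.quotTensorEquivQuotSMul M I) h1
  rw [map_zero] at h2
  have h3 : (TensorProduct.quotTensorEquivQuotSMul M I) ((1 : P ⧸ I) ⊗ₜ[P] x) =
      Submodule.Quotient.mk x := by
    have := TensorProduct.quotTensorEquivQuotSMul_mk_tmul (M := M) I 1 x
    simp
  rw [h3] at h2
  exact (Submodule.Quotient.mk_eq_zero _).1 h2

open IsLocalRing KaehlerDifferential in
theorem core {R P A : Type u} [CommRing R] [CommRing P] [CommRing A] [Algebra R P] [Algebra P A]
    [Algebra R A] [IsScalarTower R P A] [IsLocalRing P] [IsNoetherianRing P] [IsLocalRing A]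
    (hs : Function.Surjective (algebraMap P A)) [Algebra.FormallySmooth R P]
    [Module.Free P Ω[P⁄R]] [Module.Finite P Ω[P⁄R]]
    (H : ∀ (B' B : Type u) [CommRing B'] [CommRing B] [IsLocalRing B'] [IsLocalRing B]
        [IsArtinianRing B'] [IsArtinianRing B] [Algebra R B'] [Algebra R B] (π : B' →ₐ[R] B),
        Function.Surjective π →
        (∃ t : B', RingHom.ker π.toRingHom = Ideal.span {t} ∧
          ∀ a ∈ IsLocalRing.maximalIdeal B', a * t = 0) →
        ∀ g : A →ₐ[R] B, (IsLocalRing.maximalIdeal B).comap g = maximalIdeal A →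
          ∃ g' : A →ₐ[R] B', π.comp g' = g) :
    Algebra.FormallySmooth R A := by
  classical
  have hker : (RingHom.ker (algebraMap P A)).FG := IsNoetherian.noetherian _
  rw [Algebra.FormallySmooth.iff_injective_cotangentComplexBaseChange_residueField P hs hker]
  rw [injective_iff_map_eq_zero]
  intro z hz
  let J : Ideal P := RingHom.ker (algebraMap P A)
  have hκ : Function.Surjective (algebraMap P (ResidueField A)) := by
    rw [IsScalarTower.algebraMap_eq P A (ResidueField A)]
    exact residue_surjective.comp hs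
  obtain ⟨j, hj⟩ := TensorProduct.mk_surjective P J (ResidueField A) hκ z
  rw [← hj] at hz ⊢
  clear hj z
  change (1 : ResidueField A) ⊗ₜ[P] j = 0
  by_contra hne
  obtain ⟨lam, hlam⟩ : ∃ lam : Module.Dual (ResidueField A) (ResidueField A ⊗[P] J),
      lam ((1 : ResidueField A) ⊗ₜ[P] j) ≠ 0 := by
    by_contra! h
    exact hne ((Module.forall_dual_apply_eq_zero_iff (ResidueField A) 
      ((1 : ResidueField A) ⊗ₜ[P] j)).1 h)
  have hloc : IsLocalHom (algebraMap P A) := IsLocalHom.of_surjective _ hs
  have hkerκ : ∀ a ∈ maximalIdeal P, algebraMap P (ResidueField A) a = 0 := by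
    intro a ha
    rw [IsScalarTower.algebraMap_apply P A (ResidueField A)]
    change residue A _ = 0
    rw [residue_eq_zero_iff]
    exact map_nonunit _ a ha
  have hkerκ' : RingHom.ker (algebraMap P (ResidueField A)) ≤ maximalIdeal P := by
    intro a ha
    by_contra hau
    have hu : IsUnit a := by simpa using hau
    have := hu.map (algebraMap P (ResidueField A))
    rw [RingHom.mem_ker] at ha
    rw [ha] at this
    exact not_isUnit_zero this
  -- the functional on `J`
  let ℓ : J →ₗ[P] ResidueField A :=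
    (lam.restrictScalars P) ∘ₗ TensorProduct.mk P (ResidueField A) J 1
  have hℓj : ℓ j ≠ 0 := hlam
  let K : Ideal P := Submodule.map (Submodule.subtype J) (LinearMap.ker ℓ)
  have hKJ : K ≤ J := by
    rintro x ⟨y, -, rfl⟩
    exact y.2
  have hmemK : ∀ y : J, (y : P) ∈ K ↔ ℓ y = 0 := by
    intro y
    constructor
    · rintro ⟨y', hy', h⟩
      have : y' = y := Subtype.ext h
      rw [← this]; exact hy'
    · intro h
      exact ⟨y, h, rfl⟩
  have hmJ : ∀ a ∈ maximalIdeal P, ∀ x ∈ J, a * x ∈ K := by
    intro a ha x hx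
    have h1 : a * x = ((a • (⟨x, hx⟩ : J) : J) : P) := rfl
    rw [h1, hmemK, map_smul, Algebra.smul_def, hkerκ a ha, zero_mul]
  obtain ⟨k, hk⟩ := Ideal.exists_pow_inf_eq_pow_smul (maximalIdeal P) J
  have hAR : ∀ x ∈ maximalIdeal P ^ (k + 1), x ∈ J → x ∈ K := by
    intro x hx hxJ
    have h1 : x ∈ maximalIdeal P ^ (k + 1) • (⊤ : Ideal P) ⊓ J := by
      refine ⟨?_, hxJ⟩
      simpa using hx
    rw [hk (k+1) (by omega)] at h1
    have h2 : k + 1 - k = 1 := by omega
    rw [h2, pow_one] at h1
    refine Submodule.smul_induction_on h1 ?_ ?_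
    · intro a ha y hy
      exact hmJ a ha y hy.2
    · intro a b ha hb
      exact K.add_mem ha hb
  have hJm : J ≤ maximalIdeal P := by
    intro x hx
    by_contra hxu
    have hu : IsUnit x := by simpa using hxu
    have := hu.map (algebraMap P A)
    rw [RingHom.mem_ker.1 hx] at this
    exact not_isUnit_zero this
  let I' : Ideal P := maximalIdeal P ^ (k+1) ⊔ K
  let I : Ideal P := maximalIdeal P ^ (k+1) ⊔ J
  have hI'I : I' ≤ I := sup_le_sup le_rfl hKJ
  have hIm : I ≤ maximalIdeal P := sup_le (Ideal.pow_le_self (by omega)) hJm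
  have hI'm : I' ≤ maximalIdeal P := hI'I.trans hIm
  have : Nontrivial (P ⧸ I') := Ideal.Quotient.nontrivial_iff.2 
    (fun h => (maximalIdeal.isMaximal P).ne_top (top_le_iff.1 (h ▸ hI'm)))
  have : Nontrivial (P ⧸ I) := Ideal.Quotient.nontrivial_iff.2 
    (fun h => (maximalIdeal.isMaximal P).ne_top (top_le_iff.1 (h ▸ hIm)))
  have : IsLocalRing (P ⧸ I') := IsLocalRing.of_surjective' (Ideal.Quotient.mk I') 
    Ideal.Quotient.mk_surjective
  have : IsLocalRing (P ⧸ I) := IsLocalRing.of_surjective' (Ideal.Quotient.mk I) 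
    Ideal.Quotient.mk_surjective
  have hl' : IsLocalHom (Ideal.Quotient.mk I') := IsLocalHom.of_surjective _ Ideal.Quotient.mk_surjective
  have hl : IsLocalHom (Ideal.Quotient.mk I) := IsLocalHom.of_surjective _ Ideal.Quotient.mk_surjective
  have hart : ∀ (I : Ideal P), maximalIdeal P ^ (k+1) ≤ I → ∀ (_ : IsLocalRing (P ⧸ I)),
      IsArtinianRing (P ⧸ I) := by
    intro I hle hloc
    rw [isArtinianRing_iff_isNilpotent_maximalIdeal]
    refine ⟨k+1, ?_⟩
    have : IsLocalHom (Ideal.Quotient.mk I) :=
      IsLocalHom.of_surjective _ Ideal.Quotient.mk_surjective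
    have h1 : maximalIdeal (P ⧸ I) = (maximalIdeal P).map (Ideal.Quotient.mk I) := by
      rw [← maximalIdeal_comap (Ideal.Quotient.mk I), 
        Ideal.map_comap_of_surjective _ Ideal.Quotient.mk_surjective]
    rw [h1, ← Ideal.map_pow, Submodule.zero_eq_bot, Ideal.map_eq_bot_iff_le_ker, Ideal.mk_ker]
    exact hle
  have := hart I' le_sup_left inferInstance
  have := hart I le_sup_left inferInstance
  let π : (P ⧸ I') →ₐ[R] (P ⧸ I) := Ideal.Quotient.factorₐ R hI'I
  have hπ : Function.Surjective π := Ideal.Quotient.factor_surjective hI'I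
  have hkerπ : RingHom.ker π.toRingHom = Ideal.span {Ideal.Quotient.mk I' j} := by
    apply le_antisymm
    · intro x hx
      obtain ⟨x, rfl⟩ := Ideal.Quotient.mk_surjective x
      have hx' : x ∈ I := by
        rw [← Ideal.Quotient.eq_zero_iff_mem]
        exact hx
      obtain ⟨a, ha, b, hb, rfl⟩ := Submodule.mem_sup.1 hx'
      obtain ⟨p, hp⟩ := hκ (ℓ ⟨b, hb⟩ / ℓ j)
      have hbK : b - p * j ∈ K := by
        have h1 : b - p * j = (((⟨b, hb⟩ : J) - p • j : J) : P) := rfl
        rw [h1, hmemK, map_sub, map_smul, Algebra.smul_def, hp, div_mul_cancel₀ _ hℓj, sub_self]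
      have h2 : Ideal.Quotient.mk I' (a + b) = Ideal.Quotient.mk I' p * Ideal.Quotient.mk I' j := by
        rw [← map_mul, Ideal.Quotient.eq]
        have : a + b - p * j = a + (b - p * j) := by ring
        rw [this]
        exact Submodule.add_mem_sup ha hbK
      rw [h2]
      exact Ideal.mul_mem_left _ _ (Ideal.mem_span_singleton_self _)
    · rw [Ideal.span_singleton_le_iff_mem]
      change π (Ideal.Quotient.mk I' j) = 0
      change Ideal.Quotient.mk I j = 0
      rw [Ideal.Quotient.eq_zero_iff_mem]
      exact Ideal.mem_sup_right j.2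
  have hsmall : ∀ a ∈ maximalIdeal (P ⧸ I'), a * Ideal.Quotient.mk I' j = 0 := by
    intro a ha
    obtain ⟨a, rfl⟩ := Ideal.Quotient.mk_surjective a
    have ha' : a ∈ maximalIdeal P := by
      rw [← maximalIdeal_comap (Ideal.Quotient.mk I')]
      exact ha
    rw [← map_mul, Ideal.Quotient.eq_zero_iff_mem]
    exact Ideal.mem_sup_right (hmJ a ha' j j.2)
  let toA : P →ₐ[R] A := IsScalarTower.toAlgHom R P A
  let g : A →ₐ[R] P ⧸ I := AlgHom.liftOfSurjective toA hs (Ideal.Quotient.mkₐ R I) (by
    intro x hx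
    change Ideal.Quotient.mk I x = 0
    rw [Ideal.Quotient.eq_zero_iff_mem]
    exact Ideal.mem_sup_right hx)
  have hg : ∀ x : P, g (algebraMap P A x) = Ideal.Quotient.mk I x := fun x =>
    AlgHom.liftOfSurjective_apply toA hs (Ideal.Quotient.mkₐ R I) _ x
  have hgs : Function.Surjective g := by
    intro y
    obtain ⟨y, rfl⟩ := Ideal.Quotient.mk_surjective y
    exact ⟨algebraMap P A y, hg y⟩
  have hgm : (maximalIdeal (P ⧸ I)).comap g = maximalIdeal A := by
    have : IsLocalHom (g : A →+* P ⧸ I) := IsLocalHom.of_surjective _ hgs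
    exact maximalIdeal_comap (g : A →+* P ⧸ I)
  obtain ⟨g', hg'⟩ := H (P ⧸ I') (P ⧸ I) π hπ ⟨_, hkerπ, hsmall⟩ g hgm
  -- the derivation
  let N : Ideal (P ⧸ I') := RingHom.ker π.toRingHom
  have hN : ∀ a ∈ maximalIdeal P, ∀ x : N, a • x = 0 := by
    intro a ha x
    have hx : (x : P ⧸ I') ∈ Ideal.span {Ideal.Quotient.mk I' (j : P)} := hkerπ ▸ x.2
    obtain ⟨c, hc⟩ := Ideal.mem_span_singleton'.1 hx
    ext
    change a • (x : P ⧸ I') = 0
    rw [← hc, Algebra.smul_def, mul_left_comm, hsmall, mul_zero]
    exact map_nonunit (Ideal.Quotient.mk I') a ha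
  have hN2 : N ^ 2 = ⊥ := by
    rw [pow_two, ← le_bot_iff, Ideal.mul_le]
    intro a ha b hb
    have ha' : a ∈ Ideal.span {Ideal.Quotient.mk I' (j : P)} := hkerπ ▸ ha
    have hb' : b ∈ Ideal.span {Ideal.Quotient.mk I' (j : P)} := hkerπ ▸ hb
    obtain ⟨c, rfl⟩ := Ideal.mem_span_singleton'.1 hb'
    rw [Ideal.mem_bot, mul_left_comm, hsmall a, mul_zero]
    obtain ⟨d, rfl⟩ := Ideal.mem_span_singleton'.1 ha'
    exact Ideal.mul_mem_left _ _ (map_nonunit (Ideal.Quotient.mk I') _ (hJm j.2))
  have he : (Ideal.Quotient.mkₐ R N).comp (g'.comp toA) =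
      IsScalarTower.toAlgHom R P ((P ⧸ I') ⧸ N) := by
    ext x
    change Ideal.Quotient.mk N (g' (algebraMap P A x)) = Ideal.Quotient.mk N (Ideal.Quotient.mk I' x)
    rw [Ideal.Quotient.eq]
    change π _ = 0
    rw [map_sub]
    have := congrArg (fun f => f (algebraMap P A x)) hg'
    simp only [AlgHom.comp_apply] at this
    rw [this, hg]
    exact sub_self _
  let D : Derivation R P N := derivationToSquareZeroOfLift N hN2 (g'.comp toA) he
  have hD : ((D j : N) : P ⧸ I') = - Ideal.Quotient.mk I' j := by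
    change g' (algebraMap P A j) - Ideal.Quotient.mk I' j = _
    rw [RingHom.mem_ker.1 j.2, map_zero, zero_sub]
  let φ : Ω[P⁄R] →ₗ[P] N := D.liftKaehlerDifferential
  have h1 : (1 : ResidueField A) ⊗ₜ[P] KaehlerDifferential.D R P (j : P) = 0 := by
    have := hz
    change cotangentComplexBaseChange R A P (ResidueField A) ((1 : ResidueField A) ⊗ₜ[P] j) = 0 at this
    rw [cotangentComplexBaseChange_tmul, one_smul, kerToTensor_apply] at this
    exact this
  have h2 := mem_smul_top_of_one_tmul_eq_zero hκ _ h1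
  have h3 : φ (KaehlerDifferential.D R P (j : P)) = 0 := by
    refine Submodule.smul_induction_on h2 ?_ ?_
    · intro a ha y hy
      rw [map_smul]
      exact hN a (hkerκ' ha) _
    · intro a b ha hb
      rw [map_add, ha, hb, add_zero]
  have h4 : D j = 0 := by
    rw [← h3]
    exact (D.liftKaehlerDifferential_comp_D j).symm
  rw [h4] at hD
  have h5 : Ideal.Quotient.mk I' (j : P) = 0 := by
    have : (0 : P ⧸ I') = - Ideal.Quotient.mk I' j := hD
    rw [← neg_eq_zero]; exact this.symm
  rw [Ideal.Quotient.eq_zero_iff_mem] at h5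
  obtain ⟨a, ha, b, hb, hab⟩ := Submodule.mem_sup.1 h5
  have haJ : a ∈ J := by
    have : a = j - b := by rw [← hab]; ring
    rw [this]
    exact J.sub_mem j.2 (hKJ hb)
  have hjK : (j : P) ∈ K := by
    rw [← hab]
    exact K.add_mem (hAR a ha haJ) hb
  exact hℓj ((hmemK j).1 hjK)

/-- Stacks Tag 02HT, (1) iff (3): let `R` be Noetherian, `S` of finite type over `R` and `𝔮` a prime of `S`. Then `R → S` is
smooth at `𝔮` if and only if for every surjection `B' → B` of Artinian local `R`-algebras whose kernel is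
principal and killed by the maximal ideal of `B'`, every `R`-algebra map `S → B` under which the maximal
ideal pulls back to `𝔮` lifts to `B'`. -/
theorem result {R S : Type u} [CommRing R] [IsNoetherianRing R]
    [CommRing S] [Algebra R S] [Algebra.FiniteType R S] (q : Ideal S) [q.IsPrime] :
    Algebra.IsSmoothAt R q ↔
      ∀ (B' B : Type u) [CommRing B'] [CommRing B] [IsLocalRing B'] [IsLocalRing B]
        [IsArtinianRing B'] [IsArtinianRing B] [Algebra R B'] [Algebra R B] (π : B' →ₐ[R] B),
        Function.Surjective π →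
        (∃ t : B', RingHom.ker π.toRingHom = Ideal.span {t} ∧
          ∀ a ∈ IsLocalRing.maximalIdeal B', a * t = 0) →
        ∀ g : S →ₐ[R] B, (IsLocalRing.maximalIdeal B).comap g = q →
          ∃ g' : S →ₐ[R] B', π.comp g' = g := by
  constructor
  · intro hsm B' B _ _ _ _ _ _ _ _ π hπ ⟨t, ht, htm⟩ g hg
    have hunit : ∀ y : q.primeCompl, IsUnit (g y) := by
      intro y
      by_contra h
      have h1 : (y : S) ∈ (IsLocalRing.maximalIdeal B).comap g := h
      rw [hg] at h1
      exact y.2 h1
    let gA : Localization.AtPrime q →ₐ[R] B := IsLocalization.liftAlgHom (M := q.primeCompl)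
      (f := g) hunit
    have hgA : ∀ s : S, gA (algebraMap S (Localization.AtPrime q) s) = g s := fun s =>
      IsLocalization.lift_eq _ s
    have hnil : IsNilpotent (RingHom.ker (π : B' →+* B)) := by
      refine ⟨2, ?_⟩
      have ht' : RingHom.ker (π : B' →+* B) = Ideal.span {t} := ht
      rw [ht', Ideal.span_singleton_pow, pow_two]
      have htmem : t ∈ IsLocalRing.maximalIdeal B' := by
        by_contra hu
        have hu' : IsUnit t := by simpa using hu
        have h1 : π t = 0 := by
          have : t ∈ RingHom.ker π.toRingHom := ht ▸ Ideal.mem_span_singleton_self t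
          exact this
        have := hu'.map π
        rw [h1] at this
        exact not_isUnit_zero this
      rw [htm t htmem]
      simp
    let g' := Algebra.FormallySmooth.liftOfSurjective gA π hπ hnil
    refine ⟨g'.comp (IsScalarTower.toAlgHom R S (Localization.AtPrime q)), ?_⟩
    ext s
    simp only [AlgHom.comp_apply, IsScalarTower.coe_toAlgHom']
    exact (Algebra.FormallySmooth.liftOfSurjective_apply gA π hπ hnil _).trans (hgA s)
  · intro H
    obtain ⟨n, f₀, hf₀⟩ := Algebra.FiniteType.iff_quotient_mvPolynomial''.mp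
      (inferInstance : Algebra.FiniteType R S)
    let Q : Ideal (MvPolynomial (Fin n) R) := q.comap f₀
    let M' := Q.primeCompl
    let P' := Localization.AtPrime Q
    let A := Localization.AtPrime q
    let fP : P' →ₐ[R] A := IsLocalization.liftAlgHom (M := M')
        (f := (IsScalarTower.toAlgHom R S A).comp f₀) fun x ↦ by
      have := IsLocalization.map_units (M := q.primeCompl) A ⟨f₀ x.1, x.2⟩
      exact this
    have hf₁ : Function.Surjective fP := by
      intro x
      obtain ⟨x, ⟨s, hs⟩, rfl⟩ := IsLocalization.exists_mk'_eq q.primeCompl x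
      obtain ⟨x, rfl⟩ := hf₀ x
      obtain ⟨s, rfl⟩ := hf₀ s
      refine ⟨IsLocalization.mk' (M := M') _ x ⟨s, hs⟩, ?_⟩
      refine (IsLocalization.lift_mk'_spec (M := M') (S := P') _ _ _ _).2 ?_
      change algebraMap S A (f₀ x) = algebraMap S A (f₀ s) * IsLocalization.mk' A (f₀ x) ⟨f₀ s, hs⟩
      exact (IsLocalization.mk'_spec' A (f₀ x) ⟨f₀ s, hs⟩).symm
    algebraize [fP.toRingHom]
    have : Algebra.FormallyEtale (MvPolynomial (Fin n) R) P' := .of_isLocalization M'
    have : Algebra.FormallySmooth R P' := .comp _ (MvPolynomial (Fin n) R) _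
    have : Module.Free P' Ω[P'⁄R] :=
      .of_equiv (KaehlerDifferential.tensorKaehlerEquivOfFormallyEtale R (MvPolynomial (Fin n) R) P')
    have : Module.Finite P' Ω[P'⁄R] :=
      .equiv (KaehlerDifferential.tensorKaehlerEquivOfFormallyEtale R (MvPolynomial (Fin n) R) P')
    have : IsNoetherianRing P' := IsLocalization.isNoetherianRing M' _ inferInstance
    refine core (P := P') (A := A) hf₁ ?_
    intro B' B _ _ _ _ _ _ _ _ π hπ hsm g hg
    obtain ⟨g', hg'⟩ := H B' B π hπ hsm (g.comp (IsScalarTower.toAlgHom R S A)) (by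
      have h1 : (IsLocalRing.maximalIdeal B).comap (g.comp (IsScalarTower.toAlgHom R S A)) =
        ((IsLocalRing.maximalIdeal B).comap g).comap (algebraMap S A) := rfl
      rw [h1, hg]
      exact Localization.AtPrime.under_maximalIdeal)
    have hπl : IsLocalHom (π : B' →+* B) := IsLocalHom.of_surjective _ hπ
    have hunit : ∀ y : q.primeCompl, IsUnit (g' y) := by
      intro y
      apply hπl.map_nonunit
      have h1 : (π : B' →+* B) (g' y) = g (algebraMap S A y) :=
        congrArg (fun f => f (y : S)) hg'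
      rw [h1]
      exact (IsLocalization.map_units A y).map g
    refine ⟨IsLocalization.liftAlgHom (M := q.primeCompl) (f := g') hunit, ?_⟩
    apply IsLocalization.algHom_ext q.primeCompl
    refine Eq.trans ?_ hg'
    ext s
    change π (IsLocalization.lift (M := q.primeCompl) _ (algebraMap S A s)) = π (g' s)
    rw [IsLocalization.lift_eq]
    rfl

end Groth.Agent.S2060
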