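import Groth.Statements.S2061
import Groth.Agent.S0559
import Groth.Agent.S0562
import Mathlib.RingTheory.Regular.ProjectiveDimension
import Mathlib.RingTheory.RegularLocalRing.Defs

set_option autoImplicit false
universe u
open CategoryTheory
open CAlg

namespace Groth.Agent.S2061

/-- Stacks Tag 00OA: for a Noetherian local ring `R` write `𝔪` for its maximal ideal and `κ` for its residue field. The projective dimension of
`κ` as an `R`-module is at least the `κ`-dimension of `𝔪/𝔪²`: if `κ` has projective dimension less than `d` then
`dim_κ 𝔪/𝔪² < d`. -/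
theorem result {R : Type u} [CommRing R] [IsLocalRing R]
    [IsNoetherianRing R] (d : ℕ)
    (hd : HasProjectiveDimensionLT (ModuleCat.of R (IsLocalRing.ResidueField R)) d) :
    Module.finrank (IsLocalRing.ResidueField R) (IsLocalRing.CotangentSpace R) < d := by
  have hreg : IsRegularLocalRing R := S0562.result R d hd
  have hcot : (Module.finrank (IsLocalRing.ResidueField R) (IsLocalRing.CotangentSpace R) :
      WithBot ℕ∞) = ringKrullDim R :=
    (IsRegularLocalRing.iff_finrank_cotangentSpace R).mp hreg
  have hspan : (IsLocalRing.maximalIdeal R).spanFinrank =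
      Module.finrank (IsLocalRing.ResidueField R) (IsLocalRing.CotangentSpace R) :=
    IsLocalRing.spanFinrank_maximalIdeal_eq_finrank_cotangentSpace R
  set n := Module.finrank (IsLocalRing.ResidueField R) (IsLocalRing.CotangentSpace R) with hn
  obtain ⟨s, hs, hs2⟩ := Submodule.FG.exists_span_finset_card_eq_spanFinrank
    (IsNoetherian.noetherian (IsLocalRing.maximalIdeal R))
  rw [hspan] at hs
  let e : Fin n ≃ s := (Finset.equivFinOfCardEq hs).symm
  let x : Fin n → R := fun i => (e i : R)
  have hx : Ideal.span (Set.range x) = IsLocalRing.maximalIdeal R := by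
    have : Set.range x = (s : Set R) := by
      ext y
      constructor
      · rintro ⟨i, rfl⟩
        exact (e i).2
      · intro hy
        exact ⟨e.symm ⟨y, hy⟩, by simp [x]⟩
    rw [this]
    exact hs2
  have hseq := S0559.result R n hcot.symm x hx
  have hpd := ModuleCat.projectiveDimension_quotient_eq_length.{u} (List.ofFn x) hseq
  have hid : Ideal.ofList (List.ofFn x) = IsLocalRing.maximalIdeal R := by
    rw [← hx, Ideal.ofList]
    congr 1
    ext y
    simp
  rw [List.length_ofFn] at hpd
  have e1 : (Shrink.{u} (R ⧸ Ideal.ofList (List.ofFn x))) ≃ₗ[R] IsLocalRing.ResidueField R :=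
    (Shrink.linearEquiv R _).trans (Submodule.quotEquivOfEq _ _ hid)
  rw [CategoryTheory.projectiveDimension_eq_of_iso e1.toModuleIso] at hpd
  have h2 := CategoryTheory.projectiveDimension_lt_iff.mpr hd
  rw [hpd] at h2
  exact_mod_cast h2

end Groth.Agent.S2061
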