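import Groth.Statements.S2064
import Groth.Agent.CalgB.DepthLite

set_option autoImplicit false
universe u
open CategoryTheory
open CAlg

namespace Groth.Agent.S2064

open Groth.Agent.CalgB.DepthLite in
/-- the opcycles short exact sequence -/
lemma opcycles_step {R : Type u} [CommRing R] [IsLocalRing R]
    (C : ChainComplex (ModuleCat.{u} R) ℕ) (j n : ℕ) (hex : C.ExactAt (j + 1))
    (h1 : EV (kk R) (C.opcycles (j + 1)) (n + 1)) (h2 : EV (kk R) (C.X j) n) :
    EV (kk R) (C.opcycles j) n := by
  let S : ShortComplex (ModuleCat.{u} R) :=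
    ShortComplex.mk (C.fromOpcycles (j + 1) j) (C.pOpcycles j) (by
      rw [← cancel_epi (C.pOpcycles (j + 1)), C.p_fromOpcycles_assoc, C.d_pOpcycles, Limits.comp_zero])
  have hex' : Limits.IsZero (C.homology (j + 1)) :=
    HomologicalComplex.ExactAt.isZero_homology hex
  have hnext : (ComplexShape.down ℕ).next (j + 1) = j := ChainComplex.next_nat_succ j
  have hprev : (ComplexShape.down ℕ).prev j = j + 1 := ChainComplex.prev ℕ j
  have hmono : Mono (C.fromOpcycles (j + 1) j) := by
    refine Preadditive.mono_of_cancel_zero _ (fun {Z} g hg => ?_)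
    have hk := C.homologyIsKernel (j + 1) j hnext
    obtain ⟨l, hl⟩ : ∃ l : Z ⟶ C.homology (j + 1), l ≫ C.homologyι (j + 1) = g :=
      ⟨_, (Limits.KernelFork.IsLimit.lift' hk g hg).2⟩
    rw [← hl, hex'.eq_of_tgt l 0, Limits.zero_comp]
  have hS : S.ShortExact :=
    { exact := by
        refine ShortComplex.exact_of_g_is_cokernel _ ?_
        refine Limits.CokernelCofork.IsColimit.ofπ _ _
          (fun {Z} g hg => C.descOpcycles g (j + 1) hprev (by
            have : C.pOpcycles (j + 1) ≫ C.fromOpcycles (j + 1) j ≫ g = 0 := by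
              rw [show C.fromOpcycles (j + 1) j ≫ g = 0 from hg, Limits.comp_zero]
            rwa [C.p_fromOpcycles_assoc] at this))
          (fun {Z} g hg => by simp [S])
          (fun {Z} g hg m hm => by
            rw [← cancel_epi (C.pOpcycles j)]
            simpa [S] using hm)
      mono_f := hmono
      epi_g := inferInstanceAs (Epi (C.pOpcycles j)) }
  exact EV.right hS h1 h2

/-- Stacks Tag 00N0 (acyclicity lemma): let `R` be a Noetherian local ring and `0 → M_e → M_{e-1} → … → M_0` a complex of
finite `R`-modules with `depth(M_j) ≥ j`. If `i > 0` is the largest index at which the complex is not exact,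
then the homology at `M_i` has depth at least one. -/
theorem result {R : Type u} [CommRing R] [IsLocalRing R] [IsNoetherianRing R]
    (C : ChainComplex (ModuleCat.{u} R) ℕ) (e : ℕ) (hzero : ∀ j, e < j → Limits.IsZero (C.X j))
    (hfin : ∀ j, Module.Finite R (C.X j)) (hdepth : ∀ j, j ≤ e → (j : ℕ∞) ≤ LocCoh.depth R (C.X j))
    (i : ℕ) (hi : 0 < i) (hnot : ¬ C.ExactAt i) (habove : ∀ j, i < j → C.ExactAt j) :
    1 ≤ LocCoh.depth R (C.homology i) := by
  classical
  have key : ∀ n j : ℕ, e + 1 = j + n → i ≤ j →
      Groth.Agent.CalgB.DepthLite.EV (Groth.Agent.CalgB.DepthLite.kk R) (C.opcycles j) j := by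
    intro n
    induction n with
    | zero =>
      intro j hj hij
      refine Groth.Agent.CalgB.DepthLite.EV.of_isZero ?_ j
      have hX : Limits.IsZero (C.X j) := hzero j (by omega)
      rw [Limits.IsZero.iff_id_eq_zero, ← cancel_epi (C.pOpcycles j)]
      rw [hX.eq_of_src (C.pOpcycles j) 0, Limits.zero_comp, Limits.zero_comp]
    | succ n ih =>
      intro j hj hij
      have h1 := ih (j + 1) (by omega) (by omega)
      refine opcycles_step C j j (habove (j + 1) (by omega)) h1 ?_
      have := hfin j
      exact (Groth.Agent.CalgB.DepthLite.le_depth_iff (M := C.X j) j).mp (hdepth j (by omega))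
  have hie : i ≤ e := by
    by_contra hlt
    apply hnot
    have hX : Limits.IsZero (C.X i) := hzero i (by omega)
    rw [HomologicalComplex.exactAt_iff_isZero_homology]
    have : Limits.IsZero (C.cycles i) := by
      rw [Limits.IsZero.iff_id_eq_zero, ← cancel_mono (C.iCycles i)]
      rw [hX.eq_of_tgt (C.iCycles i) 0, Limits.comp_zero, Limits.comp_zero]
    rw [Limits.IsZero.iff_id_eq_zero, ← cancel_epi (C.homologyπ i)]
    rw [this.eq_of_src (C.homologyπ i) 0, Limits.zero_comp, Limits.zero_comp]
  have hop := (key (e + 1 - i) i (by omega) le_rfl).mono (show 1 ≤ i from hi)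
  have hfinH : Module.Finite R (C.homology i) := by
    have := hfin i
    have : IsNoetherian R (C.X i) := isNoetherian_of_isNoetherianRing_of_finite R _
    have : IsNoetherian R (C.opcycles i) := by
      refine isNoetherian_of_surjective (C.pOpcycles i).hom ?_
      rw [LinearMap.range_eq_top]
      exact (ModuleCat.epi_iff_surjective _).mp inferInstance
    have : IsNoetherian R (C.homology i) := by
      refine isNoetherian_of_injective (C.homologyι i).hom ?_
      exact (ModuleCat.mono_iff_injective _).mp inferInstance
    infer_instance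
  rw [show (1 : ℕ∞) = ((1 : ℕ) : ℕ∞) from rfl, Groth.Agent.CalgB.DepthLite.le_depth_iff]
  exact Groth.Agent.CalgB.DepthLite.EV.left_one' (f := (C.homologyι i).hom)
    ((ModuleCat.mono_iff_injective _).mp inferInstance) hop

end Groth.Agent.S2064
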