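import Groth.Statements.S2065
import Groth.Agent.CalgB.BuchEis3
import Groth.Agent.CalgB.BuchEis4

set_option autoImplicit false
universe u
open CAlg

namespace Groth.Agent.S2065


open Groth.Agent.CalgB.BuchEis Groth.Agent.CalgB.Minors

lemma sum_step (e : ℕ) (n : ℕ → ℕ) (j : ℕ) (hj : j ≤ e) :
    ∑ t ∈ Finset.Icc j e, (-1 : ℤ) ^ (t - j) * (n t : ℤ) =
      n j - ∑ t ∈ Finset.Icc (j + 1) e, (-1 : ℤ) ^ (t - (j + 1)) * (n t : ℤ) := by
  have h1 : Finset.Icc j e = insert j (Finset.Icc (j + 1) e) := by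
    ext t
    simp only [Finset.mem_Icc, Finset.mem_insert]
    omega
  rw [h1, Finset.sum_insert (by simp), sub_eq_add_neg, ← Finset.sum_neg_distrib]
  congr 1
  · simp
  · refine Finset.sum_congr rfl (fun t ht => ?_)
    rw [Finset.mem_Icc] at ht
    have h2 : t - j = (t - (j + 1)) + 1 := by omega
    rw [h2, pow_succ]
    ring

lemma rk_sum {e : ℕ} {n r : ℕ → ℕ} (h : RK e n r) (j : ℕ) (h1 : 1 ≤ j) (h2 : j ≤ e + 1) :
    (r j : ℤ) = ∑ t ∈ Finset.Icc j e, (-1 : ℤ) ^ (t - j) * (n t : ℤ) := by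
  have key : ∀ k j, j + k = e + 1 → 1 ≤ j →
      (r j : ℤ) = ∑ t ∈ Finset.Icc j e, (-1 : ℤ) ^ (t - j) * (n t : ℤ) := by
    intro k
    induction k with
    | zero =>
      intro j hj _
      obtain rfl : j = e + 1 := by omega
      rw [h.1, Finset.Icc_eq_empty (by omega)]
      simp
    | succ k ih =>
      intro j hj hj1
      rw [sum_step e n j (by omega), ← ih (j + 1) (by omega) (by omega)]
      have := h.2 j hj1 (by omega)
      omega
  exact key (e + 1 - j) j (by omega) h1

/-- Stacks Tag 00N1: let `R` be a Noetherian local ring and `0 → R^{n_e} → … → R^{n_1} → R^{n_0}` a complex of finite free modules,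
the map `R^{n_{i+1}} → R^{n_i}` being given by the matrix `A i`. The complex is exact at `R^{n_e}, …, R^{n_1}` if and only if for
each `1 ≤ j ≤ e` the matrix of `R^{n_j} → R^{n_{j-1}}` has rank `n_j - n_{j+1} + … ± n_e` and its ideal of minors of that size is
the unit ideal or contains a regular sequence of length `j`. -/
theorem result {R : Type u} [CommRing R] [IsLocalRing R] [IsNoetherianRing R]
    (e : ℕ) (he : 1 ≤ e) (n : ℕ → ℕ) (A : (i : ℕ) → Matrix (Fin (n i)) (Fin (n (i + 1))) R)
    (hA : ∀ i, i + 2 ≤ e → A i * A (i + 1) = 0) :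
    (LinearMap.ker (A (e - 1)).mulVecLin = ⊥ ∧
        ∀ i, i + 2 ≤ e → LinearMap.ker (A i).mulVecLin = LinearMap.range (A (i + 1)).mulVecLin) ↔
      ∀ j, 1 ≤ j → j ≤ e →
        (CAlgX.matrixRank (A (j - 1)) : ℤ) = ∑ t ∈ Finset.Icc j e, (-1 : ℤ) ^ (t - j) * (n t : ℤ) ∧
          (CAlgX.detIdeal (A (j - 1)) = ⊤ ∨
            ∃ rs : List R, rs.length = j ∧ (∀ r ∈ rs, r ∈ CAlgX.detIdeal (A (j - 1))) ∧
              RingTheory.Sequence.IsRegular R rs) := by
  classical
  let A' : (i : ℕ) → Matrix (Fin (n i)) (Fin (n (i + 1))) R := fun i => if i < e then A i else 0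
  have hA'1 : ∀ i, i < e → A' i = A i := fun i hi => if_pos hi
  have hz : A' e = 0 := if_neg (lt_irrefl e)
  have hA' : ∀ i, i + 1 ≤ e → A' i * A' (i + 1) = 0 := by
    intro i hi
    rcases eq_or_lt_of_le hi with h | h
    · subst h
      rw [hz, Matrix.mul_zero]
    · rw [hA'1 i (by omega), hA'1 (i + 1) h]
      exact hA i h
  constructor
  · rintro ⟨hinj, hexact⟩
    have hex : ∀ i, i + 1 ≤ e → Ex (A' i) (A' (i + 1)) := by
      intro i hi v hv
      rcases eq_or_lt_of_le hi with h | h
      · subst h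
        rw [hA'1 i (by omega)] at hv
        refine ⟨0, ?_⟩
        rw [Matrix.mulVec_zero]
        have h1 : v ∈ LinearMap.ker (A (i + 1 - 1)).mulVecLin := hv
        rw [hinj] at h1
        exact ((Submodule.mem_bot R).mp h1).symm
      · rw [hA'1 i (by omega)] at hv
        rw [hA'1 (i + 1) h]
        have h1 : v ∈ LinearMap.ker (A i).mulVecLin := hv
        rw [hexact i h] at h1
        exact h1
    obtain ⟨q, hq⟩ := associatedPrimes.nonempty R R
    have hqp : q.IsPrime := IsAssociatedPrime.isPrime hq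
    obtain ⟨r, hr, -⟩ := exists_rk_at_assoc q hq e n A' hz hA' hex
    intro j hj1 hj2
    obtain ⟨k, rfl⟩ : ∃ k, j = k + 1 := ⟨j - 1, by omega⟩
    change (CAlgX.matrixRank (A k) : ℤ) = _ ∧ (CAlgX.detIdeal (A k) = ⊤ ∨
      ∃ rs : List R, rs.length = k + 1 ∧ (∀ r ∈ rs, r ∈ CAlgX.detIdeal (A k)) ∧
              RingTheory.Sequence.IsRegular R rs)
    obtain ⟨h1, h2⟩ := data_of_exact e R n r hr A' hz hA' hex k hj2
    rw [hA'1 k (by omega)] at h1 h2
    have hne : CAlgX.minorIdeal (A k) (r (k + 1)) ≠ ⊥ := by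
      rcases h2 with h2 | ⟨rs, hlen, hmem, hreg⟩
      · rw [h2]
        exact top_ne_bot
      · match rs with
        | [] => simp at hlen
        | a :: rs =>
          intro hbot
          have ha := hmem a List.mem_cons_self
          rw [hbot, Submodule.mem_bot] at ha
          rw [RingTheory.Sequence.isRegular_cons_iff] at hreg
          have h3 := hreg.1
          rw [ha, IsSMulRegular.zero_iff_subsingleton] at h3
          exact absurd h3 (not_subsingleton R)
    have hrank : CAlgX.matrixRank (A k) = r (k + 1) := matrixRank_eq hne h1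
    refine ⟨?_, ?_⟩
    · rw [hrank]
      exact rk_sum hr (k + 1) (by omega) (by omega)
    · unfold CAlgX.detIdeal
      rw [hrank]
      exact h2
  · intro h
    let r : ℕ → ℕ := fun j => CAlgX.matrixRank (A' (j - 1))
    have hre : r (e + 1) = 0 := by
      change CAlgX.matrixRank (A' e) = 0
      rw [hz]
      exact (SR_zero (R := R) _ _).matrixRank_eq
    have hrs : ∀ j, 1 ≤ j → j ≤ e + 1 →
        (r j : ℤ) = ∑ t ∈ Finset.Icc j e, (-1 : ℤ) ^ (t - j) * (n t : ℤ) := by
      intro j hj1 hj2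
      rcases eq_or_lt_of_le hj2 with h1 | h1
      · subst h1
        rw [hre, Finset.Icc_eq_empty (by omega)]
        simp
      · have h2 := (h j hj1 (by omega)).1
        change (CAlgX.matrixRank (A' (j - 1)) : ℤ) = _
        rw [hA'1 (j - 1) (by omega)]
        exact h2
    have hr : RK e n r := by
      refine ⟨hre, fun j hj1 hj2 => ?_⟩
      have h1 := hrs j hj1 (by omega)
      have h2 := hrs (j + 1) (by omega) (by omega)
      rw [sum_step e n j hj2, ← h2] at h1
      omega
    have hex := ex_of_data e n r hr A' hz hA'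
      (fun j hj => minorIdeal_matrixRank_succ (A' j))
      (by
        intro j hj
        have h1 := (h (j + 1) (by omega) hj).2
        change CAlgX.detIdeal (A j) = ⊤ ∨ (∃ rs : List R, rs.length = j + 1 ∧
          (∀ r ∈ rs, r ∈ CAlgX.detIdeal (A j)) ∧ RingTheory.Sequence.IsRegular R rs) at h1
        change CAlgX.minorIdeal (A' j) (CAlgX.matrixRank (A' j)) = ⊤ ∨ (∃ rs : List R,
          rs.length = j + 1 ∧ (∀ x ∈ rs, x ∈ CAlgX.minorIdeal (A' j) (CAlgX.matrixRank (A' j))) ∧
          RingTheory.Sequence.IsWeaklyRegular R rs)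
        rw [hA'1 j (by omega)]
        rcases h1 with h1 | ⟨rs, h2, h3, h4⟩
        · exact Or.inl h1
        · exact Or.inr ⟨rs, h2, h3, h4.1⟩)
    refine ⟨?_, ?_⟩
    · rw [LinearMap.ker_eq_bot']
      intro v hv
      obtain ⟨k, rfl⟩ : ∃ k, e = k + 1 := ⟨e - 1, by omega⟩
      obtain ⟨u, hu⟩ := hex k le_rfl v (by
        rw [hA'1 k (by omega)]
        exact hv)
      rw [← hu, hz, Matrix.zero_mulVec]
    · intro i hi
      apply le_antisymm
      · intro v hv
        obtain ⟨u, hu⟩ := hex i (by omega) v (by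
          rw [hA'1 i (by omega)]
          exact hv)
        rw [hA'1 (i + 1) (by omega)] at hu
        exact ⟨u, hu⟩
      · rintro _ ⟨u, rfl⟩
        rw [LinearMap.mem_ker]
        change (A i).mulVec ((A (i + 1)).mulVec u) = 0
        rw [Matrix.mulVec_mulVec, hA i hi, Matrix.zero_mulVec]

end Groth.Agent.S2065
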