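import Groth.Statements.S2071
import Mathlib.FieldTheory.PrimeField
import Mathlib.Algebra.Algebra.ZMod
import Mathlib.FieldTheory.AlgebraicClosure
import Mathlib.FieldTheory.IsAlgClosed.AlgebraicClosure
import Mathlib.NumberTheory.NumberField.InfinitePlace.Embeddings

set_option autoImplicit false
universe u
open CAlg

namespace Groth.Agent.S2071

open Polynomial

/-- In characteristic zero a number field contains only finitely many roots of unity. -/
theorem finite_roots_of_unity (L : Type u) [Field L] [NumberField L] :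
    {z : L | ∃ n : ℕ, 0 < n ∧ z ^ n = 1}.Finite := by
  refine (NumberField.Embeddings.finite_of_norm_le L ℂ 1).subset ?_
  rintro z ⟨n, hn, hz⟩
  refine ⟨IsIntegral.of_pow hn (hz ▸ isIntegral_one), fun φ => ?_⟩
  have h1 : (φ z) ^ n = 1 := by rw [← map_pow, hz, map_one]
  exact le_of_eq (Complex.norm_eq_one_of_pow_eq_one h1 hn.ne')

theorem exists_other_root {k k' : Type u} [Field k] [Field k'] [Algebra k k'] (x : k')
    (hxi : IsIntegral k x) (hxs : IsSeparable k x) (hxr : x ∉ (algebraMap k k').range) :
    ∃ y : AlgebraicClosure k', aeval y (minpoly k x) = 0 ∧ y ≠ algebraMap k' (AlgebraicClosure k') x := by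
  classical
  set K := AlgebraicClosure k'
  have hsplit : ((minpoly k x).map (algebraMap k K)).Splits := IsAlgClosed.splits _
  have hcard := card_rootSet_eq_natDegree (K := K) hxs hsplit
  have hdeg : 1 < (minpoly k x).natDegree := by
    by_contra hcon
    have h0 : 0 < (minpoly k x).natDegree := minpoly.natDegree_pos hxi
    have h1 : (minpoly k x).natDegree = 1 := by omega
    exact hxr (minpoly.natDegree_eq_one_iff.mp h1)
  rw [← hcard] at hdeg
  obtain ⟨⟨y, hy⟩, hne⟩ := Fintype.exists_ne_of_one_lt_card hdeg
    ⟨algebraMap k' K x, by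
      rw [mem_rootSet]
      exact ⟨minpoly.ne_zero hxi, by rw [aeval_algebraMap_apply, minpoly.aeval, map_zero]⟩⟩
  refine ⟨y, (mem_rootSet.mp hy).2, fun hyx => hne ?_⟩
  exact Subtype.ext hyx

theorem forward {k k' : Type u} [Field k] [Field k'] [Algebra k k']
    (h : ∀ x : k', ∃ n : ℕ, 0 < n ∧ x ^ n ∈ Set.range (algebraMap k k')) :
    Function.Surjective (algebraMap k k') ∨
        ∃ p : ℕ, p.Prime ∧ CharP k' p ∧
          (IsPurelyInseparable k k' ∨ Algebra.IsAlgebraic (⊥ : Subfield k') k') := by
  have halg : ∀ x : k', IsIntegral k x := fun x => by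
    obtain ⟨n, hn, y, hy⟩ := h x
    exact IsIntegral.of_pow hn (hy ▸ isIntegral_algebraMap)
  by_cases hsurj : Function.Surjective (algebraMap k k')
  · exact Or.inl hsurj
  right
  obtain ⟨p, hp⟩ := CharP.exists k'
  by_cases hpi : IsPurelyInseparable k k'
  · rcases Nat.eq_zero_or_pos p with rfl | hp0
    · exfalso
      apply hsurj
      have : CharZero k' := CharP.charP_to_charZero k'
      have : CharZero k := (algebraMap k k').charZero_iff (algebraMap k k').injective |>.mpr this
      have : Algebra.IsAlgebraic k k' := ⟨fun x => (halg x).isAlgebraic⟩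
      exact IsPurelyInseparable.surjective_algebraMap_of_isSeparable k k'
    · exact ⟨p, (CharP.char_is_prime_or_zero k' p).resolve_right (by omega), hp, Or.inl hpi⟩
  rw [isPurelyInseparable_iff] at hpi
  push Not at hpi
  obtain ⟨x, hx⟩ := hpi
  obtain ⟨hxs, hxr⟩ := hx (halg x)
  set K := AlgebraicClosure k' with hK
  obtain ⟨y, hy, hyx⟩ : ∃ y : K, aeval y (minpoly k x) = 0 ∧ y ≠ algebraMap k' K x :=
    exists_other_root x (halg x) hxs hxr
  set x' : K := algebraMap k' K x with hx'
  have hxa : ∀ a : k, x' + algebraMap k K a ≠ 0 := by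
    intro a ha
    apply hxr
    refine ⟨-a, ?_⟩
    apply (algebraMap k' K).injective
    rw [← IsScalarTower.algebraMap_apply, map_neg, ← hx']
    linear_combination -ha
  have key : ∀ a : k, ∃ n : ℕ, 0 < n ∧ ((y + algebraMap k K a) / (x' + algebraMap k K a)) ^ n = 1 := by
    intro a
    obtain ⟨n, hn, c, hc⟩ := h (x + algebraMap k k' a)
    refine ⟨n, hn, ?_⟩
    have h1 : aeval x ((X + C a) ^ n - C c : k[X]) = 0 := by
      simp [hc]
    have h2 := minpoly.dvd k x h1
    have h3 : aeval y ((X + C a) ^ n - C c : k[X]) = 0 := by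
      obtain ⟨q, hq⟩ := h2
      rw [hq, map_mul, hy, zero_mul]
    have h4 : (y + algebraMap k K a) ^ n = algebraMap k K c := by
      simpa [sub_eq_zero] using h3
    have h5 : (x' + algebraMap k K a) ^ n = algebraMap k K c := by
      rw [IsScalarTower.algebraMap_apply k k' K, IsScalarTower.algebraMap_apply k k' K, hc, hx',
        ← map_add, ← map_pow]
    rw [div_pow, h4, h5, div_self]
    rw [← h5]
    exact pow_ne_zero _ (hxa a)
  -- the roots of unity
  let ζ : k → K := fun a => (y + algebraMap k K a) / (x' + algebraMap k K a)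
  have hζ : ∀ a, ζ a * (x' + algebraMap k K a) = y + algebraMap k K a := fun a =>
    div_mul_cancel₀ _ (hxa a)
  have hζ0 : ζ 0 * x' = y := by simpa using hζ 0
  have hζ1 : ∀ a, ζ a ≠ 1 := by
    intro a ha
    have := hζ a
    rw [ha, one_mul] at this
    exact hyx (by linear_combination -this)
  have hζne : ∀ a : k, a ≠ 0 → ζ 0 ≠ ζ a := by
    intro a ha hcon
    have h1 := hζ a
    rw [← hcon, ← hζ0] at h1
    have h2 : (ζ 0 - 1) * algebraMap k K a = 0 := by linear_combination h1
    rcases mul_eq_zero.mp h2 with h3 | h3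
    · exact hζ1 0 (by linear_combination h3)
    · exact ha ((map_eq_zero _).mp h3)
  have hrel : ∀ a : k, x' * (ζ 0 - ζ a) = algebraMap k K a * (ζ a - 1) := by
    intro a
    have h1 := hζ a
    rw [← hζ0] at h1
    linear_combination -h1
  rcases Nat.eq_zero_or_pos p with rfl | hp0
  · -- characteristic zero
    exfalso
    have : CharZero k' := CharP.charP_to_charZero k'
    have : CharZero k := (algebraMap k k').charZero_iff (algebraMap k k').injective |>.mpr this
    have : CharZero K := (algebraMap k K).charZero_iff (algebraMap k K).injective |>.mp this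
    have hint : ∀ a, IsIntegral ℚ (ζ a) := fun a => by
      obtain ⟨n, hn, h1⟩ := key a
      exact IsIntegral.of_pow hn (by show IsIntegral ℚ (ζ a ^ n); rw [show ζ a ^ n = 1 from h1]; exact isIntegral_one)
    let L : IntermediateField ℚ K := IntermediateField.adjoin ℚ {ζ 0, ζ 1}
    have : FiniteDimensional ℚ L := by
      apply IntermediateField.finiteDimensional_adjoin
      rintro z (rfl | rfl)
      · exact hint 0
      · exact hint 1
    have : NumberField L := ⟨⟩
    have hz0 : ζ 0 ∈ L := IntermediateField.subset_adjoin _ _ (Or.inl rfl)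
    have hz1 : ζ 1 ∈ L := IntermediateField.subset_adjoin _ _ (Or.inr rfl)
    have hxL : x' ∈ L := by
      have h1 := hrel 1
      rw [map_one, one_mul] at h1
      have h2 : x' = (ζ 1 - 1) / (ζ 0 - ζ 1) := by
        rw [eq_div_iff (sub_ne_zero.mpr (hζne 1 one_ne_zero)), h1]
      rw [h2]
      exact div_mem (sub_mem hz1 (one_mem _)) (sub_mem hz0 hz1)
    have hyL : y ∈ L := hζ0 ▸ mul_mem hz0 hxL
    have hnat : ∀ m : ℕ, algebraMap k K (m : k) ∈ L := fun m => by
      rw [map_natCast]; exact natCast_mem L m
    have hζL : ∀ m : ℕ, ζ (m : k) ∈ L := fun m =>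
      div_mem (add_mem hyL (hnat m)) (add_mem hxL (hnat m))
    let F : ℕ → L := fun m => ⟨ζ (m : k), hζL m⟩
    have hFinj : Function.Injective F := by
      intro a b hab
      have h0 : ζ (a : k) = ζ (b : k) := congrArg Subtype.val hab
      have h1 := hζ (a : k)
      have h2 := hζ (b : k)
      rw [map_natCast] at h1 h2
      rw [h0] at h1
      have h3 : (ζ (b : k) - 1) * ((a : K) - (b : K)) = 0 := by linear_combination h1 - h2
      rcases mul_eq_zero.mp h3 with h4 | h4
      · exact absurd (by linear_combination h4) (hζ1 (b : k))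
      · exact_mod_cast sub_eq_zero.mp h4
    have hfin := finite_roots_of_unity L
    refine Set.infinite_of_injective_forall_mem hFinj (s := {z : L | ∃ n : ℕ, 0 < n ∧ z ^ n = 1}) ?_ hfin
    intro m
    obtain ⟨n, hn, h1⟩ := key (m : k)
    exact ⟨n, hn, Subtype.ext h1⟩
  · have hpp := (CharP.char_is_prime_or_zero k' p).resolve_right (by omega)
    refine ⟨p, hpp, hp, Or.inr ?_⟩
    let F := (⊥ : Subfield k')
    let A : IntermediateField F K := algebraicClosure F K
    have hζA : ∀ a, ζ a ∈ A := fun a => by
      rw [mem_algebraicClosure_iff]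
      obtain ⟨n, hn, h1⟩ := key a
      exact (IsIntegral.of_pow hn (by show IsIntegral F (ζ a ^ n); rw [show ζ a ^ n = 1 from h1]; exact isIntegral_one)).isAlgebraic
    have hxA : x' ∈ A := by
      have h1 := hrel 1
      rw [map_one, one_mul] at h1
      have h2 : x' = (ζ 1 - 1) / (ζ 0 - ζ 1) := by
        rw [eq_div_iff (sub_ne_zero.mpr (hζne 1 one_ne_zero)), h1]
      rw [h2]
      exact div_mem (sub_mem (hζA 1) (one_mem _)) (sub_mem (hζA 0) (hζA 1))
    have hkA : ∀ a : k, algebraMap k K a ∈ A := by
      intro a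
      by_cases ha : a = 0
      · rw [ha, map_zero]; exact zero_mem _
      have h1 : algebraMap k K a = x' * (ζ 0 - ζ a) / (ζ a - 1) := by
        rw [eq_div_iff (sub_ne_zero.mpr (hζ1 a)), hrel]
      rw [h1]
      exact div_mem (mul_mem hxA (sub_mem (hζA 0) (hζA a))) (sub_mem (hζA a) (one_mem _))
    refine ⟨fun z => ?_⟩
    obtain ⟨n, hn, c, hc⟩ := h z
    have h1 : IsAlgebraic F (algebraMap k' K (z ^ n)) := by
      rw [← hc, ← IsScalarTower.algebraMap_apply, ← mem_algebraicClosure_iff]
      exact hkA c
    have h2 : IsAlgebraic F (z ^ n) := (isAlgebraic_algebraMap_iff (algebraMap k' K).injective).mp h1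
    exact (IsIntegral.of_pow hn h2.isIntegral).isAlgebraic

/-- Stacks Tag 0BR7: for a field extension `k'/k`, every element of `k'` has a positive power in `k` if and only if either `k' = k`, or
the characteristic is a prime `p` and either `k'/k` is purely inseparable or `k'` is algebraic over its prime field. -/
theorem result {k k' : Type u} [Field k] [Field k'] [Algebra k k'] :
    (∀ x : k', ∃ n : ℕ, 0 < n ∧ x ^ n ∈ Set.range (algebraMap k k')) ↔
      Function.Surjective (algebraMap k k') ∨
        ∃ p : ℕ, p.Prime ∧ CharP k' p ∧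
          (IsPurelyInseparable k k' ∨ Algebra.IsAlgebraic (⊥ : Subfield k') k') := by
  refine ⟨forward, ?_⟩
  rintro (hs | ⟨p, hp, hchar, hpi | halg⟩) x
  · obtain ⟨y, hy⟩ := hs x
    exact ⟨1, one_pos, y, by rw [hy, pow_one]⟩
  · have : Fact p.Prime := ⟨hp⟩
    have : CharP k p := (algebraMap k k').charP (algebraMap k k').injective p
    have : ExpChar k p := ExpChar.prime hp
    obtain ⟨n, c, hc⟩ := IsPurelyInseparable.pow_mem k p x
    exact ⟨p ^ n, pow_pos hp.pos n, c, hc⟩
  · by_cases hx : x = 0
    · exact ⟨1, one_pos, 0, by rw [hx, map_zero, pow_one]⟩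
    have : Fact p.Prime := ⟨hp⟩
    let _ : Algebra (ZMod p) k' := _root_.ZMod.algebra k' p
    let F := (⊥ : Subfield k')
    have hF : F = (algebraMap (ZMod p) k').fieldRange := Subfield.bot_eq_of_zMod_algebra p
    have hFfin : Finite F := by
      have : Finite ((algebraMap (ZMod p) k').fieldRange) := by
        refine Finite.of_surjective (algebraMap (ZMod p) k').rangeRestrictField ?_
        exact (algebraMap (ZMod p) k').rangeRestrictField_bijective.2
      rw [hF]; exact this
    have hxi : IsIntegral F x := (halg.isAlgebraic x).isIntegral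
    have : FiniteDimensional F (IntermediateField.adjoin F {x}) :=
      IntermediateField.adjoin.finiteDimensional hxi
    have : Finite (IntermediateField.adjoin F {x}) := Module.finite_of_finite F
    let u : (IntermediateField.adjoin F {x})ˣ :=
      Units.mk0 ⟨x, IntermediateField.mem_adjoin_simple_self F x⟩ (by
        intro h0; exact hx (congrArg Subtype.val h0))
    have huv : ((u : IntermediateField.adjoin F {x}) : k') = x := rfl
    have hu : u ^ Nat.card (IntermediateField.adjoin F {x})ˣ = 1 := pow_card_eq_one'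
    refine ⟨Nat.card (IntermediateField.adjoin F {x})ˣ, Nat.card_pos, 1, ?_⟩
    have h2 := congrArg (fun v : (IntermediateField.adjoin F {x})ˣ => ((v : IntermediateField.adjoin F {x}) : k')) hu
    rw [map_one]
    symm
    simp only [Units.val_pow_eq_pow_val, Units.val_one] at h2
    rw [SubmonoidClass.coe_pow, huv] at h2
    exact h2

end Groth.Agent.S2071
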