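import Groth.Statements.S2073
import Mathlib.RingTheory.NoetherNormalization
import Mathlib.RingTheory.Localization.Integral
import Mathlib.RingTheory.Localization.BaseChange
import Mathlib.RingTheory.MvPolynomial.Localization
import Mathlib.RingTheory.FiniteStability

set_option autoImplicit false
universe u
open CAlg

namespace Groth.Agent.S2073

open TensorProduct MvPolynomial nonZeroDivisors

/-- scaling of the variables by units -/
noncomputable def scale {K : Type*} [Field K] {d : ℕ} (c : Fin d → K) (hc : ∀ i, c i ≠ 0) :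
    MvPolynomial (Fin d) K ≃ₐ[K] MvPolynomial (Fin d) K :=
  AlgEquiv.ofAlgHom (aeval fun i => C (c i) * X i) (aeval fun i => C (c i)⁻¹ * X i)
    (by
      apply MvPolynomial.algHom_ext
      intro i
      simp only [AlgHom.comp_apply, aeval_X, map_mul, algHom_C, algebraMap_eq, AlgHom.id_apply]
      rw [← mul_assoc, ← map_mul, inv_mul_cancel₀ (hc i), map_one, one_mul])
    (by
      apply MvPolynomial.algHom_ext
      intro i
      simp only [AlgHom.comp_apply, aeval_X, map_mul, algHom_C, algebraMap_eq, AlgHom.id_apply]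
      rw [← mul_assoc, ← map_mul, mul_inv_cancel₀ (hc i), map_one, one_mul])

attribute [local instance] Algebra.TensorProduct.rightAlgebra in
theorem exists_aux {R S : Type u} [CommRing R] [IsDomain R] [CommRing S] [Algebra R S]
    [Algebra.FiniteType R S] (hinj : Function.Injective (algebraMap R S)) :
    ∃ (d : ℕ) (y : Fin d → S), AlgebraicIndependent R y ∧
      ∀ s : S, ∃ r : R, r ≠ 0 ∧ IsIntegral (Algebra.adjoin R (Set.range y)) (r • s) := by
  classical
  let K := FractionRing R
  let L := K ⊗[R] S
  have hLoc : IsLocalization (Algebra.algebraMapSubmonoid S R⁰) L := inferInstance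
  have : Nontrivial L := by
    rw [← not_subsingleton_iff_nontrivial,
      IsLocalization.subsingleton_iff (M := Algebra.algebraMapSubmonoid S R⁰)]
    rintro ⟨r, hr, h0⟩
    exact nonZeroDivisors.ne_zero hr (hinj (by rw [map_zero]; exact h0))
  obtain ⟨d, g, hginj, hgint⟩ := exists_integral_inj_algHom_of_fg K L
  have hy : ∀ i, ∃ (c : R) (y : S), c ≠ 0 ∧ algebraMap K L (algebraMap R K c) * g (X i) = algebraMap S L y := by
    intro i
    obtain ⟨⟨y, ⟨_, r, hr, rfl⟩⟩, h⟩ := IsLocalization.surj (Algebra.algebraMapSubmonoid S R⁰) (g (X i))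
    refine ⟨r, y, nonZeroDivisors.ne_zero hr, ?_⟩
    rw [← h, mul_comm]
    congr 1
    rw [← IsScalarTower.algebraMap_apply R K L]
    change _ = algebraMap S L (algebraMap R S r)
    rw [← IsScalarTower.algebraMap_apply R S L]
  choose c y hc hy using hy
  have hcK : ∀ i, algebraMap R K (c i) ≠ 0 := fun i h =>
    hc i ((FaithfulSMul.algebraMap_eq_zero_iff R K).1 h)
  let g' : MvPolynomial (Fin d) K →ₐ[K] L := g.comp (scale (fun i => algebraMap R K (c i)) hcK).toAlgHom
  have hg'inj : Function.Injective g' := hginj.comp (AlgEquiv.injective _)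
  have hg'int : g'.toRingHom.IsIntegral :=
    (RingHom.isIntegral_of_surjective _ (AlgEquiv.surjective
      (scale (fun i => algebraMap R K (c i)) hcK))).trans _ _ hgint
  have hg'X : ∀ i, g' (X i) = algebraMap S L (y i) := by
    intro i
    rw [← hy]
    change g (aeval _ (X i)) = _
    rw [aeval_X, map_mul]
    congr 1
    exact g.commutes _
  have hcomp : ∀ P : MvPolynomial (Fin d) R,
      g' (MvPolynomial.map (algebraMap R K) P) = algebraMap S L (aeval y P) := by
    intro P
    induction P using MvPolynomial.induction_on with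
    | C a =>
      rw [map_C, algHom_C, algHom_C, ← IsScalarTower.algebraMap_apply R K L,
        ← IsScalarTower.algebraMap_apply R S L]
    | add p q hp hq => simp only [map_add, hp, hq]
    | mul_X p i hp => simp only [map_mul, hp, map_X, hg'X, aeval_X]
  refine ⟨d, y, ?_, ?_⟩
  · rw [algebraicIndependent_iff]
    intro P hP
    have h1 := hcomp P
    rw [hP, map_zero] at h1
    have h2 := (injective_iff_map_eq_zero g').1 hg'inj _ h1
    exact (MvPolynomial.map_injective _ (IsFractionRing.injective R K))
      (by rw [h2, map_zero])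
  · intro s
    let _ : Algebra (MvPolynomial (Fin d) R) S := (aeval y : _ →ₐ[R] S).toRingHom.toAlgebra
    let _ : Algebra (MvPolynomial (Fin d) K) L := g'.toRingHom.toAlgebra
    let _ : Algebra (MvPolynomial (Fin d) R) L :=
      ((algebraMap S L).comp (aeval y : _ →ₐ[R] S).toRingHom).toAlgebra
    let _ : Algebra (MvPolynomial (Fin d) R) (MvPolynomial (Fin d) K) := algebraMvPolynomial
    have : IsScalarTower (MvPolynomial (Fin d) R) S L := IsScalarTower.of_algebraMap_eq (fun _ => rfl)
    have : IsScalarTower (MvPolynomial (Fin d) R) (MvPolynomial (Fin d) K) L :=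
      IsScalarTower.of_algebraMap_eq (fun P => (hcomp P).symm)
    obtain ⟨⟨_, r, hr, rfl⟩, hm⟩ := IsIntegral.exists_multiple_integral_of_isLocalization
      (R := MvPolynomial (Fin d) R) (Rₘ := MvPolynomial (Fin d) K) (S := L)
      (R⁰.map (C (σ := Fin d))) (algebraMap S L s) (hg'int _)
    have heq : (⟨C r, ⟨r, hr, rfl⟩⟩ : R⁰.map (C (σ := Fin d))) • algebraMap S L s =
        algebraMap S L (r • s) := by
      rw [Submonoid.smul_def, Algebra.smul_def, Algebra.smul_def, map_mul]
      congr 1
      change algebraMap S L (aeval y (C r)) = _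
      rw [algHom_C]
    have hm' : IsIntegral (MvPolynomial (Fin d) R) (algebraMap S L (r • s)) := by
      rw [← heq]
      exact hm
    have : IsLocalization (Algebra.algebraMapSubmonoid S (R⁰.map (C (σ := Fin d)))) L := by
      convert hLoc using 1
      ext x
      constructor
      · rintro ⟨_, ⟨r, hr, rfl⟩, rfl⟩
        exact ⟨r, hr, (algHom_C (aeval y : _ →ₐ[R] S) r).symm⟩
      · rintro ⟨r, hr, rfl⟩
        exact ⟨C r, ⟨r, hr, rfl⟩, algHom_C (aeval y : _ →ₐ[R] S) r⟩
    obtain ⟨_, ⟨r', hr', rfl⟩, h2⟩ := IsLocalization.exists_isIntegral_smul_of_isIntegral_map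
      (R := MvPolynomial (Fin d) R) (S := S) (Sₘ := L) (R⁰.map (C (σ := Fin d))) hm'
    refine ⟨r' * r, mul_ne_zero (nonZeroDivisors.ne_zero hr') (nonZeroDivisors.ne_zero hr), ?_⟩
    obtain ⟨P, hP, hP0⟩ := h2
    have hmem : ∀ p : MvPolynomial (Fin d) R, aeval y p ∈ Algebra.adjoin R (Set.range y) := by
      intro p
      rw [Algebra.adjoin_range_eq_range_aeval]
      exact ⟨p, rfl⟩
    let θ : MvPolynomial (Fin d) R →+* Algebra.adjoin R (Set.range y) :=
      ((aeval y : _ →ₐ[R] S).codRestrict _ hmem).toRingHom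
    refine ⟨P.map θ, hP.map θ, ?_⟩
    have heq2 : (r' * r) • s = (C r' : MvPolynomial (Fin d) R) • r • s := by
      rw [Algebra.smul_def (C r'), mul_smul, Algebra.smul_def r']
      congr 1
      exact (algHom_C (aeval y : _ →ₐ[R] S) r').symm
    rw [Polynomial.eval₂_map, heq2]
    exact hP0

/-- Stacks Tag 07NA: let `R` be a domain and `R → S` an injective ring map of finite type. Then there are elements `y_1, …, y_d` of `S`
algebraically independent over `R`, a finitely generated `R`-subalgebra `S'` of `S` containing them and integral over `R[y_1, …, y_d]`, and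
a nonzero `f ∈ R` such that every element of `S` lands in `S'` after multiplication by a power of `f`. -/
theorem result {R S : Type u} [CommRing R] [IsDomain R] [CommRing S] [Algebra R S]
    [Algebra.FiniteType R S] (hinj : Function.Injective (algebraMap R S)) :
    ∃ (d : ℕ) (y : Fin d → S) (S' : Subalgebra R S), AlgebraicIndependent R y ∧ (∀ i, y i ∈ S') ∧ S'.FG ∧
      (∀ s ∈ S', IsIntegral (Algebra.adjoin R (Set.range y)) s) ∧
      ∃ f : R, f ≠ 0 ∧ ∀ s : S, ∃ n : ℕ, (f ^ n) • s ∈ S' := by
  classical
  obtain ⟨d, y, hy, hint⟩ := exists_aux hinj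
  obtain ⟨t, ht⟩ := (inferInstance : Algebra.FiniteType R S).out
  choose r hr hrint using hint
  let f : R := ∏ s ∈ t, r s
  have hf : f ≠ 0 := Finset.prod_ne_zero_iff.2 (fun s _ => hr s)
  have hfs : ∀ s ∈ t, IsIntegral (Algebra.adjoin R (Set.range y)) (f • s) := by
    intro s hs
    obtain ⟨b, hb⟩ := Finset.dvd_prod_of_mem r hs
    change f = r s * b at hb
    rw [hb, mul_comm, mul_smul, Algebra.smul_def b]
    refine IsIntegral.mul ?_ (hrint s)
    rw [IsScalarTower.algebraMap_apply R (Algebra.adjoin R (Set.range y)) S]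
    exact isIntegral_algebraMap
  refine ⟨d, y, Algebra.adjoin R (Set.range y ∪ ((fun s => f • s) '' (t : Set S))), hy,
    fun i => Algebra.subset_adjoin (Or.inl ⟨i, rfl⟩), ?_, ?_, f, hf, ?_⟩
  · rw [Subalgebra.fg_def]
    exact ⟨_, (Set.finite_range y).union (t.finite_toSet.image _), rfl⟩
  · have : Algebra.adjoin R (Set.range y ∪ ((fun s => f • s) '' (t : Set S))) ≤
        (integralClosure (Algebra.adjoin R (Set.range y)) S).restrictScalars R := by
      rw [Algebra.adjoin_le_iff]
      rintro _ (⟨i, rfl⟩ | ⟨s, hs, rfl⟩)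
      · exact isIntegral_algebraMap (R := Algebra.adjoin R (Set.range y)) (A := S)
          (x := ⟨y i, Algebra.subset_adjoin ⟨i, rfl⟩⟩)
      · exact hfs s hs
    intro s hs
    exact this hs
  · intro s
    have hs : s ∈ Algebra.adjoin R (t : Set S) := by rw [ht]; trivial
    induction hs using Algebra.adjoin_induction with
    | mem s hs =>
      refine ⟨1, Algebra.subset_adjoin (Or.inr ⟨s, hs, ?_⟩)⟩
      simp
    | algebraMap a => exact ⟨0, by simp⟩
    | add x y _ _ hx hy =>
      obtain ⟨n, hn⟩ := hx
      obtain ⟨m, hm⟩ := hy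
      refine ⟨n + m, ?_⟩
      rw [smul_add]
      refine Subalgebra.add_mem _ ?_ ?_
      · rw [add_comm, pow_add, mul_smul]
        exact Subalgebra.smul_mem _ hn _
      · rw [pow_add, mul_smul]
        exact Subalgebra.smul_mem _ hm _
    | mul x y _ _ hx hy =>
      obtain ⟨n, hn⟩ := hx
      obtain ⟨m, hm⟩ := hy
      refine ⟨n + m, ?_⟩
      rw [pow_add, ← smul_mul_smul_comm]
      exact Subalgebra.mul_mem _ hn hm

end Groth.Agent.S2073
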