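import Groth.Statements.S2076
import Groth.Agent.Smoothlim.ClosedStage

set_option autoImplicit false
universe u
open CategoryTheory AlgebraicGeometry
open Lim

namespace Groth.Agent.S2076

/-- Stacks Tag 081B (1): let `X = lim X_i` be a cofiltered limit of quasi-compact schemes over `S` with affine transition morphisms and
`h : Y → X` a closed immersion with `Y → S` locally of finite type. Then `Y → X_i` is a closed immersion for some `i`. -/
theorem result {I : Type u} [SmallCategory I] [IsCofiltered I] (S : Scheme.{u})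
    (D : I ⥤ Over S) (c : Limits.Cone D) (hc : Limits.IsLimit c)
    [∀ (i j : I) (f : i ⟶ j), IsAffineHom (D.map f).left] [∀ i, CompactSpace (D.obj i).left]
    {Y : Scheme.{u}} (h : Y ⟶ c.pt.left) [IsClosedImmersion h] [LocallyOfFiniteType (h ≫ c.pt.hom)] :
    ∃ i : I, IsClosedImmersion (h ≫ (c.π.app i).left) := by
  obtain ⟨i₀⟩ := IsCofiltered.nonempty (C := I)
  let D' : I ⥤ Scheme.{u} := D ⋙ Over.forget S
  let c' : Limits.Cone D' := (Over.forget S).mapCone c
  have hc' : Limits.IsLimit c' := Limits.isLimitOfPreserves (Over.forget S) hc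
  have haff : ∀ {i j : I} (f : i ⟶ j), IsAffineHom (D'.map f) := fun {i j} f =>
    (inferInstance : IsAffineHom (D.map f).left)
  have : CompactSpace (D'.obj i₀) := (inferInstance : CompactSpace (D.obj i₀).left)
  let h' : Y ⟶ c'.pt := h
  have hh' : IsClosedImmersion h' := ‹_›
  have hft : LocallyOfFiniteType ((h' ≫ c'.π.app i₀) ≫ (D.obj i₀).hom) := by
    have : (h' ≫ c'.π.app i₀) ≫ (D.obj i₀).hom = h ≫ c.pt.hom := by
      rw [Category.assoc]
      exact congr(h ≫ $(Over.w (c.π.app i₀)))
    rw [this]
    assumption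
  obtain ⟨k, -, hk⟩ := Groth.Agent.Smoothlim.ClosedStage.exists_isClosedImmersion D' c' hc' h' i₀
    (D.obj i₀).hom
  exact ⟨k, hk⟩

end Groth.Agent.S2076
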