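import Groth.Statements.S2080
import Groth.Agent.Smoothlim.GenFinSch

set_option autoImplicit false
universe u
open CategoryTheory AlgebraicGeometry
open Mor
open Groth.Agent.Smoothlim

namespace Groth.Agent.S2080

/-- Stacks Tag 02NW, (1) iff (4): let `f : X → Y` be locally of finite type, quasi-compact and quasi-separated, and `η` a generic
point of an irreducible component of `Y`. Then `f⁻¹{η}` is finite if and only if there is an affine open `V ∋ η` such that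
`f⁻¹(V) → V` is finite. -/
theorem result {X Y : Scheme.{u}} (f : X ⟶ Y) [LocallyOfFiniteType f]
    [QuasiCompact f] [QuasiSeparated f] (η : Y) (hη : closure {η} ∈ irreducibleComponents (Y : Type u)) :
    (f.base ⁻¹' {η}).Finite ↔ ∃ V : Y.Opens, IsAffineOpen V ∧ η ∈ V ∧ IsFinite (f ∣_ V) := by
  have hη' : GenFinSch.IsGen η := (GenFinSch.isGen_iff η).mpr hη
  constructor
  · intro hfin
    obtain ⟨V₀, hV₀, hηV₀, -⟩ := exists_isAffineOpen_mem_and_subset (U := ⊤) (x := η) trivial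
    refine GenFinSch.exists_isFinite_affine_of_sep f η hη' hfin V₀ hV₀ hηV₀ ?_
    intro x y hx hy hxη hyη hxy
    have : IsAffine V₀ := hV₀
    have hqs : QuasiSeparated (f ∣_ V₀) := inferInstance
    have : QuasiSeparatedSpace (f ⁻¹ᵁ V₀).toScheme :=
      quasiSeparatedSpace_of_quasiSeparated (f ∣_ V₀)
    have hxV : x ∈ f ⁻¹ᵁ V₀ := by
      change f x ∈ V₀
      rwa [hxη]
    have hyV : y ∈ f ⁻¹ᵁ V₀ := by
      change f y ∈ V₀
      rwa [hyη]
    obtain ⟨P, Q, hP, hQ, hxP, hyQ, hPQ⟩ := GenFinSch.exists_separation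
      (X := (f ⁻¹ᵁ V₀).toScheme) ⟨x, hxV⟩ ⟨y, hyV⟩
      ((GenFinSch.isGen_of_isOpenEmbedding (f ⁻¹ᵁ V₀).ι.isOpenEmbedding _).mp hx)
      ((GenFinSch.isGen_of_isOpenEmbedding (f ⁻¹ᵁ V₀).ι.isOpenEmbedding _).mp hy)
      (fun h => hxy (congrArg Subtype.val h))
    refine ⟨(f ⁻¹ᵁ V₀).ι '' P, (f ⁻¹ᵁ V₀).ι '' Q,
      (f ⁻¹ᵁ V₀).ι.isOpenEmbedding.isOpenMap _ hP, (f ⁻¹ᵁ V₀).ι.isOpenEmbedding.isOpenMap _ hQ,
      ⟨_, hxP, rfl⟩, ⟨_, hyQ, rfl⟩, ?_⟩
    exact (Set.disjoint_image_iff (f ⁻¹ᵁ V₀).ι.isOpenEmbedding.injective).mpr hPQ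
  · rintro ⟨V, hV, hηV, hfin⟩
    have h1 := (f ∣_ V).finite_preimage_singleton ⟨η, hηV⟩
    refine (h1.image (f ⁻¹ᵁ V).ι).subset ?_
    intro x hx
    have hxV : x ∈ f ⁻¹ᵁ V := by
      change f x ∈ V
      rw [show f x = η from hx]
      exact hηV
    exact ⟨⟨x, hxV⟩, Subtype.ext ((morphismRestrict_base_coe f V _).trans hx), rfl⟩

end Groth.Agent.S2080
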