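import Groth.Statements.S2081
import Groth.Agent.Smoothlim.GenFinSch

set_option autoImplicit false
universe u
open CategoryTheory AlgebraicGeometry
open Mor
open Groth.Agent.Smoothlim

namespace Groth.Agent.S2081

/-- Stacks Tag 0BAI (the quasi-compact case): let `f : X → Y` be locally of finite type and quasi-compact. Suppose `X` and `Y` have finitely many
irreducible components and that a point of `X` is a generic point of an irreducible component exactly when its image is one in
`Y`. Then `f⁻¹(V) → V` is finite for some dense open `V ⊆ Y`. -/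
theorem result {X Y : Scheme.{u}} (f : X ⟶ Y) [LocallyOfFiniteType f]
    [QuasiCompact f] (hX : (irreducibleComponents (X : Type u)).Finite) (hY : (irreducibleComponents (Y : Type u)).Finite)
    (hgen : ∀ x : X, closure {x} ∈ irreducibleComponents (X : Type u) ↔
      closure {f.base x} ∈ irreducibleComponents (Y : Type u)) :
    ∃ V : Y.Opens, Dense (V : Set Y) ∧ IsFinite (f ∣_ V) := by
  have key : ∀ η : Y, closure {η} ∈ irreducibleComponents (Y : Type u) →
      ∃ V : Y.Opens, η ∈ V ∧ IsFinite (f ∣_ V) := by
    intro η hη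
    obtain ⟨V₀, hV₀, hηV₀, -⟩ := exists_isAffineOpen_mem_and_subset (U := ⊤) (x := η) trivial
    have hfin : (f ⁻¹' {η}).Finite := by
      have hinj : Set.InjOn (fun x : X => closure {x}) (f ⁻¹' {η}) := by
        intro x _ y _ hxy
        exact (inseparable_iff_closure_eq.mpr hxy).eq
      refine Set.Finite.of_finite_image (hX.subset ?_) hinj
      rintro _ ⟨x, hx, rfl⟩
      refine (hgen x).mpr ?_
      rw [show f.base x = η from hx]
      exact hη
    obtain ⟨V, -, hηV, hV⟩ := GenFinSch.exists_isFinite_affine_of_sep f η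
      ((GenFinSch.isGen_iff η).mpr hη) hfin V₀ hV₀ hηV₀
      (fun x y hx hy _ _ hxy => GenFinSch.exists_separation_of_finite hX x y hx hy hxy)
    exact ⟨V, hηV, hV⟩
  choose! V hηV hV using key
  let ι := {η : Y // closure {η} ∈ irreducibleComponents (Y : Type u)}
  refine ⟨⨆ η : ι, V η.1, ?_, ?_⟩
  · rw [dense_iff_inter_open]
    rintro O hO ⟨z, hz⟩
    obtain ⟨η, hη⟩ := QuasiSober.sober (irreducibleComponent_mem_irreducibleComponents z).1
      (isClosed_of_mem_irreducibleComponents _ (irreducibleComponent_mem_irreducibleComponents z))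
    have hη' : closure {η} ∈ irreducibleComponents (Y : Type u) := by
      rw [hη.def]
      exact irreducibleComponent_mem_irreducibleComponents z
    have hηz : η ⤳ z := by
      rw [specializes_iff_mem_closure, hη.def]
      exact mem_irreducibleComponent
    refine ⟨η, hηz.mem_open hO hz, ?_⟩
    simp only [TopologicalSpace.Opens.coe_iSup, Set.mem_iUnion]
    exact ⟨⟨η, hη'⟩, hηV η hη'⟩
  · refine IsZariskiLocalAtTarget.of_forall_exists_morphismRestrict (P := @IsFinite) ?_
    rintro ⟨y, hy⟩
    obtain ⟨η, hyη⟩ := TopologicalSpace.Opens.mem_iSup.mp hy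
    refine ⟨(⨆ η : ι, V η.1).ι ⁻¹ᵁ V η.1, hyη, ?_⟩
    rw [MorphismProperty.arrow_mk_iso_iff @IsFinite (morphismRestrictRestrict f _ _)]
    have hle : V η.1 ≤ ⨆ η : ι, V η.1 := le_iSup (fun η : ι => V η.1) η
    rw [MorphismProperty.arrow_mk_iso_iff @IsFinite (morphismRestrictEq f
      (show (⨆ η : ι, V η.1).ι ''ᵁ (⨆ η : ι, V η.1).ι ⁻¹ᵁ V η.1 = V η.1 by
        rw [Scheme.Hom.image_preimage_eq_opensRange_inf]; simpa using hle))]
    exact hV η.1 η.2

end Groth.Agent.S2081
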