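import Groth.Statements.S2085
import Groth.Agent.Ega4B.DepthBasic
import Mathlib.RingTheory.Ideal.AssociatedPrime.Localization
import Mathlib.RingTheory.Ideal.AssociatedPrime.Finiteness

set_option autoImplicit false
universe u
open CAlg

namespace Groth.Agent.S2085

open IsLocalRing RingTheory.Sequence

/-- A finite nonzero module over a Noetherian local ring has positive depth iff the maximal ideal is not associated. -/
theorem one_le_depth_iff {R M : Type u} [CommRing R] [IsLocalRing R] [IsNoetherianRing R] [AddCommGroup M]
    [Module R M] [Module.Finite R M] [Nontrivial M] :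
    1 ≤ LocCoh.depth R M ↔ maximalIdeal R ∉ associatedPrimes R M := by
  have h0 := Ega4B.DepthBasic.smul_top_ne_top_of_nontrivial (R := R) (M := M)
  have h1 := Ega4B.DepthBasic.natCast_le_idealDepth_iff h0 1
  rw [Nat.cast_one] at h1
  rw [LocCoh.depth, h1]
  have hcompl := biUnion_associatedPrimes_eq_compl_regular R M
  constructor
  · rintro ⟨rs, hlen, hI, hw⟩ hm
    obtain ⟨x, rfl⟩ := List.length_eq_one_iff.mp hlen
    rw [isWeaklyRegular_cons_iff] at hw
    have hx : x ∈ ⋃ p ∈ associatedPrimes R M, (p : Set R) :=
      Set.mem_biUnion hm (hI x (by simp))
    rw [hcompl] at hx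
    exact hx hw.1
  · intro hm
    by_contra hcon
    have hsub : (maximalIdeal R : Set R) ⊆ ⋃ p ∈ associatedPrimes R M, ((id p : Ideal R) : Set R) := by
      intro x hx
      simp only [id]
      rw [hcompl]
      intro hreg
      exact hcon ⟨[x], rfl, by simpa using hx, IsWeaklyRegular.cons hreg (IsWeaklyRegular.nil _ _)⟩
    rw [Ideal.subset_union_prime_finite (associatedPrimes.finite R M) (f := id) 0 0
      (fun p hp _ _ => hp.isPrime)] at hsub
    obtain ⟨p, hp, hle⟩ := hsub
    have hp' : p.IsPrime := hp.isPrime
    have : maximalIdeal R = p := (IsLocalRing.maximalIdeal.isMaximal R).eq_of_le hp'.ne_top hle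
    exact hm (this ▸ hp)

/-- Stacks Tag 031Q: let `M` be a finite module over a Noetherian ring `R`. Then every associated prime of `M` is minimal in the support of
`M` (no embedded primes) if and only if `M` satisfies Serre's condition `(S_1)`. -/
theorem result {R M : Type u} [CommRing R] [IsNoetherianRing R] [AddCommGroup M] [Module R M]
    [Module.Finite R M] :
    (∀ p ∈ associatedPrimes R M, p ∈ (Module.annihilator R M).minimalPrimes) ↔ LocCoh.HasSk 1 R M := by
  constructor
  · intro h p hp
    by_cases hs : Subsingleton (LocalizedModule p.primeCompl M)
    · rw [Module.supportDim_eq_bot_of_subsingleton]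
      simp
    rw [not_subsingleton_iff_nontrivial] at hs
    by_cases hd : 1 ≤ LocCoh.depth (Localization.AtPrime p) (LocalizedModule p.primeCompl M)
    · refine (min_le_left _ _).trans ?_
      exact_mod_cast hd
    · refine (min_le_right _ _).trans ?_
      rw [one_le_depth_iff, not_not] at hd
      have hpass := Module.associatedPrimes.comap_mem_associatedPrimes_of_mem_associatedPrimes_of_isLocalizedModule_of_fg
        p.primeCompl (LocalizedModule.mkLinearMap p.primeCompl M) _ hd (IsNoetherian.noetherian _)
      have hcomap : (maximalIdeal (Localization.AtPrime p)).comap (algebraMap R (Localization.AtPrime p)) = p :=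
        IsLocalization.AtPrime.under_maximalIdeal _ p
      rw [hcomap] at hpass
      have hmin := h p hpass
      have h0 : Module.supportDim (Localization.AtPrime p) (LocalizedModule p.primeCompl M) ≤ 0 := by
        by_contra hcon
        rw [not_le, Module.supportDim, Order.krullDim_pos_iff] at hcon
        obtain ⟨⟨q1, h1⟩, ⟨q2, h2⟩, hlt⟩ := hcon
        have hlt' : q1.asIdeal < q2.asIdeal := hlt
        have hlt2 : q1.asIdeal.comap (algebraMap R (Localization.AtPrime p)) <
            q2.asIdeal.comap (algebraMap R (Localization.AtPrime p)) := by
          refine lt_of_le_of_ne (Ideal.comap_mono hlt'.le) ?_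
          intro heq
          apply hlt'.ne
          have e1 := IsLocalization.map_under p.primeCompl (Localization.AtPrime p) q1.asIdeal
          have e2 := IsLocalization.map_under p.primeCompl (Localization.AtPrime p) q2.asIdeal
          have e3 : q1.asIdeal.under R = q2.asIdeal.under R := heq
          rw [← e1, e3, e2]
        have hle : q2.asIdeal.comap (algebraMap R (Localization.AtPrime p)) ≤ p := by
          calc _ ≤ (maximalIdeal (Localization.AtPrime p)).comap (algebraMap R (Localization.AtPrime p)) :=
                Ideal.comap_mono (le_maximalIdeal q2.isPrime.ne_top)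
            _ = p := hcomap
        have hann : Module.annihilator R M ≤ q1.asIdeal.comap (algebraMap R (Localization.AtPrime p)) := by
          intro r hr
          rw [Ideal.mem_comap]
          rw [Module.mem_support_iff_of_finite] at h1
          apply h1
          rw [Module.mem_annihilator] at hr ⊢
          intro m
          obtain ⟨⟨x, s⟩, rfl⟩ := IsLocalizedModule.mk'_surjective p.primeCompl
            (LocalizedModule.mkLinearMap p.primeCompl M) m
          simp only [Function.uncurry_apply_pair]
          rw [algebraMap_smul, ← IsLocalizedModule.mk'_smul, hr, IsLocalizedModule.mk'_zero]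
        have := hmin.2 ⟨q1.isPrime.comap _, hann⟩ (hlt2.le.trans hle)
        exact absurd (lt_of_lt_of_le hlt2 hle) (not_lt_of_ge this)
      exact h0.trans (by exact_mod_cast bot_le)
  · intro h p hp
    have hpp : p.IsPrime := hp.isPrime
    obtain ⟨q, hq, hqp⟩ := Ideal.exists_minimalPrimes_le (I := Module.annihilator R M) (J := p)
      (le_of_eq_of_le Submodule.annihilator_top.symm (IsAssociatedPrime.annihilator_le hp))
    by_cases hne : q = p
    · exact hne ▸ hq
    exfalso
    have hqP : q.IsPrime := hq.isPrime
    have hqass : q ∈ associatedPrimes R M :=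
      Module.associatedPrimes.minimalPrimes_annihilator_subset_associatedPrimes R M hq
    have hmass := Module.associatedPrimes.mem_associatedPrimes_atPrime_of_mem_associatedPrimes hp
    have hnt : Nontrivial (LocalizedModule p.primeCompl M) := by
      by_contra hcon
      rw [not_nontrivial_iff_subsingleton] at hcon
      have := associatedPrimes.eq_empty_of_subsingleton (R := Localization.AtPrime p) (M := LocalizedModule p.primeCompl M)
      exact Set.notMem_empty _ (this ▸ hmass)
    have hdep : ¬ 1 ≤ LocCoh.depth (Localization.AtPrime p) (LocalizedModule p.primeCompl M) := by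
      rw [one_le_depth_iff, not_not]
      exact hmass
    have hdep0 : LocCoh.depth (Localization.AtPrime p) (LocalizedModule p.primeCompl M) = 0 := by
      rwa [Order.one_le_iff_ne_zero, not_not] at hdep
    let q' : Ideal (Localization.AtPrime p) := q.map (algebraMap R (Localization.AtPrime p))
    have hdisj : Disjoint (p.primeCompl : Set R) (q : Set R) := by
      rw [Set.disjoint_left]
      intro x hx hxq
      exact hx (hqp hxq)
    have hq'c : q'.comap (algebraMap R (Localization.AtPrime p)) = q :=
      IsLocalization.under_map_of_isPrime_disjoint p.primeCompl _ hqP hdisj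
    have hq'P : q'.IsPrime := IsLocalization.isPrime_of_isPrime_disjoint p.primeCompl _ q hqP hdisj
    have hq'ass : q' ∈ associatedPrimes (Localization.AtPrime p) (LocalizedModule p.primeCompl M) := by
      apply Module.associatedPrimes.mem_associatedPrimes_of_comap_mem_associatedPrimes_of_isLocalizedModule
        p.primeCompl (LocalizedModule.mkLinearMap p.primeCompl M)
      rw [hq'c]
      exact hqass
    have hann : ∀ r ∈ associatedPrimes (Localization.AtPrime p) (LocalizedModule p.primeCompl M),
        Module.annihilator (Localization.AtPrime p) (LocalizedModule p.primeCompl M) ≤ r := fun r hr =>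
      le_of_eq_of_le Submodule.annihilator_top.symm (IsAssociatedPrime.annihilator_le hr)
    have hpos : 0 < Module.supportDim (Localization.AtPrime p) (LocalizedModule p.primeCompl M) := by
      rw [Module.supportDim, Order.krullDim_pos_iff]
      refine ⟨⟨⟨q', hq'P⟩, ?_⟩, ⟨⟨maximalIdeal _, inferInstance⟩, ?_⟩, ?_⟩
      · rw [Module.mem_support_iff_of_finite]
        exact hann _ hq'ass
      · rw [Module.mem_support_iff_of_finite]
        exact hann _ hmass
      · change q' < maximalIdeal _
        refine lt_of_le_of_ne (le_maximalIdeal hq'P.ne_top) ?_
        intro heq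
        apply hne
        rw [← hq'c, heq]
        exact IsLocalization.AtPrime.under_maximalIdeal _ p
    have h1 := h p
    rw [hdep0, min_le_iff] at h1
    rcases h1 with h1 | h1
    · have : (1 : WithBot ℕ∞) ≤ 0 := by exact_mod_cast h1
      exact absurd this (by decide)
    · exact absurd hpos (not_lt_of_ge (by exact_mod_cast h1))

end Groth.Agent.S2085
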