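import Groth.Statements.S2088
import Groth.Agent.Ega3A.FlatResField

set_option autoImplicit false
universe u
open CAlg

namespace Groth.Agent.S2088

/-- Stacks Tag 03C3: let `(R, 𝔪, k)` be a local ring and `K/k` a field extension. Then there is a flat local homomorphism of local rings `R → R'` with
`𝔪R' = 𝔪_{R'}` whose residue field is isomorphic to `K` over `k`. -/
theorem result {R K : Type u} [CommRing R] [IsLocalRing R] [Field K]
    [Algebra (IsLocalRing.ResidueField R) K] :
    ∃ (R' : Type u) (_ : CommRing R') (_ : IsLocalRing R') (_ : Algebra R R') (_ : IsLocalHom (algebraMap R R')),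
      Module.Flat R R' ∧ (IsLocalRing.maximalIdeal R).map (algebraMap R R') = IsLocalRing.maximalIdeal R' ∧
      Nonempty (IsLocalRing.ResidueField R' ≃ₐ[IsLocalRing.ResidueField R] K) := by
  let σ : R →+* K := (algebraMap (IsLocalRing.ResidueField R) K).comp (IsLocalRing.residue R)
  have hσ : RingHom.ker σ = IsLocalRing.maximalIdeal R := by
    ext x
    rw [RingHom.mem_ker]
    change algebraMap (IsLocalRing.ResidueField R) K (IsLocalRing.residue R x) = 0 ↔ _
    rw [map_eq_zero_iff _ (algebraMap (IsLocalRing.ResidueField R) K).injective,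
      IsLocalRing.residue_eq_zero_iff]
  obtain ⟨B, _, _, _, τ, hloc, hflat, _, hmax, hker, hcomp, hsurj⟩ :=
    Ega3A.FlatResField.exists_flat_local_ext σ hσ
  refine ⟨B, inferInstance, inferInstance, inferInstance, hloc, hflat, hmax, ?_⟩
  let e : IsLocalRing.ResidueField B ≃+* K :=
    (Ideal.quotEquivOfEq hker.symm).trans (RingHom.quotientKerEquivOfSurjective hsurj)
  have he : ∀ b : B, e (IsLocalRing.residue B b) = τ b := fun b => rfl
  refine ⟨AlgEquiv.ofRingEquiv (f := e) ?_⟩
  intro x
  obtain ⟨a, rfl⟩ := IsLocalRing.residue_surjective x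
  have h1 : algebraMap (IsLocalRing.ResidueField R) (IsLocalRing.ResidueField B) (IsLocalRing.residue R a) =
      IsLocalRing.residue B (algebraMap R B a) := rfl
  rw [h1, he]
  exact RingHom.congr_fun hcomp a

end Groth.Agent.S2088
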