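import Groth.Statements.S2093
import Groth.Agent.S0543
import Groth.Agent.S2069
import Groth.Agent.CalgB.AnUnram
import Mathlib.RingTheory.Ideal.KrullsHeightTheorem

set_option autoImplicit false
universe u
open CAlg

namespace Groth.Agent.S2093

open IsLocalRing

/-- An associated prime of `B / J` for a radical ideal `J` is minimal over `J`. -/
theorem mem_minimalPrimes_of_isRadical {B : Type u} [CommRing B] [IsNoetherianRing B] {J q : Ideal B}
    (hJ : J.IsRadical) (hq : q ∈ associatedPrimes B (B ⧸ J • (⊤ : Submodule B B))) :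
    q ∈ J.minimalPrimes := by
  obtain ⟨hqp, v, hv⟩ := isAssociatedPrime_iff.mp hq
  obtain ⟨v, rfl⟩ := Submodule.Quotient.mk_surjective _ v
  have key : ∀ y : B, y ∈ q ↔ y * v ∈ J := by
    intro y
    conv_lhs => rw [hv]
    rw [Submodule.mem_colon_singleton, Submodule.mem_bot, ← Submodule.Quotient.mk_smul,
      Submodule.Quotient.mk_eq_zero]
    simp
  have hvJ : v ∉ J := by
    intro h
    apply hqp.ne_top
    rw [Ideal.eq_top_iff_one, key]
    simpa using h
  rw [← hJ.radical, ← Ideal.sInf_minimalPrimes, Submodule.mem_sInf] at hvJ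
  push Not at hvJ
  obtain ⟨q', hq', hvq'⟩ := hvJ
  have hle : q ≤ q' := by
    intro y hy
    have := hq'.1.2 ((key y).mp hy)
    exact (hq'.1.1.mem_or_mem this).resolve_right hvq'
  have hJq : J ≤ q := by
    intro y hy
    rw [key]
    exact J.mul_mem_right _ hy
  have : q = q' := le_antisymm hle (hq'.2 ⟨hqp, hJq⟩ hle)
  rw [this]
  exact hq'

/-- The contraction of an associated prime of `B / pB` is `p`, for `B` flat. -/
theorem comap_eq_of_mem_associatedPrimes {A B : Type u} [CommRing A] [CommRing B] [Algebra A B]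
    [IsNoetherianRing B] [Module.Flat A B] {p : Ideal A} [hp : p.IsPrime] {q : Ideal B}
    (hq : q ∈ associatedPrimes B (B ⧸ (p.map (algebraMap A B)) • (⊤ : Submodule B B))) :
    q.comap (algebraMap A B) = p := by
  apply le_antisymm
  · rw [← LinearEquiv.AssociatedPrimes.eq (S2069.tensorQuotEquiv (S := B) (N := B) p)] at hq
    obtain ⟨hqp, x, hx⟩ := isAssociatedPrime_iff.mp hq
    intro r hr
    by_contra hrp
    rw [Ideal.mem_comap, hx, Submodule.mem_colon_singleton, Submodule.mem_bot, algebraMap_smul] at hr
    have hinj : Function.Injective ((LinearMap.lsmul A (A ⧸ p) r).lTensor B) := by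
      apply Module.Flat.lTensor_preserves_injective_linearMap
      rw [injective_iff_map_eq_zero]
      intro a ha
      obtain ⟨a, rfl⟩ := Ideal.Quotient.mk_surjective a
      rw [LinearMap.lsmul_apply, Algebra.smul_def, Ideal.Quotient.algebraMap_eq, ← map_mul,
        Ideal.Quotient.eq_zero_iff_mem] at ha
      rw [Ideal.Quotient.eq_zero_iff_mem]
      exact (hp.mem_or_mem ha).resolve_left hrp
    have h0 : x = 0 := by
      apply hinj
      rw [map_zero]
      have : (LinearMap.lsmul A (A ⧸ p) r).lTensor B =
        LinearMap.lsmul A (TensorProduct A B (A ⧸ p)) r := by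
        ext
        simp
      rw [this]
      exact hr
    apply hqp.ne_top
    rw [hx, h0, Submodule.colon_singleton_zero]
  · obtain ⟨hqp, v, hv⟩ := isAssociatedPrime_iff.mp hq
    obtain ⟨v, rfl⟩ := Submodule.Quotient.mk_surjective _ v
    intro r hr
    rw [Ideal.mem_comap, hv, Submodule.mem_colon_singleton, Submodule.mem_bot,
      ← Submodule.Quotient.mk_smul, Submodule.Quotient.mk_eq_zero, smul_eq_mul, mul_comm,
      ← smul_eq_mul, smul_eq_mul, mul_comm]
    exact Submodule.smul_mem_smul (Ideal.mem_map_of_mem _ hr) trivial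

/-- In a Noetherian domain, at a height one prime `p` (minimal over `x ≠ 0`) with regular local ring,
elements of `p` are locally multiples of one element. -/
theorem exists_uniformizer {R : Type u} [CommRing R] [IsDomain R] [IsNoetherianRing R] (x : R)
    (hx : x ≠ 0) (p : Ideal R) [hpp : p.IsPrime] (hp : p ∈ (Ideal.span {x}).minimalPrimes)
    (hreg : IsRegularLocalRing (Localization.AtPrime p)) :
    ∃ π : R, π ≠ 0 ∧ π ∈ p ∧ ∀ a ∈ p, ∃ t, t ∉ p ∧ π ∣ t * a := by
  have hxp : x ∈ p := hp.1.2 (Ideal.mem_span_singleton_self x)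
  have hcm : (maximalIdeal (Localization.AtPrime p)).comap (algebraMap R (Localization.AtPrime p)) = p :=
    Localization.AtPrime.under_maximalIdeal
  have hinj : Function.Injective (algebraMap R (Localization.AtPrime p)) :=
    IsLocalization.injective _ p.primeCompl_le_nonZeroDivisors
  have hx1 : algebraMap R (Localization.AtPrime p) x ∈ maximalIdeal (Localization.AtPrime p) := by
    rw [← Ideal.mem_comap, hcm]; exact hxp
  have hx2 : algebraMap R (Localization.AtPrime p) x ≠ 0 := by
    rw [Ne, map_eq_zero_iff _ hinj]; exact hx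
  have hht : p.height ≤ 1 := Ideal.height_le_one_of_isPrincipal_of_mem_minimalPrimes (Ideal.span {x}) p hp
  have hrank : (maximalIdeal (Localization.AtPrime p)).spanFinrank ≤ 1 := by
    have h1 := hreg.spanFinrank_maximalIdeal
    rw [IsLocalization.AtPrime.ringKrullDim_eq_height p] at h1
    have h2 : ((maximalIdeal (Localization.AtPrime p)).spanFinrank : WithBot ℕ∞) ≤ ((1 : ℕ∞) : WithBot ℕ∞) := by
      rw [h1]; exact WithBot.coe_le_coe.mpr hht
    exact_mod_cast h2
  have hrank1 : (maximalIdeal (Localization.AtPrime p)).spanFinrank = 1 := by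
    rcases Nat.le_one_iff_eq_zero_or_eq_one.mp hrank with h | h
    · rw [Submodule.spanFinrank_eq_zero_iff_eq_bot (IsNoetherian.noetherian _)] at h
      rw [h] at hx1
      exact (hx2 hx1).elim
    · exact h
  obtain ⟨⟨g, hg⟩, -⟩ := (Submodule.spanFinrank_eq_one_iff _).mp hrank1
  have hgm : g ∈ maximalIdeal (Localization.AtPrime p) := by
    rw [hg]; exact Submodule.mem_span_singleton_self g
  obtain ⟨π, s, rfl⟩ := IsLocalization.exists_mk'_eq p.primeCompl g
  have hπ : algebraMap R (Localization.AtPrime p) π =
      algebraMap R (Localization.AtPrime p) s * IsLocalization.mk' (Localization.AtPrime p) π s := by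
    rw [mul_comm, IsLocalization.mk'_spec]
  have hπm : algebraMap R (Localization.AtPrime p) π ∈ maximalIdeal (Localization.AtPrime p) := by
    rw [hπ]; exact Ideal.mul_mem_left _ _ hgm
  have hdvd : ∀ a ∈ p, ∃ b, algebraMap R (Localization.AtPrime p) a =
      algebraMap R (Localization.AtPrime p) π * b := by
    intro a ha
    have ha1 : algebraMap R (Localization.AtPrime p) a ∈ maximalIdeal (Localization.AtPrime p) := by
      rw [← Ideal.mem_comap, hcm]; exact ha
    rw [hg, Submodule.mem_span_singleton] at ha1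
    obtain ⟨c, hc⟩ := ha1
    obtain ⟨u, hu⟩ := IsLocalization.map_units (Localization.AtPrime p) s
    refine ⟨c * (↑u⁻¹ : Localization.AtPrime p), ?_⟩
    rw [← hc, smul_eq_mul, hπ, ← hu]
    have : (u : Localization.AtPrime p) * (↑u⁻¹ : Localization.AtPrime p) = 1 := Units.mul_inv u
    calc c * IsLocalization.mk' (Localization.AtPrime p) π s
        = (u * (↑u⁻¹ : Localization.AtPrime p)) * (c * IsLocalization.mk' (Localization.AtPrime p) π s) := by
          rw [this, one_mul]
      _ = _ := by ring
  refine ⟨π, ?_, ?_, ?_⟩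
  · rintro rfl
    obtain ⟨b, hb⟩ := hdvd x hxp
    rw [map_zero, zero_mul] at hb
    exact hx2 hb
  · have := hπm
    rw [← Ideal.mem_comap, hcm] at this
    exact this
  · intro a ha
    obtain ⟨b, hb⟩ := hdvd a ha
    obtain ⟨b, t, rfl⟩ := IsLocalization.exists_mk'_eq p.primeCompl b
    refine ⟨t, t.2, b, ?_⟩
    apply hinj
    rw [map_mul, hb, map_mul, mul_comm, mul_assoc, IsLocalization.mk'_spec]

/-- Stacks Tag 0330: let `(R, 𝔪)` be a Noetherian local domain and `x ∈ 𝔪` nonzero such that `R/xR` has no embedded associated primes, and for every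
associated prime `𝔭` of `R/xR` the local ring `R_𝔭` is regular and the completion of `R/𝔭` is reduced. Then the completion of `R` is
reduced. -/
theorem result {R : Type u} [CommRing R] [IsDomain R] [IsLocalRing R]
    [IsNoetherianRing R] (x : R) (hx : x ≠ 0) (hxm : x ∈ IsLocalRing.maximalIdeal R)
    (hemb : ∀ p ∈ associatedPrimes R (R ⧸ Ideal.span {x}), p ∈ (Ideal.span {x}).minimalPrimes)
    (hreg : ∀ p ∈ associatedPrimes R (R ⧸ Ideal.span {x}), ∀ (_ : p.IsPrime),
      IsRegularLocalRing (Localization.AtPrime p) ∧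
        IsReduced (AdicCompletion ((IsLocalRing.maximalIdeal R).map (Ideal.Quotient.mk p)) (R ⧸ p))) :
    IsReduced (AdicCompletion (IsLocalRing.maximalIdeal R) R) := by
  have hfg : (maximalIdeal R).FG := (maximalIdeal R).fg_of_isNoetherianRing
  have : IsNoetherianRing (AdicCompletion (maximalIdeal R) R) := S0543.result R (maximalIdeal R)
  let B := AdicCompletion (maximalIdeal R) R
  have hB : B = AdicCompletion (maximalIdeal R) R := rfl
  let x' : B := algebraMap R B x
  have hxreg : IsSMulRegular B x' := by
    have h1 : IsSMulRegular R x := by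
      intro a b hab
      exact mul_left_cancel₀ hx hab
    exact h1.of_flat
  -- nilpotent elements are divisible by `x'`
  have key : ∀ z : B, IsNilpotent z → x' ∣ z := by
    intro z hz
    let J := (Ideal.span {x}).map (algebraMap R B)
    have hJ : J = Ideal.span {x'} := by
      change (Ideal.span {x}).map (algebraMap R B) = _
      rw [Ideal.map_span, Set.image_singleton]
    rw [← Ideal.mem_span_singleton, ← hJ]
    by_contra hzJ
    let w : B ⧸ J • (⊤ : Submodule B B) := Submodule.Quotient.mk z
    have hw : w ≠ 0 := by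
      intro h
      apply hzJ
      have := (Submodule.Quotient.mk_eq_zero _).mp h
      simpa using this
    obtain ⟨q, hq, hqw⟩ := exists_le_isAssociatedPrime_of_isNoetherianRing B w hw
    have hq2 : q ∈ associatedPrimes B (TensorProduct R B (R ⧸ Ideal.span {x})) := by
      rw [LinearEquiv.AssociatedPrimes.eq (S2069.tensorQuotEquiv (S := B) (N := B) (Ideal.span {x}))]
      exact hq
    rw [S2069.result] at hq2
    simp only [Set.mem_iUnion] at hq2
    obtain ⟨p, hp, hqp⟩ := hq2
    have hpp : p.IsPrime := IsAssociatedPrime.isPrime hp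
    have hqpr : q.IsPrime := IsAssociatedPrime.isPrime hq
    have hcomap : q.comap (algebraMap R B) = p := comap_eq_of_mem_associatedPrimes hqp
    obtain ⟨hr1, hr2⟩ := hreg p hp hpp
    have hrad : (p.map (algebraMap R B)).IsRadical :=
      CalgB.AnUnram.isRadical_map_of_isReduced (maximalIdeal R) hfg p
    have hmin : q ∈ (p.map (algebraMap R B)).minimalPrimes := mem_minimalPrimes_of_isRadical hrad hqp
    obtain ⟨π, hπ0, hπp, hπ⟩ := exists_uniformizer x hx p (hemb p hp) hr1
    have hmemp : ∀ a, algebraMap R B a ∈ q ↔ a ∈ p := by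
      intro a
      rw [← hcomap]; rfl
    obtain ⟨s, hs, hsz⟩ := CalgB.AnUnram.exists_notMem_mul_eq_zero (A := R) (B := B) (q := q)
      (by rw [hcomap]; exact hrad) (by rw [hcomap]; exact hmin) π hπ0 ((hmemp π).mpr hπp)
      (by
        intro a ha
        obtain ⟨t, ht, h⟩ := hπ a ((hmemp a).mp ha)
        exact ⟨t, fun h' => ht ((hmemp t).mp h'), h⟩) z hz
    apply hs
    apply hqw
    rw [Submodule.mem_colon_singleton, Submodule.mem_bot]
    change s • (Submodule.Quotient.mk z : B ⧸ J • (⊤ : Submodule B B)) = 0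
    have hsz' : s • z = 0 := hsz
    rw [← Submodule.Quotient.mk_smul, hsz', Submodule.Quotient.mk_zero]
  have hregn : ∀ (n : ℕ) (w : B), x' ^ n * w = 0 → w = 0 := by
    intro n
    induction n with
    | zero => intro w hw; simpa using hw
    | succ n ih =>
      intro w hw
      apply ih
      apply hxreg
      simp only [smul_eq_mul, mul_zero]
      rw [← mul_assoc, ← pow_succ', hw]
  constructor
  intro z hz
  have hpow : ∀ n : ℕ, ∃ w, z = x' ^ n * w ∧ IsNilpotent w := by
    intro n
    induction n with
    | zero => exact ⟨z, by simp, hz⟩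
    | succ n ih =>
      obtain ⟨w, hw, hwn⟩ := ih
      obtain ⟨c, hc⟩ := key w hwn
      refine ⟨c, ?_, ?_⟩
      · rw [hw, hc]; ring
      · obtain ⟨N, hN⟩ := hwn
        refine ⟨N, hregn N _ ?_⟩
        rw [← mul_pow, ← hc, hN]
  have hx'm : x' ∈ maximalIdeal B := by
    rw [AdicCompletion.maximalIdeal_eq_map]
    exact Ideal.mem_map_of_mem _ hxm
  have hK := Ideal.iInf_pow_eq_bot_of_isLocalRing (maximalIdeal B) (Ideal.IsPrime.ne_top inferInstance)
  have : z ∈ ⨅ i : ℕ, (maximalIdeal B) ^ i := by
    rw [Submodule.mem_iInf]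
    intro n
    obtain ⟨w, hw, _⟩ := hpow n
    rw [hw]
    exact Ideal.mul_mem_right _ _ (Ideal.pow_mem_pow hx'm n)
  rw [hK] at this
  exact this

end Groth.Agent.S2093
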