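import Groth.Statements.S2094
import Mathlib.LinearAlgebra.SymmetricAlgebra.Basis
import Mathlib.Algebra.TrivSqZeroExt.Ideal
import Mathlib.RingTheory.Smooth.Basic

set_option autoImplicit false
universe u
open CAlg

namespace Groth.Agent.S2094

/-- A retract of a finitely presented algebra is finitely presented. -/
theorem finitePresentation_of_retract {A B C : Type*} [CommRing A] [CommRing B] [CommRing C]
    [Algebra A B] [Algebra A C] [Algebra.FinitePresentation A B] (π : B →ₐ[A] C) (σ : C →ₐ[A] B)
    (h : π.comp σ = AlgHom.id A C) : Algebra.FinitePresentation A C := by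
  have hπσ : ∀ c, π (σ c) = c := fun c => DFunLike.congr_fun h c
  have hsurj : Function.Surjective π := fun c => ⟨σ c, hπσ c⟩
  refine Algebra.FinitePresentation.of_surjective hsurj ?_
  classical
  obtain ⟨s, hs⟩ := (inferInstance : Algebra.FiniteType A B).out
  refine ⟨s.image (fun b => b - σ (π b)), ?_⟩
  set J : Ideal B := Ideal.span ((s.image (fun b => b - σ (π b)) : Finset B) : Set B) with hJ
  refine le_antisymm ?_ ?_
  · rw [hJ, Ideal.span_le]
    intro x hx
    simp only [Finset.coe_image, Set.mem_image] at hx
    obtain ⟨b, -, rfl⟩ := hx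
    simp [RingHom.mem_ker, hπσ]
  · intro x hx
    rw [RingHom.mem_ker] at hx
    have key : ((Ideal.Quotient.mkₐ A J).comp (σ.comp π)) = Ideal.Quotient.mkₐ A J := by
      refine AlgHom.ext_of_adjoin_eq_top hs ?_
      intro b hb
      simp only [AlgHom.comp_apply]
      symm
      refine (Ideal.Quotient.eq).2 ?_
      exact Ideal.subset_span (by simpa using ⟨b, hb, rfl⟩)
    have := DFunLike.congr_fun key x
    simp only [AlgHom.comp_apply] at this
    rw [show π x = 0 from hx, map_zero, map_zero] at this
    exact (Ideal.Quotient.eq_zero_iff_mem).1 this.symm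

/-- Stacks Tag 07M6: the symmetric algebra of an `A`-module is a smooth `A`-algebra exactly when the module is finite projective. -/
theorem result {A M : Type u} [CommRing A] [AddCommGroup M] [Module A M] :
    Algebra.Smooth A (SymmetricAlgebra A M) ↔ Module.Finite A M ∧ Module.Projective A M := by
  constructor
  · intro h
    letI : Module Aᵐᵒᵖ M := Module.compHom M ((RingHom.id A).fromOpposite mul_comm)
    haveI : IsCentralScalar A M := ⟨fun r m => rfl⟩
    constructor
    · have h1 : Algebra.FiniteType A (SymmetricAlgebra A M) := inferInstance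
      let φ : SymmetricAlgebra A M →ₐ[A] TrivSqZeroExt A M :=
        SymmetricAlgebra.lift (TrivSqZeroExt.inrHom A M)
      have hφ : Function.Surjective φ := by
        intro x
        refine ⟨algebraMap A _ x.fst + SymmetricAlgebra.ι A M x.snd, ?_⟩
        rw [map_add, AlgHom.commutes]
        simp only [φ, SymmetricAlgebra.lift_ι_apply]
        exact TrivSqZeroExt.inl_fst_add_inr_snd_eq x
      have h2 : Algebra.FiniteType A (TrivSqZeroExt A M) := Algebra.FiniteType.of_surjective φ hφ
      obtain ⟨s, hs⟩ := h2.out
      classical
      refine ⟨⟨s.image TrivSqZeroExt.snd, ?_⟩⟩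
      set N := Submodule.span A ((s.image TrivSqZeroExt.snd : Finset M) : Set M) with hN
      let T : Subalgebra A (TrivSqZeroExt A M) :=
        { carrier := {x | x.snd ∈ N}
          mul_mem' := by
            intro a b ha hb
            simp only [Set.mem_setOf_eq, TrivSqZeroExt.snd_mul] at *
            exact N.add_mem (N.smul_mem _ hb) (by rw [op_smul_eq_smul]; exact N.smul_mem _ ha)
          add_mem' := by
            intro a b ha hb
            simp only [Set.mem_setOf_eq, TrivSqZeroExt.snd_add] at *
            exact N.add_mem ha hb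
          algebraMap_mem' := by
            intro r
            simp only [Set.mem_setOf_eq]
            rw [TrivSqZeroExt.algebraMap_eq_inl]
            simp }
      have hT : T = ⊤ := by
        rw [eq_top_iff, ← hs, Algebra.adjoin_le_iff]
        intro x hx
        exact Submodule.subset_span (Finset.mem_coe.2 (Finset.mem_image_of_mem _ hx))
      rw [eq_top_iff]
      intro m _
      have : TrivSqZeroExt.inr m ∈ T := by rw [hT]; trivial
      exact this
    · refine Module.Projective.of_lifting_property'' fun f hf => ?_
      have hsurj : Function.Surjective (TrivSqZeroExt.map f) := by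
        intro x
        obtain ⟨y, hy⟩ := hf x.snd
        refine ⟨TrivSqZeroExt.inl x.fst + TrivSqZeroExt.inr y, ?_⟩
        rw [map_add, TrivSqZeroExt.map_inl, TrivSqZeroExt.map_inr, hy]
        exact TrivSqZeroExt.inl_fst_add_inr_snd_eq x
      have hnil : IsNilpotent (RingHom.ker (TrivSqZeroExt.map f)) := by
        have hle : RingHom.ker (TrivSqZeroExt.map f) ≤ TrivSqZeroExt.kerIdeal A (M →₀ A) := by
          intro a ha
          rw [RingHom.mem_ker] at ha
          change a.fst = 0
          rw [← TrivSqZeroExt.fst_map f a, ha]
          rfl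
        refine ⟨2, le_bot_iff.1 ?_⟩
        rw [← TrivSqZeroExt.kerIdeal_sq]
        exact Ideal.pow_right_mono hle 2
      let ψ := Algebra.FormallySmooth.liftOfSurjective (A := SymmetricAlgebra A M)
        (SymmetricAlgebra.lift (TrivSqZeroExt.inrHom A M)) (TrivSqZeroExt.map f) hsurj hnil
      refine ⟨(TrivSqZeroExt.sndHom A (M →₀ A)) ∘ₗ ψ.toLinearMap ∘ₗ SymmetricAlgebra.ι A M, ?_⟩
      ext m
      have := Algebra.FormallySmooth.liftOfSurjective_apply (A := SymmetricAlgebra A M)
        (SymmetricAlgebra.lift (TrivSqZeroExt.inrHom A M)) (TrivSqZeroExt.map f) hsurj hnil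
        (SymmetricAlgebra.ι A M m)
      have := congrArg TrivSqZeroExt.snd this
      rw [TrivSqZeroExt.snd_map, SymmetricAlgebra.lift_ι_apply] at this
      exact this
  · rintro ⟨h1, h2⟩
    refine ⟨?_, ?_⟩
    · refine Algebra.FormallySmooth.of_comp_surjective fun B _ _ I hI f => ?_
      obtain ⟨g, hg⟩ := Module.projective_lifting_property (Ideal.Quotient.mkₐ A I).toLinearMap
        (f.toLinearMap ∘ₗ SymmetricAlgebra.ι A M) (Ideal.Quotient.mkₐ_surjective A I)
      refine ⟨SymmetricAlgebra.lift g, ?_⟩
      refine SymmetricAlgebra.algHom_ext ?_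
      ext m
      have := DFunLike.congr_fun hg m
      simp only [LinearMap.comp_apply, AlgHom.toLinearMap_apply] at this
      change Ideal.Quotient.mkₐ A I (SymmetricAlgebra.lift g (SymmetricAlgebra.ι A M m)) =
        f (SymmetricAlgebra.ι A M m)
      rw [SymmetricAlgebra.lift_ι_apply]
      exact this
    · obtain ⟨n, f, g, hf, hg, hfg⟩ := Module.Finite.exists_comp_eq_id_of_projective A M
      let π : SymmetricAlgebra A (Fin n → A) →ₐ[A] SymmetricAlgebra A M :=
        SymmetricAlgebra.lift (SymmetricAlgebra.ι A M ∘ₗ f)
      let σ : SymmetricAlgebra A M →ₐ[A] SymmetricAlgebra A (Fin n → A) :=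
        SymmetricAlgebra.lift (SymmetricAlgebra.ι A (Fin n → A) ∘ₗ g)
      have : Algebra.FinitePresentation A (SymmetricAlgebra A (Fin n → A)) :=
        Algebra.FinitePresentation.equiv (SymmetricAlgebra.equivMvPolynomial (Pi.basisFun A (Fin n))).symm
      refine finitePresentation_of_retract π σ ?_
      refine SymmetricAlgebra.algHom_ext ?_
      refine LinearMap.ext fun m => ?_
      change π (σ (SymmetricAlgebra.ι A M m)) = SymmetricAlgebra.ι A M m
      simp only [σ, π, SymmetricAlgebra.lift_ι_apply, LinearMap.comp_apply]
      congr 1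
      exact DFunLike.congr_fun hfg m

end Groth.Agent.S2094
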