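import Groth.Statements.S2095
import Mathlib.RingTheory.TensorProduct.Basic
import Mathlib.RingTheory.TensorProduct.Maps
import Mathlib.RingTheory.Ideal.Quotient.Operations
import Mathlib.Algebra.MvPolynomial.Eval

set_option autoImplicit false
universe u
open CAlg

namespace Groth.Agent.S2095

open TensorProduct in
/-- Stacks Tag 07EH: let `R → S` be a ring map, `𝔫 ⊆ S` an ideal and `R → R'` a ring map admitting an `R`-linear retraction. If
`R' → R' ⊗ S` is formally smooth for the adic topology of the extension of `𝔫`, then `R → S` is formally smooth for the `𝔫`-adic topology. -/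
theorem result {R S R' : Type u} [CommRing R] [CommRing S] [Algebra R S]
    (𝔫 : Ideal S) [CommRing R'] [Algebra R R'] (ρ : R' →ₗ[R] R) (hρ : ∀ r : R, ρ (algebraMap R R' r) = r)
    (h : CAlgX.IsAdicFormallySmooth R' (R' ⊗[R] S)
      (𝔫.map (Algebra.TensorProduct.includeRight : S →ₐ[R] R' ⊗[R] S))) :
    CAlgX.IsAdicFormallySmooth R S 𝔫 := by
  intro A _ _ J hJ ψ hψ
  obtain ⟨k, hk⟩ := hψ
  -- polynomial presentation
  let P := MvPolynomial S R
  let π : P →ₐ[R] S := MvPolynomial.aeval id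
  have hπ : Function.Surjective π := fun s => ⟨MvPolynomial.X s, MvPolynomial.aeval_X _ _⟩
  choose a ha using fun s : S => Ideal.Quotient.mk_surjective (ψ s)
  let f : P →ₐ[R] A := MvPolynomial.aeval a
  have hf : (Ideal.Quotient.mkₐ R J).comp f = ψ.comp π := by
    ext i
    simp [f, π, ha]
  have hf' : ∀ x, Ideal.Quotient.mk J (f x) = ψ (π x) := fun x => AlgHom.congr_fun hf x
  let ι : A →ₐ[R] R' ⊗[R] A := Algebra.TensorProduct.includeRight
  let J' : Ideal (R' ⊗[R] A) := J.map ι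
  have hJ' : J' ^ 2 = ⊥ := by
    rw [← Ideal.map_pow, hJ, Ideal.map_bot]
  let g0 : (A ⧸ J) →ₐ[R] (R' ⊗[R] A) ⧸ J' :=
    Ideal.Quotient.liftₐ J ((Ideal.Quotient.mkₐ R J').comp ι) (fun x hx => by
      change Ideal.Quotient.mk J' (ι x) = 0
      rw [Ideal.Quotient.eq_zero_iff_mem]
      exact Ideal.mem_map_of_mem ι hx)
  have hg0 : ∀ x, g0 (Ideal.Quotient.mk J x) = Ideal.Quotient.mk J' (ι x) := fun x => rfl
  let ψ' : R' ⊗[R] S →ₐ[R'] (R' ⊗[R] A) ⧸ J' :=
    Algebra.TensorProduct.lift (Algebra.ofId R' _) (g0.comp ψ) (fun _ _ => mul_comm _ _)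
  have hψ'1 : ∀ s : S, ψ' (Algebra.TensorProduct.includeRight s) = g0 (ψ s) := by
    intro s
    simp [ψ']
  obtain ⟨χ', hχ'⟩ := h (R' ⊗[R] A) J' hJ' ψ' ⟨k, by
    intro x hx
    rw [← Ideal.map_pow] at hx
    have : (𝔫 ^ k).map (Algebra.TensorProduct.includeRight : S →ₐ[R] R' ⊗[R] S) ≤ RingHom.ker ψ'.toRingHom := by
      rw [Ideal.map_le_iff_le_comap]
      intro y hy
      rw [Ideal.mem_comap, RingHom.mem_ker]
      change ψ' (Algebra.TensorProduct.includeRight y) = 0
      rw [hψ'1, hk y hy, map_zero]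
    exact this hx⟩
  have hχ : ∀ z, Ideal.Quotient.mk J' (χ' z) = ψ' z := fun z => AlgHom.congr_fun hχ' z
  let q : S →ₐ[R] R' ⊗[R] A :=
    (χ'.restrictScalars R).comp (Algebra.TensorProduct.includeRight : S →ₐ[R] R' ⊗[R] S)
  have hq : ∀ s, Ideal.Quotient.mk J' (q s) = g0 (ψ s) := by
    intro s
    change Ideal.Quotient.mk J' (χ' (Algebra.TensorProduct.includeRight s)) = _
    rw [hχ, hψ'1]
  let ρA : R' ⊗[R] A →ₗ[R] A := (TensorProduct.lid R A).toLinearMap ∘ₗ LinearMap.rTensor A ρ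
  have hρt : ∀ (r : R') (x : A), ρA (r ⊗ₜ x) = ρ r • x := fun r x => by simp [ρA]
  have hρ1 : ∀ x : A, ρA (ι x) = x := by
    intro x
    change ρA ((1 : R') ⊗ₜ x) = x
    rw [hρt]
    have := hρ 1
    rw [map_one] at this
    rw [this, one_smul]
  have hρA : ∀ (x : A) (z : R' ⊗[R] A), ρA (ι x * z) = x * ρA z := by
    intro x z
    induction z with
    | zero => simp
    | tmul r y =>
      change ρA (((1 : R') ⊗ₜ x) * (r ⊗ₜ y)) = _
      rw [Algebra.TensorProduct.tmul_mul_tmul, one_mul, hρt, hρt, mul_smul_comm]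
    | add z w hz hw => rw [mul_add, map_add, hz, hw, map_add, mul_add]
  have hρJ : ∀ z ∈ J', ρA z ∈ J := by
    have key : ∀ z ∈ J', ∀ c, ρA (c * z) ∈ J := by
      intro z hz
      refine Submodule.span_induction (p := fun z _ => ∀ c, ρA (c * z) ∈ J) ?_ ?_ ?_ ?_ hz
      · rintro _ ⟨j, hj, rfl⟩ c
        change ρA (c * ι j) ∈ J
        rw [mul_comm, hρA]
        exact J.mul_mem_right _ hj
      · intro c; simp
      · intro x y _ _ hx hy c
        rw [mul_add, map_add]
        exact J.add_mem (hx c) (hy c)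
      · intro b x _ hx c
        rw [smul_eq_mul, ← mul_assoc]
        exact hx _
    intro z hz
    simpa using key z hz 1
  have hD : ∀ x : P, ι (f x) - q (π x) ∈ J' := by
    intro x
    rw [← Ideal.Quotient.eq, hq, ← hf', hg0]
  have hsq : ∀ z ∈ J', ∀ w ∈ J', z * w = 0 := by
    intro z hz w hw
    have : z * w ∈ J' ^ 2 := by rw [pow_two]; exact Ideal.mul_mem_mul hz hw
    rw [hJ'] at this
    exact this
  have hsqJ : ∀ z ∈ J, ∀ w ∈ J, z * w = 0 := by
    intro z hz w hw
    have : z * w ∈ J ^ 2 := by rw [pow_two]; exact Ideal.mul_mem_mul hz hw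
    rw [hJ] at this
    exact this
  let D0 : P →ₗ[R] A := ρA ∘ₗ (ι.toLinearMap ∘ₗ f.toLinearMap - q.toLinearMap ∘ₗ π.toLinearMap)
  have hD0 : ∀ x, D0 x = ρA (ι (f x) - q (π x)) := fun x => rfl
  have hD0J : ∀ x, D0 x ∈ J := fun x => hρJ _ (hD x)
  have hD0mul : ∀ x y, D0 (x * y) = f x * D0 y + f y * D0 x := by
    intro x y
    have h0 := hsq _ (hD x) _ (hD y)
    have h1 : ι (f (x * y)) - q (π (x * y)) = ι (f x) * (ι (f y) - q (π y)) + ι (f y) * (ι (f x) - q (π x)) := by
      rw [map_mul, map_mul, map_mul, map_mul]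
      linear_combination -h0
    rw [hD0, h1, map_add, hρA, hρA, ← hD0, ← hD0]
  let χ0 : P →ₐ[R] A := AlgHom.ofLinearMap (f.toLinearMap - D0)
    (by
      have h1 : D0 1 = 0 := by
        have := hD0mul 1 1
        simp only [mul_one, map_one, one_mul] at this
        linear_combination -this
      simp [h1])
    (by
      intro x y
      have h0 := hsqJ _ (hD0J x) _ (hD0J y)
      simp only [LinearMap.sub_apply, AlgHom.toLinearMap_apply, map_mul, hD0mul]
      linear_combination -h0)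
  have hχ0 : ∀ x, χ0 x = f x - D0 x := fun x => rfl
  have hker : ∀ x ∈ RingHom.ker π, χ0 x = 0 := by
    intro x hx
    have hx' : π x = 0 := hx
    rw [hχ0, hD0, hx', map_zero, sub_zero, hρ1, sub_self]
  let χ1 : (P ⧸ RingHom.ker π) →ₐ[R] A := Ideal.Quotient.liftₐ (RingHom.ker π) χ0 hker
  let e := Ideal.quotientKerAlgEquivOfSurjective hπ
  refine ⟨χ1.comp e.symm.toAlgHom, ?_⟩
  ext s
  obtain ⟨x, rfl⟩ := hπ s
  have h1 : e.symm (π x) = Ideal.Quotient.mk _ x := by
    rw [AlgEquiv.symm_apply_eq]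
    rfl
  change Ideal.Quotient.mk J (χ1 (e.symm (π x))) = ψ (π x)
  rw [h1]
  change Ideal.Quotient.mk J (χ0 x) = ψ (π x)
  rw [hχ0, map_sub, hf', Ideal.Quotient.eq_zero_iff_mem.mpr (hD0J x), sub_zero]

end Groth.Agent.S2095
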