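import Groth.Statements.S2096
import Mathlib.CategoryTheory.Limits.Preserves.Over
import Mathlib.Algebra.Category.Ring.FilteredColimits
import Mathlib.RingTheory.Etale.Field
import Mathlib.RingTheory.Localization.Submodule
import Mathlib.FieldTheory.SeparableClosure
import Mathlib.RingTheory.KrullDimension.Field
import Mathlib.RingTheory.Artinian.Module
import Mathlib.RingTheory.Artinian.Ring
import Mathlib.RingTheory.KrullDimension.Zero
import Mathlib.RingTheory.HopkinsLevitzki

set_option autoImplicit false
universe u
open CAlg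

namespace Groth.Agent.S2096

open CategoryTheory Limits TensorProduct

/-- Every element of an ind-étale algebra comes from an étale algebra. -/
theorem exists_etale_of_isIndEtale {A B : Type u} [CommRing A] [CommRing B] [Algebra A B]
    (hB : EtPBC.IsIndEtale A B) (b : B) :
    ∃ (E : Type u) (_ : CommRing E) (_ : Algebra A E) (_ : Algebra.Etale A E) (f : E →ₐ[A] B) (e : E),
      f e = b := by
  obtain ⟨J, _, _, D, c, hc, hD, ⟨i⟩⟩ := hB
  let F := Under.forget (CommRingCat.of A)
  have hc' : IsColimit (F.mapCocone c) := isColimitOfPreserves F hc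
  let ψ : c.pt.right ⟶ CommRingCat.of B := i.hom.right
  let φ : CommRingCat.of B ⟶ c.pt.right := i.inv.right
  have h1 : φ ≫ ψ = 𝟙 _ := by
    have := i.inv_hom_id
    exact congrArg (fun f => CommaMorphism.right f) this
  obtain ⟨j, y, hy⟩ := Concrete.isColimit_exists_rep (D ⋙ F) hc' (φ.hom b)
  let : Algebra A (D.obj j).right := (D.obj j).hom.hom.toAlgebra
  let g : (D.obj j) ⟶ Under.mk (CommRingCat.ofHom (algebraMap A B)) := c.ι.app j ≫ i.hom
  refine ⟨(D.obj j).right, inferInstance, inferInstance, hD j,
    { toRingHom := g.right.hom, commutes' := ?_ }, y, ?_⟩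
  · intro r
    have := Under.w g
    have h2 := congrArg (fun f => f.hom r) this
    exact h2
  · have : ψ.hom (φ.hom b) = b := by
      have := congrArg (fun f => f.hom b) h1
      exact this
    rw [← this, ← hy]
    rfl

open Polynomial in
/-- In an étale algebra over a field every element is a root of a separable polynomial. -/
theorem exists_separable_of_etale {K E : Type u} [Field K] [CommRing E] [Algebra K E]
    [Algebra.Etale K E] (e : E) : ∃ f : K[X], f.Separable ∧ aeval e f = 0 := by
  classical
  obtain ⟨I, _, Ai, _, _, ψ, h⟩ := (Algebra.Etale.iff_exists_algEquiv_prod K E).mp inferInstance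
  cases nonempty_fintype I
  have hs := fun i => (h i).2
  have hint : ∀ i, IsIntegral K (ψ e i) := fun i => (hs i).isIntegral K _
  refine ⟨∏ q ∈ Finset.univ.image (fun i => minpoly K (ψ e i)), q, ?_, ?_⟩
  · apply separable_prod'
    · intro q hq q' hq' hne
      simp only [Finset.mem_image, Finset.mem_univ, true_and] at hq hq'
      obtain ⟨i, rfl⟩ := hq
      obtain ⟨j, rfl⟩ := hq'
      rcases (minpoly.irreducible (hint i)).isCoprime_or_dvd (minpoly K (ψ e j)) with h' | h'
      · exact h'
      · exfalso
        apply hne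
        exact eq_of_monic_of_associated (minpoly.monic (hint i)) (minpoly.monic (hint j))
          ((minpoly.irreducible (hint i)).associated_of_dvd (minpoly.irreducible (hint j)) h')
    · intro q hq
      simp only [Finset.mem_image, Finset.mem_univ, true_and] at hq
      obtain ⟨i, rfl⟩ := hq
      exact (hs i).isSeparable K _
  · apply ψ.injective
    rw [← Polynomial.aeval_algHom_apply, map_zero]
    funext i
    have : (Pi.evalAlgHom K Ai i) (aeval (ψ e) (∏ q ∈ Finset.univ.image (fun i => minpoly K (ψ e i)), q)) = 0 := by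
      rw [← Polynomial.aeval_algHom_apply, map_prod]
      apply Finset.prod_eq_zero (i := minpoly K (ψ e i))
      · simp
      · exact minpoly.aeval _ _
    exact this

open Polynomial in
/-- Elements of the fibre of an ind-étale algebra are roots of separable polynomials. -/
theorem exists_separable_fiber {A B : Type u} [CommRing A] [CommRing B] [Algebra A B]
    (hB : EtPBC.IsIndEtale A B) (p : Ideal A) [p.IsPrime] (x : p.Fiber B) :
    ∃ f : (p.ResidueField)[X], f.Separable ∧ aeval x f = 0 := by
  obtain ⟨r, hr, s, hs⟩ := Ideal.Fiber.exists_smul_eq_one_tmul (p := p) x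
  obtain ⟨E, _, _, _, g, e, rfl⟩ := exists_etale_of_isIndEtale hB s
  let G : p.Fiber E →ₐ[p.ResidueField] p.Fiber B := Algebra.TensorProduct.map (AlgHom.id _ _) g
  have hr0 : algebraMap A p.ResidueField r ≠ 0 := by
    rwa [Ne, Ideal.algebraMap_residueField_eq_zero]
  have hx : x = G ((algebraMap A p.ResidueField r)⁻¹ ⊗ₜ e) := by
    have h1 : (algebraMap A p.ResidueField r) • x = (algebraMap A p.ResidueField r) • G ((algebraMap A p.ResidueField r)⁻¹ ⊗ₜ e) := by
      rw [algebraMap_smul, hs]
      simp only [G, Algebra.TensorProduct.map_tmul, AlgHom.id_apply, TensorProduct.smul_tmul', smul_eq_mul]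
      rw [mul_inv_cancel₀ hr0]
    have := congrArg (fun z => (algebraMap A p.ResidueField r)⁻¹ • z) h1
    simp only [smul_smul, inv_mul_cancel₀ hr0, one_smul] at this
    exact this
  have : Algebra.Etale p.ResidueField (p.Fiber E) := inferInstance
  obtain ⟨f, hf, hf'⟩ := exists_separable_of_etale (K := p.ResidueField) ((algebraMap A p.ResidueField r)⁻¹ ⊗ₜ[A] e : p.Fiber E)
  refine ⟨f, hf, ?_⟩
  rw [hx, Polynomial.aeval_algHom_apply, hf', map_zero]

open Polynomial in
theorem isReduced_of_exists_separable {K F : Type u} [Field K] [CommRing F] [Algebra K F]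
    (h : ∀ x : F, ∃ f : K[X], f.Separable ∧ aeval x f = 0) : IsReduced F := by
  rcases subsingleton_or_nontrivial F with hF | hF
  · exact ⟨fun x _ => Subsingleton.elim _ _⟩
  refine isReduced_iff_pow_one_lt 2 (by norm_num) |>.mpr fun x hx => ?_
  obtain ⟨f, hf, hf'⟩ := h x
  have h1 : minpoly K x ∣ X ^ 2 := minpoly.dvd _ _ (by simpa using hx)
  have h2 : minpoly K x ∣ f := minpoly.dvd _ _ hf'
  have h3 : (minpoly K x).Separable := hf.of_dvd h2
  have h4 : minpoly K x ∣ X := (h3.squarefree.dvd_pow_iff_dvd (by norm_num)).mp h1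
  obtain ⟨g, hg⟩ := h4
  have := congrArg (aeval x) hg
  simpa using this

/-- Stacks Tag 0AH1: let `B` be a Noetherian ind-étale `A`-algebra (a filtered colimit of étale algebras) and `𝔭` a prime of `A`. Then only
finitely many primes of `B` lie over `𝔭`, the fibre ring `B ⊗ κ(𝔭)` is reduced of dimension zero, and each residue field extension
`κ(𝔮)/κ(𝔭)` is separable algebraic. -/
theorem result {A B : Type u} [CommRing A] [CommRing B] [Algebra A B] (hB : EtPBC.IsIndEtale A B)
    [IsNoetherianRing B] (p : Ideal A) [p.IsPrime] :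
    {q : PrimeSpectrum B | q.asIdeal.LiesOver p}.Finite ∧ IsReduced (p.Fiber B) ∧ ringKrullDim (p.Fiber B) ≤ 0 ∧
      ∀ (q : Ideal B) [q.IsPrime] [q.LiesOver p],
        @Algebra.IsSeparable p.ResidueField q.ResidueField _ _
          (Ideal.ResidueField.mapₐ p q (Algebra.ofId A B) (q.over_def p)).toRingHom.toAlgebra := by
  have key := exists_separable_fiber hB p
  have hred : IsReduced (p.Fiber B) := isReduced_of_exists_separable key
  have hint : Algebra.IsIntegral p.ResidueField (p.Fiber B) := by
    refine ⟨fun x => ?_⟩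
    obtain ⟨f, hf, hf'⟩ := key x
    exact (IsAlgebraic.isIntegral ⟨f, hf.ne_zero, hf'⟩)
  let : Algebra B (p.Fiber B) := Algebra.TensorProduct.rightAlgebra
  have hN : IsNoetherianRing (p.Fiber B) := by
    have : Algebra.EssFiniteType B (B ⊗[A] p.ResidueField) := inferInstance
    have : IsNoetherianRing (B ⊗[A] p.ResidueField) := Algebra.EssFiniteType.isNoetherianRing B _
    exact isNoetherianRing_of_ringEquiv _ (Algebra.TensorProduct.comm A B p.ResidueField).toRingEquiv
  have hdim : Ring.KrullDimLE 0 (p.Fiber B) := by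
    refine .mk₀ fun I hI => ?_
    have h1 : (I.comap (algebraMap p.ResidueField (p.Fiber B))).IsPrime := inferInstance
    have h2 : (I.comap (algebraMap p.ResidueField (p.Fiber B))).IsMaximal := inferInstance
    exact Ideal.isMaximal_of_isIntegral_of_isMaximal_comap I h2
  have hart : IsArtinianRing (p.Fiber B) := isArtinianRing_iff_isNoetherianRing_krullDimLE_zero.mpr ⟨hN, hdim⟩
  refine ⟨?_, hred, ?_, ?_⟩
  · have : Finite (PrimeSpectrum (p.Fiber B)) := inferInstance
    have h2 : Finite (p.primesOver B) := Finite.of_equiv _ (PrimeSpectrum.primesOverOrderIsoFiber A B p).symm.toEquiv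
    have h3 : (p.primesOver B).Finite := h2
    refine Set.Finite.of_finite_image (f := PrimeSpectrum.asIdeal) (h3.subset ?_) ?_
    · rintro _ ⟨q, hq, rfl⟩
      exact ⟨q.2, hq⟩
    · intro q _ q' _ h
      exact PrimeSpectrum.ext h
  · exact Ring.krullDimLE_iff.mp hdim
  · intro q _ _
    let alg := (Ideal.ResidueField.mapₐ p q (Algebra.ofId A B) (q.over_def p)).toRingHom.toAlgebra
    have tow : IsScalarTower A p.ResidueField q.ResidueField := by
      refine IsScalarTower.of_algebraMap_eq fun a => ?_
      exact ((Ideal.ResidueField.mapₐ p q (Algebra.ofId A B) (q.over_def p)).commutes a).symm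
    have hb : ∀ b : B, algebraMap B q.ResidueField b ∈ separableClosure p.ResidueField q.ResidueField := by
      intro b
      obtain ⟨f, hf, hf'⟩ := key (1 ⊗ₜ b)
      let Φ : p.Fiber B →ₐ[p.ResidueField] q.ResidueField :=
        Algebra.TensorProduct.lift (Algebra.ofId _ _) (IsScalarTower.toAlgHom A B _) (fun _ _ => Commute.all _ _)
      have hΦ : Φ (1 ⊗ₜ b) = algebraMap B q.ResidueField b := by simp [Φ]
      rw [mem_separableClosure_iff]
      have : Polynomial.aeval (algebraMap B q.ResidueField b) f = 0 := by
        rw [← hΦ, Polynomial.aeval_algHom_apply, hf', map_zero]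
      exact hf.of_dvd (minpoly.dvd _ _ this)
    refine ⟨fun x => ?_⟩
    rw [← mem_separableClosure_iff]
    obtain ⟨a, s, hs, rfl⟩ := IsFractionRing.div_surjective (A := B ⧸ q) x
    obtain ⟨a, rfl⟩ := Ideal.Quotient.mk_surjective a
    obtain ⟨s, rfl⟩ := Ideal.Quotient.mk_surjective s
    exact div_mem (hb a) (hb s)

end Groth.Agent.S2096
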