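import Groth.Statements.S2097
import Mathlib.RingTheory.Noetherian.Nilpotent

set_option autoImplicit false
universe u
open CAlg

namespace Groth.Agent.S2097

/-- Stacks Tag 07K4: let `R → S` be smooth, `A` an `R`-algebra and `I ⊆ A` an ideal all of whose elements are nilpotent. Every `R`-algebra map
`S → A/I` lifts to an `R`-algebra map `S → A`. -/
theorem result {R S A : Type u} [CommRing R] [CommRing S] [Algebra R S] [Algebra.Smooth R S]
    [CommRing A] [Algebra R A] (I : Ideal A) (hI : ∀ x ∈ I, IsNilpotent x) (g : S →ₐ[R] A ⧸ I) :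
    ∃ f : S →ₐ[R] A, (Ideal.Quotient.mkₐ R I).comp f = g := by
  obtain ⟨n, φ, hφ, hker⟩ := Algebra.FinitePresentation.out (R := R) (A := S)
  choose a ha using fun i => Ideal.Quotient.mk_surjective (g (φ (MvPolynomial.X i)))
  let ψ : MvPolynomial (Fin n) R →ₐ[R] A := MvPolynomial.aeval a
  have hψ : (Ideal.Quotient.mkₐ R I).comp ψ = g.comp φ := by
    ext i
    simp [ψ, ha]
  let J : Ideal A := (RingHom.ker φ.toRingHom).map ψ.toRingHom
  have hJI : J ≤ I := by
    rw [Ideal.map_le_iff_le_comap]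
    intro x hx
    rw [Ideal.mem_comap, ← Ideal.Quotient.eq_zero_iff_mem]
    have h1 := AlgHom.congr_fun hψ x
    have h2 : φ x = 0 := hx
    simpa [h2] using h1
  have hJfg : J.FG := hker.map _
  have hJnil : IsNilpotent J := by
    rw [Ideal.FG.isNilpotent_iff_le_nilradical hJfg]
    exact fun x hx => hI x (hJI hx)
  let g'' : (MvPolynomial (Fin n) R ⧸ RingHom.ker φ) →ₐ[R] A ⧸ J :=
    Ideal.Quotient.liftₐ (RingHom.ker φ) ((Ideal.Quotient.mkₐ R J).comp ψ) (fun x hx => by
      change Ideal.Quotient.mk J (ψ x) = 0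
      rw [Ideal.Quotient.eq_zero_iff_mem]
      exact Ideal.mem_map_of_mem ψ.toRingHom hx)
  let g' : S →ₐ[R] A ⧸ J := g''.comp (Ideal.quotientKerAlgEquivOfSurjective hφ).symm.toAlgHom
  have hg' : ∀ x, g' (φ x) = Ideal.Quotient.mk J (ψ x) := by
    intro x
    have : (Ideal.quotientKerAlgEquivOfSurjective hφ).symm (φ x) = Ideal.Quotient.mk _ x := by
      rw [AlgEquiv.symm_apply_eq]
      rfl
    change g'' ((Ideal.quotientKerAlgEquivOfSurjective hφ).symm (φ x)) = _
    rw [this]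
    rfl
  obtain ⟨f, hf⟩ := Algebra.FormallySmooth.exists_lift J hJnil g'
  refine ⟨f, ?_⟩
  ext s
  obtain ⟨x, rfl⟩ := hφ s
  have h1 := AlgHom.congr_fun hf (φ x)
  rw [hg'] at h1
  have h2 : Ideal.Quotient.mk J (f (φ x)) = Ideal.Quotient.mk J (ψ x) := h1
  rw [Ideal.Quotient.eq] at h2
  have h3 : Ideal.Quotient.mk I (f (φ x)) = Ideal.Quotient.mk I (ψ x) := by
    rw [Ideal.Quotient.eq]
    exact hJI h2
  have h4 := AlgHom.congr_fun hψ x
  change Ideal.Quotient.mk I (f (φ x)) = g (φ x)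
  rw [h3]
  exact h4

end Groth.Agent.S2097
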