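import Groth.Statements.S2098
import Mathlib.RingTheory.Filtration
import Mathlib.RingTheory.OrzechProperty
import Mathlib.RingTheory.Nakayama

set_option autoImplicit false
universe u
open CAlg

namespace Groth.Agent.S2098

theorem pi_mem_smul_top {R N : Type u} [CommRing R] [AddCommGroup N] [Module R N] (J : Ideal R)
    {a : ℕ} (x : Fin a → N) (hx : ∀ j, x j ∈ J • (⊤ : Submodule R N)) :
    x ∈ J • (⊤ : Submodule R (Fin a → N)) := by
  classical
  have h1 : x = ∑ j, Pi.single j (x j) := (Finset.univ_sum_single x).symm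
  rw [h1]
  refine Submodule.sum_mem _ fun j _ => ?_
  have h2 : Submodule.map (LinearMap.single R (fun _ : Fin a => N) j) (J • (⊤ : Submodule R N)) ≤
      J • (⊤ : Submodule R (Fin a → N)) := by
    rw [Submodule.map_smul'']
    exact Submodule.smul_mono le_rfl le_top
  exact h2 ⟨x j, hx j, rfl⟩

/-- Stacks Tag 02HO: let `R` be Noetherian, `I` an ideal inside the Jacobson radical and `u : N → M` a map of finite `R`-modules. If for
arbitrarily large `n` the induced map `N/IⁿN → M/IⁿM` has a left inverse, then `u` has a left inverse. -/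
theorem result {R M N : Type u} [CommRing R] [IsNoetherianRing R] (I : Ideal R)
    (hI : I ≤ (⊥ : Ideal R).jacobson) [AddCommGroup M] [Module R M] [Module.Finite R M] [AddCommGroup N] [Module R N]
    [Module.Finite R N] (u : N →ₗ[R] M)
    (h : ∀ n₀ : ℕ, ∃ n, n₀ ≤ n ∧ ∃ s : (M ⧸ (I ^ n) • (⊤ : Submodule R M)) →ₗ[R] (N ⧸ (I ^ n) • (⊤ : Submodule R N)),
      ∀ x : N, s (Submodule.Quotient.mk (u x)) = Submodule.Quotient.mk x) :
    ∃ s : M →ₗ[R] N, s.comp u = LinearMap.id := by
  classical
  obtain ⟨b, π, hπ⟩ := Module.Finite.exists_fin' R M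
  obtain ⟨a, g, hg⟩ := Submodule.fg_iff_exists_fin_generating_family.mp
    (IsNoetherian.noetherian (LinearMap.ker π))
  have hgπ : ∀ j, π (g j) = 0 := fun j => by
    have : g j ∈ LinearMap.ker π := hg ▸ Submodule.subset_span ⟨j, rfl⟩
    simpa using this
  let d : (Fin b → N) →ₗ[R] (Fin a → N) := LinearMap.pi fun j => ∑ i, (g j i) • LinearMap.proj i
  have hd : ∀ y j, d y j = ∑ i, g j i • y i := fun y j => by
    simp [d, LinearMap.sum_apply]
  obtain ⟨c, hc⟩ := Ideal.exists_pow_inf_eq_pow_smul I (LinearMap.range d)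
  obtain ⟨n, hn, s, hs⟩ := h (c + 1)
  -- lifts
  have hlift : ∀ i : Fin b, ∃ y : N, (Submodule.Quotient.mk y : N ⧸ (I ^ n) • (⊤ : Submodule R N)) =
      s (Submodule.Quotient.mk (π (Pi.single i 1))) := fun i => Submodule.Quotient.mk_surjective _ _
  choose y hy using hlift
  -- the map defined by `y` on `Fin b → R`
  have hsum : ∀ v : Fin b → R, (Submodule.Quotient.mk (∑ i, v i • y i) : N ⧸ (I ^ n) • (⊤ : Submodule R N)) =
      s (Submodule.Quotient.mk (π v)) := by
    intro v
    have hv : v = ∑ i, v i • (Pi.single i (1 : R) : Fin b → R) := by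
      conv_lhs => rw [← Finset.univ_sum_single v]
      refine Finset.sum_congr rfl fun i _ => ?_
      rw [← Pi.single_smul, smul_eq_mul, mul_one]
    conv_rhs => rw [hv]
    rw [map_sum]
    have h1 : ∀ w : Fin b → M, (Submodule.Quotient.mk (∑ i, w i) : M ⧸ (I ^ n) • (⊤ : Submodule R M)) =
      ∑ i, Submodule.Quotient.mk (w i) := fun w => map_sum (Submodule.mkQ _) w Finset.univ
    have h2 : ∀ w : Fin b → N, (Submodule.Quotient.mk (∑ i, w i) : N ⧸ (I ^ n) • (⊤ : Submodule R N)) =
      ∑ i, Submodule.Quotient.mk (w i) := fun w => map_sum (Submodule.mkQ _) w Finset.univ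
    rw [h1, h2, map_sum]
    refine Finset.sum_congr rfl fun i _ => ?_
    rw [Submodule.Quotient.mk_smul, hy, map_smul, Submodule.Quotient.mk_smul, map_smul]
  -- `d y` lies in `I ^ n`
  have hdy : d y ∈ I ^ n • (⊤ : Submodule R (Fin a → N)) := by
    refine pi_mem_smul_top _ _ fun j => ?_
    rw [hd, ← Submodule.Quotient.mk_eq_zero, hsum, hgπ, Submodule.Quotient.mk_zero, map_zero]
  have hdy2 : d y ∈ I • (LinearMap.range d) := by
    have h1 : d y ∈ I ^ n • (⊤ : Submodule R (Fin a → N)) ⊓ LinearMap.range d := ⟨hdy, ⟨y, rfl⟩⟩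
    rw [hc n (by omega)] at h1
    refine Submodule.smul_mono (Ideal.pow_le_self (by omega)) inf_le_right h1
  have hrange : I • LinearMap.range d = Submodule.map d (I • ⊤) := by
    rw [Submodule.map_smul'', Submodule.map_top]
  rw [hrange] at hdy2
  obtain ⟨z, hz, hzy⟩ := hdy2
  have hzc : ∀ i, z i ∈ I • (⊤ : Submodule R N) := by
    intro i
    have h2 : Submodule.map (LinearMap.proj (R := R) (φ := fun _ : Fin b => N) i)
        (I • (⊤ : Submodule R (Fin b → N))) ≤ I • (⊤ : Submodule R N) := by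
      rw [Submodule.map_smul'']
      exact Submodule.smul_mono le_rfl le_top
    exact h2 ⟨z, hz, rfl⟩
  -- the map `(Fin b → R) → N` given by `y - z` kills the kernel
  let t : (Fin b → R) →ₗ[R] N := ∑ i, (LinearMap.proj i : (Fin b → R) →ₗ[R] R).smulRight (y i - z i)
  have ht : ∀ v, t v = ∑ i, v i • (y i - z i) := fun v => by
    simp [t, LinearMap.sum_apply]
  have htker : LinearMap.ker π ≤ LinearMap.ker t := by
    rw [← hg, Submodule.span_le]
    rintro _ ⟨j, rfl⟩
    have : d (y - z) j = 0 := by rw [map_sub, hzy, sub_self]; rfl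
    rw [hd] at this
    simpa [ht] using this
  let s' : M →ₗ[R] N := (Submodule.liftQ _ t htker).comp
    (LinearMap.quotKerEquivOfSurjective π hπ).symm.toLinearMap
  have hs' : ∀ v, s' (π v) = t v := by
    intro v
    have : (LinearMap.quotKerEquivOfSurjective π hπ).symm (π v) = Submodule.Quotient.mk v := by
      rw [LinearEquiv.symm_apply_eq]
      rfl
    simp only [s', LinearMap.comp_apply, LinearEquiv.coe_coe]
    rw [this]
    rfl
  have hIn : (I ^ n • (⊤ : Submodule R N)) ≤ I • (⊤ : Submodule R N) :=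
    Submodule.smul_mono_left (Ideal.pow_le_self (by omega))
  have hφ : ∀ x : N, s' (u x) - x ∈ I • (⊤ : Submodule R N) := by
    intro x
    obtain ⟨v, hv⟩ := hπ (u x)
    rw [← hv, hs', ht]
    have h1 : (∑ i, v i • y i) - x ∈ I • (⊤ : Submodule R N) := by
      apply hIn
      rw [← Submodule.Quotient.mk_eq_zero, Submodule.Quotient.mk_sub, hsum, hv, hs, sub_self]
    have h2 : (∑ i, v i • z i) ∈ I • (⊤ : Submodule R N) :=
      Submodule.sum_mem _ fun i _ => Submodule.smul_mem _ _ (hzc i)
    have h3 : ∑ i, v i • (y i - z i) - x = ((∑ i, v i • y i) - x) - ∑ i, v i • z i := by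
      simp only [smul_sub, Finset.sum_sub_distrib]
      abel
    rw [h3]
    exact Submodule.sub_mem _ h1 h2
  have hsurj : Function.Surjective (s' ∘ₗ u) := by
    rw [← LinearMap.range_eq_top, eq_top_iff]
    refine Submodule.le_of_le_smul_of_le_jacobson_bot (Module.finite_def.mp inferInstance) hI ?_
    intro x _
    have := hφ x
    rw [show x = (s' ∘ₗ u) x - ((s' ∘ₗ u) x - x) by abel]
    exact Submodule.sub_mem_sup ⟨x, rfl⟩ this
  have hinj : Function.Injective (s' ∘ₗ u) := OrzechProperty.injective_of_surjective_endomorphism _ hsurj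
  let e := LinearEquiv.ofBijective (s' ∘ₗ u) ⟨hinj, hsurj⟩
  refine ⟨e.symm.toLinearMap ∘ₗ s', ?_⟩
  ext x
  show e.symm ((s' ∘ₗ u) x) = x
  rw [LinearEquiv.symm_apply_eq]
  rfl

end Groth.Agent.S2098
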