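import Groth.Statements.S2099
import Mathlib.RingTheory.MvPowerSeries.Equiv
import Mathlib.RingTheory.MvPolynomial.Ideal
import Mathlib.RingTheory.Ideal.Cotangent
import Mathlib.RingTheory.AdicCompletion.Algebra
import Mathlib.LinearAlgebra.StdBasis

set_option autoImplicit false
universe u
open CAlg

namespace Groth.Agent.S2099

/-- completions are isomorphic if the truncations are. -/
lemma exists_adicCompletion_equiv {R A S : Type u} [CommRing R] [CommRing A] [CommRing S] [Algebra R A]
    [Algebra R S] (n : Ideal A) (I : Ideal S) (φ : A →ₐ[R] S)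
    (h1 : ∀ k (a : A), a ∈ n ^ k → φ a ∈ I ^ k)
    (h2 : ∀ k (a : A), φ a ∈ I ^ k → a ∈ n ^ k)
    (h3 : ∀ k (s : S), ∃ a, s - φ a ∈ I ^ k) :
    Nonempty (AdicCompletion n A ≃ₐ[R] AdicCompletion I S) := by
  have hbij : ∀ k, Function.Bijective (Ideal.quotientMapₐ (I ^ k) φ (I := n ^ k) (h1 k)) := by
    intro k
    constructor
    · rw [injective_iff_map_eq_zero]
      intro x hx
      obtain ⟨a, rfl⟩ := Ideal.Quotient.mk_surjective x
      have hx' : Ideal.Quotient.mk (I ^ k) (φ a) = 0 := hx
      rw [Ideal.Quotient.eq_zero_iff_mem] at hx' ⊢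
      exact h2 k a hx'
    · intro y
      obtain ⟨s, rfl⟩ := Ideal.Quotient.mk_surjective y
      obtain ⟨a, ha⟩ := h3 k s
      refine ⟨Ideal.Quotient.mk _ a, ?_⟩
      have : Ideal.Quotient.mk (I ^ k) (φ a) = Ideal.Quotient.mk (I ^ k) s := by
        rw [eq_comm, Ideal.Quotient.mk_eq_mk_iff_sub_mem]
        exact ha
      exact this
  let e : ∀ k, (A ⧸ n ^ k) ≃ₐ[R] (S ⧸ I ^ k) := fun k => AlgEquiv.ofBijective _ (hbij k)
  have he : ∀ k (a : A), e k (Ideal.Quotient.mk _ a) = Ideal.Quotient.mk _ (φ a) := fun k a => rfl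
  have hec : ∀ {k l : ℕ} (hkl : k ≤ l) (x : A ⧸ n ^ l),
      Ideal.Quotient.factorₐ R (Ideal.pow_le_pow_right hkl) (e l x) =
        e k (Ideal.Quotient.factorₐ R (Ideal.pow_le_pow_right hkl) x) := by
    intro k l hkl x
    obtain ⟨a, rfl⟩ := Ideal.Quotient.mk_surjective x
    rfl
  have hec' : ∀ {k l : ℕ} (hkl : k ≤ l) (y : S ⧸ I ^ l),
      Ideal.Quotient.factorₐ R (Ideal.pow_le_pow_right hkl) ((e l).symm y) =
        (e k).symm (Ideal.Quotient.factorₐ R (Ideal.pow_le_pow_right hkl) y) := by
    intro k l hkl y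
    rw [AlgEquiv.eq_symm_apply, ← hec hkl, AlgEquiv.apply_symm_apply]
  have hev : ∀ {B : Type u} [CommRing B] [Algebra R B] (J : Ideal B) {k l : ℕ} (hkl : k ≤ l) (x : AdicCompletion J B),
      Ideal.Quotient.factorₐ R (Ideal.pow_le_pow_right hkl) (AdicCompletion.evalₐ J l x) =
        AdicCompletion.evalₐ J k x := by
    intro B _ _ J k l hkl x
    obtain ⟨x, rfl⟩ := AdicCompletion.mk_surjective _ _ x
    simp only [AdicCompletion.evalₐ_mk]
    have := x.2 hkl
    rw [Ideal.Quotient.factorₐ_apply_mk, eq_comm, Ideal.Quotient.mk_eq_mk_iff_sub_mem]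
    rw [SModEq.sub_mem] at this
    simpa using this
  let F : AdicCompletion n A →ₐ[R] AdicCompletion I S :=
    AdicCompletion.liftAlgHom I (fun k => ((e k).toAlgHom).comp
      ((AdicCompletion.evalₐ n k).restrictScalars R)) (by
        intro k l hkl
        ext x
        change Ideal.Quotient.factorₐ R (Ideal.pow_le_pow_right hkl) (e l (AdicCompletion.evalₐ n l x)) =
          e k (AdicCompletion.evalₐ n k x)
        rw [hec hkl, hev n hkl])
  let G : AdicCompletion I S →ₐ[R] AdicCompletion n A :=
    AdicCompletion.liftAlgHom n (fun k => ((e k).symm.toAlgHom).comp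
      ((AdicCompletion.evalₐ I k).restrictScalars R)) (by
        intro k l hkl
        ext x
        change Ideal.Quotient.factorₐ R (Ideal.pow_le_pow_right hkl) ((e l).symm (AdicCompletion.evalₐ I l x)) =
          (e k).symm (AdicCompletion.evalₐ I k x)
        rw [hec' hkl, hev I hkl])
  have hF : ∀ k x, AdicCompletion.evalₐ I k (F x) = e k (AdicCompletion.evalₐ n k x) := by
    intro k x
    simp [F, AdicCompletion.evalₐ_liftAlgHom]
  have hG : ∀ k x, AdicCompletion.evalₐ n k (G x) = (e k).symm (AdicCompletion.evalₐ I k x) := by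
    intro k x
    simp [G, AdicCompletion.evalₐ_liftAlgHom]
  refine ⟨AlgEquiv.ofAlgHom F G ?_ ?_⟩
  · refine AlgHom.ext fun x => ?_
    change F (G x) = x
    apply AdicCompletion.ext_evalₐ
    intro k
    rw [hF, hG, AlgEquiv.apply_symm_apply]
  · refine AlgHom.ext fun x => ?_
    change G (F x) = x
    apply AdicCompletion.ext_evalₐ
    intro k
    rw [hG, hF, AlgEquiv.symm_apply_apply]

/-- an endomorphism which is the identity modulo `n ^ 2` -/
lemma endo_sub_mem {A B : Type u} [CommRing A] [CommRing B] (q θ : A →+* B) (n : Ideal A)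
    (h0 : ∀ a ∈ n, θ a - q a ∈ (n ^ 2).map q) (k : ℕ) (a : A) (ha : a ∈ n ^ k) (hk : 1 ≤ k) :
    θ a - q a ∈ (n ^ (k + 1)).map q := by
  induction k, hk using Nat.le_induction generalizing a with
  | base => rw [pow_one] at ha; exact h0 a ha
  | succ k hk ih =>
    rw [pow_succ'] at ha
    induction ha using Submodule.mul_induction_on' with
    | mem_mul_mem b hb c hc =>
      have h1 : θ (b * c) - q (b * c) = (θ b - q b) * θ c + q b * (θ c - q c) := by
        rw [map_mul, map_mul]; ring
      rw [h1]
      refine Ideal.add_mem _ ?_ ?_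
      · have h2 := ih c hc
        have h3 : θ c ∈ (n ^ k).map q := by
          have : θ c = (θ c - q c) + q c := by ring
          rw [this]
          refine Ideal.add_mem _ (Ideal.map_mono (Ideal.pow_le_pow_right (Nat.le_succ k)) h2)
            (Ideal.mem_map_of_mem _ hc)
        have h4 := Ideal.mul_mem_mul (h0 b hb) h3
        rw [← Ideal.map_mul, ← pow_add] at h4
        rwa [show k + 1 + 1 = 2 + k by ring]
      · have h4 := Ideal.mul_mem_mul (Ideal.mem_map_of_mem q hb) (ih c hc)
        rwa [← Ideal.map_mul, ← pow_succ'] at h4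
    | add x hx y hy h1 h2 =>
      have : θ (x + y) - q (x + y) = (θ x - q x) + (θ y - q y) := by
        rw [map_add, map_add]; ring
      rw [this]
      exact Ideal.add_mem _ h1 h2

/-- Stacks Tag 05D5 (2): let `R → S` be smooth with an `R`-algebra retraction `σ : S → R` and `I = ker σ`. If `I/I²` is free of rank `d` over `R`,
then the `I`-adic completion of `S` is isomorphic as an `R`-algebra to the power series ring in `d` variables over `R`. -/
theorem result {R S : Type u} [CommRing R] [CommRing S] [Algebra R S]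
    [Algebra.Smooth R S] (σ : S →ₐ[R] R) (d : ℕ)
    (e : (RingHom.ker σ.toRingHom).Cotangent ≃ₗ[R] (Fin d → R)) :
    Nonempty (AdicCompletion (RingHom.ker σ.toRingHom) S ≃ₐ[R] MvPowerSeries (Fin d) R) := by
  classical
  set I := RingHom.ker σ.toRingHom with hI
  have hmemI : ∀ s, s ∈ I ↔ σ s = 0 := fun s => Iff.rfl
  -- lifts of the basis
  have hf : ∀ i : Fin d, ∃ f : I, I.toCotangent f = e.symm (Pi.single i 1) := fun i =>
    I.toCotangent_surjective _
  choose f hf using hf
  set n := MvPolynomial.idealOfVars (Fin d) R with hn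
  let φ : MvPolynomial (Fin d) R →ₐ[R] S := MvPolynomial.aeval (fun i => (f i : S))
  have hφX : ∀ i, φ (MvPolynomial.X i) = f i := fun i => MvPolynomial.aeval_X _ _
  have hφn : n.map φ ≤ I := by
    rw [hn, MvPolynomial.idealOfVars, Ideal.map_span, Ideal.span_le]
    rintro _ ⟨_, ⟨i, rfl⟩, rfl⟩
    change φ (MvPolynomial.X i) ∈ I
    rw [hφX]
    exact (f i).2
  have h1 : ∀ k (a : MvPolynomial (Fin d) R), a ∈ n ^ k → φ a ∈ I ^ k := by
    intro k a ha
    have := Ideal.mem_map_of_mem φ ha
    rw [Ideal.map_pow] at this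
    exact Ideal.pow_right_mono hφn k this
  -- linear parts
  let lin : (Fin d → R) → I := fun c => ∑ i, algebraMap R S (c i) • f i
  let linA : (Fin d → R) → MvPolynomial (Fin d) R := fun c => ∑ i, MvPolynomial.C (c i) * MvPolynomial.X i
  have hlinA : ∀ c, φ (linA c) = lin c := by
    intro c
    simp only [lin, linA, map_sum, map_mul, hφX, AddSubmonoidClass.coe_finsetSum]
    apply Finset.sum_congr rfl
    intro i _
    change φ (algebraMap R _ (c i)) * _ = algebraMap R S (c i) * f i
    rw [AlgHom.commutes]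
  have hlinA_mem : ∀ c, linA c ∈ n := by
    intro c
    apply Ideal.sum_mem
    intro i _
    exact Ideal.mul_mem_left _ _ (Ideal.subset_span ⟨i, rfl⟩)
  have hlin : ∀ c, I.toCotangent (lin c) = e.symm c := by
    intro c
    have hc : c = ∑ i, c i • (Pi.single i 1 : Fin d → R) := by
      ext j
      simp [Finset.sum_apply, Pi.single_apply]
    conv_rhs => rw [hc]
    simp only [lin, map_sum, map_smul, hf]
    apply Finset.sum_congr rfl
    intro i _
    rw [algebraMap_smul]
  have hA1 : ∀ s ∈ I, ∃ a ∈ n, s - φ a ∈ I ^ 2 := by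
    intro s hs
    refine ⟨linA (e (I.toCotangent ⟨s, hs⟩)), hlinA_mem _, ?_⟩
    rw [hlinA]
    have := (I.toCotangent_eq (x := ⟨s, hs⟩) (y := lin (e (I.toCotangent ⟨s, hs⟩)))).1 (by
      rw [hlin, LinearEquiv.symm_apply_apply])
    exact this
  have hA2 : ∀ c, (lin c : S) ∈ I ^ 2 → c = 0 := by
    intro c hc
    rw [← I.toCotangent_eq_zero, hlin] at hc
    simpa using hc
  have hP : ∀ k (s : S), s ∈ I ^ k → ∃ a ∈ n ^ k, s - φ a ∈ I ^ (k + 1) := by
    intro k
    induction k with
    | zero =>
      intro s _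
      refine ⟨algebraMap R _ (σ s), by simp, ?_⟩
      rw [zero_add, pow_one, AlgHom.commutes, hmemI, map_sub, AlgHom.commutes]
      exact sub_self _
    | succ k ih =>
      intro s hs
      rw [pow_succ'] at hs
      induction hs using Submodule.mul_induction_on' with
      | mem_mul_mem x hx y hy =>
        obtain ⟨a, ha, ha'⟩ := hA1 x hx
        obtain ⟨b, hb, hb'⟩ := ih y hy
        refine ⟨a * b, ?_, ?_⟩
        · rw [pow_succ']; exact Ideal.mul_mem_mul ha hb
        · have : x * y - φ (a * b) = (x - φ a) * y + φ a * (y - φ b) := by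
            rw [map_mul]; ring
          rw [this]
          refine Ideal.add_mem _ ?_ ?_
          · have := Ideal.mul_mem_mul ha' hy
            rwa [← pow_add, show 2 + k = k + 1 + 1 by ring] at this
          · have h3 := h1 1 a (by rwa [pow_one])
            have := Ideal.mul_mem_mul h3 hb'
            rwa [← pow_add, show 1 + (k + 1) = k + 1 + 1 by ring] at this
      | add x hx y hy h1 h2 =>
        obtain ⟨a, ha, ha'⟩ := h1
        obtain ⟨b, hb, hb'⟩ := h2
        refine ⟨a + b, Ideal.add_mem _ ha hb, ?_⟩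
        have : x + y - φ (a + b) = (x - φ a) + (y - φ b) := by rw [map_add]; ring
        rw [this]
        exact Ideal.add_mem _ ha' hb'
  have h3 : ∀ k (s : S), ∃ a, s - φ a ∈ I ^ k := by
    intro k
    induction k with
    | zero => intro s; exact ⟨0, by simp⟩
    | succ k ih =>
      intro s
      obtain ⟨a, ha⟩ := ih s
      obtain ⟨b, _, hb'⟩ := hP k _ ha
      refine ⟨a + b, ?_⟩
      rwa [map_add, ← sub_sub]
  -- low degrees
  have hσφ : ∀ a, σ (φ a) = MvPolynomial.constantCoeff a := by
    intro a
    have : σ.comp φ = MvPolynomial.aeval (fun _ => (0 : R)) := by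
      apply MvPolynomial.algHom_ext
      intro i
      rw [AlgHom.comp_apply, hφX, MvPolynomial.aeval_X]
      exact (hmemI _).1 (f i).2
    have h' := AlgHom.congr_fun this a
    rw [AlgHom.comp_apply] at h'
    rw [h']
    simp [MvPolynomial.aeval_def]
  have hlow1 : ∀ a, φ a ∈ I → a ∈ n := by
    intro a ha
    rw [hmemI, hσφ] at ha
    rw [← pow_one n, hn, MvPolynomial.mem_pow_idealOfVars_iff']
    intro x hx
    have : x = 0 := by
      rw [Nat.lt_one_iff, Finsupp.degree_eq_zero_iff] at hx
      exact hx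
    rw [this]
    exact ha
  have hlow2 : ∀ a, φ a ∈ I ^ 2 → a ∈ n ^ 2 := by
    intro a ha
    have han : a ∈ n := hlow1 a (Ideal.pow_le_self two_ne_zero ha)
    let c : Fin d → R := fun i => a.coeff (Finsupp.single i 1)
    have hac : a - linA c ∈ n ^ 2 := by
      rw [hn, MvPolynomial.mem_pow_idealOfVars_iff']
      intro x hx
      rw [MvPolynomial.coeff_sub, sub_eq_zero]
      have hx' : x = 0 ∨ ∃ i, x = Finsupp.single i 1 := by
        have h01 : x.degree = 0 ∨ x.degree = 1 := by omega
        rcases h01 with h | h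
        · left; exact (Finsupp.degree_eq_zero_iff x).1 h
        · right
          have h' : x ∈ {y : Fin d →₀ ℕ | y.degree = 1} := h
          rw [← Finsupp.range_single_one] at h'
          obtain ⟨i, hi⟩ := h'
          exact ⟨i, hi.symm⟩
      rcases hx' with rfl | ⟨i, rfl⟩
      · have h5 : a.coeff 0 = 0 := by
          have := han
          rw [← pow_one n, hn, MvPolynomial.mem_pow_idealOfVars_iff'] at this
          exact this 0 (by simp)
        have h6 : (linA c).coeff 0 = 0 := by
          have := hlinA_mem c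
          rw [← pow_one n, hn, MvPolynomial.mem_pow_idealOfVars_iff'] at this
          exact this 0 (by simp)
        rw [h5, h6]
      · simp only [linA, MvPolynomial.coeff_sum, MvPolynomial.coeff_C_mul, MvPolynomial.coeff_X]
        rw [Finset.sum_eq_single i]
        · simp [c]
        · intro j _ hj
          rw [if_neg, mul_zero]
          intro h
          exact hj (Finsupp.single_left_injective one_ne_zero h)
        · intro h; exact absurd (Finset.mem_univ i) h
    have h7 : (lin c : S) ∈ I ^ 2 := by
      rw [← hlinA]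
      have : φ (linA c) = φ a - φ (a - linA c) := by rw [map_sub]; ring
      rw [this]
      exact Ideal.sub_mem _ ha (h1 2 _ hac)
    have h8 := hA2 c h7
    have h9 : linA c = 0 := by simp [linA, h8]
    rwa [h9, sub_zero] at hac
  have h2 : ∀ k (a : MvPolynomial (Fin d) R), φ a ∈ I ^ k → a ∈ n ^ k := by
    intro k
    induction k with
    | zero => intro a _; simp
    | succ k ih =>
      intro a ha
      rcases Nat.lt_or_ge k 2 with hk | hk
      · interval_cases k
        · rw [zero_add, pow_one] at ha ⊢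
          exact hlow1 a ha
        · exact hlow2 a ha
      have hak : a ∈ n ^ k := ih a (Ideal.pow_le_pow_right (Nat.le_succ k) ha)
      -- the map `S → A / n ^ 2`
      have hbij2 : Function.Bijective (Ideal.quotientMapₐ (I ^ 2) φ (I := n ^ 2) (h1 2)) := by
        constructor
        · rw [injective_iff_map_eq_zero]
          intro x hx
          obtain ⟨a, rfl⟩ := Ideal.Quotient.mk_surjective x
          have hx' : Ideal.Quotient.mk (I ^ 2) (φ a) = 0 := hx
          rw [Ideal.Quotient.eq_zero_iff_mem] at hx' ⊢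
          exact hlow2 a hx'
        · intro y
          obtain ⟨s, rfl⟩ := Ideal.Quotient.mk_surjective y
          obtain ⟨a, ha⟩ := h3 2 s
          refine ⟨Ideal.Quotient.mk _ a, ?_⟩
          have : Ideal.Quotient.mk (I ^ 2) (φ a) = Ideal.Quotient.mk (I ^ 2) s := by
            rw [eq_comm, Ideal.Quotient.mk_eq_mk_iff_sub_mem]
            exact ha
          exact this
      let e2 : (MvPolynomial (Fin d) R ⧸ n ^ 2) ≃ₐ[R] (S ⧸ I ^ 2) := AlgEquiv.ofBijective _ hbij2
      let ψ2 : S →ₐ[R] (MvPolynomial (Fin d) R ⧸ n ^ 2) := e2.symm.toAlgHom.comp (Ideal.Quotient.mkₐ R _)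
      have hψ2 : ∀ b, ψ2 (φ b) = Ideal.Quotient.mk _ b := by
        intro b
        change e2.symm (Ideal.Quotient.mk _ (φ b)) = _
        rw [AlgEquiv.symm_apply_eq]
        rfl
      have hle : n ^ (k + 1) ≤ n ^ 2 := Ideal.pow_le_pow_right (by omega)
      let g : (MvPolynomial (Fin d) R ⧸ n ^ (k + 1)) →ₐ[R] (MvPolynomial (Fin d) R ⧸ n ^ 2) :=
        Ideal.Quotient.factorₐ R hle
      have hg : Function.Surjective g := Ideal.Quotient.factor_surjective hle
      have hgker : ∀ b : MvPolynomial (Fin d) R, g (Ideal.Quotient.mk _ b) = Ideal.Quotient.mk _ b := fun b => rfl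
      have hg' : IsNilpotent (RingHom.ker
          (g : (MvPolynomial (Fin d) R ⧸ n ^ (k + 1)) →+* (MvPolynomial (Fin d) R ⧸ n ^ 2))) := by
        refine ⟨k + 1, ?_⟩
        have h10 : RingHom.ker
            (g : (MvPolynomial (Fin d) R ⧸ n ^ (k + 1)) →+* (MvPolynomial (Fin d) R ⧸ n ^ 2)) ≤
            n.map (Ideal.Quotient.mk (n ^ (k + 1))) := by
          intro x hx
          obtain ⟨b, rfl⟩ := Ideal.Quotient.mk_surjective x
          have : Ideal.Quotient.mk (n ^ 2) b = 0 := hx
          rw [Ideal.Quotient.eq_zero_iff_mem] at this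
          exact Ideal.mem_map_of_mem _ (Ideal.pow_le_self two_ne_zero this)
        rw [Ideal.zero_eq_bot, eq_bot_iff]
        refine (Ideal.pow_right_mono h10 _).trans ?_
        rw [← Ideal.map_pow, Ideal.map_quotient_self]
      let ψ := Algebra.FormallySmooth.liftOfSurjective ψ2 g hg hg'
      have hψ : ∀ s, g (ψ s) = ψ2 s := fun s => Algebra.FormallySmooth.liftOfSurjective_apply ψ2 g hg hg' s
      have hψI : ∀ s ∈ I ^ (k + 1), ψ s = 0 := by
        have h11 : I.map ψ ≤ n.map (Ideal.Quotient.mk (n ^ (k + 1))) := by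
          rw [Ideal.map_le_iff_le_comap]
          intro s hs
          rw [Ideal.mem_comap]
          obtain ⟨b, hb⟩ := Ideal.Quotient.mk_surjective (ψ s)
          have h12 : Ideal.Quotient.mk (n ^ 2) b = ψ2 s := by rw [← hψ, ← hb]; rfl
          obtain ⟨b', hb'n, hb'⟩ := hA1 s hs
          have h14 : ψ2 s = Ideal.Quotient.mk _ b' := by
            have : s = (s - φ b') + φ b' := by ring
            rw [this, map_add, hψ2]
            have h15 : ψ2 (s - φ b') = 0 := by
              change e2.symm (Ideal.Quotient.mk _ (s - φ b')) = _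
              rw [Ideal.Quotient.eq_zero_iff_mem.2 hb', map_zero]
            rw [h15, zero_add]
          rw [h14, Ideal.Quotient.mk_eq_mk_iff_sub_mem] at h12
          have h16 : b ∈ n := by
            have : b = (b - b') + b' := by ring
            rw [this]
            exact Ideal.add_mem _ (Ideal.pow_le_self two_ne_zero h12) hb'n
          rw [← hb]
          exact Ideal.mem_map_of_mem _ h16
        intro s hs
        have h17 := Ideal.mem_map_of_mem ψ hs
        rw [Ideal.map_pow] at h17
        have h18 := Ideal.pow_right_mono h11 _ h17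
        rw [← Ideal.map_pow, Ideal.map_quotient_self] at h18
        exact h18
      have h19 := endo_sub_mem (Ideal.Quotient.mk (n ^ (k + 1)))
        ((ψ.comp φ : _ →ₐ[R] _) : MvPolynomial (Fin d) R →+* MvPolynomial (Fin d) R ⧸ n ^ (k + 1)) n (by
          intro b hb
          obtain ⟨c, hc⟩ := Ideal.Quotient.mk_surjective (ψ (φ b))
          change ψ (φ b) - _ ∈ _
          rw [← hc, ← map_sub]
          apply Ideal.mem_map_of_mem
          rw [← Ideal.Quotient.mk_eq_mk_iff_sub_mem, ← hgker, hc, hψ, hψ2]) k a hak (by omega)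
      change ψ (φ a) - _ ∈ _ at h19
      rw [hψI _ ha, Ideal.map_quotient_self, zero_sub, neg_mem_iff, Ideal.mem_bot,
        Ideal.Quotient.eq_zero_iff_mem] at h19
      exact h19
  obtain ⟨E⟩ := exists_adicCompletion_equiv n I φ h1 h2 h3
  exact ⟨E.symm.trans ((MvPowerSeries.toAdicCompletionAlgEquiv (Fin d) R).symm.restrictScalars R)⟩

end Groth.Agent.S2099
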