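import Groth.Statements.S2101
import Mathlib.Data.Fin.Tuple.Sort
import Mathlib.Tactic.LinearCombination

set_option autoImplicit false
universe u
open CAlg

namespace Groth.Agent.S2101

open MvPolynomial RingTheory.Sequence

/-- The ideal generated by the elements `g j`, `j ∈ S`. -/
def spanOn {A : Type u} [CommRing A] {r : ℕ} (g : Fin r → A) (S : Set (Fin r)) : Ideal A :=
  Ideal.span (g '' S)

theorem spanOn_mono {A : Type u} [CommRing A] {r : ℕ} (g : Fin r → A) {S T : Set (Fin r)} (h : S ⊆ T) :
    spanOn g S ≤ spanOn g T := Ideal.span_mono (Set.image_mono h)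

theorem ofList_take {A : Type u} [CommRing A] {r : ℕ} (g : Fin r → A) (i : Fin r) :
    Ideal.ofList ((List.ofFn g).take i) = spanOn g {j | j < i} := by
  unfold spanOn Ideal.ofList
  congr 1
  ext x
  simp only [Set.mem_ofPred_eq, Set.mem_image, List.mem_take_iff_getElem, List.getElem_ofFn,
    List.length_ofFn]
  constructor
  · rintro ⟨j, hj, rfl⟩
    exact ⟨⟨j, by omega⟩, Fin.lt_def.mpr (by simp; omega), rfl⟩
  · rintro ⟨j, hj, rfl⟩
    have h1 := j.2
    have h2 := i.2
    have h3 : (j : ℕ) < i := Fin.lt_def.mp hj
    exact ⟨j, by omega, rfl⟩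

theorem isWeaklyRegular_ofFn_iff {A : Type u} [CommRing A] {r : ℕ} (g : Fin r → A) :
    IsWeaklyRegular A (List.ofFn g) ↔
      ∀ i : Fin r, ∀ a, g i * a ∈ spanOn g {j | j < i} → a ∈ spanOn g {j | j < i} := by
  rw [isWeaklyRegular_iff]
  constructor
  · intro h i a ha
    have h1 := h i (by simp)
    rw [isSMulRegular_quotient_iff_mem_of_smul_mem, ofList_take] at h1
    have := h1 a (by simpa using ha)
    simpa using this
  · intro h i hi
    have hi' : i < r := by simpa using hi
    rw [isSMulRegular_quotient_iff_mem_of_smul_mem]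
    have h2 := ofList_take g ⟨i, hi'⟩
    simp only at h2
    rw [h2]
    intro a ha
    have := h ⟨i, hi'⟩ a (by simpa using ha)
    simpa using this

/-- all subfamilies: `g i` is regular modulo any set of the others. -/
def AllReg {A : Type u} [CommRing A] {r : ℕ} (g : Fin r → A) : Prop :=
  ∀ (S : Finset (Fin r)) (i : Fin r), i ∉ S → ∀ a, g i * a ∈ spanOn g (S : Set (Fin r)) → a ∈ spanOn g (S : Set (Fin r))

/-- ordered subfamilies. -/
def OrdReg {A : Type u} [CommRing A] {r : ℕ} (g : Fin r → A) : Prop :=
  ∀ (S : Finset (Fin r)) (i : Fin r), (∀ j ∈ S, j < i) →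
    ∀ a, g i * a ∈ spanOn g (S : Set (Fin r)) → a ∈ spanOn g (S : Set (Fin r))

theorem allReg_of_ordReg {A : Type u} [CommRing A] {r : ℕ} (g : Fin r → A) (h : OrdReg g) : AllReg g := by
  classical
  intro S
  induction S using Finset.induction_on_max with
  | empty =>
    intro i _ a ha
    exact h ∅ i (by simp) a ha
  | insert m S hS ih =>
    intro i hi a ha
    have him : i ≠ m := fun h => hi (h ▸ Finset.mem_insert_self _ _)
    have hiS : i ∉ S := fun h => hi (Finset.mem_insert_of_mem h)
    rcases lt_or_gt_of_ne him with hlt | hgt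
    · -- `i < m`
      have hins : ∀ (k : Fin r) (x : A), x ∈ spanOn g (↑(insert k S) : Set (Fin r)) ↔
          ∃ b, ∃ c ∈ spanOn g (S : Set (Fin r)), b * g k + c = x := by
        intro k x
        unfold spanOn
        rw [Finset.coe_insert, Set.image_insert_eq, Ideal.mem_span_insert]
        simp only [eq_comm]
      obtain ⟨b, c, hc, hbc⟩ := (hins m _).mp ha
      have h1 : g m * b ∈ spanOn g (↑(insert i S) : Set (Fin r)) := by
        rw [hins]
        exact ⟨a, -c, neg_mem hc, by linear_combination -hbc⟩
      have h2 := h (insert i S) m (by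
        intro j hj
        rcases Finset.mem_insert.mp hj with rfl | hj
        · exact hlt
        · exact hS j hj) b h1
      obtain ⟨b', c', hc', hbc'⟩ := (hins i _).mp h2
      have h3 : g i * (a - g m * b') ∈ spanOn g (S : Set (Fin r)) := by
        have : g i * (a - g m * b') = c + g m * c' := by
          linear_combination -hbc - g m * hbc'
        rw [this]
        exact add_mem hc (Ideal.mul_mem_left _ _ hc')
      have h4 := ih i hiS _ h3
      rw [hins]
      exact ⟨b', _, h4, by ring⟩
    · refine h _ i ?_ a ha
      intro j hj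
      rcases Finset.mem_insert.mp hj with rfl | hj
      · exact hgt
      · exact (hS j hj).trans hgt

theorem allReg_iff_perm {A : Type u} [CommRing A] {r : ℕ} (g : Fin r → A) :
    AllReg g ↔ ∀ σ : Equiv.Perm (Fin r), IsWeaklyRegular A (List.ofFn (g ∘ σ)) := by
  classical
  constructor
  · intro h σ
    rw [isWeaklyRegular_ofFn_iff]
    intro i a ha
    have hS : spanOn (g ∘ σ) {j | j < i} = spanOn g (((Finset.univ.filter (· < i)).image σ : Finset (Fin r)) : Set (Fin r)) := by
      unfold spanOn
      rw [Set.image_comp]
      congr 2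
      ext x
      simp
    rw [hS] at ha ⊢
    refine h _ (σ i) ?_ a ha
    simp
  · intro h S i hi a ha
    let p : Fin r → ℕ := fun j => if j ∈ S then 0 else if j = i then 1 else 2
    let σ := Tuple.sort p
    have hmono : Monotone (p ∘ σ) := Tuple.monotone_sort p
    obtain ⟨k, hk⟩ := σ.surjective i
    have hpi : p i = 1 := by simp [p, hi]
    have hS : spanOn (g ∘ σ) {j | j < k} = spanOn g (S : Set (Fin r)) := by
      unfold spanOn
      rw [Set.image_comp]
      congr 2
      ext x
      simp only [Set.mem_image, Set.mem_ofPred_eq, Finset.mem_coe]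
      constructor
      · rintro ⟨j, hj, rfl⟩
        have h1 : p (σ j) ≤ 1 := by
          have := hmono hj.le
          simp only [Function.comp_apply, hk, hpi] at this
          exact this
        have h2 : σ j ≠ i := fun h => hj.ne (σ.injective (h.trans hk.symm))
        by_contra h3
        simp [p, h3, h2] at h1
      · intro hx
        obtain ⟨j, rfl⟩ := σ.surjective x
        refine ⟨j, ?_, rfl⟩
        by_contra hjk
        have := hmono (not_lt.mp hjk)
        simp only [Function.comp_apply, hk, hpi] at this
        simp [p, hx] at this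
    have h1 := (isWeaklyRegular_ofFn_iff _).mp (h σ) k a
    rw [hS, Function.comp_apply, hk] at h1
    exact h1 ha

/-- The ideal generated by the `f_i x_i`, `i ∈ T`. -/
theorem mem_spanOn_mvPolynomial {R : Type u} [CommRing R] {r : ℕ} (f : Fin r → R) (T : Set (Fin r))
    (P : MvPolynomial (Fin r) R) :
    P ∈ spanOn (fun i => MvPolynomial.C (f i) * MvPolynomial.X i : Fin r → MvPolynomial (Fin r) R) T ↔
      ∀ E : Fin r →₀ ℕ, coeff E P ∈ spanOn f ((E.support : Set (Fin r)) ∩ T) := by
  classical
  constructor
  · intro hP
    let K : Ideal (MvPolynomial (Fin r) R) :=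
      { carrier := {P | ∀ E : Fin r →₀ ℕ, coeff E P ∈ spanOn f ((E.support : Set (Fin r)) ∩ T)}
        add_mem' := fun {a b} ha hb E => by rw [coeff_add]; exact add_mem (ha E) (hb E)
        zero_mem' := fun E => by rw [coeff_zero]; exact zero_mem _
        smul_mem' := fun c x hx E => by
          rw [smul_eq_mul, coeff_mul]
          refine sum_mem fun uv huv => Ideal.mul_mem_left _ _ ?_
          refine spanOn_mono f ?_ (hx uv.2)
          refine Set.inter_subset_inter_left _ ?_
          rw [Finset.mem_antidiagonal] at huv
          intro j hj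
          simp only [Finset.mem_coe, Finsupp.mem_support_iff] at hj ⊢
          rw [← huv, Finsupp.add_apply]
          omega }
    have hK : spanOn (fun i => MvPolynomial.C (f i) * MvPolynomial.X i : Fin r → MvPolynomial (Fin r) R) T ≤ K := by
      unfold spanOn
      rw [Ideal.span_le]
      rintro _ ⟨j, hj, rfl⟩ E
      rw [coeff_C_mul, coeff_X]
      split_ifs with h
      · rw [mul_one]
        refine Ideal.subset_span ⟨j, ⟨?_, hj⟩, rfl⟩
        rw [← h]; simp
      · rw [mul_zero]; exact zero_mem _
    exact hK hP
  · intro h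
    rw [P.as_sum]
    refine sum_mem fun E _ => ?_
    have h1 := h E
    generalize coeff E P = a at h1
    unfold spanOn at h1
    refine Submodule.span_induction (p := fun a _ => monomial E a ∈ spanOn (fun i => MvPolynomial.C (f i) * MvPolynomial.X i : Fin r → MvPolynomial (Fin r) R) T) ?_ ?_ ?_ ?_ h1
    · rintro _ ⟨j, ⟨hj, hjT⟩, rfl⟩
      simp only [Finset.mem_coe, Finsupp.mem_support_iff] at hj
      have h2 : monomial E (f j) = monomial (E - Finsupp.single j 1) 1 * (C (f j) * X j) := by
        rw [C_mul_X_eq_monomial, monomial_mul, one_mul]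
        have h3 : E - Finsupp.single j 1 + Finsupp.single j 1 = E := by
          ext k
          simp only [Finsupp.coe_add, Finsupp.coe_tsub, Pi.add_apply, Pi.sub_apply]
          by_cases hk : j = k
          · subst hk; simp; omega
          · simp [Finsupp.single_apply, hk]
        rw [h3]
      rw [h2]
      exact Ideal.mul_mem_left _ _ (Ideal.subset_span ⟨j, hjT, rfl⟩)
    · simp
    · intro x y _ _ hx hy
      rw [map_add]; exact add_mem hx hy
    · intro c x _ hx
      rw [smul_eq_mul, ← C_mul_monomial]
      exact Ideal.mul_mem_left _ _ hx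

theorem ordReg_iff {R : Type u} [CommRing R] {r : ℕ} (f : Fin r → R) :
    OrdReg f ↔ IsWeaklyRegular (MvPolynomial (Fin r) R)
        (List.ofFn fun i => MvPolynomial.C (f i) * MvPolynomial.X i) := by
  classical
  rw [isWeaklyRegular_ofFn_iff]
  constructor
  · intro h i P hP
    rw [mem_spanOn_mvPolynomial] at hP ⊢
    intro E
    have h1 := hP (E + Finsupp.single i 1)
    have h2 : coeff (E + Finsupp.single i 1) (C (f i) * X i * P) = f i * coeff E P := by
      rw [show C (f i) * X i * P = C (f i) * (P * X i) by ring, coeff_C_mul, coeff_mul_X]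
    have h3 : ((E + Finsupp.single i 1).support : Set (Fin r)) ∩ {j | j < i} =
        ((E.support.filter (· < i) : Finset (Fin r)) : Set (Fin r)) := by
      ext j
      simp only [Set.mem_inter_iff, Finset.mem_coe, Finsupp.mem_support_iff, Set.mem_ofPred_eq,
        Finset.coe_filter, Finsupp.add_apply, Finsupp.single_apply]
      constructor
      · rintro ⟨h1, h2⟩
        have : i ≠ j := (ne_of_lt h2).symm
        simp [this] at h1
        exact ⟨h1, h2⟩
      · rintro ⟨h1, h2⟩
        exact ⟨by omega, h2⟩
    have h4 : (E.support : Set (Fin r)) ∩ {j | j < i} =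
        ((E.support.filter (· < i) : Finset (Fin r)) : Set (Fin r)) := by
      ext j; simp
    rw [h2, h3] at h1
    rw [h4]
    exact h _ i (by simp) _ h1
  · intro h S i hS a ha
    -- monomial with support `S`
    let E : Fin r →₀ ℕ := ∑ j ∈ S, Finsupp.single j 1
    have hE : ∀ j, E j ≠ 0 ↔ j ∈ S := by
      intro j
      simp only [E, Finsupp.finsetSum_apply, Finsupp.single_apply]
      simp
    have hEi : (E.support : Set (Fin r)) ∩ {j | j < i} = (S : Set (Fin r)) := by
      ext j
      simp only [Set.mem_inter_iff, Finset.mem_coe, Finsupp.mem_support_iff, Set.mem_ofPred_eq, hE]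
      exact ⟨fun h => h.1, fun h => ⟨h, hS j h⟩⟩
    have h1 := h i (monomial E a) ?_
    · rw [mem_spanOn_mvPolynomial] at h1
      have := h1 E
      rwa [coeff_monomial, if_pos rfl, hEi] at this
    · rw [mem_spanOn_mvPolynomial]
      intro F
      rw [C_mul_X_eq_monomial, monomial_mul, coeff_monomial]
      split_ifs with hF
      · refine spanOn_mono f ?_ ha
        intro j hj
        refine ⟨?_, hS j hj⟩
        rw [← hF]
        simp only [Finset.mem_coe, Finsupp.mem_support_iff, Finsupp.add_apply]
        have := (hE j).mpr hj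
        omega
      · exact zero_mem _

/-- Stacks Tag 07DW, (1) iff (3): for elements `f_1, …, f_r` generating a proper ideal, all reorderings are regular sequences in `R` if and only if the
products `f_i x_i` form a regular sequence in `R[x_1, …, x_r]`. -/
theorem result {R : Type u} [CommRing R] {r : ℕ} (f : Fin r → R)
    (hf : Ideal.span (Set.range f) ≠ ⊤) :
    (∀ σ : Equiv.Perm (Fin r), RingTheory.Sequence.IsRegular R (List.ofFn (f ∘ σ))) ↔
      RingTheory.Sequence.IsRegular (MvPolynomial (Fin r) R)
        (List.ofFn fun i => MvPolynomial.C (f i) * MvPolynomial.X i) := by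
  have hspan : ∀ {A : Type u} [CommRing A] (g : Fin r → A), Ideal.ofList (List.ofFn g) = Ideal.span (Set.range g) := by
    intro A _ g
    unfold Ideal.ofList
    congr 1
    ext x
    simp [List.mem_ofFn]
  constructor
  · intro h
    refine ⟨(ordReg_iff f).mp ?_, ?_⟩
    · have := (allReg_iff_perm f).mpr fun σ => (h σ).toIsWeaklyRegular
      intro S i hi
      exact this S i fun hcon => lt_irrefl _ (hi i hcon)
    · rw [hspan]
      intro hcon
      apply hf
      have h1 : (1 : MvPolynomial (Fin r) R) ∈ spanOn (fun i => MvPolynomial.C (f i) * MvPolynomial.X i : Fin r → MvPolynomial (Fin r) R) Set.univ := by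
        unfold spanOn
        rw [Set.image_univ]
        have : (1 : MvPolynomial (Fin r) R) ∈ (⊤ : Submodule (MvPolynomial (Fin r) R) (MvPolynomial (Fin r) R)) := trivial
        rw [hcon] at this
        simpa using this
      rw [mem_spanOn_mvPolynomial] at h1
      have h2 := h1 0
      rw [coeff_zero_one] at h2
      rw [Ideal.eq_top_iff_one]
      have h3 := spanOn_mono f (Set.subset_univ _) h2
      unfold spanOn at h3
      rwa [Set.image_univ] at h3
  · intro h σ
    have h1 := allReg_of_ordReg f ((ordReg_iff f).mpr h.toIsWeaklyRegular)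
    refine ⟨(allReg_iff_perm f).mp h1 σ, ?_⟩
    rw [hspan]
    intro hcon
    apply hf
    rw [σ.surjective.range_comp] at hcon
    rw [hcon]
    simp

end Groth.Agent.S2101
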