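import Groth.Statements.S2103
-- import your own Groth.Agent.* helpers here
import Groth.Agent.CalgB.QuasiRegular

set_option autoImplicit false
universe u
open CAlg

namespace Groth.Agent.S2103

/-- Stacks Tag 062I, case `M = R`: an `H_1`-regular sequence in a ring (first Koszul homology zero) is quasi-regular (the associated graded
of the ideal it generates is a polynomial ring over the quotient). -/
theorem result {R : Type u} [CommRing R] {c : ℕ} (f : Fin c → R) (hf : CAlgX.IsH1Regular f) :
    CAlgX.IsQuasiRegular f :=
  Groth.Agent.CalgB.QuasiRegular.isQuasiRegular_of_isH1Regular hf

end Groth.Agent.S2103
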