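import Groth.Statements.S2105
-- import your own Groth.Agent.* helpers here

set_option autoImplicit false
universe u
open CAlg

namespace Groth.Agent.S2105

/-- the trivial (Koszul) relations of a finite sequence. -/
def trivRel {A : Type u} [CommRing A] {n : ℕ} (f : Fin n → A) : Submodule A (Fin n → A) :=
  Submodule.span A {v : Fin n → A | ∃ i j : Fin n, v = Pi.single i (f j) - Pi.single j (f i)}

lemma trivRel_mem {A : Type u} [CommRing A] {n : ℕ} (f : Fin n → A) (i j : Fin n) :
    (Pi.single i (f j) - Pi.single j (f i) : Fin n → A) ∈ trivRel f :=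
  Submodule.subset_span ⟨i, j, rfl⟩

lemma append_single_left {A : Type u} [CommRing A] {n m : ℕ} (i : Fin n) (x : A) :
    Fin.append (Pi.single i x : Fin n → A) (0 : Fin m → A) = Pi.single (Fin.castAdd m i) x := by
  ext k
  refine Fin.addCases (fun k => ?_) (fun k => ?_) k
  · simp only [Fin.append_left]
    by_cases h : k = i
    · subst h; simp
    · rw [Pi.single_eq_of_ne h, Pi.single_eq_of_ne (by simpa using h)]
  · simp only [Fin.append_right, Pi.zero_apply]
    rw [Pi.single_eq_of_ne]
    intro h
    have := congrArg Fin.val h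
    simp at this
    omega

lemma append_single_right {A : Type u} [CommRing A] {n m : ℕ} (i : Fin m) (x : A) :
    Fin.append (0 : Fin n → A) (Pi.single i x : Fin m → A) = Pi.single (Fin.natAdd n i) x := by
  ext k
  refine Fin.addCases (fun k => ?_) (fun k => ?_) k
  · simp only [Fin.append_left, Pi.zero_apply]
    rw [Pi.single_eq_of_ne]
    intro h
    have := congrArg Fin.val h
    simp at this
    omega
  · simp only [Fin.append_right]
    by_cases h : k = i
    · subst h; simp
    · rw [Pi.single_eq_of_ne h, Pi.single_eq_of_ne (by simpa using h)]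

/-- left inclusion -/
def inL (A : Type u) [CommRing A] (n m : ℕ) : (Fin n → A) →ₗ[A] (Fin (n + m) → A) where
  toFun b := Fin.append b 0
  map_add' x y := by
    ext k; refine Fin.addCases (fun k => ?_) (fun k => ?_) k <;> simp
  map_smul' r x := by
    ext k; refine Fin.addCases (fun k => ?_) (fun k => ?_) k <;> simp

/-- right inclusion -/
def inR (A : Type u) [CommRing A] (n m : ℕ) : (Fin m → A) →ₗ[A] (Fin (n + m) → A) where
  toFun b := Fin.append 0 b
  map_add' x y := by
    ext k; refine Fin.addCases (fun k => ?_) (fun k => ?_) k <;> simp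
  map_smul' r x := by
    ext k; refine Fin.addCases (fun k => ?_) (fun k => ?_) k <;> simp

lemma inL_single {A : Type u} [CommRing A] {n m : ℕ} (i : Fin n) (x : A) :
    inL A n m (Pi.single i x) = Pi.single (Fin.castAdd m i) x := append_single_left i x

lemma inR_single {A : Type u} [CommRing A] {n m : ℕ} (i : Fin m) (x : A) :
    inR A n m (Pi.single i x) = Pi.single (Fin.natAdd n i) x := append_single_right i x

lemma eq_inL_add_inR {A : Type u} [CommRing A] {n m : ℕ} (a : Fin (n + m) → A) :
    a = inL A n m (fun i => a (Fin.castAdd m i)) + inR A n m (fun i => a (Fin.natAdd n i)) := by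
  ext k; refine Fin.addCases (fun k => ?_) (fun k => ?_) k <;> simp [inL, inR]

lemma inL_triv {A : Type u} [CommRing A] {n m : ℕ} (f : Fin n → A) (g : Fin m → A)
    {t : Fin n → A} (ht : t ∈ trivRel f) : inL A n m t ∈ trivRel (Fin.append f g) := by
  have : trivRel f ≤ (trivRel (Fin.append f g)).comap (inL A n m) := by
    refine Submodule.span_le.mpr ?_
    rintro _ ⟨i, j, rfl⟩
    simp only [SetLike.mem_coe, Submodule.mem_comap, map_sub, inL_single]
    have := trivRel_mem (Fin.append f g) (Fin.castAdd m i) (Fin.castAdd m j)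
    simpa using this
  exact this ht

lemma inR_triv {A : Type u} [CommRing A] {n m : ℕ} (f : Fin n → A) (g : Fin m → A)
    {t : Fin m → A} (ht : t ∈ trivRel g) : inR A n m t ∈ trivRel (Fin.append f g) := by
  have : trivRel g ≤ (trivRel (Fin.append f g)).comap (inR A n m) := by
    refine Submodule.span_le.mpr ?_
    rintro _ ⟨i, j, rfl⟩
    simp only [SetLike.mem_coe, Submodule.mem_comap, map_sub, inR_single]
    have := trivRel_mem (Fin.append f g) (Fin.natAdd n i) (Fin.natAdd n j)
    simpa using this
  exact this ht

/-- For `c` with all components in `(f)`, `inR c` is congruent to some `inL b`. -/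
lemma exists_inL {A : Type u} [CommRing A] {n m : ℕ} (f : Fin n → A) (g : Fin m → A)
    (c : Fin m → A) (hc : ∀ j, c j ∈ Ideal.span (Set.range f)) :
    ∃ b : Fin n → A, inR A n m c - inL A n m b ∈ trivRel (Fin.append f g) := by
  classical
  -- single components first
  have key : ∀ (j : Fin m) (x : A), x ∈ Ideal.span (Set.range f) →
      ∃ b : Fin n → A, inR A n m (Pi.single j x) - inL A n m b ∈ trivRel (Fin.append f g) := by
    intro j x hx
    induction hx using Submodule.span_induction with
    | mem x hx =>
      obtain ⟨i, rfl⟩ := hx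
      refine ⟨Pi.single i (g j), ?_⟩
      rw [inR_single, inL_single]
      have := trivRel_mem (Fin.append f g) (Fin.natAdd n j) (Fin.castAdd m i)
      simpa using this
    | zero => exact ⟨0, by simp⟩
    | add x y _ _ hx hy =>
      obtain ⟨b, hb⟩ := hx
      obtain ⟨b', hb'⟩ := hy
      refine ⟨b + b', ?_⟩
      rw [Pi.single_add, map_add, map_add, add_sub_add_comm]
      exact add_mem hb hb'
    | smul r x _ hx =>
      obtain ⟨b, hb⟩ := hx
      refine ⟨r • b, ?_⟩
      rw [Pi.single_smul, map_smul, map_smul, ← smul_sub]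
      exact Submodule.smul_mem _ r hb
  choose b hb using fun j => key j (c j) (hc j)
  refine ⟨∑ j, b j, ?_⟩
  have hcsum : c = ∑ j, Pi.single j (c j) := by
    simpa using (Finset.univ_sum_single c).symm
  have hrw : inR A n m c = ∑ j, inR A n m (Pi.single j (c j)) := by
    rw [← map_sum, ← hcsum]
  rw [hrw, map_sum, ← Finset.sum_sub_distrib]
  exact Submodule.sum_mem _ fun j _ => hb j

lemma lift_triv {A : Type u} [CommRing A] {m : ℕ} (J : Ideal A) (g : Fin m → A)
    (c : Fin m → A)
    (hc : (fun j => Ideal.Quotient.mk J (c j)) ∈ trivRel (fun j => Ideal.Quotient.mk J (g j))) :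
    ∃ t ∈ trivRel g, ∀ j, c j - t j ∈ J := by
  classical
  have key : ∀ v ∈ trivRel (fun j => Ideal.Quotient.mk J (g j)),
      ∃ t ∈ trivRel g, ∀ j, Ideal.Quotient.mk J (t j) = v j := by
    intro v hv
    induction hv using Submodule.span_induction with
    | mem x hx =>
      obtain ⟨i, j, rfl⟩ := hx
      refine ⟨_, trivRel_mem g i j, fun k => ?_⟩
      simp only [Pi.sub_apply, map_sub]
      congr 1
      · by_cases h : k = i
        · subst h; simp
        · simp [Pi.single_eq_of_ne h]
      · by_cases h : k = j
        · subst h; simp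
        · simp [Pi.single_eq_of_ne h]
    | zero => exact ⟨0, zero_mem _, by simp⟩
    | add x y _ _ hx hy =>
      obtain ⟨t, ht, h⟩ := hx
      obtain ⟨t', ht', h'⟩ := hy
      exact ⟨t + t', add_mem ht ht', fun j => by simp [h, h']⟩
    | smul r x _ hx =>
      obtain ⟨t, ht, h⟩ := hx
      obtain ⟨r, rfl⟩ := Ideal.Quotient.mk_surjective r
      exact ⟨r • t, Submodule.smul_mem _ r ht, fun j => by simp [h]⟩
  obtain ⟨t, ht, h⟩ := key _ hc
  exact ⟨t, ht, fun j => by rw [← Ideal.Quotient.eq, h j]⟩

/-- Stacks Tag 0668: appending to an `H_1`-regular sequence `f` a sequence `g` whose image modulo the ideal `(f)` is `H_1`-regular yields an `H_1`-regular sequence. -/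
theorem result {A : Type u} [CommRing A] {n m : ℕ} (f : Fin n → A)
    (g : Fin m → A) (hf : CAlgX.IsH1Regular f)
    (hg : CAlgX.IsH1Regular (fun j => Ideal.Quotient.mk (Ideal.span (Set.range f)) (g j))) :
    CAlgX.IsH1Regular (Fin.append f g) := by
  intro a ha
  change a ∈ trivRel (Fin.append f g)
  set b : Fin n → A := fun i => a (Fin.castAdd m i) with hb
  set c : Fin m → A := fun i => a (Fin.natAdd n i) with hc
  have hsum : ∑ i, b i * f i + ∑ j, c j * g j = 0 := by
    rw [Fin.sum_univ_add] at ha
    simpa [hb, hc] using ha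
  have hcq : (fun j => Ideal.Quotient.mk (Ideal.span (Set.range f)) (c j)) ∈
      trivRel (fun j => Ideal.Quotient.mk (Ideal.span (Set.range f)) (g j)) := by
    refine hg _ ?_
    have h0 : Ideal.Quotient.mk (Ideal.span (Set.range f)) (∑ i, b i * f i) = 0 := by
      rw [Ideal.Quotient.eq_zero_iff_mem]
      exact Submodule.sum_mem _ fun i _ => Ideal.mul_mem_left _ _ (Ideal.subset_span ⟨i, rfl⟩)
    have h1 := congrArg (Ideal.Quotient.mk (Ideal.span (Set.range f))) hsum
    rw [map_add, h0, zero_add, map_sum, map_zero] at h1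
    simpa using h1
  obtain ⟨t, ht, hct⟩ := lift_triv _ g c hcq
  obtain ⟨b', hb'⟩ := exists_inL f g (fun j => c j - t j) hct
  -- `a ≡ inL (b + b')`
  have hdecomp : a = inL A n m (b + b') + inR A n m t +
      (inR A n m (fun j => c j - t j) - inL A n m b') := by
    have hcc : (fun j => c j - t j) = c - t := rfl
    rw [hcc, map_sub, map_add]
    conv_lhs => rw [eq_inL_add_inR a]
    abel
  -- evaluate relation
  have hev : ∀ v ∈ trivRel (Fin.append f g), ∑ i, v i * (Fin.append f g) i = 0 := by
    intro v hv
    induction hv using Submodule.span_induction with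
    | mem x hx =>
      obtain ⟨i, j, rfl⟩ := hx
      simp only [Pi.sub_apply, sub_mul, Finset.sum_sub_distrib]
      simp [Pi.single_apply, mul_comm]
    | zero => simp
    | add x y _ _ hx hy => simp [add_mul, Finset.sum_add_distrib, hx, hy]
    | smul r x _ hx => simp [mul_assoc, ← Finset.mul_sum, hx]
  have hbb : ∑ i, (b + b') i * f i = 0 := by
    have h1 : inR A n m t + (inR A n m (fun j => c j - t j) - inL A n m b') ∈
        trivRel (Fin.append f g) := add_mem (inR_triv f g ht) hb'
    have h2 := hev _ h1
    have h3 : inL A n m (b + b') = a -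
        (inR A n m t + (inR A n m (fun j => c j - t j) - inL A n m b')) := by
      rw [eq_sub_iff_add_eq, ← add_assoc]; exact hdecomp.symm
    have h4 : ∑ i, (inL A n m (b + b')) i * (Fin.append f g) i = 0 := by
      rw [h3]
      simp only [Pi.sub_apply, sub_mul, Finset.sum_sub_distrib] at *
      rw [ha, h2, sub_zero]
    rw [Fin.sum_univ_add] at h4
    simpa [inL] using h4
  have hL : inL A n m (b + b') ∈ trivRel (Fin.append f g) := inL_triv f g (hf _ hbb)
  rw [hdecomp]
  exact add_mem (add_mem hL (inR_triv f g ht)) hb'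

end Groth.Agent.S2105
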