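import Groth.Statements.S2109
-- import your own Groth.Agent.* helpers here
import Groth.Agent.S0559
import Groth.Agent.Smoothlim.PowRegular

set_option autoImplicit false
universe u
open Smoothing

namespace Groth.Agent.S2109

/-- Stacks 07FC, relative to an ideal `J`. -/
theorem exists_mul_annihilator {Λ : Type u} [CommRing Λ] [IsNoetherianRing Λ] (S : Submonoid Λ)
    (J : Ideal Λ) (π : Λ) (h : ∀ x, π ^ 2 * x ∈ J → ∃ s ∈ S, s * (π * x) ∈ J) :
    ∃ s ∈ S, ∀ x, (s * π) ^ 2 * x ∈ J → (s * π) * x ∈ J := by
  let L : Λ → Ideal Λ := fun s => Submodule.comap (LinearMap.mulLeft Λ s) J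
  have hL : ∀ s x, x ∈ L s ↔ s * x ∈ J := fun s x => Iff.rfl
  obtain ⟨_, ⟨s, hs, rfl⟩, hmax⟩ := set_has_maximal_iff_noetherian.mpr
    (inferInstance : IsNoetherian Λ Λ) (L '' (S : Set Λ)) ⟨L 1, 1, S.one_mem, rfl⟩
  refine ⟨s, hs, fun x hx => ?_⟩
  obtain ⟨s', hs', hx'⟩ := h (s ^ 2 * x) (by convert hx using 1; ring)
  have hle : L s ≤ L (s' * s ^ 2) := by
    intro y hy
    rw [hL] at hy ⊢
    have := J.mul_mem_left (s' * s) hy
    convert this using 1; ring
  have hmem : s' * s ^ 2 ∈ S := S.mul_mem hs' (S.pow_mem hs 2)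
  have heq : L s = L (s' * s ^ 2) := by
    by_contra hne
    exact hmax _ ⟨_, hmem, rfl⟩ (lt_of_le_of_ne hle hne)
  have : π * x ∈ L (s' * s ^ 2) := by
    rw [hL]; convert hx' using 1; ring
  rw [← heq, hL] at this
  convert this using 1; ring

theorem regular_step {O : Type u} [CommRing O] [IsRegularLocalRing O] (d : ℕ)
    (hd : ringKrullDim O = d) (x : Fin d → O)
    (hx : Ideal.span (Set.range x) = IsLocalRing.maximalIdeal O) (e : ℕ) (he : 0 < e) (i : Fin d)
    (y : O) (hy : x i * y ∈ Ideal.span (Set.range fun j : {j : Fin d // (j : ℕ) < (i : ℕ)} => x j ^ e)) :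
    y ∈ Ideal.span (Set.range fun j : {j : Fin d // (j : ℕ) < (i : ℕ)} => x j ^ e) := by
  obtain ⟨e, rfl⟩ : ∃ e', e = e' + 1 := ⟨e - 1, by omega⟩
  have hreg := (Groth.Agent.S0559.result O d hd x hx).toIsWeaklyRegular
  rw [← List.take_append_drop (i : ℕ) (List.ofFn x)] at hreg
  have h2 := Groth.Agent.Smoothlim.PowRegular.isWeaklyRegular_map_pow_append _ _ e hreg
  have hlen : ((List.take (i : ℕ) (List.ofFn x)).map (fun r => r ^ (e + 1))).length = i := by
    simp
  have hlt : (i : ℕ) < ((List.take (i : ℕ) (List.ofFn x)).map (fun r => r ^ (e + 1)) ++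
      List.drop (i : ℕ) (List.ofFn x)).length := by
    simp
  have h3 := h2.regular_mod_prev (i : ℕ) hlt
  have hget : ((List.take (i : ℕ) (List.ofFn x)).map (fun r => r ^ (e + 1)) ++
      List.drop (i : ℕ) (List.ofFn x))[(i : ℕ)]'hlt = x i := by
    rw [List.getElem_append_right (by simp)]
    simp
  have htake : List.take (i : ℕ) ((List.take (i : ℕ) (List.ofFn x)).map (fun r => r ^ (e + 1)) ++
      List.drop (i : ℕ) (List.ofFn x)) =
      (List.take (i : ℕ) (List.ofFn x)).map (fun r => r ^ (e + 1)) := by
    rw [List.take_append_of_le_length (by simp), List.take_of_length_le (by simp)]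
  have hideal : Ideal.ofList ((List.take (i : ℕ) (List.ofFn x)).map (fun r => r ^ (e + 1))) =
      Ideal.span (Set.range fun j : {j : Fin d // (j : ℕ) < (i : ℕ)} => x j ^ (e + 1)) := by
    rw [Ideal.ofList]
    congr 1
    ext r
    simp only [List.mem_map, Set.mem_ofPred_eq, Set.mem_range, List.mem_take_iff_getElem]
    constructor
    · rintro ⟨a, ⟨j, hj, rfl⟩, rfl⟩
      simp at hj
      exact ⟨⟨⟨j, by omega⟩, hj⟩, by simp⟩
    · rintro ⟨⟨j, hj⟩, rfl⟩
      exact ⟨x j, ⟨j, by simp; omega, by simp⟩, rfl⟩
  rw [hget, htake, hideal, isSMulRegular_quotient_iff_mem_of_smul_mem] at h3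
  have h4 := h3 y
  simp only [smul_eq_mul, Ideal.mul_top] at h4
  exact h4 hy

/-- Stacks Tag 07FD: let `Λ` be Noetherian, `I ⊆ 𝔮` with `𝔮` prime, `n, e > 0`, such that `𝔮ⁿΛ_𝔮 ⊆ IΛ_𝔮` and `Λ_𝔮` is a regular local ring of dimension `d`. Then there are
`N > 0` and `π_1, …, π_d ∈ Λ` generating `𝔮Λ_𝔮`, with `π_i^N ∈ I`, such that for each `i` the annihilators of `π_i` and `π_i²` in
`Λ/(π_1^e, …, π_{i-1}^e)` coincide. -/
theorem result {Λ : Type u} [CommRing Λ] [IsNoetherianRing Λ] (I q : Ideal Λ)
    [q.IsPrime] (hIq : I ≤ q) (n e d : ℕ) (hn : 0 < n) (he : 0 < e)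
    (hpow : (q ^ n).map (algebraMap Λ (Localization.AtPrime q)) ≤ I.map (algebraMap Λ (Localization.AtPrime q)))
    [IsRegularLocalRing (Localization.AtPrime q)] (hd : ringKrullDim (Localization.AtPrime q) = d) :
    ∃ (N : ℕ) (π : Fin d → Λ), 0 < N ∧
      Ideal.span (Set.range fun i => algebraMap Λ (Localization.AtPrime q) (π i)) =
        q.map (algebraMap Λ (Localization.AtPrime q)) ∧
      (∀ i, π i ^ N ∈ I) ∧
      ∀ i : Fin d, ∀ x : Λ ⧸ Ideal.span (Set.range fun j : {j : Fin d // (j : ℕ) < (i : ℕ)} => π j ^ e),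
        Ideal.Quotient.mk _ (π i) ^ 2 * x = 0 → Ideal.Quotient.mk _ (π i) * x = 0 := by
  classical
  -- the standing assumptions on a family of elements
  let Good : (Fin d → Λ) → Prop := fun π =>
    Ideal.span (Set.range fun i => algebraMap Λ (Localization.AtPrime q) (π i)) =
        q.map (algebraMap Λ (Localization.AtPrime q)) ∧ (∀ i, π i ^ n ∈ I)
  let Ann : (Fin d → Λ) → Fin d → Prop := fun π i => ∀ x : Λ,
    π i ^ 2 * x ∈ Ideal.span (Set.range fun j : {j : Fin d // (j : ℕ) < (i : ℕ)} => π j ^ e) →
      π i * x ∈ Ideal.span (Set.range fun j : {j : Fin d // (j : ℕ) < (i : ℕ)} => π j ^ e)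
  -- multiplying by elements outside `q` keeps the first condition
  have hspan : ∀ (π π' : Fin d → Λ) (s s' : Fin d → Λ), (∀ i, s i ∉ q) → (∀ i, s' i ∉ q) →
      (∀ i, s i * π i = s' i * π' i) →
      Ideal.span (Set.range fun i => algebraMap Λ (Localization.AtPrime q) (π i)) ≤
      Ideal.span (Set.range fun i => algebraMap Λ (Localization.AtPrime q) (π' i)) := by
    intro π π' s s' hs hs' h
    rw [Ideal.span_le]
    rintro _ ⟨i, rfl⟩
    have hu : IsUnit (algebraMap Λ (Localization.AtPrime q) (s i)) :=
      IsLocalization.map_units _ (⟨s i, hs i⟩ : q.primeCompl)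
    rw [SetLike.mem_coe, ← Ideal.unit_mul_mem_iff_mem _ hu, ← map_mul, h i, map_mul]
    exact Ideal.mul_mem_left _ _ (Ideal.subset_span ⟨i, rfl⟩)
  have hgood0 : ∃ π, Good π := by
    have hrank : (IsLocalRing.maximalIdeal (Localization.AtPrime q)).spanFinrank = d := by
      have := IsRegularLocalRing.spanFinrank_maximalIdeal (R := Localization.AtPrime q)
      rw [hd] at this
      exact_mod_cast this
    have hfg : (IsLocalRing.maximalIdeal (Localization.AtPrime q)).FG :=
      (isNoetherianRing_iff_ideal_fg _).mp inferInstance _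
    have hcard := Submodule.FG.generators_ncard hfg
    rw [hrank] at hcard
    have hfin : Finite (IsLocalRing.maximalIdeal (Localization.AtPrime q)).generators :=
      (Submodule.FG.finite_generators hfg).to_subtype
    let eq := (Finite.equivFinOfCardEq (α := (IsLocalRing.maximalIdeal (Localization.AtPrime q)).generators)
      (n := d) hcard).symm
    let g : Fin d → Localization.AtPrime q := fun i => (eq i : Localization.AtPrime q)
    have hg : Set.range g = (IsLocalRing.maximalIdeal (Localization.AtPrime q)).generators := by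
      ext x
      constructor
      · rintro ⟨i, rfl⟩
        exact (eq i).2
      · intro hx
        exact ⟨eq.symm ⟨x, hx⟩, by simp [g]⟩
    have hgspan : Ideal.span (Set.range g) = IsLocalRing.maximalIdeal (Localization.AtPrime q) := by
      rw [hg]
      exact Submodule.span_generators _
    have hsurj : ∀ i, ∃ (a : Λ) (s : q.primeCompl),
        g i * algebraMap Λ (Localization.AtPrime q) s = algebraMap Λ (Localization.AtPrime q) a := by
      intro i
      obtain ⟨⟨a, s⟩, h⟩ := IsLocalization.surj q.primeCompl (g i)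
      exact ⟨a, s, h⟩
    choose a s has using hsurj
    have haq : ∀ i, a i ∈ q := by
      intro i
      have : algebraMap Λ (Localization.AtPrime q) (a i) ∈
          IsLocalRing.maximalIdeal (Localization.AtPrime q) := by
        rw [← has i]
        apply Ideal.mul_mem_right
        rw [← hgspan]
        exact Ideal.subset_span ⟨i, rfl⟩
      rwa [IsLocalization.AtPrime.to_map_mem_maximal_iff _ q] at this
    have hs' : ∀ i, ∃ s' ∈ q.primeCompl, s' * a i ^ n ∈ I := by
      intro i
      rw [← IsLocalization.algebraMap_mem_map_algebraMap_iff q.primeCompl (Localization.AtPrime q)]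
      exact hpow (Ideal.mem_map_of_mem _ (Ideal.pow_mem_pow (haq i) n))
    choose s' hs'q hs'I using hs'
    refine ⟨fun i => s' i * a i, ?_, ?_⟩
    · rw [Localization.AtPrime.map_eq_maximalIdeal, ← hgspan]
      have hu : ∀ i, IsUnit (algebraMap Λ (Localization.AtPrime q) (s' i)) := fun i =>
        IsLocalization.map_units _ (⟨s' i, hs'q i⟩ : q.primeCompl)
      have hu2 : ∀ i, IsUnit (algebraMap Λ (Localization.AtPrime q) (s i)) := fun i =>
        IsLocalization.map_units _ (s i)
      apply le_antisymm
      · rw [Ideal.span_le]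
        rintro _ ⟨i, rfl⟩
        simp only [SetLike.mem_coe, map_mul]
        apply Ideal.mul_mem_left
        rw [← has i]
        exact Ideal.mul_mem_right _ _ (Ideal.subset_span ⟨i, rfl⟩)
      · rw [Ideal.span_le]
        rintro _ ⟨i, rfl⟩
        rw [SetLike.mem_coe, ← Ideal.mul_unit_mem_iff_mem _ (hu2 i), has i,
          ← Ideal.unit_mul_mem_iff_mem _ (hu i), ← map_mul]
        exact Ideal.subset_span ⟨i, rfl⟩
    · intro i
      obtain ⟨m, rfl⟩ : ∃ m, n = m + 1 := ⟨n - 1, by omega⟩
      rw [mul_pow, pow_succ, mul_assoc]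
      exact I.mul_mem_left _ (hs'I i)
  have hind : ∀ t : ℕ, t ≤ d → ∃ π, Good π ∧ ∀ i : Fin d, (i : ℕ) < t → Ann π i := by
    intro t
    induction t with
    | zero =>
      intro _
      obtain ⟨π, hπ⟩ := hgood0
      exact ⟨π, hπ, fun i hi => by omega⟩
    | succ t ih =>
      intro ht
      obtain ⟨π, hπ, hann⟩ := ih (by omega)
      let i₀ : Fin d := ⟨t, by omega⟩
      have hreg : ∀ x : Λ,
          π i₀ ^ 2 * x ∈ Ideal.span (Set.range fun j : {j : Fin d // (j : ℕ) < (i₀ : ℕ)} => π j ^ e) →
          ∃ s ∈ q.primeCompl, s * (π i₀ * x) ∈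
            Ideal.span (Set.range fun j : {j : Fin d // (j : ℕ) < (i₀ : ℕ)} => π j ^ e) := by
        intro x hx
        rw [← IsLocalization.algebraMap_mem_map_algebraMap_iff q.primeCompl (Localization.AtPrime q)]
        have hm : (Ideal.span (Set.range fun j : {j : Fin d // (j : ℕ) < (i₀ : ℕ)} => π j ^ e)).map
            (algebraMap Λ (Localization.AtPrime q)) =
            Ideal.span (Set.range fun j : {j : Fin d // (j : ℕ) < (i₀ : ℕ)} =>
              (algebraMap Λ (Localization.AtPrime q) (π j)) ^ e) := by
          rw [Ideal.map_span, ← Set.range_comp]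
          congr 1
          ext; simp
        rw [hm]
        apply regular_step d hd (fun i => algebraMap Λ (Localization.AtPrime q) (π i))
          (by rw [hπ.1, Localization.AtPrime.map_eq_maximalIdeal]) e he
        have := Ideal.mem_map_of_mem (algebraMap Λ (Localization.AtPrime q)) hx
        rw [hm] at this
        simp only [← map_mul]
        convert this using 2
        ring
      obtain ⟨s, hs, hs2⟩ := exists_mul_annihilator q.primeCompl _ _ hreg
      refine ⟨Function.update π i₀ (s * π i₀), ⟨?_, ?_⟩, ?_⟩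
      · rw [← hπ.1]
        apply le_antisymm
        · refine hspan _ _ (fun _ => 1) (fun i => if i = i₀ then s else 1) ?_ ?_ ?_
          · exact fun _ => q.primeCompl.one_mem
          · intro i
            split_ifs
            · exact hs
            · exact q.primeCompl.one_mem
          · intro i
            by_cases h : i = i₀
            · subst h; simp
            · simp [h]
        · refine hspan _ _ (fun i => if i = i₀ then s else 1) (fun _ => 1) ?_ ?_ ?_
          · intro i
            split_ifs
            · exact hs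
            · exact q.primeCompl.one_mem
          · exact fun _ => q.primeCompl.one_mem
          · intro i
            by_cases h : i = i₀
            · subst h; simp
            · simp [h]
      · intro i
        by_cases h : i = i₀
        · subst h
          rw [Function.update_self, mul_pow]
          exact I.mul_mem_left _ (hπ.2 _)
        · rw [Function.update_of_ne h]
          exact hπ.2 i
      · intro i hi
        have hJ : (fun j : {j : Fin d // (j : ℕ) < (i : ℕ)} => Function.update π i₀ (s * π i₀) j ^ e) =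
            fun j : {j : Fin d // (j : ℕ) < (i : ℕ)} => π j ^ e := by
          funext j
          rw [Function.update_of_ne]
          intro h
          have := j.2
          rw [h] at this
          simp [i₀] at this
          omega
        intro x
        rw [hJ]
        by_cases h : i = i₀
        · subst h
          rw [Function.update_self]
          exact hs2 x
        · rw [Function.update_of_ne h]
          apply hann i
          have : (i : ℕ) ≠ t := fun h' => h (Fin.ext h')
          omega
  obtain ⟨π, hπ, hann⟩ := hind d le_rfl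
  refine ⟨n, π, hn, hπ.1, hπ.2, fun i x hx => ?_⟩
  obtain ⟨x, rfl⟩ := Ideal.Quotient.mk_surjective x
  rw [← map_pow, ← map_mul, Ideal.Quotient.eq_zero_iff_mem] at hx
  rw [← map_mul, Ideal.Quotient.eq_zero_iff_mem]
  exact hann i i.2 x hx

end Groth.Agent.S2109
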