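import Groth.Statements.S2112
import Groth.Agent.VarietyA.GeomIrrB
-- import your own Groth.Agent.* helpers here

set_option autoImplicit false
universe u
open CAlg

namespace Groth.Agent.S2112

theorem hasUniqueMinimalPrime_iff {A : Type u} [CommRing A] :
    CAlgX.HasUniqueMinimalPrime A ↔ (nilradical A).IsPrime := by
  constructor
  · rintro ⟨p, hp, huniq⟩
    have h : minimalPrimes A = {p} := by
      ext q
      exact ⟨fun hq => huniq q hq, fun hq => by rw [Set.mem_singleton_iff.1 hq]; exact hp⟩
    have h2 : nilradical A = p := by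
      have := Ideal.sInf_minimalPrimes (I := (⊥ : Ideal A))
      change sInf (minimalPrimes A) = nilradical A at this
      rw [← this, h, sInf_singleton]
    rw [h2]
    exact hp.1.1
  · intro h
    refine ⟨nilradical A, ⟨⟨h, bot_le⟩, fun q hq _ => have := hq.1; nilradical_le_prime q⟩, ?_⟩
    intro q hq
    have : q.IsPrime := hq.1.1
    exact le_antisymm (hq.2 ⟨h, bot_le⟩ (nilradical_le_prime q)) (nilradical_le_prime q)

open TensorProduct in
/-- Stacks Tag 00I7: let `k` be a separably closed field and `R`, `S` two `k`-algebras each having exactly one minimal prime ideal. Then `R ⊗_k S` has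
exactly one minimal prime ideal. -/
theorem result {k R S : Type u} [Field k] [IsSepClosed k] [CommRing R] [CommRing S]
    [Algebra k R] [Algebra k S] (hR : CAlgX.HasUniqueMinimalPrime R) (hS : CAlgX.HasUniqueMinimalPrime S) :
    CAlgX.HasUniqueMinimalPrime (R ⊗[k] S) := by
  rw [hasUniqueMinimalPrime_iff] at hR hS ⊢
  have : IsDomain (R ⧸ nilradical R) := Ideal.Quotient.isDomain _
  have : IsDomain (S ⧸ nilradical S) := Ideal.Quotient.isDomain _
  have key := VarietyA.GeomIrr.isPrime_nilradical_tensorProduct (k := k) (R ⧸ nilradical R)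
    (S ⧸ nilradical S)
  let f : R ⊗[k] S →ₐ[k] (R ⧸ nilradical R) ⊗[k] (S ⧸ nilradical S) :=
    Algebra.TensorProduct.map (Ideal.Quotient.mkₐ k _) (Ideal.Quotient.mkₐ k _)
  have hker : RingHom.ker f ≤ nilradical (R ⊗[k] S) := by
    have := Algebra.TensorProduct.map_ker (Ideal.Quotient.mkₐ k (nilradical R)) (Ideal.Quotient.mkₐ k (nilradical S))
      (Ideal.Quotient.mkₐ_surjective _ _) (Ideal.Quotient.mkₐ_surjective _ _)
    rw [this, sup_le_iff, Ideal.map_le_iff_le_comap, Ideal.map_le_iff_le_comap]
    constructor
    · intro x hx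
      have hx' : x ∈ nilradical R := by
        exact Ideal.Quotient.eq_zero_iff_mem.1 hx
      exact mem_nilradical.2 ((mem_nilradical.1 hx').map _)
    · intro x hx
      have hx' : x ∈ nilradical S := by
        exact Ideal.Quotient.eq_zero_iff_mem.1 hx
      exact mem_nilradical.2 ((mem_nilradical.1 hx').map _)
  have heq : nilradical (R ⊗[k] S) =
      (nilradical ((R ⧸ nilradical R) ⊗[k] (S ⧸ nilradical S))).comap f := by
    ext x
    simp only [Ideal.mem_comap, mem_nilradical]
    constructor
    · intro h; exact h.map f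
    · rintro ⟨n, hn⟩
      rw [← map_pow] at hn
      exact (mem_nilradical.1 (hker hn)).of_pow
  rw [heq]
  exact Ideal.comap_isPrime _ _

end Groth.Agent.S2112
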