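import Groth.Statements.S2113
import Mathlib.RingTheory.Ideal.KrullsHeightTheorem
import Mathlib.RingTheory.Ideal.MinimalPrime.Noetherian
import Mathlib.RingTheory.Jacobson.Ring
import Mathlib.RingTheory.Spectrum.Prime.RingHom

set_option autoImplicit false
universe u
open CAlg

namespace Groth.Agent.S2113

/-- If `f ≠ 0` lies in every nonzero prime of a Noetherian domain, then every nonzero prime is
minimal over `(f)`. -/
theorem mem_minimalPrimes_span {D : Type u} [CommRing D] [IsDomain D] [IsNoetherianRing D]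
    {f : D} (hf : f ≠ 0) (h : ∀ q : Ideal D, q.IsPrime → q ≠ ⊥ → f ∈ q) (Q : Ideal D)
    (hQ : Q.IsPrime) (hQ0 : Q ≠ ⊥) : Q ∈ (Ideal.span {f}).minimalPrimes := by
  classical
  by_contra hcon
  have hfin := Ideal.finite_minimalPrimes_of_isNoetherianRing D (Ideal.span {f})
  have hfQ : Ideal.span {f} ≤ Q := (Ideal.span_singleton_le_iff_mem Q).2 (h Q hQ hQ0)
  have hnot : ¬ ∃ i ∈ (Ideal.span {f}).minimalPrimes, Q ≤ i := by
    rintro ⟨i, hi, hle⟩
    apply hcon
    have : i ≤ Q := hi.2 ⟨hQ, hfQ⟩ hle
    rwa [le_antisymm hle this]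
  rw [← Ideal.subset_union_prime_finite hfin (f := fun i => i) ⊤ ⊤
    (fun i hi _ _ => hi.1.1), Set.not_subset] at hnot
  obtain ⟨g, hgQ, hg⟩ := hnot
  simp only [Set.mem_iUnion, not_exists] at hg
  have hgQ' : Ideal.span {g} ≤ Q := (Ideal.span_singleton_le_iff_mem Q).2 hgQ
  obtain ⟨q, hq, hqQ⟩ := Ideal.exists_minimalPrimes_le hgQ'
  have hqp : q.IsPrime := hq.1.1
  have hgq : g ∈ q := hq.1.2 (Ideal.mem_span_singleton_self g)
  have hht := Ideal.height_le_one_of_isPrincipal_of_mem_minimalPrimes (Ideal.span {g}) q hq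
  have hq0 : q ≠ ⊥ := by
    rintro rfl
    obtain ⟨r, hr, -⟩ := Ideal.exists_minimalPrimes_le hfQ
    rw [Ideal.mem_bot] at hgq
    exact hg r hr (by rw [hgq]; exact r.zero_mem)
  have hfq : Ideal.span {f} ≤ q := (Ideal.span_singleton_le_iff_mem q).2 (h q hqp hq0)
  obtain ⟨r, hr, hrq⟩ := Ideal.exists_minimalPrimes_le hfq
  have hrp : r.IsPrime := hr.1.1
  have hlt : r < q := lt_of_le_of_ne hrq (by
    rintro rfl
    exact hg r hr hgq)
  have h1 : r.height < q.height := Ideal.height_strict_mono_of_isPrime hlt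
  have h2 : r.height = 0 := by
    have := h1.trans_le hht
    exact Order.lt_one_iff.1 this
  rw [Ideal.height_eq_zero_iff_eq_bot] at h2
  subst h2
  have : f ∈ (⊥ : Ideal D) := hr.1.2 (Ideal.mem_span_singleton_self f)
  exact hf this

theorem finite_spectrum {D : Type u} [CommRing D] [IsDomain D] [IsNoetherianRing D]
    {f : D} (hf : f ≠ 0) (h : ∀ q : Ideal D, q.IsPrime → q ≠ ⊥ → f ∈ q) :
    Finite (PrimeSpectrum D) := by
  have hfin := (Ideal.finite_minimalPrimes_of_isNoetherianRing D (Ideal.span {f})).insert ⊥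
  have := hfin.to_subtype
  refine Finite.of_injective (β := ↥(insert (⊥ : Ideal D) (Ideal.span {f}).minimalPrimes))
    (fun q => ⟨q.asIdeal, ?_⟩) ?_
  · by_cases h0 : q.asIdeal = ⊥
    · exact Or.inl h0
    · exact Or.inr (mem_minimalPrimes_span hf h _ q.isPrime h0)
  · intro q q' hqq
    exact PrimeSpectrum.ext (congrArg Subtype.val hqq)

/-- Stacks Tag 00KX (2): a Noetherian ring in which each prime is maximal or else lies below infinitely many primes is a
Jacobson ring. -/
theorem result {R : Type u} [CommRing R] [IsNoetherianRing R]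
    (h : ∀ (p : Ideal R) [p.IsPrime], p.IsMaximal ∨ {q : PrimeSpectrum R | p ≤ q.asIdeal}.Infinite) :
    IsJacobsonRing R := by
  rw [isJacobsonRing_iff_prime_eq]
  intro P
  induction P using IsNoetherian.induction with
  | hgt P ih =>
  intro hP
  rcases h P with hmax | hinf
  · exact Ideal.jacobson_eq_self_of_isMaximal
  by_contra hne
  have hlt : ¬ Ideal.jacobson P ≤ P := fun hle => hne (le_antisymm hle Ideal.le_jacobson)
  obtain ⟨f, hfJ, hfP⟩ := Set.not_subset.1 hlt
  apply hinf
  have hfin : Finite (PrimeSpectrum (R ⧸ P)) := by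
    refine finite_spectrum (f := Ideal.Quotient.mk P f) ?_ ?_
    · rwa [Ne, Ideal.Quotient.eq_zero_iff_mem]
    · intro q hq hq0
      have hPq : P < q.comap (Ideal.Quotient.mk P) := by
        refine lt_of_le_of_ne ?_ ?_
        · intro x hx
          rw [Ideal.mem_comap, Ideal.Quotient.eq_zero_iff_mem.2 hx]
          exact q.zero_mem
        · intro heq
          apply hq0
          rw [← le_bot_iff]
          intro y hy
          obtain ⟨y, rfl⟩ := Ideal.Quotient.mk_surjective y
          have : y ∈ P := by rw [heq]; exact hy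
          rw [Ideal.mem_bot, Ideal.Quotient.eq_zero_iff_mem]
          exact this
      have hj := ih _ hPq (Ideal.comap_isPrime _ _)
      have : f ∈ Ideal.jacobson (q.comap (Ideal.Quotient.mk P)) := Ideal.jacobson_mono hPq.le hfJ
      rw [hj] at this
      exact this
  have := Finite.of_equiv _ (Ideal.primeSpectrumQuotientOrderIsoZeroLocus P).toEquiv
  exact Set.toFinite (PrimeSpectrum.zeroLocus (P : Set R))

end Groth.Agent.S2113
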