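import Groth.Statements.S2114
import Mathlib.RingTheory.ZariskisMainTheorem
-- import your own Groth.Agent.* helpers here

set_option autoImplicit false
universe u
open CAlg

namespace Groth.Agent.S2114

open Polynomial in
/-- clearing denominators in an integral equation along a Zariski-main-theorem element. -/
theorem exists_pow_smul_isIntegral {R S L : Type*} [CommRing R] [CommRing S] [CommRing L]
    [Algebra R S] [Algebra S L] [Algebra R L] [IsScalarTower R S L] (r : S) (hr : IsIntegral R r)
    (H : ∀ x : S, ∃ m : ℕ, IsIntegral R (r ^ m * x)) (c : L) (hc : IsIntegral S c) :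
    ∃ m : ℕ, IsIntegral R (r ^ m • c) := by
  obtain ⟨f, hfm, hf⟩ := hc
  choose m hm using H
  let M : ℕ := ∑ i ∈ Finset.range f.natDegree, m (f.coeff i)
  have hM : ∀ i < f.natDegree, IsIntegral R (r ^ M * f.coeff i) := by
    intro i hi
    have hle : m (f.coeff i) ≤ M :=
      Finset.single_le_sum (f := fun i => m (f.coeff i)) (fun _ _ => Nat.zero_le _)
        (Finset.mem_range.mpr hi)
    obtain ⟨k, hk⟩ := Nat.exists_eq_add_of_le hle
    rw [hk, pow_add, mul_comm (r ^ _) (r ^ k), mul_assoc]
    exact (hr.pow k).mul (hm _)
  refine ⟨M, ?_⟩
  set g : S[X] := f.scaleRoots (r ^ M) with hg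
  have hgm : g.Monic := (monic_scaleRoots_iff (r ^ M)).mpr hfm
  have hgc : aeval (algebraMap S L (r ^ M) * c) g = 0 := scaleRoots_aeval_eq_zero hf
  have hglift : g ∈ Polynomial.lifts (algebraMap (integralClosure R S) S) := by
    rw [Polynomial.lifts_iff_coeff_lifts]
    intro i
    have hint : IsIntegral R (g.coeff i) := by
      rw [hg, coeff_scaleRoots]
      rcases lt_trichotomy i f.natDegree with hi | hi | hi
      · obtain ⟨k, hk⟩ := Nat.exists_eq_add_of_lt hi
        have : f.natDegree - i = k + 1 := by omega
        rw [this, pow_succ]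
        have : f.coeff i * ((r ^ M) ^ k * r ^ M) = (r ^ M) ^ k * (r ^ M * f.coeff i) := by ring
        rw [this]
        exact ((hr.pow M).pow k).mul (hM i hi)
      · subst hi
        rw [hfm.coeff_natDegree, Nat.sub_self, pow_zero, one_mul]
        exact isIntegral_one
      · rw [coeff_eq_zero_of_natDegree_lt hi, zero_mul]
        exact isIntegral_zero
    exact ⟨⟨g.coeff i, hint⟩, rfl⟩
  obtain ⟨h, hh, -, hhm⟩ := lifts_and_natDegree_eq_and_monic hglift hgm
  have h1 : IsIntegral (integralClosure R S) (algebraMap S L (r ^ M) * c) := by
    refine ⟨h, hhm, ?_⟩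
    rw [← hh, aeval_def, eval₂_map, ← IsScalarTower.algebraMap_eq] at hgc
    exact hgc
  rw [Algebra.smul_def]
  exact isIntegral_trans (R := R) (A := integralClosure R S) _ h1

/-- Stacks Tag 032I: let `R ⊆ S` be an extension of domains which is of finite type and quasi-finite, with `R` Noetherian and N-2 (integral
closures in finite extensions of the fraction field are finite). Then `S` is N-2. -/
theorem result {R S : Type u} [CommRing R] [IsDomain R] [IsNoetherianRing R] [CommRing S]
    [IsDomain S] [Algebra R S] (hinj : Function.Injective (algebraMap R S)) [Algebra.FiniteType R S]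
    [Algebra.QuasiFinite R S] (hR : CAlg.IsN2 R) : CAlg.IsN2 S := by
  intro L _ _ _ _ hfin
  let _ : Algebra R L := ((algebraMap S L).comp (algebraMap R S)).toAlgebra
  have tow : IsScalarTower R S L := IsScalarTower.of_algebraMap_eq fun x => rfl
  have hinjSL : Function.Injective (algebraMap S L) := by
    rw [IsScalarTower.algebraMap_eq S (FractionRing S) L]
    exact (algebraMap (FractionRing S) L).injective.comp (IsFractionRing.injective S _)
  have hinjRL : Function.Injective (algebraMap R L) := hinjSL.comp hinj
  let _ : Algebra (FractionRing R) L := (IsFractionRing.lift hinjRL).toAlgebra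
  have tow2 : IsScalarTower R (FractionRing R) L := IsScalarTower.of_algebraMap_eq fun x =>
    (IsFractionRing.lift_algebraMap hinjRL x).symm
  have q1 : Algebra.QuasiFinite (FractionRing S) L := inferInstance
  have q2 : Algebra.QuasiFinite S (FractionRing S) := inferInstance
  have q3 : Algebra.QuasiFinite S L := Algebra.QuasiFinite.trans S (FractionRing S) L
  have q4 : Algebra.QuasiFinite R L := Algebra.QuasiFinite.trans R S L
  have q5 : Algebra.QuasiFinite (FractionRing R) L :=
    Algebra.QuasiFinite.of_restrictScalars R (FractionRing R) L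
  have q6 : Module.Finite (FractionRing R) L := Module.Finite.of_quasiFinite
  have hD : Module.Finite R (integralClosure R L) := hR L q6
  let D := integralClosure R L
  have hDfg : (Subalgebra.toSubmodule D).FG := (Submodule.fg_top _).mp hD.fg_top
  obtain ⟨T, hT⟩ := hDfg
  have key : Subalgebra.toSubmodule (integralClosure S L) = Submodule.span S (T : Set L) := by
    apply le_antisymm
    · intro c hc
      have hc' : IsIntegral S c := hc
      let I : Ideal S := (Submodule.span S (T : Set L)).comap (LinearMap.toSpanSingleton S L c)
      have hI : I = ⊤ := by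
        by_contra hne
        obtain ⟨p, hp, hIp⟩ := Ideal.exists_le_maximal I hne
        have hZ := Algebra.ZariskisMainProperty.of_finiteType (R := R) (S := S) p
        rw [Algebra.zariskisMainProperty_iff] at hZ
        obtain ⟨r, hrp, hr, hH⟩ := hZ
        obtain ⟨m, hm⟩ := exists_pow_smul_isIntegral r hr hH c hc'
        have h1 : r ^ m • c ∈ Submodule.span R (T : Set L) := by
          rw [hT]; exact hm
        have h2 : r ^ m • c ∈ Submodule.span S (T : Set L) :=
          Submodule.span_le_restrictScalars R S (T : Set L) h1
        have h3 : r ^ m ∈ I := h2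
        exact hrp (hp.isPrime.mem_of_pow_mem m (hIp h3))
      have h1 : (1 : S) ∈ I := by rw [hI]; trivial
      have h2 : (1 : S) • c ∈ Submodule.span S (T : Set L) := h1
      rwa [one_smul] at h2
    · rw [Submodule.span_le]
      intro x hx
      have hxD : x ∈ Subalgebra.toSubmodule D := by
        rw [← hT]; exact Submodule.subset_span hx
      have : IsIntegral R x := hxD
      exact (this.tower_top : IsIntegral S x)
  have hfg : (Subalgebra.toSubmodule (integralClosure S L)).FG := by
    rw [key]
    exact ⟨T, rfl⟩
  exact ⟨(Submodule.fg_top _).mpr hfg⟩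

end Groth.Agent.S2114
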