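import Groth.Statements.S2117
import Groth.Agent.CalgC.SepDiff

set_option autoImplicit false
universe u
open CAlg

namespace Groth.Agent.S2117

/-- Stacks Tag 031X combined with Tag 030W: let `k` be a field of characteristic `p > 0` and `K/k` a field extension. Then `K` is geometrically reduced over `k`
(which by Tag 030W is the same as separable in the sense of separably generated finitely generated subextensions) if and only if the
natural map `K ⊗_k Ω_{k/ℤ} → Ω_{K/ℤ}` is injective. -/
theorem result {k K : Type u} [Field k] [Field K] [Algebra k K] (p : ℕ)
    [Fact p.Prime] [CharP k p] :
    Algebra.IsGeometricallyReduced k K ↔ Function.Injective (KaehlerDifferential.mapBaseChange ℤ k K) := by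
  exact (Groth.Agent.CalgC.SepDiff.tfae k K p).out 0 2

end Groth.Agent.S2117
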