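import Groth.Statements.S2118
import Mathlib.RingTheory.Flat.EquationalCriterion
import Mathlib.Algebra.Category.ModuleCat.FilteredColimits
import Mathlib.CategoryTheory.Limits.ConcreteCategory.WithAlgebraicStructures

set_option autoImplicit false
universe u
open CategoryTheory
open CAlg

namespace Groth.Agent.S2118

section Aux

variable (R : Type u) [CommRing R] (M : Type u) [AddCommGroup M] [Module R M]

/-- The big free module surjecting onto `M`. -/
def Big : Type u := (M × ℕ) →₀ R

noncomputable instance : AddCommGroup (Big R M) := inferInstanceAs (AddCommGroup ((M × ℕ) →₀ R))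
noncomputable instance : Module R (Big R M) := inferInstanceAs (Module R ((M × ℕ) →₀ R))

/-- The basis of the big module. -/
noncomputable def bB : Module.Basis (M × ℕ) R (Big R M) := Finsupp.basisSingleOne (R := R) (ι := M × ℕ)

/-- The map from the big free module onto `M`. -/
noncomputable def bigPi : Big R M →ₗ[R] M := (bB R M).constr R Prod.fst

theorem bigPi_bB (s : M × ℕ) : bigPi R M (bB R M s) = s.1 := by
  simp [bigPi]

/-- The span of finitely many basis elements. -/
noncomputable def supp (I : Finset (M × ℕ)) : Submodule R (Big R M) :=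
  Submodule.span R (Set.range fun i : I => bB R M i)

omit [AddCommGroup M] [Module R M] in
theorem bB_mem_supp {I : Finset (M × ℕ)} {s : M × ℕ} (hs : s ∈ I) : bB R M s ∈ supp R M I :=
  Submodule.subset_span ⟨⟨s, hs⟩, rfl⟩

omit [AddCommGroup M] [Module R M] in
theorem supp_mono {I J : Finset (M × ℕ)} (h : I ⊆ J) : supp R M I ≤ supp R M J := by
  apply Submodule.span_mono
  rintro _ ⟨i, rfl⟩
  exact ⟨⟨i, h i.2⟩, rfl⟩

/-- The basis of the span of finitely many basis elements. -/
noncomputable def sB (I : Finset (M × ℕ)) : Module.Basis I R (supp R M I) :=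
  Module.Basis.span ((bB R M).linearIndependent.comp (fun i : I => (i : M × ℕ)) Subtype.val_injective)

omit [AddCommGroup M] [Module R M] in
theorem sB_apply (I : Finset (M × ℕ)) (i : I) : (sB R M I i : Big R M) = bB R M i :=
  congrArg Subtype.val (Module.Basis.span_apply _ i)

/-- Index type for Lazard's theorem. -/
structure Idx where
  I : Finset (M × ℕ)
  K : Submodule R (Big R M)
  hKfg : K.FG
  hKI : K ≤ supp R M I
  hKpi : K ≤ LinearMap.ker (bigPi R M)
  free : Module.Free R (supp R M I ⧸ K.comap (supp R M I).subtype)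

instance : Preorder (Idx R M) where
  le a b := a.I ⊆ b.I ∧ a.K ≤ b.K
  le_refl a := ⟨subset_rfl, le_rfl⟩
  le_trans a b c h h' := ⟨h.1.trans h'.1, h.2.trans h'.2⟩

variable {M}

theorem exists_idx [Module.Flat R M] (I : Finset (M × ℕ)) (K : Submodule R (Big R M))
    (hKfg : K.FG) (hKI : K ≤ supp R M I)
    (hKpi : K ≤ LinearMap.ker (bigPi R M)) :
    ∃ j : Idx R M, I ⊆ j.I ∧ K ≤ j.K := by
  classical
  let N := supp R M I
  have : Module.Finite R K := Module.Finite.of_fg hKfg
  have : Module.Free R N := Module.Free.of_basis (sB R M I)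
  have : Module.Finite R N := Module.Finite.of_basis (sB R M I)
  let f : K →ₗ[R] N := Submodule.inclusion hKI
  let x : N →ₗ[R] M := (bigPi R M) ∘ₗ N.subtype
  have hxf : x ∘ₗ f = 0 := by
    ext k
    exact hKpi k.2
  obtain ⟨k, a, y, hx, ha⟩ := Module.Flat.exists_factorization_of_comp_eq_zero_of_free hxf
  -- choose new elements
  let B : ℕ := (I.sup Prod.snd) + 1
  let b : Fin k → M × ℕ := fun i => (y (Finsupp.single i 1), B + i)
  have hbI : ∀ i, b i ∉ I := by
    intro i hi
    have : (b i).2 ≤ I.sup Prod.snd := Finset.le_sup (f := Prod.snd) hi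
    simp only [b, B] at this
    omega
  have hbinj : Function.Injective b := by
    intro i i' h
    have := congrArg Prod.snd h
    simp only [b] at this
    exact Fin.ext (by omega)
  let φ : Big R M →ₗ[R] (Fin k →₀ R) := (bB R M).constr R
    (fun s => if h : s ∈ I then a ⟨bB R M s, bB_mem_supp R M h⟩
      else if h' : ∃ i, b i = s then Finsupp.single h'.choose 1 else 0)
  have hφI : ∀ (s) (h : s ∈ I), φ (bB R M s) = a ⟨bB R M s, bB_mem_supp R M h⟩ := by
    intro s h
    simp [φ, h]
  have hφb : ∀ i, φ (bB R M (b i)) = Finsupp.single i 1 := by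
    intro i
    have h' : ∃ i', b i' = b i := ⟨i, rfl⟩
    have : h'.choose = i := hbinj h'.choose_spec
    simp only [φ, Module.Basis.constr_basis]
    rw [dif_neg (hbI i), dif_pos h', this]
  have hφN : φ ∘ₗ N.subtype = a := by
    apply (sB R M I).ext
    intro s
    have h1 : (⟨bB R M s, bB_mem_supp R M s.2⟩ : N) = sB R M I s := Subtype.ext (sB_apply R M I s).symm
    rw [← h1]
    exact hφI s s.2
  let I' : Finset (M × ℕ) := I ∪ Finset.univ.image b
  let N' := supp R M I'
  have hNN' : N ≤ N' := supp_mono R M Finset.subset_union_left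
  have : Module.Finite R N' := Module.Finite.of_basis (sB R M I')
  let K' : Submodule R (Big R M) := LinearMap.ker φ ⊓ N'
  have hsurj : Function.Surjective (φ ∘ₗ N'.subtype) := by
    rw [← LinearMap.range_eq_top, ← top_le_iff]
    have : (⊤ : Submodule R (Fin k →₀ R)) = Submodule.span R (Set.range fun i => Finsupp.single i 1) := by
      symm
      simpa using (Finsupp.basisSingleOne (R := R) (ι := Fin k)).span_eq
    rw [this, Submodule.span_le]
    rintro _ ⟨i, rfl⟩
    refine ⟨⟨bB R M (b i), bB_mem_supp R M (by simp [I'])⟩, ?_⟩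
    simpa using hφb i
  have hcomap : K'.comap N'.subtype = LinearMap.ker (φ ∘ₗ N'.subtype) := by
    ext z
    simp [K']
  have hfg : K'.FG := by
    have : K' = (LinearMap.ker (φ ∘ₗ N'.subtype)).map N'.subtype := by
      rw [← hcomap, Submodule.map_comap_subtype]
      simp [K']
    rw [this]
    exact (Module.FinitePresentation.fg_ker _ hsurj).map _
  have hKK' : K ≤ K' := by
    intro z hz
    refine ⟨?_, hNN' (hKI hz)⟩
    have h1 : (φ ∘ₗ N.subtype) (f ⟨z, hz⟩) = 0 := by
      rw [hφN]
      exact LinearMap.congr_fun ha ⟨z, hz⟩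
    simpa [f] using h1
  have hpi : ∀ z ∈ N', bigPi R M z = y (φ z) := by
    intro z hz
    induction hz using Submodule.span_induction with
    | mem z hz =>
      obtain ⟨⟨s, hs⟩, rfl⟩ := hz
      simp only [I', Finset.mem_union, Finset.mem_image, Finset.mem_univ, true_and] at hs
      rcases hs with hs | ⟨i, rfl⟩
      · have h2 := LinearMap.congr_fun hx ⟨bB R M s, bB_mem_supp R M hs⟩
        simp only [LinearMap.comp_apply] at h2
        rw [hφI s hs, ← h2]
        rfl
      · rw [hφb, bigPi_bB]
    | zero => simp
    | add z w _ _ h1 h2 => simp only [map_add, h1, h2]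
    | smul r z _ h1 => simp only [map_smul, h1]
  refine ⟨⟨I', K', hfg, inf_le_right, ?_, ?_⟩, Finset.subset_union_left, hKK'⟩
  · intro z hz
    rw [LinearMap.mem_ker, hpi z hz.2, LinearMap.mem_ker.mp hz.1, map_zero]
  · exact Module.Free.of_equiv ((Submodule.quotEquivOfEq _ _ hcomap).trans
      (LinearMap.quotKerEquivOfSurjective _ hsurj)).symm

instance [Module.Flat R M] : IsDirected (Idx R M) (fun a b => a ≤ b) where
  directed a b := by
    classical
    obtain ⟨j, h1, h2⟩ := exists_idx R (a.I ∪ b.I) (a.K ⊔ b.K) (a.hKfg.sup b.hKfg)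
      (sup_le (a.hKI.trans (supp_mono R M Finset.subset_union_left))
        (b.hKI.trans (supp_mono R M Finset.subset_union_right)))
      (sup_le a.hKpi b.hKpi)
    exact ⟨j, ⟨Finset.subset_union_left.trans h1, le_sup_left.trans h2⟩,
      ⟨Finset.subset_union_right.trans h1, le_sup_right.trans h2⟩⟩

instance [Module.Flat R M] : Nonempty (Idx R M) :=
  ⟨(exists_idx R (M := M) ∅ ⊥ Submodule.fg_bot bot_le bot_le).choose⟩

variable (M)

/-- The diagram of finite free modules. -/
noncomputable def diag : Idx R M ⥤ ModuleCat.{u} R where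
  obj j := ModuleCat.of R (supp R M j.I ⧸ j.K.comap (supp R M j.I).subtype)
  map {i j} h := ModuleCat.ofHom (Submodule.mapQ _ _ (Submodule.inclusion (supp_mono R M h.le.1))
    (fun z hz => h.le.2 hz))
  map_id i := by
    ext x
    rfl
  map_comp f g := by
    ext x
    rfl

/-- The cocone. -/
noncomputable def coc : Limits.Cocone (diag R M) where
  pt := ModuleCat.of R M
  ι :=
    { app := fun j => ModuleCat.ofHom (Submodule.liftQ _ ((bigPi R M) ∘ₗ (supp R M j.I).subtype)
        (fun z hz => j.hKpi hz))
      naturality := by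
        intro i j h
        ext x
        obtain ⟨x, rfl⟩ := Submodule.mkQ_surjective _ x
        rfl }

theorem coc_bij [Module.Flat R M] : Function.Bijective (Limits.colimit.desc (diag R M) (coc R M)) := by
  classical
  constructor
  · rw [injective_iff_map_eq_zero]
    intro x hx
    obtain ⟨j, x, rfl⟩ := Limits.Concrete.colimit_exists_rep _ x
    obtain ⟨z, rfl⟩ := Submodule.mkQ_surjective _ x
    have hz : bigPi R M z = 0 := by
      rw [← ConcreteCategory.comp_apply, Limits.colimit.ι_desc] at hx
      exact hx
    obtain ⟨j', h1, h2⟩ := exists_idx R j.I (j.K ⊔ Submodule.span R {(z : Big R M)})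
      (j.hKfg.sup (Submodule.fg_span_singleton _))
      (sup_le j.hKI (by
        rw [Submodule.span_singleton_le_iff_mem]
        exact z.2))
      (sup_le j.hKpi (by
        rw [Submodule.span_singleton_le_iff_mem]
        exact hz))
    let f : j ⟶ j' := homOfLE ⟨h1, le_sup_left.trans h2⟩
    have : (diag R M).map f (Submodule.mkQ _ z) = 0 := by
      change Submodule.Quotient.mk _ = 0
      rw [Submodule.Quotient.mk_eq_zero]
      exact h2 (Submodule.mem_sup_right (Submodule.mem_span_singleton_self _))
    rw [← Limits.colimit.w (diag R M) f, ConcreteCategory.comp_apply, this, map_zero]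
  · intro m
    obtain ⟨j, h1, -⟩ := exists_idx R (M := M) {(m, 0)} ⊥ Submodule.fg_bot bot_le bot_le
    have hm : (m, 0) ∈ j.I := h1 (Finset.mem_singleton_self _)
    refine ⟨Limits.colimit.ι (diag R M) j (Submodule.mkQ _ ⟨bB R M (m, 0), bB_mem_supp R M hm⟩), ?_⟩
    rw [← ConcreteCategory.comp_apply, Limits.colimit.ι_desc]
    exact bigPi_bB R M (m, 0)

end Aux

/-- Stacks Tag 058G (Lazard): an `R`-module `M` is flat if and only if it is isomorphic to the colimit of a diagram of finite free `R`-modules indexed
by a nonempty directed preorder (in the same universe). -/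
theorem result {R : Type u} [CommRing R] (M : Type u) [AddCommGroup M] [Module R M] :
    Module.Flat R M ↔
      ∃ (J : Type u) (_ : Preorder J) (_ : IsDirected J (fun a b => a ≤ b)) (_ : Nonempty J)
        (F : J ⥤ ModuleCat.{u} R), (∀ j, Module.Finite R (F.obj j) ∧ Module.Free R (F.obj j)) ∧
        Nonempty (Limits.colimit F ≅ ModuleCat.of R M) := by
  constructor
  · intro _
    refine ⟨Idx R M, inferInstance, inferInstance, inferInstance, diag R M, ?_, ?_⟩
    · intro j
      have : Module.Finite R (supp R M j.I) := Module.Finite.of_basis (sB R M j.I)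
      exact ⟨inferInstanceAs (Module.Finite R (supp R M j.I ⧸ j.K.comap (supp R M j.I).subtype)), j.free⟩
    · have : IsIso (Limits.colimit.desc (diag R M) (coc R M)) :=
        (ConcreteCategory.isIso_iff_bijective _).mpr (coc_bij R M)
      exact ⟨@asIso _ _ _ _ (Limits.colimit.desc (diag R M) (coc R M)) this⟩
  · rintro ⟨J, _, _, _, F, hF, ⟨e⟩⟩
    have : IsFiltered J := inferInstance
    suffices h : Module.Flat R (Limits.colimit F : ModuleCat.{u} R) from
      Module.Flat.of_linearEquiv e.toLinearEquiv.symm
    apply Module.Flat.of_forall_isTrivialRelation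
    intro l f x hfx
    choose j0 x0 hx0 using fun i => Limits.Concrete.colimit_exists_rep F (x i)
    obtain ⟨j, hj⟩ := Finite.exists_le j0
    let x' : Fin l → F.obj j := fun i => F.map (homOfLE (hj i)) (x0 i)
    have hx' : ∀ i, Limits.colimit.ι F j (x' i) = x i := by
      intro i
      rw [← hx0 i, ← Limits.colimit.w F (homOfLE (hj i)), ConcreteCategory.comp_apply]
    have h0 : Limits.colimit.ι F j (∑ i, f i • x' i) = 0 := by
      rw [map_sum, ← hfx]
      refine Finset.sum_congr rfl fun i _ => ?_
      rw [← hx' i]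
      exact (Limits.colimit.ι F j).hom.map_smul _ _
    obtain ⟨j', g, hg⟩ := Limits.Concrete.colimit_rep_eq_zero R F j _ h0
    have hflat : Module.Flat R (F.obj j') := by
      have := (hF j').2
      infer_instance
    have hg' : ∑ i, f i • F.map g (x' i) = 0 := by
      rw [← hg, map_sum]
      refine Finset.sum_congr rfl fun i _ => ?_
      exact ((F.map g).hom.map_smul _ _).symm
    obtain ⟨k, a, y, h1, h2⟩ := Module.Flat.isTrivialRelation_of_sum_smul_eq_zero hg'
    refine ⟨k, a, fun m => Limits.colimit.ι F j' (y m), fun i => ?_, h2⟩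
    have h1i : F.map g (x' i) = ∑ j, a i j • y j := h1 i
    rw [← hx' i, ← Limits.colimit.w F g, ConcreteCategory.comp_apply, h1i, map_sum]
    refine Finset.sum_congr rfl fun m _ => ?_
    exact (Limits.colimit.ι F j').hom.map_smul _ _

end Groth.Agent.S2118
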