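import Groth.Statements.S2119
import Mathlib.RingTheory.UniqueFactorizationDomain.Basic
import Mathlib.Algebra.BigOperators.Associated
import Mathlib.RingTheory.Localization.Basic

set_option autoImplicit false
universe u
open CAlg

namespace Groth.Agent.S2119

/-- If `s` is a product of primes from `P` and `s * x = y * z`, then the primes of `s` can be
distributed among `y` and `z`. -/
theorem exists_split {A : Type u} [CommRing A] [IsDomain A] {P : Set A}
    (hP : ∀ p ∈ P, Prime p) {s : A} (hs : s ∈ Submonoid.closure P) :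
    ∀ (x y z : A), s * x = y * z →
      ∃ s₁ ∈ Submonoid.closure P, ∃ s₂ ∈ Submonoid.closure P, ∃ y' z' : A,
        s = s₁ * s₂ ∧ y = s₁ * y' ∧ z = s₂ * z' ∧ x = y' * z' := by
  induction hs using Submonoid.closure_induction with
  | mem p hp =>
    intro x y z h
    have hpp := hP p hp
    rcases hpp.dvd_or_dvd (Dvd.intro _ h) with ⟨y', rfl⟩ | ⟨z', rfl⟩
    · refine ⟨p, Submonoid.subset_closure hp, 1, Submonoid.one_mem _, y', z, by simp, rfl,
        by simp, ?_⟩
      rw [mul_assoc] at h
      exact mul_left_cancel₀ hpp.ne_zero h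
    · refine ⟨1, Submonoid.one_mem _, p, Submonoid.subset_closure hp, y, z', by simp, by simp,
        rfl, ?_⟩
      rw [mul_left_comm] at h
      exact mul_left_cancel₀ hpp.ne_zero h
  | one =>
    intro x y z h
    exact ⟨1, Submonoid.one_mem _, 1, Submonoid.one_mem _, y, z, by simp, by simp, by simp,
      by simpa using h⟩
  | mul s t _ _ hs ht =>
    intro x y z h
    rw [mul_assoc] at h
    obtain ⟨s₁, hs₁, s₂, hs₂, y', z', rfl, rfl, rfl, h'⟩ := hs _ _ _ h
    obtain ⟨t₁, ht₁, t₂, ht₂, y'', z'', rfl, rfl, rfl, rfl⟩ := ht _ _ _ h'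
    exact ⟨s₁ * t₁, mul_mem hs₁ ht₁, s₂ * t₂, mul_mem hs₂ ht₂, y'', z'', by ring, by ring,
      by ring, rfl⟩

theorem prime_of_dvd {A : Type u} [CommRing A] [IsDomain A] {P : Set A}
    (hP : ∀ p ∈ P, Prime p) {s x : A} (hs : s ∈ Submonoid.closure P) (hx : Irreducible x) :
    x ∣ s → Prime x := by
  induction hs using Submonoid.closure_induction with
  | mem p hp =>
    intro h
    have hpp := hP p hp
    exact ((hx.associated_of_dvd hpp.irreducible h).symm.prime hpp)
  | one => exact fun h => absurd (isUnit_of_dvd_one h) hx.not_isUnit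
  | mul s t hs' ht' hs ht =>
    rintro ⟨c, hc⟩
    obtain ⟨s₁, hs₁, s₂, hs₂, y', z', rfl, rfl, rfl, rfl⟩ := exists_split hP hs' _ _ _ hc
    rcases hx.isUnit_or_isUnit rfl with h | h
    · exact ht ((h.mul_left_dvd).2 (dvd_mul_right _ _))
    · exact hs ((h.mul_right_dvd).2 (dvd_mul_right _ _))

theorem isUnit_mk' {A : Type u} [CommRing A] (S : Submonoid A) {s : A} (hs : s ∈ S) {a : A}
    (ha : IsUnit a) (t : S) : IsUnit (IsLocalization.mk' (Localization S) (s * a) t) := by
  refine isUnit_of_mul_isUnit_left (y := algebraMap _ _ (t : A)) ?_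
  rw [IsLocalization.mk'_spec, map_mul]
  exact (IsLocalization.map_units _ ⟨s, hs⟩).mul (ha.map _)

theorem prime_of_irreducible {A : Type u} [CommRing A] [IsDomain A] (P : Set A)
    (hP : ∀ p ∈ P, Prime p) (hS : UniqueFactorizationMonoid (Localization (Submonoid.closure P)))
    {x : A} (hx : Irreducible x) : Prime x := by
  by_cases hdvd : ∃ s ∈ Submonoid.closure P, x ∣ s
  · obtain ⟨s, hs, h⟩ := hdvd
    exact prime_of_dvd hP hs hx h
  push Not at hdvd
  set S := Submonoid.closure P with hSdef
  have h0 : S ≤ nonZeroDivisors A := by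
    rw [hSdef, Submonoid.closure_le]
    intro p hp
    exact mem_nonZeroDivisors_of_ne_zero (hP p hp).ne_zero
  have hinj : Function.Injective (algebraMap A (Localization S)) := IsLocalization.injective _ h0
  have hfx : Irreducible (algebraMap A (Localization S) x) := by
    constructor
    · intro hu
      obtain ⟨β, hβ⟩ := hu.exists_right_inv
      obtain ⟨⟨b, t⟩, rfl⟩ := IsLocalization.mk'_surjective S β
      rw [IsLocalization.mul_mk'_eq_mk'_of_mul, IsLocalization.mk'_eq_iff_eq_mul, one_mul] at hβ
      exact hdvd t t.2 (Dvd.intro _ (hinj hβ))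
    · intro α β hαβ
      obtain ⟨⟨a, s⟩, rfl⟩ := IsLocalization.mk'_surjective S α
      obtain ⟨⟨b, t⟩, rfl⟩ := IsLocalization.mk'_surjective S β
      rw [← IsLocalization.mk'_mul, eq_comm, IsLocalization.mk'_eq_iff_eq_mul, ← map_mul] at hαβ
      have h' := hinj hαβ
      obtain ⟨s₁, hs₁, s₂, hs₂, a', b', h1, h2, h3, h4⟩ :=
        exists_split hP (s * t).2 x a b (by rw [mul_comm]; exact h'.symm)
      rcases hx.isUnit_or_isUnit h4 with h | h
      · left
        dsimp only
        rw [h2]
        exact isUnit_mk' S hs₁ h s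
      · right
        dsimp only
        rw [h3]
        exact isUnit_mk' S hs₂ h t
  have hpx : Prime (algebraMap A (Localization S) x) :=
    UniqueFactorizationMonoid.irreducible_iff_prime.mp hfx
  have key : ∀ a, algebraMap A (Localization S) x ∣ algebraMap A (Localization S) a → x ∣ a := by
    rintro a ⟨γ, hγ⟩
    obtain ⟨⟨c, t⟩, rfl⟩ := IsLocalization.mk'_surjective S γ
    rw [IsLocalization.mul_mk'_eq_mk'_of_mul, eq_comm, IsLocalization.mk'_eq_iff_eq_mul, ← map_mul] at hγ
    have h' := hinj hγ
    obtain ⟨s₁, hs₁, s₂, hs₂, x', c', h1, h2, h3, h4⟩ :=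
        exists_split hP t.2 a x c (by rw [mul_comm]; exact h'.symm)
    rcases hx.isUnit_or_isUnit h2 with h | h
    · rw [h2, h4, h.mul_left_dvd]
      exact dvd_mul_right _ _
    · exfalso
      refine hdvd s₁ hs₁ ?_
      rw [h2, h.mul_right_dvd]
  refine ⟨hx.ne_zero, hx.not_isUnit, fun a b hab => ?_⟩
  have := hpx.dvd_or_dvd (a := algebraMap A (Localization S) a)
    (b := algebraMap A (Localization S) b) (by rw [← map_mul]; exact map_dvd _ hab)
  exact this.imp (key a) (key b)

/-- Stacks Tag 0AFU (Nagata's criterion for factoriality, final assertion): let `A` be a domain in which every nonzero nonunit factors into irreducibles, and `S` the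
multiplicative subset generated by a set of prime elements. If the localization `S⁻¹A` is a unique factorization domain, then so is `A`. -/
theorem result {A : Type u} [CommRing A] [IsDomain A]
    (hfac : ∀ a : A, a ≠ 0 → ¬ IsUnit a → ∃ f : Multiset A, (∀ b ∈ f, Irreducible b) ∧ Associated f.prod a) (P : Set A)
    (hP : ∀ p ∈ P, Prime p) [IsDomain (Localization (Submonoid.closure P))]
    (hS : UniqueFactorizationMonoid (Localization (Submonoid.closure P))) : UniqueFactorizationMonoid A := by
  refine UniqueFactorizationMonoid.of_exists_prime_factors fun a ha => ?_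
  by_cases hu : IsUnit a
  · exact ⟨0, by simp, by simpa using (associated_one_iff_isUnit.2 hu).symm⟩
  · obtain ⟨f, hf, hfa⟩ := hfac a ha hu
    exact ⟨f, fun b hb => prime_of_irreducible P hP hS (hf b hb), hfa⟩

end Groth.Agent.S2119
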