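import Groth.Statements.S2121
import Mathlib.AlgebraicGeometry.ValuativeCriterion
import Mathlib.AlgebraicGeometry.PullbackCarrier
import Mathlib.RingTheory.Ideal.MinimalPrime.Localization

set_option autoImplicit false
universe u
open CategoryTheory AlgebraicGeometry
open Mor

namespace Groth.Agent.S2121

theorem exists_specializes {X Y : Scheme.{u}} (f : X ⟶ Y) [QuasiCompact f] (z : Y)
    (hz : z ∈ closure (Set.range f.base)) : ∃ x : X, f.base x ⤳ z := by
  obtain ⟨_, ⟨V, hV, rfl⟩, hzV, -⟩ := Y.isBasis_affineOpens.exists_subset_of_mem_open (Set.mem_univ z) isOpen_univ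
  replace hV : IsAffineOpen V := hV
  let P := Limits.pullback f hV.fromSpec
  let p : P ⟶ Spec Γ(Y, V) := Limits.pullback.snd f hV.fromSpec
  have : QuasiCompact p := MorphismProperty.pullback_snd _ _ ‹_›
  have hPc : CompactSpace P := QuasiCompact.compactSpace_of_compactSpace p
  obtain ⟨R, g, hg⟩ := compactSpace_iff_exists.mp hPc
  obtain ⟨φ, hφ⟩ := Spec.homEquiv.symm.surjective (g ≫ p)
  have hz' : z ∈ Set.range hV.fromSpec := by
    rw [hV.range_fromSpec]; exact hzV
  obtain ⟨z', rfl⟩ := hz'
  have hz2 : z' ∈ closure (Set.range p) := by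
    rw [Scheme.Pullback.range_snd]
    rw [← hV.fromSpec.isOpenEmbedding.isOpenMap.preimage_closure_eq_closure_preimage
      hV.fromSpec.continuous]
    exact hz
  have hr : Set.range p = Set.range (PrimeSpectrum.comap φ.hom) := by
    have h1 : Set.range (g ≫ p) = Set.range p := by
      rw [Scheme.Hom.comp_base, TopCat.coe_comp, Set.range_comp, hg.range_eq, Set.image_univ]
    rw [← h1, ← hφ]
    rfl
  rw [hr] at hz2
  have hz3 : z' ∈ PrimeSpectrum.zeroLocus (RingHom.ker φ.hom : Set Γ(Y, V)) := by
    rw [← PrimeSpectrum.closure_range_comap]; exact hz2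
  have hz3 : RingHom.ker φ.hom ≤ z'.asIdeal := hz3
  have := z'.isPrime
  obtain ⟨q, hq, hqz⟩ := Ideal.exists_minimalPrimes_le hz3
  obtain ⟨q', hq', -, hqq'⟩ := Ideal.exists_comap_eq_of_mem_minimalPrimes (I := ⊥) φ.hom q hq
  let w : Spec R := ⟨q', hq'⟩
  refine ⟨Limits.pullback.fst f hV.fromSpec (g w), ?_⟩
  have h2 : f (Limits.pullback.fst f hV.fromSpec (g w)) = hV.fromSpec ((g ≫ p) w) := by
    rw [← Scheme.Hom.comp_apply, ← Scheme.Hom.comp_apply, ← Scheme.Hom.comp_apply]
    rw [Limits.pullback.condition]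
    rfl
  rw [h2]
  refine Specializes.map ?_ hV.fromSpec.continuous
  rw [← hφ]
  change (PrimeSpectrum.comap φ.hom ⟨q', hq'⟩ : PrimeSpectrum _) ⤳ z'
  rw [← PrimeSpectrum.le_iff_specializes]
  change Ideal.comap φ.hom q' ≤ z'.asIdeal
  rw [hqq']
  exact hqz

/-- Stacks Tag 02JQ: let `f : X → Y` be quasi-compact and `z` a point in the closure of `f(X)` (the underlying set of the scheme theoretic image). Then there are a
valuation ring `A` with fraction field `K` and morphisms `Spec K → X`, `Spec A → Y` forming a commutative square with `f` and `Spec K → Spec A`, such that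
the closed point of `Spec A` maps to `z`. -/
theorem result {X Y : Scheme.{u}} (f : X ⟶ Y) [QuasiCompact f] (z : Y)
    (hz : z ∈ closure (Set.range f.base)) :
    ∃ (A : Type u) (_ : CommRing A) (_ : IsDomain A) (_ : ValuationRing A)
      (x : Spec (CommRingCat.of (FractionRing A)) ⟶ X) (y : Spec (CommRingCat.of A) ⟶ Y),
      x ≫ f = Spec.map (CommRingCat.ofHom (algebraMap A (FractionRing A))) ≫ y ∧
      y.base (IsLocalRing.closedPoint A) = z := by
  obtain ⟨x', h⟩ := exists_specializes f z hz
  replace h : f x' ⤳ z := h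
  let stalk_y_to_residue_x' : Y.presheaf.stalk z ⟶ X.residueField x' :=
    Y.presheaf.stalkSpecializes h ≫ f.stalkMap x' ≫ X.residue x'
  obtain ⟨A, hA, hA_local⟩ := IsLocalRing.exists_factor_valuationRing stalk_y_to_residue_x'.hom
  let stalk_y_to_A : Y.presheaf.stalk z ⟶ .of A :=
    CommRingCat.ofHom (stalk_y_to_residue_x'.hom.codRestrict _ hA)
  have w : X.fromSpecResidueField x' ≫ f =
      Spec.map (CommRingCat.ofHom (algebraMap A (X.residueField x'))) ≫
        Spec.map stalk_y_to_A ≫ Y.fromSpecStalk z := by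
    rw [Scheme.fromSpecResidueField, Category.assoc, ← Scheme.SpecMap_stalkMap_fromSpecStalk,
      ← Scheme.SpecMap_stalkSpecializes_fromSpecStalk h]
    simp_rw [← Spec.map_comp_assoc]
    rfl
  let e : FractionRing A ≃ₐ[A] X.residueField x' := FractionRing.algEquiv A (X.residueField x')
  refine ⟨A, inferInstance, inferInstance, inferInstance,
    Spec.map (CommRingCat.ofHom (e.symm : X.residueField x' →+* FractionRing A)) ≫ X.fromSpecResidueField x',
    Spec.map stalk_y_to_A ≫ Y.fromSpecStalk z, ?_, ?_⟩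
  · rw [Category.assoc, w, ← Spec.map_comp_assoc]
    congr 2
    ext a
    exact e.symm.commutes a
  · simp only [Scheme.Hom.comp_base, TopCat.coe_comp, Function.comp_apply]
    have : Spec.map stalk_y_to_A (IsLocalRing.closedPoint A) =
        IsLocalRing.closedPoint (Y.presheaf.stalk z) :=
      IsLocalRing.comap_closedPoint (S := A) (stalk_y_to_residue_x'.hom.codRestrict A.toSubring hA)
    erw [this, Y.fromSpecStalk_closedPoint]

end Groth.Agent.S2121
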