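import Groth.Statements.S2123
import Mathlib.AlgebraicGeometry.Stalk

set_option autoImplicit false
universe u
open CategoryTheory AlgebraicGeometry
open Mor

namespace Groth.Agent.S2123

/-- Stacks Tag 02NF: let `X` be an integral separated scheme and `x, y` points such that the closure of `x` is not contained in the closure of `y`. Then, inside the
function field of `X`, the local ring at `x` is not contained in the local ring at `y`. -/
theorem result (X : Scheme.{u}) [IsIntegral X] [X.IsSeparated] (x y : X)
    (h : ¬ closure ({x} : Set X) ⊆ closure {y}) :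
    ¬ Set.range (X.presheaf.stalkSpecializes (genericPoint_specializes x)) ⊆
        Set.range (X.presheaf.stalkSpecializes (genericPoint_specializes y)) := by
  intro hsub
  apply h
  let a : X.presheaf.stalk x ⟶ X.presheaf.stalk (genericPoint X) :=
    X.presheaf.stalkSpecializes (genericPoint_specializes x)
  let b : X.presheaf.stalk y ⟶ X.presheaf.stalk (genericPoint X) :=
    X.presheaf.stalkSpecializes (genericPoint_specializes y)
  have hb : Function.Injective b.hom :=
    IsFractionRing.injective (X.presheaf.stalk y) X.functionField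
  have hab (s) : a.hom s ∈ b.hom.range := by
    obtain ⟨t, ht⟩ := hsub ⟨s, rfl⟩
    exact ⟨t, ht⟩
  let eb : X.presheaf.stalk y ≃+* b.hom.range :=
    RingEquiv.ofBijective b.hom.rangeRestrict ⟨fun s t hst ↦ hb congr($hst.1),
      b.hom.rangeRestrict_surjective⟩
  let θ : X.presheaf.stalk x ⟶ X.presheaf.stalk y :=
    CommRingCat.ofHom (eb.symm.toRingHom.comp (a.hom.codRestrict b.hom.range hab))
  have hθ : θ ≫ b = a := by
    ext s
    change (b.hom.rangeRestrict (eb.symm (a.hom.codRestrict b.hom.range hab s))).1 = a.hom s
    rw [show b.hom.rangeRestrict (eb.symm (a.hom.codRestrict b.hom.range hab s)) =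
      eb (eb.symm (a.hom.codRestrict b.hom.range hab s)) from rfl, eb.apply_symm_apply]
    rfl
  have hdom : IsDominant (Spec.map b) := by
    refine ⟨(PrimeSpectrum.denseRange_comap_iff_ker_le_nilRadical b.hom).mpr ?_⟩
    rw [(RingHom.injective_iff_ker_eq_bot b.hom).mp hb]
    exact bot_le
  have key : Spec.map θ ≫ X.fromSpecStalk x = X.fromSpecStalk y := by
    refine ext_of_isDominant (Spec.map b) ?_
    rw [← Spec.map_comp_assoc, hθ, Scheme.SpecMap_stalkSpecializes_fromSpecStalk,
      Scheme.SpecMap_stalkSpecializes_fromSpecStalk]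
  have hy : X.fromSpecStalk x (Spec.map θ (IsLocalRing.closedPoint (X.presheaf.stalk y))) = y := by
    rw [← Scheme.Hom.comp_apply, key, X.fromSpecStalk_closedPoint]
  have hy2 : y ∈ Set.range (X.fromSpecStalk x) := ⟨_, hy⟩
  rw [Scheme.range_fromSpecStalk] at hy2
  exact specializes_iff_closure_subset.mp hy2

end Groth.Agent.S2123
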