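import Groth.Statements.S2124
import Groth.Agent.S2057
import Mathlib.RingTheory.Filtration
import Mathlib.RingTheory.AdicCompletion.Functoriality

set_option autoImplicit false
universe u
open CAlg

namespace Groth.Agent.S2124

section Aux

variable {R : Type u} [CommRing R] (I : Ideal R)

theorem mem_smul_top_pi {n : ℕ} (v : Fin n → R) :
    v ∈ (I • ⊤ : Submodule R (Fin n → R)) ↔ ∀ i, v i ∈ I := by
  classical
  constructor
  · intro h i
    induction h using Submodule.smul_induction_on' with
    | smul r hr v _ => exact Ideal.mul_mem_right _ _ hr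
    | add x _ y _ hx hy => exact I.add_mem hx hy
  · intro h
    have : v = ∑ i, v i • (Pi.single i 1 : Fin n → R) := by
      ext j
      simp [Pi.single_apply]
    rw [this]
    exact Submodule.sum_mem _ fun i _ => Submodule.smul_mem_smul (h i) Submodule.mem_top

theorem mem_smul_top_finsupp {α : Type u} (g : α →₀ R) :
    g ∈ (I • ⊤ : Submodule R (α →₀ R)) ↔ ∀ a, g a ∈ I := by
  classical
  constructor
  · intro h i
    induction h using Submodule.smul_induction_on' with
    | smul r hr v _ => exact Ideal.mul_mem_right _ _ hr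
    | add x _ y _ hx hy => exact I.add_mem hx hy
  · intro h
    rw [← Finsupp.sum_single g, Finsupp.sum]
    refine Submodule.sum_mem _ fun a _ => ?_
    have : Finsupp.single a (g a) = g a • Finsupp.single a (1 : R) := by simp
    rw [this]
    exact Submodule.smul_mem_smul (h a) Submodule.mem_top

theorem mem_smul_top_ring (x : R) : x ∈ (I • ⊤ : Submodule R R) ↔ x ∈ I := by
  rw [smul_eq_mul]
  exact (Ideal.mul_top I).symm ▸ Iff.rfl

/-- A section of a linear map of finite free modules which is controlled adically. -/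
theorem exists_section [IsNoetherianRing R] [IsHausdorff I R] {n m : ℕ} (r : Fin n → Fin m → R) :
    ∃ c : ℕ, ∀ v : Fin n → R, (∃ u : Fin m → R, ∀ i, v i = ∑ j, r i j * u j) →
      ∃ s : Fin m → R, (∀ i, v i = ∑ j, r i j * s j) ∧
        ∀ N, (∀ i, v i ∈ I ^ (N + c)) → ∀ j, s j ∈ I ^ N := by
  classical
  let φ : (Fin m → R) →ₗ[R] (Fin n → R) := Matrix.toLin' (Matrix.of r)
  have hφ : ∀ u i, φ u i = ∑ j, r i j * u j := by
    intro u i
    simp [φ, Matrix.toLin'_apply, Matrix.mulVec, dotProduct]
  obtain ⟨c, hc⟩ := Ideal.exists_pow_inf_eq_pow_smul I (LinearMap.range φ)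
  refine ⟨c, fun v hv => ?_⟩
  by_cases hN : ∃ N, ¬ ∀ i, v i ∈ I ^ N
  · let N0 := Nat.find hN
    have hN0 : ¬ ∀ i, v i ∈ I ^ N0 := Nat.find_spec hN
    have hlt : ∀ k < N0, ∀ i, v i ∈ I ^ k := fun k hk => not_not.mp (Nat.find_min hN hk)
    have hpos : 0 < N0 := by
      rcases Nat.eq_zero_or_pos N0 with h | h
      · exact absurd (by rw [h]; simp) hN0
      · exact h
    obtain ⟨u, hu⟩ := hv
    have hvr : v ∈ LinearMap.range φ := ⟨u, by ext i; rw [hφ, hu]⟩
    obtain ⟨s, hs1, hs2⟩ : ∃ s, φ s = v ∧ ∀ j, s j ∈ I ^ (N0 - 1 - c) := by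
      by_cases hcN : c ≤ N0 - 1
      · have h1 : v ∈ I ^ (N0 - 1) • ⊤ ⊓ LinearMap.range φ :=
          ⟨(mem_smul_top_pi _ _).mpr (hlt _ (by omega)), hvr⟩
        rw [hc _ hcN] at h1
        have h2 : v ∈ I ^ (N0 - 1 - c) • LinearMap.range φ := Submodule.smul_mono le_rfl inf_le_right h1
        rw [LinearMap.range_eq_map, ← Submodule.map_smul''] at h2
        obtain ⟨s, hs, rfl⟩ := h2
        exact ⟨s, rfl, (mem_smul_top_pi _ _).mp hs⟩
      · refine ⟨u, by ext i; rw [hφ, hu], fun j => ?_⟩
        rw [Nat.sub_eq_zero_of_le (by omega)]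
        simp
    refine ⟨s, fun i => by rw [← hs1, hφ], fun N h j => ?_⟩
    have : N ≤ N0 - 1 - c := by
      by_contra hcon
      apply hN0
      intro i
      exact Ideal.pow_le_pow_right (by omega) (h i)
    exact Ideal.pow_le_pow_right this (hs2 j)
  · have hv0 : ∀ i, v i = 0 := by
      intro i
      refine IsHausdorff.haus ‹_› _ fun N => ?_
      rw [SModEq.zero, mem_smul_top_ring]
      exact (not_not.mp (not_exists.mp hN N)) i
    exact ⟨0, fun i => by simp [hv0], fun N _ j => by simp⟩

variable {I} {α : Type u}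

/-- The coordinate maps of the completion of a free module. -/
noncomputable abbrev coord (a : α) : AdicCompletion I (α →₀ R) →ₗ[R] AdicCompletion I R :=
  AdicCompletion.map I (Finsupp.lapply a : (α →₀ R) →ₗ[R] R)

theorem coord_val (x : AdicCompletion I (α →₀ R)) (N : ℕ) (g : α →₀ R)
    (hg : Submodule.mkQ _ g = x.val N) (a : α) :
    (coord a x).val N = Submodule.mkQ _ (g a) := by
  change (AdicCompletion.map I (Finsupp.lapply a : (α →₀ R) →ₗ[R] R) x).val N = _
  rw [AdicCompletion.map_val_apply, ← hg]
  rfl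

theorem ext_coord {x y : AdicCompletion I (α →₀ R)} (h : ∀ a, coord a x = coord a y) : x = y := by
  rw [← sub_eq_zero]
  have h' : ∀ a, coord a (x - y) = 0 := fun a => by rw [map_sub, h, sub_self]
  generalize x - y = z at h'
  ext N
  obtain ⟨g, hg⟩ := Submodule.mkQ_surjective _ (z.val N)
  rw [← hg, AdicCompletion.val_zero_apply, Submodule.mkQ_apply, Submodule.Quotient.mk_eq_zero,
    mem_smul_top_finsupp]
  intro a
  have h1 := coord_val z N g hg a
  rw [h' a, AdicCompletion.val_zero_apply, eq_comm, Submodule.mkQ_apply,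
    Submodule.Quotient.mk_eq_zero, mem_smul_top_ring] at h1
  exact h1

theorem finite_of_coord {x : AdicCompletion I (α →₀ R)} {z : α → R}
    (hz : ∀ a, coord a x = AdicCompletion.of I R (z a)) (N : ℕ) : {a | z a ∉ I ^ N}.Finite := by
  obtain ⟨g, hg⟩ := Submodule.mkQ_surjective _ (x.val N)
  apply g.support.finite_toSet.subset
  intro a ha
  by_contra hg0
  apply ha
  have h1 := coord_val x N g hg a
  rw [hz a, AdicCompletion.of_apply, ← sub_eq_zero, ← map_sub, Submodule.mkQ_apply,
    Submodule.Quotient.mk_eq_zero, mem_smul_top_ring] at h1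
  simpa [Finsupp.notMem_support_iff.mp hg0] using h1

theorem exists_of_finite (z : α → R) (h : ∀ N, {a | z a ∉ I ^ N}.Finite) :
    ∃ x : AdicCompletion I (α →₀ R), ∀ a, coord a x = AdicCompletion.of I R (z a) := by
  classical
  let g : ℕ → (α →₀ R) := fun N => Finsupp.onFinset (h N).toFinset
    (fun a => if z a ∈ I ^ N then 0 else z a) (fun a ha => by simpa using fun h' => ha (by simp [h']))
  have hg : ∀ N a, g N a = if z a ∈ I ^ N then 0 else z a := fun N a => rfl
  let x : AdicCompletion I (α →₀ R) := ⟨fun N => Submodule.mkQ _ (g N), by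
    intro m n hmn
    change (Submodule.Quotient.mk (g n) : (α →₀ R) ⧸ (I ^ m • ⊤ : Submodule R (α →₀ R))) =
      Submodule.Quotient.mk (g m)
    rw [Submodule.Quotient.eq, mem_smul_top_finsupp]
    intro a
    rw [Finsupp.sub_apply, hg, hg]
    by_cases h1 : z a ∈ I ^ n
    · have h2 := Ideal.pow_le_pow_right hmn h1
      simp [h1, h2]
    · by_cases h2 : z a ∈ I ^ m
      · simp [h1, h2]
      · simp [h1, h2]⟩
  refine ⟨x, fun a => ?_⟩
  ext N
  rw [coord_val x N (g N) rfl a, AdicCompletion.of_apply, Submodule.mkQ_apply, Submodule.mkQ_apply,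
    Submodule.Quotient.eq, mem_smul_top_ring, hg]
  split_ifs with h1
  · simpa using h1
  · simp

end Aux

/-- Stacks Tag 05BC: let `R` be Noetherian and `I`-adically complete and `α` any index set. The map from the `I`-adic completion of the direct sum `⊕_α R` to the
product `∏_α R^∧ = ∏_α R`, induced by the coordinate projections, is universally injective. -/
theorem result {R : Type u} [CommRing R] [IsNoetherianRing R] (I : Ideal R)
    [IsAdicComplete I R] (α : Type u) :
    CAlgX.UniversallyInjective R
      (LinearMap.pi fun a : α => AdicCompletion.map I (Finsupp.lapply a : (α →₀ R) →ₗ[R] R) :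
        AdicCompletion I (α →₀ R) →ₗ[R] (α → AdicCompletion I R)) := by
  apply Groth.Agent.S2057.universallyInjective_of_equational
  intro n m x y r h
  obtain ⟨c, hc⟩ := exists_section I r
  -- coordinates
  have hof : ∀ t : AdicCompletion I R, ∃ s : R, t = AdicCompletion.of I R s := fun t =>
    ⟨(AdicCompletion.ofLinearEquiv I R).symm t, (AdicCompletion.of_ofLinearEquiv_symm I t).symm⟩
  choose v hv using fun (a : α) (i : Fin n) => hof (coord a (x i))
  choose u hu using fun (a : α) (j : Fin m) => hof (y j a)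
  have hvu : ∀ a i, v a i = ∑ j, r i j * u a j := by
    intro a i
    apply AdicCompletion.of_injective I R
    have h1 := congrFun (h i) a
    rw [← hv a i, map_sum]
    refine Eq.trans h1 ?_
    rw [Finset.sum_apply]
    refine Finset.sum_congr rfl fun j _ => ?_
    rw [Pi.smul_apply, hu a j, ← smul_eq_mul, map_smul]
  choose s hs1 hs2 using fun a => hc (v a) ⟨u a, hvu a⟩
  have hfin : ∀ j N, {a | s a j ∉ I ^ N}.Finite := by
    intro j N
    have h1 : (⋃ i : Fin n, {a | v a i ∉ I ^ (N + c)}).Finite :=
      Set.finite_iUnion fun i => finite_of_coord (x := x i) (fun a => hv a i) _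
    refine h1.subset ?_
    intro a ha
    by_contra hcon
    simp only [Set.mem_iUnion, Set.mem_ofPred_eq, not_exists, not_not] at hcon
    exact ha (hs2 a N hcon j)
  choose z hz using fun j => exists_of_finite (fun a => s a j) (hfin j)
  refine ⟨z, fun i => ext_coord fun a => ?_⟩
  rw [hv a i, hs1 a i, map_sum, map_sum]
  refine Finset.sum_congr rfl fun j _ => ?_
  rw [map_smul, hz j a, ← smul_eq_mul, map_smul]

end Groth.Agent.S2124
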