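import Groth.Statements.S2125
import Groth.Agent.Hensel.Exist
import Groth.Agent.Hensel.EtaleNbhd
import Groth.Agent.S0509
import Mathlib.RingTheory.Ideal.GoingDown
import Mathlib.RingTheory.Ideal.GoingUp
import Mathlib.RingTheory.Flat.Stability

set_option autoImplicit false
universe u
open CAlg

namespace Groth.Agent.S2125

section lemmas

open TensorProduct

/-- flat (going down) algebras: minimal primes contract to minimal primes. -/
theorem comap_mem_minimalPrimes {R S : Type u} [CommRing R] [CommRing S] [Algebra R S]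
    [Module.Flat R S] {P : Ideal S} (hP : P ∈ minimalPrimes S) :
    P.comap (algebraMap R S) ∈ minimalPrimes R := by
  have hPp : P.IsPrime := hP.1.1
  have hq : (P.comap (algebraMap R S)).IsPrime := Ideal.comap_isPrime _ _
  refine ⟨⟨hq, bot_le⟩, ?_⟩
  rintro p ⟨hp, -⟩ hle
  have : P.LiesOver (P.comap (algebraMap R S)) := ⟨rfl⟩
  obtain ⟨P', hP', hP'p, hover⟩ := Ideal.exists_ideal_le_liesOver_of_le (R := R) P hle
  have h1 : P' = P := le_antisymm hP' (hP.2 ⟨hP'p, bot_le⟩ hP')
  have h2 : p = P'.comap (algebraMap R S) := hover.over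
  rw [h2, h1]

/-- If a prime `p` of a ring with finitely many minimal primes contains no element which is regular modulo the
nilradical, then `p` is minimal. -/
theorem mem_minimalPrimes_of_forall_notMem {A : Type u} [CommRing A] (hfin : (minimalPrimes A).Finite)
    (p : Ideal A) [hp : p.IsPrime]
    (h : ∀ s : A, Ideal.Quotient.mk (nilradical A) s ∈ nonZeroDivisors (CAlg2.red A) → s ∉ p) :
    p ∈ minimalPrimes A := by
  classical
  by_contra hn
  have key : ¬ ((p : Set A) ⊆ ⋃ i ∈ (↑hfin.toFinset : Set (Ideal A)), (i : Set A)) := by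
    intro hsub
    have := (Ideal.subset_union_prime (R := A) (s := hfin.toFinset) (f := fun i => i) ⊥ ⊥
      (fun i hi _ _ => ((hfin.mem_toFinset.1 hi).1.1 : i.IsPrime)) (I := p)).1 hsub
    obtain ⟨i, hi, hle⟩ := this
    have hi' := hfin.mem_toFinset.1 hi
    have : i ≤ p := hi'.2 ⟨hp, bot_le⟩ hle
    exact hn ((le_antisymm hle this) ▸ hi')
  rw [Set.not_subset] at key
  obtain ⟨s, hsp, hs⟩ := key
  refine h s ?_ hsp
  rw [mem_nonZeroDivisors_iff_right]
  intro x hx
  obtain ⟨t, rfl⟩ := Ideal.Quotient.mk_surjective x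
  rw [← map_mul, Ideal.Quotient.eq_zero_iff_mem] at hx
  rw [Ideal.Quotient.eq_zero_iff_mem]
  have hnil : nilradical A = sInf (minimalPrimes A) := by
    rw [minimalPrimes, Ideal.sInf_minimalPrimes]; rfl
  rw [hnil, Ideal.mem_sInf] at hx ⊢
  intro q hq
  have hqp : q.IsPrime := hq.1.1
  rcases hqp.mem_or_mem (hx hq) with h1 | h1
  · exact h1
  · exact absurd (Set.mem_biUnion (hfin.mem_toFinset.2 hq) h1) hs

/-- Abstract form. -/
theorem bijOn_of {A A' Ah : Type u} [CommRing A] [CommRing A'] [CommRing Ah] [Algebra A A'] [Algebra A Ah]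
    [Algebra.IsIntegral A A'] [Module.Flat A Ah]
    (hinc : ∀ (P Q : Ideal Ah) [P.IsPrime] [Q.IsPrime], P ≤ Q →
      P.comap (algebraMap A Ah) = Q.comap (algebraMap A Ah) → P = Q)
    (S : Submonoid A) (hS : ∀ s ∈ S, algebraMap A A' s ∈ nonZeroDivisors A')
    (hmin : ∀ (p : Ideal A) [p.IsPrime], (∀ s ∈ S, s ∉ p) → p ∈ minimalPrimes A)
    (hden : ∀ a : A', ∃ s ∈ S, ∃ r : A, algebraMap A A' s * a = algebraMap A A' r)
    (hker : ∀ x ∈ RingHom.ker (Algebra.TensorProduct.includeRight.toRingHom : Ah →+* A' ⊗[A] Ah), IsNilpotent x) :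
    Set.BijOn (fun P : Ideal (A' ⊗[A] Ah) =>
        P.comap (Algebra.TensorProduct.includeRight.toRingHom : Ah →+* A' ⊗[A] Ah))
      (minimalPrimes (A' ⊗[A] Ah)) (minimalPrimes Ah) := by
  -- the minimal primes of the tensor product meet `A` in a set disjoint from `S`
  have hdisj : ∀ P : Ideal (A' ⊗[A] Ah), P ∈ minimalPrimes (A' ⊗[A] Ah) → ∀ s ∈ S,
      algebraMap A (A' ⊗[A] Ah) s ∉ P := by
    intro P hP s hs hmem
    have h1 := comap_mem_minimalPrimes (R := A') hP
    have h2 : algebraMap A A' s ∈ P.comap (algebraMap A' (A' ⊗[A] Ah)) := by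
      rw [Ideal.mem_comap, ← IsScalarTower.algebraMap_apply A A' (A' ⊗[A] Ah)]; exact hmem
    exact (Ideal.disjoint_nonZeroDivisors_of_mem_minimalPrimes h1).le_bot ⟨h2, hS s hs⟩
  have hcomm : ∀ r : A, (Algebra.TensorProduct.includeRight.toRingHom : Ah →+* A' ⊗[A] Ah) (algebraMap A Ah r) =
      algebraMap A (A' ⊗[A] Ah) r := fun r => (Algebra.TensorProduct.includeRight : Ah →ₐ[A] A' ⊗[A] Ah).commutes r
  -- prime over a minimal prime is minimal
  have hminAh : ∀ (P : Ideal Ah) [P.IsPrime], P.comap (algebraMap A Ah) ∈ minimalPrimes A → P ∈ minimalPrimes Ah := by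
    intro P hP h
    refine ⟨⟨hP, bot_le⟩, ?_⟩
    rintro Q ⟨hQ, -⟩ hle
    have h1 : Q.comap (algebraMap A Ah) ≤ P.comap (algebraMap A Ah) := Ideal.comap_mono hle
    have h2 : P.comap (algebraMap A Ah) ≤ Q.comap (algebraMap A Ah) :=
      h.2 ⟨Ideal.comap_isPrime _ _, bot_le⟩ h1
    rw [hinc Q P hle (le_antisymm h1 h2)]
  letI : Algebra Ah (A' ⊗[A] Ah) := Algebra.TensorProduct.rightAlgebra
  have hint : Algebra.IsIntegral Ah (A' ⊗[A] Ah) := by
    constructor
    intro b
    induction b using TensorProduct.induction_on with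
    | zero => exact isIntegral_zero
    | add x y hx hy => exact hx.add hy
    | tmul a x =>
      have h1 : a ⊗ₜ[A] x = (a ⊗ₜ[A] (1 : Ah)) * algebraMap Ah (A' ⊗[A] Ah) x := by
        change _ = (a ⊗ₜ[A] (1 : Ah)) * ((1 : A') ⊗ₜ[A] x)
        rw [Algebra.TensorProduct.tmul_mul_tmul, mul_one, one_mul]
      rw [h1]
      refine IsIntegral.mul ?_ isIntegral_algebraMap
      obtain ⟨f, hf, hfa⟩ := Algebra.IsIntegral.isIntegral (R := A) a
      refine ⟨f.map (algebraMap A Ah), hf.map _, ?_⟩
      rw [Polynomial.eval₂_map]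
      have h2 : (algebraMap Ah (A' ⊗[A] Ah)).comp (algebraMap A Ah) =
          (Algebra.TensorProduct.includeLeft : A' →ₐ[A] A' ⊗[A] Ah).toRingHom.comp (algebraMap A A') := by
        ext r
        have := (Algebra.TensorProduct.includeLeft : A' →ₐ[A] A' ⊗[A] Ah).commutes r
        exact (hcomm r).trans this.symm
      rw [h2]
      have h3 := Polynomial.hom_eval₂ f (algebraMap A A')
        (Algebra.TensorProduct.includeLeft : A' →ₐ[A] A' ⊗[A] Ah).toRingHom a
      have h4 : (Algebra.TensorProduct.includeLeft : A' →ₐ[A] A' ⊗[A] Ah).toRingHom a = a ⊗ₜ[A] (1 : Ah) := rfl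
      rw [h4] at h3
      rw [← h3, hfa, map_zero]
  have halg : (algebraMap Ah (A' ⊗[A] Ah)) =
    (Algebra.TensorProduct.includeRight.toRingHom : Ah →+* A' ⊗[A] Ah) := rfl
  refine ⟨?_, ?_, ?_⟩
  · intro P hP
    have hPp : P.IsPrime := hP.1.1
    have : (P.comap (Algebra.TensorProduct.includeRight.toRingHom : Ah →+* A' ⊗[A] Ah)).IsPrime :=
      Ideal.comap_isPrime _ _
    refine hminAh _ (hmin _ fun s hs hmem => hdisj P hP s hs ?_)
    rw [Ideal.mem_comap, Ideal.mem_comap, hcomm] at hmem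
    exact hmem
  · intro P₁ hP₁ P₂ hP₂ heq
    have key : ∀ P₁ P₂ : Ideal (A' ⊗[A] Ah), P₁ ∈ minimalPrimes (A' ⊗[A] Ah) → P₂ ∈ minimalPrimes (A' ⊗[A] Ah) →
        P₁.comap (Algebra.TensorProduct.includeRight.toRingHom : Ah →+* A' ⊗[A] Ah) =
          P₂.comap (Algebra.TensorProduct.includeRight.toRingHom : Ah →+* A' ⊗[A] Ah) → P₁ ≤ P₂ := by
      intro P₁ P₂ hP₁ hP₂ heq b hb
      have hP₂p : P₂.IsPrime := hP₂.1.1
      have hb' : ∃ s ∈ S, ∃ h : Ah, algebraMap A (A' ⊗[A] Ah) s * b =
          (Algebra.TensorProduct.includeRight.toRingHom : Ah →+* A' ⊗[A] Ah) h := by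
        clear hb
        induction b using TensorProduct.induction_on with
        | zero => exact ⟨1, S.one_mem, 0, by simp⟩
        | tmul a x =>
          obtain ⟨s, hs, r, hr⟩ := hden a
          refine ⟨s, hs, r • x, ?_⟩
          rw [Algebra.TensorProduct.algebraMap_apply, Algebra.TensorProduct.tmul_mul_tmul, hr]
          simp [Algebra.algebraMap_eq_smul_one, TensorProduct.smul_tmul]
        | add x y hx hy =>
          obtain ⟨s, hs, r, hr⟩ := hx
          obtain ⟨t, ht, q, hq⟩ := hy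
          refine ⟨s * t, S.mul_mem hs ht, algebraMap A Ah t * r + algebraMap A Ah s * q, ?_⟩
          rw [map_add, map_mul, map_mul, map_mul, hcomm, hcomm, ← hr, ← hq]
          ring
      obtain ⟨s, hs, h, hh⟩ := hb'
      have h1 : h ∈ P₁.comap (Algebra.TensorProduct.includeRight.toRingHom : Ah →+* A' ⊗[A] Ah) := by
        rw [Ideal.mem_comap, ← hh]; exact P₁.mul_mem_left _ hb
      rw [heq, Ideal.mem_comap, ← hh] at h1
      exact (hP₂p.mem_or_mem h1).resolve_left (hdisj P₂ hP₂ s hs)
    exact le_antisymm (key _ _ hP₁ hP₂ heq) (key _ _ hP₂ hP₁ heq.symm)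
  · intro P hP
    have hPp : P.IsPrime := hP.1.1
    obtain ⟨Q, -, hQ, hQP⟩ := Ideal.exists_ideal_over_prime_of_isIntegral (S := A' ⊗[A] Ah) P ⊥ (by
      intro x hx
      obtain ⟨n, hn⟩ := hker x hx
      exact hPp.mem_of_pow_mem n (hn ▸ P.zero_mem))
    refine ⟨Q, ⟨⟨hQ, bot_le⟩, ?_⟩, hQP⟩
    rintro Q' ⟨hQ', -⟩ hle
    have h1 : Q'.comap (algebraMap Ah (A' ⊗[A] Ah)) ≤ P := hQP ▸ Ideal.comap_mono hle
    have h2 : Q'.comap (algebraMap Ah (A' ⊗[A] Ah)) = P :=
      le_antisymm h1 (hP.2 ⟨Ideal.comap_isPrime _ _, bot_le⟩ h1)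
    intro x hx
    by_contra hxn
    have h3 := Ideal.comap_lt_comap_of_integral_mem_sdiff (R := Ah) hle ⟨hx, hxn⟩
      (Algebra.IsIntegral.isIntegral (R := Ah) x)
    rw [h2, hQP] at h3
    exact lt_irrefl _ h3

end lemmas

open TensorProduct in
/-- Stacks Tag 0C24 (2): let `A` be a local ring with finitely many minimal primes, `A'` the integral closure of `A_red` in its total ring of fractions and `A^h` the
henselization of `A`. Then contraction along `A^h → A' ⊗_A A^h` is a bijection from the minimal primes of `A' ⊗_A A^h` onto the minimal primes of `A^h`. -/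
theorem result {A Ah : Type u} [CommRing A] [IsLocalRing A]
    (hfin : (minimalPrimes A).Finite) [CommRing Ah] [IsLocalRing Ah] [Algebra A Ah] [IsLocalHom (algebraMap A Ah)]
    [Hensel.IsHenselization A Ah] :
    Set.BijOn (fun P : Ideal ((CAlg2.normRed A) ⊗[A] Ah) =>
        P.comap (Algebra.TensorProduct.includeRight.toRingHom :
          Ah →+* (CAlg2.normRed A) ⊗[A] Ah))
      (minimalPrimes ((CAlg2.normRed A) ⊗[A] Ah))
      (minimalPrimes Ah) := by
  have hff : Module.FaithfullyFlat A Ah := Groth.Agent.S0509.result A Ah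
  have hcov := (Groth.Agent.Hensel.Exist.isHull_of_isHenselization A Ah).exists_etale_finset
  have hmap : ∀ r : A, algebraMap A (CAlg2.normRed A) r =
      algebraMap (CAlg2.red A) (CAlg2.normRed A) (Ideal.Quotient.mk (nilradical A) r) := fun r => rfl
  have hnt : Nontrivial (CAlg2.red A) := by
    refine Ideal.Quotient.nontrivial_iff.2 ?_
    intro h
    have h1 : (1 : A) ∈ nilradical A := h ▸ Submodule.mem_top
    obtain ⟨n, hn⟩ := h1
    rw [one_pow] at hn
    exact one_ne_zero hn
  have hint : Algebra.IsIntegral A (CAlg2.normRed A) := by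
    constructor
    intro a
    have h1 : IsIntegral (CAlg2.red A) a := Algebra.IsIntegral.isIntegral a
    obtain ⟨f, hf, hfa⟩ := h1
    have hfl : f ∈ Polynomial.lifts (Ideal.Quotient.mk (nilradical A)) := by
      obtain ⟨g, hg⟩ := Polynomial.map_surjective (Ideal.Quotient.mk (nilradical A)) Ideal.Quotient.mk_surjective f
      exact ⟨g, hg⟩
    obtain ⟨g, hg, -, hgm⟩ := Polynomial.lifts_and_degree_eq_and_monic hfl hf
    refine ⟨g, hgm, ?_⟩
    rw [← hg, Polynomial.eval₂_map] at hfa
    exact hfa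
  have hinj : Function.Injective (algebraMap (CAlg2.red A) (CAlg2.normRed A)) := by
    have h1 : Function.Injective (algebraMap (CAlg2.red A) (FractionRing (CAlg2.red A))) :=
      IsFractionRing.injective _ _
    exact Function.Injective.of_comp (f := ((↑) : CAlg2.normRed A → FractionRing (CAlg2.red A))) h1
  refine bijOn_of (fun P Q _ _ hle h => Groth.Agent.Hensel.EtaleNbhd.eq_of_le_of_comap_eq hcov P Q hle h)
    ((nonZeroDivisors (CAlg2.red A)).comap (Ideal.Quotient.mk (nilradical A)).toMonoidHom) ?_ ?_ ?_ ?_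
  · intro s hs
    rw [hmap, mem_nonZeroDivisors_iff_right]
    intro x hx
    have h1 : IsUnit (algebraMap (CAlg2.red A) (FractionRing (CAlg2.red A)) (Ideal.Quotient.mk (nilradical A) s)) :=
      IsLocalization.map_units (M := nonZeroDivisors (CAlg2.red A)) (FractionRing (CAlg2.red A))
        ⟨Ideal.Quotient.mk (nilradical A) s, hs⟩
    have h2 : (x : FractionRing (CAlg2.red A)) *
        algebraMap (CAlg2.red A) (FractionRing (CAlg2.red A)) (Ideal.Quotient.mk (nilradical A) s) = 0 :=
      congrArg (fun y : CAlg2.normRed A => (y : FractionRing (CAlg2.red A))) hx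
    exact Subtype.ext ((h1.mul_left_eq_zero).1 h2)
  · intro p hp h
    exact mem_minimalPrimes_of_forall_notMem hfin p h
  · intro a
    obtain ⟨⟨r, s⟩, h⟩ := IsLocalization.surj (nonZeroDivisors (CAlg2.red A)) (a : FractionRing (CAlg2.red A))
    obtain ⟨r', hr'⟩ := Ideal.Quotient.mk_surjective r
    obtain ⟨s', hs'⟩ := Ideal.Quotient.mk_surjective (s : CAlg2.red A)
    refine ⟨s', ?_, r', ?_⟩
    · have h1 : Ideal.Quotient.mk (nilradical A) s' ∈ nonZeroDivisors (CAlg2.red A) := by
        rw [hs']; exact s.2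
      exact h1
    · rw [hmap, hmap, hs', hr', mul_comm]
      exact Subtype.ext h
  · intro x hx
    have h1 : ((1 : CAlg2.normRed A) ⊗ₜ[A] x : (CAlg2.normRed A) ⊗[A] Ah) = 0 := hx
    let i : CAlg2.red A →ₗ[A] CAlg2.normRed A :=
      (Algebra.linearMap (CAlg2.red A) (CAlg2.normRed A)).restrictScalars A
    have h2 : Function.Injective (LinearMap.rTensor Ah i) :=
      Module.Flat.rTensor_preserves_injective_linearMap i hinj
    have h3 : ((1 : CAlg2.red A) ⊗ₜ[A] x : (CAlg2.red A) ⊗[A] Ah) = 0 := by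
      apply h2
      rw [map_zero, LinearMap.rTensor_tmul]
      have : i 1 = 1 := map_one (algebraMap (CAlg2.red A) (CAlg2.normRed A))
      rw [this, h1]
    have h4 := congrArg (TensorProduct.quotTensorEquivQuotSMul Ah (nilradical A)) h3
    rw [map_zero] at h4
    have h5 : (Submodule.Quotient.mk x : Ah ⧸ (nilradical A • (⊤ : Submodule A Ah))) = 0 := by
      rw [← h4]
      have := TensorProduct.quotTensorEquivQuotSMul_mk_tmul (nilradical A) (1 : A) x
      rw [one_smul] at this
      exact this.symm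
    rw [Submodule.Quotient.mk_eq_zero] at h5
    have h6 : (nilradical A • (⊤ : Submodule A Ah)) ≤ (nilradical Ah).restrictScalars A := by
      rw [Submodule.smul_le]
      intro r hr y _
      rw [Algebra.smul_def]
      exact Ideal.mul_mem_right _ _ (by
        change IsNilpotent _
        exact IsNilpotent.map (show IsNilpotent r from hr) (algebraMap A Ah))
    exact h6 h5

end Groth.Agent.S2125
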