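import Groth.Statements.S2126
import Groth.Agent.Smoothlim.AmpleBasis

set_option autoImplicit false
universe u
open CategoryTheory AlgebraicGeometry
open Mor

namespace Groth.Agent.S2126

open Groth.Agent.Ega4dA.GenSec Groth.Agent.Smoothlim.PowSec Groth.Agent.Smoothlim.PowGlue
  Groth.Agent.Smoothlim.AmpleBasis

/-- Stacks Tag 01Q3, (1) iff (3): let `X` be a quasi-compact scheme and `L` an invertible `O_X`-module. Then `L` is ample if and only if the opens `X_s`, for `s` a
global section of some positive tensor power of `L`, form a basis for the topology of `X`. -/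
theorem result {X : Scheme.{u}} [CompactSpace X] (L : X.Modules) (hL : PicF.IsInvertible L) :
    CohB1.IsAmple L ↔
      TopologicalSpace.Opens.IsBasis
        {U : X.Opens | ∃ (n : ℕ) (s : Coh.structureModule X ⟶ CohB1.tensorPow L (n + 1)), U = CohB1.genLocus _ s} := by
  constructor
  · intro hA
    obtain ⟨ι, hι, D, hD, s, haff, hcov⟩ := exists_common hA
    rw [TopologicalSpace.Opens.isBasis_iff_nbhd]
    intro W x hxW
    obtain ⟨i, hi⟩ := hcov x
    obtain ⟨f, hf, hxf⟩ := (haff i).exists_basicOpen_le ⟨x, hxW⟩ hi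
    obtain ⟨n, hn, t, ht⟩ := exists_section_gl_eq hL hD s haff hcov i f
    obtain ⟨n, rfl⟩ := Nat.exists_eq_succ_of_ne_zero hn
    exact ⟨X.basicOpen f, ⟨n, homOfSec _ t, ht.symm⟩, hxf, hf⟩
  · intro hB
    refine ⟨hL, inferInstance, fun x => ?_⟩
    obtain ⟨V, hxV, e, he⟩ := isInvertible_iff.mp hL x
    obtain ⟨U, hU, hxU, hUV⟩ := exists_isAffineOpen_mem_and_subset (U := V) hxV
    obtain ⟨_, ⟨n, s, rfl⟩, hxs, hsU⟩ := TopologicalSpace.Opens.isBasis_iff_nbhd.mp hB
      (show x ∈ U from hxU)
    refine ⟨n, s, hxs, ?_⟩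
    have he' := isGen_powSec (he.mono (show U ≤ V from hUV)) (n + 1)
    obtain ⟨a, ha⟩ := he'.exists_eq' (res _ le_top (sec s))
    have := genLocus_inf_eq_basicOpen s he' a ha
    rw [inf_eq_left.mpr hsU] at this
    rw [this]
    exact hU.basicOpen a

end Groth.Agent.S2126
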