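import Groth.Statements.S2127
import Groth.Agent.Smoothlim.LineSec

set_option autoImplicit false
universe u
open CategoryTheory AlgebraicGeometry
open Mor

namespace Groth.Agent.S2127

open Groth.Agent.Smoothlim.LineSec TopologicalSpace

theorem exists_basicOpen {X : Scheme.{u}} [X.IsQuasiAffine] (W : X.Opens) (E : Set X)
    (hE : E.Finite) (hEW : E ⊆ W) :
    ∃ f : Γ(X, ⊤), IsAffineOpen (X.basicOpen f) ∧ E ⊆ X.basicOpen f ∧ X.basicOpen f ≤ W := by
  have hcl : IsClosed ((X.toSpecΓ ''ᵁ W : Set (Spec Γ(X, ⊤)))ᶜ) := (X.toSpecΓ ''ᵁ W).isOpen.isClosed_compl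
  obtain ⟨I, hI⟩ := (PrimeSpectrum.isClosed_iff_zeroLocus_ideal _).mp hcl
  have hx : ∀ x ∈ E, ¬ I ≤ (X.toSpecΓ x).asIdeal := by
    intro x hx hle
    have h1 : X.toSpecΓ x ∈ PrimeSpectrum.zeroLocus (I : Set Γ(X, ⊤)) := hle
    rw [← hI] at h1
    exact h1 ⟨x, hEW hx, rfl⟩
  obtain ⟨f, hfI, hf⟩ : ∃ f ∈ I, ∀ x ∈ E, f ∉ (X.toSpecΓ x).asIdeal := by
    lift E to Finset X using hE
    by_contra hcon
    push Not at hcon
    have h2 : (I : Set Γ(X, ⊤)) ⊆ ⋃ x ∈ (E : Set X), ((X.toSpecΓ x).asIdeal : Set Γ(X, ⊤)) := by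
      intro g hg
      obtain ⟨x, hx, hxg⟩ := hcon g hg
      exact Set.mem_iUnion₂.mpr ⟨x, hx, hxg⟩
    rcases E.eq_empty_or_nonempty with rfl | ⟨x0, hx0⟩
    · obtain ⟨x, hx, _⟩ := hcon 0 I.zero_mem
      simp at hx
    rw [Ideal.subset_union_prime x0 x0 (fun i _ _ _ => (X.toSpecΓ i).isPrime)] at h2
    obtain ⟨x, hxE, hle⟩ := h2
    exact hx x hxE hle
  have hfW : (PrimeSpectrum.basicOpen f : Set (PrimeSpectrum Γ(X, ⊤))) ⊆ (X.toSpecΓ ''ᵁ W : Set (Spec Γ(X, ⊤))) := by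
    intro p hp
    by_contra hcon
    have h1 : p ∈ PrimeSpectrum.zeroLocus (I : Set Γ(X, ⊤)) := by
      rw [← hI]; exact hcon
    exact hp (h1 hfI)
  refine ⟨f, ?_, ?_, ?_⟩
  · rw [← X.toSpecΓ_preimage_basicOpen]
    rw [← Scheme.Hom.isAffineOpen_iff_of_isOpenImmersion X.toSpecΓ]
    convert! IsAffineOpen.Spec_basicOpen f
    exact SetLike.coe_injective (Set.image_preimage_eq_of_subset
      (hfW.trans (Set.image_subset_range _ _)))
  · intro x hx
    rw [← X.toSpecΓ_preimage_basicOpen]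
    exact hf x hx
  · rw [← X.toSpecΓ_preimage_basicOpen]
    exact (Set.preimage_mono hfW).trans_eq
      (Set.preimage_image_eq _ X.toSpecΓ.isEmbedding.injective)

/-- Stacks Tag 0F20: let `X` be a quasi-affine scheme, `L` an invertible `O_X`-module, `W ⊆ X` open and `E ⊆ W` finite. Then there is a global section `s` of `L` with `X_s`
affine and `E ⊆ X_s ⊆ W`. -/
theorem result {X : Scheme.{u}} [X.IsQuasiAffine] (L : X.Modules) (hL : PicF.IsInvertible L)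
    (W : X.Opens) (E : Set X) (hE : E.Finite) (hEW : E ⊆ W) :
    ∃ s : Coh.structureModule X ⟶ L, IsAffineOpen (CohB1.genLocus L s) ∧ E ⊆ CohB1.genLocus L s ∧
      CohB1.genLocus L s ≤ W := by
  obtain ⟨f, hfa, hfE, hfW⟩ := exists_basicOpen W E hE hEW
  obtain ⟨m, hm⟩ := exists_genAt_finite hL hfa E hE (fun x hx => hfE hx)
  obtain ⟨n, t, ht⟩ := exists_extend hL (V := ⊤) isCompact_univ isQuasiSeparated_univ f m
  refine ⟨toHom (f • t), ?_⟩
  rw [genLocus_eq, ofHom_toHom, genOpen_smul hL]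
  refine ⟨isAffineOpen_genOpen_inf hL hfa t, ?_, inf_le_right.trans hfW⟩
  intro x hx
  refine ⟨?_, hfE hx⟩
  change x ∈ genOpen t
  rw [mem_genOpen_iff, ← GenAt.res_iff (X.basicOpen_le f) (hfE hx), ht,
    genAt_smul_iff hL _ _ (hfE hx)]
  refine ⟨?_, hm x hx⟩
  have hu : IsUnit (resO (X.basicOpen_le f) f ^ n) :=
    (RingedSpace.isUnit_res_basicOpen X.toRingedSpace f).pow n
  rw [X.basicOpen_of_isUnit hu]
  exact hfE hx

end Groth.Agent.S2127
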