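import Groth.Statements.S2128
import Groth.Agent.S2115
import Groth.Agent.Smoothlim.FilteredColim
import Groth.Agent.Smoothlim.FPSmall
import Groth.Agent.PerfA.QCohSerre

set_option autoImplicit false
universe u
open CategoryTheory AlgebraicGeometry
open Mor

namespace Groth.Agent.S2128

open Groth.Agent.Fdesc Groth.Agent.Fdesc.LocGen Groth.Agent.Smoothlim

theorem exists_affine {X : Scheme.{u}} (U : X.Opens) (x : X) (hx : x ∈ U) :
    ∃ V : X.Opens, IsAffineOpen V ∧ x ∈ V ∧ V ≤ U := by
  obtain ⟨_, ⟨V, hV, rfl⟩, hxV, hVU⟩ := X.isBasis_affineOpens.exists_subset_of_mem_open hx U.isOpen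
  exact ⟨V, hV, hxV, hVU⟩

/-- every section of a quasi-coherent module is locally in the image of a finitely presented one -/
theorem exists_fp_lift {X : Scheme.{u}} [CompactSpace X] [QuasiSeparatedSpace X] (F : X.Modules)
    (hF : Coh.IsQCoh F) (U : X.Opens) (s : Γ(F, U)) (x : X) (hx : x ∈ U) :
    ∃ (V : X.Opens) (h : V ≤ U), x ∈ V ∧ ∃ (G : X.Modules) (_ : CohB1.IsFP G) (φ : G ⟶ F)
      (g : Γ(G, V)), φ.app V g = res F h s := by
  obtain ⟨V, hV, hxV, hVU⟩ := exists_affine U x hx
  let φ : Coh.structureModule V ⟶ F.restrict V.ι :=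
    homOf (M := F.restrict V.ι) (res F ((V.ι_image_le ⊤).trans hVU) s : Γ(F, V.ι ''ᵁ ⊤))
  obtain ⟨G', φ', e, hG', he⟩ := S2115.result X F hF V hV.isCompact (Coh.structureModule V)
    FPMod.isFP_unit φ
  refine ⟨V.ι ''ᵁ ⊤, (V.ι_image_le ⊤).trans hVU, by simpa using hxV, G', hG', φ',
    (sec e.inv ⊤ : Γ(G'.restrict V.ι, ⊤)), ?_⟩
  change ((Scheme.Modules.restrictFunctor V.ι).map φ').app ⊤ (sec e.inv ⊤) = _
  rw [← he]
  have h1 : (e.hom ≫ φ).app ⊤ (sec e.inv ⊤) = sec (e.inv ≫ e.hom ≫ φ) ⊤ := rfl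
  rw [h1, e.inv_hom_id_assoc, sec_homOf]
  exact res_refl _ _

section Index

variable {X : Scheme.{u}} {J : Type u} (obj : J → X.Modules) (F : X.Modules)

/-- the index category: the modules of the family over `F` -/
def Idx : Type u := Σ j : J, (obj j ⟶ F)

instance : SmallCategory (Idx obj F) where
  Hom a b := {f : obj a.1 ⟶ obj b.1 // f ≫ b.2 = a.2}
  id a := ⟨𝟙 _, Category.id_comp _⟩
  comp f g := ⟨f.1 ≫ g.1, by rw [Category.assoc, g.2, f.2]⟩
  id_comp f := Subtype.ext (Category.id_comp _)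
  comp_id f := Subtype.ext (Category.comp_id _)
  assoc f g h := Subtype.ext (Category.assoc _ _ _)

/-- the tautological diagram -/
def diag : Idx obj F ⥤ X.Modules where
  obj a := obj a.1
  map f := f.1
  map_id _ := rfl
  map_comp _ _ := rfl

/-- the tautological cocone -/
def cocone : Limits.Cocone (diag obj F) where
  pt := F
  ι := { app := fun a => a.2
         naturality := fun _ _ f => f.2.trans (Category.comp_id _).symm }

end Index

/-- Stacks Tag 01PJ: let `X` be quasi-compact and quasi-separated and `F` a quasi-coherent `O_X`-module. Then `F` is the colimit of a filtered diagram of finitely presented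
`O_X`-modules: there are a small filtered category `I`, a diagram of finitely presented modules and a colimit cocone with vertex `F`. -/
theorem result (X : Scheme.{u}) [CompactSpace X] [QuasiSeparatedSpace X] (F : X.Modules)
    (hF : Coh.IsQCoh F) :
    ∃ (I : Type u) (_ : SmallCategory I) (_ : IsFiltered I) (D : I ⥤ X.Modules) (c : Limits.Cocone D)
      (_ : Limits.IsColimit c), (∀ i, CohB1.IsFP (D.obj i)) ∧ c.pt = F := by
  obtain ⟨J, obj, hobj, hrep⟩ := FPSmall.exists_small_isFP X
  -- every f.p. module over F is isomorphic to one of the index category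
  have key : ∀ (G : X.Modules) (_ : CohB1.IsFP G) (p : G ⟶ F), ∃ (k : Idx obj F) (e : obj k.1 ≅ G),
      k.2 = e.hom ≫ p := by
    intro G hG p
    obtain ⟨j, ⟨e⟩⟩ := hrep G hG
    exact ⟨⟨j, e.hom ≫ p⟩, e, rfl⟩
  have hfilt : IsFiltered (Idx obj F) := by
    have : IsFilteredOrEmpty (Idx obj F) := by
      constructor
      · intro a b
        obtain ⟨k, e, hk⟩ := key _ (FPMod.isFP_coprod (hobj a.1) (hobj b.1))
          (Limits.coprod.desc a.2 b.2)
        refine ⟨k, ⟨Limits.coprod.inl ≫ e.inv, ?_⟩, ⟨Limits.coprod.inr ≫ e.inv, ?_⟩, trivial⟩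
        · rw [hk, Category.assoc, e.inv_hom_id_assoc]
          exact Limits.coprod.inl_desc _ _
        · rw [hk, Category.assoc, e.inv_hom_id_assoc]
          exact Limits.coprod.inr_desc _ _
      · intro a b f g
        obtain ⟨k, e, hk⟩ := key _ (FPMod.isFP_cokernel (f.1 - g.1) (hobj a.1) (hobj b.1))
          (Limits.cokernel.desc (f.1 - g.1) b.2 (by
            rw [Preadditive.sub_comp, f.2, g.2, sub_self]))
        refine ⟨k, ⟨Limits.cokernel.π (f.1 - g.1) ≫ e.inv, ?_⟩, ?_⟩
        · rw [hk]; simp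
        · apply Subtype.ext
          change f.1 ≫ Limits.cokernel.π (f.1 - g.1) ≫ e.inv = g.1 ≫ Limits.cokernel.π (f.1 - g.1) ≫ e.inv
          rw [← sub_eq_zero, ← Preadditive.sub_comp, Limits.cokernel.condition_assoc,
            Limits.zero_comp]
    obtain ⟨k, -, -⟩ := key _ (FPMod.isFP_unit) (0 : Coh.structureModule X ⟶ F)
    exact { nonempty := ⟨k⟩ }
  have hsurj : FilteredColim.LocSurj (cocone obj F) := by
    intro U s x hx
    obtain ⟨V, hV, hxV, G, hG, φ, g, hg⟩ := exists_fp_lift F hF U s x hx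
    obtain ⟨k, e, hk⟩ := key G hG φ
    refine ⟨V, hV, hxV, k, e.inv.app V g, ?_⟩
    change k.2.app V (e.inv.app V g) = _
    rw [hk]
    change (e.inv ≫ e.hom ≫ φ).app V g = _
    rw [e.inv_hom_id_assoc]
    exact hg
  have hinj : FilteredColim.LocInj (cocone obj F) := by
    intro j U g hg x hx
    let p : obj j.1 ⟶ F := j.2
    replace hg : p.app U g = 0 := hg
    have hqj : Coh.IsQCoh (obj j.1) := by
      have : SheafOfModules.IsFinitePresentation (R := X.ringCatSheaf) (obj j.1) := hobj j.1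
      infer_instance
    have hK : Coh.IsQCoh (Limits.kernel p) := PerfA.QCohSerre.isQCoh_kernel p hqj hF
    obtain ⟨k, hk⟩ : ∃ k : Γ(Limits.kernel p, U), (Limits.kernel.ι p).app U k = g := by
      have hex := CohqB.FiniteType2.sections_exact
        (ShortComplex.mk (Limits.kernel.ι p) p (Limits.kernel.condition p))
        (ShortComplex.exact_kernel p) (hm := inferInstanceAs (Mono (Limits.kernel.ι p))) U
      exact (hex g).1 hg
    obtain ⟨V, hV, hxV, H, hH, ψ, h, hh⟩ := exists_fp_lift (Limits.kernel p) hK U k x hx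
    obtain ⟨k', e, hk'⟩ := key _ (FPMod.isFP_cokernel (ψ ≫ Limits.kernel.ι p) hH (hobj j.1))
      (Limits.cokernel.desc (ψ ≫ Limits.kernel.ι p) p (by simp))
    refine ⟨V, hV, hxV, k', ⟨Limits.cokernel.π (ψ ≫ Limits.kernel.ι p) ≫ e.inv, ?_⟩, ?_⟩
    · rw [hk']; simp [p]
    · change (Limits.cokernel.π (ψ ≫ Limits.kernel.ι p) ≫ e.inv).app V (res (obj j.1) hV g) = 0
      rw [← hk, ← app_res, ← hh]
      change (ψ ≫ Limits.kernel.ι p ≫ Limits.cokernel.π (ψ ≫ Limits.kernel.ι p) ≫ e.inv).app V h = 0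
      have h0 : ψ ≫ Limits.kernel.ι p ≫ Limits.cokernel.π (ψ ≫ Limits.kernel.ι p) ≫ e.inv = 0 := by
        rw [← Category.assoc, Limits.cokernel.condition_assoc, Limits.zero_comp]
      rw [h0]
      rfl
  obtain ⟨hc⟩ := FilteredColim.nonempty_isColimit hsurj hinj
  exact ⟨Idx obj F, inferInstance, hfilt, diag obj F, cocone obj F, hc, fun i => hobj i.1, rfl⟩

end Groth.Agent.S2128
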