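import Groth.Statements.S2129
import Groth.Agent.CalgC.Branches
import Groth.Agent.Hensel.HenselPerm

set_option autoImplicit false
universe u
open CAlg

namespace Groth.Agent.S2129

open Groth.Agent.CalgC.IndEtale

set_option linter.all false in
/-- Stacks Tag 0DQ1 (1): let `R → S` be a smooth ring map, `𝔮` a prime of `S` over `𝔭`, and `A = R_𝔭 → B = S_𝔮` the induced local homomorphism. Then strict henselizations of
`A` and `B` have the same number of minimal prime ideals (the same number of geometric branches, counted in ℕ∞, infinite counting as ∞). -/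
theorem result {R S Ash Bsh : Type u} [CommRing R] [CommRing S] [Algebra R S]
    [Algebra.Smooth R S] (q : Ideal S) [q.IsPrime] (p : Ideal R) [p.IsPrime] [q.LiesOver p]
    [CommRing Ash] [IsLocalRing Ash] [Algebra (Localization.AtPrime p) Ash]
    [IsLocalHom (algebraMap (Localization.AtPrime p) Ash)] [Hensel.IsStrictHenselization (Localization.AtPrime p) Ash]
    [CommRing Bsh] [IsLocalRing Bsh] [Algebra (Localization.AtPrime q) Bsh]
    [IsLocalHom (algebraMap (Localization.AtPrime q) Bsh)] [Hensel.IsStrictHenselization (Localization.AtPrime q) Bsh] :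
    (minimalPrimes Ash).encard = (minimalPrimes Bsh).encard := by
  let A0 := Localization.AtPrime p
  let B0 := Localization.AtPrime q
  haveI : HenselianLocalRing Ash := Hensel.IsStrictHenselization.henselian (R := A0)
  haveI : HenselianLocalRing Bsh := Hensel.IsStrictHenselization.henselian (R := B0)
  haveI hA : IsSepClosure (IsLocalRing.ResidueField A0) (IsLocalRing.ResidueField Ash) :=
    Hensel.IsStrictHenselization.isSepClosure
  haveI hB : IsSepClosure (IsLocalRing.ResidueField B0) (IsLocalRing.ResidueField Bsh) :=
    Hensel.IsStrictHenselization.isSepClosure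
  haveI : IsSepClosed (IsLocalRing.ResidueField Ash) := hA.sep_closed
  haveI : IsSepClosed (IsLocalRing.ResidueField Bsh) := hB.sep_closed
  let φ0 : A0 →+* B0 := Localization.localRingHom p q (algebraMap R S) (q.over_def p)
  haveI : IsLocalHom φ0 := Localization.isLocalHom_localRingHom _ _ _ _
  let f : A0 →+* Bsh := (algebraMap B0 Bsh).comp φ0
  haveI : IsLocalHom f := RingHom.isLocalHom_comp _ _
  -- the map on residue fields
  obtain ⟨τ, hτ⟩ : ∃ τ : IsLocalRing.ResidueField Ash →+* IsLocalRing.ResidueField Bsh,
      τ.comp (IsLocalRing.ResidueField.map (algebraMap A0 Ash)) = IsLocalRing.ResidueField.map f := by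
    letI : Algebra (IsLocalRing.ResidueField A0) (IsLocalRing.ResidueField Bsh) :=
      (IsLocalRing.ResidueField.map f).toAlgebra
    haveI : Algebra.IsSeparable (IsLocalRing.ResidueField A0) (IsLocalRing.ResidueField Ash) :=
      hA.separable
    let τ' : IsLocalRing.ResidueField Ash →ₐ[IsLocalRing.ResidueField A0] IsLocalRing.ResidueField Bsh :=
      IsSepClosed.lift
    exact ⟨τ'.toRingHom, RingHom.ext fun x => τ'.commutes x⟩
  obtain ⟨g, ⟨hg1, hg2⟩, -⟩ := Hensel.IsStrictHenselization.universal (R := A0) (S := Ash) Bsh f τ hτ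
  letI : Algebra Ash Bsh := g.toAlgebra
  haveI : IsLocalHom (algebraMap Ash Bsh) := by
    refine ⟨fun x hx => ?_⟩
    have h1 : IsLocalRing.residue Bsh (g x) ≠ 0 := by
      rw [Ne, IsLocalRing.residue_eq_zero_iff]
      exact fun h => h hx
    rw [hg2] at h1
    by_contra h2
    apply h1
    rw [(IsLocalRing.residue_eq_zero_iff x).2 h2, map_zero]
  -- the algebra structures over `R`
  letI : Algebra R Ash := ((algebraMap A0 Ash).comp (algebraMap R A0)).toAlgebra
  haveI : IsScalarTower R A0 Ash := IsScalarTower.of_algebraMap_eq fun _ => rfl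
  letI : Algebra S Bsh := ((algebraMap B0 Bsh).comp (algebraMap S B0)).toAlgebra
  haveI : IsScalarTower S B0 Bsh := IsScalarTower.of_algebraMap_eq fun _ => rfl
  letI : Algebra R Bsh := ((algebraMap S Bsh).comp (algebraMap R S)).toAlgebra
  haveI : IsScalarTower R S Bsh := IsScalarTower.of_algebraMap_eq fun _ => rfl
  haveI : IsScalarTower R Ash Bsh := IsScalarTower.of_algebraMap_eq fun r => by
    show algebraMap B0 Bsh (algebraMap S B0 (algebraMap R S r)) =
      g (algebraMap A0 Ash (algebraMap R A0 r))
    have h1 : g (algebraMap A0 Ash (algebraMap R A0 r)) = f (algebraMap R A0 r) :=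
      DFunLike.congr_fun hg1 _
    rw [h1]
    show _ = algebraMap B0 Bsh (Localization.localRingHom p q (algebraMap R S) (q.over_def p) (algebraMap R A0 r))
    rw [Localization.localRingHom_to_map]
  have hRA : IsIndEtale R Ash := by
    have h1 : IsIndEtale A0 Ash := Groth.Agent.Hensel.HenselPerm.lazardEtale_of_isStrictHenselization A0 Ash
    exact IsInd.comp isGood_etale (isIndEtale_of_isLocalization p.primeCompl A0) h1
  have hRB : IsIndSmooth R Bsh := by
    have h1 : IsIndEtale B0 Bsh := Groth.Agent.Hensel.HenselPerm.lazardEtale_of_isStrictHenselization B0 Bsh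
    have h2 : IsIndEtale S Bsh := IsInd.comp isGood_etale (isIndEtale_of_isLocalization q.primeCompl B0) h1
    exact IsInd.comp isGood_smooth (IsInd.of_self (A := R) (C := S) (inferInstanceAs (Algebra.Smooth R S)))
      (IsInd.of_isIndEtale isGood_smooth h2)
  have hAB : IsIndSmooth Ash Bsh := IsInd.cancel isGood_smooth hRA hRB
  exact Groth.Agent.CalgC.Branches.encard_minimalPrimes_eq hAB (Or.inl inferInstance)

end Groth.Agent.S2129
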