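import Groth.Statements.S2130
import Groth.Agent.CalgC.Branches
import Groth.Agent.Hensel.HenselPerm
import Groth.Agent.Hensel.Exist

set_option autoImplicit false
universe u
open CAlg

namespace Groth.Agent.S2130

open Groth.Agent.CalgC.IndEtale

/-- transport of pure inseparability along a commutative square whose vertical maps are bijective -/
theorem isPurelyInseparable_of_square {k K k' K' : Type*} [Field k] [Field K] [Field k'] [Field K']
    [Algebra k K] [Algebra k' K'] (a : k →+* k') (b : K →+* K')
    (hb : Function.Surjective b)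
    (h : (algebraMap k' K').comp a = b.comp (algebraMap k K)) [IsPurelyInseparable k K] :
    IsPurelyInseparable k' K' := by
  obtain ⟨p, hp⟩ := ExpChar.exists k
  haveI := hp
  haveI : ExpChar k' p := expChar_of_injective_ringHom a.injective p
  rw [isPurelyInseparable_iff_pow_mem k' p]
  intro x
  obtain ⟨y, rfl⟩ := hb x
  obtain ⟨n, z, hz⟩ := (isPurelyInseparable_iff_pow_mem k p).1 inferInstance y
  refine ⟨n, a z, ?_⟩
  rw [← map_pow, ← hz]
  exact DFunLike.congr_fun h z

set_option linter.all false in
/-- Stacks Tag 0DQ1 (2): let `R → S` be smooth, `𝔮` a prime of `S` over `𝔭` with `κ(𝔮)/κ(𝔭)` purely inseparable, and `A = R_𝔭 → B = S_𝔮`. Then henselizations of `A` and `B` have the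
same number of minimal prime ideals (the same number of branches). -/
theorem result {R S Ah Bh : Type u} [CommRing R] [CommRing S]
    [Algebra R S] [Algebra.Smooth R S] (q : Ideal S) [q.IsPrime] (p : Ideal R) [p.IsPrime] [q.LiesOver p]
    (hpi : @IsPurelyInseparable p.ResidueField q.ResidueField _ _
      (Ideal.ResidueField.mapₐ p q (Algebra.ofId R S) (q.over_def p)).toRingHom.toAlgebra)
    [CommRing Ah] [IsLocalRing Ah] [Algebra (Localization.AtPrime p) Ah]
    [IsLocalHom (algebraMap (Localization.AtPrime p) Ah)] [Hensel.IsHenselization (Localization.AtPrime p) Ah]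
    [CommRing Bh] [IsLocalRing Bh] [Algebra (Localization.AtPrime q) Bh]
    [IsLocalHom (algebraMap (Localization.AtPrime q) Bh)] [Hensel.IsHenselization (Localization.AtPrime q) Bh] :
    (minimalPrimes Ah).encard = (minimalPrimes Bh).encard := by
  let A0 := Localization.AtPrime p
  let B0 := Localization.AtPrime q
  haveI : HenselianLocalRing Ah := Hensel.IsHenselization.henselian (R := A0)
  haveI : HenselianLocalRing Bh := Hensel.IsHenselization.henselian (R := B0)
  let φ0 : A0 →+* B0 := Localization.localRingHom p q (algebraMap R S) (q.over_def p)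
  haveI : IsLocalHom φ0 := Localization.isLocalHom_localRingHom _ _ _ _
  let f : A0 →+* Bh := (algebraMap B0 Bh).comp φ0
  haveI hf : IsLocalHom f := RingHom.isLocalHom_comp _ _
  obtain ⟨g, hg1, -⟩ := Hensel.IsHenselization.universal (R := A0) (S := Ah) Bh f hf
  letI : Algebra Ah Bh := g.toAlgebra
  haveI hgloc : IsLocalHom (algebraMap Ah Bh) := by
    have hle : (IsLocalRing.maximalIdeal Ah).map g ≤ IsLocalRing.maximalIdeal Bh := by
      have h1 := Groth.Agent.Hensel.Exist.map_maximalIdeal_of_isHenselization A0 Ah
      rw [← h1, Ideal.map_map, hg1]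
      exact ((IsLocalRing.local_hom_TFAE f).out 0 2).1 hf
    exact ((IsLocalRing.local_hom_TFAE g).out 0 2).2 hle
  -- the algebra structures over `R`
  letI : Algebra R Ah := ((algebraMap A0 Ah).comp (algebraMap R A0)).toAlgebra
  haveI : IsScalarTower R A0 Ah := IsScalarTower.of_algebraMap_eq fun _ => rfl
  letI : Algebra S Bh := ((algebraMap B0 Bh).comp (algebraMap S B0)).toAlgebra
  haveI : IsScalarTower S B0 Bh := IsScalarTower.of_algebraMap_eq fun _ => rfl
  letI : Algebra R Bh := ((algebraMap S Bh).comp (algebraMap R S)).toAlgebra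
  haveI : IsScalarTower R S Bh := IsScalarTower.of_algebraMap_eq fun _ => rfl
  haveI : IsScalarTower R Ah Bh := IsScalarTower.of_algebraMap_eq fun r => by
    show algebraMap B0 Bh (algebraMap S B0 (algebraMap R S r)) =
      g (algebraMap A0 Ah (algebraMap R A0 r))
    have h1 : g (algebraMap A0 Ah (algebraMap R A0 r)) = f (algebraMap R A0 r) :=
      DFunLike.congr_fun hg1 _
    rw [h1]
    show _ = algebraMap B0 Bh (Localization.localRingHom p q (algebraMap R S) (q.over_def p) (algebraMap R A0 r))
    rw [Localization.localRingHom_to_map]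
  have hRA : IsIndEtale R Ah := by
    have h1 : IsIndEtale A0 Ah := Groth.Agent.Hensel.HenselPerm.lazardEtale_of_isHenselization A0 Ah
    exact IsInd.comp isGood_etale (isIndEtale_of_isLocalization p.primeCompl A0) h1
  have hRB : IsIndSmooth R Bh := by
    have h1 : IsIndEtale B0 Bh := Groth.Agent.Hensel.HenselPerm.lazardEtale_of_isHenselization B0 Bh
    have h2 : IsIndEtale S Bh := IsInd.comp isGood_etale (isIndEtale_of_isLocalization q.primeCompl B0) h1
    exact IsInd.comp isGood_smooth (IsInd.of_self (A := R) (C := S) (inferInstanceAs (Algebra.Smooth R S)))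
      (IsInd.of_isIndEtale isGood_smooth h2)
  have hAB : IsIndSmooth Ah Bh := IsInd.cancel isGood_smooth hRA hRB
  refine Groth.Agent.CalgC.Branches.encard_minimalPrimes_eq hAB (Or.inr ?_)
  letI : Algebra p.ResidueField q.ResidueField :=
    (Ideal.ResidueField.mapₐ p q (Algebra.ofId R S) (q.over_def p)).toRingHom.toAlgebra
  haveI : IsPurelyInseparable p.ResidueField q.ResidueField := hpi
  refine isPurelyInseparable_of_square (k := p.ResidueField) (K := q.ResidueField)
    (IsLocalRing.ResidueField.map (algebraMap A0 Ah)) (IsLocalRing.ResidueField.map (algebraMap B0 Bh))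
    (Groth.Agent.Hensel.Exist.residueField_bijective_of_isHenselization B0 Bh).2 ?_
  have hsq : (IsLocalRing.ResidueField.map (algebraMap Ah Bh)).comp
      (IsLocalRing.ResidueField.map (algebraMap A0 Ah)) =
      (IsLocalRing.ResidueField.map (algebraMap B0 Bh)).comp (IsLocalRing.ResidueField.map φ0) := by
    rw [← IsLocalRing.ResidueField.map_comp, ← IsLocalRing.ResidueField.map_comp]
    congr 1
  exact hsq

end Groth.Agent.S2130
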