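import Groth.Statements.S2131
-- import your own Groth.Agent.* helpers here

set_option autoImplicit false
universe u
open CAlg

namespace Groth.Agent.S2131

/-- bijectivity after localization in terms of elements -/
theorem bijective_map_iff {R M N : Type u} [CommRing R] [AddCommGroup M] [Module R M]
    [AddCommGroup N] [Module R N] (φ : M →ₗ[R] N) (S : Submonoid R) :
    Function.Bijective (LocalizedModule.map S φ) ↔
      (∀ x : M, φ x = 0 → ∃ s ∈ S, s • x = 0) ∧ (∀ y : N, ∃ s ∈ S, ∃ x : M, φ x = s • y) := by
  constructor
  · rintro ⟨hi, hs⟩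
    refine ⟨fun x hx => ?_, fun y => ?_⟩
    · have h1 : LocalizedModule.map S φ (LocalizedModule.mk x 1) = 0 := by
        rw [LocalizedModule.map_mk, hx, LocalizedModule.zero_mk]
      have h2 : (LocalizedModule.mk x 1 : LocalizedModule S M) = 0 := by
        apply hi; rw [h1, map_zero]
      rw [← LocalizedModule.zero_mk 1, LocalizedModule.mk_eq] at h2
      obtain ⟨u, hu⟩ := h2
      refine ⟨u, u.2, ?_⟩
      simpa [Submonoid.smul_def] using hu
    · obtain ⟨z, hz⟩ := hs (LocalizedModule.mk y 1)
      induction z using LocalizedModule.induction_on with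
      | h x s =>
        rw [LocalizedModule.map_mk, LocalizedModule.mk_eq] at hz
        obtain ⟨u, hu⟩ := hz
        refine ⟨u * s, S.mul_mem u.2 s.2, (u : R) • x, ?_⟩
        simpa [Submonoid.smul_def, mul_smul] using hu
  · rintro ⟨hi, hs⟩
    refine ⟨?_, ?_⟩
    · rw [injective_iff_map_eq_zero]
      intro z hz
      induction z using LocalizedModule.induction_on with
      | h x s =>
        rw [LocalizedModule.map_mk, ← LocalizedModule.zero_mk 1, LocalizedModule.mk_eq] at hz
        obtain ⟨u, hu⟩ := hz
        have hu' : φ ((u : R) • x) = 0 := by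
          simpa [Submonoid.smul_def] using hu
        obtain ⟨t, ht, htx⟩ := hi _ hu'
        rw [← LocalizedModule.zero_mk 1, LocalizedModule.mk_eq]
        refine ⟨⟨t * u, S.mul_mem ht u.2⟩, ?_⟩
        simp only [Submonoid.smul_def, Submonoid.coe_one, one_smul, smul_zero]
        rw [mul_smul, htx]
    · intro z
      induction z using LocalizedModule.induction_on with
      | h y s =>
        obtain ⟨t, ht, x, hx⟩ := hs y
        refine ⟨LocalizedModule.mk x (⟨t, ht⟩ * s), ?_⟩
        rw [LocalizedModule.map_mk, hx, LocalizedModule.mk_eq]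
        refine ⟨1, ?_⟩
        simp only [Submonoid.smul_def, Submonoid.coe_mul, one_smul, smul_smul]
        rw [mul_comm]

/-- Stacks Tag 05GF: for an `R`-linear map from a finite module to a finitely presented module, the primes at which its localization is bijective form an
open subset of `Spec R`. -/
theorem result {R M N : Type u} [CommRing R] [AddCommGroup M] [Module R M] [Module.Finite R M]
    [AddCommGroup N] [Module R N] [Module.FinitePresentation R N] (φ : M →ₗ[R] N) :
    IsOpen {p : PrimeSpectrum R | Function.Bijective (LocalizedModule.map p.asIdeal.primeCompl φ)} := by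
  rw [isOpen_iff_forall_mem_open]
  intro p hp
  obtain ⟨g, hg, h⟩ := Module.FinitePresentation.exists_notMem_bijective φ p.asIdeal
    (LocalizedModule.mkLinearMap p.asIdeal.primeCompl M)
    (LocalizedModule.mkLinearMap p.asIdeal.primeCompl N) (by
      exact hp)
  refine ⟨PrimeSpectrum.basicOpen g, ?_, (PrimeSpectrum.basicOpen g).2, hg⟩
  intro q hq
  have hq' : g ∉ q.asIdeal := hq
  rw [Set.mem_setOf_eq, bijective_map_iff]
  rw [bijective_map_iff] at h
  have hle : Submonoid.powers g ≤ q.asIdeal.primeCompl := Submonoid.powers_le.mpr hq'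
  refine ⟨fun x hx => ?_, fun y => ?_⟩
  · obtain ⟨s, hs, h'⟩ := h.1 x hx
    exact ⟨s, hle hs, h'⟩
  · obtain ⟨s, hs, h'⟩ := h.2 y
    exact ⟨s, hle hs, h'⟩

end Groth.Agent.S2131
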