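import Groth.Statements.S2132
import Mathlib.Algebra.Category.Ring.FilteredColimits
import Mathlib.CategoryTheory.Limits.ConcreteCategory.Basic
import Mathlib.Algebra.Polynomial.Lifts
-- import your own Groth.Agent.* helpers here

set_option autoImplicit false
universe u
open CategoryTheory
open CAlg

namespace Groth.Agent.S2132

section
variable {J : Type u} [SmallCategory J] [IsFiltered J] (F : J ⥤ CommRingCat.{u})
    (c : Limits.Cocone F) (hc : Limits.IsColimit c)

include hc in
theorem exists_rep (x : c.pt) : ∃ (j : J) (y : F.obj j), (c.ι.app j).hom y = x :=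
  Limits.Concrete.isColimit_exists_rep F hc x

include hc in
theorem exists_of_rep_eq {i j : J} (x : F.obj i) (y : F.obj j)
    (h : (c.ι.app i).hom x = (c.ι.app j).hom y) :
    ∃ (k : J) (f : i ⟶ k) (g : j ⟶ k), (F.map f).hom x = (F.map g).hom y :=
  Limits.Concrete.isColimit_exists_of_rep_eq F hc x y h

theorem w_apply {i j : J} (f : i ⟶ j) (x : F.obj i) :
    (c.ι.app j).hom ((F.map f).hom x) = (c.ι.app i).hom x := by
  have := c.w f
  rw [← this]
  simp

include hc in
/-- the coprojections of a filtered colimit with local transition maps are local. -/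
theorem isLocalHom_ι (hloc : ∀ (i j : J) (a : i ⟶ j), IsLocalHom (F.map a).hom) (j : J) :
    IsLocalHom (c.ι.app j).hom := by
  constructor
  intro x hx
  obtain ⟨z, hz⟩ := hx.exists_right_inv
  obtain ⟨k, y, rfl⟩ := exists_rep F c hc z
  let m := IsFiltered.max j k
  let f : j ⟶ m := IsFiltered.leftToMax j k
  let g : k ⟶ m := IsFiltered.rightToMax j k
  have h1 : (c.ι.app m).hom ((F.map f).hom x * (F.map g).hom y) = (c.ι.app m).hom 1 := by
    rw [map_mul, w_apply, w_apply, hz, map_one]
  obtain ⟨l, p, q, hpq⟩ := exists_of_rep_eq F c hc _ _ h1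
  rw [map_one, map_mul] at hpq
  have h2 : IsUnit ((F.map p).hom ((F.map f).hom x)) := IsUnit.of_mul_eq_one _ hpq
  have := hloc _ _ p
  have := hloc _ _ f
  exact (isUnit_of_map_unit (F.map f).hom _ (isUnit_of_map_unit (F.map p).hom _ h2))

open Polynomial in
include hc in
theorem exists_rep_poly (f : c.pt[X]) : ∃ (j : J), f ∈ Polynomial.lifts (c.ι.app j).hom := by
  induction f using Polynomial.induction_on' with
  | add p q hp hq =>
    obtain ⟨j, hj⟩ := hp
    obtain ⟨k, hk⟩ := hq
    let m := IsFiltered.max j k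
    let f : j ⟶ m := IsFiltered.leftToMax j k
    let g : k ⟶ m := IsFiltered.rightToMax j k
    refine ⟨m, ?_⟩
    have key : ∀ {i : J} (a : i ⟶ m) (r : c.pt[X]), r ∈ Polynomial.lifts (c.ι.app i).hom →
        r ∈ Polynomial.lifts (c.ι.app m).hom := by
      intro i a r hr
      rw [Polynomial.lifts_iff_coeff_lifts] at hr ⊢
      intro n
      obtain ⟨y, hy⟩ := hr n
      exact ⟨(F.map a).hom y, by rw [w_apply, hy]⟩
    exact add_mem (key f _ hj) (key g _ hk)
  | monomial n a =>
    obtain ⟨j, y, rfl⟩ := exists_rep F c hc a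
    exact ⟨j, Polynomial.monomial_mem_lifts n ⟨y, rfl⟩⟩

end

open Polynomial IsLocalRing in
theorem result_aux {J : Type u} [SmallCategory J] [IsFiltered J] (F : J ⥤ CommRingCat.{u})
    (hF : ∀ j, HenselianLocalRing (F.obj j)) (hloc : ∀ (i j : J) (a : i ⟶ j), IsLocalHom (F.map a).hom)
    (c : Limits.Cocone F) (hc : Limits.IsColimit c) : HenselianLocalRing c.pt := by
  have hι := isLocalHom_ι F c hc hloc
  have hjj : Nonempty J := IsFiltered.nonempty
  obtain ⟨j₀⟩ := hjj
  have : Nontrivial c.pt := by
    refine ⟨⟨0, 1, ?_⟩⟩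
    intro h
    have h0 : (c.ι.app j₀).hom 0 = (c.ι.app j₀).hom 1 := by rw [map_zero, map_one, h]
    have h1 : IsUnit ((c.ι.app j₀).hom 0) := by rw [h0, map_one]; exact isUnit_one
    have h2 := isUnit_of_map_unit (c.ι.app j₀).hom _ h1
    exact not_isUnit_zero h2
  have hlocal : IsLocalRing c.pt := by
    refine IsLocalRing.of_nonunits_add ?_
    intro a b ha hb
    obtain ⟨j, x, rfl⟩ := exists_rep F c hc a
    obtain ⟨k, y, rfl⟩ := exists_rep F c hc b
    let m := IsFiltered.max j k
    let f : j ⟶ m := IsFiltered.leftToMax j k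
    let g : k ⟶ m := IsFiltered.rightToMax j k
    rw [← w_apply F c f x, ← w_apply F c g y, ← map_add]
    rw [← w_apply F c f x] at ha
    rw [← w_apply F c g y] at hb
    rw [mem_nonunits_iff] at ha hb ⊢
    intro hu
    have hu' := isUnit_of_map_unit (c.ι.app m).hom _ hu
    have h1 : (F.map f).hom x ∈ nonunits (F.obj m) := fun h => ha (h.map _)
    have h2 : (F.map g).hom y ∈ nonunits (F.obj m) := fun h => hb (h.map _)
    exact IsLocalRing.nonunits_add h1 h2 hu'
  constructor
  intro f hf a₀ h1 h2
  obtain ⟨j, hj⟩ := exists_rep_poly F c hc f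
  obtain ⟨k, x, rfl⟩ := exists_rep F c hc a₀
  obtain ⟨g, hg, -, hgm⟩ := lifts_and_natDegree_eq_and_monic hj hf
  let m := IsFiltered.max j k
  let p : j ⟶ m := IsFiltered.leftToMax j k
  let q : k ⟶ m := IsFiltered.rightToMax j k
  let g' := g.map (F.map p).hom
  let x' := (F.map q).hom x
  have hg' : g'.map (c.ι.app m).hom = f := by
    rw [← hg, Polynomial.map_map]
    congr 1
    ext z
    exact w_apply F c p z
  have hgm' : g'.Monic := hgm.map _
  have hx' : (c.ι.app m).hom x' = (c.ι.app k).hom x := w_apply F c q x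
  rw [← hx', ← hg', Polynomial.eval_map_apply] at h1
  rw [← hx', ← hg', Polynomial.derivative_map, Polynomial.eval_map_apply] at h2
  have h1' : g'.eval x' ∈ maximalIdeal (F.obj m) := by
    rw [mem_maximalIdeal, mem_nonunits_iff] at h1 ⊢
    exact fun h => h1 (h.map _)
  have h2' : IsUnit (g'.derivative.eval x') := isUnit_of_map_unit (c.ι.app m).hom _ h2
  obtain ⟨a, ha1, ha2⟩ := HenselianLocalRing.is_henselian g' hgm' x' h1' h2'
  refine ⟨(c.ι.app m).hom a, ?_, ?_⟩
  · rw [← hg', IsRoot.def, Polynomial.eval_map_apply, ha1.eq_zero, map_zero]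
  · rw [← hx', ← map_sub]
    rw [mem_maximalIdeal, mem_nonunits_iff] at ha2 ⊢
    exact fun h => ha2 (isUnit_of_map_unit (c.ι.app m).hom _ h)

/-- Stacks Tag 04GI (henselian case): let `F : J ⥤ CommRingCat` be a filtered diagram of henselian local rings with local transition maps and `c` a colimit
cocone. Then the colimit is a henselian local ring. -/
theorem result {J : Type u} [SmallCategory J] [IsFiltered J] (F : J ⥤ CommRingCat.{u})
    (hF : ∀ j, HenselianLocalRing (F.obj j)) (hloc : ∀ (i j : J) (a : i ⟶ j), IsLocalHom (F.map a).hom)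
    (c : Limits.Cocone F) (hc : Limits.IsColimit c) : HenselianLocalRing c.pt := by
  exact result_aux F hF hloc c hc

end Groth.Agent.S2132
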