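import Groth.Statements.S2133
import Mathlib.RingTheory.Etale.Kaehler

set_option autoImplicit false
universe u
open CAlg

namespace Groth.Agent.S2133

open KaehlerDifferential in
/-- A derivation extends along a formally etale ring map. -/
theorem exists_derivation_extends_of_formallyEtale {k : Type*} {R L : Type u} [CommRing k] [CommRing R] [CommRing L] [Algebra k R]
    [Algebra k L] [Algebra R L] [IsScalarTower k R L] [Algebra.FormallyEtale R L] (D : Derivation k R R) :
    ∃ D' : Derivation k L L, ∀ r, D' (algebraMap R L r) = algebraMap R L (D r) := by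
  let ψ : Ω[R⁄k] →ₗ[R] L := (Algebra.linearMap R L) ∘ₗ D.liftKaehlerDifferential
  let Φ : Ω[L⁄k] →ₗ[L] L := (LinearMap.liftBaseChange L ψ) ∘ₗ
    (KaehlerDifferential.tensorKaehlerEquivOfFormallyEtale k R L).symm.toLinearMap
  refine ⟨Φ.compDer (KaehlerDifferential.D k L), fun r => ?_⟩
  show Φ (KaehlerDifferential.D k L (algebraMap R L r)) = _
  simp only [Φ, LinearMap.comp_apply, LinearEquiv.coe_coe,
    KaehlerDifferential.tensorKaehlerEquivOfFormallyEtale_symm_D_algebraMap]
  simp [ψ]

theorem aux {R R' L : Type u} [CommRing R] [CommRing R'] [Algebra R R'] [Algebra.FiniteType R R']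
    (hinj : Function.Injective (algebraMap R R')) (g : R) (g' : R') (hgg' : algebraMap R R' g = g')
    (hg : IsSMulRegular R' g')
    (hloc : ∀ x : R', ∃ n : ℕ, g' ^ n * x ∈ Set.range (algebraMap R R')) [CommRing L] [Algebra R L] [Algebra R' L]
    [IsScalarTower R R' L] [IsLocalization.Away g' L] (D : Derivation ℤ R R) :
    ∃ (N : ℕ) (D' : Derivation ℤ R' R'), ∀ r : R, D' (algebraMap R R' r) = algebraMap R R' (g ^ N * D r) := by
  classical
  have hgpow : ∀ n : ℕ, IsSMulRegular R' (g' ^ n) := fun n => hg.pow n
  have hinjL : Function.Injective (algebraMap R' L) := by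
    refine IsLocalization.injective (M := Submonoid.powers g') L ?_
    rintro _ ⟨n, rfl⟩
    rw [mem_nonZeroDivisors_iff_right]
    intro z hz
    apply hgpow n
    simpa [smul_eq_mul, mul_comm] using hz
  have hinjRL : Function.Injective (algebraMap R L) := by
    rw [IsScalarTower.algebraMap_eq R R' L]
    exact hinjL.comp hinj
  -- `L` is also the localization of `R`
  have hL : IsLocalization.Away g L := by
    refine { map_units := ?_, surj := ?_, exists_of_eq := ?_ }
    · rintro ⟨_, n, rfl⟩
      have : algebraMap R L (g ^ n) = algebraMap R' L (g' ^ n) := by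
        rw [map_pow, map_pow, IsScalarTower.algebraMap_apply R R' L, hgg']
      show IsUnit (algebraMap R L (g ^ n))
      rw [this]
      exact IsLocalization.map_units L (⟨g' ^ n, n, rfl⟩ : Submonoid.powers g')
    · intro z
      obtain ⟨⟨x, ⟨_, n, rfl⟩⟩, hz⟩ := IsLocalization.surj (Submonoid.powers g') z
      obtain ⟨k, r, hr⟩ := hloc x
      refine ⟨⟨r, ⟨g ^ (n + k), n + k, rfl⟩⟩, ?_⟩
      have hz' : z * algebraMap R' L (g' ^ n) = algebraMap R' L x := hz
      show z * algebraMap R L (g ^ (n + k)) = algebraMap R L r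
      rw [IsScalarTower.algebraMap_apply R R' L, IsScalarTower.algebraMap_apply R R' L, hr, map_pow, pow_add,
        map_mul, map_mul, ← mul_assoc]
      rw [hgg', hz', mul_comm]
    · intro x y hxy
      exact ⟨1, by rw [hinjRL hxy]⟩
  have : Algebra.FormallyEtale R L := Algebra.FormallyEtale.of_isLocalization (Submonoid.powers g)
  -- the extension of `D` to `L`
  obtain ⟨DL, hDL⟩ : ∃ DL : Derivation ℤ L L, ∀ r : R, DL (algebraMap R L r) = algebraMap R L (D r) :=
    exists_derivation_extends_of_formallyEtale D
  -- bounded denominators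
  have key : ∀ x : R', ∃ N : ℕ, ∀ M, N ≤ M → ∃ y : R', algebraMap R' L y = algebraMap R' L (g' ^ M) * DL (algebraMap R' L x) := by
    intro x
    obtain ⟨⟨y, ⟨_, n, rfl⟩⟩, hz⟩ := IsLocalization.surj (Submonoid.powers g') (DL (algebraMap R' L x))
    refine ⟨n, fun M hM => ⟨g' ^ (M - n) * y, ?_⟩⟩
    have hz' : DL (algebraMap R' L x) * algebraMap R' L (g' ^ n) = algebraMap R' L y := hz
    rw [map_mul, ← hz']
    rw [show M = (M - n) + n from by omega, pow_add, map_mul]
    simp only [Nat.add_sub_cancel]
    ring
  obtain ⟨s, hs⟩ := (Algebra.FiniteType.out : (⊤ : Subalgebra R R').FG)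
  choose! Nf hNf using key
  let N := s.sup Nf
  have hall : ∀ x : R', ∃ y : R', algebraMap R' L y = algebraMap R' L (g' ^ N) * DL (algebraMap R' L x) := by
    intro x
    have hx : x ∈ Algebra.adjoin R (s : Set R') := by rw [hs]; trivial
    induction hx using Algebra.adjoin_induction with
    | mem x hx => exact hNf x N (Finset.le_sup hx)
    | algebraMap r =>
      refine ⟨g' ^ N * algebraMap R R' (D r), ?_⟩
      rw [← IsScalarTower.algebraMap_apply R R' L, hDL, map_mul, ← IsScalarTower.algebraMap_apply R R' L]
    | add x y _ _ hx hy =>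
      obtain ⟨a, ha⟩ := hx
      obtain ⟨b, hb⟩ := hy
      exact ⟨a + b, by rw [map_add, ha, hb, map_add, map_add, mul_add]⟩
    | mul x y _ _ hx hy =>
      obtain ⟨a, ha⟩ := hx
      obtain ⟨b, hb⟩ := hy
      refine ⟨x * b + y * a, ?_⟩
      rw [map_add, map_mul, map_mul, ha, hb, map_mul, Derivation.leibniz, smul_eq_mul, smul_eq_mul]
      ring
  choose f hf using hall
  refine ⟨N, Derivation.mk' (AddMonoidHom.toIntLinearMap (AddMonoidHom.mk' f ?_)) ?_, ?_⟩
  · intro a b
    apply hinjL
    rw [map_add, hf, hf, hf, map_add, map_add, mul_add]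
  · intro a b
    show f (a * b) = a • f b + b • f a
    apply hinjL
    simp only [smul_eq_mul, map_add, map_mul, hf, Derivation.leibniz]
    ring
  · intro r
    show f _ = _
    apply hinjL
    rw [hf, ← IsScalarTower.algebraMap_apply R R' L, hDL, ← IsScalarTower.algebraMap_apply R R' L, map_mul,
      map_pow, map_pow, ← hgg', ← IsScalarTower.algebraMap_apply R R' L]


/-- Stacks Tag 07PE, last assertion: let `R → R'` be an injective ring map of finite type and `g ∈ R` a nonzerodivisor on `R'` such that every element of `R'` lands in `R` after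
multiplication by a power of `g` (so `R_g = R'_g`). Then for every derivation `D` of `R` there is `N` such that `g^N D` extends to a derivation of `R'`. -/
theorem result {R R' : Type u} [CommRing R] [CommRing R'] [Algebra R R'] [Algebra.FiniteType R R']
    (hinj : Function.Injective (algebraMap R R')) (g : R) (hg : IsSMulRegular R' (algebraMap R R' g))
    (hloc : ∀ x : R', ∃ n : ℕ, (algebraMap R R' g) ^ n * x ∈ Set.range (algebraMap R R')) (D : Derivation ℤ R R) :
    ∃ (N : ℕ) (D' : Derivation ℤ R' R'), ∀ r : R, D' (algebraMap R R' r) = algebraMap R R' (g ^ N * D r) := by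
  exact aux (L := Localization.Away (algebraMap R R' g)) hinj g _ rfl hg hloc D

end Groth.Agent.S2133
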