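import Groth.Statements.S2134
-- import your own Groth.Agent.* helpers here

set_option autoImplicit false
universe u
open CAlg

namespace Groth.Agent.S2134

/-- Auxiliary predicate: `V` contains a nonzero vector with coordinates in `E` supported in `s`. -/
def P {k K : Type u} [Field k] [Field K] [Algebra k K] {n : ℕ} (V : Submodule K (Fin n → K))
    (E : IntermediateField k K) (s : Finset (Fin n)) : Prop :=
  ∃ v ∈ V, v ≠ 0 ∧ (∀ i, v i ∈ E) ∧ ∀ i, i ∉ s → v i = 0

theorem P.mono {k K : Type u} [Field k] [Field K] [Algebra k K] {n : ℕ}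
    {V : Submodule K (Fin n → K)} {E E' : IntermediateField k K} (h : E ≤ E')
    {s : Finset (Fin n)} (hP : P V E s) : P V E' s := by
  obtain ⟨v, hv, h0, hE, hs⟩ := hP
  exact ⟨v, hv, h0, fun i => h (hE i), hs⟩

theorem exists_lower {k K : Type u} [Field k] [Field K] [Algebra k K] {ι : Type u} [Nonempty ι]
    (F : ι → IntermediateField k K) (hdir : ∀ a b : ι, ∃ c, F c ≤ F a ⊓ F b)
    {κ : Type} (T : Finset κ) (g : κ → ι) : ∃ c, ∀ t ∈ T, F c ≤ F (g t) := by
  classical
  induction T using Finset.induction_on with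
  | empty => exact ⟨Classical.arbitrary ι, by simp⟩
  | insert a T ha ih =>
    obtain ⟨c, hc⟩ := ih
    obtain ⟨d, hd⟩ := hdir c (g a)
    refine ⟨d, fun t ht => ?_⟩
    rcases Finset.mem_insert.1 ht with rfl | ht
    · exact hd.trans inf_le_right
    · exact (hd.trans inf_le_left).trans (hc t ht)

/-- Stacks Tag 07P3: let `K/k` be a field extension and `(K_α)` a nonempty family of intermediate fields, directed downwards, with intersection `k`. For a `K`-subspace `V` of
`K^n` (`n ≥ 1`), `V` contains a nonzero vector with all coordinates in `k` if and only if for every `α` it contains a nonzero vector with all coordinates in `K_α`. -/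
theorem result {k K : Type u} [Field k] [Field K] [Algebra k K] {ι : Type u} [Nonempty ι]
    (F : ι → IntermediateField k K) (hdir : ∀ a b : ι, ∃ c, F c ≤ F a ⊓ F b) (hinf : ⨅ a, F a = ⊥) (n : ℕ) (hn : 1 ≤ n)
    (V : Submodule K (Fin n → K)) :
    (∃ v ∈ V, v ≠ 0 ∧ ∀ i, v i ∈ Set.range (algebraMap k K)) ↔
      ∀ a, ∃ v ∈ V, v ≠ 0 ∧ ∀ i, v i ∈ F a := by
  classical
  constructor
  · rintro ⟨v, hv, h0, h⟩ a
    refine ⟨v, hv, h0, fun i => ?_⟩
    obtain ⟨x, hx⟩ := h i
    rw [← hx]
    exact (F a).algebraMap_mem x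
  · intro H
    -- a good index
    obtain ⟨a₀, ha₀⟩ : ∃ a₀, ∀ s : Finset (Fin n), P V (F a₀) s → ∀ a, P V (F a) s := by
      have hch : ∀ s : Finset (Fin n), ∃ a, P V (F a) s → ∀ b, P V (F b) s := by
        intro s
        by_cases hs : ∀ b, P V (F b) s
        · exact ⟨Classical.arbitrary ι, fun _ => hs⟩
        · push Not at hs
          obtain ⟨b, hb⟩ := hs
          exact ⟨b, fun h => absurd h hb⟩
      choose g hg using hch
      obtain ⟨c, hc⟩ := exists_lower F hdir (Finset.univ : Finset (Finset (Fin n))) g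
      exact ⟨c, fun s hs => hg s (hs.mono (hc s (Finset.mem_univ _)))⟩
    -- minimal support
    have hne : ∃ s : Finset (Fin n), P V (F a₀) s := by
      obtain ⟨v, hv, h0, h⟩ := H a₀
      exact ⟨Finset.univ, v, hv, h0, h, fun i hi => absurd (Finset.mem_univ i) hi⟩
    obtain ⟨s, hs, hmin⟩ : ∃ s : Finset (Fin n), P V (F a₀) s ∧
        ∀ t, P V (F a₀) t → ¬ t ⊂ s := by
      obtain ⟨s, hs⟩ := (WellFounded.has_min (wellFounded_lt (α := Finset (Fin n)))
        {s | P V (F a₀) s} hne)
      exact ⟨s, hs.1, fun t ht => hs.2 t ht⟩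
    obtain ⟨v, hv, h0, hE, hsupp⟩ := hs
    obtain ⟨i₀, hi₀⟩ : ∃ i₀, v i₀ ≠ 0 := by
      by_contra hcon
      push Not at hcon
      exact h0 (funext hcon)
    have hi₀s : i₀ ∈ s := by
      by_contra hcon
      exact hi₀ (hsupp _ hcon)
    have herase : ∀ w ∈ V, (∀ i, w i ∈ F a₀) → (∀ i, i ∉ s → w i = 0) → w i₀ = 0 → w = 0 := by
      intro w hw hwE hws hwi
      by_contra hw0
      refine hmin (s.erase i₀) ⟨w, hw, hw0, hwE, fun i hi => ?_⟩ (Finset.erase_ssubset hi₀s)
      by_cases hii : i = i₀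
      · rw [hii, hwi]
      · exact hws i fun his => hi (Finset.mem_erase.2 ⟨hii, his⟩)
    refine ⟨(v i₀)⁻¹ • v, V.smul_mem _ hv, ?_, ?_⟩
    · exact smul_ne_zero (inv_ne_zero hi₀) h0
    · intro j
      have hall : ∀ a, ((v i₀)⁻¹ • v) j ∈ F a := by
        intro a
        obtain ⟨c, hc⟩ := hdir a a₀
        obtain ⟨w, hw, hw0, hwE, hws⟩ :=
          ha₀ s ⟨v, hv, h0, hE, hsupp⟩ c
        have hwE' : ∀ i, w i ∈ F a₀ := fun i => (hc.trans inf_le_right) (hwE i)
        have hwi₀ : w i₀ ≠ 0 := fun h => hw0 (herase w hw hwE' hws h)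
        have hdiff : (v i₀)⁻¹ • v - (w i₀)⁻¹ • w = 0 := by
          apply herase
          · exact V.sub_mem (V.smul_mem _ hv) (V.smul_mem _ hw)
          · intro i
            simp only [Pi.sub_apply, Pi.smul_apply, smul_eq_mul]
            exact (F a₀).sub_mem ((F a₀).mul_mem ((F a₀).inv_mem (hE _)) (hE _))
              ((F a₀).mul_mem ((F a₀).inv_mem (hwE' _)) (hwE' _))
          · intro i hi
            simp [hsupp i hi, hws i hi]
          · simp [hi₀, hwi₀]
        rw [sub_eq_zero.1 hdiff]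
        simp only [Pi.smul_apply, smul_eq_mul]
        exact (hc.trans inf_le_left) ((F c).mul_mem ((F c).inv_mem (hwE _)) (hwE _))
      have : ((v i₀)⁻¹ • v) j ∈ (⨅ a, F a) := by
        rw [← SetLike.mem_coe, IntermediateField.coe_iInf]
        exact Set.mem_iInter.2 hall
      rw [hinf] at this
      exact IntermediateField.mem_bot.1 this

end Groth.Agent.S2134
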