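import Groth.Statements.S2136
import Groth.Agent.Ega4dA.GeomUni

set_option autoImplicit false
universe u
open CAlg

namespace Groth.Agent.S2136

open IsLocalRing in
theorem exists_normalization (R : Type u) [CommRing R] [IsDomain R] [IsLocalRing R]
    (h : CAlg2.IsGeomUnibranch R) : ∃ (R' : Type u) (_ : CommRing R') (_ : Algebra R R') (_ : IsDomain R')
      (_ : IsIntegrallyClosed R') (_ : IsLocalRing R') (_ : Algebra.IsIntegral R R'),
      Function.Injective (algebraMap R R') ∧ ∃ (q : ℕ) (_ : ExpChar (R' ⧸ maximalIdeal R') q),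
        ∀ x : R', ∃ (n : ℕ) (a : R), x ^ q ^ n - algebraMap R R' a ∈ maximalIdeal R' := by
  let R₀ := CAlg2.red R
  let R' := CAlg2.normRed R
  have hR₀ : IsDomain R₀ := h.1.1
  have hR' : IsLocalRing R' := h.1.2
  let g : R →+* R' := (algebraMap R₀ R').comp (Ideal.Quotient.mk (nilradical R))
  let alg : Algebra R R' := g.toAlgebra
  have hinj : Function.Injective g := by
    refine Function.Injective.comp (g := algebraMap R₀ R') (f := Ideal.Quotient.mk (nilradical R))
      (FaithfulSMul.algebraMap_injective R₀ R') ?_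
    rw [injective_iff_map_eq_zero]
    intro a ha
    rw [Ideal.Quotient.eq_zero_iff_mem] at ha
    exact (mem_nilradical.mp ha).eq_zero
  have hint : g.IsIntegral := by
    refine RingHom.IsIntegral.trans _ _ ?_ ?_
    · exact RingHom.isIntegral_of_surjective _ Ideal.Quotient.mk_surjective
    · exact algebraMap_isIntegral_iff.mpr inferInstance
  have hal : Algebra.IsAlgebraic R₀ (FractionRing R₀) :=
    (IsFractionRing.comap_isAlgebraic_iff (A := R₀) (K := FractionRing R₀)).mpr inferInstance
  have hfrac : IsFractionRing R' (FractionRing R₀) :=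
    integralClosure.isFractionRing_of_algebraic (A := R₀) (L := FractionRing R₀)
      (fun x hx => IsFractionRing.injective R₀ (FractionRing R₀) (by rw [hx, map_zero]))
  have hic : IsIntegrallyClosed R' :=
    (IsIntegrallyClosed.integralClosure_eq_bot_iff (FractionRing R₀)).mp integralClosure_idem
  have hexp : ExpChar (R' ⧸ maximalIdeal R') (ringExpChar (R' ⧸ maximalIdeal R')) := by
    let _ : Field (R' ⧸ maximalIdeal R') := Ideal.Quotient.field _
    infer_instance
  refine ⟨R', inferInstance, alg, inferInstance, hic, hR', ⟨hint⟩, hinj,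
    ringExpChar (R' ⧸ maximalIdeal R'), hexp, ?_⟩
  intro x
  obtain ⟨n, a, ha⟩ := h.2 (maximalIdeal R') (Ideal.Quotient.mk _ x)
  refine ⟨n, a, ?_⟩
  rw [← Ideal.Quotient.eq_zero_iff_mem, map_sub, sub_eq_zero, map_pow]
  exact ha.symm

theorem not_mem_of_surj {B : Type u} [CommRing B] {q : Ideal B} [q.IsPrime] {f : B} {n : ℕ}
    {t : Localization.Away f} {b : B}
    (ht : t ∉ q.map (algebraMap B (Localization.Away f)))
    (hb : t * algebraMap B (Localization.Away f) f ^ n = algebraMap B (Localization.Away f) b) : b ∉ q := by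
  intro h
  have h1 : t * algebraMap B (Localization.Away f) f ^ n ∈ q.map (algebraMap B (Localization.Away f)) := by
    rw [hb]; exact Ideal.mem_map_of_mem _ h
  have h2 : IsUnit (algebraMap B (Localization.Away f) f ^ n) :=
    (IsLocalization.Away.algebraMap_isUnit f).pow n
  exact ht ((Ideal.mul_unit_mem_iff_mem _ h2).mp h1)

/-- Stacks Tag 0GSC (`B` is assumed of finite type over `A`; the source only needs this after inverting an element outside `𝔮`): let `A → B` be a ring map of finite type, `𝔮` a prime of `B` over `𝔭 ⊆ A`, with `A` a domain, `A_𝔭` geometrically unibranch, `A → B` unramified at `𝔮` and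
`A_𝔭 → B_𝔮` injective. Then `B_g` is étale over `A` for some `g ∉ 𝔮`. -/
theorem result {A B : Type u} [CommRing A] [IsDomain A] [CommRing B]
    [Algebra A B] (q : Ideal B) [q.IsPrime] (p : Ideal A) [p.IsPrime] [q.LiesOver p]
    (hA : CAlg2.IsGeomUnibranch (Localization.AtPrime p)) [Algebra.FiniteType A B] [Algebra.IsUnramifiedAt A q]
    (hinj : Function.Injective (Localization.localRingHom p q (algebraMap A B) (q.over_def p))) :
    ∃ g : B, g ∉ q ∧ Algebra.Etale A (Localization.Away g) := by
  classical
  obtain ⟨f, hf, P, φ, hφ⟩ := Algebra.IsUnramifiedAt.exists_hasStandardEtaleSurjectionOn (R := A) q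
  let C := P.Ring
  let Bf := Localization.Away f
  have hdisj := (Ideal.disjoint_powers_iff_notMem_of_isPrime _).mpr hf
  have hqf : (q.map (algebraMap B Bf)).IsPrime :=
    IsLocalization.isPrime_of_isPrime_disjoint (.powers f) _ _ ‹_› hdisj
  have hunder : (q.map (algebraMap B Bf)).comap (algebraMap B Bf) = q :=
    IsLocalization.under_map_of_isPrime_disjoint (.powers f) Bf ‹_› hdisj
  let Q : Ideal C := (q.map (algebraMap B Bf)).comap φ.toRingHom
  have hQprime : Q.IsPrime := Ideal.comap_isPrime _ _
  have hQp : Q.LiesOver p := by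
    constructor
    rw [q.over_def p, Ideal.under_def, Ideal.under_def]
    simp only [Q]
    rw [Ideal.comap_comap]
    have : φ.toRingHom.comp (algebraMap A C) = (algebraMap B Bf).comp (algebraMap A B) := by
      rw [← IsScalarTower.algebraMap_eq A B Bf]
      exact φ.comp_algebraMap
    rw [this, ← Ideal.comap_comap, hunder]
  have hdom : IsDomain (Localization.AtPrime Q) := by
    obtain ⟨R', _, _, _, _, _, _, hinj', e, _, he⟩ := exists_normalization (Localization.AtPrime p) hA
    let _ : Algebra A R' := ((algebraMap (Localization.AtPrime p) R').comp (algebraMap A _)).toAlgebra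
    have : IsScalarTower A (Localization.AtPrime p) R' := .of_algebraMap_eq' rfl
    exact Groth.Agent.Ega4dA.GeomUni.isDomain_localization_of_etale (R' := R') p Q hinj' e he
  obtain ⟨s, hsQ, hs⟩ := Groth.Agent.Ega4dA.GeomUni.exists_uniform_annihilator (A := A) Q
  -- elements of the kernel of `φ` vanish in `C_Q`
  have hker : ∀ x : C, φ x = 0 → algebraMap C (Localization.AtPrime Q) x = 0 := by
    intro x hx
    by_contra hne
    have halg : IsAlgebraic A (algebraMap C (Localization.AtPrime Q) x) :=
      (Groth.Agent.Ega4dA.GeomUni.isAlgebraic_of_etale (A := A) x).algebraMap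
    obtain ⟨a, ha, y, hy⟩ := halg.exists_nonzero_dvd (mem_nonZeroDivisors_of_ne_zero hne)
    obtain ⟨⟨c, v⟩, hcv⟩ := IsLocalization.surj Q.primeCompl y
    have h1 : algebraMap C (Localization.AtPrime Q) (v * algebraMap A C a) =
        algebraMap C (Localization.AtPrime Q) (x * c) := by
      rw [map_mul, map_mul, ← hcv, ← IsScalarTower.algebraMap_apply A C, hy]
      ring
    obtain ⟨w, hw⟩ := (IsLocalization.eq_iff_exists Q.primeCompl _).mp h1
    have h2 : φ (w * v) * algebraMap A Bf a = 0 := by
      rw [← φ.commutes, ← map_mul, mul_assoc, hw, map_mul, map_mul, hx]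
      ring
    have h3 : φ (w * v) ∉ q.map (algebraMap B Bf) := fun h => (w * v).2 h
    obtain ⟨n, b₀, hb₀⟩ := IsLocalization.Away.surj f (φ (w * v))
    have h4 : b₀ ∉ q := not_mem_of_surj h3 hb₀
    have h5 : algebraMap B Bf (b₀ * algebraMap A B a) = 0 := by
      rw [map_mul, ← hb₀, ← IsScalarTower.algebraMap_apply A B Bf, mul_right_comm, h2, zero_mul]
    obtain ⟨⟨m, k, hk⟩, hm⟩ := (IsLocalization.map_eq_zero_iff (.powers f) Bf _).mp h5
    have h6 : m ∉ q := by
      rw [← hk]
      exact fun h => hf (‹q.IsPrime›.mem_of_pow_mem _ h)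
    have h7 : algebraMap B (Localization.AtPrime q) (algebraMap A B a) = 0 := by
      refine (IsLocalization.map_eq_zero_iff q.primeCompl _ _).mpr ⟨⟨m * b₀, ?_⟩, ?_⟩
      · exact q.primeCompl.mul_mem h6 h4
      · rw [← hm]
        ring
    have h8 : algebraMap A (Localization.AtPrime p) a = 0 := by
      apply hinj
      rw [Localization.localRingHom_to_map, h7, map_zero]
    exact ha (IsLocalization.injective (Localization.AtPrime p) p.primeCompl_le_nonZeroDivisors
      (by rw [h8, map_zero]))
  -- choose the final denominator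
  have h1 : φ s ∉ q.map (algebraMap B Bf) := hsQ
  obtain ⟨n, b₀, hb₀⟩ := IsLocalization.Away.surj f (φ s)
  obtain ⟨c₁, hc₁⟩ := hφ (algebraMap B Bf f ^ n)
  have h4 : b₀ ∉ q := not_mem_of_surj h1 hb₀
  have h5 : φ (s * c₁) = algebraMap B Bf b₀ := by rw [map_mul, hc₁, hb₀]
  let T := Localization.Away (φ (s * c₁))
  have hT : IsLocalization.Away (algebraMap B Bf b₀) T := h5 ▸ inferInstance
  have hT2 : IsLocalization.Away (f * b₀) T := IsLocalization.Away.mul' Bf T f b₀
  let e : Localization.Away (s * c₁) →ₐ[A] T := Localization.awayMapₐ φ (s * c₁)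
  have he : Function.Bijective e := by
    constructor
    · refine Localization.awayMap_injective_iff.mpr fun a ha => ⟨1, ?_⟩
      have := hs a (hker a ha)
      rw [pow_one, mul_right_comm, this, zero_mul]
    · refine Localization.awayMap_surjective_iff.mpr fun a => ?_
      obtain ⟨b, hb⟩ := hφ a
      exact ⟨b, 0, by simpa using hb⟩
  refine ⟨f * b₀, fun h => ?_, ?_⟩
  · rcases ‹q.IsPrime›.mem_or_mem h with h | h
    · exact hf h
    · exact h4 h
  have : Algebra.Etale C (Localization.Away (s * c₁)) := .of_isLocalizationAway (s * c₁)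
  have : Algebra.Etale A (Localization.Away (s * c₁)) := Algebra.Etale.comp A C _
  have : Algebra.Etale A T := Algebra.Etale.of_equiv (AlgEquiv.ofBijective e he)
  exact Algebra.Etale.of_equiv
    ((IsLocalization.algEquiv (.powers (f * b₀)) T (Localization.Away (f * b₀))).restrictScalars A)

end Groth.Agent.S2136
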