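import Groth.Statements.S2137
import Groth.Agent.CalgC.PCBase
import Groth.Agent.LoccohB.LBC2

set_option autoImplicit false
universe u
open CategoryTheory
attribute [local instance] HasDerivedCategory.standard
open CAlg

namespace Groth.Agent.S2137

open CategoryTheory CategoryTheory.Limits

/-- Extension of scalars of a finite free module is finite free. -/
lemma finite_free_extendScalars {A B : Type u} [CommRing A] [CommRing B] (φ : A →+* B) (M : ModuleCat.{u} A)
    (h : Module.Finite A M ∧ Module.Free A M) :
    Module.Finite B ((ModuleCat.extendScalars.{u, u, u} φ).obj M) ∧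
      Module.Free B ((ModuleCat.extendScalars.{u, u, u} φ).obj M) := by
  obtain ⟨h1, h2⟩ := h
  letI : Algebra A B := φ.toAlgebra
  exact ⟨inferInstanceAs (Module.Finite B (TensorProduct A B M)),
    inferInstanceAs (Module.Free B (TensorProduct A B M))⟩

/-- Stacks Tag 0650 (`m`-pseudo-coherent case): let `A → B` be a ring map and `K` an `m`-pseudo-coherent object of `D(A)`. Then `K ⊗^L_A B` is `m`-pseudo-coherent in
`D(B)`. (Stated assuming the total left derived functor of base change exists on `D(A)`, a fact not available as a library result here.) -/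
theorem result {A B : Type u} [CommRing A] [CommRing B] (φ : A →+* B) [DRing.HasLBaseChange φ]
    (K : Dual.D A) (m : ℤ) (hK : DRing.IsPseudoCoherent A m K) :
    DRing.IsPseudoCoherent B m ((DRing.LBaseChange φ).obj K) := by
  obtain ⟨E, a, b, α, hE1, hE2, hα⟩ := hK
  have : CochainComplex.IsStrictlyLE E b := by
    rw [CochainComplex.isStrictlyLE_iff]
    exact fun i hi => hE1 i (Or.inr hi)
  have : ∀ n, Projective (E.X n) := fun n => by
    have h := (hE2 n).2
    exact (IsProjective.iff_projective (R := A) (E.X n)).1 inferInstance
  have : CochainComplex.IsKProjective E := CochainComplex.isKProjective_of_projective E b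
  let e := Groth.Agent.LoccohB.LBC.lbcQIso φ E
  let E' : DRing.Cx B := ((ModuleCat.extendScalars.{u, u, u} φ).mapHomologicalComplex (ComplexShape.up ℤ)).obj E
  refine ⟨E', a, b, e.inv ≫ (DRing.LBaseChange φ).map α, ?_, ?_, ?_⟩
  · intro i hi
    exact (ModuleCat.extendScalars.{u, u, u} φ).map_isZero (hE1 i hi)
  · intro i
    exact finite_free_extendScalars φ (E.X i) (hE2 i)
  · have h := Groth.Agent.CalgC.PCBase.homology_conditions_map_of_adj (Groth.Agent.LoccohB.LBC.lbcAdj φ)
      (fun X n hX => Groth.Agent.CalgC.PCBase.isGE_mapDerivedCategory (ModuleCat.restrictScalars.{u} φ) X n)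
      α m hα
    exact Groth.Agent.CalgC.PCBase.homology_conditions_of_iso _ _ e (Iso.refl _) (by simp) m h

end Groth.Agent.S2137
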