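import Groth.Statements.S2138
import Mathlib.RingTheory.Flat.Localization
import Mathlib.RingTheory.LocalRing.ResidueField.Ideal
import Mathlib.LinearAlgebra.TensorProduct.Quotient
import Mathlib.RingTheory.Flat.Stability
import Mathlib.Algebra.Module.Torsion.Basic
import Mathlib.LinearAlgebra.Basis.VectorSpace

set_option autoImplicit false
universe u
open CAlg

namespace Groth.Agent.S2138

open TensorProduct

section

variable {R S : Type u} [CommRing R] [CommRing S] [Algebra R S]

/-- `t : S` acts injectively on `M ⊗[R] S`. -/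
def P (t : S) (M : Type u) [AddCommGroup M] [Module R M] : Prop :=
  Function.Injective (LinearMap.lTensor M (LinearMap.mulLeft R t))

lemma P_of_injective [Module.Flat R S] (t : S) {M N : Type u} [AddCommGroup M] [Module R M] [AddCommGroup N]
    [Module R N] (f : M →ₗ[R] N) (hf : Function.Injective f) (h : P (R := R) t N) : P (R := R) t M := by
  have h1 : Function.Injective (LinearMap.rTensor S f) := Module.Flat.rTensor_preserves_injective_linearMap f hf
  have h2 : Function.Injective (LinearMap.lTensor N (LinearMap.mulLeft R t) ∘ₗ LinearMap.rTensor S f) := by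
    rw [LinearMap.coe_comp]
    exact h.comp h1
  rw [LinearMap.lTensor_comp_rTensor, ← LinearMap.rTensor_comp_lTensor, LinearMap.coe_comp] at h2
  exact h2.of_comp

lemma P_of_exact [Module.Flat R S] (t : S) {M N L : Type u} [AddCommGroup M] [Module R M] [AddCommGroup N]
    [Module R N] [AddCommGroup L] [Module R L] (f : M →ₗ[R] N) (g : N →ₗ[R] L) (hf : Function.Injective f)
    (hfg : Function.Exact f g) (hM : P (R := R) t M) (hL : P (R := R) t L) : P (R := R) t N := by
  have h1 : Function.Injective (LinearMap.rTensor S f) := Module.Flat.rTensor_preserves_injective_linearMap f hf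
  have h2 : Function.Exact (LinearMap.rTensor S f) (LinearMap.rTensor S g) := Module.Flat.rTensor_exact S hfg
  unfold P
  rw [← LinearMap.ker_eq_bot, LinearMap.ker_eq_bot']
  intro z hz
  have h3 : LinearMap.lTensor L (LinearMap.mulLeft R t) (LinearMap.rTensor S g z) = 0 := by
    rw [← LinearMap.comp_apply, LinearMap.lTensor_comp_rTensor, ← LinearMap.rTensor_comp_lTensor,
      LinearMap.comp_apply, hz, map_zero]
  have h4 : LinearMap.rTensor S g z = 0 := hL (by rw [h3, map_zero])
  obtain ⟨y, rfl⟩ := (h2 z).1 h4
  have h5 : LinearMap.rTensor S f (LinearMap.lTensor M (LinearMap.mulLeft R t) y) = 0 := by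
    rw [← LinearMap.comp_apply, LinearMap.rTensor_comp_lTensor, ← LinearMap.lTensor_comp_rTensor,
      LinearMap.comp_apply, hz]
  have h6 : LinearMap.lTensor M (LinearMap.mulLeft R t) y = 0 := h1 (by rw [h5, map_zero])
  have h7 : y = 0 := hM (by rw [h6, map_zero])
  rw [h7, map_zero]

lemma one_tmul_eq_zero_iff (I : Ideal R) (x : S) :
    (1 : R ⧸ I) ⊗ₜ[R] x = 0 ↔ x ∈ I.map (algebraMap R S) := by
  rw [← (quotTensorEquivQuotSMul S I).map_eq_zero_iff, quotTensorEquivQuotSMul_mk_one_tmul,
    Submodule.Quotient.mk_eq_zero, Ideal.smul_top_eq_map]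
  rfl

lemma P_quot_iff (I : Ideal R) (t : S) :
    P (R := R) t (R ⧸ I) ↔ ∀ x, t * x ∈ I.map (algebraMap R S) → x ∈ I.map (algebraMap R S) := by
  unfold P
  rw [← LinearMap.ker_eq_bot, LinearMap.ker_eq_bot']
  constructor
  · intro h x hx
    rw [← one_tmul_eq_zero_iff] at hx ⊢
    apply h
    rw [LinearMap.lTensor_tmul]
    exact hx
  · intro h z hz
    obtain ⟨x, hx⟩ : ∃ x : S, z = (1 : R ⧸ I) ⊗ₜ[R] x := by
      obtain ⟨x, hx⟩ := Submodule.Quotient.mk_surjective _ (quotTensorEquivQuotSMul S I z)
      refine ⟨x, (quotTensorEquivQuotSMul S I).injective ?_⟩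
      rw [quotTensorEquivQuotSMul_mk_one_tmul, hx]
    subst hx
    rw [LinearMap.lTensor_tmul] at hz
    rw [one_tmul_eq_zero_iff]
    exact h x ((one_tmul_eq_zero_iff I _).1 hz)

lemma P_flat_quot (p : Ideal R) (t : S) (ht : P (R := R) t (R ⧸ p)) (V : Type u) [AddCommGroup V] [Module R V]
    [Module (R ⧸ p) V] [IsScalarTower R (R ⧸ p) V] [Module.Flat (R ⧸ p) V] : P (R := R) t V := by
  have h1 : Function.Injective (LinearMap.lTensor V ((LinearMap.mulLeft R t).baseChange (R ⧸ p))) :=
    Module.Flat.lTensor_preserves_injective_linearMap _ ht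
  let e := AlgebraTensorModule.cancelBaseChange R (R ⧸ p) (R ⧸ p) V S
  have h2 : ∀ z, LinearMap.lTensor V (LinearMap.mulLeft R t) (e z) =
      e (LinearMap.lTensor V ((LinearMap.mulLeft R t).baseChange (R ⧸ p)) z) := by
    intro z
    induction z with
    | zero => simp
    | add x y hx hy => simp only [map_add, hx, hy]
    | tmul v w =>
      induction w with
      | zero => simp
      | add x y hx hy => simp only [map_add, hx, hy, TensorProduct.tmul_add]
      | tmul a s =>
        simp [e]
  intro x y hxy
  have hx := h2 (e.symm x)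
  have hy := h2 (e.symm y)
  rw [e.apply_symm_apply] at hx hy
  rw [hx, hy] at hxy
  exact e.symm.injective (h1 (e.injective hxy))

lemma P_residueField (p : Ideal R) [p.IsPrime] (t : S) (ht : P (R := R) t (R ⧸ p)) (V : Type u) [AddCommGroup V]
    [Module R V] [Module p.ResidueField V] [IsScalarTower R p.ResidueField V] : P (R := R) t V := by
  let _ : Module (R ⧸ p) V := Module.compHom V (algebraMap (R ⧸ p) p.ResidueField)
  have : IsScalarTower (R ⧸ p) p.ResidueField V := ⟨fun a b v => by
    rw [Algebra.smul_def, mul_smul]; rfl⟩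
  have : IsScalarTower R (R ⧸ p) V := ⟨fun a b v => by
    show (algebraMap (R ⧸ p) p.ResidueField (a • b)) • v = a • ((algebraMap (R ⧸ p) p.ResidueField b) • v)
    rw [← smul_assoc]
    congr 1
    rw [Algebra.smul_def a b, map_mul, Algebra.smul_def]
    rfl⟩
  have : Module.Flat (R ⧸ p) p.ResidueField := IsLocalization.flat _ (nonZeroDivisors (R ⧸ p))
  have : Module.Flat (R ⧸ p) V := Module.Flat.trans (R ⧸ p) p.ResidueField V
  exact P_flat_quot p t ht V

lemma P_of_pow_smul [Module.Flat R S] (p : Ideal R) [p.IsPrime] (t : S) (ht : P (R := R) t (R ⧸ p)) (n : ℕ) :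
    ∀ (M : Type u) [AddCommGroup M] [Module R M] [Module (Localization.AtPrime p) M]
      [IsScalarTower R (Localization.AtPrime p) M],
      (∀ a ∈ IsLocalRing.maximalIdeal (Localization.AtPrime p) ^ n, ∀ x : M, a • x = 0) → P (R := R) t M := by
  induction n with
  | zero =>
    intro M _ _ _ _ h
    have : Subsingleton M := ⟨fun x y => by
      have hx := h 1 (by simp) x
      have hy := h 1 (by simp) y
      rw [one_smul] at hx hy
      rw [hx, hy]⟩
    have : Subsingleton (M ⊗[R] S) := inferInstance
    exact Function.injective_of_subsingleton _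
  | succ n ih =>
    intro M _ _ _ _ h
    let N : Submodule (Localization.AtPrime p) M := IsLocalRing.maximalIdeal (Localization.AtPrime p) • ⊤
    have hN : P (R := R) t N := by
      apply ih
      rintro a ha ⟨x, hx⟩
      apply Subtype.ext
      show a • x = 0
      refine Submodule.smul_induction_on hx ?_ ?_
      · intro b hb y _
        rw [smul_smul]
        apply h
        rw [pow_succ]
        exact Ideal.mul_mem_mul ha hb
      · intro y z hy hz
        rw [smul_add, hy, hz, add_zero]
    let modQ : Module (Localization.AtPrime p ⧸ IsLocalRing.maximalIdeal (Localization.AtPrime p)) (M ⧸ N) :=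
      (Module.isTorsionBySet_quotient_ideal_smul M (IsLocalRing.maximalIdeal (Localization.AtPrime p))).module
    let _ : Module p.ResidueField (M ⧸ N) := modQ
    have : IsScalarTower (Localization.AtPrime p) p.ResidueField (M ⧸ N) := ⟨fun a b v => by
      obtain ⟨b, rfl⟩ := Ideal.Quotient.mk_surjective b
      obtain ⟨v, rfl⟩ := Submodule.Quotient.mk_surjective _ v
      show (Submodule.Quotient.mk ((a * b) • v) : M ⧸ N) = a • Submodule.Quotient.mk (b • v)
      rw [mul_smul]; rfl⟩
    have : IsScalarTower R p.ResidueField (M ⧸ N) := by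
      refine ⟨fun a b v => ?_⟩
      rw [← algebraMap_smul (Localization.AtPrime p) a b, smul_assoc, algebraMap_smul]
    have hQ : P (R := R) t (M ⧸ N) := P_residueField p t ht _
    exact P_of_exact t (N.subtype.restrictScalars R) (N.mkQ.restrictScalars R) N.injective_subtype
      (LinearMap.exact_subtype_mkQ N) hN hQ

lemma P_quot_prime (p : Ideal R) (t : S) (hq : (p.map (algebraMap R S)).IsPrime) (ht : t ∉ p.map (algebraMap R S)) :
    P (R := R) t (R ⧸ p) := by
  rw [P_quot_iff]
  intro x hx
  exact (hq.mem_or_mem hx).resolve_left ht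

lemma algebraMap_notMem [Module.Flat R S] (p : Ideal R) [p.IsPrime] (hq : (p.map (algebraMap R S)).IsPrime) (s : R)
    (hs : s ∉ p) : algebraMap R S s ∉ p.map (algebraMap R S) := by
  intro h
  have h1 : Function.Injective (LinearMap.lsmul R (R ⧸ p) s) := by
    rw [← LinearMap.ker_eq_bot, LinearMap.ker_eq_bot']
    intro x hx
    obtain ⟨x, rfl⟩ := Ideal.Quotient.mk_surjective x
    have hx' : Ideal.Quotient.mk p (s * x) = 0 := hx
    rw [Ideal.Quotient.eq_zero_iff_mem] at hx' ⊢
    exact (Ideal.IsPrime.mem_or_mem inferInstance hx').resolve_left hs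
  have h2 : Function.Injective (LinearMap.rTensor S (LinearMap.lsmul R (R ⧸ p) s)) :=
    Module.Flat.rTensor_preserves_injective_linearMap _ h1
  have h3 : LinearMap.rTensor S (LinearMap.lsmul R (R ⧸ p) s) (1 ⊗ₜ 1) = 0 := by
    rw [LinearMap.rTensor_tmul, LinearMap.lsmul_apply, TensorProduct.smul_tmul, Algebra.smul_def, mul_one,
      one_tmul_eq_zero_iff]
    exact h
  have h4 : (1 : R ⧸ p) ⊗ₜ[R] (1 : S) = 0 := h2 (by rw [h3, map_zero])
  rw [one_tmul_eq_zero_iff] at h4
  exact hq.ne_top ((Ideal.eq_top_iff_one _).2 h4)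

end

/-- Stacks Tag 0BC0: let `R → S` be flat and `𝔭` a prime of `R` whose extension `𝔮 = 𝔭S` is prime. Then for every `n` the extension to `S` of the symbolic power
`𝔭^{(n)}` (the contraction of `𝔭ⁿR_𝔭`) equals the symbolic power `𝔮^{(n)}`. -/
theorem result {R S : Type u} [CommRing R] [CommRing S] [Algebra R S] [Module.Flat R S]
    (p : Ideal R) [p.IsPrime] [(p.map (algebraMap R S)).IsPrime] (n : ℕ) :
    (((p ^ n).map (algebraMap R (Localization.AtPrime p))).comap (algebraMap R (Localization.AtPrime p))).map
        (algebraMap R S) =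
      (((p.map (algebraMap R S)) ^ n).map (algebraMap S (Localization.AtPrime (p.map (algebraMap R S))))).comap
        (algebraMap S (Localization.AtPrime (p.map (algebraMap R S)))) := by
  have hq : (p.map (algebraMap R S)).IsPrime := inferInstance
  apply le_antisymm
  · rw [Ideal.map_le_iff_le_comap]
    intro r hr
    rw [Ideal.mem_comap, IsLocalization.algebraMap_mem_map_algebraMap_iff p.primeCompl] at hr
    obtain ⟨s, hs, hsr⟩ := hr
    rw [Ideal.mem_comap, Ideal.mem_comap,
      IsLocalization.algebraMap_mem_map_algebraMap_iff (p.map (algebraMap R S)).primeCompl]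
    refine ⟨algebraMap R S s, algebraMap_notMem p hq s hs, ?_⟩
    rw [← map_mul, ← Ideal.map_pow]
    exact Ideal.mem_map_of_mem _ hsr
  · intro x hx
    rw [Ideal.mem_comap,
      IsLocalization.algebraMap_mem_map_algebraMap_iff (p.map (algebraMap R S)).primeCompl] at hx
    obtain ⟨t, ht, htx⟩ := hx
    rw [← Ideal.map_pow] at htx
    let A := Localization.AtPrime p
    let J : Ideal A := (p ^ n).map (algebraMap R A)
    have hP : P (R := R) t (A ⧸ J) := by
      refine P_of_pow_smul p t (P_quot_prime p t hq ht) n (A ⧸ J) ?_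
      intro a ha x
      obtain ⟨x, rfl⟩ := Ideal.Quotient.mk_surjective x
      show Ideal.Quotient.mk J (a * x) = 0
      rw [Ideal.Quotient.eq_zero_iff_mem]
      apply Ideal.mul_mem_right
      rw [← Localization.AtPrime.map_eq_maximalIdeal, ← Ideal.map_pow] at ha
      exact ha
    let f : (R ⧸ J.comap (algebraMap R A)) →ₗ[R] A ⧸ J :=
      Submodule.liftQ (J.comap (algebraMap R A)) ((J.mkQ.restrictScalars R) ∘ₗ Algebra.linearMap R A) (by
        intro r hr
        rw [LinearMap.mem_ker]
        show Ideal.Quotient.mk J (algebraMap R A r) = 0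
        rw [Ideal.Quotient.eq_zero_iff_mem]
        exact hr)
    have hf : Function.Injective f := by
      rw [← LinearMap.ker_eq_bot]
      apply Submodule.ker_liftQ_eq_bot
      intro r hr
      rw [LinearMap.mem_ker] at hr
      replace hr : Ideal.Quotient.mk J (algebraMap R A r) = 0 := hr
      rw [Ideal.Quotient.eq_zero_iff_mem] at hr
      exact hr
    have hP' := P_of_injective t f hf hP
    rw [P_quot_iff] at hP'
    apply hP'
    refine Ideal.map_mono ?_ htx
    exact Ideal.le_comap_map

end Groth.Agent.S2138
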