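import Groth.Statements.S2139
import Mathlib.RingTheory.Localization.AtPrime.Basic
import Mathlib.RingTheory.Localization.Integral
import Mathlib.RingTheory.IntegralClosure.IntegrallyClosed
import Mathlib.RingTheory.Ideal.MinimalPrime.Localization

set_option autoImplicit false
universe u
open CAlg

namespace Groth.Agent.S2139

section

variable {R : Type u} [CommRing R] (p : Ideal R) [p.IsPrime]

theorem algebraMap_isUnit [IsDomain (Localization.AtPrime p)] (f : nonZeroDivisors R) :
    IsUnit (algebraMap R (FractionRing (Localization.AtPrime p)) f) := by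
  rw [isUnit_iff_ne_zero]
  intro h
  rw [IsScalarTower.algebraMap_apply R (Localization.AtPrime p)
    (FractionRing (Localization.AtPrime p))] at h
  have h' : algebraMap R (Localization.AtPrime p) f = 0 :=
    IsFractionRing.injective (Localization.AtPrime p) (FractionRing (Localization.AtPrime p))
      (by rw [h, map_zero])
  rw [IsLocalization.map_eq_zero_iff p.primeCompl] at h'
  obtain ⟨m, hm⟩ := h'
  have : (m : R) = 0 := (mul_right_mem_nonZeroDivisors_eq_zero_iff f.2).1 hm
  exact m.2 (by rw [this]; exact p.zero_mem)

/-- The map from the total ring of fractions to the fraction field of a (domain) local ring. -/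
noncomputable def toFrac [IsDomain (Localization.AtPrime p)] :
    FractionRing R →+* FractionRing (Localization.AtPrime p) :=
  IsLocalization.lift (M := nonZeroDivisors R)
    (g := algebraMap R (FractionRing (Localization.AtPrime p))) (algebraMap_isUnit p)

theorem toFrac_algebraMap [IsDomain (Localization.AtPrime p)] (r : R) :
    toFrac p (algebraMap R (FractionRing R) r) =
      algebraMap R (FractionRing (Localization.AtPrime p)) r :=
  IsLocalization.lift_eq _ _

theorem toFrac_comp [IsDomain (Localization.AtPrime p)] :
    (toFrac p).comp (algebraMap R (FractionRing R)) =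
      algebraMap R (FractionRing (Localization.AtPrime p)) :=
  RingHom.ext (toFrac_algebraMap p)

end

theorem mp {R : Type u} [CommRing R]
    (h : ∀ (p : Ideal R) [p.IsPrime], IsDomain (Localization.AtPrime p) ∧
      IsIntegrallyClosed (Localization.AtPrime p)) :
    IsIntegrallyClosedIn R (FractionRing R) := by
  rw [isIntegrallyClosedIn_iff]
  refine ⟨IsFractionRing.injective R (FractionRing R), fun {x} hx => ?_⟩
  let I : Ideal R := Submodule.comap (LinearMap.toSpanSingleton R (FractionRing R) x)
    (LinearMap.range (Algebra.linearMap R (FractionRing R)))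
  have hI : ∀ r : R, r ∈ I ↔ ∃ b : R, algebraMap R (FractionRing R) b = r • x := by
    intro r
    simp [I]
  by_cases htop : I = ⊤
  · have : (1 : R) ∈ I := by rw [htop]; trivial
    obtain ⟨b, hb⟩ := (hI 1).1 this
    exact ⟨b, by rw [hb, one_smul]⟩
  · exfalso
    obtain ⟨p, hp, hIp⟩ := Ideal.exists_le_maximal I htop
    have hpp : p.IsPrime := hp.isPrime
    obtain ⟨hdom, hcl⟩ := h p
    obtain ⟨⟨a, f⟩, rfl⟩ := IsLocalization.mk'_surjective (nonZeroDivisors R) x
    set x := IsLocalization.mk' (FractionRing R) a f with hxdef
    have hy : IsIntegral R (toFrac p x) := by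
      obtain ⟨P, hP, hPx⟩ := hx
      refine ⟨P, hP, ?_⟩
      rw [← toFrac_comp p, ← Polynomial.hom_eval₂, hPx, map_zero]
    have hy' : IsIntegral (Localization.AtPrime p) (toFrac p x) := hy.tower_top
    obtain ⟨w, hw⟩ := IsIntegrallyClosed.isIntegral_iff.1 hy'
    obtain ⟨⟨b, t⟩, rfl⟩ := IsLocalization.mk'_surjective p.primeCompl w
    have e1 : algebraMap R (FractionRing R) f * x = algebraMap R (FractionRing R) a := by
      rw [hxdef]; exact IsLocalization.mk'_spec' _ _ _
    have e2 := congrArg (toFrac p) e1
    rw [map_mul, toFrac_algebraMap, toFrac_algebraMap, ← hw] at e2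
    have e3 : algebraMap R (Localization.AtPrime p) ((t : R) * a) =
        algebraMap R (Localization.AtPrime p) ((f : R) * b) := by
      apply IsFractionRing.injective (Localization.AtPrime p)
        (FractionRing (Localization.AtPrime p))
      rw [← IsScalarTower.algebraMap_apply, ← IsScalarTower.algebraMap_apply, map_mul, ← e2,
        map_mul, mul_left_comm]
      congr 1
      rw [IsScalarTower.algebraMap_apply R (Localization.AtPrime p)
        (FractionRing (Localization.AtPrime p)) (t : R), ← map_mul,
        IsScalarTower.algebraMap_apply R (Localization.AtPrime p)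
        (FractionRing (Localization.AtPrime p)) b]
      congr 1
      exact IsLocalization.mk'_spec' _ _ _
    rw [IsLocalization.eq_iff_exists p.primeCompl] at e3
    obtain ⟨s, hs⟩ := e3
    have hmem : (s : R) * (t : R) ∈ I := by
      rw [hI]
      refine ⟨(s : R) * b, ?_⟩
      have hfu : IsUnit (algebraMap R (FractionRing R) f) := IsLocalization.map_units _ f
      apply hfu.mul_left_cancel
      rw [Algebra.smul_def, mul_left_comm _ _ x, e1, ← map_mul, ← map_mul]
      congr 1
      rw [mul_assoc, hs]
      ring
    exact (mul_mem s.2 t.2 : (s : R) * (t : R) ∈ p.primeCompl) (hIp hmem)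

theorem exists_idem {R : Type u} [CommRing R] [IsReduced R] (hfin : (minimalPrimes R).Finite)
    (hcl : IsIntegrallyClosedIn R (FractionRing R)) {q : Ideal R} (hq : q ∈ minimalPrimes R) :
    ∃ c : R, c * c = c ∧ (1 - c) ∈ q ∧ ∀ x ∈ q, c * x = 0 := by
  classical
  have hqp : q.IsPrime := hq.1.1
  have hmin : ∀ i ∈ minimalPrimes R, i ≤ q → i = q := fun i hi hle =>
    le_antisymm hle (hq.2 hi.1 hle)
  have hzero : ∀ x : R, (∀ i ∈ minimalPrimes R, x ∈ i) → x = 0 := by
    intro x hx
    have h1 : x ∈ sInf (minimalPrimes R) := by
      rw [Submodule.mem_sInf]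
      exact hx
    rw [minimalPrimes, Ideal.sInf_minimalPrimes] at h1
    exact IsReduced.eq_zero x (mem_nilradical.1 h1)
  obtain ⟨a, haq, ha⟩ : ∃ a ∈ q, ∀ i ∈ minimalPrimes R, i ≠ q → a ∉ i := by
    have hnot : ¬ ∃ i ∈ (minimalPrimes R \ {q}), q ≤ i := by
      rintro ⟨i, hi, hle⟩
      exact hi.2 (le_antisymm (hi.1.2 hq.1 hle) hle)
    rw [← Ideal.subset_union_prime_finite (hfin.subset Set.sdiff_subset) (f := fun i => i) ⊤ ⊤
      (fun i hi _ _ => hi.1.1.1), Set.not_subset] at hnot
    obtain ⟨a, haq, ha⟩ := hnot
    simp only [Set.mem_iUnion, not_exists] at ha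
    exact ⟨a, haq, fun i hi hne => ha i ⟨hi, hne⟩⟩
  obtain ⟨b, hbq, hb⟩ : ∃ b ∉ q, ∀ i ∈ minimalPrimes R, i ≠ q → b ∈ i := by
    have hnot : ¬ (hfin.toFinset.erase q).inf id ≤ q := by
      intro hle
      obtain ⟨i, hi, hle'⟩ := (Ideal.IsPrime.inf_le' hqp).1 hle
      rw [Finset.mem_erase, Set.Finite.mem_toFinset] at hi
      exact hi.1 (hmin i hi.2 hle')
    obtain ⟨b, hb, hbq⟩ := Set.not_subset.1 hnot
    refine ⟨b, hbq, fun i hi hne => ?_⟩
    have : (hfin.toFinset.erase q).inf id ≤ i :=
      Finset.inf_le (f := id) (Finset.mem_erase.2 ⟨hne, (Set.Finite.mem_toFinset _).2 hi⟩)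
    exact this hb
  have hab : a * b = 0 := by
    apply hzero
    intro i hi
    by_cases h : i = q
    · rw [h]; exact q.mul_mem_right _ haq
    · exact i.mul_mem_left _ (hb i hi h)
  have habn : ∀ i ∈ minimalPrimes R, a + b ∉ i := by
    intro i hi h
    by_cases hiq : i = q
    · subst hiq
      exact hbq ((Ideal.add_mem_iff_right _ haq).1 h)
    · exact ha i hi hiq ((Ideal.add_mem_iff_left _ (hb i hi hiq)).1 h)
  have hreg : a + b ∈ nonZeroDivisors R := by
    rw [mem_nonZeroDivisors_iff_right]
    intro x hx
    apply hzero
    intro i hi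
    have : x * (a + b) ∈ i := by rw [hx]; exact i.zero_mem
    exact (hi.1.1.mem_or_mem this).resolve_right (habn i hi)
  have hinj := IsFractionRing.injective R (FractionRing R)
  let e : FractionRing R := IsLocalization.mk' (FractionRing R) b ⟨a + b, hreg⟩
  have he : algebraMap R (FractionRing R) (a + b) * e = algebraMap R (FractionRing R) b :=
    IsLocalization.mk'_spec' (FractionRing R) b (⟨a + b, hreg⟩ : nonZeroDivisors R)
  have hu : IsUnit (algebraMap R (FractionRing R) (a + b)) :=
    IsLocalization.map_units _ (⟨a + b, hreg⟩ : nonZeroDivisors R)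
  have hee : e * e = e := by
    apply hu.mul_left_cancel
    apply hu.mul_left_cancel
    have h1 : algebraMap R (FractionRing R) b * algebraMap R (FractionRing R) b =
        algebraMap R (FractionRing R) (a + b) * algebraMap R (FractionRing R) b := by
      rw [← map_mul, ← map_mul]
      congr 1
      linear_combination -hab
    linear_combination (algebraMap R (FractionRing R) (a + b) * e) * he +
      algebraMap R (FractionRing R) b * he + h1 - algebraMap R (FractionRing R) (a + b) * he
  have hint : IsIntegral R e := by
    refine ⟨Polynomial.X * (Polynomial.X - Polynomial.C 1),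
      Polynomial.monic_X.mul (Polynomial.monic_X_sub_C 1), ?_⟩
    rw [Polynomial.eval₂_mul, Polynomial.eval₂_sub, Polynomial.eval₂_X, Polynomial.eval₂_C,
      map_one, mul_sub, hee, mul_one, sub_self]
  obtain ⟨c, hc⟩ := IsIntegrallyClosedIn.isIntegral_iff.1 hint
  have hcb : (a + b) * c = b := by
    apply hinj
    rw [map_mul, hc, he]
  refine ⟨c, ?_, ?_, ?_⟩
  · apply hinj
    rw [map_mul, hc, hee]
  · have h1 : b * (1 - c) ∈ q := by
      have : b * (1 - c) = a * c := by linear_combination -hcb
      rw [this]
      exact q.mul_mem_right _ haq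
    exact (hqp.mem_or_mem h1).resolve_left hbq
  · intro x hx
    apply hzero
    intro i hi
    by_cases hiq : i = q
    · rw [hiq]; exact q.mul_mem_left _ hx
    · apply i.mul_mem_right
      have : (a + b) * c ∈ i := by rw [hcb]; exact hb i hi hiq
      exact (hi.1.1.mem_or_mem this).resolve_left (habn i hi)

theorem mpr {R : Type u} [CommRing R] [IsReduced R] (hfin : (minimalPrimes R).Finite)
    (hcl : IsIntegrallyClosedIn R (FractionRing R)) (p : Ideal R) [hp : p.IsPrime] :
    IsDomain (Localization.AtPrime p) ∧ IsIntegrallyClosed (Localization.AtPrime p) := by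
  obtain ⟨q, hq, hqp⟩ := Ideal.exists_minimalPrimes_le (bot_le : ⊥ ≤ p)
  have hqpr : q.IsPrime := hq.1.1
  obtain ⟨c, hcc, hcq, hc⟩ := exists_idem hfin hcl hq
  have hcp : c ∉ p := by
    intro h
    apply hp.ne_top
    rw [Ideal.eq_top_iff_one]
    have := p.add_mem (hqp hcq) h
    rwa [sub_add_cancel] at this
  have hcq' : c ∉ q := fun h => hcp (hqp h)
  have hker : ∀ x : R, algebraMap R (Localization.AtPrime p) x = 0 ↔ x ∈ q := by
    intro x
    rw [IsLocalization.map_eq_zero_iff p.primeCompl]
    constructor
    · rintro ⟨m, hm⟩
      have : (m : R) * x ∈ q := by rw [hm]; exact q.zero_mem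
      exact (hqpr.mem_or_mem this).resolve_left fun h => m.2 (hqp h)
    · intro hx
      exact ⟨⟨c, hcp⟩, hc x hx⟩
  have hdom : IsDomain (Localization.AtPrime p) := by
    have : NoZeroDivisors (Localization.AtPrime p) := by
      refine ⟨fun {z w} hzw => ?_⟩
      obtain ⟨⟨a, s⟩, rfl⟩ := IsLocalization.mk'_surjective p.primeCompl z
      obtain ⟨⟨b, t⟩, rfl⟩ := IsLocalization.mk'_surjective p.primeCompl w
      dsimp only at hzw ⊢
      rw [← IsLocalization.mk'_mul, IsLocalization.mk'_eq_zero_iff] at hzw
      obtain ⟨m, hm⟩ := hzw
      have : (m : R) * (a * b) ∈ q := by rw [hm]; exact q.zero_mem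
      have := (hqpr.mem_or_mem this).resolve_left fun h => m.2 (hqp h)
      rw [IsLocalization.mk'_eq_zero_iff, IsLocalization.mk'_eq_zero_iff]
      rcases hqpr.mem_or_mem this with h | h
      · exact Or.inl ⟨⟨c, hcp⟩, hc a h⟩
      · exact Or.inr ⟨⟨c, hcp⟩, hc b h⟩
    exact NoZeroDivisors.to_isDomain _
  refine ⟨hdom, ?_⟩
  -- the key step: integral elements over `R` come from `R`
  have key : ∀ y : FractionRing (Localization.AtPrime p), IsIntegral R y →
      ∃ r : R, algebraMap R (FractionRing (Localization.AtPrime p)) r = y := by
    intro y hy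
    have hkerF : ∀ x : R, algebraMap R (FractionRing (Localization.AtPrime p)) x = 0 ↔ x ∈ q := by
      intro x
      rw [← hker, IsScalarTower.algebraMap_apply R (Localization.AtPrime p)
        (FractionRing (Localization.AtPrime p))]
      exact map_eq_zero_iff _ (IsFractionRing.injective (Localization.AtPrime p)
        (FractionRing (Localization.AtPrime p)))
    have hcF : algebraMap R (FractionRing (Localization.AtPrime p)) c = 1 := by
      have := (hkerF _).2 hcq
      rw [map_sub, map_one, sub_eq_zero] at this
      exact this.symm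
    -- surjectivity of `toFrac`
    have hsurj : ∃ x : FractionRing R, toFrac p x = y := by
      obtain ⟨⟨w, v⟩, rfl⟩ := IsLocalization.mk'_surjective
        (nonZeroDivisors (Localization.AtPrime p)) y
      obtain ⟨⟨a, s⟩, rfl⟩ := IsLocalization.mk'_surjective p.primeCompl w
      obtain ⟨⟨b, t⟩, hv⟩ := IsLocalization.mk'_surjective p.primeCompl
        (v : Localization.AtPrime p)
      dsimp only at hv ⊢
      have hb : b ∉ q := by
        intro h
        apply nonZeroDivisors.coe_ne_zero v
        rw [← hv, IsLocalization.mk'_eq_zero_iff]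
        exact ⟨⟨c, hcp⟩, hc b h⟩
      have hbs : b * (s : R) ∉ q := fun h =>
        (hqpr.mem_or_mem h).elim hb fun h' => s.2 (hqp h')
      have hf : c * (b * s) + (1 - c) ∈ nonZeroDivisors R := by
        rw [mem_nonZeroDivisors_iff_right]
        intro x hx
        have h1 : (1 - c) * x = 0 := by
          have : (1 - c) * (x * (c * (b * s) + (1 - c))) = 0 := by rw [hx, mul_zero]
          linear_combination this - (x * (b * s) * (-1) + x) * hcc
        have h2 : x * c ∈ q := by
          have h3 : (b * s) * (x * c) ∈ q := by
            have : c * (x * (c * (b * s) + (1 - c))) = 0 := by rw [hx, mul_zero]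
            have h4 : (b * s) * (x * c) = 0 := by
              linear_combination this - (x * (b * s) - x) * hcc
            rw [h4]
            exact q.zero_mem
          exact (hqpr.mem_or_mem h3).resolve_left hbs
        have h5 := hc _ h2
        linear_combination h1 + h5 - x * hcc
      refine ⟨IsLocalization.mk' _ (a * t) ⟨_, hf⟩, ?_⟩
      have hbF : algebraMap R (FractionRing (Localization.AtPrime p)) (c * (b * s) + (1 - c)) =
          algebraMap R (FractionRing (Localization.AtPrime p)) (b * s) := by
        rw [map_add, map_sub, map_one, map_mul, hcF, one_mul, sub_self, add_zero]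
      have e1 : algebraMap R (FractionRing (Localization.AtPrime p)) (b * s) *
          toFrac p (IsLocalization.mk' _ (a * t) ⟨_, hf⟩) =
          algebraMap R (FractionRing (Localization.AtPrime p)) (a * t) := by
        rw [← hbF, ← toFrac_algebraMap, ← map_mul, ← toFrac_algebraMap]
        congr 1
        exact IsLocalization.mk'_spec' (FractionRing R) (a * t)
          (⟨_, hf⟩ : nonZeroDivisors R)
      have hne : algebraMap R (FractionRing (Localization.AtPrime p)) (b * s) ≠ 0 := by
        rw [Ne, hkerF]
        exact hbs
      apply mul_left_cancel₀ hne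
      rw [e1]
      have sa : algebraMap R (Localization.AtPrime p) s *
          IsLocalization.mk' (Localization.AtPrime p) a s =
            algebraMap R (Localization.AtPrime p) a := IsLocalization.mk'_spec' _ _ _
      have sb : algebraMap R (Localization.AtPrime p) t * (v : Localization.AtPrime p) =
          algebraMap R (Localization.AtPrime p) b := by
        rw [← hv]; exact IsLocalization.mk'_spec' _ _ _
      have e2 : algebraMap R (Localization.AtPrime p) (b * s) *
          IsLocalization.mk' _ a s = (v : Localization.AtPrime p) *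
            algebraMap R (Localization.AtPrime p) (a * t) := by
        rw [map_mul, map_mul, mul_assoc, sa, ← sb]; ring
      have hvu : IsUnit (algebraMap (Localization.AtPrime p)
          (FractionRing (Localization.AtPrime p)) v) := IsLocalization.map_units _ v
      apply hvu.mul_left_cancel
      rw [IsScalarTower.algebraMap_apply R (Localization.AtPrime p)
        (FractionRing (Localization.AtPrime p)) (a * t), ← map_mul, ← e2, map_mul,
        ← IsScalarTower.algebraMap_apply, mul_left_comm, IsLocalization.mk'_spec']
    obtain ⟨x₀, hx₀⟩ := hsurj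
    set x := algebraMap R (FractionRing R) c * x₀ with hx
    have hcx : algebraMap R (FractionRing R) c * x = x := by
      rw [hx, ← mul_assoc, ← map_mul, hcc]
    have hgx : toFrac p x = y := by
      rw [hx, map_mul, toFrac_algebraMap, hcF, one_mul, hx₀]
    have hkerg : ∀ z : FractionRing R, toFrac p z = 0 → algebraMap R (FractionRing R) c * z = 0 := by
      intro z hz
      obtain ⟨⟨a, f⟩, rfl⟩ := IsLocalization.mk'_surjective (nonZeroDivisors R) z
      dsimp only at hz ⊢
      have hfu : IsUnit (algebraMap R (FractionRing R) f) := IsLocalization.map_units _ f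
      have ha : a ∈ q := by
        rw [← hkerF, ← toFrac_algebraMap, ← IsLocalization.mk'_spec' (FractionRing R) a f, map_mul,
          hz, mul_zero]
      apply hfu.mul_left_cancel
      rw [mul_zero, mul_left_comm, IsLocalization.mk'_spec', ← map_mul, hc a ha, map_zero]
    have hxint : IsIntegral R x := by
      obtain ⟨P, hP, hPy⟩ := hy
      refine ⟨Polynomial.X * P, Polynomial.monic_X.mul hP, ?_⟩
      have h0 : toFrac p (Polynomial.eval₂ (algebraMap R (FractionRing R)) x P) = 0 := by
        rw [Polynomial.hom_eval₂, toFrac_comp, hgx, hPy]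
      rw [Polynomial.eval₂_mul, Polynomial.eval₂_X]
      calc x * Polynomial.eval₂ (algebraMap R (FractionRing R)) x P
          = (algebraMap R (FractionRing R) c * x) *
              Polynomial.eval₂ (algebraMap R (FractionRing R)) x P := by rw [hcx]
        _ = x * (algebraMap R (FractionRing R) c *
              Polynomial.eval₂ (algebraMap R (FractionRing R)) x P) := by ring
        _ = 0 := by rw [hkerg _ h0, mul_zero]
    obtain ⟨r, hr⟩ := IsIntegrallyClosedIn.isIntegral_iff.1 hxint
    exact ⟨r, by rw [← toFrac_algebraMap, hr, hgx]⟩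
  rw [isIntegrallyClosed_iff (FractionRing (Localization.AtPrime p))]
  intro y hy
  obtain ⟨m, hm⟩ := IsIntegral.exists_multiple_integral_of_isLocalization p.primeCompl y hy
  obtain ⟨r, hr⟩ := key _ hm
  refine ⟨IsLocalization.mk' _ r m, ?_⟩
  have hmu : IsUnit (algebraMap R (FractionRing (Localization.AtPrime p)) m) := by
    rw [IsScalarTower.algebraMap_apply R (Localization.AtPrime p)
        (FractionRing (Localization.AtPrime p))]
    exact (IsLocalization.map_units _ m).map _
  apply hmu.mul_left_cancel
  rw [IsScalarTower.algebraMap_apply R (Localization.AtPrime p)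
        (FractionRing (Localization.AtPrime p)), ← map_mul, IsLocalization.mk'_spec',
        ← IsScalarTower.algebraMap_apply, hr, Submonoid.smul_def, Algebra.smul_def,
        ← IsScalarTower.algebraMap_apply]

/-- Stacks Tag 030C, (1) iff (2): let `R` be a reduced ring with finitely many minimal primes. Then every localization of `R` at a prime is an integrally closed domain if and
only if `R` is integrally closed in its total ring of fractions. -/
theorem result {R : Type u} [CommRing R] [IsReduced R] (hfin : (minimalPrimes R).Finite) :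
    (∀ (p : Ideal R) [p.IsPrime], IsDomain (Localization.AtPrime p) ∧ IsIntegrallyClosed (Localization.AtPrime p)) ↔
      IsIntegrallyClosedIn R (FractionRing R) :=
  ⟨fun h => mp h, fun h p _ => mpr hfin h p⟩

end Groth.Agent.S2139
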