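import Groth.Statements.S2140
import Mathlib.RingTheory.Localization.Away.AdjoinRoot
-- import your own Groth.Agent.* helpers here

set_option autoImplicit false
universe u
open CAlg

namespace Groth.Agent.S2140

open Polynomial in
/-- elements of an ideal of `A[X]` are, up to powers of the leading coefficient, multiples of an
element of minimal degree. -/
theorem exists_pow_mul_eq {A : Type*} [CommRing A] [IsDomain A] (q : Ideal A[X]) (p : A[X])
    (hp : p ∈ q) (hp0 : p ≠ 0) (hmin : ∀ r ∈ q, r ≠ 0 → p.natDegree ≤ r.natDegree) :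
    ∀ (n : ℕ) (r : A[X]), r ∈ q → r.natDegree < n →
      ∃ (N : ℕ) (v : A[X]), C p.leadingCoeff ^ N * r = v * p := by
  intro n
  induction n with
  | zero => intro r _ h; omega
  | succ n ih =>
    intro r hr hrn
    by_cases hr0 : r = 0
    · exact ⟨0, 0, by simp [hr0]⟩
    have hdeg := hmin r hr hr0
    have hlc : p.leadingCoeff ≠ 0 := leadingCoeff_ne_zero.mpr hp0
    set t : A[X] := C (r.leadingCoeff) * X ^ (r.natDegree - p.natDegree) * p with ht
    set r' : A[X] := C p.leadingCoeff * r - t with hr'
    have hr'q : r' ∈ q := q.sub_mem (q.mul_mem_left _ hr) (q.mul_mem_left _ hp)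
    have hrl : r.leadingCoeff ≠ 0 := leadingCoeff_ne_zero.mpr hr0
    have hCr : C p.leadingCoeff * r ≠ 0 := mul_ne_zero (by simpa using hp0) hr0
    have hd1 : (C p.leadingCoeff * r).natDegree = r.natDegree := natDegree_C_mul hlc
    have ht0 : t ≠ 0 := by
      refine mul_ne_zero (mul_ne_zero ?_ ?_) hp0
      · simpa using hr0
      · exact pow_ne_zero _ X_ne_zero
    have hd2 : t.natDegree = r.natDegree := by
      rw [ht, mul_assoc, natDegree_C_mul hrl, natDegree_X_pow_mul _ hp0]
      omega
    have hlc2 : (C p.leadingCoeff * r).leadingCoeff = t.leadingCoeff := by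
      rw [ht, leadingCoeff_mul, leadingCoeff_mul, leadingCoeff_mul, leadingCoeff_C, leadingCoeff_C,
        leadingCoeff_X_pow]
      ring
    have hdl : r'.degree < (C p.leadingCoeff * r).degree := by
      refine degree_sub_lt_left ?_ hCr hlc2
      rw [degree_eq_natDegree hCr, degree_eq_natDegree ht0, hd1, hd2]
    by_cases hr'0 : r' = 0
    · refine ⟨1, C (r.leadingCoeff) * X ^ (r.natDegree - p.natDegree), ?_⟩
      rw [pow_one]
      exact sub_eq_zero.mp hr'0
    have hnd : r'.natDegree < r.natDegree := by
      rw [← hd1]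
      exact natDegree_lt_natDegree hr'0 hdl
    obtain ⟨N, v, hv⟩ := ih r' hr'q (by omega)
    refine ⟨N + 1, v + C p.leadingCoeff ^ N * (C (r.leadingCoeff) *
      X ^ (r.natDegree - p.natDegree)), ?_⟩
    have : C p.leadingCoeff ^ (N + 1) * r = C p.leadingCoeff ^ N * (r' + t) := by
      rw [hr', sub_add_cancel]; ring
    rw [this, mul_add, hv, ht]
    ring

open Polynomial in
/-- a ring generated by one element over a domain becomes finitely presented after inverting a
nonzero element of the base. -/
theorem one_gen {A B : Type u} [CommRing A] [IsDomain A] [CommRing B] [Algebra A B] (b : B)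
    (hb : Algebra.adjoin A {b} = ⊤) :
    ∃ h : A, h ≠ 0 ∧ ∀ h' : A, h ∣ h' → ∀ (Bh : Type u) [CommRing Bh] [Algebra B Bh]
      [Algebra A Bh] [IsScalarTower A B Bh] [IsLocalization.Away (algebraMap A B h') Bh],
      Algebra.FinitePresentation A Bh := by
  have hsurj : Function.Surjective (aeval b : A[X] →ₐ[A] B) := by
    rw [← AlgHom.range_eq_top, ← Algebra.adjoin_singleton_eq_range_aeval, hb]
  by_cases hq : RingHom.ker (aeval b : A[X] →ₐ[A] B) = ⊥
  · refine ⟨1, one_ne_zero, ?_⟩
    intro h' _ Bh _ _ _ _ _
    have hinj : Function.Injective (aeval b : A[X] →ₐ[A] B) :=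
      (RingHom.injective_iff_ker_eq_bot _).mpr hq
    have : Algebra.FinitePresentation A B :=
      Algebra.FinitePresentation.equiv (AlgEquiv.ofBijective _ ⟨hinj, hsurj⟩)
    exact Algebra.FinitePresentation.of_isLocalizationAway (algebraMap A B h')
  · obtain ⟨p0, hp0, hp0'⟩ := Submodule.exists_mem_ne_zero_of_ne_bot hq
    let P : ℕ → Prop := fun n => ∃ p ∈ RingHom.ker (aeval b : A[X] →ₐ[A] B), p ≠ 0 ∧ p.natDegree = n
    have hP : ∃ n, P n := ⟨_, p0, hp0, hp0', rfl⟩
    classical
    obtain ⟨p, hpq, hpne, hpn⟩ := Nat.find_spec hP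
    have hmin : ∀ r ∈ RingHom.ker (aeval b : A[X] →ₐ[A] B), r ≠ 0 → p.natDegree ≤ r.natDegree := by
      intro r hr hr0
      rw [hpn]
      exact Nat.find_min' hP ⟨r, hr, hr0, rfl⟩
    refine ⟨p.leadingCoeff, leadingCoeff_ne_zero.mpr hpne, ?_⟩
    intro h' hh' Bh _ _ _ _ _
    obtain ⟨w, hw⟩ := hh'
    let I : Ideal A[X] := Ideal.span {p}
    let φ : A[X] ⧸ I →ₐ[A] B := Ideal.Quotient.liftₐ I (aeval b) (by
      intro a ha
      rw [Ideal.mem_span_singleton'] at ha
      obtain ⟨c, rfl⟩ := ha
      rw [map_mul, (RingHom.mem_ker).mp hpq, mul_zero])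
    have hφ : ∀ x : A[X], φ (Ideal.Quotient.mk I x) = aeval b x := fun x => rfl
    have hφs : Function.Surjective φ := by
      intro y
      obtain ⟨x, rfl⟩ := hsurj y
      exact ⟨Ideal.Quotient.mk I x, rfl⟩
    have hI : I.FG := ⟨{p}, by simp [I]⟩
    have : Algebra.FinitePresentation A (A[X] ⧸ I) := Algebra.FinitePresentation.quotient hI
    let algC : Algebra (A[X] ⧸ I) Bh := ((algebraMap B Bh).comp φ.toRingHom).toAlgebra
    have halg : ∀ x, algebraMap (A[X] ⧸ I) Bh x = algebraMap B Bh (φ x) := fun x => rfl
    have tow : IsScalarTower A (A[X] ⧸ I) Bh := by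
      refine IsScalarTower.of_algebraMap_eq (R := A) (S := A[X] ⧸ I) (A := Bh) ?_
      intro x
      rw [halg, φ.commutes, ← IsScalarTower.algebraMap_apply A B Bh]
    have hloc : IsLocalization.Away (algebraMap A (A[X] ⧸ I) h') Bh := by
      refine IsLocalization.Away.mk _ ?_ ?_ ?_
      · rw [halg, φ.commutes]
        exact IsLocalization.Away.algebraMap_isUnit _
      · intro s
        obtain ⟨n, a, ha⟩ := IsLocalization.Away.surj (algebraMap A B h') s
        obtain ⟨c, rfl⟩ := hφs a
        refine ⟨n, c, ?_⟩
        rw [halg, halg, φ.commutes, ha]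
      · intro x y hxy
        rw [halg, halg] at hxy
        obtain ⟨n, hn⟩ := IsLocalization.Away.exists_of_eq (algebraMap A B h') hxy
        obtain ⟨x, rfl⟩ := Ideal.Quotient.mk_surjective x
        obtain ⟨y, rfl⟩ := Ideal.Quotient.mk_surjective y
        have h1 : C h' ^ n * (x - y) ∈ RingHom.ker (aeval b : A[X] →ₐ[A] B) := by
          rw [RingHom.mem_ker, map_mul, map_pow, aeval_C, map_sub, mul_sub, sub_eq_zero]
          rw [hφ, hφ] at hn
          exact hn
        obtain ⟨N, v, hv⟩ := exists_pow_mul_eq _ p hpq hpne hmin _ _ h1 (Nat.lt_succ_self _)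
        refine ⟨N + n, ?_⟩
        have h2 : C h' ^ (N + n) * (x - y) = (C w ^ N * v) * p := by
          have : C h' ^ (N + n) * (x - y) =
              C w ^ N * (C p.leadingCoeff ^ N * (C h' ^ n * (x - y))) := by
            rw [pow_add]
            nth_rewrite 1 [hw]
            rw [C_mul]
            ring
          rw [this, hv]
          ring
        have h3 : Ideal.Quotient.mk I (C h' ^ (N + n) * (x - y)) = 0 := by
          rw [Ideal.Quotient.eq_zero_iff_mem, h2]
          exact Ideal.mul_mem_left _ _ (Ideal.subset_span rfl)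
        rw [map_mul, map_sub, mul_sub, sub_eq_zero, map_pow] at h3
        exact h3
    exact Algebra.FinitePresentation.of_isLocalizationAway (algebraMap A (A[X] ⧸ I) h')

theorem main_aux {R S : Type u} [CommRing R] [CommRing S] [IsDomain S]
    [Algebra R S] (hinj : Function.Injective (algebraMap R S)) (s : Finset S) :
    ∃ g : Algebra.adjoin R (s : Set S), g ≠ 0 ∧
      Algebra.FinitePresentation R (Localization.Away g) := by
  classical
  induction s using Finset.induction_on with
  | empty =>
    refine ⟨1, one_ne_zero, ?_⟩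
    have h1 : Algebra.FinitePresentation R (⊥ : Subalgebra R S) :=
      Algebra.FinitePresentation.equiv (Algebra.botEquivOfInjective hinj).symm
    have h2 : Algebra.FinitePresentation R (Algebra.adjoin R ((∅ : Finset S) : Set S)) := by
      rw [Finset.coe_empty, Algebra.adjoin_empty]
      exact h1
    infer_instance
  | insert a s ha ih =>
    obtain ⟨g, hg0, hg⟩ := ih
    let A := Algebra.adjoin R (s : Set S)
    let B := Algebra.adjoin R ((insert a s : Finset S) : Set S)
    have hAB : A ≤ B := Algebra.adjoin_mono (by simp)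
    let _ : Algebra A B := (Subalgebra.inclusion hAB).toAlgebra
    have halg : ∀ x : A, algebraMap A B x = ⟨x, hAB x.2⟩ := fun x => rfl
    have towRAB : IsScalarTower R A B := IsScalarTower.of_algebraMap_eq (fun x => rfl)
    have haB : a ∈ B := Algebra.subset_adjoin (by simp)
    let b : B := ⟨a, haB⟩
    have hb : Algebra.adjoin A {b} = ⊤ := by
      rw [eq_top_iff]
      rintro ⟨x, hx⟩ -
      induction hx using Algebra.adjoin_induction with
      | mem x hx =>
        rcases Finset.mem_insert.mp (Finset.mem_coe.mp hx) with rfl | hxs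
        · exact Algebra.subset_adjoin rfl
        · have : (⟨x, Algebra.subset_adjoin hx⟩ : B) =
              algebraMap A B ⟨x, Algebra.subset_adjoin hxs⟩ := rfl
          rw [this]
          exact Subalgebra.algebraMap_mem _ _
      | algebraMap r =>
        have : (⟨algebraMap R S r, algebraMap_mem _ _⟩ : B) = algebraMap A B (algebraMap R A r) :=
          rfl
        rw [this]
        exact Subalgebra.algebraMap_mem _ _
      | add x y hx hy h1 h2 => exact add_mem h1 h2
      | mul x y hx hy h1 h2 => exact mul_mem h1 h2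
    obtain ⟨h, hh0, hh⟩ := one_gen b hb
    have hABinj : Function.Injective (algebraMap A B) := Subalgebra.inclusion_injective hAB
    refine ⟨algebraMap A B (g * h), ?_, ?_⟩
    · rw [Ne, ← map_zero (algebraMap A B)]
      exact fun e => mul_ne_zero hg0 hh0 (hABinj e)
    let B' := Localization.Away (algebraMap A B (g * h))
    have hfp1 : Algebra.FinitePresentation A B' := hh (g * h) (Dvd.intro_left g rfl) B'
    have hu : IsUnit (algebraMap A B' g) := by
      rw [IsScalarTower.algebraMap_apply A B B']
      refine IsLocalization.Away.isUnit_of_dvd (algebraMap A B (g * h)) ?_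
      rw [map_mul]
      exact Dvd.intro _ rfl
    let _ : Algebra (Localization.Away g) B' := (IsLocalization.Away.lift g hu).toAlgebra
    have tow1 : IsScalarTower A (Localization.Away g) B' := by
      refine IsScalarTower.of_algebraMap_eq ?_
      intro x
      exact (IsLocalization.Away.lift_eq g hu x).symm
    have tow2 : IsScalarTower R (Localization.Away g) B' := by
      refine IsScalarTower.of_algebraMap_eq ?_
      intro x
      rw [IsScalarTower.algebraMap_apply R A B', IsScalarTower.algebraMap_apply R A (Localization.Away g),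
        ← IsScalarTower.algebraMap_apply A (Localization.Away g) B']
    have hfp2 : Algebra.FinitePresentation (Localization.Away g) B' :=
      Algebra.FinitePresentation.of_restrict_scalars_finitePresentation A (Localization.Away g) B'
    exact Algebra.FinitePresentation.trans R (Localization.Away g) B'

/-- Stacks Tag 00FG: let `R → S` be an injective ring map of finite type between domains. Then there are nonzero `f ∈ R` and `g ∈ S` such that `S_{fg}` is a finitely
presented `R_f`-algebra. -/
theorem result {R S : Type u} [CommRing R] [IsDomain R] [CommRing S] [IsDomain S]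
    [Algebra R S] [Algebra.FiniteType R S] (hinj : Function.Injective (algebraMap R S)) :
    ∃ (f : R) (g : S), f ≠ 0 ∧ g ≠ 0 ∧
      ∀ (Rf Sfg : Type u) [CommRing Rf] [CommRing Sfg] [Algebra R Rf] [IsLocalization.Away f Rf]
        [Algebra S Sfg] [IsLocalization.Away (algebraMap R S f * g) Sfg] [Algebra Rf Sfg] [Algebra R Sfg]
        [IsScalarTower R S Sfg] [IsScalarTower R Rf Sfg], Algebra.FinitePresentation Rf Sfg := by
  obtain ⟨s, hs⟩ := (inferInstance : Algebra.FiniteType R S).out
  obtain ⟨g, hg0, hg⟩ := main_aux hinj s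
  refine ⟨1, (g : S), one_ne_zero, by simpa using hg0, ?_⟩
  intro Rf Sfg _ _ _ _ _ _ _ _ _ _
  have hft : Algebra.FiniteType R Rf := by
    have : Algebra.FinitePresentation R Rf := IsLocalization.Away.finitePresentation (1 : R)
    infer_instance
  let A := Algebra.adjoin R (s : Set S)
  have hAtop : A = ⊤ := hs
  let e : A ≃ₐ[R] S := (Subalgebra.equivOfEq _ _ hAtop).trans Subalgebra.topEquiv
  have he : ∀ x : A, e x = (x : S) := fun x => rfl
  have halg : ∀ x : A, algebraMap A Sfg x = algebraMap S Sfg (x : S) := fun x => rfl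
  have tow : IsScalarTower R A Sfg := by
    refine IsScalarTower.of_algebraMap_eq (R := R) (S := A) (A := Sfg) ?_
    intro x
    rw [halg, IsScalarTower.algebraMap_apply R S Sfg]
    rfl
  have h1 : IsLocalization.Away (g : S) Sfg := by
    have : algebraMap R S 1 * (g : S) = (g : S) := by simp
    rw [← this]; infer_instance
  have h2 : IsLocalization.Away g Sfg := by
    refine IsLocalization.Away.mk _ ?_ ?_ ?_
    · rw [halg]
      exact IsLocalization.Away.algebraMap_isUnit _
    · intro z
      obtain ⟨n, a, ha⟩ := IsLocalization.Away.surj (g : S) z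
      obtain ⟨c, rfl⟩ := e.surjective a
      refine ⟨n, c, ?_⟩
      rw [halg, halg, ha, he]
    · intro x y hxy
      rw [halg, halg] at hxy
      obtain ⟨n, hn⟩ := IsLocalization.Away.exists_of_eq (g : S) hxy
      refine ⟨n, ?_⟩
      apply Subtype.ext
      simpa using hn
  have h3 : Algebra.FinitePresentation R Sfg := by
    let e' : Localization.Away g ≃ₐ[A] Sfg := IsLocalization.algEquiv (Submonoid.powers g) _ _
    exact Algebra.FinitePresentation.equiv (e'.restrictScalars R)
  exact Algebra.FinitePresentation.of_restrict_scalars_finitePresentation R Rf Sfg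

end Groth.Agent.S2140
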