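import Groth.Statements.S2145
-- import your own Groth.Agent.* helpers here
import Groth.Agent.CalgC.SpreadAlg

set_option autoImplicit false
universe u
open CAlg

namespace Groth.Agent.S2145

/-- Stacks Tag 00QS: let `S`, `S'` be finitely presented `R`-algebras and `𝔮 ⊆ S`, `𝔮' ⊆ S'` primes with `S_𝔮 ≅ S'_{𝔮'}` as `R`-algebras. Then `S_g ≅ S'_{g'}` as
`R`-algebras for some `g ∉ 𝔮`, `g' ∉ 𝔮'`. -/
theorem result {R S S' : Type u} [CommRing R] [CommRing S] [CommRing S'] [Algebra R S]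
    [Algebra R S'] [Algebra.FinitePresentation R S] [Algebra.FinitePresentation R S'] (q : Ideal S) [q.IsPrime]
    (q' : Ideal S') [q'.IsPrime] (e : Localization.AtPrime q ≃ₐ[R] Localization.AtPrime q') :
    ∃ (g : S) (g' : S'), g ∉ q ∧ g' ∉ q' ∧ Nonempty (Localization.Away g ≃ₐ[R] Localization.Away g') := by
  obtain ⟨g, g', hg, hg', ε, -⟩ := CalgC.SpreadAlg.exists_algEquiv_away q q' e
  exact ⟨g, g', hg, hg', ⟨ε⟩⟩

end Groth.Agent.S2145
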