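import Groth.Statements.S2146
-- import your own Groth.Agent.* helpers here
import Groth.Agent.CalgC.SpreadAlg

set_option autoImplicit false
universe u
open CAlg

namespace Groth.Agent.S2146

/-- Stacks Tag 00QR: let `S` be a finitely presented `R`-algebra and `𝔮` a prime of `S` over `𝔭` such that the induced map `R_𝔭 → S_𝔮` is bijective. Then for some `f ∉ 𝔭`
there is an `R_f`-algebra `C` with `S_f ≅ R_f × C` as `R_f`-algebras. -/
theorem result {R S : Type u} [CommRing R] [CommRing S] [Algebra R S]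
    [Algebra.FinitePresentation R S] (q : Ideal S) [q.IsPrime] (p : Ideal R) [p.IsPrime] [q.LiesOver p]
    (h : Function.Bijective (Localization.localRingHom p q (algebraMap R S) (q.over_def p))) :
    ∃ f : R, f ∉ p ∧ ∀ (Rf Sf : Type u) [CommRing Rf] [CommRing Sf] [Algebra R Rf] [IsLocalization.Away f Rf]
      [Algebra S Sf] [IsLocalization.Away (algebraMap R S f) Sf] [Algebra Rf Sf] [Algebra R Sf] [IsScalarTower R S Sf]
      [IsScalarTower R Rf Sf],
      ∃ (C : Type u) (_ : CommRing C) (_ : Algebra Rf C), Nonempty (Sf ≃ₐ[Rf] (Rf × C)) := by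
  obtain ⟨f, hf, t, ht, H⟩ := CalgC.SpreadAlg.exists_retraction (R := R) (S := S) q p h
  refine ⟨f, hf, ?_⟩
  intro Rf Sf _ _ _ _ _ _ _ _ _ _
  obtain ⟨ρ, hρu, hρ⟩ := H Rf
  have hfu : IsUnit (algebraMap R Rf f) := IsLocalization.Away.algebraMap_isUnit f
  -- extend ρ to Sf
  let ρ' : Sf →+* Rf := IsLocalization.Away.lift (S := Sf) (g := ρ.toRingHom) (algebraMap R S f)
    (by change IsUnit (ρ (algebraMap R S f)); rwa [AlgHom.commutes])
  have hρ' : ∀ x : S, ρ' (algebraMap S Sf x) = ρ x := fun x => IsLocalization.Away.lift_eq _ _ x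
  have hρ'R : ρ'.comp (algebraMap Rf Sf) = RingHom.id Rf := by
    apply IsLocalization.ringHom_ext (Submonoid.powers f)
    ext r
    simp only [RingHom.comp_apply, RingHom.id_apply]
    rw [← IsScalarTower.algebraMap_apply R Rf Sf, IsScalarTower.algebraMap_apply R S Sf, hρ', AlgHom.commutes]
  let ρ'' : Sf →ₐ[Rf] Rf := { ρ' with commutes' := fun r => congrArg (fun g => g r) hρ'R }
  have hρ'' : ∀ x : S, ρ'' (algebraMap S Sf x) = ρ x := hρ'
  refine CalgC.SpreadAlg.exists_equiv_prod ρ'' (algebraMap S Sf t) (by rwa [hρ'']) ?_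
  intro x hx
  obtain ⟨n, y, hy⟩ := IsLocalization.Away.surj (algebraMap R S f) x
  have h1 : ρ y = 0 := by
    rw [← hρ'', ← hy, map_mul, hx, zero_mul]
  have h2 := hρ Sf y
  rw [h1, map_zero, sub_zero, ← hy, ← mul_assoc] at h2
  have hfu' : IsUnit (algebraMap S Sf (algebraMap R S f)) := IsLocalization.Away.algebraMap_isUnit _
  exact (hfu'.pow n).mul_left_eq_zero.mp h2

end Groth.Agent.S2146
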