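import Groth.Statements.S2148
import Groth.Agent.CalgC.SepDiff

set_option autoImplicit false
universe u
open CAlg

namespace Groth.Agent.S2148

/-- Stacks Tag 031W: let `k` be a perfect field of characteristic `p > 0` and `K` an extension field of `k`. For `a ∈ K`, the differential `da` vanishes in `Ω_{K/k}`
if and only if `a` is a `p`-th power in `K`. -/
theorem result {k K : Type u} [Field k] [Field K] [Algebra k K] (p : ℕ) [Fact p.Prime]
    [CharP k p] [PerfectRing k p] (a : K) :
    KaehlerDifferential.D k K a = 0 ↔ ∃ b : K, b ^ p = a := by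
  have hK : CharP K p := charP_of_injective_algebraMap' k p
  constructor
  · intro h
    apply Groth.Agent.CalgC.SepDiff.exists_pow_eq_of_D_int_eq_zero (p := p)
    obtain ⟨y, hy⟩ := (KaehlerDifferential.exact_mapBaseChange_map ℤ k K
      (KaehlerDifferential.D ℤ K a)).mp (by rw [KaehlerDifferential.map_D]; exact h)
    have hsub : Subsingleton (KaehlerDifferential ℤ k) := by
      refine ⟨fun x y => ?_⟩
      suffices H : ∀ x : KaehlerDifferential ℤ k, x = 0 by rw [H x, H y]
      clear x y
      intro x
      have hx : x ∈ Submodule.span k (Set.range (KaehlerDifferential.D ℤ k)) := by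
        rw [KaehlerDifferential.span_range_derivation]; trivial
      refine Submodule.span_induction ?_ rfl ?_ ?_ hx
      · rintro _ ⟨b, rfl⟩
        obtain ⟨c, rfl⟩ := surjective_frobenius k p b
        exact Groth.Agent.CalgC.SepDiff.D_pow_char_eq_zero p _ c
      · rintro _ _ _ _ rfl rfl; exact add_zero _
      · rintro c _ _ rfl; exact smul_zero _
    have hy0 : y = 0 := Subsingleton.elim _ _
    rw [← hy, hy0, map_zero]
  · rintro ⟨b, rfl⟩
    exact Groth.Agent.CalgC.SepDiff.D_pow_char_eq_zero p _ b

end Groth.Agent.S2148
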