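import Groth.Statements.S2149
import Mathlib.RingTheory.Localization.BaseChange
import Mathlib.RingTheory.LocalProperties.Exactness

set_option autoImplicit false
universe u
open CAlg

namespace Groth.Agent.S2149

open TensorProduct

theorem map_rTensor {R S M M' Q : Type u} [CommRing R] [CommRing S] [Algebra R S]
    [AddCommGroup M] [Module S M] [Module R M] [IsScalarTower R S M] [AddCommGroup M'] [Module S M']
    [Module R M'] [IsScalarTower R S M'] [AddCommGroup Q] [Module R Q] (u : M →ₗ[S] M')
    (T : Submonoid S) :
    IsLocalizedModule.map T
      (AlgebraTensorModule.rTensor R Q (LocalizedModule.mkLinearMap T M))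
      (AlgebraTensorModule.rTensor R Q (LocalizedModule.mkLinearMap T M'))
      (AlgebraTensorModule.rTensor R Q u) =
    AlgebraTensorModule.rTensor R Q ((LocalizedModule.map T u).restrictScalars S) := by
  apply IsLocalizedModule.linearMap_ext T
    (AlgebraTensorModule.rTensor R Q (LocalizedModule.mkLinearMap T M))
    (AlgebraTensorModule.rTensor R Q (LocalizedModule.mkLinearMap T M'))
  rw [IsLocalizedModule.map_comp]
  ext m q
  simp [LocalizedModule.map_mk]

/-- Stacks Tag 05CL, (1) iff (3): let `R → S` be a ring map and `u : M → M'` a map of `S`-modules. Then `u` is universally injective as a map of `R`-modules if and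
only if for every maximal ideal `𝔪` of `S` the localized map `M_𝔪 → M'_𝔪` is universally injective as a map of `R`-modules. -/
theorem result {R S M M' : Type u} [CommRing R] [CommRing S] [Algebra R S]
    [AddCommGroup M] [Module S M] [Module R M] [IsScalarTower R S M] [AddCommGroup M'] [Module S M'] [Module R M']
    [IsScalarTower R S M'] (u : M →ₗ[S] M') :
    CAlgX.UniversallyInjective R (u.restrictScalars R) ↔
      ∀ (m : Ideal S) [m.IsMaximal],
        CAlgX.UniversallyInjective R ((LocalizedModule.map m.primeCompl u).restrictScalars R) := by
  constructor
  · intro h m hm Q _ _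
    have h1 : Function.Injective (AlgebraTensorModule.rTensor R Q u) := h Q
    have h2 := IsLocalizedModule.map_injective m.primeCompl
      (AlgebraTensorModule.rTensor R Q (LocalizedModule.mkLinearMap m.primeCompl M))
      (AlgebraTensorModule.rTensor R Q (LocalizedModule.mkLinearMap m.primeCompl M'))
      (AlgebraTensorModule.rTensor R Q u) h1
    rw [map_rTensor] at h2
    exact h2
  · intro h Q _ _
    have h1 : Function.Injective (AlgebraTensorModule.rTensor R Q u) := by
      refine injective_of_isLocalized_maximal _
        (fun P _ => AlgebraTensorModule.rTensor R Q (LocalizedModule.mkLinearMap P.primeCompl M)) _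
        (fun P _ => AlgebraTensorModule.rTensor R Q (LocalizedModule.mkLinearMap P.primeCompl M')) _
        (fun P hP => ?_)
      rw [map_rTensor]
      exact h P Q
    exact h1

end Groth.Agent.S2149
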