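import Groth.Statements.S2150
import Groth.Agent.CalgC.SepDisj
-- import your own Groth.Agent.* helpers here

set_option autoImplicit false
universe u
open CAlg

namespace Groth.Agent.S2150

open TensorProduct in
/-- Stacks Tag 0G33: for a field extension `K/k`, the spectrum of `k' ⊗_k K` is irreducible for every field extension `k'/k` (geometric irreducibility, extensions in the
same universe) if and only if every element of `K` which is separable algebraic over `k` lies in `k`. -/
theorem result {k K : Type u} [Field k] [Field K] [Algebra k K] :
    (∀ (k' : Type u) [Field k'] [Algebra k k'], IrreducibleSpace (PrimeSpectrum (k' ⊗[k] K))) ↔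
      ∀ α : K, IsSeparable k α → α ∈ Set.range (algebraMap k K) := by
  constructor
  · intro h α hα
    exact CalgC.SepDisj.mem_range_of_isSeparable
      ((PrimeSpectrum.irreducibleSpace_iff_isPrime_nilradical).1 (h K)) α hα
  · intro h k' _ _
    exact (PrimeSpectrum.irreducibleSpace_iff_isPrime_nilradical).2
      (CalgC.SepDisj.isPrime_nilradical_tensorProduct k' h)

end Groth.Agent.S2150
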