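import Groth.Statements.S2152
import Mathlib.AlgebraicGeometry.AffineTransitionLimit
-- import your own Groth.Agent.* helpers here

set_option autoImplicit false
universe u
open CategoryTheory AlgebraicGeometry
open Lim

namespace Groth.Agent.S2152

/-- A compatible family of points of a cofiltered diagram with affine transition maps is the family of
images of a point of the limit. -/
theorem exists_point {I : Type u} [SmallCategory I] [IsCofiltered I] (D : I ⥤ Scheme.{u})
    (c : Limits.Cone D) (hc : Limits.IsLimit c)
    (x : ∀ i, D.obj i) (hx : ∀ {i j : I} (f : i ⟶ j), D.map f (x i) = x j) :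
    ∃ s : c.pt, ∀ i, c.π.app i s = x i := by
  let mapD {i j : I} (f : i ⟶ j) : Spec ((D.obj i).residueField (x i)) ⟶ Spec ((D.obj j).residueField (x j)) :=
    Spec.map (((D.obj j).residueFieldCongr (hx f).symm).hom ≫ (D.map f).residueFieldMap (x i))
  have hmapD {i j : I} (f : i ⟶ j) : mapD f ≫ (D.obj j).fromSpecResidueField (x j) =
      (D.obj i).fromSpecResidueField (x i) ≫ D.map f := by
    simp only [mapD, Spec.map_comp, Category.assoc]
    rw [Scheme.residueFieldCongr_fromSpecResidueField, Scheme.Hom.SpecMap_residueFieldMap_fromSpecResidueField]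
  let D' : I ⥤ Scheme.{u} :=
    { obj i := Spec ((D.obj i).residueField (x i))
      map f := mapD f
      map_id i := by
        rw [← cancel_mono ((D.obj i).fromSpecResidueField (x i)), hmapD]
        simp
      map_comp {i j k} f g := by
        rw [← cancel_mono ((D.obj k).fromSpecResidueField (x k)), hmapD, Category.assoc, hmapD,
          ← Category.assoc, hmapD]
        simp }
  let ι : D' ⟶ D :=
    { app i := (D.obj i).fromSpecResidueField (x i)
      naturality i j f := hmapD f }
  have hι (i : I) (y : D'.obj i) : ι.app i y = x i := Scheme.fromSpecResidueField_apply _ _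
  have (i' : _) : IsAffine (D'.obj i') := inferInstanceAs (IsAffine (Spec _))
  let e : D' ⟶ (D' ⋙ Scheme.Γ.rightOp) ⋙ Scheme.Spec := Functor.whiskerLeft D' ΓSpec.adjunction.unit
  have (i : _) : IsIso (e.app i) := IsAffine.affine
  have : IsIso e := NatIso.isIso_of_isIso_app e
  let c' : Limits.LimitCone D' := ⟨_, (Limits.IsLimit.postcomposeInvEquiv (asIso e) _).symm
    (Limits.isLimitOfPreserves Scheme.Spec (Limits.limit.isLimit (D' ⋙ Scheme.Γ.rightOp)))⟩
  have : ∀ i, Nonempty (D'.obj i) := fun i => inferInstanceAs (Nonempty (PrimeSpectrum _))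
  have : ∀ i, CompactSpace (D'.obj i) := fun i => inferInstanceAs (CompactSpace (PrimeSpectrum _))
  obtain ⟨y⟩ := Scheme.nonempty_of_isLimit D' c'.1 c'.2
  let F : c'.1.pt ⟶ c.pt := hc.lift ((Limits.Cone.postcompose ι).obj c'.1)
  refine ⟨F y, fun i => ?_⟩
  rw [← Scheme.Hom.comp_apply]
  have : F ≫ c.π.app i = c'.1.π.app i ≫ ι.app i := hc.fac _ _
  rw [this, Scheme.Hom.comp_apply, hι]

/-- Points of a limit with the same images in all stages are equal. -/
theorem point_ext {I : Type u} [SmallCategory I] [IsCofiltered I] (D : I ⥤ Scheme.{u})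
    [∀ (i j : I) (f : i ⟶ j), IsAffineHom (D.map f)]
    (c : Limits.Cone D) (hc : Limits.IsLimit c) (s t : c.pt)
    (hst : ∀ i, c.π.app i s = c.π.app i t) : s = t := by
  apply Inseparable.eq
  rw [(isBasis_preimage_isAffineOpen D c hc).inseparable_iff]
  rintro _ ⟨_, ⟨i, V, hV, rfl⟩, rfl⟩
  simp [hst]

/-- Stacks Tag 0CUF: let `c` be a limit cone of a diagram of schemes indexed by a small cofiltered category with affine transition morphisms. Then the image of `c` under the
forgetful functor to topological spaces is a limit cone: the underlying space of the limit scheme is the limit of the underlying spaces. -/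
theorem result {I : Type u} [SmallCategory I] [IsCofiltered I] (D : I ⥤ Scheme.{u})
    [∀ (i j : I) (f : i ⟶ j), IsAffineHom (D.map f)] (c : Limits.Cone D) (hc : Limits.IsLimit c) :
    Nonempty (Limits.IsLimit (Scheme.forgetToTop.mapCone c)) := by
  obtain ⟨h⟩ : Nonempty (Limits.IsLimit ((CategoryTheory.forget TopCat).mapCone (Scheme.forgetToTop.mapCone c))) := by
    rw [Limits.Types.isLimit_iff]
    intro s hs
    obtain ⟨x, hx⟩ := exists_point D c hc (fun i => s i) (fun f => hs f)
    exact ⟨x, hx, fun y hy => point_ext D c hc _ _ fun i => (hy i).trans (hx i).symm⟩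
  rw [TopCat.nonempty_isLimit_iff_eq_induced _ h]
  apply le_antisymm
  · refine le_iInf fun i => ?_
    exact continuous_iff_le_induced.mp (c.π.app i).continuous
  · intro U hU
    obtain ⟨S, hS, hSU⟩ := (isBasis_preimage_isAffineOpen D c hc).open_eq_sUnion hU
    have key : ∀ V ∈ S, @IsOpen c.pt (⨅ j, TopologicalSpace.induced
        (fun x : c.pt => c.π.app j x) inferInstance) V := by
      intro V hV
      obtain ⟨_, ⟨i, W, hW, rfl⟩, rfl⟩ := hS hV
      exact iInf_le (fun j => TopologicalSpace.induced
        (fun x : c.pt => c.π.app j x) inferInstance) i _ ⟨W.1, W.isOpen, rfl⟩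
    rw [hSU]
    exact @isOpen_sUnion c.pt (⨅ j, TopologicalSpace.induced
        (fun x : c.pt => c.π.app j x) inferInstance) S key

end Groth.Agent.S2152
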