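import Groth.Statements.S2154
import Mathlib.AlgebraicGeometry.AffineTransitionLimit
-- import your own Groth.Agent.* helpers here

set_option autoImplicit false
universe u
open CategoryTheory AlgebraicGeometry
open Lim

namespace Groth.Agent.S2154

/-- Integrality can be tested on generators of an intermediate algebra. -/
theorem isIntegral_comp_of_generators {R A B : Type*} [CommRing R] [CommRing A] [CommRing B]
    (f : R →+* A) (g : A →+* B) (hg : g.IsIntegral) (s : Set A)
    (hs : @Algebra.adjoin R A _ _ f.toAlgebra s = ⊤)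
    (h : ∀ a ∈ s, (g.comp f).IsIntegralElem (g a)) : (g.comp f).IsIntegral := by
  let _ := f.toAlgebra
  let _ := g.toAlgebra
  let _ := (g.comp f).toAlgebra
  have : IsScalarTower R A B := IsScalarTower.of_algebraMap_eq' rfl
  have key : ∀ a : A, IsIntegral R (g a) := by
    intro a
    have ha : a ∈ Algebra.adjoin R s := by rw [hs]; trivial
    have : (IsScalarTower.toAlgHom R A B) a ∈ integralClosure R B := by
      have hle : Algebra.adjoin R s ≤ (integralClosure R B).comap (IsScalarTower.toAlgHom R A B) :=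
        Algebra.adjoin_le fun x hx => h x hx
      exact hle ha
    exact this
  have hA : Algebra.IsIntegral A B := ⟨hg⟩
  intro b
  have hb : IsIntegral A b := hg b
  obtain ⟨p, hp, hpb⟩ := hb
  -- b is integral over the integral closure of R in B
  have h1 : IsIntegral (integralClosure R B) b := by
    let φ : A →+* integralClosure R B := (g.codRestrict (integralClosure R B).toSubring key)
    refine ⟨p.map φ, hp.map _, ?_⟩
    rw [Polynomial.eval₂_map]
    exact hpb
  have h2 := isIntegral_trans (R := R) (A := integralClosure R B) b h1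
  exact h2

set_option backward.isDefEq.respectTransparency false in
/-- Restriction over an affine open is finite when the preimage is affine and the map on sections is finite. -/
theorem isFinite_restrict_of {X S : Scheme.{u}} (f : X ⟶ S) (W : S.Opens) (hW : IsAffineOpen W)
    (h1 : IsAffineOpen (f ⁻¹ᵁ W)) (h2 : (f.app W).hom.Finite) : IsFinite (f ∣_ W) := by
  have : IsAffine W := hW
  rw [HasAffineProperty.iff_of_isAffine (P := @IsFinite)]
  refine ⟨h1, ?_⟩
  rw [morphismRestrict_appTop, CommRingCat.hom_comp, RingHom.finite_respectsIso.cancel_right_isIso]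
  change (Scheme.Hom.app f (W.ι ''ᵁ ⊤)).hom.Finite
  rw [Scheme.Opens.ι_image_top]
  exact h2

set_option backward.isDefEq.respectTransparency false in
/-- Finitely many sections over a compact open of a stage which die in the limit die at a common later stage. -/
theorem exists_app_map_eq_zero_finite {I : Type u} [SmallCategory I] [IsCofiltered I]
    (D : I ⥤ Scheme.{u}) (c : Limits.Cone D) (hc : Limits.IsLimit c)
    [∀ {i j : I} (f : i ⟶ j), IsAffineHom (D.map f)] {i : I} {U : (D.obj i).Opens}
    (hU : IsCompact (X := D.obj i) U) (T : Finset Γ(D.obj i, U))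
    (hT : ∀ s ∈ T, (c.π.app i).app U s = 0) :
    ∃ (j : I) (f : j ⟶ i), ∀ s ∈ T, (D.map f).app U s = 0 := by
  classical
  induction T using Finset.induction_on with
  | empty => exact ⟨i, 𝟙 i, by simp⟩
  | insert a T ha ih =>
    obtain ⟨j, f, hf⟩ := ih fun s hs => hT s (Finset.mem_insert_of_mem hs)
    obtain ⟨j', f', hf'⟩ := exists_app_map_eq_zero_of_isLimit D c hc hU a
      (hT a (Finset.mem_insert_self _ _))
    obtain ⟨k, g, g', e⟩ := IsCofiltered.cospan f f'
    have key : ∀ (l : I) (f : l ⟶ i) (g : k ⟶ l) (s : Γ(D.obj i, U)), (D.map f).app U s = 0 →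
        (D.map (g ≫ f)).app U s = 0 := by
      intro l f g s hs
      have h : (D.map g ≫ D.map f).app U s = 0 := by
        rw [Scheme.Hom.comp_app]
        change (D.map g).app _ ((D.map f).app U s) = 0
        rw [hs, map_zero]
      rw [D.map_comp]
      exact h
    refine ⟨k, g ≫ f, fun s hs => ?_⟩
    rcases Finset.mem_insert.mp hs with rfl | hs
    · rw [e]
      exact key _ _ _ _ hf'
    · exact key _ _ _ _ (hf s hs)

set_option backward.isDefEq.respectTransparency false in
/-- The key step over one affine open of the base. -/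
theorem exists_isFinite_restrict {I : Type u} [SmallCategory I] [IsCofiltered I] (S : Scheme.{u})
    [QuasiSeparatedSpace S] (D : I ⥤ Over S) (c : Limits.Cone D) (hc : Limits.IsLimit c)
    [∀ (i j : I) (f : i ⟶ j), IsFinite (D.map f).left] [∀ i, CompactSpace (D.obj i).left]
    [∀ i, QuasiSeparatedSpace (D.obj i).left] [∀ i, LocallyOfFiniteType (D.obj i).hom] [IsIntegralHom c.pt.hom]
    (W : S.Opens) (hW : IsAffineOpen W) :
    ∃ i : I, IsFinite ((D.obj i).hom ∣_ W) := by
  obtain ⟨i₀⟩ := IsCofiltered.nonempty (C := I)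
  let D' : I ⥤ Scheme.{u} := D ⋙ Over.forget S
  let c' : Limits.Cone D' := (Over.forget S).mapCone c
  have hc' : Limits.IsLimit c' := Limits.isLimitOfPreserves (Over.forget S) hc
  have hfin : ∀ {i j : I} (f : i ⟶ j), IsFinite (D'.map f) := fun {i j} f =>
    (inferInstance : IsFinite (D.map f).left)
  have haff : ∀ {i j : I} (f : i ⟶ j), IsAffineHom (D'.map f) := fun {i j} f => by
    have := hfin f
    infer_instance
  have hqc : ∀ i, QuasiCompact (D.obj i).hom := fun i => inferInstance
  -- step 1: the preimage of `W` becomes affine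
  obtain ⟨i₁, h₁⟩ : ∃ i, IsAffineOpen ((D.obj i).hom ⁻¹ᵁ W) := by
    let U : (D'.obj i₀).Opens := (D.obj i₀).hom ⁻¹ᵁ W
    have hU : IsCompact (U : Set (D'.obj i₀)) :=
      QuasiCompact.isCompact_preimage (f := (D.obj i₀).hom) _ W.2 hW.isCompact
    have (j : Over i₀) : CompactSpace ((opensDiagram D' i₀ U).obj j) :=
      isCompact_iff_compactSpace.mp (QuasiCompact.isCompact_preimage (f := D'.map j.hom) _ U.2 hU)
    have (j : Over i₀) : QuasiSeparatedSpace (D'.obj j.left) := 
      (inferInstance : QuasiSeparatedSpace (D.obj j.left).left)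
    have (j : Over i₀) : QuasiSeparatedSpace ((opensDiagram D' i₀ U).obj j) :=
      (isQuasiSeparated_iff_quasiSeparatedSpace _ (D'.map j.hom ⁻¹ᵁ U).2).mp (.of_quasiSeparatedSpace _)
    have : IsAffine (opensCone D' c' i₀ U).pt := by
      have h := (hW.preimage c.pt.hom)
      have e : c.pt.hom ⁻¹ᵁ W = (c.π.app i₀).left ⁻¹ᵁ U := by
        have : c.pt.hom = (c.π.app i₀).left ≫ (D.obj i₀).hom := (Over.w (c.π.app i₀)).symm
        rw [this, Scheme.Hom.comp_preimage]
      rw [e] at h
      exact h
    obtain ⟨j, hj⟩ := Scheme.exists_isAffine_of_isLimit _ _ (isLimitOpensCone D' c' hc' i₀ U)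
    refine ⟨j.left, ?_⟩
    have e : (D.obj j.left).hom ⁻¹ᵁ W = D'.map j.hom ⁻¹ᵁ U := by
      rw [← Over.w (D.map j.hom), Scheme.Hom.comp_preimage]
      rfl
    rw [e]
    exact hj
  -- step 2: generators become integral
  let U : (D.obj i₁).left.Opens := (D.obj i₁).hom ⁻¹ᵁ W
  have hft : ((D.obj i₁).hom.app W).hom.FiniteType := by
    have := (LocallyOfFiniteType.finiteType_appLE (D.obj i₁).hom (U := W) hW (V := U) h₁ le_rfl)
    rwa [← Scheme.Hom.app_eq_appLE] at this
  have hint : (((D.obj i₁).hom.app W) ≫ (c.π.app i₁).left.app U).hom.IsIntegral := by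
    have h : IsIntegralHom ((c.π.app i₁).left ≫ (D.obj i₁).hom) := by
      have := Over.w (c.π.app i₁)
      rw [this]
      assumption
    have := IsIntegralHom.isIntegral_app ((c.π.app i₁).left ≫ (D.obj i₁).hom) W hW
    rwa [Scheme.Hom.comp_app] at this
  have hstep : ∀ a : Γ((D.obj i₁).left, U), ∃ p : Polynomial Γ(S, W), p.Monic ∧ 
      (c'.π.app i₁).app U (Polynomial.eval₂ ((D.obj i₁).hom.app W).hom a p) = 0 := by
    intro a
    obtain ⟨p, hp, hpa⟩ := hint ((c.π.app i₁).left.app U a)
    refine ⟨p, hp, ?_⟩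
    rw [← hpa, CommRingCat.hom_comp]
    exact (Polynomial.hom_eval₂ _ _ _ _)
  choose p hp hpa using hstep
  have hft' := hft
  obtain ⟨s, hs⟩ := hft
  classical
  obtain ⟨j, f, hf⟩ := exists_app_map_eq_zero_finite D' c' hc' (i := i₁) (U := U) h₁.isCompact
    (s.image fun a => Polynomial.eval₂ ((D.obj i₁).hom.app W).hom a (p a)) (by
      intro x hx
      obtain ⟨a, -, rfl⟩ := Finset.mem_image.mp hx
      exact hpa a)
  refine ⟨j, ?_⟩
  have hfin' : ((D.map f).left.app U).hom.Finite := IsFinite.finite_app _ U h₁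
  rw [← Over.w (D.map f)]
  refine isFinite_restrict_of _ W hW (h₁.preimage (D.map f).left) ?_
  rw [Scheme.Hom.comp_app, CommRingCat.hom_comp]
  have hI := isIntegral_comp_of_generators ((D.obj i₁).hom.app W).hom ((D.map f).left.app U).hom
    hfin'.to_isIntegral (s : Set _) hs (by
      intro a ha
      refine ⟨p a, hp a, ?_⟩
      rw [← Polynomial.hom_eval₂]
      exact hf _ (Finset.mem_image_of_mem _ ha))
  exact RingHom.finite_iff_isIntegral_and_finiteType.mpr ⟨hI, hfin'.finiteType.comp hft'⟩

/-- Stacks Tag 09ZN: let `S` be quasi-compact and quasi-separated and `X = lim X_i` a cofiltered limit of quasi-compact quasi-separated `S`-schemes locally of finite type over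
`S`, with finite transition morphisms. If `X → S` is integral then `X_i → S` is finite for all `i` beyond some index. -/
theorem result {I : Type u} [SmallCategory I] [IsCofiltered I] (S : Scheme.{u}) [CompactSpace S]
    [QuasiSeparatedSpace S] (D : I ⥤ Over S) (c : Limits.Cone D) (hc : Limits.IsLimit c)
    [∀ (i j : I) (f : i ⟶ j), IsFinite (D.map f).left] [∀ i, CompactSpace (D.obj i).left]
    [∀ i, QuasiSeparatedSpace (D.obj i).left] [∀ i, LocallyOfFiniteType (D.obj i).hom] [IsIntegralHom c.pt.hom] :
    ∃ i₀ : I, ∀ (i : I) (_ : i ⟶ i₀), IsFinite (D.obj i).hom := by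
  -- a finite affine open cover of the base
  obtain ⟨i₀⟩ := IsCofiltered.nonempty (C := I)
  obtain ⟨t, ht, hcov⟩ : ∃ t : Set S.affineOpens, t.Finite ∧ (⨆ W ∈ t, (W : S.Opens)) = ⊤ := by
    obtain ⟨t, ht, h⟩ := (isCompact_iff_finite_and_eq_biUnion_affineOpens (U := (⊤ : S.Opens))).mp isCompact_univ
    exact ⟨t, ht, h.symm⟩
  choose j hj using fun W : S.affineOpens => exists_isFinite_restrict S D c hc W.1 W.2
  classical
  obtain ⟨i, hi⟩ := IsCofiltered.inf_objs_exists (ht.toFinset.image j)
  have hfin : ∀ i', (i' ⟶ i) → IsFinite (D.obj i').hom := by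
    intro i' g
    rw [IsZariskiLocalAtTarget.iff_of_iSup_eq_top (P := @IsFinite) (fun W : t => (W.1 : S.Opens))
      (by rw [← hcov, iSup_subtype])]
    rintro ⟨W, hW⟩
    obtain ⟨g'⟩ : Nonempty (i' ⟶ j W) := ⟨g ≫ (hi (Finset.mem_image_of_mem _ (by simpa using hW))).some⟩
    rw [← Over.w (D.map g'), morphismRestrict_comp]
    have h1 : IsFinite ((D.obj (j W)).hom ∣_ (W : S.Opens)) := hj W
    have h2 : IsFinite ((D.map g').left ∣_ ((D.obj (j W)).hom ⁻¹ᵁ (W : S.Opens))) := inferInstance
    exact MorphismProperty.IsStableUnderComposition.comp_mem _ _ h2 h1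
  exact ⟨i, hfin⟩

end Groth.Agent.S2154
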