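import Groth.Statements.S2157
import Groth.Agent.Smoothlim.OmegaSpec

set_option autoImplicit false
universe u
open CategoryTheory AlgebraicGeometry
open Mor

namespace Groth.Agent.S2157

/-- Stacks Tag 01UT (affine case): for a ring map `R → A`, the sheaf of differentials of `Spec A → Spec R`, defined as the conormal sheaf of the diagonal, is isomorphic
as an `O_{Spec A}`-module to the sheaf associated with the module of Kähler differentials `Ω_{A/R}` (the source also pins the isomorphism down
by compatibility with the universal derivations, which is not restated here). -/
theorem result (R A : Type u) [CommRing R] [CommRing A] [Algebra R A] :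
    Nonempty (Omega.sheaf (Spec.map (CommRingCat.ofHom (algebraMap R A))) ≅
      tilde (R := CommRingCat.of A) (ModuleCat.of A (Ω[A⁄R]))) :=
  ⟨Groth.Agent.Smoothlim.OmegaSpec.omegaSpecIso R A⟩

end Groth.Agent.S2157
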