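import Groth.Statements.S2158
import Groth.Agent.Smoothlim.OmegaStalk

set_option autoImplicit false
universe u
open CategoryTheory AlgebraicGeometry
open Mor

namespace Groth.Agent.S2158

/-- Stacks Tag 02GF, (3) iff (6): let `f : X → S` be locally of finite type and quasi-separated (so that the diagonal is quasi-compact and the prelude's sheaf of
differentials is the conormal sheaf of the diagonal near every point), `x ∈ X`, `s = f(x)`. Then the stalk `Ω_{X/S,x}` vanishes if and only if `𝔪_s O_{X,x} = 𝔪_x` and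
`κ(x)/κ(s)` is a finite separable extension. -/
theorem result {X S : Scheme.{u}} (f : X ⟶ S) [LocallyOfFiniteType f] [QuasiSeparated f] (x : X) :
    Subsingleton ((Omega.sheaf f).presheaf.stalk x) ↔
      ((IsLocalRing.maximalIdeal (S.presheaf.stalk (f.base x))).map (f.stalkMap x).hom =
          IsLocalRing.maximalIdeal (X.presheaf.stalk x) ∧
        (f.residueFieldMap x).hom.Finite ∧
        @Algebra.IsSeparable (S.residueField (f.base x)) (X.residueField x) _ _ (f.residueFieldMap x).hom.toAlgebra) := by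
  obtain ⟨V, hV, hsV⟩ : ∃ V : S.Opens, IsAffineOpen V ∧ f x ∈ V := by
    obtain ⟨V, hV, hsV, -⟩ := TopologicalSpace.Opens.isBasis_iff_nbhd.mp S.isBasis_affineOpens
      (show f x ∈ (⊤ : S.Opens) from trivial)
    exact ⟨V, hV, hsV⟩
  obtain ⟨U, hU, hxU, hUV⟩ : ∃ U : X.Opens, IsAffineOpen U ∧ x ∈ U ∧ U ≤ f ⁻¹ᵁ V := by
    obtain ⟨U, hU, hxU, hUV⟩ := TopologicalSpace.Opens.isBasis_iff_nbhd.mp X.isBasis_affineOpens
      (show x ∈ f ⁻¹ᵁ V from hsV)
    exact ⟨U, hU, hxU, hUV⟩
  have hcomm : hU.fromSpec ≫ f = Spec.map (f.appLE V U hUV) ≫ hV.fromSpec :=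
    (IsAffineOpen.SpecMap_appLE_fromSpec f hV hU hUV).symm
  have key := Groth.Agent.Smoothlim.OmegaStalk.subsingleton_stalk_omega (f.appLE V U hUV) f
    hU.fromSpec hV.fromSpec hcomm (hU.primeIdealOf ⟨x, hxU⟩)
  rw [hU.fromSpec_primeIdealOf ⟨x, hxU⟩] at key
  refine key.trans ?_
  let R := Γ(S, V)
  let A := Γ(X, U)
  let R' := S.presheaf.stalk (f x)
  let A' := X.presheaf.stalk x
  let a1 : Algebra R A := (f.appLE V U hUV).hom.toAlgebra
  let a2 : Algebra R R' := TopCat.Presheaf.algebra_section_stalk S.presheaf ⟨f x, hsV⟩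
  let a3 : Algebra A A' := TopCat.Presheaf.algebra_section_stalk X.presheaf ⟨x, hxU⟩
  let a4 : Algebra R' A' := (f.stalkMap x).hom.toAlgebra
  let a5 : Algebra R A' := ((algebraMap A A').comp (algebraMap R A)).toAlgebra
  have t1 : IsScalarTower R A A' := IsScalarTower.of_algebraMap_eq' rfl
  have t2 : IsScalarTower R R' A' := by
    apply IsScalarTower.of_algebraMap_eq'
    have h1 : f.appLE V U hUV ≫ X.presheaf.germ U x hxU =
        S.presheaf.germ V (f x) hsV ≫ f.stalkMap x := by
      rw [Scheme.Hom.germ_stalkMap]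
      simp [Scheme.Hom.appLE]
    exact congr(($h1).hom)
  have l1 : IsLocalization.AtPrime R' (hV.primeIdealOf ⟨f x, hsV⟩).asIdeal :=
    hV.isLocalization_stalk ⟨f x, hsV⟩
  have l2 : IsLocalization.AtPrime A' (hU.primeIdealOf ⟨x, hxU⟩).asIdeal :=
    hU.isLocalization_stalk ⟨x, hxU⟩
  have key2 := Groth.Agent.Smoothlim.OmegaStalk.formallyUnramified_iff_subsingleton R A R' A'
    (hV.primeIdealOf ⟨f x, hsV⟩).asIdeal.primeCompl (hU.primeIdealOf ⟨x, hxU⟩).asIdeal.primeCompl
  refine key2.symm.trans ?_
  have hloc : IsLocalHom (algebraMap R' A') := inferInstanceAs (IsLocalHom (f.stalkMap x).hom)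
  have e1 : Algebra.FiniteType R A := f.finiteType_appLE hV hU hUV
  have e2 : Algebra.EssFiniteType A A' := Algebra.EssFiniteType.of_isLocalization _
    (hU.primeIdealOf ⟨x, hxU⟩).asIdeal.primeCompl
  have e3 : Algebra.EssFiniteType R A' := Algebra.EssFiniteType.comp R A A'
  have e4 : Algebra.EssFiniteType R' A' := Algebra.EssFiniteType.of_comp R R' A'
  have hmapeq : (f.residueFieldMap x).hom =
      algebraMap (IsLocalRing.ResidueField R') (IsLocalRing.ResidueField A') := by
    apply RingHom.ext
    intro a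
    obtain ⟨a, rfl⟩ := IsLocalRing.residue_surjective a
    rfl
  have halg : (f.residueFieldMap x).hom.toAlgebra =
      (inferInstance : Algebra (IsLocalRing.ResidueField R') (IsLocalRing.ResidueField A')) := by
    apply Algebra.algebra_ext
    intro a
    exact congr($hmapeq a)
  rw [halg]
  constructor
  · intro h
    refine ⟨Algebra.FormallyUnramified.map_maximalIdeal, ?_, ?_⟩
    · have : Module.Finite (IsLocalRing.ResidueField R') (IsLocalRing.ResidueField A') :=
        inferInstance
      have h3 : (algebraMap (IsLocalRing.ResidueField R') (IsLocalRing.ResidueField A')).Finite :=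
        RingHom.finite_algebraMap.mpr this
      rw [← hmapeq] at h3
      exact h3
    · have : Algebra.IsSeparable (IsLocalRing.ResidueField R') (IsLocalRing.ResidueField A') :=
        inferInstance
      exact this
  · rintro ⟨hmap, -, hsep⟩
    have hsep' : Algebra.IsSeparable (IsLocalRing.ResidueField R') (IsLocalRing.ResidueField A') :=
      hsep
    exact Algebra.FormallyUnramified.of_map_maximalIdeal hmap

end Groth.Agent.S2158
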