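import Groth.Statements.S2159
-- import your own Groth.Agent.* helpers here

set_option autoImplicit false
universe u
open CAlg

namespace Groth.Agent.S2159

/-- Stacks Tag 00O3 (Schanuel's lemma, first assertion): given surjections `p₁ : P₁ → M` and `p₂ : P₂ → M` from projective modules, with kernels `K` and `L`, there is an
isomorphism `K ⊕ P₂ ≅ L ⊕ P₁`. -/
theorem result {R M P₁ P₂ : Type u} [CommRing R] [AddCommGroup M] [Module R M] [AddCommGroup P₁] [Module R P₁]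
    [Module.Projective R P₁] [AddCommGroup P₂] [Module R P₂] [Module.Projective R P₂] (p₁ : P₁ →ₗ[R] M) (p₂ : P₂ →ₗ[R] M)
    (h₁ : Function.Surjective p₁) (h₂ : Function.Surjective p₂) :
    Nonempty ((LinearMap.ker p₁ × P₂) ≃ₗ[R] (LinearMap.ker p₂ × P₁)) := by
  obtain ⟨s, hs⟩ := Module.projective_lifting_property p₁ p₂ h₁
  obtain ⟨t, ht⟩ := Module.projective_lifting_property p₂ p₁ h₂
  have hs' : ∀ y, p₁ (s y) = p₂ y := fun y => LinearMap.congr_fun hs y
  have ht' : ∀ x, p₂ (t x) = p₁ x := fun x => LinearMap.congr_fun ht x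
  refine ⟨LinearEquiv.ofLinear
    (LinearMap.prod
      (LinearMap.codRestrict (LinearMap.ker p₂)
        (LinearMap.snd R (LinearMap.ker p₁) P₂ - t ∘ₗ ((LinearMap.ker p₁).subtype ∘ₗ LinearMap.fst R (LinearMap.ker p₁) P₂ +
          s ∘ₗ LinearMap.snd R (LinearMap.ker p₁) P₂)) ?_)
      ((LinearMap.ker p₁).subtype ∘ₗ LinearMap.fst R (LinearMap.ker p₁) P₂ +
          s ∘ₗ LinearMap.snd R (LinearMap.ker p₁) P₂))
    (LinearMap.prod
      (LinearMap.codRestrict (LinearMap.ker p₁)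
        (LinearMap.snd R (LinearMap.ker p₂) P₁ - s ∘ₗ ((LinearMap.ker p₂).subtype ∘ₗ LinearMap.fst R (LinearMap.ker p₂) P₁ +
          t ∘ₗ LinearMap.snd R (LinearMap.ker p₂) P₁)) ?_)
      ((LinearMap.ker p₂).subtype ∘ₗ LinearMap.fst R (LinearMap.ker p₂) P₁ +
          t ∘ₗ LinearMap.snd R (LinearMap.ker p₂) P₁))
    ?_ ?_⟩
  · rintro ⟨⟨k, hk⟩, y⟩
    have hk' : p₁ k = 0 := hk
    simp [hs', ht', hk']
  · rintro ⟨⟨k, hk⟩, y⟩
    have hk' : p₂ k = 0 := hk
    simp [hs', ht', hk']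
  · refine LinearMap.ext ?_
    rintro ⟨⟨l, hl⟩, x⟩
    refine Prod.ext (Subtype.ext ?_) ?_ <;> simp
  · refine LinearMap.ext ?_
    rintro ⟨⟨l, hl⟩, x⟩
    refine Prod.ext (Subtype.ext ?_) ?_ <;> simp

end Groth.Agent.S2159
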