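import Groth.Statements.S2160
import Mathlib.RingTheory.Ideal.KrullsHeightTheorem
-- import your own Groth.Agent.* helpers here

set_option autoImplicit false
universe u
open CAlg

namespace Groth.Agent.S2160

/-- Stacks Tag 02IG: let `R` be a Noetherian local domain of Krull dimension at least `2`. Then every nonempty open subset of `Spec R` is infinite. -/
theorem result {R : Type u} [CommRing R] [IsDomain R] [IsLocalRing R] [IsNoetherianRing R]
    (hdim : 2 ≤ ringKrullDim R) (U : Set (PrimeSpectrum R)) (hU : IsOpen U) (hne : U.Nonempty) : U.Infinite := by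
  intro hfin
  obtain ⟨y, hy⟩ := hne
  obtain ⟨_, ⟨_, ⟨f, rfl⟩, rfl⟩, hyf, hfU⟩ :=
    PrimeSpectrum.isBasis_basic_opens.exists_subset_of_mem_open hy hU
  have hf0 : f ≠ 0 := by
    rintro rfl
    exact hyf (Ideal.zero_mem _)
  have hm2 : 2 ≤ (IsLocalRing.maximalIdeal R).height := by
    rw [← IsLocalRing.maximalIdeal_height_eq_ringKrullDim] at hdim
    exact WithBot.coe_le_coe.mp hdim
  let T : Set (Ideal R) :=
    ((PrimeSpectrum.asIdeal '' U ∪ (Ideal.span {f}).minimalPrimes) ∪ {⊥}) \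
      {IsLocalRing.maximalIdeal R}
  have hTfin : T.Finite :=
    (((hfin.image _).union (Ideal.finite_minimalPrimes_of_isNoetherianRing R _)).union
      (Set.finite_singleton _)).sdiff
  have hTprime : ∀ I ∈ T, I.IsPrime := by
    rintro I ⟨(⟨p, -, rfl⟩ | hI) | rfl, -⟩
    · exact p.2
    · exact hI.1.1
    · exact Ideal.isPrime_bot
  have hbotT : ⊥ ∈ T := by
    refine ⟨Or.inr rfl, ?_⟩
    intro h
    have h' : (⊥ : Ideal R) = IsLocalRing.maximalIdeal R := h
    rw [← h', Ideal.height_bot] at hm2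
    simp at hm2
  have hnot : ¬ ((IsLocalRing.maximalIdeal R : Ideal R) : Set R) ⊆ ⋃ I ∈ T, (I : Set R) := by
    rw [Ideal.subset_union_prime_finite hTfin ⊥ ⊥ (fun i hi _ _ ↦ hTprime i hi)]
    rintro ⟨I, hI, hle⟩
    have := hTprime I hI
    exact hI.2 (((IsLocalRing.maximalIdeal.isMaximal R).eq_of_le this.ne_top hle).symm)
  obtain ⟨x, hxm, hxT⟩ := Set.not_subset.mp hnot
  have hxT' : ∀ I ∈ T, x ∉ I := by
    intro I hI hx
    exact hxT (Set.mem_biUnion hI hx)
  have hspan : Ideal.span {x} ≠ ⊤ := by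
    intro h
    rw [Ideal.span_singleton_eq_top] at h
    exact (IsLocalRing.mem_maximalIdeal x).mp hxm h
  obtain ⟨p, hp⟩ := Ideal.nonempty_minimalPrimes hspan
  have hpp : p.IsPrime := hp.1.1
  have hxp : x ∈ p := hp.1.2 (Ideal.mem_span_singleton_self x)
  have hp1 : p.height ≤ 1 := Ideal.height_le_one_of_isPrincipal_of_mem_minimalPrimes _ p hp
  have hpm : p ≠ IsLocalRing.maximalIdeal R := by
    rintro rfl
    exact absurd (hm2.trans hp1) (by norm_num)
  have hpU : (⟨p, hpp⟩ : PrimeSpectrum R) ∉ U := fun h ↦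
    hxT' p ⟨Or.inl (Or.inl ⟨⟨p, hpp⟩, h, rfl⟩), hpm⟩ hxp
  have hfp : f ∈ p := by
    by_contra h
    exact hpU (hfU h)
  obtain ⟨q, hq, hqp⟩ := Ideal.exists_minimalPrimes_le (I := Ideal.span {f}) (J := p)
    ((Ideal.span_singleton_le_iff_mem _).mpr hfp)
  have hqprime : q.IsPrime := hq.1.1
  rcases eq_or_lt_of_le hqp with rfl | hlt
  · exact hxT' q ⟨Or.inl (Or.inr hq), hpm⟩ hxp
  · have h1 : q.height + 1 ≤ p.height := Ideal.height_add_one_le_of_lt_of_isPrime hlt
    have h2 : q.height = 0 := by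
      have h3 : q.height + 1 ≤ 0 + 1 := by simpa using h1.trans hp1
      have h4 := (ENat.add_le_add_iff_right (by simp : (1 : ℕ∞) ≠ ⊤)).mp h3
      simpa using h4
    rw [Ideal.height_eq_zero_iff_eq_bot] at h2
    subst h2
    exact hf0 (by simpa using hq.1.2 (Ideal.mem_span_singleton_self f))

end Groth.Agent.S2160
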