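import Groth.Statements.S2161
import Mathlib.RingTheory.Spectrum.Prime.Homeomorph
import Mathlib.FieldTheory.PurelyInseparable.PerfectClosure
import Mathlib.Algebra.Polynomial.Lifts
import Mathlib.RingTheory.TensorProduct.Nontrivial
-- import your own Groth.Agent.* helpers here

set_option autoImplicit false
universe u
open CAlg

namespace Groth.Agent.S2161

open Polynomial in
theorem eq_of_comp_eq {R S Ω : Type u} [CommRing R] [CommRing S] [Algebra R S] [Field Ω]
    (G : Set S) (hG : Algebra.adjoin R G = ⊤)
    (hpow : ∀ x ∈ G, ∃ (n : ℕ) (P : Polynomial R), 0 < n ∧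
      Polynomial.map (algebraMap R S) P = (Polynomial.X - Polynomial.C x) ^ n)
    (f g : S →+* Ω) (h : f.comp (algebraMap R S) = g.comp (algebraMap R S)) : f = g := by
  let : Algebra R Ω := (f.comp (algebraMap R S)).toAlgebra
  let f' : S →ₐ[R] Ω := { f with commutes' := fun r => rfl }
  let g' : S →ₐ[R] Ω := { g with commutes' := fun r => (RingHom.congr_fun h r).symm }
  have hfg : f' = g' := by
    refine AlgHom.ext_of_adjoin_eq_top hG fun x hx => ?_
    obtain ⟨n, P, hn, hP⟩ := hpow x hx
    have h1 : P.map (f.comp (algebraMap R S)) = (X - C (f x)) ^ n := by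
      rw [← Polynomial.map_map, hP]; simp
    have h2 : P.map (g.comp (algebraMap R S)) = (X - C (g x)) ^ n := by
      rw [← Polynomial.map_map, hP]; simp
    rw [h, h2] at h1
    have h3 := congrArg (Polynomial.eval (f x)) h1
    simp only [eval_pow, eval_sub, eval_X, eval_C, sub_self, zero_pow hn.ne'] at h3
    exact sub_eq_zero.1 (pow_eq_zero_iff hn.ne' |>.1 h3)
  ext x
  exact DFunLike.congr_fun hfg x

theorem isIntegral' {R S : Type u} [CommRing R] [CommRing S] [Algebra R S]
    (G : Set S) (hG : Algebra.adjoin R G = ⊤)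
    (hpow : ∀ x ∈ G, ∃ (n : ℕ) (P : Polynomial R), 0 < n ∧
      Polynomial.map (algebraMap R S) P = (Polynomial.X - Polynomial.C x) ^ n) :
    Algebra.IsIntegral R S := by
  rw [← integralClosure_eq_top_iff, eq_top_iff, ← hG, Algebra.adjoin_le_iff]
  intro x hx
  obtain ⟨n, P, hn, hP⟩ := hpow x hx
  obtain ⟨Q, hQ, -, hQm⟩ := Polynomial.lifts_and_natDegree_eq_and_monic
    (f := algebraMap R S) (p := (Polynomial.X - Polynomial.C x) ^ n)
    ⟨P, hP⟩ ((Polynomial.monic_X_sub_C x).pow n)
  refine ⟨Q, hQm, ?_⟩
  rw [Polynomial.eval₂_eq_eval_map, hQ]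
  simp [zero_pow hn.ne']

theorem injective_comap {R S : Type u} [CommRing R] [CommRing S] [Algebra R S]
    (G : Set S) (hG : Algebra.adjoin R G = ⊤)
    (hpow : ∀ x ∈ G, ∃ (n : ℕ) (P : Polynomial R), 0 < n ∧
      Polynomial.map (algebraMap R S) P = (Polynomial.X - Polynomial.C x) ^ n) :
    Function.Injective (PrimeSpectrum.comap (algebraMap R S)) := by
  intro q q' hqq'
  let p : Ideal R := q.asIdeal.comap (algebraMap R S)
  have hp : p = q.asIdeal.comap (algebraMap R S) := rfl
  have hp' : p = q'.asIdeal.comap (algebraMap R S) := congrArg PrimeSpectrum.asIdeal hqq'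
  have : p.IsPrime := Ideal.comap_isPrime _ _
  let i := Ideal.ResidueField.map p q.asIdeal (algebraMap R S) hp
  let i' := Ideal.ResidueField.map p q'.asIdeal (algebraMap R S) hp'
  let : Algebra p.ResidueField q.asIdeal.ResidueField := i.toAlgebra
  let : Algebra p.ResidueField q'.asIdeal.ResidueField := i'.toAlgebra
  let T := TensorProduct p.ResidueField q.asIdeal.ResidueField q'.asIdeal.ResidueField
  have : Nontrivial T :=
    Algebra.TensorProduct.nontrivial_of_algebraMap_injective_of_isDomain _ _ _
      (algebraMap p.ResidueField q.asIdeal.ResidueField).injective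
      (algebraMap p.ResidueField q'.asIdeal.ResidueField).injective
  obtain ⟨m, hm⟩ := Ideal.exists_maximal T
  let : Field (T ⧸ m) := Ideal.Quotient.field m
  let j : q.asIdeal.ResidueField →+* T ⧸ m :=
    (Ideal.Quotient.mk m).comp (Algebra.TensorProduct.includeLeft (R := p.ResidueField)
      (S := p.ResidueField) (A := q.asIdeal.ResidueField) (B := q'.asIdeal.ResidueField)).toRingHom
  let j' : q'.asIdeal.ResidueField →+* T ⧸ m :=
    (Ideal.Quotient.mk m).comp (Algebra.TensorProduct.includeRight (R := p.ResidueField)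
      (A := q.asIdeal.ResidueField) (B := q'.asIdeal.ResidueField)).toRingHom
  have hjj' : ∀ x : p.ResidueField, j (i x) = j' (i' x) := by
    intro x
    change (Ideal.Quotient.mk m) (algebraMap p.ResidueField q.asIdeal.ResidueField x ⊗ₜ 1) =
      (Ideal.Quotient.mk m) (1 ⊗ₜ algebraMap p.ResidueField q'.asIdeal.ResidueField x)
    rw [Algebra.algebraMap_eq_smul_one, TensorProduct.smul_tmul, ← Algebra.algebraMap_eq_smul_one]
  have key := eq_of_comp_eq G hG hpow
    (j.comp (algebraMap S q.asIdeal.ResidueField)) (j'.comp (algebraMap S q'.asIdeal.ResidueField))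
    (by
      ext r
      have h1 : algebraMap S q.asIdeal.ResidueField (algebraMap R S r) =
          i (algebraMap R p.ResidueField r) :=
        (Ideal.ResidueField.map_algebraMap p q.asIdeal (algebraMap R S) hp r).symm
      have h2 : algebraMap S q'.asIdeal.ResidueField (algebraMap R S r) =
          i' (algebraMap R p.ResidueField r) :=
        (Ideal.ResidueField.map_algebraMap p q'.asIdeal (algebraMap R S) hp' r).symm
      simp only [RingHom.comp_apply, h1, h2, hjj'])
  ext x
  rw [← Ideal.algebraMap_residueField_eq_zero (I := q.asIdeal),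
    ← Ideal.algebraMap_residueField_eq_zero (I := q'.asIdeal), ← map_eq_zero_iff j j.injective,
    ← map_eq_zero_iff j' j'.injective]
  have := RingHom.congr_fun key x
  simp only [RingHom.comp_apply] at this
  rw [this]

open Polynomial in
theorem isPurelyInseparable' {R S : Type u} [CommRing R] [CommRing S] [Algebra R S]
    (G : Set S) (hG : Algebra.adjoin R G = ⊤)
    (hpow : ∀ x ∈ G, ∃ (n : ℕ) (P : Polynomial R), 0 < n ∧
      Polynomial.map (algebraMap R S) P = (Polynomial.X - Polynomial.C x) ^ n)
    {F E : Type u} [Field F] [Field E] [Algebra F E] (a : R →+* F) (b : S →+* E)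
    (hab : ∀ r, b (algebraMap R S r) = algebraMap F E (a r))
    (hfrac : ∀ e : E, ∃ x y : S, e = b x / b y) : IsPurelyInseparable F E := by
  have hmem : ∀ x ∈ G, b x ∈ perfectClosure F E := by
    intro x hx
    obtain ⟨n, P, hn, hP⟩ := hpow x hx
    rw [mem_perfectClosure_iff_natSepDegree_eq_one]
    have hcomp : (algebraMap F E).comp a = b.comp (algebraMap R S) := by
      ext r; simp [hab]
    have h1 : (P.map a).map (algebraMap F E) = (X - C (b x)) ^ n := by
      rw [Polynomial.map_map, hcomp, ← Polynomial.map_map, hP]; simp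
    have h0 : aeval (b x) (P.map a) = 0 := by
      rw [aeval_def, eval₂_eq_eval_map, h1]
      simp [zero_pow hn.ne']
    have hne : (X - C (b x)) ^ n ≠ 0 := pow_ne_zero _ (X_sub_C_ne_zero _)
    have hne' : P.map a ≠ 0 := by
      intro h
      rw [h, Polynomial.map_zero] at h1
      exact hne h1.symm
    have hdvd := minpoly.dvd F (b x) h0
    have hle := natSepDegree_le_of_dvd _ _ hdvd hne'
    rw [← natSepDegree_map E (P.map a) (algebraMap F E), h1, natSepDegree_pow_of_ne_zero _ hn.ne',
      natSepDegree_X_sub_C] at hle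
    refine le_antisymm hle ?_
    rw [Nat.one_le_iff_ne_zero, natSepDegree_ne_zero_iff]
    have := minpoly.natDegree_pos (A := F) (x := b x) (IsAlgebraic.isIntegral ⟨_, hne', h0⟩)
    omega
  have hall : ∀ s : S, b s ∈ perfectClosure F E := by
    intro s
    have hs : s ∈ Algebra.adjoin R G := by rw [hG]; trivial
    induction hs using Algebra.adjoin_induction with
    | mem x hx => exact hmem x hx
    | algebraMap r => rw [hab]; exact (perfectClosure F E).algebraMap_mem _
    | add x y _ _ hx hy => rw [map_add]; exact add_mem hx hy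
    | mul x y _ _ hx hy => rw [map_mul]; exact mul_mem hx hy
  have htop : perfectClosure F E = ⊤ := by
    rw [eq_top_iff]
    intro e _
    obtain ⟨x, y, rfl⟩ := hfrac e
    exact div_mem (hall x) (hall y)
  exact isPurelyInseparable_iff_perfectClosure_eq_top.2 htop

/-- Stacks Tag 09EF (first two conclusions): let `R → S` be a ring map whose kernel consists of nilpotent elements, and suppose `S` is generated as an `R`-algebra by elements
`x` for which some power `(T - x)ⁿ`, `n > 0`, is the image of a polynomial over `R`. Then `Spec S → Spec R` is a homeomorphism, and for every prime `𝔮` of `S` over `𝔭` the extension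
`κ(𝔮)/κ(𝔭)` is purely inseparable. -/
theorem result {R S : Type u} [CommRing R] [CommRing S] [Algebra R S]
    (hker : ∀ r : R, algebraMap R S r = 0 → IsNilpotent r) (G : Set S) (hG : Algebra.adjoin R G = ⊤)
    (hpow : ∀ x ∈ G, ∃ (n : ℕ) (P : Polynomial R), 0 < n ∧
      Polynomial.map (algebraMap R S) P = (Polynomial.X - Polynomial.C x) ^ n) :
    IsHomeomorph (PrimeSpectrum.comap (algebraMap R S)) ∧
      ∀ (q : Ideal S) [q.IsPrime] (p : Ideal R) [p.IsPrime] [q.LiesOver p],
        @IsPurelyInseparable p.ResidueField q.ResidueField _ _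
          (Ideal.ResidueField.mapₐ p q (Algebra.ofId R S) (q.over_def p)).toRingHom.toAlgebra := by
  have hint : Algebra.IsIntegral R S := isIntegral' G hG hpow
  constructor
  · have hcl : IsClosedMap (PrimeSpectrum.comap (algebraMap R S)) :=
      PrimeSpectrum.isClosedMap_comap_of_isIntegral _
        (algebraMap_isIntegral_iff.2 hint)
    have hdense : DenseRange (PrimeSpectrum.comap (algebraMap R S)) := by
      rw [PrimeSpectrum.denseRange_comap_iff_ker_le_nilRadical]
      intro r hr
      exact mem_nilradical.2 (hker r hr)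
    have hsurj : Function.Surjective (PrimeSpectrum.comap (algebraMap R S)) := by
      rw [← Set.range_eq_univ, ← hcl.isClosed_range.closure_eq]
      exact hdense.closure_range
    rw [isHomeomorph_iff_continuous_isClosedMap_bijective]
    exact ⟨PrimeSpectrum.continuous_comap _, hcl, injective_comap G hG hpow, hsurj⟩
  · intro q _ p _ _
    let := (Ideal.ResidueField.mapₐ p q (Algebra.ofId R S) (q.over_def p)).toRingHom.toAlgebra
    refine isPurelyInseparable' G hG hpow (algebraMap R p.ResidueField)
      (algebraMap S q.ResidueField) (fun r => ?_) (fun e => ?_)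
    · exact (Ideal.ResidueField.map_algebraMap p q (algebraMap R S) (q.over_def p) r).symm
    · obtain ⟨x, y, -, h⟩ := IsFractionRing.div_surjective (A := S ⧸ q) e
      obtain ⟨x, rfl⟩ := Ideal.Quotient.mk_surjective x
      obtain ⟨y, rfl⟩ := Ideal.Quotient.mk_surjective y
      exact ⟨x, y, h.symm⟩

end Groth.Agent.S2161
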