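import Groth.Statements.S2163
import Mathlib.RingTheory.Flat.EquationalCriterion

set_option autoImplicit false
universe u
open CAlg

namespace Groth.Agent.S2163

/-- The surjection from `R^l` onto the ideal generated by `f`. -/
noncomputable def gen {R : Type u} [CommRing R] {l : ℕ} (f : Fin l → R) :
    (Fin l → R) →ₗ[R] Ideal.span (Set.range f) :=
  LinearMap.codRestrict _ (Fintype.linearCombination R f) (fun c => by
    rw [Fintype.linearCombination_apply]
    exact Submodule.sum_mem _ fun i _ => Ideal.mul_mem_left _ _ (Ideal.subset_span ⟨i, rfl⟩))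

theorem gen_coe {R : Type u} [CommRing R] {l : ℕ} (f : Fin l → R) (c : Fin l → R) :
    (gen f c : R) = ∑ i, f i * c i := by
  simp [gen, Fintype.linearCombination_apply, mul_comm]

theorem gen_surjective {R : Type u} [CommRing R] {l : ℕ} (f : Fin l → R) :
    Function.Surjective (gen f) := by
  rintro ⟨x, hx⟩
  obtain ⟨c, rfl⟩ := (Submodule.mem_span_range_iff_exists_fun R).mp hx
  exact ⟨c, Subtype.ext (by rw [gen_coe]; simp [mul_comm])⟩

theorem mem_ker_gen {R : Type u} [CommRing R] {l : ℕ} (f : Fin l → R) (c : Fin l → R) :
    c ∈ LinearMap.ker (gen f) ↔ ∑ i, f i * c i = 0 := by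
  rw [LinearMap.mem_ker, ← gen_coe, Subtype.ext_iff]
  rfl

/-- Stacks Tag 05CZ, (1) iff (3): a ring `R` is coherent — every finitely generated ideal is a finitely presented module — if and only if for every index set `A` (in the
same universe) the product module `R^A` is flat. -/
theorem result {R : Type u} [CommRing R] :
    (∀ I : Ideal R, I.FG → Module.FinitePresentation R I) ↔ ∀ (A : Type u), Module.Flat R (A → R) := by
  constructor
  · intro h A
    apply Module.Flat.of_forall_isTrivialRelation
    intro l f x hfx
    have := h (Ideal.span (Set.range f)) ⟨(Set.finite_range f).toFinset, by simp⟩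
    have hK := Module.FinitePresentation.fg_ker (gen f) (gen_surjective f)
    obtain ⟨m, k, hk⟩ := Submodule.fg_iff_exists_fin_generating_family.mp hK
    have hx : ∀ a, ∃ c : Fin m → R, ∑ j, c j • k j = fun i => x i a := by
      intro a
      rw [← Submodule.mem_span_range_iff_exists_fun, hk, mem_ker_gen]
      simpa using congrFun hfx a
    choose c hc using hx
    refine ⟨m, fun i j => k j i, fun j a => c a j, fun i => ?_, fun j => ?_⟩
    · ext a
      have := congrFun (hc a) i
      simp only [Finset.sum_apply, Pi.smul_apply, smul_eq_mul] at this ⊢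
      rw [← this]
      exact Finset.sum_congr rfl fun j _ => mul_comm _ _
    · rw [← mem_ker_gen, ← hk]
      exact Submodule.subset_span ⟨j, rfl⟩
  · intro h I hI
    obtain ⟨l, f, rfl⟩ := Submodule.fg_iff_exists_fin_generating_family.mp hI
    refine Module.finitePresentation_of_surjective (gen f) (gen_surjective f) ?_
    have hflat := h (LinearMap.ker (gen f))
    have hrel : ∑ i, f i • (fun k : LinearMap.ker (gen f) => (k : Fin l → R) i) = 0 := by
      ext k
      have := (mem_ker_gen f k).mp k.2
      simpa using this
    obtain ⟨m, a, y, h1, h2⟩ := Module.Flat.isTrivialRelation_of_sum_smul_eq_zero hrel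
    rw [Submodule.fg_iff_exists_fin_generating_family]
    refine ⟨m, fun j i => a i j, le_antisymm ?_ ?_⟩
    · rw [Submodule.span_le]
      rintro _ ⟨j, rfl⟩
      exact (mem_ker_gen f _).mpr (h2 j)
    · intro k hk
      rw [Submodule.mem_span_range_iff_exists_fun]
      refine ⟨fun j => y j ⟨k, hk⟩, ?_⟩
      ext i
      have := congrFun (h1 i) ⟨k, hk⟩
      simp only [Finset.sum_apply, Pi.smul_apply, smul_eq_mul] at this ⊢
      rw [this]
      exact Finset.sum_congr rfl fun j _ => mul_comm _ _

end Groth.Agent.S2163
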