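import Groth.Statements.S2165
import Groth.Agent.S2166
import Mathlib.RingTheory.Regular.Flat

set_option autoImplicit false
universe u
open LCI

namespace Groth.Agent.S2165

/-- Stacks Tag 09Q0. Let R be a regular ring, p a prime ideal of R and f_1, ..., f_r a regular
sequence of R contained in p. Then the local ring R_p/(f_1, ..., f_r) is a complete intersection:
its completion is a regular local ring modulo a regular sequence. The instance hypothesis that the
quotient is local always holds. -/
theorem result {R : Type u} [CommRing R] [IsRegularRing R]
    (p : Ideal R) [p.IsPrime] (rs : List R) (hmem : ∀ r ∈ rs, r ∈ p)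
    (hreg : RingTheory.Sequence.IsRegular R rs)
    [IsLocalRing (Localization.AtPrime p ⧸
      Ideal.map (algebraMap R (Localization.AtPrime p)) (Ideal.ofList rs))] :
    Pi1.IsCompleteIntersection (Localization.AtPrime p ⧸
      Ideal.map (algebraMap R (Localization.AtPrime p)) (Ideal.ofList rs)) := by
  have hne : Ideal.map (algebraMap R (Localization.AtPrime p)) (Ideal.ofList rs) ≠ ⊤ := by
    intro h
    rw [Ideal.eq_top_iff_one] at h
    have h1 : Ideal.map (algebraMap R (Localization.AtPrime p)) (Ideal.ofList rs) ≤
        IsLocalRing.maximalIdeal (Localization.AtPrime p) := by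
      rw [← Localization.AtPrime.map_eq_maximalIdeal]
      exact Ideal.map_mono (Ideal.span_le.mpr hmem)
    exact (Ideal.ne_top_iff_one _).mp Ideal.IsPrime.ne_top' (h1 h)
  refine (Groth.Agent.S2166.result _ hne).mpr
    ⟨rs.map (algebraMap R (Localization.AtPrime p)), (Ideal.map_ofList _ _).symm, ?_⟩
  exact hreg.toIsWeaklyRegular.isRegular_of_isLocalization_of_mem _ p hmem

end Groth.Agent.S2165
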