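import Groth.Statements.S2167
import Groth.Agent.Models.CMSeq

set_option autoImplicit false
universe u
open LCI

namespace Groth.Agent.S2167

open IsLocalRing RingTheory.Sequence Groth.Agent.Models.CMSeq

/-- The projection `I → I/I²`, semilinear over `R → R/I`. -/
def toCot {R : Type u} [CommRing R] (I : Ideal R) :
    I →ₛₗ[Ideal.Quotient.mk I] I.Cotangent where
  toFun := I.toCotangent
  map_add' := map_add _
  map_smul' r x := by
    rw [map_smul]
    rfl

lemma toCot_surjective {R : Type u} [CommRing R] (I : Ideal R) : Function.Surjective (toCot I) :=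
  I.toCotangent_surjective

lemma spanFinrank_cotangent_le {R : Type u} [CommRing R] (I : Ideal R) (hI : I.FG) :
    (⊤ : Submodule (R ⧸ I) I.Cotangent).spanFinrank ≤ I.spanFinrank := by
  have : RingHomSurjective (Ideal.Quotient.mk I) := ⟨Ideal.Quotient.mk_surjective⟩
  have h1 : (⊤ : Submodule R I).FG := (Submodule.fg_top _).mpr hI
  have h := Submodule.spanFinrank_map_le_of_fg (toCot I) h1
  rwa [Submodule.map_top, LinearMap.range_eq_top.mpr (toCot_surjective I),
    Submodule.spanFinrank_top] at h

lemma exists_list_of_cotangent {R : Type u} [CommRing R] [IsLocalRing R] [IsNoetherianRing R]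
    (I : Ideal R) (hI : I ≠ ⊤) :
    ∃ rs : List R, rs.length = (⊤ : Submodule (R ⧸ I) I.Cotangent).spanFinrank ∧
      Ideal.ofList rs = I := by
  have hfg : (⊤ : Submodule (R ⧸ I) I.Cotangent).FG := by
    have : RingHomSurjective (Ideal.Quotient.mk I) := ⟨Ideal.Quotient.mk_surjective⟩
    have h1 : (⊤ : Submodule R I).FG := (Submodule.fg_top _).mpr (IsNoetherian.noetherian I)
    have := h1.map (toCot I)
    rwa [Submodule.map_top, LinearMap.range_eq_top.mpr (toCot_surjective I)] at this
  obtain ⟨s, hs, hsp⟩ := Submodule.FG.exists_span_finset_card_eq_spanFinrank hfg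
  choose g hg using I.toCotangent_surjective
  refine ⟨s.toList.map fun x => (g x : R), by simpa using hs, ?_⟩
  set J : Ideal R := Ideal.ofList (s.toList.map fun x => (g x : R)) with hJ
  have hgJ : ∀ x ∈ s, (g x : R) ∈ J := fun x hx =>
    Ideal.subset_span (by simpa using ⟨x, hx, rfl⟩)
  have hJI : J ≤ I := by
    refine Ideal.span_le.mpr ?_
    intro r hr
    simp only [List.mem_map, Finset.mem_toList, Set.mem_ofPred_eq] at hr
    obtain ⟨x, -, rfl⟩ := hr
    exact (g x).2
  refine le_antisymm hJI ?_
  have : RingHomSurjective (Ideal.Quotient.mk I) := ⟨Ideal.Quotient.mk_surjective⟩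
  have htop : Submodule.map (toCot I) (Submodule.comap I.subtype J) = ⊤ := by
    rw [eq_top_iff, ← hsp, Submodule.span_le]
    intro x hx
    exact ⟨g x, hgJ x hx, hg x⟩
  have hle : I ≤ J ⊔ I • I := by
    intro x hx
    have hx' : toCot I ⟨x, hx⟩ ∈ Submodule.map (toCot I) (Submodule.comap I.subtype J) := by
      rw [htop]; trivial
    obtain ⟨j, hj, hjx⟩ := hx'
    have h2 : x - (j : R) ∈ I ^ 2 := (I.toCotangent_eq (x := ⟨x, hx⟩) (y := j)).mp hjx.symm
    rw [pow_two] at h2
    have : x = (j : R) + (x - j) := by ring
    rw [this]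
    exact Submodule.add_mem_sup hj h2
  exact Submodule.le_of_le_smul_of_le_jacobson_bot (IsNoetherian.noetherian I)
    ((le_maximalIdeal hI).trans (maximalIdeal_le_jacobson _)) hle

/-- Stacks Tag 09Q1, equivalence of (2) and (3), special case with R already a regular local ring: for a
regular local ring R and a proper ideal I, the ideal I is generated by a regular sequence if and
only if the conormal module I/I^2 can be generated by (dim R - dim R/I) elements, the inequality
below being the additive form of that count. -/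
theorem result {R : Type u} [CommRing R] [IsRegularLocalRing R]
    (I : Ideal R) (hI : I ≠ ⊤) :
    (∃ rs : List R, Ideal.ofList rs = I ∧ RingTheory.Sequence.IsRegular R rs) ↔
      (((⊤ : Submodule (R ⧸ I) I.Cotangent).spanFinrank : WithBot ℕ∞) + ringKrullDim (R ⧸ I)
        ≤ ringKrullDim R) := by
  constructor
  · rintro ⟨rs, rfl, hrs⟩
    rw [← ringKrullDim_add_length_eq_ringKrullDim_of_isRegular rs hrs, add_comm]
    have h := (spanFinrank_cotangent_le (Ideal.ofList rs) (IsNoetherian.noetherian _)).trans
      (spanFinrank_ofList_le rs)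
    gcongr
  · intro h
    obtain ⟨rs, hlen, hrs⟩ := exists_list_of_cotangent I hI
    refine ⟨rs, hrs, isRegular_of_ringKrullDim_le rs (fun r hr => ?_) ?_⟩
    · exact le_maximalIdeal hI (hrs ▸ Ideal.subset_span hr)
    · rw [hrs, hlen, add_comm]
      exact h

end Groth.Agent.S2167
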