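import Groth.Statements.S2171
import Mathlib.Tactic.Linarith
import Mathlib.Tactic.Positivity
import Mathlib.Tactic.Ring
-- import your own Groth.Agent.* helpers here

set_option autoImplicit false
open Finset
open Models

namespace Groth.Agent.S2171

/-- Stacks Tag 0C5X. Let A be a symmetric real n by n matrix with non-negative off-diagonal entries, m a
vector with positive entries such that A m = 0, and assume no proper non-empty index set I has
A i j = 0 for all i in I and j outside I. Then x^t A x is at most 0 for every real vector x, with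
equality exactly when x is a real multiple of m. -/
theorem result {n : ℕ} (A : Matrix (Fin n) (Fin n) ℝ)
    (m : Fin n → ℝ) (hsymm : A.IsSymm) (hA : ∀ i j, i ≠ j → 0 ≤ A i j) (hm : ∀ i, 0 < m i)
    (hAm : A.mulVec m = 0)
    (hconn : ∀ I : Finset (Fin n), I.Nonempty → I ≠ univ → ∃ i ∈ I, ∃ j ∉ I, A i j ≠ 0)
    (x : Fin n → ℝ) :
    dotProduct x (A.mulVec x) ≤ 0 ∧ (dotProduct x (A.mulVec x) = 0 ↔ ∃ q : ℝ, x = q • m) := by
  have hrow : ∀ i, ∑ j, A i j * m j = 0 := fun i => by
    have := congrFun hAm i
    simpa [Matrix.mulVec, dotProduct] using this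
  obtain ⟨y, hy⟩ : ∃ y : Fin n → ℝ, ∀ i, x i = y i * m i :=
    ⟨fun i => x i / m i, fun i => by rw [div_mul_cancel₀ _ (hm i).ne']⟩
  have hA' : ∀ i j, A j i = A i j := fun i j => hsymm.apply i j
  have h1 : ∑ i, ∑ j, A i j * m i * m j * y i ^ 2 = 0 := by
    refine Finset.sum_eq_zero fun i _ => ?_
    have : ∑ j, A i j * m i * m j * y i ^ 2 = (m i * y i ^ 2) * ∑ j, A i j * m j := by
      rw [Finset.mul_sum]
      exact Finset.sum_congr rfl fun j _ => by ring
    rw [this, hrow, mul_zero]
  have h2 : ∑ i, ∑ j, A i j * m i * m j * y j ^ 2 = 0 := by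
    rw [Finset.sum_comm]
    rw [← h1]
    refine Finset.sum_congr rfl fun i _ => Finset.sum_congr rfl fun j _ => ?_
    rw [hA' i j]; ring
  have hdot : dotProduct x (A.mulVec x) = ∑ i, ∑ j, A i j * m i * m j * (y i * y j) := by
    simp only [Matrix.mulVec, dotProduct]
    refine Finset.sum_congr rfl fun i _ => ?_
    rw [Finset.mul_sum]
    refine Finset.sum_congr rfl fun j _ => ?_
    rw [hy i, hy j]; ring
  have key : dotProduct x (A.mulVec x) =
      -(1 / 2) * ∑ i, ∑ j, A i j * m i * m j * (y i - y j) ^ 2 := by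
    have : ∑ i, ∑ j, A i j * m i * m j * (y i - y j) ^ 2 =
        ∑ i, ∑ j, A i j * m i * m j * y i ^ 2 + ∑ i, ∑ j, A i j * m i * m j * y j ^ 2
          - 2 * ∑ i, ∑ j, A i j * m i * m j * (y i * y j) := by
      rw [Finset.mul_sum, ← Finset.sum_add_distrib, ← Finset.sum_sub_distrib]
      refine Finset.sum_congr rfl fun i _ => ?_
      rw [Finset.mul_sum, ← Finset.sum_add_distrib, ← Finset.sum_sub_distrib]
      refine Finset.sum_congr rfl fun j _ => ?_
      ring
    rw [this, h1, h2, hdot]; ring
  have hterm : ∀ i j, 0 ≤ A i j * m i * m j * (y i - y j) ^ 2 := fun i j => by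
    by_cases hij : i = j
    · subst hij; simp
    · exact mul_nonneg (mul_nonneg (mul_nonneg (hA i j hij) (hm i).le) (hm j).le) (sq_nonneg _)
  have hnn : 0 ≤ ∑ i, ∑ j, A i j * m i * m j * (y i - y j) ^ 2 :=
    Finset.sum_nonneg fun i _ => Finset.sum_nonneg fun j _ => hterm i j
  refine ⟨by rw [key]; linarith, ?_⟩
  constructor
  · intro h0
    have hz : ∑ i, ∑ j, A i j * m i * m j * (y i - y j) ^ 2 = 0 := by
      rw [key] at h0; linarith
    have hz' : ∀ i j, A i j * m i * m j * (y i - y j) ^ 2 = 0 := by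
      intro i j
      have h3 := (Finset.sum_eq_zero_iff_of_nonneg
        (fun i _ => Finset.sum_nonneg fun j _ => hterm i j)).1 hz i (Finset.mem_univ i)
      exact (Finset.sum_eq_zero_iff_of_nonneg (fun j _ => hterm i j)).1 h3 j (Finset.mem_univ j)
    have hadj : ∀ i j, A i j ≠ 0 → y i = y j := by
      intro i j hne
      have h4 := hz' i j
      have h5 : A i j * m i * m j ≠ 0 := mul_ne_zero (mul_ne_zero hne (hm i).ne') (hm j).ne'
      have h6 := (mul_eq_zero.1 h4).resolve_left h5
      have h7 := pow_eq_zero_iff (two_ne_zero) |>.1 h6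
      linarith
    rcases Nat.eq_zero_or_pos n with hn | hn
    · subst hn
      exact ⟨0, funext fun i => i.elim0⟩
    · let i₀ : Fin n := ⟨0, hn⟩
      refine ⟨y i₀, ?_⟩
      have hall : (univ.filter fun i => y i = y i₀) = univ := by
        by_contra hne
        obtain ⟨i, hi, j, hj, hij⟩ := hconn (univ.filter fun i => y i = y i₀)
          ⟨i₀, by simp⟩ hne
        simp only [Finset.mem_filter, Finset.mem_univ, true_and] at hi hj
        exact hj ((hadj i j hij).symm.trans hi)
      funext i
      have : i ∈ (univ.filter fun i => y i = y i₀) := by rw [hall]; exact Finset.mem_univ i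
      simp only [Finset.mem_filter, Finset.mem_univ, true_and] at this
      rw [hy i, this]; rfl
  · rintro ⟨q, rfl⟩
    rw [Matrix.mulVec_smul, hAm, smul_zero, dotProduct_zero]

end Groth.Agent.S2171
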