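import Groth.Statements.S2172
import Mathlib.LinearAlgebra.Matrix.Rank
import Mathlib.LinearAlgebra.Matrix.Diagonal
import Mathlib.LinearAlgebra.FiniteDimensional.Lemmas
import Mathlib.FieldTheory.Finiteness
import Mathlib.Tactic

set_option autoImplicit false
open Finset
open Models

namespace Groth.Agent.S2172

/-- Splitting a double sum into the part above, below and on the diagonal. -/
theorem sum_split {R : Type*} [AddCommMonoid R] {n : ℕ} (f : Fin n → Fin n → R) :
    ∑ i, ∑ j, f i j = (∑ p ∈ univ.filter (fun p : Fin n × Fin n => p.1 < p.2),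
      (f p.1 p.2 + f p.2 p.1)) + ∑ i, f i i := by
  have h1 : ∀ i j, f i j = (if i < j then f i j else 0) + (if j < i then f i j else 0) +
      (if i = j then f i j else 0) := by
    intro i j
    rcases lt_trichotomy i j with h | h | h
    · simp [h, h.not_gt, h.ne]
    · simp [h]
    · simp [h, h.not_gt, h.ne']
  have h2 : ∑ i, ∑ j, f i j = (∑ i, ∑ j, if i < j then f i j else 0) +
      (∑ i, ∑ j, if j < i then f i j else 0) + ∑ i, ∑ j, (if i = j then f i j else 0) := by
    rw [← Finset.sum_add_distrib, ← Finset.sum_add_distrib]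
    refine Finset.sum_congr rfl fun i _ => ?_
    rw [← Finset.sum_add_distrib, ← Finset.sum_add_distrib]
    exact Finset.sum_congr rfl fun j _ => h1 i j
  rw [h2, Finset.sum_add_distrib]
  congr 1
  · congr 1
    · rw [Finset.sum_filter, ← Finset.univ_product_univ, Finset.sum_product]
    · rw [Finset.sum_comm, Finset.sum_filter, ← Finset.univ_product_univ, Finset.sum_product]
  · refine Finset.sum_congr rfl fun i _ => ?_
    simp

theorem bilin {R : Type*} [CommRing R] {n : ℕ} (A : Matrix (Fin n) (Fin n) R)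
    (hs : ∀ i j, A i j = A j i) (hr : ∀ i, ∑ j, A i j = 0) (w v : Fin n → R) :
    ∑ p ∈ univ.filter (fun p : Fin n × Fin n => p.1 < p.2),
      A p.1 p.2 * ((w p.2 - w p.1) * (v p.2 - v p.1)) = - ∑ i, ∑ j, A i j * (w i * v j) := by
  have h1 := sum_split (fun i j => A i j * (w i * v j))
  have h2 := sum_split (fun i j => A i j * (w i * v i))
  have h3 : ∑ i, ∑ j, A i j * (w i * v i) = 0 := by
    refine Finset.sum_eq_zero fun i _ => ?_
    rw [← Finset.sum_mul, hr i, zero_mul]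
  rw [h3] at h2
  rw [h1]
  have h4 : ∑ p ∈ univ.filter (fun p : Fin n × Fin n => p.1 < p.2),
      A p.1 p.2 * ((w p.2 - w p.1) * (v p.2 - v p.1)) =
      (∑ p ∈ univ.filter (fun p : Fin n × Fin n => p.1 < p.2),
        (A p.1 p.2 * (w p.1 * v p.1) + A p.2 p.1 * (w p.2 * v p.2))) -
      (∑ p ∈ univ.filter (fun p : Fin n × Fin n => p.1 < p.2),
        (A p.1 p.2 * (w p.1 * v p.2) + A p.2 p.1 * (w p.2 * v p.1))) := by
    rw [← Finset.sum_sub_distrib]
    refine Finset.sum_congr rfl fun p _ => ?_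
    rw [hs p.2 p.1]
    ring
  rw [h4]
  linear_combination -h2


section main

variable {n : ℕ} (A : Matrix (Fin n) (Fin n) ℤ) (m : Fin n → ℤ) (ℓ : ℕ)

/-- The edges. -/
abbrev Edge : Type := {p : Fin n × Fin n // p ∈ univ.filter
  fun p : Fin n × Fin n => p.1 < p.2 ∧ 0 < A p.1 p.2}

/-- The rescaled matrix modulo `ℓ`. -/
def Am : Matrix (Fin n) (Fin n) (ZMod ℓ) := fun i j => ((m i * A i j * m j : ℤ) : ZMod ℓ)

/-- The incidence matrix. -/
def B : Matrix (Fin n) (Edge A) (ZMod ℓ) := fun i e =>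
  (Pi.single i (1 : ZMod ℓ) : Fin n → ZMod ℓ) e.1.2 - (Pi.single i (1 : ZMod ℓ) : Fin n → ZMod ℓ) e.1.1

/-- The weights. -/
def C : Matrix (Edge A) (Edge A) (ZMod ℓ) :=
  Matrix.diagonal fun e => Am A m ℓ e.1.1 e.1.2

theorem Bt_mulVec (v : Fin n → ZMod ℓ) (e : Edge A) :
    ((B A ℓ).transpose.mulVec v) e = v e.1.2 - v e.1.1 := by
  simp only [Matrix.mulVec, dotProduct, Matrix.transpose_apply, B, sub_mul,
    Finset.sum_sub_distrib]
  congr 1
  · rw [Finset.sum_eq_single e.1.2]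
    · simp
    · intro b _ hb
      simp [Pi.single_apply, hb.symm]
    · simp
  · rw [Finset.sum_eq_single e.1.1]
    · simp
    · intro b _ hb
      simp [Pi.single_apply, hb.symm]
    · simp

theorem BC_mulVec (hs : ∀ i j, A i j = A j i) (hA : ∀ i j, i ≠ j → 0 ≤ A i j)
    (hAm : A.mulVec m = 0) (v : Fin n → ZMod ℓ) (i : Fin n) :
    ((B A ℓ * C A m ℓ).mulVec ((B A ℓ).transpose.mulVec v)) i = - ∑ j, Am A m ℓ i j * v j := by
  have hr : ∀ i, ∑ j, Am A m ℓ i j = 0 := by
    intro i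
    have := congrFun hAm i
    simp only [Matrix.mulVec, dotProduct, Pi.zero_apply] at this
    simp only [Am]
    rw [← Int.cast_sum]
    have h2 : ∑ j, m i * A i j * m j = 0 := by
      simp_rw [mul_assoc]
      rw [← Finset.mul_sum, this, mul_zero]
    rw [h2, Int.cast_zero]
  have hs' : ∀ i j, Am A m ℓ i j = Am A m ℓ j i := by
    intro i j
    simp only [Am, hs i j]
    congr 1
    ring
  have h := bilin (Am A m ℓ) hs' hr (Pi.single i 1) v
  have h2 : ∑ i', ∑ j, Am A m ℓ i' j * ((Pi.single i (1 : ZMod ℓ) : Fin n → ZMod ℓ) i' * v j) =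
      ∑ j, Am A m ℓ i j * v j := by
    rw [Finset.sum_eq_single i]
    · simp
    · intro b _ hb
      simp [Pi.single_apply, hb]
    · simp
  rw [h2] at h
  rw [← h]
  have h3 : ∀ e : Edge A, (B A ℓ * C A m ℓ) i e = (B A ℓ) i e * Am A m ℓ e.1.1 e.1.2 := by
    intro e
    simp [C, Matrix.mul_diagonal]
  rw [Matrix.mulVec, dotProduct]
  have h4 : ∑ e : Edge A, (B A ℓ * C A m ℓ) i e * (B A ℓ).transpose.mulVec v e =
      ∑ e : Edge A, Am A m ℓ e.1.1 e.1.2 *
        (((Pi.single i (1 : ZMod ℓ) : Fin n → ZMod ℓ) e.1.2 -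
          (Pi.single i (1 : ZMod ℓ) : Fin n → ZMod ℓ) e.1.1) * (v e.1.2 - v e.1.1)) := by
    refine Finset.sum_congr rfl fun e _ => ?_
    rw [h3, Bt_mulVec, B]
    ring
  rw [h4]
  rw [Finset.sum_coe_sort (univ.filter
    fun p : Fin n × Fin n => p.1 < p.2 ∧ 0 < A p.1 p.2) (fun p => Am A m ℓ p.1 p.2 *
        (((Pi.single i (1 : ZMod ℓ) : Fin n → ZMod ℓ) p.2 -
          (Pi.single i (1 : ZMod ℓ) : Fin n → ZMod ℓ) p.1) * (v p.2 - v p.1)))]
  refine Finset.sum_subset ?_ ?_
  · intro p hp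
    simp only [Finset.mem_filter, Finset.mem_univ, true_and] at hp ⊢
    exact hp.1
  · intro p hp hp'
    simp only [Finset.mem_filter, Finset.mem_univ, true_and, not_and] at hp hp'
    have h5 : A p.1 p.2 = 0 := le_antisymm (not_lt.1 (hp' hp)) (hA _ _ hp.ne)
    simp [Am, h5]

theorem const_of_Bt (hA : ∀ i j, i ≠ j → 0 ≤ A i j) (hs : ∀ i j, A i j = A j i)
    (hconn : ∀ I : Finset (Fin n), I.Nonempty → I ≠ univ → ∃ i ∈ I, ∃ j ∉ I, A i j ≠ 0)
    (v : Fin n → ZMod ℓ) (hv : (B A ℓ).transpose.mulVec v = 0) : ∃ c, v = fun _ => c := by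
  rcases Nat.eq_zero_or_pos n with rfl | hn
  · exact ⟨0, Subsingleton.elim _ _⟩
  let i0 : Fin n := ⟨0, hn⟩
  classical
  refine ⟨v i0, ?_⟩
  by_contra hne
  obtain ⟨i, hi, j, hj, hij⟩ := hconn (univ.filter fun i => v i = v i0)
    ⟨i0, by simp⟩ (by
      intro h
      apply hne
      ext i
      have : i ∈ univ.filter fun i => v i = v i0 := by rw [h]; exact Finset.mem_univ _
      simpa using this)
  simp only [Finset.mem_filter, Finset.mem_univ, true_and] at hi hj
  have hne' : i ≠ j := by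
    rintro rfl
    exact hj hi
  have hpos : 0 < A i j := lt_of_le_of_ne (hA i j hne') (Ne.symm hij)
  rcases lt_or_gt_of_ne hne' with h | h
  · have := congrFun hv ⟨(i, j), by simp [h, hpos]⟩
    rw [Bt_mulVec] at this
    simp only [Pi.zero_apply] at this
    exact hj ((sub_eq_zero.1 this).trans hi)
  · have := congrFun hv ⟨(j, i), by simp [h, hs j i, hpos]⟩
    rw [Bt_mulVec] at this
    simp only [Pi.zero_apply] at this
    exact hj ((sub_eq_zero.1 this).symm.trans hi)

end main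

/-- Stacks Tag 0C6X. Let A be a symmetric integer n by n matrix with non-negative off-diagonal entries killing an
integer vector m with positive entries, such that no proper non-empty index set is orthogonal to its
complement. Write e for the number of index pairs i < j where A i j > 0, and let l be a prime dividing
none of the nonzero entries of A and none of the m i. Then the l-torsion subgroup of the cokernel of A
on Z^n has at most l^(1 - n + e) elements, i.e. F_l-dimension at most 1 - n + e (the exponent is written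
with truncated subtraction; e + 1 is never smaller than n here). -/
theorem result {n : ℕ} (A : Matrix (Fin n) (Fin n) ℤ)
    (m : Fin n → ℤ) (hsymm : A.IsSymm) (hA : ∀ i j, i ≠ j → 0 ≤ A i j) (hm : ∀ i, 0 < m i)
    (hAm : A.mulVec m = 0)
    (hconn : ∀ I : Finset (Fin n), I.Nonempty → I ≠ univ → ∃ i ∈ I, ∃ j ∉ I, A i j ≠ 0)
    (ℓ : ℕ) (hℓ : ℓ.Prime) (hℓA : ∀ i j, A i j ≠ 0 → ¬ ((ℓ : ℤ) ∣ A i j))
    (hℓm : ∀ i, ¬ ((ℓ : ℤ) ∣ m i)) :
    Nat.card (Submodule.torsionBy ℤ ((Fin n → ℤ) ⧸ LinearMap.range (Matrix.mulVecLin A)) (ℓ : ℤ))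
      ≤ ℓ ^ ((univ.filter fun p : Fin n × Fin n => p.1 < p.2 ∧ 0 < A p.1 p.2).card + 1 - n) := by
  classical
  have : Fact ℓ.Prime := ⟨hℓ⟩
  have hs : ∀ i j, A i j = A j i := fun i j => (hsymm.apply i j).symm
  have hm' : ∀ i, ((m i : ℤ) : ZMod ℓ) ≠ 0 := by
    intro i h
    exact hℓm i ((ZMod.intCast_zmod_eq_zero_iff_dvd _ _).1 h)
  -- the target
  let G := LinearMap.ker (Matrix.mulVecLin (B A ℓ * C A m ℓ))
  -- rank computations
  have hCdet : IsUnit (C A m ℓ).det := by
    rw [C, Matrix.det_diagonal]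
    rw [isUnit_iff_ne_zero, Finset.prod_ne_zero_iff]
    intro e _
    have he := e.2
    simp only [Finset.mem_filter, Finset.mem_univ, true_and] at he
    simp only [Am, Int.cast_mul]
    refine mul_ne_zero (mul_ne_zero (hm' _) ?_) (hm' _)
    intro h
    exact hℓA _ _ he.2.ne' ((ZMod.intCast_zmod_eq_zero_iff_dvd _ _).1 h)
  have hrank : (B A ℓ * C A m ℓ).rank = (B A ℓ).transpose.rank := by
    rw [Matrix.rank_mul_eq_left_of_isUnit_det _ _ hCdet, Matrix.rank_transpose]
  have hker : Module.finrank (ZMod ℓ) (LinearMap.ker (Matrix.mulVecLin (B A ℓ).transpose)) ≤ 1 := by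
    refine finrank_le_one
      (⟨fun _ => 1, ?_⟩ : LinearMap.ker (Matrix.mulVecLin (B A ℓ).transpose)) ?_
    · rw [LinearMap.mem_ker, Matrix.mulVecLin_apply]
      ext e
      rw [Bt_mulVec]
      simp
    · intro w
      obtain ⟨c, hc⟩ := const_of_Bt A ℓ hA hs hconn w.1 (by
        have := w.2
        rwa [LinearMap.mem_ker, Matrix.mulVecLin_apply] at this)
      refine ⟨c, Subtype.ext ?_⟩
      rw [hc]
      ext i
      simp
  have hrn := LinearMap.finrank_range_add_finrank_ker (Matrix.mulVecLin (B A ℓ).transpose)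
  have hrn' := LinearMap.finrank_range_add_finrank_ker (Matrix.mulVecLin (B A ℓ * C A m ℓ))
  change (B A ℓ).transpose.rank + _ = _ at hrn
  change (B A ℓ * C A m ℓ).rank + _ = _ at hrn'
  rw [Module.finrank_fintype_fun_eq_card, Fintype.card_fin] at hrn
  rw [Module.finrank_fintype_fun_eq_card, Fintype.card_coe] at hrn'
  have hG : Module.finrank (ZMod ℓ) G ≤
      (univ.filter fun p : Fin n × Fin n => p.1 < p.2 ∧ 0 < A p.1 p.2).card + 1 - n := by
    change Module.finrank (ZMod ℓ) (LinearMap.ker _) ≤ _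
    omega
  have hcardG : Nat.card G ≤
      ℓ ^ ((univ.filter fun p : Fin n × Fin n => p.1 < p.2 ∧ 0 < A p.1 p.2).card + 1 - n) := by
    rw [Module.natCard_eq_pow_finrank (K := ZMod ℓ), Nat.card_zmod]
    exact Nat.pow_le_pow_right hℓ.pos hG
  refine le_trans ?_ hcardG
  -- the injection
  have hex : ∀ x : Submodule.torsionBy ℤ
      ((Fin n → ℤ) ⧸ LinearMap.range (Matrix.mulVecLin A)) (ℓ : ℤ),
      ∃ p : (Fin n → ℤ) × (Fin n → ℤ), Submodule.Quotient.mk p.1 = x.1 ∧
        (ℓ : ℤ) • p.1 = A.mulVec p.2 := by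
    intro x
    obtain ⟨x', hx'⟩ := Submodule.Quotient.mk_surjective _ x.1
    have h1 : (ℓ : ℤ) • x.1 = 0 := x.2
    rw [← hx', ← Submodule.Quotient.mk_smul, Submodule.Quotient.mk_eq_zero] at h1
    obtain ⟨y, hy⟩ := h1
    exact ⟨(x', y), hx', hy.symm⟩
  choose p hp1 hp2 using hex
  let v : Submodule.torsionBy ℤ
      ((Fin n → ℤ) ⧸ LinearMap.range (Matrix.mulVecLin A)) (ℓ : ℤ) → Fin n → ZMod ℓ :=
    fun x i => (((p x).2 i : ℤ) : ZMod ℓ) * ((m i : ℤ) : ZMod ℓ)⁻¹
  have hvm : ∀ x i, ((m i : ℤ) : ZMod ℓ) * v x i = (((p x).2 i : ℤ) : ZMod ℓ) := by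
    intro x i
    simp only [v]
    field_simp [hm' i]
  have hmem : ∀ x, (B A ℓ).transpose.mulVec (v x) ∈ G := by
    intro x
    change Matrix.mulVecLin (B A ℓ * C A m ℓ) _ = 0
    rw [Matrix.mulVecLin_apply]
    ext i
    rw [BC_mulVec A m ℓ hs hA hAm]
    have h1 := congrFun (hp2 x) i
    simp only [Matrix.mulVec, dotProduct, Pi.smul_apply, smul_eq_mul] at h1
    have h2 : ∑ j, Am A m ℓ i j * v x j = ((m i * ∑ j, A i j * (p x).2 j : ℤ) : ZMod ℓ) := by
      rw [Finset.mul_sum, Int.cast_sum]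
      refine Finset.sum_congr rfl fun j _ => ?_
      simp only [Am, Int.cast_mul]
      rw [mul_assoc, hvm]
      ring
    rw [h2, ← h1]
    simp
  refine Nat.card_le_card_of_injective (fun x => (⟨_, hmem x⟩ : G)) ?_
  intro x x' hxx'
  have h1 : (B A ℓ).transpose.mulVec (v x - v x') = 0 := by
    rw [Matrix.mulVec_sub, sub_eq_zero]
    exact congrArg Subtype.val hxx'
  obtain ⟨c, hc⟩ := const_of_Bt A ℓ hA hs hconn _ h1
  obtain ⟨c', rfl⟩ := ZMod.intCast_surjective c
  have h2 : ∀ i, ∃ z : ℤ, (p x).2 i - (p x').2 i = c' * m i + ℓ * z := by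
    intro i
    have h3 := congrFun hc i
    simp only [Pi.sub_apply] at h3
    have h4 : (((p x).2 i - (p x').2 i - c' * m i : ℤ) : ZMod ℓ) = 0 := by
      push_cast
      rw [← hvm, ← hvm, ← mul_sub, h3]
      ring
    obtain ⟨z, hz⟩ := (ZMod.intCast_zmod_eq_zero_iff_dvd _ _).1 h4
    exact ⟨z, by linarith⟩
  choose z hz using h2
  have h5 : (p x).2 - (p x').2 = c' • m + (ℓ : ℤ) • z := by
    ext i
    simp [hz i]
  have h6 : (ℓ : ℤ) • ((p x).1 - (p x').1) = (ℓ : ℤ) • A.mulVec z := by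
    rw [smul_sub, hp2, hp2, ← Matrix.mulVec_sub, h5, Matrix.mulVec_add, Matrix.mulVec_smul, hAm,
      Matrix.mulVec_smul]
    simp
  have h7 : (p x).1 - (p x').1 = A.mulVec z := by
    have hℓ0 : (ℓ : ℤ) ≠ 0 := by exact_mod_cast hℓ.ne_zero
    exact smul_right_injective _ hℓ0 h6
  apply Subtype.ext
  rw [← hp1 x, ← hp1 x', Submodule.Quotient.eq]
  exact ⟨z, h7.symm⟩

end Groth.Agent.S2172
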