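import Groth.Statements.S2177
import Mathlib.Tactic
-- import your own Groth.Agent.* helpers here

set_option autoImplicit false
open Finset
open Models Models.NumericalType

namespace Groth.Agent.S2177

theorem sum_sum_symm {n : ℕ} (f : Fin n → Fin n → ℤ) (hf : ∀ i j, f i j = f j i) :
    ∑ i, ∑ j, f i j = ∑ i, f i i +
      2 * ∑ p ∈ univ.filter (fun p : Fin n × Fin n => p.1 < p.2), f p.1 p.2 := by
  have h1 : ∑ i, ∑ j, f i j = ∑ p : Fin n × Fin n, f p.1 p.2 := by
    rw [← Finset.univ_product_univ, Finset.sum_product]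
  have h2 : ∑ p : Fin n × Fin n, f p.1 p.2 =
      ∑ p ∈ univ.filter (fun p : Fin n × Fin n => p.1 < p.2), f p.1 p.2 +
      ∑ p ∈ univ.filter (fun p : Fin n × Fin n => ¬ p.1 < p.2), f p.1 p.2 :=
    (Finset.sum_filter_add_sum_filter_not _ _ _).symm
  have h3 : ∑ p ∈ univ.filter (fun p : Fin n × Fin n => ¬ p.1 < p.2), f p.1 p.2 =
      ∑ p ∈ (univ.filter (fun p : Fin n × Fin n => ¬ p.1 < p.2)).filter (fun p => p.2 < p.1),
        f p.1 p.2 +
      ∑ p ∈ (univ.filter (fun p : Fin n × Fin n => ¬ p.1 < p.2)).filter (fun p => ¬ p.2 < p.1),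
        f p.1 p.2 := (Finset.sum_filter_add_sum_filter_not _ _ _).symm
  have h4 : (univ.filter (fun p : Fin n × Fin n => ¬ p.1 < p.2)).filter (fun p => p.2 < p.1) =
      univ.filter (fun p : Fin n × Fin n => p.2 < p.1) := by
    ext p
    simp only [mem_filter, mem_univ, true_and]
    constructor
    · exact fun h => h.2
    · exact fun h => ⟨not_lt.mpr h.le, h⟩
  have h5 : ∑ p ∈ univ.filter (fun p : Fin n × Fin n => p.2 < p.1), f p.1 p.2 =
      ∑ p ∈ univ.filter (fun p : Fin n × Fin n => p.1 < p.2), f p.1 p.2 := by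
    refine Finset.sum_bij' (fun p _ => p.swap) (fun p _ => p.swap) ?_ ?_ ?_ ?_ ?_
    · intro p hp; simpa using hp
    · intro p hp; simpa using hp
    · intro p hp; simp
    · intro p hp; simp
    · intro p hp; exact hf _ _
  have h6 : ∑ p ∈ (univ.filter (fun p : Fin n × Fin n => ¬ p.1 < p.2)).filter
      (fun p => ¬ p.2 < p.1), f p.1 p.2 = ∑ i, f i i := by
    refine Finset.sum_bij' (fun p _ => p.1) (fun i _ => (i, i)) ?_ ?_ ?_ ?_ ?_
    · intro p hp; simp
    · intro p hp; simp
    · intro p hp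
      simp only [mem_filter, mem_univ, true_and] at hp
      have : p.1 = p.2 := le_antisymm (not_lt.mp hp.2) (not_lt.mp hp.1)
      ext <;> simp [this]
    · intro p hp; simp
    · intro p hp
      simp only [mem_filter, mem_univ, true_and] at hp
      have : p.1 = p.2 := le_antisymm (not_lt.mp hp.2) (not_lt.mp hp.1)
      simp [this]
  rw [h1, h2, h3, h4, h5, h6]
  ring

variable {n : ℕ} (T : Models.NumericalType n)

theorem row_sum (i : Fin n) : ∑ j, T.a i j * T.m j = 0 := by
  have := congrFun T.mulVec_m i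
  simpa [Matrix.mulVec, dotProduct] using this

theorem a_symm (i j : Fin n) : T.a i j = T.a j i := T.symm.apply j i

theorem row_sum_erase (i : Fin n) :
    ∑ j ∈ univ.erase i, T.a i j * T.m j = - (T.a i i * T.m i) := by
  have h := row_sum T i
  rw [← Finset.add_sum_erase _ _ (mem_univ i)] at h
  linarith

theorem exists_neighbor (hn : 1 < n) (i : Fin n) : ∃ j, j ≠ i ∧ 0 < T.a i j := by
  have hne : ({i} : Finset (Fin n)) ≠ univ := by
    intro h
    have := congrArg Finset.card h
    simp at this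
    omega
  obtain ⟨i', hi', j, hj, hij⟩ := T.connected {i} (singleton_nonempty i) hne
  rw [mem_singleton] at hi' hj
  subst hi'
  exact ⟨j, hj, lt_of_le_of_ne (T.offDiag_nonneg _ _ (Ne.symm hj)) (Ne.symm hij)⟩

theorem diag_neg (hn : 1 < n) (i : Fin n) : T.a i i < 0 := by
  obtain ⟨j, hj, hij⟩ := exists_neighbor T hn i
  have h := row_sum_erase T i
  have hpos : 0 < ∑ j ∈ univ.erase i, T.a i j * T.m j := by
    apply Finset.sum_pos'
    · intro k hk
      exact mul_nonneg (T.offDiag_nonneg _ _ (Ne.symm (ne_of_mem_erase hk))) (T.m_pos k).le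
    · exact ⟨j, mem_erase.mpr ⟨hj, mem_univ _⟩, mul_pos hij (T.m_pos j)⟩
  rw [h] at hpos
  have hm := T.m_pos i
  by_contra hc
  push Not at hc
  have := mul_nonneg hc hm.le
  linarith

theorem two_dvd : (2 : ℤ) ∣ ∑ i, T.m i * T.a i i := by
  have h0 : ∑ i, ∑ j, T.m i * T.a i j * T.m j = 0 := by
    apply Finset.sum_eq_zero
    intro i _
    have : ∑ j, T.m i * T.a i j * T.m j = T.m i * ∑ j, T.a i j * T.m j := by
      rw [Finset.mul_sum]; apply Finset.sum_congr rfl; intros; ring
    rw [this, row_sum, mul_zero]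
  have h1 := sum_sum_symm (fun i j => T.m i * T.a i j * T.m j)
    (by intro i j; rw [a_symm T i j]; ring)
  rw [h0] at h1
  have h2 : (2 : ℤ) ∣ ∑ i, (T.m i * T.a i i * T.m i - T.m i * T.a i i) := by
    apply Finset.dvd_sum
    intro i _
    have : T.m i * T.a i i * T.m i - T.m i * T.a i i = T.a i i * (T.m i * (T.m i - 1)) := by ring
    rw [this]
    apply Dvd.dvd.mul_left
    have := Int.even_mul_pred_self (T.m i)
    exact this.two_dvd
  rw [Finset.sum_sub_distrib] at h2
  have h3 : (2 : ℤ) ∣ ∑ i, T.m i * T.a i i * T.m i := by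
    refine ⟨- ∑ p ∈ univ.filter (fun p : Fin n × Fin n => p.1 < p.2),
      T.m p.1 * T.a p.1 p.2 * T.m p.2, ?_⟩
    linarith
  have h4 := dvd_sub h3 h2
  simpa using h4

/-- `K i = 2 w i (g i - 1) - a i i`. -/
def K (i : Fin n) : ℤ := 2 * T.w i * (T.g i - 1) - T.a i i

theorem two_genus : 2 * T.genus - 2 = ∑ i, T.m i * K T i := by
  obtain ⟨c, hc⟩ := two_dvd T
  unfold Models.NumericalType.genus
  rw [hc, Int.mul_ediv_cancel_left _ (by norm_num)]
  have : ∑ i, T.m i * K T i = 2 * ∑ i, T.m i * T.w i * (T.g i - 1) - ∑ i, T.m i * T.a i i := by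
    rw [Finset.mul_sum, ← Finset.sum_sub_distrib]
    apply Finset.sum_congr rfl
    intro i _
    unfold K
    ring
  rw [this, hc]
  ring

theorem K_nonneg (hmin : T.IsMinimal) (hn : 1 < n) (i : Fin n) : 0 ≤ K T i := by
  have hd := diag_neg T hn i
  have hg := T.g_nonneg i
  have hw := T.w_pos i
  unfold K
  rcases hg.lt_or_eq with h | h
  · have : 0 ≤ 2 * T.w i * (T.g i - 1) := by
      apply mul_nonneg <;> linarith
    linarith
  · obtain ⟨c, hc⟩ := T.w_dvd i i
    have hne := hmin i
    have hc0 : c < 0 := by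
      by_contra hcc
      push Not at hcc
      have := mul_nonneg hw.le hcc
      linarith
    have hc1 : c ≠ -1 := by
      intro hcc
      apply hne
      refine ⟨h.symm, ?_⟩
      rw [hc, hcc]; ring
    have hc2 : c ≤ -2 := by omega
    rw [← h, hc]
    nlinarith

/-- `D² ≤ 0` for `D` the reduced divisor. -/
theorem sum_a_nonpos : ∑ i, ∑ j, T.a i j ≤ 0 := by
  -- work over the rationals
  have key : ∀ i j, (T.a i j : ℚ) * ((T.m i : ℚ) ^ 2 + (T.m j : ℚ) ^ 2) / (T.m i * T.m j)
      ≥ 2 * (T.a i j : ℚ) := by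
    intro i j
    have hi : (0 : ℚ) < T.m i := by exact_mod_cast T.m_pos i
    have hj : (0 : ℚ) < T.m j := by exact_mod_cast T.m_pos j
    rw [ge_iff_le, le_div_iff₀ (mul_pos hi hj)]
    by_cases hij : i = j
    · subst hij
      apply le_of_eq; ring
    · have ha : (0 : ℚ) ≤ T.a i j := by exact_mod_cast T.offDiag_nonneg i j hij
      nlinarith [mul_nonneg ha (sq_nonneg ((T.m i : ℚ) - T.m j))]
  have h1 : ∑ i, ∑ j, (T.a i j : ℚ) * ((T.m i : ℚ) ^ 2 + (T.m j : ℚ) ^ 2) / (T.m i * T.m j) = 0 := by
    have hsplit : ∀ i j, (T.a i j : ℚ) * ((T.m i : ℚ) ^ 2 + (T.m j : ℚ) ^ 2) / (T.m i * T.m j) =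
        (T.a i j : ℚ) * T.m j / T.m i + (T.a j i : ℚ) * T.m i / T.m j := by
      intro i j
      have hi : (0 : ℚ) < T.m i := by exact_mod_cast T.m_pos i
      have hj : (0 : ℚ) < T.m j := by exact_mod_cast T.m_pos j
      rw [a_symm T j i]
      field_simp
      ring
    simp_rw [hsplit, Finset.sum_add_distrib]
    have hz : ∀ i, ∑ j, (T.a i j : ℚ) * T.m j / T.m i = 0 := by
      intro i
      rw [← Finset.sum_div]
      have := row_sum T i
      have h' : ∑ j, (T.a i j : ℚ) * T.m j = 0 := by exact_mod_cast this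
      rw [h', zero_div]
    rw [Finset.sum_eq_zero (fun i _ => hz i), Finset.sum_comm,
      Finset.sum_eq_zero (fun i _ => hz i), add_zero]
  have h2 : ∑ i, ∑ j, 2 * (T.a i j : ℚ) ≤ 0 := by
    rw [← h1]
    apply Finset.sum_le_sum
    intro i _
    apply Finset.sum_le_sum
    intro j _
    exact key i j
  have h3 : ∑ i, ∑ j, 2 * (T.a i j : ℚ) = 2 * ((∑ i, ∑ j, T.a i j : ℤ) : ℚ) := by
    push_cast
    rw [Finset.mul_sum]
    apply Finset.sum_congr rfl
    intro i _
    rw [Finset.mul_sum]
  rw [h3] at h2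
  have : ((∑ i, ∑ j, T.a i j : ℤ) : ℚ) ≤ 0 := by linarith
  exact_mod_cast this

/-- The set of edges. -/
def E : Finset (Fin n × Fin n) := univ.filter fun p : Fin n × Fin n => p.1 < p.2 ∧ 0 < T.a p.1 p.2

theorem w_le_fst {p : Fin n × Fin n} (hp : p ∈ E T) : T.w p.1 ≤ T.a p.1 p.2 := by
  unfold E at hp
  simp only [mem_filter, mem_univ, true_and] at hp
  exact Int.le_of_dvd hp.2 (T.w_dvd _ _)

theorem w_le_snd {p : Fin n × Fin n} (hp : p ∈ E T) : T.w p.2 ≤ T.a p.1 p.2 := by
  unfold E at hp
  simp only [mem_filter, mem_univ, true_and] at hp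
  rw [a_symm T p.1 p.2] at hp ⊢
  exact Int.le_of_dvd hp.2 (T.w_dvd _ _)

theorem exists_assign (k : ℕ) : ∀ S : Finset (Fin n), S.card = k → S ≠ univ →
    ∃ F ⊆ E T, F.card = S.card ∧ ∑ v ∈ S, (T.w v - 1) ≤ ∑ e ∈ F, (T.a e.1 e.2 - 1) ∧
      ∀ e ∈ F, e.1 ∈ S ∨ e.2 ∈ S := by
  induction k with
  | zero =>
    intro S hS _
    rw [Finset.card_eq_zero] at hS
    subst hS
    exact ⟨∅, by simp⟩
  | succ k ih =>
    intro S hS hSu
    have hne : S.Nonempty := by
      rw [← Finset.card_pos]; omega
    obtain ⟨i, hi, j, hj, hij⟩ := T.connected S hne hSu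
    have hij' : i ≠ j := fun h => hj (h ▸ hi)
    have hpos : 0 < T.a i j := lt_of_le_of_ne (T.offDiag_nonneg _ _ hij') (Ne.symm hij)
    have hcard : (S.erase i).card = k := by
      rw [Finset.card_erase_of_mem hi, hS]; omega
    have hSu' : S.erase i ≠ univ := by
      intro h
      have := mem_univ i
      rw [← h] at this
      exact absurd this (by simp)
    obtain ⟨F, hFE, hFc, hFs, hFi⟩ := ih (S.erase i) hcard hSu'
    -- the new edge
    obtain ⟨e, heE, he⟩ : ∃ e ∈ E T, (e = (i, j) ∨ e = (j, i)) := by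
      rcases lt_or_gt_of_ne hij' with h | h
      · exact ⟨(i, j), by simp [E, h, hpos], Or.inl rfl⟩
      · exact ⟨(j, i), by simp only [E, mem_filter, mem_univ, true_and]; exact ⟨h, by rw [a_symm T]; exact hpos⟩, Or.inr rfl⟩
    have heF : e ∉ F := by
      intro hc
      have := hFi e hc
      rcases he with rfl | rfl
      · rcases this with h | h
        · simp at h
        · exact hj (mem_of_mem_erase h)
      · rcases this with h | h
        · exact hj (mem_of_mem_erase h)
        · simp at h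
    have hwe : T.w i ≤ T.a e.1 e.2 := by
      rcases he with rfl | rfl
      · exact w_le_fst T heE
      · exact w_le_snd T heE
    refine ⟨insert e F, ?_, ?_, ?_, ?_⟩
    · intro x hx
      rcases mem_insert.mp hx with rfl | hx
      · exact heE
      · exact hFE hx
    · rw [card_insert_of_notMem heF, hFc, hcard, hS]
    · rw [sum_insert heF, ← Finset.add_sum_erase _ _ hi]
      linarith
    · intro x hx
      rcases mem_insert.mp hx with rfl | hx
      · rcases he with rfl | rfl
        · exact Or.inl hi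
        · exact Or.inr hi
      · rcases hFi x hx with h | h
        · exact Or.inl (mem_of_mem_erase h)
        · exact Or.inr (mem_of_mem_erase h)

theorem sum_w_le (hcard : n ≤ (E T).card) :
    ∑ v, (T.w v - 1) ≤ ∑ e ∈ E T, (T.a e.1 e.2 - 1) := by
  have : Nonempty (Fin n) := ⟨⟨0, T.pos⟩⟩
  obtain ⟨r, -, hr⟩ := Finset.exists_min_image univ T.w univ_nonempty
  have hne : (univ.erase r : Finset (Fin n)) ≠ univ := by
    intro h
    have := mem_univ r
    rw [← h] at this
    exact absurd this (by simp)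
  obtain ⟨F, hFE, hFc, hFs, -⟩ := exists_assign T _ (univ.erase r) rfl hne
  have hFc' : F.card < (E T).card := by
    rw [hFc, card_erase_of_mem (mem_univ r), card_univ, Fintype.card_fin]
    have := T.pos
    omega
  obtain ⟨e, heE, heF⟩ : ∃ e ∈ E T, e ∉ F := by
    by_contra hcon
    push Not at hcon
    have := Finset.card_le_card (show E T ⊆ F from hcon)
    omega
  have hins : insert e F ⊆ E T := by
    intro x hx
    rcases mem_insert.mp hx with rfl | hx
    · exact heE
    · exact hFE hx
  have hle : ∑ x ∈ insert e F, (T.a x.1 x.2 - 1) ≤ ∑ x ∈ E T, (T.a x.1 x.2 - 1) := by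
    apply Finset.sum_le_sum_of_subset_of_nonneg hins
    intro x hx _
    have h1 := w_le_fst T hx
    have h2 := T.w_pos x.1
    linarith
  rw [sum_insert heF] at hle
  have h1 : T.w r ≤ T.a e.1 e.2 := (hr e.1 (mem_univ _)).trans (w_le_fst T heE)
  rw [← Finset.add_sum_erase _ _ (mem_univ r)]
  linarith

/-- Stacks Tag 0C7C. If a numerical type is minimal and has at least two indices, its genus is bounded below by the
topological genus 1 - n + e, e being the number of pairs i < j with a i j > 0. -/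
theorem result {n : ℕ} (T : Models.NumericalType n) (hmin : T.IsMinimal) (hn : 1 < n) : T.topGenus ≤ T.genus := by
  have hE : T.edgeCount = (E T).card := rfl
  unfold Models.NumericalType.topGenus
  have h2g := two_genus T
  have hK := K_nonneg T hmin hn
  have hge1 : 0 ≤ ∑ i, T.m i * K T i :=
    Finset.sum_nonneg fun i _ => mul_nonneg (T.m_pos i).le (hK i)
  by_cases hcard : n ≤ (E T).card
  · have h1 := sum_w_le T hcard
    have h2 := sum_a_nonpos T
    rw [sum_sum_symm _ (a_symm T)] at h2
    have h3 : ∑ p ∈ univ.filter (fun p : Fin n × Fin n => p.1 < p.2), T.a p.1 p.2 =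
        ∑ p ∈ E T, T.a p.1 p.2 := by
      symm
      apply Finset.sum_subset
      · intro p hp
        simp only [E, mem_filter, mem_univ, true_and] at hp ⊢
        exact hp.1
      · intro p hp hp'
        simp only [E, mem_filter, mem_univ, true_and, not_and, not_lt] at hp hp'
        exact le_antisymm (hp' hp) (T.offDiag_nonneg _ _ (ne_of_lt hp))
    rw [h3] at h2
    have h4 : ∑ i, K T i ≤ ∑ i, T.m i * K T i := by
      apply Finset.sum_le_sum
      intro i _
      have := T.m_pos i
      have := hK i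
      nlinarith
    have h5 : ∑ i, K T i = ∑ i, 2 * (T.w i * T.g i) - 2 * ∑ i, T.w i - ∑ i, T.a i i := by
      rw [Finset.mul_sum, ← Finset.sum_sub_distrib, ← Finset.sum_sub_distrib]
      apply Finset.sum_congr rfl
      intro i _
      unfold K
      ring
    have h6 : 0 ≤ ∑ i, 2 * (T.w i * T.g i) := by
      apply Finset.sum_nonneg
      intro i _
      have := mul_nonneg (T.w_pos i).le (T.g_nonneg i)
      linarith
    simp only [Finset.sum_sub_distrib, Finset.sum_const, card_univ, Fintype.card_fin,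
      nsmul_eq_mul, mul_one] at h1
    rw [hE]
    linarith
  · push Not at hcard
    rw [hE]
    have : ((E T).card : ℤ) + 1 ≤ n := by exact_mod_cast hcard
    linarith

end Groth.Agent.S2177
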