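-- Proof of statement S2178.
import Groth.Statements.S2178
import Mathlib.LinearAlgebra.Dimension.RankNullity
import Mathlib.LinearAlgebra.Dimension.Localization
-- import your own Groth.Agent.* helpers here

set_option autoImplicit false
open Finset
open Models Models.NumericalType

namespace Groth.Agent.S2178

theorem w_mul_picMatrix {n : ℕ} (T : Models.NumericalType n) (i j : Fin n) :
    T.w i * T.picMatrix i j = T.a i j :=
  Int.mul_ediv_cancel' (T.w_dvd i j)

theorem w_mul_picMatrix_mulVec {n : ℕ} (T : Models.NumericalType n) (y : Fin n → ℤ) (i : Fin n) :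
    T.w i * (T.picMatrix.mulVec y) i = (T.a.mulVec y) i := by
  simp only [Matrix.mulVec, dotProduct, Finset.mul_sum]
  refine Finset.sum_congr rfl fun j _ => ?_
  rw [← mul_assoc, w_mul_picMatrix]

theorem picMatrix_mulVec_eq_zero_iff {n : ℕ} (T : Models.NumericalType n) (y : Fin n → ℤ) :
    T.picMatrix.mulVec y = 0 ↔ T.a.mulVec y = 0 := by
  constructor
  · intro h
    ext i
    rw [← w_mul_picMatrix_mulVec, h]; simp
  · intro h
    ext i
    have := w_mul_picMatrix_mulVec T y i
    rw [h] at this
    simpa [(T.w_pos i).ne'] using this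

/-- every vector killed by `a` is proportional to `m`. -/
theorem exists_proportional {n : ℕ} (T : Models.NumericalType n) (x : Fin n → ℤ)
    (hx : T.a.mulVec x = 0) : ∃ i₀, ∀ i, x i * T.m i₀ = x i₀ * T.m i := by
  have : Nonempty (Fin n) := ⟨⟨0, T.pos⟩⟩
  obtain ⟨i₀, -, hi₀⟩ := Finset.exists_max_image (univ : Finset (Fin n))
    (fun i => (x i : ℚ) / T.m i) Finset.univ_nonempty
  have hle : ∀ i, x i * T.m i₀ ≤ x i₀ * T.m i := by
    intro i
    have h := hi₀ i (Finset.mem_univ i)
    have h1 : (0 : ℚ) < T.m i := by exact_mod_cast T.m_pos i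
    have h2 : (0 : ℚ) < T.m i₀ := by exact_mod_cast T.m_pos i₀
    rw [div_le_div_iff₀ h1 h2] at h
    exact_mod_cast h
  refine ⟨i₀, ?_⟩
  by_contra hcon
  push Not at hcon
  obtain ⟨k, hk⟩ := hcon
  let I : Finset (Fin n) := univ.filter fun i => x i * T.m i₀ = x i₀ * T.m i
  have hI : I.Nonempty := ⟨i₀, by simp [I]⟩
  have hI' : I ≠ univ := by
    intro h
    have : k ∈ I := by rw [h]; exact Finset.mem_univ k
    exact hk (by simpa [I] using this)
  obtain ⟨i, hi, j, hj, hij⟩ := T.connected I hI hI'
  have hi' : x i * T.m i₀ = x i₀ * T.m i := by simpa [I] using hi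
  have hj' : x j * T.m i₀ < x i₀ * T.m j := lt_of_le_of_ne (hle j) (by simpa [I] using hj)
  have hne : i ≠ j := by rintro rfl; exact hj hi
  have hpos : 0 < T.a i j := lt_of_le_of_ne (T.offDiag_nonneg i j hne) (Ne.symm hij)
  have e1 : ∑ l, T.a i l * x l = 0 := by
    have := congrFun hx i
    simpa [Matrix.mulVec, dotProduct] using this
  have e2 : ∑ l, T.a i l * T.m l = 0 := by
    have := congrFun T.mulVec_m i
    simpa [Matrix.mulVec, dotProduct] using this
  have e3 : ∑ l, T.a i l * (x i₀ * T.m l - x l * T.m i₀) = 0 := by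
    have : ∑ l, T.a i l * (x i₀ * T.m l - x l * T.m i₀)
        = x i₀ * (∑ l, T.a i l * T.m l) - T.m i₀ * ∑ l, T.a i l * x l := by
      rw [Finset.mul_sum, Finset.mul_sum, ← Finset.sum_sub_distrib]
      refine Finset.sum_congr rfl fun l _ => by ring
    rw [this, e1, e2]; ring
  have e4 : 0 < ∑ l, T.a i l * (x i₀ * T.m l - x l * T.m i₀) := by
    apply Finset.sum_pos'
    · intro l _
      by_cases hl : i = l
      · subst hl; rw [hi']; simp
      · exact mul_nonneg (T.offDiag_nonneg i l hl) (by linarith [hle l])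
    · exact ⟨j, Finset.mem_univ j, mul_pos hpos (by linarith)⟩
  linarith

theorem eq_zero_of_mulVec_eq_zero {n : ℕ} (T : Models.NumericalType n) (x : Fin n → ℤ)
    (hx : T.a.mulVec x = 0) (h0 : x ⟨0, T.pos⟩ = 0) : x = 0 := by
  obtain ⟨i₀, hi₀⟩ := exists_proportional T x hx
  have h1 : x i₀ = 0 := by
    have := hi₀ ⟨0, T.pos⟩
    rw [h0, zero_mul] at this
    rcases mul_eq_zero.mp this.symm with h | h
    · exact h
    · exact absurd h (T.m_pos _).ne'
  ext i
  have := hi₀ i
  rw [h1, zero_mul] at this
  rcases mul_eq_zero.mp this with h | h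
  · exact h
  · exact absurd h (T.m_pos _).ne'

theorem finrank_ker {n : ℕ} (T : Models.NumericalType n) :
    Module.finrank ℤ (LinearMap.ker (Matrix.mulVecLin T.picMatrix)) = 1 := by
  apply le_antisymm
  · let f : LinearMap.ker (Matrix.mulVecLin T.picMatrix) →ₗ[ℤ] ℤ :=
      (LinearMap.proj (⟨0, T.pos⟩ : Fin n)) ∘ₗ (LinearMap.ker (Matrix.mulVecLin T.picMatrix)).subtype
    have hf : Function.Injective f := by
      rw [← LinearMap.ker_eq_bot, LinearMap.ker_eq_bot']
      rintro ⟨x, hx⟩ h0
      have hx' : T.a.mulVec x = 0 := by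
        rw [← picMatrix_mulVec_eq_zero_iff]
        simpa using hx
      have h0' : x ⟨0, T.pos⟩ = 0 := h0
      exact Subtype.ext (eq_zero_of_mulVec_eq_zero T x hx' h0')
    have := LinearMap.finrank_le_finrank_of_injective hf
    simpa using this
  · let m' : LinearMap.ker (Matrix.mulVecLin T.picMatrix) := ⟨T.m, by
      rw [LinearMap.mem_ker, Matrix.mulVecLin_apply, picMatrix_mulVec_eq_zero_iff]
      exact T.mulVec_m⟩
    let f : ℤ →ₗ[ℤ] LinearMap.ker (Matrix.mulVecLin T.picMatrix) :=
      LinearMap.toSpanSingleton ℤ _ m'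
    have hf : Function.Injective f := by
      rw [← LinearMap.ker_eq_bot, LinearMap.ker_eq_bot']
      intro c hc
      have : c * T.m ⟨0, T.pos⟩ = 0 := by
        have := congrArg (fun y : LinearMap.ker (Matrix.mulVecLin T.picMatrix) =>
          (y : Fin n → ℤ) ⟨0, T.pos⟩) hc
        simpa [f, m'] using this
      rcases mul_eq_zero.mp this with h | h
      · exact h
      · exact absurd h (T.m_pos _).ne'
    have := LinearMap.finrank_le_finrank_of_injective hf
    simpa using this

/-- Stacks Tag 0C7I. The Picard group of a numerical type (the cokernel of the matrix (a i j / w i) acting on Z^n) has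
free rank one: its rank as a Z-module is 1. -/
theorem result {n : ℕ} (T : Models.NumericalType n) : Module.finrank ℤ T.Pic = 1 := by
  have h1 := Submodule.finrank_quotient_add_finrank (LinearMap.ker (Matrix.mulVecLin T.picMatrix))
  rw [(Matrix.mulVecLin T.picMatrix).quotKerEquivRange.finrank_eq] at h1
  have h2 := Submodule.finrank_quotient_add_finrank (LinearMap.range (Matrix.mulVecLin T.picMatrix))
  rw [finrank_ker] at h1
  rw [Module.finrank_fintype_fun_eq_card, Fintype.card_fin] at h1 h2
  have h3 : Module.finrank ℤ T.Pic + Module.finrank ℤ (LinearMap.range (Matrix.mulVecLin T.picMatrix))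
    = n := h2
  omega

end Groth.Agent.S2178
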