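-- Proof of statement S2179.
import Groth.Statements.S2179
-- import your own Groth.Agent.* helpers here

set_option autoImplicit false
open Finset
open Models Models.NumericalType

namespace Groth.Agent.S2179

theorem w_mul_picMatrix {n : ℕ} (T : Models.NumericalType n) (i j : Fin n) :
    T.w i * T.picMatrix i j = T.a i j :=
  Int.mul_ediv_cancel' (T.w_dvd i j)

theorem w_mul_picMatrix_mulVec {n : ℕ} (T : Models.NumericalType n) (y : Fin n → ℤ) (i : Fin n) :
    T.w i * (T.picMatrix.mulVec y) i = (T.a.mulVec y) i := by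
  simp only [Matrix.mulVec, dotProduct, Finset.mul_sum]
  refine Finset.sum_congr rfl fun j _ => ?_
  rw [← mul_assoc, w_mul_picMatrix]

/-- multiplication of the coordinates by the `w i`. -/
def wMul {n : ℕ} (T : Models.NumericalType n) : (Fin n → ℤ) →ₗ[ℤ] (Fin n → ℤ) where
  toFun x := fun i => T.w i * x i
  map_add' x y := by ext i; simp [mul_add]
  map_smul' c x := by ext i; simp only [Pi.smul_apply, smul_eq_mul, RingHom.id_apply]; ring

theorem wMul_apply {n : ℕ} (T : Models.NumericalType n) (x : Fin n → ℤ) :
    wMul T x = fun i => T.w i * x i := rfl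

/-- Stacks Tag 0CE7. For a numerical type T, the map Z^n -> Z^n multiplying the i-th coordinate by w i induces a
well-defined injective homomorphism from Pic(T), the cokernel of (a i j / w i), to the cokernel of
the matrix a. -/
theorem result {n : ℕ} (T : Models.NumericalType n) :
    ∃ f : T.Pic →+ T.CokerA, Function.Injective f ∧
      ∀ x : Fin n → ℤ, f (Submodule.Quotient.mk x) = Submodule.Quotient.mk (fun i => T.w i * x i) := by
  have hle : LinearMap.range (Matrix.mulVecLin T.picMatrix) ≤
      (LinearMap.range (Matrix.mulVecLin T.a)).comap (wMul T) := by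
    rintro _ ⟨y, rfl⟩
    refine ⟨y, ?_⟩
    ext i
    simp only [Matrix.mulVecLin_apply, wMul_apply]
    rw [w_mul_picMatrix_mulVec]
  refine ⟨(Submodule.mapQ _ _ (wMul T) hle).toAddMonoidHom, ?_, fun x => rfl⟩
  rw [injective_iff_map_eq_zero]
  intro a ha
  obtain ⟨x, rfl⟩ := Submodule.Quotient.mk_surjective _ a
  have ha' : (Submodule.Quotient.mk (wMul T x) : T.CokerA) = 0 := ha
  rw [Submodule.Quotient.mk_eq_zero] at ha'
  rw [Submodule.Quotient.mk_eq_zero]
  obtain ⟨y, hy⟩ := ha'
  refine ⟨y, ?_⟩
  ext i
  have := congrFun hy i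
  simp only [Matrix.mulVecLin_apply, wMul_apply] at this ⊢
  rw [← w_mul_picMatrix_mulVec] at this
  exact mul_left_cancel₀ (T.w_pos i).ne' this

end Groth.Agent.S2179
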