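import Groth.Statements.S2181
-- import your own Groth.Agent.* helpers here
import Mathlib.Tactic
import Groth.Agent.Models.Reindex
import Groth.Agent.S2175
import Groth.Agent.S2176
import Groth.Agent.S2180

set_option autoImplicit false
open Finset
open Models Models.NumericalType

namespace Groth.Agent.S2181

/-- A group with an injective hom into `ℤ` whose image is non-trivial is infinite cyclic. -/
theorem equiv_int_of_injective {G : Type} [AddCommGroup G] (f : G →+ ℤ)
    (hf : Function.Injective f) (hne : ∃ x, f x ≠ 0) : Nonempty (G ≃+ ℤ) := by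
  obtain ⟨a, ha⟩ := Int.subgroup_cyclic f.range
  have e1 : G ≃+ f.range := AddMonoidHom.ofInjective hf
  have ha0 : a ≠ 0 := by
    rintro rfl
    obtain ⟨x, hx⟩ := hne
    have : f x ∈ f.range := ⟨x, rfl⟩
    rw [ha, AddSubgroup.mem_closure_singleton] at this
    obtain ⟨k, hk⟩ := this
    exact hx (by rw [← hk]; simp)
  have hmem : ∀ k : ℤ, k * a ∈ f.range := by
    intro k
    rw [ha]
    rw [AddSubgroup.mem_closure_singleton]
    exact ⟨k, by simp⟩
  let φ : ℤ →+ f.range :=
    { toFun := fun k => ⟨k * a, hmem k⟩
      map_zero' := by simp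
      map_add' := by intro x y; ext; simp [add_mul] }
  have hφ : Function.Bijective φ := by
    constructor
    · intro x y hxy
      have : x * a = y * a := congrArg Subtype.val hxy
      exact mul_right_cancel₀ ha0 this
    · rintro ⟨y, hy⟩
      have hy' := hy
      rw [ha, AddSubgroup.mem_closure_singleton] at hy'
      obtain ⟨k, hk⟩ := hy'
      refine ⟨k, ?_⟩
      ext
      change k * a = y
      simpa using hk
  exact ⟨e1.trans (AddEquiv.ofBijective φ hφ).symm⟩

/-- The Picard group of a numerical type with one index is infinite cyclic. -/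
theorem pic_one (T : Models.NumericalType 1) : Nonempty (T.Pic ≃+ ℤ) := by
  have hm := T.m_pos 0
  have ha : T.a 0 0 = 0 := by
    have := congrFun T.mulVec_m 0
    simp [Matrix.mulVec, dotProduct] at this
    rcases this with h | h
    · exact h
    · omega
  have hz : LinearMap.range (Matrix.mulVecLin T.picMatrix) = ⊥ := by
    rw [LinearMap.range_eq_bot]
    ext i j
    obtain rfl : i = 0 := Subsingleton.elim _ _
    obtain rfl : j = 0 := Subsingleton.elim _ _
    simp [picMatrix, Matrix.mulVec, dotProduct, ha]
  exact ⟨((Submodule.quotEquivOfEqBot _ hz).toAddEquiv).trans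
    (LinearEquiv.funUnique (Fin 1) ℤ ℤ).toAddEquiv⟩

theorem aux : ∀ (n : ℕ) (T : Models.NumericalType n), T.genus ≤ 0 → Nonempty (T.Pic ≃+ ℤ) := by
  intro n
  induction n with
  | zero => intro T; exact absurd T.pos (lt_irrefl _)
  | succ k ih =>
    intro T hg
    by_cases hmin : T.IsMinimal
    · have hk : k = 0 := by
        by_contra hne
        have h1 : 1 < k + 1 := by omega
        have := Groth.Agent.S2176.result T hmin h1
        omega
      subst hk
      exact pic_one T
    · obtain ⟨σ, hσ⟩ := Groth.Agent.Models.Reindex.exists_reindex_last T hmin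
      obtain ⟨⟨T', hT'⟩, hgen⟩ := Groth.Agent.S2175.result _ hσ
      have hg' : T'.genus ≤ 0 := by
        rw [hgen T' hT', Groth.Agent.Models.Reindex.reindex_genus]
        exact hg
      obtain ⟨e⟩ := ih T' hg'
      obtain ⟨f, hf, hf2⟩ := Groth.Agent.S2180.result _ hσ T' hT'
      refine (equiv_int_of_injective
        ((e.toAddMonoidHom.comp f).comp
          (Groth.Agent.Models.Reindex.picEquiv T σ).symm.toAddEquiv.toAddMonoidHom) ?_ ?_)
      · exact e.injective.comp (hf.comp (Groth.Agent.Models.Reindex.picEquiv T σ).symm.injective)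
      · obtain ⟨x, hx⟩ := hf2 (e.symm 1)
        refine ⟨Groth.Agent.Models.Reindex.picEquiv T σ x, ?_⟩
        have h2 : e (f x) = 2 := by
          rw [← hx]; simp
        have h3 : ((e.toAddMonoidHom.comp f).comp
          (Groth.Agent.Models.Reindex.picEquiv T σ).symm.toAddEquiv.toAddMonoidHom)
            (Groth.Agent.Models.Reindex.picEquiv T σ x) = e (f x) := by
          simp
        rw [h3, h2]
        norm_num

/-- Stacks Tag 0C7K. If the genus of a numerical type is at most 0 then its Picard group is infinite cyclic. -/
theorem result {n : ℕ} (T : Models.NumericalType n) (hg : T.genus ≤ 0) : Nonempty (T.Pic ≃+ ℤ) := by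
  exact aux n T hg

end Groth.Agent.S2181
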