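-- Proof of statement S2182.
import Groth.Statements.S2182
-- import your own Groth.Agent.* helpers here

set_option autoImplicit false
open Finset
open Models Models.NumericalType

namespace Groth.Agent.S2182

/-- the row relation `Σ_k a j k m k = 0`, solved for the diagonal term. -/
theorem diag_mul {n : ℕ} (T : Models.NumericalType n) (j : Fin n) :
    T.m j * T.a j j = - ∑ k ∈ univ.erase j, T.a j k * T.m k := by
  have h := congrFun T.mulVec_m j
  simp only [Matrix.mulVec, dotProduct, Pi.zero_apply] at h
  rw [← Finset.add_sum_erase univ _ (Finset.mem_univ j)] at h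
  linarith [mul_comm (T.m j) (T.a j j)]

theorem diag_nonpos {n : ℕ} (T : Models.NumericalType n) (j : Fin n) : T.a j j ≤ 0 := by
  have h := diag_mul T j
  have h2 : 0 ≤ ∑ k ∈ univ.erase j, T.a j k * T.m k := by
    apply Finset.sum_nonneg
    intro k hk
    exact mul_nonneg (T.offDiag_nonneg j k (Finset.ne_of_mem_erase hk).symm) (T.m_pos k).le
  have hm := T.m_pos j
  nlinarith

/-- Stacks Tag 0C9U. In a numerical type, whenever a i j > 0 one has m i * a i j at most m j * |a j j| and
m i * w i at most m j * |a j j|. -/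
theorem result {n : ℕ} (T : Models.NumericalType n) (i j : Fin n) (hij : 0 < T.a i j) :
    T.m i * T.a i j ≤ T.m j * |T.a j j| ∧ T.m i * T.w i ≤ T.m j * |T.a j j| := by
  have hne : i ≠ j := by
    rintro rfl
    exact absurd (diag_nonpos T i) (not_le.mpr hij)
  have hji : T.a j i = T.a i j := T.symm.apply i j
  have hw : T.w i ≤ T.a i j := Int.le_of_dvd hij (T.w_dvd i j)
  have h1 : T.m i * T.a i j ≤ T.m j * |T.a j j| := by
    rw [abs_of_nonpos (diag_nonpos T j), mul_neg, diag_mul T j, neg_neg]
    have := Finset.single_le_sum (f := fun k => T.a j k * T.m k) (s := univ.erase j)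
      (fun k hk => mul_nonneg (T.offDiag_nonneg j k (Finset.ne_of_mem_erase hk).symm) (T.m_pos k).le)
      (Finset.mem_erase.mpr ⟨hne, Finset.mem_univ i⟩)
    simp only [hji] at this
    linarith [mul_comm (T.m i) (T.a i j)]
  refine ⟨h1, le_trans ?_ h1⟩
  exact mul_le_mul_of_nonneg_left hw (T.m_pos i).le

end Groth.Agent.S2182
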