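import Groth.Statements.S2183
import Groth.Agent.Models.NumBasic
-- import your own Groth.Agent.* helpers here

set_option autoImplicit false
open Finset
open Models Models.NumericalType

namespace Groth.Agent.S2183

open Classical in
/-- Stacks Tag 0C9V. Let T be a minimal numerical type with n > 1 indices and genus g at least 2, and let J be the set
of indices which are not (-2)-indices. Then J has at most 2g - 2 elements, and for j in J one has
g j < g, m j * |a j j| at most 6g - 6, and m i * a i j at most 6g - 6 for every index i. -/
theorem result {n : ℕ} (T : Models.NumericalType n) (hmin : T.IsMinimal) (hn : 1 < n) (hg : 2 ≤ T.genus) :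
    ((univ.filter fun j => ¬T.IsMinusTwo j).card : ℤ) ≤ 2 * T.genus - 2 ∧
      ∀ j, ¬T.IsMinusTwo j →
        T.g j < T.genus ∧ T.m j * |T.a j j| ≤ 6 * T.genus - 6 ∧
          ∀ i, T.m i * T.a i j ≤ 6 * T.genus - 6 := by
  have hsum := Groth.Agent.Models.NumBasic.two_mul_genus_sub_one' T
  refine ⟨?_, ?_⟩
  · have h1 : ((univ.filter fun j => ¬T.IsMinusTwo j).card : ℤ) ≤
        ∑ i, Groth.Agent.Models.NumBasic.contrib T i := by
      rw [Finset.card_eq_sum_ones, Nat.cast_sum, Finset.sum_filter]
      refine Finset.sum_le_sum fun i _ => ?_
      by_cases h : T.IsMinusTwo i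
      · simpa [h] using Groth.Agent.Models.NumBasic.contrib_nonneg T hn hmin i
      · simpa [h] using Groth.Agent.Models.NumBasic.contrib_pos_of_not_isMinusTwo T hn hmin i h
    linarith
  · intro j hj
    have hc := Groth.Agent.Models.NumBasic.contrib_le T hn hmin j
    have h3 := Groth.Agent.Models.NumBasic.mul_abs_le_three_contrib T hn hmin j hj
    have hneg := Groth.Agent.Models.NumBasic.diag_neg T hn j
    have hm := T.m_pos j
    have hw := T.w_pos j
    have hbound : T.m j * |T.a j j| ≤ 6 * T.genus - 6 := by linarith
    refine ⟨?_, hbound, ?_⟩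
    · rcases (T.g_nonneg j).eq_or_lt with h | h
      · rw [← h]; linarith
      · have h5 : 2 * (T.g j - 1) < Groth.Agent.Models.NumBasic.contrib T j := by
          unfold Groth.Agent.Models.NumBasic.contrib
          have h6 : 0 ≤ T.g j - 1 := by linarith
          have h7 : T.g j - 1 ≤ T.w j * (T.g j - 1) := by nlinarith
          have h8 : 2 * (T.g j - 1) < 2 * T.w j * (T.g j - 1) - T.a j j := by linarith
          have h9 : 0 < 2 * T.w j * (T.g j - 1) - T.a j j := by linarith
          nlinarith
        linarith
    · intro i
      by_cases hij : 0 < T.a i j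
      · exact (Groth.Agent.Models.NumBasic.mul_le_of_pos_offDiag T i j hij).1.trans hbound
      · push Not at hij
        have := mul_nonpos_of_nonneg_of_nonpos (T.m_pos i).le hij
        linarith

end Groth.Agent.S2183
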