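import Groth.Statements.S2184
-- import your own Groth.Agent.* helpers here

set_option autoImplicit false
open Finset
open Models Models.NumericalType

namespace Groth.Agent.S2184

/-! ### A combinatorial bound for weighted graphs -/

section Graph

variable {n : ℕ} (u : Fin n → ℤ) (c : Fin n → Fin n → ℤ) (I : Fin n → Prop)

/-- Reachability by a walk of length `t` inside `I` starting at a vertex of `I` which has a
neighbour outside of `I`. -/
def Reach : ℕ → Fin n → Prop
  | 0, i => I i ∧ ∃ j, ¬ I j ∧ i ≠ j ∧ c i j ≠ 0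
  | t + 1, i => I i ∧ ∃ q, Reach t q ∧ q ≠ i ∧ c q i ≠ 0

theorem Reach.mem {t : ℕ} {i : Fin n} (h : Reach c I t i) : I i := by
  cases t <;> exact h.1

variable (hu : ∀ i, 0 < u i) (hc : ∀ i j, i ≠ j → 0 ≤ c i j)
  (hsym : ∀ i j, i ≠ j → c i j ≠ 0 → c j i ≠ 0)
  (hharm : ∀ i, I i → ∑ l ∈ univ.erase i, c l i * u l = 2 * u i)

include hu hc hharm in
theorem gap (i : Fin n) (hi : I i) (t : Fin n → ℤ) (ht : ∀ l, l ≠ i → t l ≤ c l i)
    (hpos : 0 < 2 * u i - ∑ l ∈ univ.erase i, t l * u l) :
    ∃ l, l ≠ i ∧ t l + 1 ≤ c l i ∧ u l ≤ 2 * u i - ∑ l ∈ univ.erase i, t l * u l := by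
  rw [← hharm i hi, ← Finset.sum_sub_distrib] at hpos ⊢
  have h1 : ∀ l ∈ univ.erase i, 0 ≤ c l i * u l - t l * u l := by
    intro l hl
    have hli : l ≠ i := Finset.ne_of_mem_erase hl
    have := ht l hli
    have := (hu l).le
    nlinarith
  obtain ⟨l, hl, hl0⟩ : ∃ l ∈ univ.erase i, c l i * u l - t l * u l ≠ 0 := by
    by_contra hcon
    push Not at hcon
    rw [Finset.sum_eq_zero hcon] at hpos
    exact lt_irrefl _ hpos
  have hli : l ≠ i := Finset.ne_of_mem_erase hl
  have hlt : t l + 1 ≤ c l i := by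
    have h2 := ht l hli
    rcases h2.lt_or_eq with h3 | h3
    · exact h3
    · exfalso; apply hl0; rw [h3]; ring
  refine ⟨l, hli, hlt, ?_⟩
  calc u l ≤ c l i * u l - t l * u l := by
        have := hu l
        nlinarith
    _ ≤ _ := Finset.single_le_sum (f := fun l => c l i * u l - t l * u l) h1 hl

include hu hc hharm in
theorem nonneg_of_le (i : Fin n) (hi : I i) (t : Fin n → ℤ) (ht : ∀ l, l ≠ i → t l ≤ c l i) :
    0 ≤ 2 * u i - ∑ l ∈ univ.erase i, t l * u l := by
  rw [← hharm i hi, ← Finset.sum_sub_distrib]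
  apply Finset.sum_nonneg
  intro l hl
  have hli : l ≠ i := Finset.ne_of_mem_erase hl
  have := ht l hli
  have := (hu l).le
  nlinarith

theorem sum_single (i p : Fin n) (hp : p ≠ i) :
    ∑ l ∈ univ.erase i, (Pi.single p 1 : Fin n → ℤ) l * u l = u p := by
  rw [Finset.sum_eq_single p]
  · simp
  · intro b _ hb
    simp [Pi.single_apply, hb]
  · intro h
    exact absurd (Finset.mem_erase.mpr ⟨hp, Finset.mem_univ p⟩) h

theorem sum_single_add (i p : Fin n) (hp : p ≠ i) (t : Fin n → ℤ) :
    ∑ l ∈ univ.erase i, (t l + (Pi.single p 1 : Fin n → ℤ) l) * u l =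
      ∑ l ∈ univ.erase i, t l * u l + u p := by
  simp_rw [add_mul]
  rw [Finset.sum_add_distrib, sum_single u i p hp]

include hc in
theorem add_single_le {i p : Fin n} {t : Fin n → ℤ} (ht : ∀ l, l ≠ i → t l ≤ c l i)
    (hp : t p + 1 ≤ c p i) : ∀ l, l ≠ i → t l + (Pi.single p 1 : Fin n → ℤ) l ≤ c l i := by
  intro l hl
  by_cases h : l = p
  · subst h; simpa using hp
  · simpa [Pi.single_apply, h] using ht l hl

include hc in
theorem single_le {i p : Fin n} (hpi : p ≠ i) (hp : c p i ≠ 0) :
    ∀ l, l ≠ i → (Pi.single p 1 : Fin n → ℤ) l ≤ c l i := by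
  intro l hl
  by_cases h : l = p
  · subst h
    have := hc l i hl
    simp only [Pi.single_eq_same]
    omega
  · simpa [Pi.single_apply, h] using hc l i hl

include hu hc hharm in
theorem le_two_mul {i p : Fin n} (hi : I i) (hpi : p ≠ i) (hp : c p i ≠ 0) : u p ≤ 2 * u i := by
  have := nonneg_of_le u c I hu hc hharm i hi _ (single_le c hc hpi hp)
  rw [sum_single u i p hpi] at this
  omega

include hu hc hharm in
theorem add_le_two_mul {i p q : Fin n} (hi : I i) (hpi : p ≠ i) (hp : c p i ≠ 0)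
    (hqi : q ≠ i) (hq : c q i ≠ 0) (hpq : p ≠ q) : u p + u q ≤ 2 * u i := by
  have h1 := add_single_le c hc (single_le c hc hpi hp) (p := q) (i := i) (by
    have := hc q i hqi
    simp only [Pi.single_apply, hpq.symm, if_false]
    omega)
  have := nonneg_of_le u c I hu hc hharm i hi _ h1
  rw [sum_single_add u i q hqi, sum_single u i p hpi] at this
  omega

include hu hc hsym hharm in
theorem slope_le {B : ℤ} (hB : ∀ i j, I i → ¬ I j → i ≠ j → c i j ≠ 0 → u i ≤ B) (t : ℕ) :
    ∀ i q, Reach c I t q → q ≠ i → c q i ≠ 0 → I i → (∀ s, Reach c I s i → t + 1 ≤ s) →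
      u i - u q ≤ B := by
  induction t with
  | zero =>
    intro i q hq hqi hcqi hi _
    obtain ⟨hqI, j, hj, hqj, hcqj⟩ := hq
    have h1 := hB q j hqI hj hqj hcqj
    have h2 := le_two_mul u c I hu hc hharm hqI hqi.symm (hsym q i hqi hcqi)
    omega
  | succ t ih =>
    intro i q hq hqi hcqi hi hmin
    obtain ⟨hqI, r, hr, hrq, hcrq⟩ := hq
    have h1 : u q - u r ≤ B := by
      refine ih q r hr hrq hcrq hqI ?_
      intro s hs
      have : Reach c I (s + 1) i := ⟨hi, q, hs, hqi, hcqi⟩
      have := hmin _ this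
      omega
    have hri : r ≠ i := by
      rintro rfl
      have := hmin _ hr
      omega
    have h2 := add_le_two_mul u c I hu hc hharm hqI hrq hcrq hqi.symm (hsym q i hqi hcqi) hri
    omega

/-- The endgame: a maximal value cannot be big. -/
theorem endgame (hu : ∀ i, 0 < u i) (hc : ∀ i j, i ≠ j → 0 ≤ c i j)
    (hsym : ∀ i j, i ≠ j → c i j ≠ 0 → c j i ≠ 0)
    (hharm : ∀ i, I i → ∑ l ∈ univ.erase i, c l i * u l = 2 * u i)
    {B : ℤ} (hB : ∀ i j, I i → ¬ I j → i ≠ j → c i j ≠ 0 → u i ≤ B)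
    {M p : Fin n} (hM : I M) (hmax : ∀ i, I i → u i ≤ u M) (hp : I p) (hpM : p ≠ M)
    (hcpM : c p M ≠ 0) (hlt : u p < u M) (hslope : u M - u p ≤ B) : u M ≤ 8 * B := by
  by_contra hcon
  push Not at hcon
  -- all neighbours of `M` are in `I`
  have hnb : ∀ l, l ≠ M → c l M ≠ 0 → I l := by
    intro l hlM hcl
    by_contra hl
    have := hB M l hM hl hlM.symm (hsym l M hlM hcl)
    omega
  have hhalf : ∀ l, l ≠ M → c l M ≠ 0 → u M ≤ 2 * u l := fun l hlM hcl =>
    le_two_mul u c I hu hc hharm (hnb l hlM hcl) hlM.symm (hsym l M hlM hcl)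
  have hnb2 : ∀ l, l ≠ M → c l M ≠ 0 → ∀ r, r ≠ l → c r l ≠ 0 → I r := by
    intro l hlM hcl r hrl hcr
    by_contra hr
    have h1 := hB l r (hnb l hlM hcl) hr hrl.symm (hsym r l hrl hcr)
    have h2 := hhalf l hlM hcl
    omega
  set δ := u M - u p with hδ
  -- first neighbour
  have ht1 := single_le c hc hpM hcpM
  obtain ⟨l, hlM, hl1, -⟩ := gap u c I hu hc hharm M hM _ ht1 (by
    rw [sum_single u M p hpM]; omega)
  have hcl : c l M ≠ 0 := by
    have : 0 ≤ (Pi.single p 1 : Fin n → ℤ) l := by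
      by_cases h : l = p
      · subst h; simp
      · simp [h]
    omega
  have ht2 := add_single_le c hc ht1 hl1
  obtain ⟨l', hl'M, hl'1, -⟩ := gap u c I hu hc hharm M hM _ ht2 (by
    rw [sum_single_add u M l hlM, sum_single u M p hpM]
    have := hmax l (hnb l hlM hcl)
    omega)
  have hcl' : c l' M ≠ 0 := by
    have h1 : 0 ≤ (Pi.single p 1 : Fin n → ℤ) l' := by
      by_cases h : l' = p
      · subst h; simp
      · simp [h]
    have h2 : 0 ≤ (Pi.single l 1 : Fin n → ℤ) l' := by
      by_cases h : l' = l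
      · subst h; simp
      · simp [h]
    omega
  have ht3 := add_single_le c hc (t := fun l_1 => (Pi.single p 1 : Fin n → ℤ) l_1 +
    (Pi.single l 1 : Fin n → ℤ) l_1) ht2 hl'1
  have hhl := hhalf l hlM hcl
  have hhl' := hhalf l' hl'M hcl'
  have hD3 : 2 * u M - (u p + u l + u l') = 0 := by
    by_contra hne
    have h0 : 0 ≤ 2 * u M - (u p + u l + u l') := by
      have := nonneg_of_le u c I hu hc hharm M hM _ ht3
      rw [sum_single_add u M l' hl'M (fun l_1 => (Pi.single p 1 : Fin n → ℤ) l_1 +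
        (Pi.single l 1 : Fin n → ℤ) l_1), sum_single_add u M l hlM, sum_single u M p hpM] at this
      exact this
    obtain ⟨l'', hl''M, hl''1, hle⟩ := gap u c I hu hc hharm M hM _ ht3 (by
      rw [sum_single_add u M l' hl'M (fun l_1 => (Pi.single p 1 : Fin n → ℤ) l_1 +
        (Pi.single l 1 : Fin n → ℤ) l_1), sum_single_add u M l hlM, sum_single u M p hpM]
      omega)
    rw [sum_single_add u M l' hl'M (fun l_1 => (Pi.single p 1 : Fin n → ℤ) l_1 +
        (Pi.single l 1 : Fin n → ℤ) l_1), sum_single_add u M l hlM, sum_single u M p hpM] at hle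
    have hcl'' : c l'' M ≠ 0 := by
      have h1 : 0 ≤ (Pi.single p 1 : Fin n → ℤ) l'' := by
        by_cases h : l'' = p
        · subst h; simp
        · simp [h]
      have h2 : 0 ≤ (Pi.single l 1 : Fin n → ℤ) l'' := by
        by_cases h : l'' = l
        · subst h; simp
        · simp [h]
      have h3 : 0 ≤ (Pi.single l' 1 : Fin n → ℤ) l'' := by
        by_cases h : l'' = l'
        · subst h; simp
        · simp [h]
      omega
    have := hhalf l'' hl''M hcl''
    omega
  -- second level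
  have key : ∀ l, l ≠ M → c l M ≠ 0 → 2 * u l - u M = 0 ∨ u M ≤ 4 * (2 * u l - u M) := by
    intro l hlM hcl
    by_cases h0 : 2 * u l - u M = 0
    · exact Or.inl h0
    right
    have hlI := hnb l hlM hcl
    have hhl := hhalf l hlM hcl
    obtain ⟨r, hrl, hr1, hle⟩ := gap u c I hu hc hharm l hlI _
      (single_le c hc hlM.symm (hsym l M hlM hcl)) (by
        rw [sum_single u l M hlM.symm]; omega)
    rw [sum_single u l M hlM.symm] at hle
    have hcr : c r l ≠ 0 := by
      have h1 : 0 ≤ (Pi.single M 1 : Fin n → ℤ) r := by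
        by_cases h : r = M
        · subst h; simp
        · simp [h]
      omega
    have hrI := hnb2 l hlM hcl r hrl hcr
    have := le_two_mul u c I hu hc hharm hrI hrl.symm (hsym r l hrl hcr)
    omega
  rcases key l hlM hcl with h1 | h1 <;> rcases key l' hl'M hcl' with h2 | h2 <;> omega

include hu hc hsym hharm in
theorem bound {B : ℤ} (hB : ∀ i j, I i → ¬ I j → i ≠ j → c i j ≠ 0 → u i ≤ B)
    (hconn : ∀ S : Finset (Fin n), S.Nonempty → S ≠ univ → ∃ i ∈ S, ∃ j ∉ S, c i j ≠ 0)
    (hI : ∃ j, ¬ I j) (i : Fin n) (hi : I i) : u i ≤ 8 * B := by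
  classical
  -- every element of `I` is reachable
  have hreach : ∀ i, I i → ∃ t, Reach c I t i := by
    by_contra hcon
    push Not at hcon
    obtain ⟨i₀, hi₀, hi₀'⟩ := hcon
    obtain ⟨j₀, hj₀⟩ := hI
    obtain ⟨i, hiS, j, hjS, hij⟩ := hconn (univ.filter fun i => I i ∧ ∀ t, ¬ Reach c I t i)
      ⟨i₀, by simp [hi₀]; exact hi₀'⟩ (by
        intro h
        have := Finset.mem_univ j₀
        rw [← h] at this
        simp [hj₀] at this)
    have hne : i ≠ j := by rintro rfl; exact hjS hiS
    simp only [Finset.mem_filter, Finset.mem_univ, true_and, not_and, not_forall, not_not]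
      at hiS hjS
    by_cases hj : I j
    · obtain ⟨t, ht⟩ := hjS hj
      exact hiS.2 (t + 1) ⟨hiS.1, j, ht, hne.symm, hsym i j hne hij⟩
    · exact hiS.2 0 ⟨hiS.1, j, hj, hne, hij⟩
  -- the maximum
  obtain ⟨M₀, hM₀, hmax₀⟩ := Finset.exists_max_image (univ.filter fun i => I i) u ⟨i, by simp [hi]⟩
  simp only [Finset.mem_filter, Finset.mem_univ, true_and] at hM₀ hmax₀
  have hex : ∃ t, ∃ M, Reach c I t M ∧ u M = u M₀ := by
    obtain ⟨t, ht⟩ := hreach M₀ hM₀
    exact ⟨t, M₀, ht, rfl⟩
  obtain ⟨M, hMR, hMu⟩ := Nat.find_spec hex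
  have hmin := fun s => Nat.find_min' hex (m := s)
  set t := Nat.find hex with ht
  clear_value t
  have hBpos : 0 < B := by
    obtain ⟨t, ht⟩ := hreach i hi
    have : ∀ t i, Reach c I t i → 0 < B := by
      intro t
      induction t with
      | zero =>
        rintro i ⟨hi, j, hj, hij, hcij⟩
        exact (hu i).trans_le (hB i j hi hj hij hcij)
      | succ t ih =>
        rintro i ⟨hi, q, hq, -⟩
        exact ih q hq
    exact this t i ht
  refine (hmax₀ i hi).trans ?_
  rw [← hMu]
  cases t with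
  | zero =>
    obtain ⟨hMI, j, hj, hMj, hcMj⟩ := hMR
    have := hB M j hMI hj hMj hcMj
    omega
  | succ t =>
    obtain ⟨hMI, q, hq, hqM, hcqM⟩ := hMR
    have hslope : u M - u q ≤ B := by
      refine slope_le u c I hu hc hsym hharm hB t M q hq hqM hcqM hMI ?_
      intro s hs
      exact hmin s ⟨M, hs, hMu⟩
    have hlt : u q < u M := by
      have h1 := hmax₀ q hq.mem
      rcases h1.lt_or_eq with h2 | h2
      · omega
      · have := hmin t ⟨q, hq, h2⟩
        omega
    exact endgame u c I hu hc hsym hharm hB hMI (fun i hi => by rw [hMu]; exact hmax₀ i hi)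
      hq.mem hqM hcqM hlt hslope

end Graph

/-! ### Application to numerical types -/

section Num

variable {n : ℕ} (T : NumericalType n)

theorem row_sum (i : Fin n) : ∑ j, T.a i j * T.m j = 0 := by
  have := congrFun T.mulVec_m i
  simpa [Matrix.mulVec, dotProduct] using this

theorem sum_erase (i : Fin n) : ∑ j ∈ univ.erase i, T.a j i * T.m j = - (T.a i i * T.m i) := by
  have h := row_sum T i
  rw [← Finset.add_sum_erase _ _ (Finset.mem_univ i)] at h
  have h2 : ∑ j ∈ univ.erase i, T.a j i * T.m j = ∑ j ∈ univ.erase i, T.a i j * T.m j := by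
    refine Finset.sum_congr rfl fun j _ => ?_
    rw [T.symm.apply]
  rw [h2]
  omega

theorem mul_le (i j : Fin n) (hij : i ≠ j) : T.a i j * T.m i ≤ - (T.a j j * T.m j) := by
  rw [← sum_erase T j]
  exact Finset.single_le_sum (f := fun i => T.a i j * T.m i) (fun k hk =>
    mul_nonneg (T.offDiag_nonneg k j (Finset.ne_of_mem_erase hk)) (T.m_pos k).le)
    (Finset.mem_erase.mpr ⟨hij, Finset.mem_univ i⟩)

theorem diag_neg (hn : 1 < n) (i : Fin n) : T.a i i < 0 := by
  obtain ⟨i', hi', j, hj, hij⟩ := T.connected {i} (Finset.singleton_nonempty i) (by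
    intro h
    have := congrArg Finset.card h
    simp at this
    omega)
  rw [Finset.mem_singleton] at hi' hj
  subst hi'
  have h1 : 0 < T.a j i' := by
    have := T.offDiag_nonneg j i' hj
    rw [← T.symm.apply] at hij
    omega
  have h2 := mul_le T j i' hj
  have h3 := T.m_pos j
  have h4 := T.m_pos i'
  have h5 : 0 < T.a j i' * T.m j := mul_pos h1 h3
  by_contra hcon
  push Not at hcon
  have : 0 ≤ T.a i' i' * T.m i' := mul_nonneg hcon h4.le
  omega

theorem sum_contrib_le :
    ∑ i, T.m i * (2 * T.w i * (T.g i - 1) - T.a i i) ≤ 2 * T.genus - 2 := by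
  have h1 : ∑ i, T.m i * (2 * T.w i * (T.g i - 1) - T.a i i) =
      2 * (∑ i, T.m i * T.w i * (T.g i - 1)) - ∑ i, T.m i * T.a i i := by
    rw [Finset.mul_sum, ← Finset.sum_sub_distrib]
    exact Finset.sum_congr rfl fun i _ => by ring
  rw [h1, genus]
  omega

theorem contrib (hn : 1 < n) (hmin : T.IsMinimal) (i : Fin n) :
    0 ≤ T.m i * (2 * T.w i * (T.g i - 1) - T.a i i) ∧
    (¬ T.IsMinusTwo i → T.m i * |T.a i i| ≤ 3 * (T.m i * (2 * T.w i * (T.g i - 1) - T.a i i))) := by
  have hneg := diag_neg T hn i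
  have hm := T.m_pos i
  have hw := T.w_pos i
  rw [abs_of_neg hneg]
  by_cases hg : T.g i = 0
  · obtain ⟨k, hk⟩ := T.w_dvd i i
    have hk1 : k ≠ -1 := by
      rintro rfl
      exact hmin i ⟨hg, by rw [hk]; ring⟩
    have hk0 : k < 0 := by
      by_contra hcon
      push Not at hcon
      have := mul_nonneg hw.le hcon
      omega
    rw [hg, hk]
    have hk2 : k ≤ -2 := by omega
    constructor
    · apply mul_nonneg hm.le
      nlinarith
    · intro hJ
      have hk2' : k ≠ -2 := by
        rintro rfl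
        exact hJ ⟨hg, by rw [hk]; ring⟩
      have hk3 : k ≤ -3 := by omega
      have h1 : 0 ≤ T.w i * (-3 - k) := mul_nonneg hw.le (by omega)
      have h2 : 0 ≤ T.m i * (T.w i * (-3 - k)) := mul_nonneg hm.le h1
      nlinarith
  · have hg1 : 1 ≤ T.g i := by
      have := T.g_nonneg i
      omega
    have h1 : 0 ≤ 2 * T.w i * (T.g i - 1) := mul_nonneg (by omega) (by omega)
    constructor
    · exact mul_nonneg hm.le (by omega)
    · intro _
      rw [← mul_assoc, mul_comm 3 (T.m i), mul_assoc]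
      exact mul_le_mul_of_nonneg_left (by omega) hm.le

theorem bound_J (hn : 1 < n) (hmin : T.IsMinimal) (j : Fin n) (hj : ¬ T.IsMinusTwo j) :
    T.m j * |T.a j j| ≤ 6 * T.genus - 6 := by
  have h1 := (contrib T hn hmin j).2 hj
  have h2 := sum_contrib_le T
  have h3 : T.m j * (2 * T.w j * (T.g j - 1) - T.a j j) ≤
      ∑ i, T.m i * (2 * T.w i * (T.g i - 1) - T.a i i) :=
    Finset.single_le_sum (f := fun i => T.m i * (2 * T.w i * (T.g i - 1) - T.a i i))
      (fun i _ => (contrib T hn hmin i).1) (Finset.mem_univ j)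
  omega

theorem exists_J (hg : 2 ≤ T.genus) : ∃ j, ¬ T.IsMinusTwo j := by
  by_contra hcon
  push Not at hcon
  have h1 : ∑ i, T.m i * T.w i * (T.g i - 1) = - ∑ i, T.m i * T.w i := by
    rw [← Finset.sum_neg_distrib]
    refine Finset.sum_congr rfl fun i _ => ?_
    rw [(hcon i).1]; ring
  have h2 : ∑ i, T.m i * T.a i i = - 2 * ∑ i, T.m i * T.w i := by
    rw [Finset.mul_sum]
    refine Finset.sum_congr rfl fun i _ => ?_
    rw [(hcon i).2]; ring
  rw [genus, h1, h2] at hg
  omega

theorem diag_bound (hmin : T.IsMinimal) (hg : 2 ≤ T.genus) (hn : 1 < n) (i : Fin n) :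
    T.m i * |T.a i i| ≤ 96 * (T.genus - 1) := by
  by_cases hi : T.IsMinusTwo i
  swap
  · have := bound_J T hn hmin i hi
    omega
  have hdiv : ∀ i j, T.w i * (T.a i j / T.w i) = T.a i j := fun i j =>
    Int.mul_ediv_cancel' (T.w_dvd i j)
  have hne : ∀ i j, T.a i j / T.w i ≠ 0 ↔ T.a i j ≠ 0 := by
    intro i j
    rw [not_iff_not]
    constructor
    · intro h
      rw [← hdiv i j, h, mul_zero]
    · intro h
      rw [h, Int.zero_ediv]
  have key := bound (fun i => T.m i * T.w i) (fun i j => T.a i j / T.w i) T.IsMinusTwo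
    (fun i => mul_pos (T.m_pos i) (T.w_pos i))
    (fun i j hij => Int.ediv_nonneg (T.offDiag_nonneg i j hij) (T.w_pos i).le)
    (fun i j _ h => by
      rw [hne] at h ⊢
      rwa [T.symm.apply])
    (fun i hi => by
      have h1 := sum_erase T i
      rw [hi.2] at h1
      have h2 : ∑ l ∈ univ.erase i, T.a l i / T.w l * (T.m l * T.w l) =
          ∑ j ∈ univ.erase i, T.a j i * T.m j := by
        refine Finset.sum_congr rfl fun l _ => ?_
        rw [mul_comm (T.m l), ← mul_assoc, mul_comm _ (T.w l), hdiv]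
      rw [h2, h1]
      ring)
    (B := 6 * T.genus - 6)
    (fun i j hi hj hij h => by
      rw [hne] at h
      have h1 := bound_J T hn hmin j hj
      have h2 := mul_le T i j hij
      rw [abs_of_neg (diag_neg T hn j)] at h1
      have h3 : T.w i ≤ T.a i j := by
        refine Int.le_of_dvd ?_ (T.w_dvd i j)
        have := T.offDiag_nonneg i j hij
        omega
      have h4 := mul_le_mul_of_nonneg_left h3 (T.m_pos i).le
      calc T.m i * T.w i ≤ T.m i * T.a i j := h4
        _ = T.a i j * T.m i := mul_comm _ _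
        _ ≤ _ := h2
        _ = T.m j * -T.a j j := by ring
        _ ≤ _ := h1)
    (fun S hS hS' => by
      obtain ⟨i, hi, j, hj, hij⟩ := T.connected S hS hS'
      exact ⟨i, hi, j, hj, by rwa [hne]⟩)
    (exists_J T hg) i hi
  rw [abs_of_neg (diag_neg T hn i), hi.2]
  linarith

end Num

/-- Stacks Tag 0C9W. For a minimal numerical type of genus g at least 2 one has m i * |a i j| at most 768 g for all
indices i, j. -/
theorem result {n : ℕ} (T : Models.NumericalType n) (hmin : T.IsMinimal) (hg : 2 ≤ T.genus) (i j : Fin n) :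
    T.m i * |T.a i j| ≤ 768 * T.genus := by
  rcases Nat.lt_or_ge 1 n with hn | hn
  · have h1 := diag_bound T hmin hg hn j
    by_cases hij : i = j
    · subst hij; omega
    · have h2 := mul_le T i j hij
      rw [abs_of_nonneg (T.offDiag_nonneg i j hij), mul_comm]
      rw [abs_of_neg (diag_neg T hn j)] at h1
      have h3 : T.m j * -T.a j j = -(T.a j j * T.m j) := by ring
      omega
  · have hpos := T.pos
    have hn1 : n = 1 := le_antisymm hn hpos
    subst hn1
    have h := row_sum T i
    have hij : j = i := Subsingleton.elim _ _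
    subst hij
    rw [Fintype.sum_subsingleton _ j] at h
    rcases mul_eq_zero.mp h with h | h
    · rw [h]; simp; omega
    · exact absurd h (T.m_pos j).ne'

end Groth.Agent.S2184
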