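import Groth.Statements.S2185
-- import your own Groth.Agent.* helpers here
import Mathlib.Tactic
import Mathlib.Algebra.Module.PID
import Mathlib.GroupTheory.FiniteAbelian.Basic
import Groth.Agent.Models.Reindex
import Groth.Agent.S2172
import Groth.Agent.S2175
import Groth.Agent.S2177
import Groth.Agent.S2179
import Groth.Agent.S2180
import Groth.Agent.S2184
import Groth.Agent.S2181

set_option autoImplicit false
open Finset
open Models Models.NumericalType

namespace Groth.Agent.S2185

/-- The `ℓ`-torsion of a finitely generated abelian group is finite. -/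
theorem finite_torsionBy {M : Type} [AddCommGroup M] [Module.Finite ℤ M] (ℓ : ℕ)
    (hℓ : ℓ ≠ 0) : Finite (Submodule.torsionBy ℤ M (ℓ : ℤ)) := by
  have : Module.Finite ℤ (Submodule.torsionBy ℤ M (ℓ : ℤ)) := by
    rw [Module.Finite.iff_fg]
    exact IsNoetherian.noetherian _
  refine Module.finite_of_fg_torsion _ ?_
  intro x
  exact ⟨⟨(ℓ : ℤ), mem_nonZeroDivisors_of_ne_zero (by exact_mod_cast hℓ)⟩,
    Submodule.smul_torsionBy _ x⟩

theorem card_torsionBy_le {M N : Type} [AddCommGroup M] [AddCommGroup N] [Module.Finite ℤ N]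
    (ℓ : ℕ) (hℓ : ℓ ≠ 0) (f : M →+ N) (hf : Function.Injective f) :
    Nat.card (Submodule.torsionBy ℤ M (ℓ : ℤ)) ≤ Nat.card (Submodule.torsionBy ℤ N (ℓ : ℤ)) := by
  have := finite_torsionBy (M := N) ℓ hℓ
  refine Nat.card_le_card_of_injective
    (fun x => (⟨f x.1, by
      have hx := x.2
      rw [Submodule.mem_torsionBy_iff] at hx ⊢
      rw [← map_zsmul, hx, map_zero]⟩ : Submodule.torsionBy ℤ N (ℓ : ℤ))) ?_
  intro x y hxy
  ext
  exact hf (congrArg Subtype.val hxy)

theorem card_torsionBy_int {M : Type} [AddCommGroup M] (ℓ : ℕ) (hℓ : ℓ ≠ 0)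
    (h : Nonempty (M ≃+ ℤ)) : Nat.card (Submodule.torsionBy ℤ M (ℓ : ℤ)) = 1 := by
  obtain ⟨e⟩ := h
  have : Submodule.torsionBy ℤ M (ℓ : ℤ) = ⊥ := by
    rw [eq_bot_iff]
    intro x hx
    rw [Submodule.mem_torsionBy_iff] at hx
    have h2 : (ℓ : ℤ) * e x = 0 := by
      have := congrArg e hx
      simpa using this
    rcases mul_eq_zero.1 h2 with h3 | h3
    · exact absurd (by exact_mod_cast h3) hℓ
    · simpa using h3
  rw [this]
  simp

/-- The minimal case. -/
theorem minimal_case {n : ℕ} (T : Models.NumericalType n) (hmin : T.IsMinimal)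
    (hg : 2 ≤ T.genus) (ℓ : ℕ) (hℓ : ℓ.Prime) (hℓg : 768 * T.genus < ℓ) :
    Nat.card (Submodule.torsionBy ℤ T.Pic (ℓ : ℤ)) ≤ ℓ ^ T.topGenus.toNat ∧
        T.topGenus ≤ T.genus := by
  by_cases hn : 1 < n
  · have hbound := Groth.Agent.S2184.result T hmin hg
    have hA : ∀ i j, T.a i j ≠ 0 → ¬ ((ℓ : ℤ) ∣ T.a i j) := by
      intro i j hij hd
      have h1 := Int.le_of_dvd (abs_pos.2 hij) ((dvd_abs _ _).2 hd)
      have h2 := hbound i j
      have h3 := T.m_pos i
      have h4 : |T.a i j| ≤ T.m i * |T.a i j| := le_mul_of_one_le_left (abs_nonneg _) (by omega)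
      omega
    have hm : ∀ i, ¬ ((ℓ : ℤ) ∣ T.m i) := by
      intro i hd
      have h1 := Int.le_of_dvd (T.m_pos i) hd
      obtain ⟨i', hi', j, hj, hij⟩ := T.connected {i} ⟨i, by simp⟩ (by
        intro h
        have h2 := congrArg Finset.card h
        simp at h2
        omega)
      obtain rfl : i' = i := by simpa using hi'
      have h2 := hbound i' j
      have h3 : 1 ≤ |T.a i' j| := Int.one_le_abs hij
      have h4 : T.m i' ≤ T.m i' * |T.a i' j| := le_mul_of_one_le_right (T.m_pos i').le h3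
      omega
    refine ⟨?_, Groth.Agent.S2177.result T hmin hn⟩
    obtain ⟨f, hf, -⟩ := Groth.Agent.S2179.result T
    refine (card_torsionBy_le ℓ hℓ.ne_zero f hf).trans ?_
    refine (Groth.Agent.S2172.result T.a T.m T.symm T.offDiag_nonneg T.m_pos T.mulVec_m
      T.connected ℓ hℓ hA hm).trans ?_
    apply Nat.pow_le_pow_right hℓ.pos
    unfold topGenus edgeCount
    omega
  · have h1 : n = 1 := by have := T.pos; omega
    subst h1
    have he : T.edgeCount = 0 := by
      unfold edgeCount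
      rw [Finset.card_eq_zero, Finset.filter_eq_empty_iff]
      rintro ⟨i, j⟩ -
      obtain rfl : i = j := Subsingleton.elim _ _
      simp
    have ht : T.topGenus = 0 := by
      unfold topGenus
      rw [he]
      simp
    refine ⟨?_, by rw [ht]; omega⟩
    rw [ht, card_torsionBy_int ℓ hℓ.ne_zero (Groth.Agent.S2181.pic_one T)]
    simp

theorem general_case : ∀ (n : ℕ) (T : Models.NumericalType n) (_ : 2 ≤ T.genus) (ℓ : ℕ)
    (_ : ℓ.Prime) (_ : 768 * T.genus < ℓ),
    Nat.card (Submodule.torsionBy ℤ T.Pic (ℓ : ℤ)) ≤ ℓ ^ T.genus.toNat := by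
  intro n
  induction n with
  | zero => intro T; exact absurd T.pos (lt_irrefl _)
  | succ k ih =>
    intro T hg ℓ hℓ hℓg
    by_cases hmin : T.IsMinimal
    · obtain ⟨h1, h2⟩ := minimal_case T hmin hg ℓ hℓ hℓg
      exact h1.trans (Nat.pow_le_pow_right hℓ.pos (Int.toNat_le_toNat h2))
    · obtain ⟨σ, hσ⟩ := Groth.Agent.Models.Reindex.exists_reindex_last T hmin
      obtain ⟨⟨T', hT'⟩, hgen⟩ := Groth.Agent.S2175.result _ hσ
      have hg' : T'.genus = T.genus := by
        rw [hgen T' hT', Groth.Agent.Models.Reindex.reindex_genus]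
      obtain ⟨f, hf, -⟩ := Groth.Agent.S2180.result _ hσ T' hT'
      have h3 := ih T' (by rw [hg']; exact hg) ℓ hℓ (by rw [hg']; exact hℓg)
      rw [hg'] at h3
      refine le_trans ?_ h3
      refine card_torsionBy_le ℓ hℓ.ne_zero
        (f.comp (Groth.Agent.Models.Reindex.picEquiv T σ).symm.toAddEquiv.toAddMonoidHom) ?_
      exact hf.comp (Groth.Agent.Models.Reindex.picEquiv T σ).symm.injective

/-- Stacks Tag 0C9X. Let T be a numerical type of genus g at least 2 and l a prime bigger than 768 g. Then the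
l-torsion subgroup of Pic(T) has at most l^g elements (F_l-dimension at most g); if T is minimal it
has at most l^(g_top) elements where g_top is the topological genus, itself at most g. -/
theorem result {n : ℕ} (T : Models.NumericalType n) (hg : 2 ≤ T.genus) (ℓ : ℕ) (hℓ : ℓ.Prime)
    (hℓg : 768 * T.genus < ℓ) :
    Nat.card (Submodule.torsionBy ℤ T.Pic (ℓ : ℤ)) ≤ ℓ ^ T.genus.toNat ∧
      (T.IsMinimal → Nat.card (Submodule.torsionBy ℤ T.Pic (ℓ : ℤ)) ≤ ℓ ^ T.topGenus.toNat ∧
        T.topGenus ≤ T.genus) := by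
  exact ⟨general_case n T hg ℓ hℓ hℓg, fun hmin => minimal_case T hmin hg ℓ hℓ hℓg⟩

end Groth.Agent.S2185
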