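import Groth.Statements.S2187
import Groth.Agent.Models.Vasconcelos

set_option autoImplicit false
universe u
open CategoryTheory
open LCI

namespace Groth.Agent.S2187

/-- Stacks Tag 0FJQ. Let R be a Noetherian local ring and I an ideal of finite projective dimension
as an R-module. If F is a direct summand of the conormal module I/I^2 which is isomorphic to R/I,
then there is a nonzerodivisor x in I whose class in I/I^2 generates F. -/
theorem result {R : Type u} [CommRing R]
    [IsNoetherianRing R] [IsLocalRing R] (I : Ideal R) (n : ℕ)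
    (hpd : HasProjectiveDimensionLT (ModuleCat.of R I) n)
    (F G : Submodule (R ⧸ I) I.Cotangent) (hFG : IsCompl F G) (e : F ≃ₗ[R ⧸ I] (R ⧸ I)) :
    ∃ (x : R) (hx : x ∈ I), x ∈ nonZeroDivisors R ∧
      Submodule.span (R ⧸ I) {I.toCotangent ⟨x, hx⟩} = F := by
  by_cases hI : I = ⊤
  · subst hI
    refine ⟨1, Submodule.mem_top, one_mem _, ?_⟩
    have h1 : Subsingleton (R ⧸ (⊤ : Ideal R)) := Ideal.Quotient.subsingleton_iff.mpr rfl
    have h2 : Subsingleton (⊤ : Ideal R).Cotangent := Module.subsingleton (R ⧸ (⊤ : Ideal R)) _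
    exact Subsingleton.elim _ _
  · have hIsq : I ^ 2 ≤ I := Ideal.pow_le_self two_ne_zero
    let π : I.Cotangent →ₗ[R ⧸ I] F := Submodule.projectionOnto F G hFG
    let ψ : I →ₗ[R] R ⧸ I := (e.toLinearMap ∘ₗ π).restrictScalars R ∘ₗ I.toCotangent
    obtain ⟨f, hf⟩ := I.toCotangent_surjective (e.symm 1 : F)
    have hψf : ψ f = 1 := by
      have : ψ f = e (π (I.toCotangent f)) := rfl
      have h0 : ∀ z : F, π (z : I.Cotangent) = z := fun z => Submodule.projectionOnto_apply_left hFG z
      rw [this, hf, h0, LinearEquiv.apply_symm_apply]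
    obtain ⟨x, a, b, ha, hb, hxab, hreg⟩ :=
      Groth.Agent.Models.Vasconcelos.exists_nonZeroDivisor I hI n hpd ψ f hψf
    have hx : x ∈ I := by
      rw [hxab]
      exact I.add_mem (I.mul_mem_left _ f.2) (hIsq hb)
    refine ⟨x, hx, hreg, ?_⟩
    have h1 : I.toCotangent ⟨x, hx⟩ = a • ((e.symm 1 : F) : I.Cotangent) := by
      have h2 : (⟨x, hx⟩ : I) = a • f + ⟨b, hIsq hb⟩ := by
        ext
        exact hxab
      have h3 : I.toCotangent ⟨b, hIsq hb⟩ = 0 := by
        rw [Ideal.toCotangent_eq_zero]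
        exact hb
      rw [h2, map_add, map_smul, hf, h3, add_zero]
    obtain ⟨u, rfl⟩ := ha
    rw [h1]
    apply le_antisymm
    · rw [Submodule.span_singleton_le_iff_mem]
      have h4 : (u : R) • ((e.symm 1 : F) : I.Cotangent) =
          (Ideal.Quotient.mk I (u : R)) • ((e.symm 1 : F) : I.Cotangent) := rfl
      rw [h4]
      exact F.smul_mem _ (e.symm 1).2
    · intro y hy
      have h5 : y = ((e ⟨y, hy⟩) • Ideal.Quotient.mk I (↑u⁻¹ : R)) •
          ((u : R) • ((e.symm 1 : F) : I.Cotangent)) := by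
        have h6 : (⟨y, hy⟩ : F) = (e ⟨y, hy⟩) • e.symm 1 := by
          rw [← map_smul, smul_eq_mul, mul_one, LinearEquiv.symm_apply_apply]
        have h4 : (u : R) • ((e.symm 1 : F) : I.Cotangent) =
          (Ideal.Quotient.mk I (u : R)) • ((e.symm 1 : F) : I.Cotangent) := rfl
        rw [h4, smul_smul, smul_eq_mul, mul_assoc, ← map_mul, Units.inv_mul, map_one, mul_one]
        exact congrArg Subtype.val h6
      rw [h5]
      exact Submodule.smul_mem _ _ (Submodule.mem_span_singleton_self _)

end Groth.Agent.S2187
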