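import Groth.Statements.S2188
import Groth.Agent.Models.Vasconcelos

set_option autoImplicit false
universe u
open CategoryTheory
open LCI

namespace Groth.Agent.S2188

/-- Stacks Tag 0FJR. Let R be a Noetherian local ring and I an ideal of finite projective dimension
as an R-module. If F is a direct summand of I/I^2 which is free of rank r over R/I, then there is a
regular sequence x_1, ..., x_r of R inside I whose classes in I/I^2 generate F. -/
theorem result {R : Type u} [CommRing R]
    [IsNoetherianRing R] [IsLocalRing R] (I : Ideal R) (hI : I ≠ ⊤) (n : ℕ)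
    (hpd : HasProjectiveDimensionLT (ModuleCat.of R I) n)
    (F G : Submodule (R ⧸ I) I.Cotangent) (hFG : IsCompl F G) (r : ℕ)
    (e : F ≃ₗ[R ⧸ I] (Fin r → R ⧸ I)) :
    ∃ (x : Fin r → R) (hx : ∀ i, x i ∈ I), RingTheory.Sequence.IsRegular R (List.ofFn x) ∧
      Submodule.span (R ⧸ I) (Set.range fun i => I.toCotangent ⟨x i, hx i⟩) = F := by
  have hIsq : I ^ 2 ≤ I := Ideal.pow_le_self two_ne_zero
  let π : I.Cotangent →ₗ[R ⧸ I] F := Submodule.projectionOnto F G hFG
  let ψ : I →ₗ[R] (Fin r → R ⧸ I) := (e.toLinearMap ∘ₗ π).restrictScalars R ∘ₗ I.toCotangent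
  have hsurj := I.toCotangent_surjective
  choose f hf using fun j : Fin r => hsurj ((e.symm (Pi.single j 1) : F) : I.Cotangent)
  have hψf : ∀ j, ψ (f j) = Pi.single j 1 := by
    intro j
    have : ψ (f j) = e (π (I.toCotangent (f j))) := rfl
    have h0 : ∀ z : F, π (z : I.Cotangent) = z := fun z => Submodule.projectionOnto_apply_left hFG z
    rw [this, hf, h0, LinearEquiv.apply_symm_apply]
  obtain ⟨x, hx, hreg, hspan⟩ :=
    Groth.Agent.Models.Vasconcelos.exists_regularSeq r I hI n hpd ψ f hψf
  refine ⟨x, hx, hreg, ?_⟩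
  -- compare the spans
  have key : ∀ (a b : Fin r → I), Ideal.span (Set.range fun i => (a i : R)) ≤
      Ideal.span (Set.range fun i => (b i : R)) ⊔ I ^ 2 →
      Submodule.span (R ⧸ I) (Set.range fun i => I.toCotangent (a i)) ≤
        Submodule.span (R ⧸ I) (Set.range fun i => I.toCotangent (b i)) := by
    intro a b hab
    rw [Submodule.span_le]
    rintro _ ⟨i, rfl⟩
    have h1 : (a i : R) ∈ Ideal.span (Set.range fun i => (b i : R)) ⊔ I ^ 2 :=
      hab (Ideal.subset_span ⟨i, rfl⟩)
    obtain ⟨y, hy, c, hc, hyc⟩ := Submodule.mem_sup.mp h1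
    rw [Ideal.span, Submodule.mem_span_range_iff_exists_fun] at hy
    obtain ⟨w, hw⟩ := hy
    have h2 : a i = ∑ j, w j • b j + ⟨c, hIsq hc⟩ := by
      ext
      rw [← hyc, ← hw]
      simp
    have h3 : I.toCotangent ⟨c, hIsq hc⟩ = 0 := by
      rw [Ideal.toCotangent_eq_zero]
      exact hc
    change I.toCotangent (a i) ∈ _
    rw [h2, map_add, h3, add_zero, map_sum]
    refine Submodule.sum_mem _ fun j _ => ?_
    rw [map_smul]
    have h7 : I.toCotangent (b j) ∈
        Submodule.span (R ⧸ I) (Set.range fun i => I.toCotangent (b i)) :=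
      Submodule.subset_span ⟨j, rfl⟩
    exact Submodule.smul_mem _ (Ideal.Quotient.mk I (w j)) h7
  have h4 : Submodule.span (R ⧸ I) (Set.range fun i => I.toCotangent ⟨x i, hx i⟩) =
      Submodule.span (R ⧸ I) (Set.range fun i : Fin r => I.toCotangent (f i)) := by
    apply le_antisymm
    · exact key (fun i => (⟨x i, hx i⟩ : I)) f (le_sup_left.trans hspan.le)
    · exact key f (fun i => (⟨x i, hx i⟩ : I)) (le_sup_left.trans hspan.ge)
  rw [h4]
  apply le_antisymm
  · rw [Submodule.span_le]
    rintro _ ⟨i, rfl⟩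
    change I.toCotangent (f i) ∈ F
    rw [hf]
    exact (e.symm (Pi.single i 1)).2
  · intro y hy
    have h5 : (⟨y, hy⟩ : F) = ∑ i, (e ⟨y, hy⟩ i) • e.symm (Pi.single i 1) := by
      apply e.injective
      rw [map_sum]
      simp only [map_smul, LinearEquiv.apply_symm_apply]
      ext j
      simp [Finset.sum_apply, Pi.single_apply]
    have h6 : y = ∑ i, (e ⟨y, hy⟩ i) • I.toCotangent (f i) := by
      have := congrArg Subtype.val h5
      simpa [hf] using this
    rw [h6]
    exact Submodule.sum_mem _ fun i _ => Submodule.smul_mem _ _ (Submodule.subset_span ⟨i, rfl⟩)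

end Groth.Agent.S2188
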