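import Groth.Statements.S2189
import Groth.Agent.Models.Vasconcelos
import Groth.Agent.Models.CotangentLoc
import Groth.Agent.Models.RegSpread

set_option autoImplicit false
universe u
open CategoryTheory
open LCI

namespace Groth.Agent.S2189

/-- Stacks Tag 0FJS. Let R be a Noetherian ring and I an ideal which has finite projective dimension as an
R-module and whose conormal module I/I^2 is finite locally free (projective) over R/I. Then I is a
regular ideal: for every prime p containing I there is g outside p such that the extension of I to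
R_g is generated by a regular sequence of R_g. -/
theorem result {R : Type u} [CommRing R]
    [IsNoetherianRing R] (I : Ideal R) (n : ℕ)
    (hpd : HasProjectiveDimensionLT (ModuleCat.of R I) n)
    [Module.Projective (R ⧸ I) I.Cotangent] (p : Ideal R) [p.IsPrime] (hIp : I ≤ p) :
    ∃ g : R, g ∉ p ∧ ∃ rs : List (Localization.Away g),
      RingTheory.Sequence.IsRegular (Localization.Away g) rs ∧
        Ideal.ofList rs = I.map (algebraMap R (Localization.Away g)) := by
  classical
  let Rp := Localization.AtPrime p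
  let J : Ideal Rp := I.map (algebraMap R Rp)
  have hJ : J ≠ ⊤ := by
    have h1 : J ≤ IsLocalRing.maximalIdeal Rp := by
      rw [← Localization.AtPrime.map_eq_maximalIdeal]
      exact Ideal.map_mono hIp
    intro h
    rw [h, top_le_iff] at h1
    exact (IsLocalRing.maximalIdeal.isMaximal Rp).ne_top h1
  -- finite projective dimension of `J`
  have hpd' : HasProjectiveDimensionLE (ModuleCat.of R I) n :=
    hasProjectiveDimensionLT_of_ge _ n _ (Nat.le_succ n)
  have hpdM : HasProjectiveDimensionLE ((ModuleCat.of R I).localizedModule p.primeCompl) n :=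
    ModuleCat.localizedModule_hasProjectiveDimensionLE n _ _
  have hpdJ : HasProjectiveDimensionLT (ModuleCat.of Rp J) (n + 1) := by
    let mk : I →ₗ[R] ((ModuleCat.of R I).localizedModule p.primeCompl) :=
      (ModuleCat.of R I).localizedModuleMkLinearMap p.primeCompl
    have : IsLocalizedModule p.primeCompl mk :=
      ModuleCat.localizedModule_isLocalizedModule (ModuleCat.of R I) p.primeCompl
    let e1 : ((ModuleCat.of R I).localizedModule p.primeCompl) ≃ₗ[Rp] J :=
      (IsLocalizedModule.linearEquiv p.primeCompl mk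
        (Algebra.idealMap Rp I)).extendScalarsOfIsLocalization p.primeCompl Rp
    exact hasProjectiveDimensionLT_of_iso
      (show (ModuleCat.of R I).localizedModule p.primeCompl ≅ ModuleCat.of Rp J from e1.toModuleIso) (n + 1)
  have hprojJ : Module.Projective (Rp ⧸ J) J.Cotangent :=
    Groth.Agent.Models.CotangentLoc.projective_cotangent_map p.primeCompl Rp I
  have : Nontrivial (Rp ⧸ J) := Ideal.Quotient.nontrivial_iff.mpr hJ
  have : IsLocalRing (Rp ⧸ J) :=
    IsLocalRing.of_surjective' (Ideal.Quotient.mk J) Ideal.Quotient.mk_surjective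
  have : Module.Finite Rp J := Module.Finite.of_fg (IsNoetherian.noetherian J)
  have : Module.Finite Rp J.Cotangent := Module.Finite.of_surjective J.toCotangent J.toCotangent_surjective
  have : Module.Finite (Rp ⧸ J) J.Cotangent := Module.Finite.of_restrictScalars_finite Rp (Rp ⧸ J) _
  have : Module.Free (Rp ⧸ J) J.Cotangent := Module.free_of_flat_of_isLocalRing
  let r := Module.finrank (Rp ⧸ J) J.Cotangent
  let e : J.Cotangent ≃ₗ[Rp ⧸ J] (Fin r → Rp ⧸ J) := (Module.finBasis (Rp ⧸ J) J.Cotangent).equivFun
  have hsurj := J.toCotangent_surjective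
  choose f hf using fun j : Fin r => hsurj (e.symm (Pi.single j 1))
  let ψ : J →ₗ[Rp] (Fin r → Rp ⧸ J) := e.toLinearMap.restrictScalars Rp ∘ₗ J.toCotangent
  have hψf : ∀ j, ψ (f j) = Pi.single j 1 := by
    intro j
    have : ψ (f j) = e (J.toCotangent (f j)) := rfl
    rw [this, hf, LinearEquiv.apply_symm_apply]
  obtain ⟨x, hx, hreg, hspan⟩ :=
    Groth.Agent.Models.Vasconcelos.exists_regularSeq r J hJ (n + 1) hpdJ ψ f hψf
  -- `J` is generated by the `x i`
  have hf' : J ≤ Ideal.span (Set.range fun j => (f j : Rp)) ⊔ J ^ 2 := by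
    intro y hy
    have h1 : J.toCotangent ⟨y, hy⟩ = ∑ j, (e (J.toCotangent ⟨y, hy⟩) j) • J.toCotangent (f j) := by
      apply e.injective
      rw [map_sum]
      simp only [map_smul, hf, LinearEquiv.apply_symm_apply]
      ext j
      simp [Finset.sum_apply, Pi.single_apply]
    choose c hc using fun j => Ideal.Quotient.mk_surjective (e (J.toCotangent ⟨y, hy⟩) j)
    have h2 : J.toCotangent ⟨y, hy⟩ = J.toCotangent (∑ j, c j • f j) := by
      rw [h1, map_sum]
      refine Finset.sum_congr rfl fun j _ => ?_
      rw [← hc j, map_smul]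
      rfl
    rw [Ideal.toCotangent_eq] at h2
    have h3 : y = ((∑ j, c j • f j : J) : Rp) + (y - ((∑ j, c j • f j : J) : Rp)) := by ring
    rw [h3]
    refine Submodule.add_mem_sup ?_ h2
    rw [AddSubmonoidClass.coe_finsetSum]
    exact Ideal.sum_mem _ fun j _ => Ideal.mul_mem_left _ _ (Ideal.subset_span ⟨j, rfl⟩)
  have hJx : Ideal.span (Set.range x) = J := by
    apply le_antisymm
    · rw [Ideal.span_le]
      rintro _ ⟨i, rfl⟩
      exact hx i
    · rw [← hspan] at hf'
      refine Submodule.le_of_le_smul_of_le_jacobson_bot (I := J) (IsNoetherian.noetherian J) ?_ ?_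
      · rw [IsLocalRing.jacobson_eq_maximalIdeal ⊥ bot_ne_top]
        exact IsLocalRing.le_maximalIdeal hJ
      · rw [smul_eq_mul, ← sq]
        exact hf'
  have hofFn : Ideal.ofList (List.ofFn x) = J := by
    have h0 : {z | z ∈ List.ofFn x} = Set.range x := by
      ext z
      simp [List.mem_ofFn]
    rw [← hJx, ← h0]
  -- lift to `R`
  obtain ⟨ss, hss⟩ := Groth.Agent.Models.RegSpread.exists_lift_associated p.primeCompl Rp (List.ofFn x)
  have h1 : (Ideal.ofList ss).map (algebraMap R Rp) = J := by
    rw [Ideal.map_ofList, ← Groth.Agent.Models.RegSpread.ofList_eq_of_forall₂_associated hss, hofFn]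
  have h2 : RingTheory.Sequence.IsWeaklyRegular Rp (ss.map (algebraMap R Rp)) :=
    Groth.Agent.Models.RegSpread.isWeaklyRegular_of_forall₂_associated hss hreg.1
  obtain ⟨g1, hg1, hg1'⟩ := Groth.Agent.Models.RegSpread.exists_away p ss h2
  obtain ⟨g2, hg2, hg2'⟩ := Groth.Agent.Models.RegSpread.exists_away_map_le p (Ideal.ofList ss) I
    (IsNoetherian.noetherian _) h1.le
  obtain ⟨g3, hg3, hg3'⟩ := Groth.Agent.Models.RegSpread.exists_away_map_le p I (Ideal.ofList ss)
    (IsNoetherian.noetherian _) h1.ge
  have hgp : g1 * g2 * g3 ∉ p := fun h =>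
    ((Ideal.IsPrime.mem_or_mem inferInstance h).elim
      (fun h => (Ideal.IsPrime.mem_or_mem inferInstance h).elim hg1 hg2) hg3)
  have heq : Ideal.ofList (ss.map (algebraMap R (Localization.Away (g1 * g2 * g3)))) =
      I.map (algebraMap R (Localization.Away (g1 * g2 * g3))) := by
    rw [← Ideal.map_ofList]
    exact le_antisymm (hg2' _ ⟨g1 * g3, by ring⟩) (hg3' _ ⟨g1 * g2, by ring⟩)
  refine ⟨g1 * g2 * g3, hgp, ss.map (algebraMap R _), ⟨hg1' _ ⟨g2 * g3, by ring⟩, ?_⟩, heq⟩
  rw [heq, smul_eq_mul, Ideal.mul_top]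
  symm
  rw [IsLocalization.map_algebraMap_ne_top_iff_disjoint (Submonoid.powers (g1 * g2 * g3))]
  rw [Set.disjoint_left]
  rintro _ ⟨k, rfl⟩ hk
  exact hgp (Ideal.IsPrime.mem_of_pow_mem inferInstance k (hIp hk))

end Groth.Agent.S2189
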