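import Groth.Statements.S2190
-- import your own Groth.Agent.* helpers here
import Mathlib.Tactic
import Groth.Agent.S2176

set_option autoImplicit false
open Finset
open Models Models.NumericalType

namespace Groth.Agent.S2190

/-- Stacks Tag 0C8S. A minimal numerical type of genus zero has a single index, with m = 1, a = 0, w = 1 and g = 0. -/
theorem result {n : ℕ} (T : Models.NumericalType n) (hmin : T.IsMinimal) (hg : T.genus = 0) :
    n = 1 ∧ ∀ i, T.m i = 1 ∧ T.a i i = 0 ∧ T.w i = 1 ∧ T.g i = 0 := by
  have hn : n = 1 := by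
    by_contra hne
    have h1 : 1 < n := by have := T.pos; omega
    have := Groth.Agent.S2176.result T hmin h1
    omega
  subst hn
  refine ⟨rfl, fun i => ?_⟩
  obtain rfl : i = 0 := Subsingleton.elim _ _
  have hm := T.m_pos 0
  have hw := T.w_pos 0
  have hgg := T.g_nonneg 0
  have ha : T.a 0 0 = 0 := by
    have := congrFun T.mulVec_m 0
    simp [Matrix.mulVec, dotProduct] at this
    rcases this with h | h
    · exact h
    · omega
  have hg' : 1 + T.m 0 * T.w 0 * (T.g 0 - 1) = 0 := by
    have := hg
    simpa [NumericalType.genus, ha] using this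
  have hmw : 0 < T.m 0 * T.w 0 := mul_pos hm hw
  have h3 : T.m 0 * (T.w 0 * (1 - T.g 0)) = 1 := by linarith [hg', mul_assoc (T.m 0) (T.w 0) (T.g 0 - 1), mul_comm (T.m 0) (T.w 0)]
  have hm1 : T.m 0 = 1 := by
    have := Int.eq_one_or_neg_one_of_mul_eq_one h3
    omega
  rw [hm1, one_mul] at h3
  have hw1 : T.w 0 = 1 := by
    have := Int.eq_one_or_neg_one_of_mul_eq_one h3
    omega
  rw [hw1, one_mul] at h3
  exact ⟨hm1, ha, hw1, by omega⟩

end Groth.Agent.S2190
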