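import Groth.Statements.S2192
import Mathlib.RingTheory.DividedPowers.DPMorphism
import Mathlib.RingTheory.DividedPowers.RatAlgebra
import Mathlib.RingTheory.DividedPowerAlgebra.Init
import Mathlib.Data.Nat.Choose.Vandermonde
import Mathlib.LinearAlgebra.StdBasis

set_option autoImplicit false
universe u
open DPow

namespace Groth.Agent.S2192

open Finset

/-- the combinatorial identity behind the product rule for a sum -/
theorem sum_sum_choose {R : Type*} [CommRing R] (m n : ℕ) (F : ℕ → ℕ → R) :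
    (∑ a ∈ antidiagonal m, ∑ b ∈ antidiagonal n,
      ((a.1 + b.1).choose a.1 : R) * ((a.2 + b.2).choose a.2 : R) * F (a.1 + b.1) (a.2 + b.2)) =
    ∑ c ∈ antidiagonal (m + n), ((m + n).choose m : R) * F c.1 c.2 := by
  have h1 : ∀ a ∈ antidiagonal m, (∑ b ∈ antidiagonal n,
      ((a.1 + b.1).choose a.1 : R) * ((a.2 + b.2).choose a.2 : R) * F (a.1 + b.1) (a.2 + b.2)) =
      ∑ c ∈ antidiagonal (m + n), (c.1.choose a.1 : R) * (c.2.choose a.2 : R) * F c.1 c.2 := by
    intro a ha
    rw [mem_antidiagonal] at ha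
    refine sum_of_injOn (fun b => (a.1 + b.1, a.2 + b.2)) ?_ ?_ ?_ ?_
    · rintro ⟨b1, b2⟩ _ ⟨c1, c2⟩ _ h
      simp only [Prod.mk.injEq] at h
      ext <;> simp <;> omega
    · rintro ⟨b1, b2⟩ hb
      simp only [mem_coe, mem_antidiagonal] at hb ⊢
      omega
    · rintro ⟨c1, c2⟩ hc hc'
      rw [mem_antidiagonal] at hc
      by_cases h1 : c1 < a.1
      · simp only
        rw [Nat.choose_eq_zero_of_lt h1]
        simp
      by_cases h2 : c2 < a.2
      · simp only
        rw [Nat.choose_eq_zero_of_lt h2]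
        simp
      exfalso
      apply hc'
      refine ⟨(c1 - a.1, c2 - a.2), ?_, ?_⟩
      · simp only [mem_coe, mem_antidiagonal]
        omega
      · ext <;> simp <;> omega
    · rintro ⟨b1, b2⟩ hb
      rfl
  rw [sum_congr rfl h1, sum_comm]
  refine sum_congr rfl fun c hc => ?_
  rw [mem_antidiagonal] at hc
  rw [← sum_mul, ← hc, Nat.add_choose_eq]
  push_cast
  rfl

theorem h_mul_dpow_add {A : Type u} [CommRing A] (I : Ideal A) (d : ℕ → A → A)
    (h_add : ∀ (n : ℕ) (x y : A), x ∈ I → y ∈ I →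
      d n (x + y) = (Finset.antidiagonal n).sum fun k => d k.1 x * d k.2 y)
    {x y : A} (hx : x ∈ I) (hy : y ∈ I)
    (hx' : ∀ m n : ℕ, d m x * d n x = (m + n).choose m * d (m + n) x)
    (hy' : ∀ m n : ℕ, d m y * d n y = (m + n).choose m * d (m + n) y) (m n : ℕ) :
    d m (x + y) * d n (x + y) = (m + n).choose m * d (m + n) (x + y) := by
  rw [h_add _ _ _ hx hy, h_add _ _ _ hx hy, h_add _ _ _ hx hy, sum_mul_sum, mul_sum]
  have := sum_sum_choose m n (fun p q => d p x * d q y)
  rw [← this]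
  refine sum_congr rfl fun a _ => sum_congr rfl fun b _ => ?_
  calc d a.1 x * d a.2 y * (d b.1 x * d b.2 y) = (d a.1 x * d b.1 x) * (d a.2 y * d b.2 y) := by
        ring
    _ = _ := by rw [hx', hy']; ring

section Universal

open DividedPowerAlgebra

/-- the rational polynomial ring -/
abbrev Q : Type := MvPolynomial (Fin 2) ℚ

/-- the divided powers on the unit ideal of the rational polynomial ring -/
noncomputable def δQ : DividedPowers (⊤ : Ideal Q) := by
  classical exact DividedPowers.RatAlgebra.dividedPowers ⊤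

/-- the free module map -/
noncomputable def gQ : (Fin 2 → ℤ) →ₗ[ℤ] Q :=
  (Pi.basisFun ℤ (Fin 2)).constr ℤ (fun i => (MvPolynomial.X i : Q))

/-- the universal divided power algebra on two generators -/
abbrev Gam : Type := DividedPowerAlgebra ℤ (Fin 2 → ℤ)

/-- the map to the rational polynomial ring -/
noncomputable def psi : Gam →ₐ[ℤ] Q :=
  DividedPowerAlgebra.lift δQ gQ (fun _ => trivial)

theorem psi_prod (n : Fin 2 →₀ ℕ) :
    psi (n.prod fun i k => dp ℤ k (Pi.basisFun ℤ (Fin 2) i)) =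
      MvPolynomial.monomial n (∏ i, ((n i).factorial : ℚ)⁻¹) := by
  rw [Finsupp.prod_fintype n (fun i k => dp ℤ k (Pi.basisFun ℤ (Fin 2) i)) (fun i => dp_zero),
    map_prod]
  have : ∀ i, psi (dp ℤ (n i) (Pi.basisFun ℤ (Fin 2) i)) =
      MvPolynomial.C ((n i).factorial : ℚ)⁻¹ * (MvPolynomial.X i : Q) ^ (n i) := by
    intro i
    unfold psi
    rw [lift_apply_dp, gQ, Module.Basis.constr_basis,
      DividedPowers.RatAlgebra.dpow_eq_inv_fact_smul _ δQ trivial, Ring.inverse_eq_inv',
      MvPolynomial.smul_eq_C_mul]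
  rw [Finset.prod_congr rfl fun i _ => this i, Finset.prod_mul_distrib, ← map_prod,
    MvPolynomial.monomial_eq, Finsupp.prod_fintype _ _ (fun i => pow_zero _)]

theorem psi_injective : Function.Injective psi := by
  rw [injective_iff_map_eq_zero]
  intro z hz
  have hz' : z ∈ Submodule.span ℤ (Set.range fun n : Fin 2 →₀ ℕ =>
      n.prod fun i k => dp ℤ k (Pi.basisFun ℤ (Fin 2) i)) := by
    rw [submodule_span_prod_dp_eq_top (Pi.basisFun ℤ (Fin 2)).span_eq]
    trivial
  rw [Finsupp.mem_span_range_iff_exists_finsupp] at hz'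
  obtain ⟨c, rfl⟩ := hz'
  rw [Finsupp.sum, map_sum] at hz
  suffices h : c = 0 by
    rw [h, Finsupp.sum_zero_index]
  ext n
  have := congrArg (MvPolynomial.coeff n) hz
  rw [MvPolynomial.coeff_sum, MvPolynomial.coeff_zero] at this
  by_contra hn
  have hn' : n ∈ c.support := Finsupp.mem_support_iff.mpr hn
  rw [Finset.sum_eq_single n] at this
  · rw [map_zsmul, psi_prod, MvPolynomial.coeff_smul, MvPolynomial.coeff_monomial, if_pos rfl,
      zsmul_eq_mul, mul_eq_zero] at this
    rcases this with h | h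
    · exact hn (by exact_mod_cast h)
    · rw [Finset.prod_eq_zero_iff] at h
      obtain ⟨i, _, hi⟩ := h
      rw [inv_eq_zero] at hi
      exact (Nat.factorial_ne_zero _) (by exact_mod_cast hi)
  · intro k _ hk
    rw [map_zsmul, psi_prod, MvPolynomial.coeff_smul, MvPolynomial.coeff_monomial, if_neg hk,
      smul_zero]
  · exact fun h => (h hn').elim

end Universal

theorem h_comp_add {A : Type u} [CommRing A] (I : Ideal A) (d : ℕ → A → A)
    (h_zero : ∀ x ∈ I, d 0 x = 1) 
    (h_mem : ∀ (n : ℕ) (x : A), n ≠ 0 → x ∈ I → d n x ∈ I)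
    (h_add : ∀ (n : ℕ) (x y : A), x ∈ I → y ∈ I →
      d n (x + y) = (Finset.antidiagonal n).sum fun k => d k.1 x * d k.2 y)
    (h_mul : ∀ (n : ℕ) (a x : A), x ∈ I → d n (a * x) = a ^ n * d n x)
    (h_mul_dpow : ∀ (m n : ℕ) (x : A), x ∈ I → d m x * d n x = (m + n).choose m * d (m + n) x)
    {x y : A} (hx : x ∈ I) (hy : y ∈ I)
    (hx' : ∀ m n : ℕ, n ≠ 0 → d m (d n x) = Nat.uniformBell m n * d (m * n) x)
    (hy' : ∀ m n : ℕ, n ≠ 0 → d m (d n y) = Nat.uniformBell m n * d (m * n) y) (m n : ℕ)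
    (hn : n ≠ 0) :
    d m (d n (x + y)) = Nat.uniformBell m n * d (m * n) (x + y) := by
  have hmem : ∀ v : Fin 2 → ℤ, (v 0 : A) * x + (v 1 : A) * y ∈ I := fun v =>
    I.add_mem (I.mul_mem_left _ hx) (I.mul_mem_left _ hy)
  have h_null0 : ∀ n : ℕ, n ≠ 0 → d n 0 = 0 := fun n hn => by
    have := h_mul n 0 0 I.zero_mem
    rwa [mul_zero, zero_pow hn, zero_mul] at this
  let φ : Gam →ₐ[ℤ] A := DividedPowerAlgebra.lift' (R := ℤ) (M := Fin 2 → ℤ) (A := A)
    (f := fun p => d p.1 ((p.2 0 : A) * x + (p.2 1 : A) * y))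
    (fun v => h_zero _ (hmem v))
    (fun n r v => by
      have : (((r • v) 0 : ℤ) : A) * x + (((r • v) 1 : ℤ) : A) * y =
        (r : A) * ((v 0 : A) * x + (v 1 : A) * y) := by
          simp only [Pi.smul_apply, smul_eq_mul, Int.cast_mul]
          ring
      change d n _ = _
      rw [this, h_mul _ _ _ (hmem v), zsmul_eq_mul, Int.cast_pow])
    (fun n p v => by
      change d n _ * d p _ = _
      rw [h_mul_dpow _ _ _ (hmem v), nsmul_eq_mul])
    (fun n u v => by
      have : (((u + v) 0 : ℤ) : A) * x + (((u + v) 1 : ℤ) : A) * y =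
        ((u 0 : A) * x + (u 1 : A) * y) + ((v 0 : A) * x + (v 1 : A) * y) := by
          simp only [Pi.add_apply, Int.cast_add]
          ring
      change d n _ = _
      rw [this, h_add _ _ _ (hmem u) (hmem v)])
  have hφ : ∀ (n : ℕ) (v : Fin 2 → ℤ), φ (DividedPowerAlgebra.dp ℤ n v) =
      d n ((v 0 : A) * x + (v 1 : A) * y) := fun n v => by
    rw [DividedPowerAlgebra.lift'_apply_dp]
  have hψ : ∀ (n : ℕ) (v : Fin 2 → ℤ), psi (DividedPowerAlgebra.dp ℤ n v) =
      δQ.dpow n (gQ v) := fun n v => by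
    rw [psi, DividedPowerAlgebra.lift_apply_dp]
  let e : Fin 2 → Fin 2 → ℤ := fun i => Pi.basisFun ℤ (Fin 2) i
  have he0 : ((e 0 0 : ℤ) : A) * x + ((e 0 1 : ℤ) : A) * y = x := by
    simp [e]
  have he1 : ((e 1 0 : ℤ) : A) * x + ((e 1 1 : ℤ) : A) * y = y := by
    simp [e]
  let J : Ideal Gam := Ideal.span (Set.range fun p : ℕ × Fin 2 =>
    DividedPowerAlgebra.dp ℤ (p.1 + 1) (e p.2))
  have hJ : ∀ {k : ℕ} (i : Fin 2), k ≠ 0 → DividedPowerAlgebra.dp ℤ k (e i) ∈ J := by
    intro k i hk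
    obtain ⟨l, rfl⟩ := Nat.exists_eq_succ_of_ne_zero hk
    exact Ideal.subset_span ⟨(l, i), rfl⟩
  have hJI : ∀ z ∈ J, φ z ∈ I := by
    intro z hz
    have : J ≤ Ideal.comap φ I := by
      rw [Ideal.span_le]
      rintro _ ⟨p, rfl⟩
      simp only [SetLike.mem_coe, Ideal.mem_comap]
      rw [hφ]
      exact h_mem _ _ (by omega) (hmem _)
    exact this hz
  have key : ∀ z ∈ J, ∀ k : ℕ, ∃ w : Gam, (k ≠ 0 → w ∈ J) ∧ φ w = d k (φ z) ∧
      psi w = δQ.dpow k (psi z) := by
    intro z hz
    induction hz using Submodule.span_induction with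
    | mem z hz =>
      obtain ⟨⟨l, i⟩, rfl⟩ := hz
      intro k
      refine ⟨Nat.uniformBell k (l + 1) * DividedPowerAlgebra.dp ℤ (k * (l + 1)) (e i), ?_, ?_, ?_⟩
      · intro hk
        exact J.mul_mem_left _ (hJ i (Nat.mul_ne_zero hk (by omega)))
      · rw [map_mul, map_natCast, hφ, hφ]
        fin_cases i
        · change _ * d _ (((e 0 0 : ℤ) : A) * x + ((e 0 1 : ℤ) : A) * y) =
            d k (d _ (((e 0 0 : ℤ) : A) * x + ((e 0 1 : ℤ) : A) * y))
          rw [he0, hx' _ _ (by omega)]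
        · change _ * d _ (((e 1 0 : ℤ) : A) * x + ((e 1 1 : ℤ) : A) * y) =
            d k (d _ (((e 1 0 : ℤ) : A) * x + ((e 1 1 : ℤ) : A) * y))
          rw [he1, hy' _ _ (by omega)]
      · rw [map_mul, map_natCast, hψ, hψ, δQ.dpow_comp (by omega) trivial]
    | zero =>
      intro k
      by_cases hk : k = 0
      · refine ⟨1, fun h => (h hk).elim, ?_, ?_⟩
        · rw [map_one, map_zero, hk, h_zero _ I.zero_mem]
        · rw [map_one, map_zero, hk, δQ.dpow_zero trivial]
      · refine ⟨0, fun _ => J.zero_mem, ?_, ?_⟩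
        · rw [map_zero, h_null0 k hk]
        · rw [map_zero, δQ.dpow_eval_zero hk]
    | add z w hz hw h1 h2 =>
      intro k
      choose z1 hz1 hz2 hz3 using h1
      choose w1 hw1 hw2 hw3 using h2
      refine ⟨(Finset.antidiagonal k).sum fun q => z1 q.1 * w1 q.2, ?_, ?_, ?_⟩
      · intro hk
        refine J.sum_mem fun q hq => ?_
        rw [mem_antidiagonal] at hq
        by_cases h0 : q.1 = 0
        · exact J.mul_mem_left _ (hw1 _ (by omega))
        · exact J.mul_mem_right _ (hz1 _ h0)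
      · rw [map_sum, map_add, h_add _ _ _ (hJI z hz) (hJI w hw)]
        exact Finset.sum_congr rfl fun q _ => by rw [map_mul, hz2, hw2]
      · rw [map_sum, map_add, δQ.dpow_add trivial trivial]
        exact Finset.sum_congr rfl fun q _ => by rw [map_mul, hz3, hw3]
    | smul a z hz h =>
      intro k
      obtain ⟨w, hw1, hw2, hw3⟩ := h k
      refine ⟨a ^ k * w, fun hk => J.mul_mem_left _ (hw1 hk), ?_, ?_⟩
      · rw [smul_eq_mul, map_mul, map_mul, map_pow, h_mul _ _ _ (hJI z hz), hw2]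
      · rw [smul_eq_mul, map_mul, map_mul, map_pow, δQ.dpow_mul trivial, hw3]
  have hn' : DividedPowerAlgebra.dp ℤ n (e 0 + e 1) ∈ J := by
    rw [DividedPowerAlgebra.dp_add]
    refine J.sum_mem fun q hq => ?_
    rw [mem_antidiagonal] at hq
    by_cases h0 : q.1 = 0
    · exact J.mul_mem_left _ (hJ _ (by omega))
    · exact J.mul_mem_right _ (hJ _ h0)
  obtain ⟨w, -, hw2, hw3⟩ := key _ hn' m
  have hw : w = Nat.uniformBell m n * DividedPowerAlgebra.dp ℤ (m * n) (e 0 + e 1) := by
    apply psi_injective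
    rw [hw3, hψ, δQ.dpow_comp hn trivial, map_mul, map_natCast, hψ]
  have hsum : (((e 0 + e 1) 0 : ℤ) : A) * x + (((e 0 + e 1) 1 : ℤ) : A) * y = x + y := by
    simp [e]
  rw [hφ, hsum] at hw2
  rw [← hw2, hw, map_mul, map_natCast, hφ, hsum]

/-- Stacks Tag 07GP. Let I be an ideal of a ring A generated by a set S, and let d n : A -> A (n a natural number) be
maps with d 0 = 1 and d 1 = id on I, d n mapping I into I for n > 0, vanishing off I, additive in
the divided-power sense and satisfying d n (a x) = a^n d n x for all x in I. If the product rule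
d m x * d n x = C(m+n, m) d (m+n) x and the composition rule for d m (d n x) hold for all x in S,
then the d n form a divided power structure on I. -/
theorem result {A : Type u} [CommRing A] (I : Ideal A) (S : Set A)
    (hS : Ideal.span S = I) (d : ℕ → A → A) (h_null : ∀ (n : ℕ) (x : A), x ∉ I → d n x = 0)
    (h_zero : ∀ x ∈ I, d 0 x = 1) (h_one : ∀ x ∈ I, d 1 x = x)
    (h_mem : ∀ (n : ℕ) (x : A), n ≠ 0 → x ∈ I → d n x ∈ I)
    (h_add : ∀ (n : ℕ) (x y : A), x ∈ I → y ∈ I →
      d n (x + y) = (Finset.antidiagonal n).sum fun k => d k.1 x * d k.2 y)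
    (h_mul : ∀ (n : ℕ) (a x : A), x ∈ I → d n (a * x) = a ^ n * d n x)
    (h_mul_dpow : ∀ (m n : ℕ) (x : A), x ∈ S → d m x * d n x = (m + n).choose m * d (m + n) x)
    (h_comp : ∀ (m n : ℕ) (x : A), n ≠ 0 → x ∈ S →
      d m (d n x) = Nat.uniformBell m n * d (m * n) x) :
    ∃ γ : DividedPowers I, γ.dpow = d := by
  have h_null0 : ∀ n : ℕ, n ≠ 0 → d n 0 = 0 := fun n hn => by
    have := h_mul n 0 0 I.zero_mem
    rwa [mul_zero, zero_pow hn, zero_mul] at this
  have h1 : ∀ x ∈ I, ∀ (m n : ℕ), d m x * d n x = (m + n).choose m * d (m + n) x := by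
    intro x hx
    rw [← hS] at hx
    induction hx using Submodule.span_induction with
    | mem x hx => exact fun m n => h_mul_dpow m n x hx
    | zero =>
      intro m n
      by_cases hm : m = 0
      · rw [hm, h_zero _ I.zero_mem]
        simp
      · rw [h_null0 m hm, h_null0 (m + n) (by omega)]
        simp
    | add x y hx hy h1 h2 =>
      exact h_mul_dpow_add I d h_add (hS ▸ hx) (hS ▸ hy) h1 h2
    | smul a x hx h =>
      intro m n
      have hx' : x ∈ I := hS ▸ hx
      rw [smul_eq_mul, h_mul _ _ _ hx', h_mul _ _ _ hx', h_mul _ _ _ hx']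
      calc a ^ m * d m x * (a ^ n * d n x) = a ^ m * a ^ n * (d m x * d n x) := by ring
        _ = _ := by rw [h, pow_add]; ring
  have h2 : ∀ x ∈ I, ∀ (m n : ℕ), n ≠ 0 → d m (d n x) = Nat.uniformBell m n * d (m * n) x := by
    intro x hx
    rw [← hS] at hx
    induction hx using Submodule.span_induction with
    | mem x hx => exact fun m n hn => h_comp m n x hn hx
    | zero =>
      intro m n hn
      rw [h_null0 n hn]
      by_cases hm : m = 0
      · rw [hm, zero_mul, h_zero _ I.zero_mem, Nat.uniformBell_zero_left]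
        simp
      · rw [h_null0 m hm, h_null0 (m * n) (Nat.mul_ne_zero hm hn)]
        simp
    | add x y hx hy h3 h4 =>
      exact h_comp_add I d h_zero h_mem h_add h_mul (fun m n x hx => h1 x hx m n)
        (hS ▸ hx) (hS ▸ hy) h3 h4
    | smul a x hx h =>
      intro m n hn
      have hx' : x ∈ I := hS ▸ hx
      rw [smul_eq_mul, h_mul _ _ _ hx', h_mul _ _ _ hx', h_mul _ _ _ (h_mem _ _ hn hx'), h m n hn,
        ← pow_mul, mul_comm n m]
      ring
  exact ⟨{
    dpow := d
    dpow_null := fun hx => h_null _ _ hx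
    dpow_zero := fun hx => h_zero _ hx
    dpow_one := fun hx => h_one _ hx
    dpow_mem := fun hn hx => h_mem _ _ hn hx
    dpow_add := fun hx hy => h_add _ _ _ hx hy
    dpow_mul := fun hx => h_mul _ _ _ hx
    mul_dpow := fun hx => h1 _ hx _ _
    dpow_comp := fun hn hx => h2 _ hx _ _ hn }, rfl⟩

end Groth.Agent.S2192
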