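import Groth.Statements.S2191
import Groth.Agent.S2192
import Mathlib.Tactic.LinearCombination

set_option autoImplicit false
universe u v
open DPow

namespace Groth.Agent.S2191

/-- Glued exponential series: for `a = x + y` with `x ∈ I`, `y ∈ J` it is `exp x * exp y`. -/
noncomputable def glued {A : Type u} [CommRing A] {I J : Ideal A} (γ : DividedPowers I)
    (δ : DividedPowers J) (n : ℕ) (a : A) : A :=
  open scoped Classical in
  if h : ∃ x ∈ I, ∃ y ∈ J, x + y = a then
    PowerSeries.coeff n (γ.exp h.choose * δ.exp h.choose_spec.2.choose) else 0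

theorem glued_eq {A : Type u} [CommRing A] {I J : Ideal A} (γ : DividedPowers I)
    (δ : DividedPowers J) (h : ∀ (n : ℕ) (x : A), x ∈ I ⊓ J → γ.dpow n x = δ.dpow n x)
    {x y : A} (hx : x ∈ I) (hy : y ∈ J) (n : ℕ) :
    glued γ δ n (x + y) = PowerSeries.coeff n (γ.exp x * δ.exp y) := by
  classical
  have hex : ∃ x' ∈ I, ∃ y' ∈ J, x' + y' = x + y := ⟨x, hx, y, hy, rfl⟩
  unfold glued
  rw [dif_pos hex]
  set x' := hex.choose with hx'def
  have hx' : x' ∈ I := hex.choose_spec.1
  set y' := hex.choose_spec.2.choose with hy'def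
  have hy' : y' ∈ J := hex.choose_spec.2.choose_spec.1
  have hxy : x' + y' = x + y := hex.choose_spec.2.choose_spec.2
  have hz : x' - x = y - y' := by linear_combination hxy
  have hzI : x' - x ∈ I := I.sub_mem hx' hx
  have hzJ : x' - x ∈ J := hz ▸ J.sub_mem hy hy'
  have hexp : γ.exp (x' - x) = δ.exp (x' - x) := by
    ext m
    simp only [DividedPowers.exp, PowerSeries.coeff_mk]
    exact h m _ ⟨hzI, hzJ⟩
  change PowerSeries.coeff n (γ.exp x' * δ.exp y') = _
  have e1 : γ.exp x' = γ.exp x * γ.exp (x' - x) := by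
    rw [← γ.exp_add hx hzI]; congr 1; ring
  have e2 : δ.exp y = δ.exp (x' - x) * δ.exp y' := by
    rw [← δ.exp_add hzJ hy']; congr 1; rw [hz]; ring
  rw [e1, e2, hexp, mul_assoc]

/-- Stacks Tag 07GQ. Part (2): if two ideals I and J of a ring carry divided power structures agreeing on their
intersection, then exactly one divided power structure on the ideal I + J restricts to the given
ones on I and on J. -/
theorem result {A : Type u} [CommRing A] {I J : Ideal A} (γ : DividedPowers I)
    (δ : DividedPowers J) (h : ∀ (n : ℕ) (x : A), x ∈ I ⊓ J → γ.dpow n x = δ.dpow n x) :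
    ∃! ε : DividedPowers (I ⊔ J),
      (∀ (n : ℕ) (x : A), x ∈ I → ε.dpow n x = γ.dpow n x) ∧
        (∀ (n : ℕ) (x : A), x ∈ J → ε.dpow n x = δ.dpow n x) := by
  classical
  have key := fun {x y : A} (hx : x ∈ I) (hy : y ∈ J) (n : ℕ) => glued_eq γ δ h hx hy n
  have exp0I : γ.exp 0 = 1 := by
    ext m
    simp only [DividedPowers.exp, PowerSeries.coeff_mk, PowerSeries.coeff_one]
    split_ifs with hm
    · rw [hm, γ.dpow_zero I.zero_mem]
    · exact γ.dpow_eval_zero hm
  have exp0J : δ.exp 0 = 1 := by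
    ext m
    simp only [DividedPowers.exp, PowerSeries.coeff_mk, PowerSeries.coeff_one]
    split_ifs with hm
    · rw [hm, δ.dpow_zero J.zero_mem]
    · exact δ.dpow_eval_zero hm
  have onI : ∀ (n : ℕ) (x : A), x ∈ I → glued γ δ n x = γ.dpow n x := by
    intro n x hx
    have := key hx J.zero_mem n
    rw [add_zero, exp0J, mul_one] at this
    rw [this, DividedPowers.exp, PowerSeries.coeff_mk]
  have onJ : ∀ (n : ℕ) (x : A), x ∈ J → glued γ δ n x = δ.dpow n x := by
    intro n x hx
    have := key I.zero_mem hx n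
    rw [zero_add, exp0I, one_mul] at this
    rw [this, DividedPowers.exp, PowerSeries.coeff_mk]
  have hspan : Ideal.span ((I : Set A) ∪ (J : Set A)) = I ⊔ J := by
    rw [Ideal.span_union, Ideal.span_eq, Ideal.span_eq]
  obtain ⟨ε, hε⟩ := Groth.Agent.S2192.result (I ⊔ J) ((I : Set A) ∪ (J : Set A)) hspan
    (glued γ δ)
    (by
      intro n x hx
      unfold glued
      rw [dif_neg]
      rintro ⟨y, hy, z, hz, rfl⟩
      exact hx (Submodule.add_mem_sup hy hz))
    (by
      intro a ha
      obtain ⟨x, hx, y, hy, rfl⟩ := Submodule.mem_sup.mp ha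
      rw [key hx hy, PowerSeries.coeff_zero_eq_constantCoeff, map_mul,
        ← PowerSeries.coeff_zero_eq_constantCoeff]
      simp [DividedPowers.exp, γ.dpow_zero hx, δ.dpow_zero hy])
    (by
      intro a ha
      obtain ⟨x, hx, y, hy, rfl⟩ := Submodule.mem_sup.mp ha
      rw [key hx hy, PowerSeries.coeff_mul]
      simp [DividedPowers.exp, Finset.Nat.antidiagonal_succ, γ.dpow_zero hx, δ.dpow_zero hy,
        γ.dpow_one hx, δ.dpow_one hy, add_comm])
    (by
      intro n a hn ha
      obtain ⟨x, hx, y, hy, rfl⟩ := Submodule.mem_sup.mp ha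
      rw [key hx hy, PowerSeries.coeff_mul]
      refine Submodule.sum_mem _ fun k hk => ?_
      simp only [DividedPowers.exp, PowerSeries.coeff_mk]
      rw [Finset.mem_antidiagonal] at hk
      by_cases h1 : k.1 = 0
      · have h2 : k.2 ≠ 0 := by omega
        exact Ideal.mul_mem_left _ _ (Ideal.mem_sup_right (δ.dpow_mem h2 hy))
      · exact Ideal.mul_mem_right _ _ (Ideal.mem_sup_left (γ.dpow_mem h1 hx)))
    (by
      intro n a b ha hb
      obtain ⟨x, hx, y, hy, rfl⟩ := Submodule.mem_sup.mp ha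
      obtain ⟨x', hx', y', hy', rfl⟩ := Submodule.mem_sup.mp hb
      have e : x + y + (x' + y') = (x + x') + (y + y') := by ring
      rw [e, key (I.add_mem hx hx') (J.add_mem hy hy')]
      have e2 : γ.exp (x + x') * δ.exp (y + y') = (γ.exp x * δ.exp y) * (γ.exp x' * δ.exp y') := by
        rw [γ.exp_add hx hx', δ.exp_add hy hy']; ring
      rw [e2, PowerSeries.coeff_mul]
      refine Finset.sum_congr rfl fun k _ => ?_
      rw [key hx hy, key hx' hy'])
    (by
      intro n c a ha
      obtain ⟨x, hx, y, hy, rfl⟩ := Submodule.mem_sup.mp ha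
      rw [mul_add, key (I.mul_mem_left c hx) (J.mul_mem_left c hy), key hx hy,
        PowerSeries.coeff_mul, PowerSeries.coeff_mul, Finset.mul_sum]
      refine Finset.sum_congr rfl fun k hk => ?_
      rw [Finset.mem_antidiagonal] at hk
      simp only [DividedPowers.exp, PowerSeries.coeff_mk]
      rw [γ.dpow_mul hx, δ.dpow_mul hy, ← hk, pow_add]
      ring)
    (by
      rintro m n x (hx | hx)
      · rw [onI _ _ hx, onI _ _ hx, onI _ _ hx, γ.mul_dpow hx]
      · rw [onJ _ _ hx, onJ _ _ hx, onJ _ _ hx, δ.mul_dpow hx])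
    (by
      rintro m n x hn (hx | hx)
      · rw [onI _ _ hx, onI _ _ hx, onI _ _ (γ.dpow_mem hn hx), γ.dpow_comp hn hx]
      · rw [onJ _ _ hx, onJ _ _ hx, onJ _ _ (δ.dpow_mem hn hx), δ.dpow_comp hn hx])
  refine ⟨ε, ⟨fun n x hx => ?_, fun n x hx => ?_⟩, ?_⟩
  · rw [hε]; exact onI n x hx
  · rw [hε]; exact onJ n x hx
  · rintro ε' ⟨h1, h2⟩
    refine DividedPowers.ext _ _ fun n a ha => ?_
    obtain ⟨x, hx, y, hy, rfl⟩ := Submodule.mem_sup.mp ha
    rw [ε'.dpow_add (Ideal.mem_sup_left hx) (Ideal.mem_sup_right hy),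
      ε.dpow_add (Ideal.mem_sup_left hx) (Ideal.mem_sup_right hy)]
    refine Finset.sum_congr rfl fun k _ => ?_
    rw [h1 _ _ hx, h2 _ _ hy, hε, onI _ _ hx, onJ _ _ hy]

end Groth.Agent.S2191
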