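import Groth.Statements.S2193
import Groth.Agent.S2192
import Mathlib.RingTheory.Flat.Basic
import Mathlib.RingTheory.DividedPowers.DPMorphism

set_option autoImplicit false
universe u v
open DPow

namespace Groth.Agent.S2193

open TensorProduct Finset

variable {A : Type u} {B : Type v} [CommRing A] [CommRing B] [Algebra A B]
    {I : Ideal A} (γ : DividedPowers I)

variable (B) in
/-- the exponential series of `b ⊗ x` -/
noncomputable def Es (b : B) (x : I) : PowerSeries B :=
  PowerSeries.mk fun n => b ^ n * algebraMap A B (γ.dpow n x)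

theorem Es_add_left (b b' : B) (x : I) : Es B γ (b + b') x = Es B γ b x * Es B γ b' x := by
  ext n
  rw [PowerSeries.coeff_mul]
  simp only [Es, PowerSeries.coeff_mk]
  rw [Commute.add_pow' (Commute.all b b'), sum_mul]
  refine sum_congr rfl fun k hk => ?_
  rw [mem_antidiagonal] at hk
  have := γ.mul_dpow (m := k.1) (n := k.2) x.2
  have h2 : algebraMap A B (γ.dpow k.1 x) * algebraMap A B (γ.dpow k.2 x) =
      (n.choose k.1 : B) * algebraMap A B (γ.dpow n x) := by
    rw [← map_mul, this, map_mul, map_natCast, hk]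
  calc n.choose k.1 • (b ^ k.1 * b' ^ k.2) * algebraMap A B (γ.dpow n x) =
      b ^ k.1 * b' ^ k.2 * ((n.choose k.1 : B) * algebraMap A B (γ.dpow n x)) := by
        rw [nsmul_eq_mul]; ring
    _ = _ := by rw [← h2]; ring

theorem Es_add_right (b : B) (x x' : I) : Es B γ b (x + x') = Es B γ b x * Es B γ b x' := by
  ext n
  rw [PowerSeries.coeff_mul]
  simp only [Es, PowerSeries.coeff_mk, Submodule.coe_add]
  rw [γ.dpow_add x.2 x'.2, map_sum, mul_sum]
  refine sum_congr rfl fun k hk => ?_
  rw [mem_antidiagonal] at hk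
  rw [map_mul, ← hk, pow_add]
  ring

theorem Es_zero_right (b : B) : Es B γ b 0 = 1 := by
  ext n
  simp only [Es, PowerSeries.coeff_mk, Submodule.coe_zero, PowerSeries.coeff_one]
  split_ifs with h
  · rw [h, γ.dpow_zero I.zero_mem]; simp
  · rw [γ.dpow_eval_zero h]; simp

theorem Es_zero_left (x : I) : Es B γ 0 x = 1 := by
  ext n
  simp only [Es, PowerSeries.coeff_mk, PowerSeries.coeff_one]
  split_ifs with h
  · rw [h, γ.dpow_zero x.2]; simp
  · rw [zero_pow h]; simp

theorem Es_smul (a : A) (b : B) (x : I) : Es B γ (a • b) x = Es B γ b (a • x) := by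
  ext n
  simp only [Es, PowerSeries.coeff_mk, Submodule.coe_smul, smul_eq_mul]
  rw [γ.dpow_mul x.2, map_mul, Algebra.smul_def, map_pow, mul_pow]
  ring

variable (B) in
/-- the exponential map on the tensor product -/
noncomputable def E : (B ⊗[A] I) →+ Additive (PowerSeries B) :=
  TensorProduct.liftAddHom
    { toFun := fun b =>
        { toFun := fun x => Additive.ofMul (Es B γ b x)
          map_zero' := by rw [Es_zero_right]; rfl
          map_add' := fun x y => by rw [Es_add_right]; rfl }
      map_zero' := by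
        refine AddMonoidHom.ext fun x => ?_
        change Additive.ofMul (Es B γ 0 x) = _
        rw [Es_zero_left]; rfl
      map_add' := fun b b' => by
        refine AddMonoidHom.ext fun x => ?_
        change Additive.ofMul (Es B γ (b + b') x) = _
        rw [Es_add_left]; rfl }
    (fun a b x => by
      change Additive.ofMul (Es B γ (a • b) x) = Additive.ofMul (Es B γ b (a • x))
      rw [Es_smul])

variable (B) in
/-- the divided powers on the tensor product -/
noncomputable def D (n : ℕ) (z : B ⊗[A] I) : B := PowerSeries.coeff n (E B γ z).toMul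

theorem D_tmul (n : ℕ) (b : B) (x : I) : D B γ n (b ⊗ₜ x) = b ^ n * algebraMap A B (γ.dpow n x) := by
  change PowerSeries.coeff n (Es B γ b x) = _
  simp [Es]

theorem D_add (n : ℕ) (z w : B ⊗[A] I) : D B γ n (z + w) =
    ∑ k ∈ antidiagonal n, D B γ k.1 z * D B γ k.2 w := by
  unfold D
  rw [map_add, toMul_add, PowerSeries.coeff_mul]

theorem D_zero (z : B ⊗[A] I) : D B γ 0 z = 1 := by
  induction z with
  | zero => simp [D]
  | tmul b x => rw [D_tmul, γ.dpow_zero x.2]; simp
  | add z w hz hw => rw [D_add]; simp [hz, hw]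

theorem D_eval_zero {n : ℕ} (hn : n ≠ 0) : D B γ n 0 = 0 := by
  simp [D, PowerSeries.coeff_one, hn]

variable (A B I) in
/-- the multiplication map -/
noncomputable def mu : (B ⊗[A] I) →ₗ[A] B :=
  (TensorProduct.rid A B).toLinearMap ∘ₗ LinearMap.lTensor B I.subtype

theorem mu_tmul (b : B) (x : I) : mu A B I (b ⊗ₜ x) = b * algebraMap A B x := by
  simp [mu, Algebra.smul_def, mul_comm]

theorem mu_smul (b : B) (z : B ⊗[A] I) : mu A B I (b • z) = b * mu A B I z := by
  induction z with
  | zero => simp
  | tmul c x => rw [TensorProduct.smul_tmul', mu_tmul, mu_tmul, smul_eq_mul, mul_assoc]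
  | add z w hz hw => rw [smul_add, map_add, map_add, hz, hw, mul_add]

theorem mu_mem (z : B ⊗[A] I) : mu A B I z ∈ I.map (algebraMap A B) := by
  induction z with
  | zero => simp
  | tmul c x => rw [mu_tmul]; exact Ideal.mul_mem_left _ _ (Ideal.mem_map_of_mem _ x.2)
  | add z w hz hw => rw [map_add]; exact add_mem hz hw

theorem exists_mu {y : B} (hy : y ∈ I.map (algebraMap A B)) : ∃ z, mu A B I z = y := by
  unfold Ideal.map at hy
  induction hy using Submodule.span_induction with
  | mem y hy =>
    obtain ⟨x, hx, rfl⟩ := hy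
    exact ⟨1 ⊗ₜ ⟨x, hx⟩, by rw [mu_tmul]; simp⟩
  | zero => exact ⟨0, map_zero _⟩
  | add x y _ _ h1 h2 =>
    obtain ⟨z, rfl⟩ := h1
    obtain ⟨w, rfl⟩ := h2
    exact ⟨z + w, map_add _ _ _⟩
  | smul a x _ h =>
    obtain ⟨z, rfl⟩ := h
    exact ⟨a • z, mu_smul _ _⟩

theorem D_one (z : B ⊗[A] I) : D B γ 1 z = mu A B I z := by
  induction z with
  | zero => rw [D_eval_zero γ one_ne_zero, map_zero]
  | tmul c x => rw [D_tmul, mu_tmul, γ.dpow_one x.2, pow_one]
  | add z w hz hw =>
    rw [D_add, map_add, ← hz, ← hw]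
    simp [Nat.antidiagonal_succ, D_zero, add_comm]

theorem D_smul (n : ℕ) (b : B) (z : B ⊗[A] I) : D B γ n (b • z) = b ^ n * D B γ n z := by
  induction z generalizing n with
  | zero =>
    rw [smul_zero]
    by_cases hn : n = 0
    · rw [hn]; simp
    · rw [D_eval_zero γ hn, mul_zero]
  | tmul c x => rw [TensorProduct.smul_tmul', D_tmul, D_tmul, smul_eq_mul, mul_pow, mul_assoc]
  | add z w hz hw =>
    rw [smul_add, D_add, D_add, mul_sum]
    refine sum_congr rfl fun k hk => ?_
    rw [mem_antidiagonal] at hk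
    rw [hz, hw, ← hk, pow_add]
    ring

theorem D_mem {n : ℕ} (hn : n ≠ 0) (z : B ⊗[A] I) : D B γ n z ∈ I.map (algebraMap A B) := by
  induction z generalizing n with
  | zero => rw [D_eval_zero γ hn]; exact Submodule.zero_mem _
  | tmul c x =>
    rw [D_tmul]
    exact Ideal.mul_mem_left _ _ (Ideal.mem_map_of_mem _ (γ.dpow_mem hn x.2))
  | add z w hz hw =>
    rw [D_add]
    refine sum_mem fun k hk => ?_
    rw [mem_antidiagonal] at hk
    by_cases h0 : k.1 = 0
    · exact Ideal.mul_mem_left _ _ (hw (by omega))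
    · exact Ideal.mul_mem_right _ _ (hz h0)

theorem mu_injective [Module.Flat A B] : Function.Injective (mu A B I) := by
  unfold mu
  rw [LinearMap.coe_comp]
  exact (TensorProduct.rid A B).injective.comp
    (Module.Flat.lTensor_preserves_injective_linearMap _ Subtype.val_injective)

theorem exists_of_flat [Module.Flat A B] :
    ∃ δ : DividedPowers (I.map (algebraMap A B)), γ.IsDPMorphism δ (algebraMap A B) := by
  classical
  let d : ℕ → B → B := fun n y => if hy : y ∈ I.map (algebraMap A B) then
    D B γ n (exists_mu hy).choose else 0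
  have hd : ∀ (n : ℕ) (z : B ⊗[A] I), d n (mu A B I z) = D B γ n z := fun n z => by
    simp only [d]
    rw [dif_pos (mu_mem z)]
    congr 1
    exact mu_injective (exists_mu (mu_mem z)).choose_spec
  have hdx : ∀ (n : ℕ) (x : A), x ∈ I → d n (algebraMap A B x) = algebraMap A B (γ.dpow n x) := by
    intro n x hx
    have : algebraMap A B x = mu A B I (1 ⊗ₜ ⟨x, hx⟩) := by rw [mu_tmul, one_mul]
    rw [this, hd, D_tmul, one_pow, one_mul]
  obtain ⟨δ, hδ⟩ := Groth.Agent.S2192.result (I.map (algebraMap A B)) (algebraMap A B '' I) rfl d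
    (fun n x hx => dif_neg hx)
    (fun x hx => by
      obtain ⟨z, rfl⟩ := exists_mu hx
      rw [hd, D_zero])
    (fun x hx => by
      obtain ⟨z, rfl⟩ := exists_mu hx
      rw [hd, D_one])
    (fun n x hn hx => by
      obtain ⟨z, rfl⟩ := exists_mu hx
      rw [hd]
      exact D_mem γ hn z)
    (fun n x y hx hy => by
      obtain ⟨z, rfl⟩ := exists_mu hx
      obtain ⟨w, rfl⟩ := exists_mu hy
      rw [← map_add, hd, D_add]
      exact sum_congr rfl fun k _ => by rw [hd, hd])
    (fun n a x hx => by
      obtain ⟨z, rfl⟩ := exists_mu hx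
      rw [← mu_smul, hd, hd, D_smul])
    (by
      rintro m n _ ⟨x, hx, rfl⟩
      rw [hdx _ _ hx, hdx _ _ hx, hdx _ _ hx, ← map_mul, γ.mul_dpow hx, map_mul, map_natCast])
    (by
      rintro m n _ hn ⟨x, hx, rfl⟩
      rw [hdx _ _ hx, hdx _ _ hx, hdx _ _ (γ.dpow_mem hn hx), γ.dpow_comp hn hx, map_mul,
        map_natCast])
  refine ⟨δ, le_rfl, fun a ha => ?_⟩
  rw [hδ]
  exact hdx _ a ha

/-- Stacks Tag 07H1. Uniqueness in general and existence in case (3): let I be an ideal of A with a divided power
structure and B an A-algebra. There is at most one divided power structure on the ideal I B for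
which A -> B is a homomorphism of divided power rings, and if B is flat over A there is one. -/
theorem result {A : Type u} {B : Type v} [CommRing A] [CommRing B] [Algebra A B]
    {I : Ideal A} (γ : DividedPowers I) :
    (∀ δ δ' : DividedPowers (I.map (algebraMap A B)),
        γ.IsDPMorphism δ (algebraMap A B) → γ.IsDPMorphism δ' (algebraMap A B) → δ = δ') ∧
      (Module.Flat A B →
        ∃ δ : DividedPowers (I.map (algebraMap A B)), γ.IsDPMorphism δ (algebraMap A B)) := by
  refine ⟨fun δ δ' h h' => ?_, fun _ => exists_of_flat γ⟩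
  refine (DividedPowers.dpow_eq_from_gens δ δ' (S := algebraMap A B '' I) rfl ?_).symm
  rintro n _ ⟨x, hx, rfl⟩
  rw [h.dpow_comp x hx, h'.dpow_comp x hx]

end Groth.Agent.S2193
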