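import Groth.Statements.S2194
import Mathlib.Algebra.MvPolynomial.Eval
import Mathlib.RingTheory.DividedPowers.DPMorphism
import Mathlib.RingTheory.Ideal.Quotient.Operations

set_option autoImplicit false
universe u
open DPow

namespace Groth.Agent.S2194

section Envelope

variable {A B : Type u} [CommRing A] [CommRing B] [Algebra A B] {I : Ideal A}
    (γ : DividedPowers I) (J : Ideal B)

/-- A divided power test object under `(A, I)` and `(B, J)`. -/
structure Test where
  /-- the ring -/
  C : Type u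
  [instR : CommRing C]
  [instA : Algebra A C]
  /-- the ideal -/
  K : Ideal C
  /-- the divided powers -/
  δ : DividedPowers K
  hδ : γ.IsDPMorphism δ (algebraMap A C)
  /-- the map from `B` -/
  ψ : B →ₐ[A] C
  hψ : J.map ψ ≤ K

attribute [instance] Test.instR Test.instA

/-- the free ring on divided power symbols -/
abbrev T : Type u := MvPolynomial (ℕ × J) B

variable {γ J}

/-- evaluation of the symbols in a test object -/
noncomputable def ev (t : Test γ J) : T J →+* t.C :=
  MvPolynomial.eval₂Hom (t.ψ : B →+* t.C) (fun p => t.δ.dpow p.1 (t.ψ p.2))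

variable (γ J)

/-- the relations that hold in all test objects -/
noncomputable def N : Ideal (T J) := ⨅ t : Test γ J, RingHom.ker (ev t)

/-- the envelope -/
abbrev D : Type u := T J ⧸ N γ J

variable {γ J}

/-- the evaluation map on the envelope -/
noncomputable def evD (t : Test γ J) : D γ J →+* t.C :=
  Ideal.Quotient.lift (N γ J) (ev t) (fun x hx => by
    have h : x ∈ RingHom.ker (ev t) := (iInf_le (fun t : Test γ J => RingHom.ker (ev t)) t) hx
    exact h)

theorem evD_mk (t : Test γ J) (x : T J) : evD t (Ideal.Quotient.mk _ x) = ev t x := rfl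

theorem D_ext {x y : D γ J} (h : ∀ t : Test γ J, evD t x = evD t y) : x = y := by
  obtain ⟨x, rfl⟩ := Ideal.Quotient.mk_surjective x
  obtain ⟨y, rfl⟩ := Ideal.Quotient.mk_surjective y
  rw [Ideal.Quotient.eq]
  unfold N
  rw [Ideal.mem_iInf]
  intro t
  rw [RingHom.mem_ker, map_sub, sub_eq_zero]
  exact h t

variable (γ J)

/-- the divided power symbol -/
noncomputable def sym (n : ℕ) (f : J) : D γ J :=
  Ideal.Quotient.mk (N γ J) (MvPolynomial.X (n, f))

/-- the ideal of the envelope -/
noncomputable def JD : Ideal (D γ J) := Ideal.span (Set.range fun p : ℕ × J => sym γ J (p.1 + 1) p.2)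

variable {γ J}

theorem evD_sym (t : Test γ J) (n : ℕ) (f : J) : evD t (sym γ J n f) = t.δ.dpow n (t.ψ f) := by
  unfold sym
  rw [evD_mk]
  simp [ev]

theorem evD_algebraMap (t : Test γ J) (b : B) : evD t (algebraMap B (D γ J) b) = t.ψ b := by
  have : algebraMap B (D γ J) b = Ideal.Quotient.mk (N γ J) (MvPolynomial.C b) := rfl
  rw [this, evD_mk]
  simp [ev]

theorem psi_mem (t : Test γ J) (f : B) (hf : f ∈ J) : t.ψ f ∈ t.K :=
  t.hψ (Ideal.mem_map_of_mem _ hf)

theorem sym_one (f : J) : sym γ J 1 f = algebraMap B (D γ J) f := by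
  apply D_ext
  intro t
  rw [evD_sym, evD_algebraMap, t.δ.dpow_one (psi_mem t _ f.2)]

theorem sym_mem {n : ℕ} (hn : n ≠ 0) (f : J) : sym γ J n f ∈ JD γ J := by
  obtain ⟨m, rfl⟩ := Nat.exists_eq_succ_of_ne_zero hn
  exact Ideal.subset_span ⟨(m, f), rfl⟩

theorem algebraMap_mem {f : B} (hf : f ∈ J) : algebraMap B (D γ J) f ∈ JD γ J := by
  have := sym_one (γ := γ) (⟨f, hf⟩ : J)
  rw [← this]
  exact sym_mem one_ne_zero _

theorem evD_mem (t : Test γ J) {x : D γ J} (hx : x ∈ JD γ J) : evD t x ∈ t.K := by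
  have : JD γ J ≤ Ideal.comap (evD t) t.K := by
    unfold JD
    rw [Ideal.span_le]
    rintro _ ⟨p, rfl⟩
    simp only [SetLike.mem_coe, Ideal.mem_comap]
    rw [evD_sym]
    exact t.δ.dpow_mem (by omega) (psi_mem t _ p.2.2)
  exact this hx

theorem exists_dpow {x : D γ J} (hx : x ∈ JD γ J) : ∀ n : ℕ,
    ∃ y : D γ J, (∀ t : Test γ J, evD t y = t.δ.dpow n (evD t x)) ∧ (n ≠ 0 → y ∈ JD γ J) := by
  unfold JD at hx
  induction hx using Submodule.span_induction with
  | mem x hx =>
    obtain ⟨⟨m, f⟩, rfl⟩ := hx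
    intro n
    refine ⟨(Nat.uniformBell n (m + 1) : D γ J) * sym γ J (n * (m + 1)) f, fun t => ?_, fun hn => ?_⟩
    · rw [map_mul, evD_sym, evD_sym, map_natCast,
        t.δ.dpow_comp (by omega) (psi_mem t _ f.2)]
    · exact Ideal.mul_mem_left _ _ (sym_mem (Nat.mul_ne_zero hn (by omega)) f)
  | zero =>
    intro n
    by_cases hn : n = 0
    · refine ⟨1, fun t => ?_, fun h => (h hn).elim⟩
      rw [map_one, map_zero, hn, t.δ.dpow_zero t.K.zero_mem]
    · refine ⟨0, fun t => ?_, fun _ => Submodule.zero_mem _⟩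
      rw [map_zero, t.δ.dpow_eval_zero hn]
  | add x y hx hy h1 h2 =>
    intro n
    choose y1 hy1 hy1' using h1
    choose y2 hy2 hy2' using h2
    refine ⟨(Finset.antidiagonal n).sum fun k => y1 k.1 * y2 k.2, fun t => ?_, fun hn => ?_⟩
    · rw [map_add, t.δ.dpow_add (evD_mem t hx) (evD_mem t hy), map_sum]
      refine Finset.sum_congr rfl fun k _ => ?_
      rw [map_mul, hy1, hy2]
    · refine Submodule.sum_mem _ fun k hk => ?_
      rw [Finset.mem_antidiagonal] at hk
      by_cases h0 : k.1 = 0
      · exact Ideal.mul_mem_left _ _ (hy2' _ (by omega))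
      · exact Ideal.mul_mem_right _ _ (hy1' _ h0)
  | smul a x hx h =>
    intro n
    obtain ⟨y, hy, hy'⟩ := h n
    refine ⟨a ^ n * y, fun t => ?_, fun hn => Ideal.mul_mem_left _ _ (hy' hn)⟩
    rw [smul_eq_mul, map_mul, map_mul, map_pow, t.δ.dpow_mul (evD_mem t hx), hy]

open Classical in
/-- the divided powers on the envelope -/
noncomputable def dp (n : ℕ) (x : D γ J) : D γ J :=
  if hx : x ∈ JD γ J then (exists_dpow hx n).choose else 0

theorem evD_dp (t : Test γ J) (n : ℕ) {x : D γ J} (hx : x ∈ JD γ J) :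
    evD t (dp n x) = t.δ.dpow n (evD t x) := by
  unfold dp
  rw [dif_pos hx]
  exact (exists_dpow hx n).choose_spec.1 t

theorem dp_mem {n : ℕ} (hn : n ≠ 0) {x : D γ J} (hx : x ∈ JD γ J) : dp n x ∈ JD γ J := by
  unfold dp
  rw [dif_pos hx]
  exact (exists_dpow hx n).choose_spec.2 hn

variable (γ J)

/-- the divided power structure of the envelope -/
noncomputable def γD : DividedPowers (JD γ J) where
  dpow := dp
  dpow_null hx := by unfold dp; rw [dif_neg hx]
  dpow_zero hx := D_ext fun t => by
    rw [evD_dp t _ hx, t.δ.dpow_zero (evD_mem t hx), map_one]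
  dpow_one hx := D_ext fun t => by
    rw [evD_dp t _ hx, t.δ.dpow_one (evD_mem t hx)]
  dpow_mem hn hx := dp_mem hn hx
  dpow_add hx hy := D_ext fun t => by
    rw [evD_dp t _ (Submodule.add_mem _ hx hy), map_add, t.δ.dpow_add (evD_mem t hx) (evD_mem t hy),
      map_sum]
    refine Finset.sum_congr rfl fun k _ => ?_
    rw [map_mul, evD_dp t _ hx, evD_dp t _ hy]
  dpow_mul hx := D_ext fun t => by
    rw [evD_dp t _ (Ideal.mul_mem_left _ _ hx), map_mul, map_mul, map_pow,
      t.δ.dpow_mul (evD_mem t hx), evD_dp t _ hx]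
  mul_dpow hx := D_ext fun t => by
    rw [map_mul, evD_dp t _ hx, evD_dp t _ hx, t.δ.mul_dpow (evD_mem t hx), map_mul,
      map_natCast, evD_dp t _ hx]
  dpow_comp hn hx := D_ext fun t => by
    rw [evD_dp t _ (dp_mem hn hx), evD_dp t _ hx, t.δ.dpow_comp hn (evD_mem t hx), map_mul,
      map_natCast, evD_dp t _ hx]

theorem γD_sym (n : ℕ) (f : J) : (γD γ J).dpow n (algebraMap B (D γ J) f) = sym γ J n f :=
  D_ext fun t => by
    change evD t (dp n _) = _
    rw [evD_dp t _ (algebraMap_mem f.2), evD_sym, evD_algebraMap]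

theorem isDPMorphism_evD (t : Test γ J) : (γD γ J).IsDPMorphism t.δ (evD t) := by
  refine ⟨?_, fun x hx => ?_⟩
  · rw [Ideal.map_le_iff_le_comap]
    exact fun x hx => evD_mem t hx
  · exact (evD_dp t _ hx).symm

end Envelope

/-- Stacks Tag 07H8. Let (A, I) be a ring with a divided power structure on I, B an A-algebra and J an ideal of B
containing I B. Then there is a divided power ring (D, J') with a ring map B -> D carrying J into
J' whose composite with A -> B is a homomorphism of divided power rings, universal for such data: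
for every divided power ring (C, K) with a divided power homomorphism A -> C and every A-algebra
map B -> C carrying J into K there is exactly one divided power homomorphism D -> C compatible
with the maps from B. -/
theorem result {A B : Type u} [CommRing A] [CommRing B] [Algebra A B] {I : Ideal A}
    (γ : DividedPowers I) (J : Ideal B) (hIJ : I.map (algebraMap A B) ≤ J) :
    ∃ (D : Type u) (_ : CommRing D) (_ : Algebra B D) (JD : Ideal D) (γD : DividedPowers JD),
      J.map (algebraMap B D) ≤ JD ∧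
      γ.IsDPMorphism γD ((algebraMap B D).comp (algebraMap A B)) ∧
      ∀ (C : Type u) [CommRing C] [Algebra A C] (K : Ideal C) (δ : DividedPowers K),
        γ.IsDPMorphism δ (algebraMap A C) →
        ∀ ψ : B →ₐ[A] C, J.map ψ ≤ K →
          ∃! χ : D →+* C, χ.comp (algebraMap B D) = ψ ∧ γD.IsDPMorphism δ χ := by
  have hI : ∀ a ∈ I, algebraMap A B a ∈ J := fun a ha => hIJ (Ideal.mem_map_of_mem _ ha)
  refine ⟨D γ J, inferInstance, inferInstance, JD γ J, γD γ J, ?_, ⟨?_, ?_⟩, ?_⟩
  · rw [Ideal.map_le_iff_le_comap]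
    exact fun x hx => algebraMap_mem hx
  · rw [Ideal.map_le_iff_le_comap]
    exact fun x hx => algebraMap_mem (hI x hx)
  · intro n a ha
    apply D_ext
    intro t
    change evD t (dp n (algebraMap B (D γ J) (algebraMap A B a))) =
      evD t (algebraMap B (D γ J) (algebraMap A B (γ.dpow n a)))
    rw [evD_dp t _ (algebraMap_mem (hI a ha)), evD_algebraMap, evD_algebraMap, AlgHom.commutes,
      AlgHom.commutes, t.hδ.dpow_comp a ha]
  · intro C _ _ K δ hδ ψ hψ
    let t : Test γ J := { C := C, K := K, δ := δ, hδ := hδ, ψ := ψ, hψ := hψ }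
    refine ⟨evD t, ⟨?_, isDPMorphism_evD γ J t⟩, ?_⟩
    · ext b
      exact evD_algebraMap t b
    · rintro χ ⟨hχ, hχ'⟩
      have hχ1 : ∀ b : B, χ (algebraMap B (D γ J) b) = ψ b := fun b => by
        rw [← RingHom.comp_apply, hχ]
        rfl
      apply Ideal.Quotient.ringHom_ext
      apply MvPolynomial.ringHom_ext
      · intro b
        exact (hχ1 b).trans (evD_algebraMap t b).symm
      · rintro ⟨n, f⟩
        change χ (sym γ J n f) = evD t (sym γ J n f)
        rw [evD_sym, ← γD_sym, ← hχ'.dpow_comp _ (algebraMap_mem f.2), hχ1]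

end Groth.Agent.S2194
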