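import Groth.Statements.S2197
import Groth.Agent.Models2.NoetherDiff

set_option autoImplicit false
universe u
open Disc

namespace Groth.Agent.S2197

/-- Stacks Tag 0BVM. Part (2): let A -> B be a ring map of finite type and A -> A' a flat ring map, and
let B' = B tensor_A A'. Then the Noether different of B' over A' is the extension to B' of the
Noether different of B over A. -/
theorem result {A B A' B' : Type u} [CommRing A] [CommRing B]
    [CommRing A'] [CommRing B'] [Algebra A B] [Algebra A A'] [Algebra A B'] [Algebra B B']
    [Algebra A' B'] [IsScalarTower A B B'] [IsScalarTower A A' B']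
    [Algebra.IsPushout A B A' B'] [Algebra.FiniteType A B] [Module.Flat A A'] :
    Disc.noetherDifferent A' B' = (Disc.noetherDifferent A B).map (algebraMap B B') :=
  Groth.Agent.Models2.NoetherDiff.noetherDifferent_flat_baseChange

end Groth.Agent.S2197
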