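import Groth.Statements.S2200
import Groth.Agent.Models.TorReg

set_option autoImplicit false
universe u
open LCI

namespace Groth.Agent.S2200

/-- Stacks Tag 09PW. Let (A, m) be a Noetherian local ring and I, J proper ideals with I inside J. If J is cut out
by a regular sequence and A/J has finite Tor-dimension as an A/I-module (canonical algebra structure),
then I is cut out by a regular sequence of A and the image of J in A/I by one of A/I. -/
theorem result {A : Type u} [CommRing A] [IsNoetherianRing A] [IsLocalRing A]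
    (I J : Ideal A) (hIJ : I ≤ J) (hJ : J ≠ ⊤) [Algebra (A ⧸ I) (A ⧸ J)]
    [IsScalarTower A (A ⧸ I) (A ⧸ J)] (hfd : DRing.HasFiniteTorDim (A ⧸ I) (A ⧸ J))
    (hJreg : ∃ rs : List A, Ideal.ofList rs = J ∧ RingTheory.Sequence.IsRegular A rs) :
    (∃ rs : List A, Ideal.ofList rs = I ∧ RingTheory.Sequence.IsRegular A rs) ∧
      ∃ rs' : List (A ⧸ I), Ideal.ofList rs' = J.map (Ideal.Quotient.mk I) ∧
        RingTheory.Sequence.IsRegular (A ⧸ I) rs' := by
  exact Groth.Agent.Models.TorReg.regularSeq_of_finiteTorDim I J hIJ hJ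
    (fun x hx hxm => Groth.Agent.Models.TorSyz.mem_of_finiteTorDim I J hIJ hJ hfd x hx hxm) hJreg

end Groth.Agent.S2200
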