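import Groth.Statements.S2203
import Mathlib.CategoryTheory.Center.Linear
import Mathlib.CategoryTheory.Center.Localization
import Mathlib.Algebra.Category.ModuleCat.Basic
import Mathlib.Algebra.Category.ModuleCat.Abelian
import Mathlib.CategoryTheory.Adjunction.Limits
-- import your own Groth.Agent.* helpers here

set_option autoImplicit false
universe u
open CategoryTheory
open QCohCat

namespace Groth.Agent.S2203

/-- A commutative ring is the center of its category of modules. -/
theorem bijective_toCatCenter (A : Type u) [CommRing A] :
    Function.Bijective (Linear.toCatCenter A (ModuleCat.{u} A)) := by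
  constructor
  · intro a b h
    have h1 := congrArg (fun z : CatCenter (ModuleCat.{u} A) => z.app (ModuleCat.of A A)) h
    have h2 := congrArg (fun f : ModuleCat.of A A ⟶ ModuleCat.of A A => f.hom (1 : A)) h1
    have h3 : a • (1 : A) = b • (1 : A) := h2
    simpa using h3
  · intro z
    refine ⟨(z.app (ModuleCat.of A A)).hom (1 : A), ?_⟩
    ext M m
    have h := z.naturality (ModuleCat.ofHom (LinearMap.toSpanSingleton A M m) :
      ModuleCat.of A A ⟶ M)
    have h2 := congrArg (fun f : ModuleCat.of A A ⟶ M => f.hom (1 : A)) h
    simp at h2
    rw [h2]
    rfl

/-- The center of a preadditive category is invariant under equivalence. -/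
theorem nonempty_catCenter_ringEquiv {C D : Type*} [Category C] [Category D] [Preadditive C]
    [Preadditive D] (F : C ≌ D) [F.functor.Additive] :
    Nonempty (CatCenter C ≃+* CatCenter D) := by
  have : F.functor.IsLocalization (MorphismProperty.isomorphisms C) :=
    Functor.IsLocalization.of_isEquivalence F.functor _ le_rfl
  let φ : CatCenter C →+* CatCenter D :=
    CatCenter.localizationRingHom F.functor (MorphismProperty.isomorphisms C)
  refine ⟨RingEquiv.ofBijective φ ⟨?_, ?_⟩⟩
  · intro r s h
    ext X
    apply F.functor.map_injective
    rw [← CatCenter.localization_app r F.functor (MorphismProperty.isomorphisms C) X,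
      ← CatCenter.localization_app s F.functor (MorphismProperty.isomorphisms C) X]
    exact congrArg (fun z : CatCenter D => z.app (F.functor.obj X)) h
  · intro z
    let r : CatCenter C :=
      { app := fun X => F.functor.preimage (z.app (F.functor.obj X))
        naturality := fun X Y f => by
          apply F.functor.map_injective
          simp [z.naturality] }
    refine ⟨r, ?_⟩
    apply CatCenter.ext_of_localization F.functor (MorphismProperty.isomorphisms C)
    intro X
    refine (CatCenter.localization_app r F.functor (MorphismProperty.isomorphisms C) X).trans ?_
    exact F.functor.map_preimage _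

/-- Stacks Tag 0GP0. Ring-isomorphism part of the statement: let A and B be commutative rings whose
categories of modules are equivalent. Then A and B are isomorphic as rings. (The source moreover
describes the equivalence as base change followed by tensoring with an invertible module.) -/
theorem result (A B : Type u) [CommRing A] [CommRing B]
    (F : ModuleCat.{u} A ≌ ModuleCat.{u} B) : Nonempty (A ≃+* B) := by
  have : F.functor.Additive := F.functor.additive_of_preserves_binary_products
  obtain ⟨e⟩ := nonempty_catCenter_ringEquiv F
  exact ⟨((RingEquiv.ofBijective _ (bijective_toCatCenter A)).trans e).trans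
    (RingEquiv.ofBijective _ (bijective_toCatCenter B)).symm⟩

end Groth.Agent.S2203
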