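import Groth.Statements.S2204
import Mathlib.Algebra.Category.ModuleCat.Abelian
import Mathlib.Algebra.Homology.ShortComplex.ExactFunctor
import Mathlib.Algebra.Homology.ShortComplex.ModuleCat
import Mathlib.CategoryTheory.Limits.Preserves.Shapes.Products
import Mathlib.LinearAlgebra.DirectSum.Finsupp
import Mathlib.LinearAlgebra.TensorProduct.RightExactness
import Mathlib.CategoryTheory.Adjunction.Limits
-- import your own Groth.Agent.* helpers here

set_option autoImplicit false
universe u
open CategoryTheory CategoryTheory.Limits TensorProduct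
open QCohCat

namespace Groth.Agent.S2204

section

variable {A B : Type u} [CommRing A] [CommRing B] (F : ModuleCat.{u} A ⥤ ModuleCat.{u} B)

/-- The value `F(A)`. -/
def KK : Type u := F.obj (ModuleCat.of A A)

noncomputable instance : AddCommGroup (KK F) :=
  inferInstanceAs (AddCommGroup (F.obj (ModuleCat.of A A)))

noncomputable instance : Module B (KK F) :=
  inferInstanceAs (Module B (F.obj (ModuleCat.of A A)))

/-- The functoriality on elements. -/
noncomputable def fmap {M N : Type u} [AddCommGroup M] [Module A M] [AddCommGroup N] [Module A N]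
    (f : M →ₗ[A] N) : F.obj (ModuleCat.of A M) →ₗ[B] F.obj (ModuleCat.of A N) :=
  (F.map (ModuleCat.ofHom f)).hom

variable {M N P : Type u} [AddCommGroup M] [Module A M] [AddCommGroup N] [Module A N]
  [AddCommGroup P] [Module A P]

theorem fmap_id : fmap F (LinearMap.id : M →ₗ[A] M) = LinearMap.id := by
  unfold fmap
  rw [ModuleCat.ofHom_id, F.map_id]
  rfl

theorem fmap_comp (g : N →ₗ[A] P) (f : M →ₗ[A] N) :
    fmap F (g ∘ₗ f) = fmap F g ∘ₗ fmap F f := by
  unfold fmap
  rw [ModuleCat.ofHom_comp, F.map_comp]
  rfl

theorem fmap_comp_apply (g : N →ₗ[A] P) (f : M →ₗ[A] N) (x : F.obj (ModuleCat.of A M)) :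
    fmap F (g ∘ₗ f) x = fmap F g (fmap F f x) := by
  rw [fmap_comp]; rfl

theorem fmap_add [F.Additive] (f g : M →ₗ[A] N) :
    fmap F (f + g) = fmap F f + fmap F g := by
  unfold fmap
  rw [ModuleCat.ofHom_add, F.map_add]
  rfl

theorem fmap_zero [F.Additive] :
    fmap F (0 : M →ₗ[A] N) = 0 := by
  unfold fmap
  rw [ModuleCat.ofHom_zero, F.map_zero]
  rfl

/-- The action of `A` on `F(A)`. -/
noncomputable def actHom [F.Additive] : A →+* Module.End B (KK F) where
  toFun a := fmap F (LinearMap.lsmul A A a)
  map_one' := by
    have : LinearMap.lsmul A A 1 = LinearMap.id := by ext; simp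
    rw [this, fmap_id]; rfl
  map_zero' := by
    rw [map_zero, fmap_zero]
    rfl
  map_mul' a b := by
    have : LinearMap.lsmul A A (a * b) = LinearMap.lsmul A A a ∘ₗ LinearMap.lsmul A A b := by
      ext; simp
    rw [this, fmap_comp]; rfl
  map_add' a b := by
    rw [map_add, fmap_add]
    rfl

noncomputable instance [F.Additive] : Module A (KK F) := Module.compHom (KK F) (actHom F)

/-- `fmap` for maps out of `A`. -/
noncomputable def fmapK (f : A →ₗ[A] M) : KK F →ₗ[B] F.obj (ModuleCat.of A M) := fmap F f

theorem smul_def [F.Additive] (a : A) (x : KK F) :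
    a • x = fmap F (LinearMap.lsmul A A a) x := rfl

instance [F.Additive] : SMulCommClass A B (KK F) where
  smul_comm a b x := by
    rw [smul_def, smul_def]
    exact (fmap F (LinearMap.lsmul A A a)).map_smul b x

variable (M) in
/-- The natural map `F(A) ⊗ M → F(M)`, additively. -/
noncomputable def etaAdd [F.Additive] :
    (KK F) ⊗[A] M →+ F.obj (ModuleCat.of A M) :=
  TensorProduct.liftAddHom
    (AddMonoidHom.mk' (fun k => AddMonoidHom.mk'
        (fun m => fmap F (LinearMap.toSpanSingleton A M m) k) (fun m m' => by
          have : LinearMap.toSpanSingleton A M (m + m') =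
            LinearMap.toSpanSingleton A M m + LinearMap.toSpanSingleton A M m' := by
            ext; simp
          rw [this, fmap_add]; rfl)) (fun k k' => by
          ext m
          exact (fmap F (LinearMap.toSpanSingleton A M m)).map_add k k'))
    (fun a k m => by
      change fmap F (LinearMap.toSpanSingleton A M m) (fmap F (LinearMap.lsmul A A a) k) =
        fmap F (LinearMap.toSpanSingleton A M (a • m)) k
      refine (fmap_comp_apply F _ _ (k : F.obj (ModuleCat.of A A))).symm.trans ?_
      have : LinearMap.toSpanSingleton A M m ∘ₗ LinearMap.lsmul A A a =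
        LinearMap.toSpanSingleton A M (a • m) := by ext; simp
      rw [this])

theorem etaAdd_tmul [F.Additive] (k : KK F) (m : M) :
    etaAdd F M (k ⊗ₜ m) = fmapK F (LinearMap.toSpanSingleton A M m) k := rfl

variable (M) in
/-- The natural map `F(A) ⊗ M → F(M)`. -/
noncomputable def eta [F.Additive] :
    (KK F) ⊗[A] M →ₗ[B] F.obj (ModuleCat.of A M) where
  __ := etaAdd F M
  map_smul' b x := by
    change etaAdd F M (b • x) = b • etaAdd F M x
    induction x using TensorProduct.induction_on with
    | zero => simp
    | add x y hx hy => rw [smul_add, map_add, hx, hy, map_add, smul_add]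
    | tmul k m =>
      rw [TensorProduct.smul_tmul', etaAdd_tmul, etaAdd_tmul]
      exact (fmap F (LinearMap.toSpanSingleton A M m)).map_smul b k

theorem eta_tmul [F.Additive] (k : KK F) (m : M) :
    eta F M (k ⊗ₜ m) = fmapK F (LinearMap.toSpanSingleton A M m) k := rfl

theorem eta_natural [F.Additive] (f : M →ₗ[A] N) (x : (KK F) ⊗[A] M) :
    eta F N (LinearMap.lTensor (KK F) f x) = fmap F f (eta F M x) := by
  induction x using TensorProduct.induction_on with
  | zero => simp
  | add x y hx hy => rw [map_add, map_add, hx, hy, map_add, map_add]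
  | tmul k m =>
    rw [LinearMap.lTensor_tmul, eta_tmul, eta_tmul]
    refine Eq.trans ?_ (fmap_comp_apply F _ _ (k : F.obj (ModuleCat.of A A)))
    have : f ∘ₗ LinearMap.toSpanSingleton A M m =
      LinearMap.toSpanSingleton A N (f m) := by ext; simp
    rw [this]
    rfl

theorem bijective_lsum (J : Type u) [PreservesColimitsOfShape (Discrete J) F] :
    Function.Bijective (Finsupp.lsum B (R := B) (N := F.obj (ModuleCat.of A (J →₀ A)))
      (fun j : J => fmapK F (Finsupp.lsingle j : A →ₗ[A] (J →₀ A)))) := by
  have h1 := isColimitCofanMkObjOfIsColimit F _ _ (ModuleCat.finsuppCoconeIsColimit A A J)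
  have h2 := ModuleCat.finsuppCoconeIsColimit B (KK F) J
  let e := h2.coconePointUniqueUpToIso h1
  have he : e.hom = ModuleCat.ofHom (Finsupp.lsum B (R := B)
      (N := F.obj (ModuleCat.of A (J →₀ A)))
      (fun j : J => fmapK F (Finsupp.lsingle j : A →ₗ[A] (J →₀ A)))) := by
    refine h2.hom_ext ?_
    rintro ⟨j⟩
    rw [h2.comp_coconePointUniqueUpToIso_hom h1]
    ext x
    exact (Finsupp.lsum_single (M := KK F) B
      (fun j : J => fmapK F (Finsupp.lsingle j : A →ₗ[A] (J →₀ A))) j x).symm
  have h3 := (ConcreteCategory.bijective_of_isIso e.hom)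
  rw [he] at h3
  exact h3

theorem bijective_eta_finsupp [F.Additive] (J : Type u)
    [PreservesColimitsOfShape (Discrete J) F] :
    Function.Bijective (eta F (J →₀ A)) := by
  classical
  have h := bijective_lsum F J
  have h' := (TensorProduct.finsuppScalarRight A A (KK F) J).bijective
  have : (eta F (J →₀ A) : _ → _) = (Finsupp.lsum B (R := B)
      (N := F.obj (ModuleCat.of A (J →₀ A)))
      (fun j : J => fmapK F (Finsupp.lsingle j : A →ₗ[A] (J →₀ A)))) ∘
        (TensorProduct.finsuppScalarRight A A (KK F) J) := by
    funext x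
    rw [Function.comp_apply]
    obtain ⟨y, rfl⟩ := (TensorProduct.finsuppScalarRight A A (KK F) J).symm.surjective x
    rw [LinearEquiv.apply_symm_apply]
    induction y using Finsupp.induction_linear with
    | zero => simp
    | add x y hx hy => rw [map_add, map_add, hx, hy, map_add]
    | single j k =>
      rw [TensorProduct.finsuppScalarRight_symm_apply_single, eta_tmul, Finsupp.lsum_single]
      have : LinearMap.toSpanSingleton A (J →₀ A) (Finsupp.single j 1) = Finsupp.lsingle j := by
        ext; simp
      rw [this]
  rw [this]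
  exact h.comp h'

theorem bijective_eta [F.Additive] [PreservesFiniteColimits F]
    (hsum : ∀ J : Type u, PreservesColimitsOfShape (Discrete J) F) :
    Function.Bijective (eta F M) := by
  let p : (M →₀ A) →ₗ[A] M := Finsupp.linearCombination A id
  have hp : Function.Surjective p := Finsupp.linearCombination_id_surjective A M
  let q : (LinearMap.ker p →₀ A) →ₗ[A] (M →₀ A) :=
    (LinearMap.ker p).subtype ∘ₗ (Finsupp.linearCombination A id)
  have hpq : Function.Exact q p := by
    have h1 : Function.Exact (LinearMap.ker p).subtype p := LinearMap.exact_subtype_ker_map p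
    have := Finsupp.linearCombination_id_surjective A (LinearMap.ker p)
    intro x
    rw [h1 x]
    constructor
    · rintro ⟨y, rfl⟩
      obtain ⟨z, rfl⟩ := this y
      exact ⟨z, rfl⟩
    · rintro ⟨z, rfl⟩
      exact ⟨_, rfl⟩
  have := hsum M
  have := hsum (LinearMap.ker p)
  have hb1 := bijective_eta_finsupp F M
  have hb2 := bijective_eta_finsupp F (LinearMap.ker p)
  have hG1 : Function.Exact (LinearMap.lTensor (KK F) q) (LinearMap.lTensor (KK F) p) :=
    lTensor_exact (KK F) hpq hp
  have hG2 : Function.Surjective (LinearMap.lTensor (KK F) p) := LinearMap.lTensor_surjective _ hp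
  let S : ShortComplex (ModuleCat.{u} A) := ShortComplex.mk (ModuleCat.ofHom q) (ModuleCat.ofHom p)
    (by ext x; exact hpq.apply_apply_eq_zero _)
  have hS : S.Exact := (ShortComplex.ShortExact.moduleCat_exact_iff_function_exact S).2 hpq
  have hSe : Epi S.g := (ModuleCat.epi_iff_surjective _).2 hp
  have hF := (Functor.preservesFiniteColimits_tfae F).out 3 1
  obtain ⟨hF1, hF2⟩ := hF.1 inferInstance S ⟨hS, hSe⟩
  have hF3 : Function.Exact (fmap F q) (fmap F p) :=
    (ShortComplex.ShortExact.moduleCat_exact_iff_function_exact _).1 hF1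
  have hF4 : Function.Surjective (fmap F p) := (ModuleCat.epi_iff_surjective _).1 hF2
  constructor
  · rw [injective_iff_map_eq_zero]
    intro x hx
    obtain ⟨w, rfl⟩ := hG2 x
    rw [eta_natural] at hx
    obtain ⟨v, hv⟩ := (hF3 _).1 hx
    obtain ⟨t, rfl⟩ := hb2.2 v
    rw [← eta_natural] at hv
    rw [← hb1.1 hv]
    exact hG1.apply_apply_eq_zero _
  · intro y
    obtain ⟨z, rfl⟩ := hF4 y
    obtain ⟨w, rfl⟩ := hb1.2 z
    exact ⟨LinearMap.lTensor (KK F) p w, eta_natural F p w⟩

end

/-- Stacks Tag 0GNS. The implication (2) to (1): for commutative rings A and B, any functor from A-modules to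
B-modules preserving finite colimits and arbitrary direct sums is given by tensoring: there is a
module K over both A and B with commuting actions and B-linear isomorphisms K tensor_A M = F(M),
natural in the A-module M. -/
theorem result (A B : Type u) [CommRing A]
    [CommRing B] (F : ModuleCat.{u} A ⥤ ModuleCat.{u} B) [PreservesFiniteColimits F]
    (hsum : ∀ J : Type u, PreservesColimitsOfShape (Discrete J) F) :
    ∃ (K : Type u) (_ : AddCommGroup K) (_ : Module A K) (_ : Module B K) (_ : SMulCommClass A B K)
      (η : ∀ M : ModuleCat.{u} A, (K ⊗[A] M) ≃ₗ[B] F.obj M),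
      ∀ (M N : ModuleCat.{u} A) (f : M ⟶ N) (x : K ⊗[A] M),
        η N (LinearMap.lTensor K f.hom x) = F.map f (η M x) := by
  have := preservesBinaryBiproducts_of_preservesBinaryCoproducts F
  have : F.Additive := F.additive_of_preservesBinaryBiproducts
  refine ⟨KK F, inferInstance, inferInstance, inferInstance, inferInstance,
    fun M => LinearEquiv.ofBijective (eta F M) (bijective_eta F hsum), ?_⟩
  intro M N f x
  exact eta_natural F f.hom x

end Groth.Agent.S2204
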