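import Groth.Statements.S2207
-- import your own Groth.Agent.* helpers here

set_option autoImplicit false
universe u v
open DPow

namespace Groth.Agent.S2207

section aux

variable {A : Type u} {B : Type v} [CommRing A] [CommRing B] [Algebra A B]

open Classical in
/-- the extended divided power map. -/
noncomputable def ext (x : A) (γ : DividedPowers (Ideal.span {x})) (n : ℕ) (y : B) : B :=
  if h : ∃ b : B, y = b * algebraMap A B x then
    h.choose ^ n * algebraMap A B (γ.dpow n x) else 0

theorem mem_iff (x : A) (y : B) :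
    y ∈ (Ideal.span {x}).map (algebraMap A B) ↔ ∃ b : B, y = b * algebraMap A B x := by
  rw [Ideal.map_span, Set.image_singleton, Ideal.mem_span_singleton']
  exact ⟨fun ⟨a, h⟩ => ⟨a, h.symm⟩, fun ⟨a, h⟩ => ⟨a, h.symm⟩⟩

theorem ext_mul (x : A) (γ : DividedPowers (Ideal.span {x})) (n : ℕ) (b : B) :
    ext x γ n (b * algebraMap A B x) = b ^ n * algebraMap A B (γ.dpow n x) := by
  have h : ∃ c : B, b * algebraMap A B x = c * algebraMap A B x := ⟨b, rfl⟩
  have hx : x ∈ Ideal.span {x} := Ideal.mem_span_singleton_self x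
  unfold ext
  rw [dif_pos h]
  have hc := h.choose_spec
  set c := h.choose with hcdef
  rcases Nat.eq_zero_or_pos n with rfl | hn
  · simp
  · have h1 : γ.dpow n x ∈ Ideal.span {x} := γ.dpow_mem hn.ne' hx
    obtain ⟨a, ha⟩ := Ideal.mem_span_singleton'.1 h1
    rw [← ha, map_mul]
    have h2 : (c ^ n - b ^ n) * algebraMap A B x = 0 := by
      obtain ⟨e, he⟩ := sub_dvd_pow_sub_pow c b n
      rw [he]
      have : (c - b) * algebraMap A B x = 0 := by rw [sub_mul, ← hc, sub_self]
      calc (c - b) * e * algebraMap A B x = e * ((c - b) * algebraMap A B x) := by ring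
        _ = 0 := by rw [this, mul_zero]
    have h3 : c ^ n * algebraMap A B x = b ^ n * algebraMap A B x := by
      rw [sub_mul] at h2
      exact sub_eq_zero.1 h2
    calc c ^ n * (algebraMap A B a * algebraMap A B x)
        = algebraMap A B a * (c ^ n * algebraMap A B x) := by ring
      _ = algebraMap A B a * (b ^ n * algebraMap A B x) := by rw [h3]
      _ = _ := by ring

/-- The extended structure. -/
noncomputable def extDP (x : A) (γ : DividedPowers (Ideal.span {x})) :
    DividedPowers ((Ideal.span {x}).map (algebraMap A B)) where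
  dpow := ext x γ
  dpow_null {n y} h := by
    unfold ext
    rw [dif_neg]
    rwa [← mem_iff]
  dpow_zero {y} h := by
    obtain ⟨b, rfl⟩ := (mem_iff x y).1 h
    rw [ext_mul, γ.dpow_zero (Ideal.mem_span_singleton_self x)]
    simp
  dpow_one {y} h := by
    obtain ⟨b, rfl⟩ := (mem_iff x y).1 h
    rw [ext_mul, γ.dpow_one (Ideal.mem_span_singleton_self x)]
    simp
  dpow_mem {n y} hn h := by
    obtain ⟨b, rfl⟩ := (mem_iff x y).1 h
    rw [ext_mul]
    exact Ideal.mul_mem_left _ _ (Ideal.mem_map_of_mem _
      (γ.dpow_mem hn (Ideal.mem_span_singleton_self x)))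
  dpow_add {n y z} hy hz := by
    obtain ⟨b, rfl⟩ := (mem_iff x y).1 hy
    obtain ⟨c, rfl⟩ := (mem_iff x z).1 hz
    have hx : x ∈ Ideal.span {x} := Ideal.mem_span_singleton_self x
    rw [← add_mul, ext_mul, Commute.add_pow' (Commute.all b c) n, Finset.sum_mul]
    refine Finset.sum_congr rfl fun k hk => ?_
    rw [ext_mul, ext_mul]
    have h1 := γ.mul_dpow (m := k.1) (n := k.2) hx
    rw [Finset.mem_antidiagonal.1 hk] at h1
    have h2 : algebraMap A B (γ.dpow k.1 x) * algebraMap A B (γ.dpow k.2 x) =
        (n.choose k.1 : B) * algebraMap A B (γ.dpow n x) := by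
      rw [← map_mul, h1, map_mul, map_natCast]
    calc (n.choose k.1) • (b ^ k.1 * c ^ k.2) * algebraMap A B (γ.dpow n x)
        = b ^ k.1 * c ^ k.2 * ((n.choose k.1 : B) * algebraMap A B (γ.dpow n x)) := by
          rw [nsmul_eq_mul]; ring
      _ = b ^ k.1 * c ^ k.2 *
            (algebraMap A B (γ.dpow k.1 x) * algebraMap A B (γ.dpow k.2 x)) := by rw [h2]
      _ = _ := by ring
  dpow_mul {n a y} hy := by
    obtain ⟨b, rfl⟩ := (mem_iff x y).1 hy
    rw [← mul_assoc, ext_mul, ext_mul, mul_pow]
    ring
  mul_dpow {m n y} hy := by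
    obtain ⟨b, rfl⟩ := (mem_iff x y).1 hy
    have hx : x ∈ Ideal.span {x} := Ideal.mem_span_singleton_self x
    rw [ext_mul, ext_mul, ext_mul]
    have h1 := γ.mul_dpow (m := m) (n := n) hx
    have h2 : algebraMap A B (γ.dpow m x) * algebraMap A B (γ.dpow n x) =
        ((m + n).choose m : B) * algebraMap A B (γ.dpow (m + n) x) := by
      rw [← map_mul, h1, map_mul, map_natCast]
    calc b ^ m * algebraMap A B (γ.dpow m x) * (b ^ n * algebraMap A B (γ.dpow n x))
        = b ^ (m + n) * (algebraMap A B (γ.dpow m x) * algebraMap A B (γ.dpow n x)) := by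
          rw [pow_add]; ring
      _ = _ := by rw [h2]; ring
  dpow_comp {m n y} hn hy := by
    obtain ⟨b, rfl⟩ := (mem_iff x y).1 hy
    have hx : x ∈ Ideal.span {x} := Ideal.mem_span_singleton_self x
    rw [ext_mul]
    have h1 : γ.dpow n x ∈ Ideal.span {x} := γ.dpow_mem hn hx
    obtain ⟨a, ha⟩ := Ideal.mem_span_singleton'.1 h1
    have h2 := γ.dpow_comp (m := m) hn hx
    rw [← ha, γ.dpow_mul hx] at h2
    rw [← ha, map_mul, ← mul_assoc, ext_mul, ext_mul]
    have h3 := congrArg (algebraMap A B) h2
    rw [map_mul, map_mul, map_natCast, map_pow] at h3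
    rw [mul_pow, mul_assoc, h3, ← pow_mul, mul_comm n m]
    ring

end aux


/-- Stacks Tag 07H1. Existence in case (2): let I = (x) be a principal ideal of A with a divided power structure and B
any A-algebra. Then there is a divided power structure on I B for which A -> B is a homomorphism of
divided power rings. -/
theorem result {A : Type u} {B : Type v} [CommRing A] [CommRing B] [Algebra A B]
    (x : A) (γ : DividedPowers (Ideal.span {x})) :
    ∃ δ : DividedPowers ((Ideal.span {x}).map (algebraMap A B)), γ.IsDPMorphism δ (algebraMap A B) := by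
  refine ⟨extDP x γ, ⟨le_rfl, ?_⟩⟩
  intro n a ha
  obtain ⟨c, rfl⟩ := Ideal.mem_span_singleton'.1 ha
  change ext x γ n _ = _
  rw [map_mul, ext_mul, γ.dpow_mul (Ideal.mem_span_singleton_self x), map_mul, map_pow]

end Groth.Agent.S2207
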