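import Groth.Statements.S2210
import Groth.Agent.Models2.TateLocal
import Groth.Agent.Models2.CIJac
import Groth.Agent.Models2.CIFlat2

set_option autoImplicit false
universe u
open Disc

namespace Groth.Agent.S2210

open TensorProduct RingTheory.Sequence Groth.Agent.Models2

/-- Stacks Tag 0BWD. Parts (1) (flatness) and (3), in the case h = 1: let A be a ring, n at least 1,
f_1, ..., f_n polynomials in A[x_1, ..., x_n] and B = A[x_1, ..., x_n]/(f_1, ..., f_n). If B is
quasi-finite over A, then B is flat over A and its Noether different over A is the principal ideal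
generated by the image of the Jacobian determinant det(d f_i / d x_j). -/
theorem result {A : Type u} [CommRing A] {n : ℕ}
    (hn : 1 ≤ n) (f : Fin n → MvPolynomial (Fin n) A)
    [Algebra.QuasiFinite A (MvPolynomial (Fin n) A ⧸ Ideal.span (Set.range f))] :
    Module.Flat A (MvPolynomial (Fin n) A ⧸ Ideal.span (Set.range f)) ∧
      Disc.noetherDifferent A (MvPolynomial (Fin n) A ⧸ Ideal.span (Set.range f)) =
        Ideal.span {Ideal.Quotient.mk (Ideal.span (Set.range f))
          (Matrix.det (Matrix.of fun i j => MvPolynomial.pderiv j (f i)))} := by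
  have hflat : Module.Flat A (MvPolynomial (Fin n) A ⧸ Ideal.span (Set.range f)) :=
    CIFlat2.flat_of_quasiFinite f
  refine ⟨hflat, ?_⟩
  have hreg : ∀ (p : Ideal (MvPolynomial (Fin n) A)) [p.IsPrime], Ideal.span (Set.range f) ≤ p →
      IsWeaklyRegular (Localization.AtPrime p) (List.ofFn f) := by
    intro p hp hle
    let q' := p.map (Ideal.Quotient.mk (Ideal.span (Set.range f)))
    have hker : RingHom.ker (Ideal.Quotient.mk (Ideal.span (Set.range f))) ≤ p := by
      rw [Ideal.mk_ker]; exact hle
    have hq' : q'.IsPrime :=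
      Ideal.map_isPrime_of_surjective Ideal.Quotient.mk_surjective hker
    have hcm : p = q'.comap (Ideal.Quotient.mk (Ideal.span (Set.range f))) := by
      rw [Ideal.comap_map_of_surjective' _ Ideal.Quotient.mk_surjective, sup_eq_left.2 hker]
    have h1 := (CIFlat2.main f q' p hcm).1
    have h2 : (List.ofFn fun i => algebraMap _ (Localization.AtPrime p) (f i)) =
        (List.ofFn f).map (algebraMap _ (Localization.AtPrime p)) := by
      rw [List.map_ofFn]
      rfl
    rw [h2, isWeaklyRegular_map_algebraMap_iff] at h1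
    exact h1
  let φ : MvPolynomial (Fin n) A →ₐ[A] (MvPolynomial (Fin n) A ⧸ Ideal.span (Set.range f)) :=
    Ideal.Quotient.mkₐ A _
  obtain ⟨c, hc, hc'⟩ := CIJac.exists_matrix φ f (fun i =>
    Ideal.Quotient.eq_zero_iff_mem.2 (Ideal.subset_span ⟨i, rfl⟩))
  have h1 := CIJac.noetherDifferent_eq φ (Ideal.Quotient.mkₐ_surjective A _) f
    (Ideal.Quotient.mkₐ_ker A _) (CIJac.gen φ) (CIJac.span_gen φ) c hc (fun y hy => by
      have hfl : Module.Flat (MvPolynomial (Fin n) A) (MvPolynomial (Fin n) A ⊗[A]
        (MvPolynomial (Fin n) A ⧸ Ideal.span (Set.range f))) := inferInstance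
      exact TateLocal.tate_local f (fun p _ hp => hreg p hp)
        (CIJac.gen φ) c hc y hy)
  rw [h1]
  congr 2
  rw [RingHom.map_det]
  congr 1
  ext i j
  exact hc' i j

end Groth.Agent.S2210
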