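import Groth.Statements.S2213
import Groth.Agent.S2194
import Mathlib.Algebra.MvPolynomial.Eval

set_option autoImplicit false
universe u
open DPow

namespace Groth.Agent.S2213

/-- Stacks Tag 07H5. Let (A, I) be a ring with divided powers and t a natural number. There is a divided power ring
(D, J) with an A-algebra structure making A -> D a divided power homomorphism and elements
x_1, ..., x_t of J, such that for every divided power ring (C, K) with a divided power
homomorphism A -> C and every choice of k_1, ..., k_t in K there is exactly one divided power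
homomorphism D -> C over A sending x_i to k_i (the divided power polynomial algebra). -/
theorem result {A : Type u} [CommRing A] {I : Ideal A} (γ : DividedPowers I) (t : ℕ) :
    ∃ (D : Type u) (_ : CommRing D) (_ : Algebra A D) (J : Ideal D) (δ : DividedPowers J)
      (x : Fin t → D), (∀ i, x i ∈ J) ∧ γ.IsDPMorphism δ (algebraMap A D) ∧
      ∀ (C : Type u) [CommRing C] [Algebra A C] (K : Ideal C) (ε : DividedPowers K),
        γ.IsDPMorphism ε (algebraMap A C) → ∀ k : Fin t → C, (∀ i, k i ∈ K) →
          ∃! φ : D →ₐ[A] C, (∀ i, φ (x i) = k i) ∧ δ.IsDPMorphism ε φ.toRingHom := by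
  let B := MvPolynomial (Fin t) A
  let J : Ideal B := I.map (algebraMap A B) ⊔ Ideal.span (Set.range (MvPolynomial.X : Fin t → B))
  obtain ⟨D, instR, instA, JD, γD, h1, h2, h3⟩ := Groth.Agent.S2194.result (B := B) γ J le_sup_left
  let instAD : Algebra A D := ((algebraMap B D).comp (algebraMap A B)).toAlgebra
  refine ⟨D, instR, instAD, JD, γD, fun i => algebraMap B D (MvPolynomial.X i), ?_, h2, ?_⟩
  · intro i
    apply h1
    apply Ideal.mem_map_of_mem
    exact Ideal.mem_sup_right (Ideal.subset_span ⟨i, rfl⟩)
  · intro C _ _ K ε hε k hk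
    have hJK : J.map (MvPolynomial.aeval k : B →ₐ[A] C) ≤ K := by
      rw [Ideal.map_le_iff_le_comap]
      apply sup_le
      · rw [Ideal.map_le_iff_le_comap]
        intro a ha
        change (MvPolynomial.aeval k : B →ₐ[A] C) (algebraMap A B a) ∈ K
        rw [AlgHom.commutes]
        exact hε.ideal_comp (Ideal.mem_map_of_mem _ ha)
      · rw [Ideal.span_le]
        rintro _ ⟨i, rfl⟩
        change (MvPolynomial.aeval k : B →ₐ[A] C) (MvPolynomial.X i) ∈ K
        rw [MvPolynomial.aeval_X]
        exact hk i
    obtain ⟨χ, ⟨hχ1, hχ2⟩, hχ3⟩ := h3 C K ε hε (MvPolynomial.aeval k) hJK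
    have hχ1' : ∀ b : B, χ (algebraMap B D b) = MvPolynomial.aeval k b := fun b =>
      RingHom.congr_fun hχ1 b
    let φ : D →ₐ[A] C :=
      { χ with
        commutes' := fun a => by
          change χ (algebraMap B D (algebraMap A B a)) = _
          rw [hχ1', AlgHom.commutes] }
    refine ⟨φ, ⟨fun i => ?_, hχ2⟩, ?_⟩
    · change χ (algebraMap B D (MvPolynomial.X i)) = _
      rw [hχ1', MvPolynomial.aeval_X]
    · rintro φ' ⟨hφ1, hφ2⟩
      have : φ'.toRingHom = χ := by
        apply hχ3
        refine ⟨?_, hφ2⟩
        apply MvPolynomial.ringHom_ext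
        · intro a
          change φ' (algebraMap A D a) = MvPolynomial.aeval k (MvPolynomial.C a)
          rw [AlgHom.commutes, MvPolynomial.aeval_C]
        · intro i
          change φ' (algebraMap B D (MvPolynomial.X i)) = MvPolynomial.aeval k (MvPolynomial.X i)
          rw [hφ1, MvPolynomial.aeval_X]
      ext x
      exact RingHom.congr_fun this x

end Groth.Agent.S2213
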