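import Groth.Statements.S2214
import Groth.Agent.Models2.QCohPush
-- import your own Groth.Agent.* helpers here

set_option autoImplicit false
universe u
open CategoryTheory AlgebraicGeometry
open QCohCat

namespace Groth.Agent.S2214

/-- Stacks Tag 0GPE. For a qcqs scheme X and a quasi-coherent O_X-module F: Hom(F, -) on QCoh(O_X) commutes with
filtered colimits (F is categorically compact) if and only if F is an O_X-module of finite
presentation. -/
theorem result (X : Scheme.{u}) [CompactSpace X]
    [QuasiSeparatedSpace X] (F : QCohCat.QCoh X) :
    IsFinitelyPresentable.{u} F ↔ SheafOfModules.IsFinitePresentation F.obj := by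
  refine ⟨fun h ↦ ?_, fun h ↦ ?_⟩
  · exact Groth.Agent.Models2.QCohPush.isFinitePresentation_of_isFinitelyPresentable F
  · exact Groth.Agent.Models2.FiltHom.isFinitelyPresentable_of_isFinitePresentation F h

end Groth.Agent.S2214
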