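import Groth.Statements.S2216
import Groth.Agent.Models2.DiscDual2

set_option autoImplicit false
universe u v
open Disc

namespace Groth.Agent.S2216

/-- Stacks Tag 0BW8. Affine finite free case: let A be a Noetherian ring, B an A-algebra with a finite A-basis b,
and x an element of the different of B over A (x Hom_A(B, A) inside B Trace). Then the norm of x
lies in the ideal of A generated by the discriminant of the basis b. -/
theorem result {A : Type u} {B : Type v} [CommRing A]
    [CommRing B] [Algebra A B] [IsNoetherianRing A] {ι : Type} [Fintype ι] [DecidableEq ι]
    (b : Module.Basis ι A B) (x : B) (hx : x ∈ Disc.differentSet A B) :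
    Algebra.norm A x ∈ Ideal.span {Algebra.discr A b} := by
  exact Models2.DiscDual2.norm_mem_span_discr b x hx

end Groth.Agent.S2216
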