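import Groth.Statements.S2217
import Groth.Agent.Models2.OmegaFree
import Groth.Agent.Models2.Frobenius

set_option autoImplicit false
universe u
open Disc

namespace Groth.Agent.S2217

open TensorProduct Groth.Agent.Models2

section Field

variable {k C : Type u} [Field k] [CommRing C] [Algebra k C]

theorem isFrob_iff_det_ne_zero {ι : Type*} [Fintype ι] [DecidableEq ι] (b : Module.Basis ι k C)
    (l : Omega k C) (h : Frobenius.IsFrob l.toLinearMap) : (OmegaFree.gram b l).det ≠ 0 := by
  intro h0
  obtain ⟨v, hv0, hv⟩ := Matrix.exists_mulVec_eq_zero_iff.2 h0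
  apply hv0
  have hx : (∑ j, v j • b j) = 0 := by
    apply h
    intro y
    have h1 : (∑ j, v j • b j) • l = 0 := by
      apply Omega.toLinearMap_injective
      apply b.ext
      intro i
      rw [← OmegaFree.gram_mulVec, hv]
      rfl
    have h2 := congrArg (fun t : Omega k C => t.toLinearMap y) h1
    simpa using h2
  have := b.linearIndependent
  rw [Fintype.linearIndependent_iff] at this
  ext j
  exact this v hx j

end Field

section BC

variable {A B : Type u} [CommRing A] [CommRing B] [Algebra A B] (κ : Type u) [Field κ] [Algebra A κ]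

attribute [local instance] Algebra.TensorProduct.rightAlgebra

theorem exists_isFrob_bc [Module.Finite A B] [Module.Free A B]
    [Module.Invertible B (Omega A B)] :
    ∃ l : (κ ⊗[A] B) →ₗ[κ] κ, Frobenius.IsFrob l := by
  let b := Module.Free.chooseBasis A B
  have hfin : Module.Finite κ (κ ⊗[A] B) := inferInstance
  have hart : IsArtinianRing (κ ⊗[A] B) := IsArtinianRing.of_finite κ _
  let _ : Module B (Omega κ (κ ⊗[A] B)) := Module.compHom _ (algebraMap B (κ ⊗[A] B))
  have : IsScalarTower B (κ ⊗[A] B) (Omega κ (κ ⊗[A] B)) :=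
    IsScalarTower.of_algebraMap_smul fun r x => rfl
  let β : Omega A B →ₗ[B] Omega κ (κ ⊗[A] B) :=
    { toFun := OmegaFree.bc κ
      map_add' := OmegaFree.bc_add κ
      map_smul' := OmegaFree.bc_smul κ }
  let Ψ : (κ ⊗[A] B) ⊗[B] (Omega A B) →ₗ[κ ⊗[A] B] Omega κ (κ ⊗[A] B) :=
    LinearMap.liftBaseChange (κ ⊗[A] B) β
  have hinv : Module.Invertible (κ ⊗[A] B) ((κ ⊗[A] B) ⊗[B] (Omega A B)) := inferInstance
  have hfree : Module.Free (κ ⊗[A] B) ((κ ⊗[A] B) ⊗[B] (Omega A B)) := inferInstance
  obtain ⟨e⟩ := Module.Invertible.free_iff_linearEquiv.1 hfree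
  have hsurj : ∀ ψ : Omega κ (κ ⊗[A] B), ∃ z, Ψ z = ψ := by
    intro ψ
    refine ⟨∑ i, (algebraMap κ (κ ⊗[A] B) (ψ.toLinearMap (1 ⊗ₜ b i))) ⊗ₜ OmegaFree.coord b i, ?_⟩
    conv_rhs => rw [OmegaFree.eq_sum_bc κ b ψ]
    rw [map_sum]
    rfl
  refine ⟨(Ψ (e.symm 1)).toLinearMap, Frobenius.isFrob_of_forall_exists fun φ => ?_⟩
  obtain ⟨z, hz⟩ := hsurj ⟨φ⟩
  refine ⟨e z, fun x => ?_⟩
  have h1 : z = e z • e.symm 1 := by
    apply e.injective
    rw [map_smul, LinearEquiv.apply_symm_apply, smul_eq_mul, mul_one]
  rw [h1, map_smul] at hz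
  have h2 := congrArg (fun t : Omega κ (κ ⊗[A] B) => t.toLinearMap x) hz
  simpa using h2.symm

end BC

/-- Stacks Tag 0C16. Equivalence of (2) and (4) in the affine finite free case: let A be a Noetherian ring and B an
A-algebra which is finite free as an A-module (so A -> B is flat and quasi-finite). Then all fibre
rings kappa(p) tensor_A B are Gorenstein if and only if omega_{B/A} = Hom_A(B, A), with its B-module
structure through the argument, is an invertible B-module. -/
theorem result {A B : Type u} [CommRing A] [CommRing B]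
    [Algebra A B] [IsNoetherianRing A] [Module.Finite A B] [Module.Free A B] :
    (∀ (p : Ideal A) [p.IsPrime], LocCoh.IsGorensteinRing (p.Fiber B)) ↔
      Module.Invertible B (Disc.Omega A B) := by
  constructor
  · intro h
    let b := Module.Free.chooseBasis A B
    classical
    apply OmegaFree.invertible_of_end (OmegaFree.exists_smul_of_end b)
    rw [← LinearMap.range_eq_top]
    by_contra hne
    obtain ⟨q, hq, hle⟩ := Ideal.exists_le_maximal _ hne
    let p := q.comap (algebraMap A B)
    have hint : (algebraMap A B).IsIntegral := algebraMap_isIntegral_iff.2 inferInstance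
    have hp : p.IsMaximal := Ideal.isMaximal_comap_of_isIntegral_of_isMaximal' _ hint q
    have hG := h p
    have hfin : Module.Finite p.ResidueField (p.Fiber B) := inferInstance
    obtain ⟨l', hl'⟩ := Frobenius.exists_isFrob_of_isGorensteinRing (k := p.ResidueField)
      (C := p.Fiber B)
    choose a ha using fun i => Ideal.algebraMap_residueField_surjective p (l' (1 ⊗ₜ b i))
    let l : Omega A B := ⟨b.constr A a⟩
    have hl : OmegaFree.bc p.ResidueField l = ⟨l'⟩ := by
      apply Omega.toLinearMap_injective
      apply (Algebra.TensorProduct.basis p.ResidueField b).ext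
      intro i
      rw [Algebra.TensorProduct.basis_apply, OmegaFree.bc_tmul, mul_one]
      simp [l, ha]
    have hdet : (OmegaFree.gram (Algebra.TensorProduct.basis p.ResidueField b)
        (OmegaFree.bc p.ResidueField l)).det ≠ 0 := by
      apply isFrob_iff_det_ne_zero
      rw [hl]
      exact hl'
    rw [OmegaFree.gram_bc, ← RingHom.mapMatrix_apply, ← RingHom.map_det] at hdet
    have hdp : (OmegaFree.gram b l).det ∉ p := by
      intro hmem
      exact hdet (Ideal.algebraMap_residueField_eq_zero.2 hmem)
    have hmem : algebraMap A B ((OmegaFree.gram b l).det ^ 2) ∈ q := by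
      apply hle
      refine ⟨OmegaFree.adjLin b l ⊗ₜ l, ?_⟩
      rw [contractLeft_apply, OmegaFree.adjLin_self]
    exact hdp (hp.isPrime.mem_of_pow_mem 2 hmem)
  · intro h p hp
    obtain ⟨l, hl⟩ := exists_isFrob_bc (A := A) (B := B) p.ResidueField
    have hfin : Module.Finite p.ResidueField (p.Fiber B) := inferInstance
    have hart : IsArtinianRing (p.Fiber B) := IsArtinianRing.of_finite p.ResidueField _
    have := hl.injective
    exact Frobenius.isGorensteinRing_of_injective _

end Groth.Agent.S2217
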