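import Groth.Statements.S2218
import Mathlib.RingTheory.Localization.Integer
import Mathlib.RingTheory.Localization.Module
import Mathlib.RingTheory.Ideal.Over
import Mathlib.RingTheory.Algebraic.Integral
import Mathlib.Algebra.Module.Torsion.Free

set_option autoImplicit false
universe u v
open Disc

namespace Groth.Agent.S2218

/-- A nonzero finite module on which no nonzero scalar has a kernel over a domain has a nonzero
functional. -/
theorem exists_functional_ne_zero {R : Type*} {M : Type*} [CommRing R] [IsDomain R]
    [AddCommGroup M] [Module R M] [Module.Finite R M]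
    (htf : ∀ (r : R) (x : M), r • x = 0 → r = 0 ∨ x = 0) (x : M) (hx : x ≠ 0) :
    ∃ f : M →ₗ[R] R, f ≠ 0 := by
  classical
  let K := FractionRing R
  let L := LocalizedModule (nonZeroDivisors R) M
  let ι : M →ₗ[R] L := LocalizedModule.mkLinearMap (nonZeroDivisors R) M
  have hι : ι x ≠ 0 := by
    intro h
    have h' : ι x = ι 0 := by rw [h, map_zero]
    obtain ⟨c, hc⟩ := (IsLocalizedModule.eq_iff_exists (nonZeroDivisors R) ι).1 h'
    rw [smul_zero] at hc
    rcases htf (c : R) x hc with h1 | h1
    · exact nonZeroDivisors.coe_ne_zero c h1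
    · exact hx h1
  let _ : Module K L := inferInstanceAs (Module (Localization (nonZeroDivisors R)) L)
  have : IsScalarTower R K L :=
    inferInstanceAs (IsScalarTower R (Localization (nonZeroDivisors R)) L)
  obtain ⟨g, hg⟩ : ∃ g : L →ₗ[K] K, g (ι x) ≠ 0 := by
    by_contra hcon
    push Not at hcon
    exact hι ((Module.forall_dual_apply_eq_zero_iff K (ι x)).1 hcon)
  obtain ⟨s, hs⟩ := Module.Finite.fg_top (R := R) (M := M)
  obtain ⟨b, hb⟩ := IsLocalization.exist_integer_multiples_of_finset (nonZeroDivisors R)
    (s.image fun m => g (ι m))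
  -- the functional `b • g ∘ ι` takes values in `R`
  let G : M →ₗ[R] K := (b : R) • ((g.restrictScalars R) ∘ₗ ι)
  have hG : ∀ m : M, G m ∈ LinearMap.range (Algebra.linearMap R K) := by
    intro m
    have hm : m ∈ Submodule.span R (s : Set M) := by rw [hs]; trivial
    induction hm using Submodule.span_induction with
    | mem y hy =>
      obtain ⟨r, hr⟩ := hb (g (ι y)) (Finset.mem_image_of_mem _ hy)
      exact ⟨r, by simpa [G] using hr⟩
    | zero => simp
    | add y z _ _ hy hz => rw [map_add]; exact Submodule.add_mem _ hy hz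
    | smul a y _ hy => rw [map_smul]; exact Submodule.smul_mem _ _ hy
  have hinj : Function.Injective (Algebra.linearMap R K) := IsFractionRing.injective R K
  let f : M →ₗ[R] R := (LinearEquiv.ofInjective (Algebra.linearMap R K) hinj).symm.toLinearMap ∘ₗ
    G.codRestrict _ hG
  refine ⟨f, fun h => ?_⟩
  have h1 : f x = 0 := by rw [h]; rfl
  have h2 : G.codRestrict _ hG x = 0 := by
    simpa [f] using h1
  have h3 : G x = 0 := congrArg Subtype.val h2
  have h4 : (b : R) • g (ι x) = 0 := by simpa [G] using h3
  rw [Algebra.smul_def] at h4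
  rcases mul_eq_zero.1 h4 with h5 | h5
  · have : (b : R) = 0 := hinj (by simpa using h5)
    exact nonZeroDivisors.coe_ne_zero b this
  · exact hg h5

/-- Stacks Tag 0BVD. Special case: A -> B finite (the source allows quasi-finite maps). For a finite map of Noetherian
rings and omega = Hom_A(B, A) with its B-module structure through the argument, the associated primes of
the B-module omega are exactly the primes of B whose contraction to A is an associated prime of A. -/
theorem result {A : Type u} {B : Type v} [CommRing A] [CommRing B]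
    [Algebra A B] [IsNoetherianRing A] [IsNoetherianRing B] [Module.Finite A B] :
    associatedPrimes B (Disc.Omega A B) =
      {q : Ideal B | q.IsPrime ∧ q.comap (algebraMap A B) ∈ associatedPrimes A A} := by
  ext q
  constructor
  · intro hq
    obtain ⟨hqp, φ, hφ⟩ := isAssociatedPrime_iff.1 hq
    refine ⟨hqp, ?_⟩
    have hmem : ∀ b : B, b ∈ q ↔ b • φ = 0 := by
      intro b
      rw [hφ, Submodule.mem_colon_singleton, Submodule.mem_bot]
    -- generators of `B` over `A`
    obtain ⟨s, hs⟩ := Module.Finite.fg_top (R := A) (M := B)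
    have h1 : ∀ a : A, algebraMap A B a ∈ q ↔ ∀ t ∈ s, a * φ.toLinearMap t = 0 := by
      intro a
      rw [hmem]
      constructor
      · intro h t _
        have h2 : (algebraMap A B a • φ).toLinearMap t = 0 := by rw [h]; rfl
        rw [Omega.smul_toLinearMap_apply, ← Algebra.smul_def, map_smul, smul_eq_mul] at h2
        exact h2
      · intro h
        apply Omega.ext
        have : Submodule.span A (s : Set B) ≤
            LinearMap.ker (algebraMap A B a • φ).toLinearMap := by
          rw [Submodule.span_le]
          intro t ht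
          simp only [SetLike.mem_coe, LinearMap.mem_ker, Omega.smul_toLinearMap_apply]
          rw [← Algebra.smul_def, map_smul, smul_eq_mul]
          exact h t ht
        rw [hs, top_le_iff] at this
        rw [Omega.zero_toLinearMap]
        exact LinearMap.ker_eq_top.1 this
    -- the contraction is the intersection of finitely many annihilators
    have hp : (q.comap (algebraMap A B)).IsPrime := inferInstance
    have hinf : s.inf (fun t => (⊥ : Submodule A A).colon {φ.toLinearMap t}) =
        q.comap (algebraMap A B) := by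
      ext a
      rw [Ideal.mem_comap, h1, Submodule.mem_finsetInf]
      simp only [Submodule.mem_colon_singleton, Submodule.mem_bot, smul_eq_mul]
    obtain ⟨t, _, ht⟩ := (Ideal.IsPrime.inf_le' hp).1 hinf.le
    refine isAssociatedPrime_iff.2 ⟨hp, φ.toLinearMap t, le_antisymm ?_ ht⟩
    rw [← hinf]
    exact Finset.inf_le ‹_›
  · rintro ⟨hqp, hass⟩
    obtain ⟨hp, a, ha⟩ := isAssociatedPrime_iff.1 hass
    set p := q.comap (algebraMap A B) with hpdef
    -- the ring map `A/p → B/q`
    let _ : Algebra (A ⧸ p) (B ⧸ q) := (Ideal.quotientMap q (algebraMap A B) le_rfl).toAlgebra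
    have halg : ∀ x : A, algebraMap (A ⧸ p) (B ⧸ q) (Ideal.Quotient.mk p x) =
        Ideal.Quotient.mk q (algebraMap A B x) := fun x => by
      rw [RingHom.algebraMap_toAlgebra, Ideal.quotientMap_mk]
    have htower : IsScalarTower A (A ⧸ p) (B ⧸ q) := IsScalarTower.of_algebraMap_eq fun x => by
      rw [Ideal.Quotient.algebraMap_eq, halg]; rfl
    have hfin : Module.Finite (A ⧸ p) (B ⧸ q) := by
      have : Module.Finite A (B ⧸ q) := inferInstance
      exact Module.Finite.of_restrictScalars_finite A _ _
    have hinj : Function.Injective (algebraMap (A ⧸ p) (B ⧸ q)) :=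
      Ideal.quotientMap_injective
    have htf : ∀ (r : A ⧸ p) (x : B ⧸ q), r • x = 0 → r = 0 ∨ x = 0 := by
      intro r x h
      rw [Algebra.smul_def] at h
      rcases mul_eq_zero.1 h with h | h
      · left; exact hinj (by simpa using h)
      · right; exact h
    obtain ⟨f, hf⟩ := exists_functional_ne_zero (R := A ⧸ p) (M := B ⧸ q) htf 1 one_ne_zero
    -- the injection `A/p → A` given by `a`
    have ha' : ∀ x : A, x ∈ p ↔ x * a = 0 := by
      intro x
      rw [ha, Submodule.mem_colon_singleton, Submodule.mem_bot, smul_eq_mul]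
    let j : (A ⧸ p) →ₗ[A] A := Submodule.liftQ p (LinearMap.toSpanSingleton A A a) (by
      intro x hx
      simpa using (ha' x).1 hx)
    have hj : ∀ x : A, j (Ideal.Quotient.mk p x) = x * a := fun x => rfl
    have hjinj : ∀ x, j x = 0 → x = 0 := by
      intro x hx
      obtain ⟨x, rfl⟩ := Ideal.Quotient.mk_surjective x
      rw [hj] at hx
      exact Ideal.Quotient.eq_zero_iff_mem.2 ((ha' x).2 hx)
    let φ : Disc.Omega A B := ⟨j ∘ₗ (f.restrictScalars A) ∘ₗ
      (Ideal.Quotient.mkₐ A q).toLinearMap⟩
    have hφ : ∀ x : B, φ.toLinearMap x = j (f (Ideal.Quotient.mk q x)) := fun x => rfl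
    refine isAssociatedPrime_iff.2 ⟨hqp, φ, ?_⟩
    ext b
    rw [Submodule.mem_colon_singleton, Submodule.mem_bot]
    constructor
    · intro hb
      apply Omega.ext
      ext x
      rw [Omega.smul_toLinearMap_apply, hφ,
        Ideal.Quotient.eq_zero_iff_mem.2 (Ideal.mul_mem_right x q hb), map_zero, map_zero]
      rfl
    · intro hb
      by_contra hbq
      apply hf
      -- a nonzero multiple of `b` in `A/p`
      have hbne : Ideal.Quotient.mk q b ≠ 0 := fun h => hbq (Ideal.Quotient.eq_zero_iff_mem.1 h)
      have : Nontrivial (A ⧸ p) := Ideal.Quotient.nontrivial_iff.2 hp.ne_top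
      have hint : IsIntegral (A ⧸ p) (Ideal.Quotient.mk q b) := Algebra.IsIntegral.isIntegral _
      obtain ⟨r, hr, c, hc⟩ := hint.isAlgebraic.exists_nonzero_dvd
        (mem_nonZeroDivisors_of_ne_zero hbne)
      refine LinearMap.ext fun y => ?_
      obtain ⟨c, rfl⟩ := Ideal.Quotient.mk_surjective c
      obtain ⟨y, rfl⟩ := Ideal.Quotient.mk_surjective y
      have h1 : (b • φ).toLinearMap (c * y) = 0 := by rw [hb]; rfl
      have h3 : Ideal.Quotient.mk q (b * (c * y)) = r • Ideal.Quotient.mk q y := by
        rw [← mul_assoc, map_mul (Ideal.Quotient.mk q), map_mul (Ideal.Quotient.mk q), ← hc,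
          Algebra.smul_def]
      rw [Omega.smul_toLinearMap_apply, hφ, h3, map_smul] at h1
      have h2 := hjinj _ h1
      rw [smul_eq_mul] at h2
      exact (mul_eq_zero.1 h2).resolve_left hr

end Groth.Agent.S2218
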