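import Groth.Statements.S2219
import Mathlib.RingTheory.Ideal.AssociatedPrime.Finiteness
import Mathlib.RingTheory.Artinian.Ring
import Mathlib.LinearAlgebra.Trace

set_option autoImplicit false
universe u
open Disc

namespace Groth.Agent.S2219

open IsLocalRing

/-- Additivity of the trace in a short exact sequence of finite dimensional vector spaces. -/
theorem trace_of_exact {k N₁ N₂ N₃ : Type*} [Field k] [AddCommGroup N₁] [Module k N₁]
    [AddCommGroup N₂] [Module k N₂] [AddCommGroup N₃] [Module k N₃]
    [Module.Finite k N₁] [Module.Finite k N₂] [Module.Finite k N₃]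
    (i : N₁ →ₗ[k] N₂) (p : N₂ →ₗ[k] N₃) (hi : Function.Injective i) (hp : Function.Surjective p)
    (hex : Function.Exact i p) (f₁ : N₁ →ₗ[k] N₁) (f₂ : N₂ →ₗ[k] N₂) (f₃ : N₃ →ₗ[k] N₃)
    (h1 : ∀ x, f₂ (i x) = i (f₁ x)) (h2 : ∀ x, p (f₂ x) = f₃ (p x)) :
    LinearMap.trace k N₂ f₂ = LinearMap.trace k N₁ f₁ + LinearMap.trace k N₃ f₃ := by
  obtain ⟨s, hs⟩ := p.exists_rightInverse_of_surjective (LinearMap.range_eq_top.2 hp)
  have hs' : ∀ x, p (s x) = x := fun x => LinearMap.congr_fun hs x
  obtain ⟨r, hr⟩ := i.exists_leftInverse_of_injective (LinearMap.ker_eq_bot.2 hi)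
  have hr' : ∀ x, r (i x) = x := fun x => LinearMap.congr_fun hr x
  -- a retraction vanishing on the image of `s`
  let r' : N₂ →ₗ[k] N₁ := r ∘ₗ (LinearMap.id - s ∘ₗ p)
  have hpi : ∀ x, p (i x) = 0 := fun x => (hex (i x)).2 ⟨x, rfl⟩
  have key : ∀ x, i (r' x) + s (p x) = x := by
    intro x
    have : p (x - s (p x)) = 0 := by simp [hs']
    obtain ⟨y, hy⟩ := (hex _).1 this
    simp only [r', LinearMap.comp_apply, LinearMap.sub_apply, LinearMap.id_apply]
    rw [← hy, hr', hy]
    abel
  have hri : ∀ x, r' (i x) = x := by
    intro x
    simp only [r', LinearMap.comp_apply, LinearMap.sub_apply, LinearMap.id_apply, hpi, map_zero,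
      sub_zero, hr']
  have e : f₂ = (f₂ ∘ₗ i) ∘ₗ r' + (f₂ ∘ₗ s) ∘ₗ p := by
    ext x
    simp only [LinearMap.add_apply, LinearMap.comp_apply]
    rw [← map_add, key]
  rw [e, map_add, LinearMap.trace_comp_comm', LinearMap.trace_comp_comm' p (f₂ ∘ₗ s)]
  congr 2
  · ext x
    simp only [LinearMap.comp_apply, h1, hri]
  · ext x
    simp only [LinearMap.comp_apply, h2, hs']

/-- For a finite module over a finite dimensional local `k`-algebra, the trace of multiplication
by `a` is the length times the trace of the residue class of `a`. -/
theorem trace_eq_length_mul {k A : Type u} [Field k] [CommRing A]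
    [Algebra k A] [FiniteDimensional k A] [IsLocalRing A] (M : Type u) [AddCommGroup M]
    [Module A M] [Module.Finite A M] :
    ∀ [Module k M] [IsScalarTower k A M] (a : A),
      LinearMap.trace k M (Algebra.lsmul k k M a) =
        ((Module.length A M).toNat : k) *
          Algebra.trace k (ResidueField A) (residue A a) := by
  have : IsNoetherianRing A := IsNoetherianRing.of_finite k A
  have : IsArtinianRing A := IsArtinianRing.of_finite k A
  suffices H : ∀ (_ : Module k M) (_ : IsScalarTower k A M) (a : A),
      LinearMap.trace k M (Algebra.lsmul k k M a) =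
        ((Module.length A M).toNat : k) *
          Algebra.trace k (ResidueField A) (residue A a) by
    intro h1 h2 a
    exact H h1 h2 a
  refine IsNoetherianRing.induction_on_isQuotientEquivQuotientPrime A (M := M) inferInstance
    (motive := fun N _ _ _ => ∀ (_ : Module k N) (_ : IsScalarTower k A N) (a : A),
      LinearMap.trace k N (Algebra.lsmul k k N a) =
        ((Module.length A N).toNat : k) *
          Algebra.trace k (ResidueField A) (residue A a)) ?_ ?_ ?_
  · intro N _ _ _ _ _ _ a
    have : Module.length A N = 0 := Module.length_eq_zero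
    rw [this]
    have h0 : (Algebra.lsmul k k N a) = (0 : N →ₗ[k] N) := by
      ext x; exact Subsingleton.elim _ _
    rw [h0]
    simp
  · intro N _ _ _ p e _ _ a
    have := p.2
    have hmax : p.1.IsMaximal := inferInstance
    have hpm : p.1 = maximalIdeal A := IsLocalRing.eq_maximalIdeal hmax
    have e' : N ≃ₗ[A] ResidueField A := by
      rw [hpm] at e
      exact e
    have hlen : Module.length A N = 1 := by
      rw [e'.length_eq]
      have : IsSimpleModule A (ResidueField A) :=
        isSimpleModule_iff_quot_maximal.2 ⟨maximalIdeal A, inferInstance, ⟨LinearEquiv.refl _ _⟩⟩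
      exact Module.length_eq_one A (ResidueField A)
    rw [hlen]
    simp only [ENat.toNat_one, Nat.cast_one, one_mul]
    rw [Algebra.trace_apply]
    rw [← LinearMap.trace_conj' (Algebra.lsmul k k N a) (e'.restrictScalars k)]
    congr 1
    ext x
    obtain ⟨y, rfl⟩ := e'.surjective x
    simp [LinearEquiv.conj_apply, Algebra.smul_def]
  · intro N₁ _ _ _ N₂ _ _ _ N₃ _ _ _ f g hf hg hfg ih1 ih3 _ _ a
    let _ : Module k N₁ := Module.compHom N₁ (algebraMap k A)
    let _ : Module k N₃ := Module.compHom N₃ (algebraMap k A)
    have : IsScalarTower k A N₁ := IsScalarTower.of_compHom k A N₁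
    have : IsScalarTower k A N₃ := IsScalarTower.of_compHom k A N₃
    have : Module.Finite k N₁ := Module.Finite.trans A N₁
    have : Module.Finite k N₂ := Module.Finite.trans A N₂
    have : Module.Finite k N₃ := Module.Finite.trans A N₃
    rw [trace_of_exact (f.restrictScalars k) (g.restrictScalars k) hf hg hfg
      (Algebra.lsmul k k N₁ a) (Algebra.lsmul k k N₂ a) (Algebra.lsmul k k N₃ a)
      (fun x => by simp) (fun x => by simp), ih1, ih3]
    rw [Module.length_eq_add_of_exact f g hf hg hfg]
    have : IsFiniteLength A N₁ := isFiniteLength_iff_isNoetherian_isArtinian.2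
      ⟨inferInstance, inferInstance⟩
    rw [ENat.toNat_add (Module.length_ne_top) (Module.length_ne_top)]
    push_cast
    ring

/-- Stacks Tag 0C13. Equivalence of (1) and (3): let k be a field and A a finite-dimensional local k-algebra
with residue field k'. Then the trace map Tr_{A/k} is not identically zero if and only if k' is
separable over k and the length of A as a module over itself is not divisible by the characteristic
of k (no condition in characteristic zero). -/
theorem result (k A : Type u) [Field k] [CommRing A]
    [Algebra k A] [FiniteDimensional k A] [IsLocalRing A] :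
    Algebra.trace k A ≠ 0 ↔
      (Algebra.IsSeparable k (IsLocalRing.ResidueField A) ∧
        ∀ p : ℕ, p.Prime → CharP k p → ¬ p ∣ (Module.length A A).toNat) := by
  have : IsNoetherianRing A := IsNoetherianRing.of_finite k A
  have : IsArtinianRing A := IsArtinianRing.of_finite k A
  have key : ∀ a : A, Algebra.trace k A a = ((Module.length A A).toNat : k) *
      Algebra.trace k (ResidueField A) (residue A a) := by
    intro a
    rw [← trace_eq_length_mul A a]
    rfl
  have : FiniteDimensional k (ResidueField A) :=
    Module.Finite.of_surjective (Algebra.linearMap A (ResidueField A) |>.restrictScalars k)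
      (residue_surjective)
  constructor
  · intro h
    constructor
    · by_contra hns
      apply h
      ext a
      rw [key a, Algebra.trace_eq_zero_of_not_isSeparable hns]
      simp
    · intro p _ hchar hdvd
      apply h
      ext a
      rw [key a, (CharP.cast_eq_zero_iff k p _).2 hdvd]
      simp
  · rintro ⟨hsep, hlen⟩ h
    have hne : Algebra.trace k (ResidueField A) ≠ 0 := Algebra.trace_ne_zero k (ResidueField A)
    apply hne
    ext b
    obtain ⟨a, rfl⟩ := residue_surjective (R := A) b
    have h1 := key a
    rw [h, LinearMap.zero_apply] at h1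
    have hcast : ((Module.length A A).toNat : k) ≠ 0 := by
      obtain ⟨p, hp⟩ := CharP.exists k
      intro h0
      rcases CharP.char_is_prime_or_zero k p with hpp | hp0
      · exact hlen p hpp hp ((CharP.cast_eq_zero_iff k p _).1 h0)
      · subst hp0
        have := CharP.charP_to_charZero k
        have h2 : (Module.length A A).toNat = 0 := by exact_mod_cast h0
        rw [ENat.toNat_eq_zero] at h2
        rcases h2 with h2 | h2
        · exact (Module.length_pos (R := A) (M := A)).ne' h2
        · exact Module.length_ne_top h2
    simpa [hcast] using (mul_eq_zero.1 h1.symm).resolve_left hcast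

end Groth.Agent.S2219
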