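import Groth.Statements.S2220
import Groth.Agent.Models2.NoetherDiff
import Mathlib.AlgebraicGeometry.Morphisms.Flat
import Mathlib.Algebra.Category.Ring.Epi

set_option autoImplicit false
universe u
open AlgebraicGeometry
open Disc

namespace Groth.Agent.S2220

/-- Stacks Tag 0BVN. Part (2): for ring maps A -> B' -> B with B' of finite type over A and Spec B -> Spec B' an open
immersion, the Noether different of B over A is the ideal generated by the image of that of B'. -/
theorem result {A B' B : Type u} [CommRing A] [CommRing B']
    [CommRing B] [Algebra A B'] [Algebra A B] [Algebra B' B] [IsScalarTower A B' B]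
    [Algebra.FiniteType A B']
    (h : IsOpenImmersion (Spec.map (CommRingCat.ofHom (algebraMap B' B)))) :
    Disc.noetherDifferent A B = (Disc.noetherDifferent A B').map (algebraMap B' B) := by
  have hflat : AlgebraicGeometry.Flat (Spec.map (CommRingCat.ofHom (algebraMap B' B))) :=
    inferInstance
  rw [AlgebraicGeometry.Flat.SpecMap_iff] at hflat
  have : Module.Flat B' B := RingHom.flat_algebraMap_iff.1 hflat
  have hmono : CategoryTheory.Mono
      (Scheme.Spec.map (CommRingCat.ofHom (algebraMap B' B)).op) :=
    inferInstanceAs (CategoryTheory.Mono (Spec.map (CommRingCat.ofHom (algebraMap B' B))))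
  have hmono' := Scheme.Spec.mono_of_mono_map hmono
  have hepi : CategoryTheory.Epi (CommRingCat.ofHom (algebraMap B' B)) :=
    CategoryTheory.unop_epi_of_mono (CommRingCat.ofHom (algebraMap B' B)).op
  exact Groth.Agent.Models2.NoetherDiff.noetherDifferent_flat_epi
    (CommRingCat.epi_iff_epi.1 hepi)

end Groth.Agent.S2220
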