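import Groth.Statements.S2222
import Groth.Agent.Models2.ExtVanReg
import Groth.Agent.Models2.LocRes

set_option autoImplicit false
universe u
open CategoryTheory AlgebraicGeometry
attribute [local instance] HasDerivedCategory.standard
open QCohCat

namespace Groth.Agent.S2222

open Groth.Agent.Models2.FreeRes in
theorem exists_res {X : Scheme.{u}} [IsNoetherian X] (hreg : Models.IsRegularScheme X)
    (F : X.Modules) (hF : Coh.IsCoh F) (x : X) :
    ∃ (R : CommRingCat.{u}) (j : Spec R ⟶ X) (_ : IsOpenImmersion j),
      x ∈ j.opensRange ∧ FreeRes (Groth.Agent.Models2.CodimStalk.codim X x)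
        (moduleSpecΓFunctor.obj (F.restrict j)) := by
  obtain ⟨W, -, hW, hxW, h⟩ := exists_freeRes_sections hreg F hF x
    (Groth.Agent.Models2.CodimStalk.codim X x)
    (Groth.Agent.Models2.CodimStalk.coe_codim X x).le ⊤ trivial
  refine ⟨_, hW.fromSpec, inferInstance, ?_, ?_⟩
  · rw [hW.opensRange_fromSpec]
    exact hxW
  · exact h.of_iso (tilde.toTildeΓNatIso.app _ ≪≫
      moduleSpecΓFunctor.mapIso (restrictFromSpecIso F hF.1 hW).symm)

/-- Stacks Tag 0FZ3. Let X be a Noetherian scheme all of whose local rings are regular and whose underlying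
space has Krull dimension d. (1) For coherent O_X-modules F and G, every morphism F -> G[n] in the
derived category D(O_X) is zero when n > d (Ext^n_X(F, G) = 0). (2) For bounded objects K and L of
D(O_X) with coherent cohomology sheaves, if the cohomology sheaves of K vanish below degree a + d and
those of L vanish from degree a upward, every morphism K -> L is zero. -/
theorem result (X : Scheme.{u}) [IsNoetherian X]
    (hreg : Models.IsRegularScheme X) (d : ℕ) (hd : topologicalKrullDim X = d) :
    (∀ (F G : X.Modules), Coh.IsCoh F → Coh.IsCoh G → ∀ n : ℤ, (d : ℤ) < n →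
        ∀ φ : DCoh.inD X F ⟶ (shiftFunctor (DCoh.D X) n).obj (DCoh.inD X G), φ = 0) ∧
      ∀ (K L : DCoh.D X) (a cK bL : ℤ), DCoh.IsCohD K → DCoh.IsCohD L →
        DerivedCategory.IsGE K (a + d) → DerivedCategory.IsLE K cK →
        DerivedCategory.IsGE L bL → DerivedCategory.IsLE L (a - 1) →
        ∀ φ : K ⟶ L, φ = 0 :=
  Groth.Agent.Models2.ExtVanReg.main d hd (fun F hF x => exists_res hreg F hF x)

end Groth.Agent.S2222
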