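-- Proof of statement S2225.
import Groth.Statements.S2225
import Groth.Agent.S0342
import Groth.Agent.S0343
import Groth.Agent.Models.StalkTensor
import Mathlib.Algebra.Category.ModuleCat.InjectiveDimension
import Mathlib.RingTheory.TensorProduct.Quotient
import Mathlib.RingTheory.Localization.Algebra

set_option autoImplicit false
universe u
open CategoryTheory AlgebraicGeometry
open Models

namespace Groth.Agent.S2225

open TensorProduct in
attribute [local instance] RingHomInvPair.of_ringEquiv in
theorem gorenstein_of_ringEquiv {A B : Type u} [CommRing A] [CommRing B] (e : A ≃+* B)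
    (h : LocCoh.IsGorensteinLocalRing A) : LocCoh.IsGorensteinLocalRing B := by
  have h1 : IsNoetherianRing A := h.toIsNoetherian
  have h2 : IsLocalRing A := h.toIsLocalRing
  have h3 : IsNoetherianRing B := isNoetherianRing_of_ringEquiv A e
  have h4 : IsLocalRing B := e.isLocalRing
  obtain ⟨n, hn⟩ := h.exists_hasInjectiveDimensionLT
  have : HasInjectiveDimensionLE (ModuleCat.of A A) n :=
    hasInjectiveDimensionLT_of_ge (ModuleCat.of A A) n (n + 1) (Nat.le_succ n)
  let e' : (ModuleCat.of A A) ≃ₛₗ[RingHomClass.toRingHom e] (ModuleCat.of B B) :=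
    { e with
      map_smul' := fun r x => by simp }
  have h5 := (ModuleCat.hasInjectiveDimensionLE_iff_of_semiLinearEquiv e e' n).mp this
  exact { toIsNoetherian := h3, toIsLocalRing := h4, exists_hasInjectiveDimensionLT := ⟨n + 1, h5⟩ }

open TensorProduct in
/-- the kernel of `A → A ⊗[R] R/I` is `I A`. -/
theorem ker_includeLeft' (R A : Type u) [CommRing R] [CommRing A] [Algebra R A] (I : Ideal R) :
    RingHom.ker (algebraMap A (A ⊗[R] (R ⧸ I))) = I.map (algebraMap R A) := by
  ext a
  rw [RingHom.mem_ker]
  have h1 : algebraMap A (A ⊗[R] (R ⧸ I)) a =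
    Algebra.TensorProduct.quotIdealMapEquivTensorQuot A I (Ideal.Quotient.mk _ a) := rfl
  rw [h1, map_eq_zero_iff _
    (Algebra.TensorProduct.quotIdealMapEquivTensorQuot A I).injective,
    Ideal.Quotient.eq_zero_iff_mem]

open TensorProduct in
/-- the kernel of `A → A ⊗[R] κ(R)` is `𝔪 A`. -/
theorem ker_includeLeft (R A : Type u) [CommRing R] [CommRing A] [Algebra R A] [IsLocalRing R] :
    RingHom.ker (algebraMap A (A ⊗[R] IsLocalRing.ResidueField R)) =
      (IsLocalRing.maximalIdeal R).map (algebraMap R A) :=
  ker_includeLeft' R A (IsLocalRing.maximalIdeal R)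

open TensorProduct in
theorem key (R A : Type u) [CommRing R] [CommRing A] [Algebra R A] [Module.Flat R A] [IsLocalRing R]
    (ϖ : R) (hϖ : IsLocalRing.maximalIdeal R = Ideal.span {ϖ}) (hreg : IsSMulRegular R ϖ)
    (q : Ideal (A ⊗[R] IsLocalRing.ResidueField R)) [q.IsPrime]
    (hr : IsRegularLocalRing (Localization.AtPrime
      (q.comap (algebraMap A (A ⊗[R] IsLocalRing.ResidueField R))))) :
    LocCoh.IsGorensteinLocalRing (Localization.AtPrime q) := by
  set f : A →+* (A ⊗[R] IsLocalRing.ResidueField R) :=
    algebraMap A (A ⊗[R] IsLocalRing.ResidueField R) with hf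
  have hfs : Function.Surjective f :=
    Algebra.TensorProduct.includeLeft_surjective R _ IsLocalRing.residue_surjective
  have hker : RingHom.ker f = Ideal.span {algebraMap R A ϖ} := by
    rw [hf, ker_includeLeft, hϖ, Ideal.map_span, Set.image_singleton]
  set P : Ideal A := q.comap f with hP
  have hϖ0 : f (algebraMap R A ϖ) = 0 := by
    rw [← RingHom.mem_ker, hker]
    exact Ideal.mem_span_singleton_self _
  let x : Localization.AtPrime P := algebraMap A _ (algebraMap R A ϖ)
  have hxm : x ∈ IsLocalRing.maximalIdeal (Localization.AtPrime P) := by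
    rw [IsLocalization.AtPrime.to_map_mem_maximal_iff (Localization.AtPrime P) P]
    rw [hP, Ideal.mem_comap, hϖ0]
    exact q.zero_mem
  have hxr : IsSMulRegular (Localization.AtPrime P) x := by
    have h1 : Module.Flat R (Localization.AtPrime P) := Module.Flat.trans R A _
    have h2 : x = algebraMap R (Localization.AtPrime P) ϖ :=
      (IsScalarTower.algebraMap_apply R A (Localization.AtPrime P) ϖ).symm
    rw [h2]
    exact hreg.of_flat
  have hg : LocCoh.IsGorensteinLocalRing (Localization.AtPrime P ⧸ Ideal.span {x}) :=
    (Groth.Agent.S0343.result (Localization.AtPrime P) x hxm hxr).mp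
      (Groth.Agent.S0342.result (Localization.AtPrime P))
  -- the surjection of localizations
  have hT : Submonoid.map f P.primeCompl = q.primeCompl := by
    ext b
    constructor
    · rintro ⟨a, ha, rfl⟩
      exact ha
    · intro hb
      obtain ⟨a, rfl⟩ := hfs b
      exact ⟨a, hb, rfl⟩
  let g : Localization.AtPrime P →+* Localization.AtPrime q :=
    IsLocalization.map (M := P.primeCompl) (T := q.primeCompl) (Localization.AtPrime q) f
      (hT.symm ▸ Submonoid.le_comap_map P.primeCompl)
  have hgk : RingHom.ker g = Ideal.span {x} := by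
    rw [IsLocalization.ker_map (S := Localization.AtPrime P) (Localization.AtPrime q) f hT, hker,
      Ideal.map_span, Set.image_singleton]
  have hgs : Function.Surjective g := by
    intro y
    obtain ⟨b, t, rfl⟩ := IsLocalization.exists_mk'_eq q.primeCompl y
    obtain ⟨a, rfl⟩ := hfs b
    obtain ⟨s, hs⟩ := hfs t
    have hs' : s ∈ P.primeCompl := by
      change f s ∉ q
      rw [hs]; exact t.2
    refine ⟨IsLocalization.mk' _ a ⟨s, hs'⟩, ?_⟩
    rw [IsLocalization.map_mk']
    congr 1
    exact Subtype.ext hs
  have e : (Localization.AtPrime P ⧸ Ideal.span {x}) ≃+* Localization.AtPrime q :=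
    (Ideal.quotEquivOfEq hgk.symm).trans (RingHom.quotientKerEquivOfSurjective hgs)
  exact gorenstein_of_ringEquiv e hg

/-- Stacks Tag 0C60. Part (1), for the closed fibre: let R be a discrete valuation ring with fraction field K, C a smooth
proper curve over K and X a regular model of C over R (flat, of finite type, all local rings regular).
Then every local ring of the special fibre X_k is a Gorenstein local ring; together with flatness and
regularity of the generic fibre this says X -> Spec R is a Gorenstein morphism. -/
theorem result (R : Type u) [CommRing R] [IsDomain R]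
    [IsDiscreteValuationRing R] (C X : Scheme.{u})
    (f : C ⟶ Spec (CommRingCat.of (FractionRing R))) (p : X ⟶ Spec (CommRingCat.of R))
    (hC : Curve.IsSmoothProperCurve (FractionRing R) C f) (hX : Models.IsModel R X p C f)
    (hreg : Models.IsRegularScheme X) (x : ↥(Models.specialFibre R X p)) :
    LocCoh.IsGorensteinLocalRing ((Models.specialFibre R X p).presheaf.stalk x) := by
  obtain ⟨A, _, _, j, _, hj, q, _, ⟨e1⟩, ⟨e2⟩⟩ := Models.StalkTensor.exists_affine_tensor
    (C := IsLocalRing.ResidueField R) p x
  obtain ⟨ϖ, hϖ⟩ := IsDiscreteValuationRing.exists_irreducible R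
  have hflat : Module.Flat R A := by
    have h1 : Flat p := hX.1
    have h2 : Flat (j ≫ p) := inferInstance
    rw [hj, Flat.SpecMap_iff, CommRingCat.hom_ofHom, RingHom.flat_algebraMap_iff] at h2
    exact h2
  have hr : IsRegularLocalRing (Localization.AtPrime
      (q.comap (algebraMap A (TensorProduct R A (IsLocalRing.ResidueField R))))) := by
    have := hreg (Limits.pullback.fst p _ x)
    exact IsRegularLocalRing.of_ringEquiv e2
  have hregϖ : IsSMulRegular R ϖ := by
    rw [isSMulRegular_iff_right_eq_zero_of_smul]
    intro y hy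
    exact (mul_eq_zero.mp hy).resolve_left hϖ.ne_zero
  exact gorenstein_of_ringEquiv e1.symm (key R A ϖ hϖ.maximalIdeal_eq hregϖ q hr)

end Groth.Agent.S2225
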