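import Groth.Statements.S2226
import Groth.Agent.Models.NodeLocus
import Groth.Agent.Models.NodeBound

set_option autoImplicit false
universe u
open CategoryTheory AlgebraicGeometry
open Models

namespace Groth.Agent.S2226

/-- Stacks Tag 0CDE. Consequence stated without the blow-up sequence: let R be a discrete valuation ring with fraction
field K and C a smooth proper curve over K with H^0(C, O_C) = K (the map K -> H^0 is an isomorphism). If
C has semistable reduction over R (some proper model is an at-worst-nodal family of relative dimension
one), then C has a proper model over R which is at the same time regular and an at-worst-nodal family. (The source's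
statement is the stronger one that any nodal model can be improved to such a model by blowing up closed points.) -/
theorem result (R : Type u) [CommRing R] [IsDomain R]
    [IsDiscreteValuationRing R] (C : Scheme.{u}) (f : C ⟶ Spec (CommRingCat.of (FractionRing R)))
    (hC : Curve.IsSmoothProperCurve (FractionRing R) C f) (hH0 : IsIso f.appTop)
    (h : Models.HasSemistableReduction R C f) :
    ∃ (X : Scheme.{u}) (p : X ⟶ Spec (CommRingCat.of R)),
      Models.IsRegularProperModel R X p C f ∧ Curv2.IsNodalFamily p := by
  obtain ⟨X, p, hm, hp, hnod⟩ := h
  obtain ⟨ϖ, hϖ⟩ := IsDiscreteValuationRing.exists_irreducible R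
  have hsm : Smooth f := hC.2.1
  have hXn : IsLocallyNoetherian X := by
    have : IsLocallyNoetherian (Spec (CommRingCat.of R)) := by
      have : IsNoetherianRing (CommRingCat.of R) := inferInstanceAs (IsNoetherianRing R)
      infer_instance
    exact LocallyOfFiniteType.isLocallyNoetherian p
  have hgen : ∀ x, p x ≠ IsLocalRing.closedPoint R → IsRegularLocalRing (X.presheaf.stalk x) := by
    obtain ⟨_, _, _, c, hc⟩ := hm
    exact fun x hx => Groth.Agent.Models.NodeLocus.regular_generic hc x
      (Groth.Agent.Models.NodeLocus.mem_range_of_model hc x hx)
  obtain ⟨N, hN⟩ := Groth.Agent.Models.NodeBound.exists_bound R ϖ hϖ X p hnod hgen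
  obtain ⟨X', p', hm', hp', hnod', hch'⟩ :=
    Groth.Agent.Models.NodeLocus.exists_regular N hm hp hnod hN
  exact ⟨X', p', ⟨hm', hp', Groth.Agent.Models.NodeLocus.isRegularScheme hm' hch'⟩, hnod'⟩

end Groth.Agent.S2226
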