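import Groth.Statements.S2234
import Groth.Agent.Models.NLIdeal
import Groth.Agent.Models.KoszulCot
import Groth.Agent.Models.KoszulOfFlat
import Mathlib.RingTheory.FinitePresentation

set_option autoImplicit false
universe u
attribute [local instance] HasDerivedCategory.standard
open LCI

namespace Groth.Agent.S2234

/-- Stacks Tag 0FJV. Equivalence of (1) and (4): let A -> B be a flat ring map of finite presentation. Then the naive
cotangent complex NL_{B/A} has tor-amplitude in [-1, 0] (it is isomorphic in D(B) to a two-term complex of flat
modules in those degrees) if and only if A -> B is a local complete intersection homomorphism (some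
presentation has Koszul-regular kernel ideal). -/
theorem result {A B : Type u} [CommRing A] [CommRing B] [Algebra A B]
    [Module.Flat A B] [Algebra.FinitePresentation A B] :
    DRing.HasTorAmplitudeIn B (-1) 0 (LCI.NL A B) ↔ LCI.IsLCI A B := by
  constructor
  · intro h
    obtain ⟨n, f, hf, hfg⟩ := Algebra.FinitePresentation.out (R := A) (A := B)
    refine ⟨inferInstance, n, f, hf, ?_⟩
    have h1 := (Groth.Agent.Models.NLIdeal.hasTorAmplitudeIn_NL_iff_ker f hf).1 h
    have h2 : Module.Flat A (MvPolynomial (Fin n) A ⧸ RingHom.ker f.toRingHom) :=
      Module.Flat.of_linearEquiv (Ideal.quotientKerAlgEquivOfSurjective (f := f) hf).toLinearEquiv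
    exact Groth.Agent.Models.KoszulOfFlat.isKoszulRegularIdeal _ hfg
  · rintro ⟨-, n, f, hf, hK⟩
    exact (Groth.Agent.Models.NLIdeal.hasTorAmplitudeIn_NL_iff_ker f hf).2
      (Groth.Agent.Models.KoszulCot.flat_cotangent hK)

end Groth.Agent.S2234
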