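import Groth.Statements.S2236
import Groth.Agent.Models.KoszulCot
import Groth.Agent.Models.TorPoly
import Groth.Agent.Models.NLIdeal
import Groth.Agent.Flat2H.KoszulBC
import Groth.Agent.S2189

set_option autoImplicit false
universe u
attribute [local instance] HasDerivedCategory.standard
open LCI

namespace Groth.Agent.S2236

/-- Stacks Tag 0FJT. Equivalence of (1) and (3): let A be a Noetherian ring and B an A-algebra of finite type which has
finite Tor-dimension as an A-module (so that A -> B is a perfect ring map). Then NL_{B/A} has tor-amplitude in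
[-1, 0] if and only if A -> B is a local complete intersection homomorphism (some presentation has
Koszul-regular kernel ideal). -/
theorem result {A B : Type u} [CommRing A] [CommRing B]
    [Algebra A B] [IsNoetherianRing A] [Algebra.FiniteType A B] (hB : DRing.HasFiniteTorDim A B) :
    DRing.HasTorAmplitudeIn B (-1) 0 (LCI.NL A B) ↔ LCI.IsLCI A B := by
  constructor
  · intro h
    have hft : Algebra.FiniteType A B := inferInstance
    obtain ⟨n, f, hf⟩ := Algebra.FiniteType.iff_quotient_mvPolynomial''.1 hft
    refine ⟨hft, n, f, hf, ?_⟩
    have hflat := (Models.NLIdeal.hasTorAmplitudeIn_NL_iff_ker f hf).1 h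
    obtain ⟨m, hm⟩ := Models.TorPoly.exists_hasProjectiveDimensionLT_ker f hf hB
    set I := RingHom.ker f.toRingHom with hI
    have hfin : Module.Finite (MvPolynomial (Fin n) A ⧸ I) I.Cotangent := by
      have h1 : Module.Finite (MvPolynomial (Fin n) A) I :=
        Module.Finite.of_fg (IsNoetherian.noetherian I)
      have h2 : Module.Finite (MvPolynomial (Fin n) A) I.Cotangent :=
        Module.Finite.of_surjective I.toCotangent I.toCotangent_surjective
      exact Module.Finite.of_restrictScalars_finite (MvPolynomial (Fin n) A) _ _
    have hproj : Module.Projective (MvPolynomial (Fin n) A ⧸ I) I.Cotangent := by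
      have : Module.FinitePresentation (MvPolynomial (Fin n) A ⧸ I) I.Cotangent :=
        Module.finitePresentation_of_finite _ _
      exact Module.Flat.projective_of_finitePresentation
    intro 𝔭 h𝔭
    obtain ⟨g, hg, rs, hrs, hJ⟩ := Groth.Agent.S2189.result I m hm 𝔭.asIdeal h𝔭
    exact ⟨g, hg, rs, Flat2H.KoszulBC.isKoszulRegularSeq_of_isWeaklyRegular hrs.toIsWeaklyRegular,
      hJ.symm⟩
  · rintro ⟨-, n, f, hf, hI⟩
    rw [Models.NLIdeal.hasTorAmplitudeIn_NL_iff_ker f hf]
    exact Models.KoszulCot.flat_cotangent hI

end Groth.Agent.S2236
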