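import Groth.Statements.S2237
import Groth.Agent.Models.GciPres
import Groth.Agent.Models.GciLen

set_option autoImplicit false
universe u
attribute [local instance] HasDerivedCategory.standard
open LCI

namespace Groth.Agent.S2237

/-- Stacks Tag 0BWE. Implication (2) to (5), affine form: let A -> B be flat, quasi-finite and a local complete
intersection homomorphism (finite type with a Koszul-regular presentation). Then for every prime q of B there
are g in B outside q, a natural number n and polynomials f_1, ..., f_n in A[x_1, ..., x_n] such that B_g is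
isomorphic as an A-algebra to A[x_1, ..., x_n]/(f_1, ..., f_n). -/
theorem result {A B : Type u} [CommRing A]
    [CommRing B] [Algebra A B] [Module.Flat A B] [Algebra.QuasiFinite A B] (hlci : LCI.IsLCI A B)
    (q : Ideal B) [q.IsPrime] :
    ∃ g : B, g ∉ q ∧ ∃ (n : ℕ) (f : Fin n → MvPolynomial (Fin n) A),
      Nonempty (Localization.Away g ≃ₐ[A]
        (MvPolynomial (Fin n) A ⧸ Ideal.span (Set.range f))) := by
  obtain ⟨-, n, φ, hφ, hK⟩ := hlci
  let 𝔭 : PrimeSpectrum (MvPolynomial (Fin n) A) := ⟨q.comap φ.toRingHom, inferInstance⟩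
  have hI : RingHom.ker φ.toRingHom ≤ 𝔭.asIdeal := by
    intro x hx
    change φ.toRingHom x ∈ q
    rw [RingHom.mem_ker] at hx
    rw [hx]
    exact q.zero_mem
  obtain ⟨g, hg, l, hl, hlI⟩ := hK 𝔭 hI
  have hgq : φ g ∉ q := hg
  have hlen := Groth.Agent.Models.GciLen.length_le φ hφ g l hl hlI q hgq
  obtain ⟨f, e⟩ := Groth.Agent.Models.GciPres.exists_presentation φ hφ g l hlen hlI
  exact ⟨φ g, hgq, n + 1, f, e⟩

end Groth.Agent.S2237
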