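import Groth.Statements.S2332
import Groth.Agent.Ega2.RelAmpRows

set_option autoImplicit false
universe u
open CategoryTheory CategoryTheory.Limits AlgebraicGeometry
open EGA2

namespace Groth.Agent.S2332

/-- EGA II, 4.6.13 (iii): let f : X → Y be quasi-compact, g : Y' → Y any morphism, and L an O_X-module ample relative to f. Then the pullback of L to X ×_Y Y' is ample relative to the base-changed morphism X ×_Y Y' → Y'. -/
theorem result {X Y Y' : Scheme.{u}} (f : X ⟶ Y) [QuasiCompact f] (g : Y' ⟶ Y) (L : X.Modules)
    (hL : RelAmple.IsRelAmple f L) :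
    RelAmple.IsRelAmple (pullback.snd f g) ((Scheme.Modules.pullback (pullback.fst f g)).obj L) := by
  exact Groth.Agent.Ega2.RelAmp.relAmple_baseChange f g L hL

end Groth.Agent.S2332
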