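import Groth.Statements.S2334
import Groth.Agent.Ega2.DVRCriterion

set_option autoImplicit false
universe u
open CategoryTheory CategoryTheory.Limits AlgebraicGeometry
open EGA2

namespace Groth.Agent.S2334

/-- EGA II, 7.2.3 (locally Noetherian case): let Y be locally Noetherian and f : X → Y locally of finite type. Then f is separated if and only if for every discrete valuation ring A with fraction field K, any two morphisms Spec A → X with the same composite to Y which agree on Spec K are equal. (The quasi-compactness of the diagonal required in the source's general case is automatic here, as the source remarks.) -/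
theorem result {X Y : Scheme.{u}} [IsLocallyNoetherian Y] (f : X ⟶ Y) [LocallyOfFiniteType f] :
    IsSeparated f ↔ ∀ (A : Type u) [CommRing A] [IsDomain A] [IsDiscreteValuationRing A] (g₁ g₂ : (Spec (CommRingCat.of A)) ⟶ X),
      g₁ ≫ f = g₂ ≫ f → (Spec.map (CommRingCat.ofHom (algebraMap A (FractionRing A)))) ≫ g₁ = (Spec.map (CommRingCat.ofHom (algebraMap A (FractionRing A)))) ≫ g₂ → g₁ = g₂ := by
  constructor
  · intro hf A _ _ _ g₁ g₂ h1 h2
    let S : ValuativeCommSq f :=
      { R := A
        K := FractionRing A
        i₁ := Spec.map (CommRingCat.ofHom (algebraMap A (FractionRing A))) ≫ g₁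
        i₂ := g₁ ≫ f
        commSq := ⟨by rw [Category.assoc]⟩ }
    have hS := IsSeparated.valuativeCriterion f S
    have h3 : (⟨g₁, rfl, rfl⟩ : S.commSq.LiftStruct) = ⟨g₂, h2.symm, h1.symm⟩ :=
      Subsingleton.elim _ _
    exact congrArg CommSq.LiftStruct.l h3
  · intro H
    exact Groth.Agent.Ega2.DVRCriterion.isSeparated_of_DVRUniqueness f H

end Groth.Agent.S2334
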