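import Groth.Statements.S2337
import Groth.Agent.Flat2H.FamDict

set_option autoImplicit false
universe u
open CategoryTheory CategoryTheory.Limits AlgebraicGeometry
open EGA2

namespace Groth.Agent.S2337

open Groth.Agent.Fdesc.LocGen Groth.Agent.Flat2H.FamExt Groth.Agent.Flat2H.FamDict

theorem trivs_structureModule (X : Scheme.{u}) :
    Trivs (Coh.structureModule X) (fun _ : Unit => (⊤ : X.Opens)) (fun _ _ => 1) := by
  refine ⟨fun _ => ⟨(), trivial⟩, fun _ => one ⊤, fun _ => isGen_one _, fun _ _ => ?_⟩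
  rw [one_smul]

theorem isAmple_iff_isQuasiAffine {X : Scheme.{u}} {L : X.Modules}
    (h : Trivs L (fun _ : Unit => (⊤ : X.Opens)) (fun _ _ => 1)) :
    CohB1.IsAmple L ↔ X.IsQuasiAffine := by
  rw [h.isAmple_iff]
  constructor
  · rintro ⟨hc, hx⟩
    refine .of_forall_exists_mem_basicOpen _ fun x => ?_
    obtain ⟨n, b, -, hxb, hb⟩ := hx x
    rw [iSup_unique] at hxb hb
    exact ⟨b (), hb, hxb⟩
  · intro hU
    refine ⟨inferInstance, fun x => ?_⟩
    obtain ⟨_, ⟨_, ⟨r, hr, rfl⟩, rfl⟩, hxr, -⟩ :=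
      (Scheme.IsQuasiAffine.isBasis_basicOpen X).exists_subset_of_mem_open
        (Set.mem_univ x) isOpen_univ
    refine ⟨0, fun _ => r, ?_, ?_, ?_⟩
    · intro i j
      simp only [one_pow, mul_one]
    · rw [iSup_unique]
      exact hxr
    · rw [iSup_unique]
      exact hr

theorem isAmple_restrict_iff (X : Scheme.{u}) (U : X.Opens) :
    CohB1.IsAmple ((Coh.structureModule X).restrict U.ι) ↔
      Scheme.IsQuasiAffine (U : Scheme.{u}) := by
  refine isAmple_iff_isQuasiAffine ?_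
  obtain ⟨h0, e, he, -⟩ := (trivs_structureModule X).restrict U.ι
  refine ⟨fun _ => ⟨(), trivial⟩, e, he, fun _ _ => ?_⟩
  rw [one_smul]

/-- EGA II, 5.1.6 (a ⇔ c'): let f : X → Y be quasi-compact. Then f is quasi-affine (preimages of affine opens are quasi-affine) if and only if O_X is ample relative to f. -/
theorem result {X Y : Scheme.{u}} (f : X ⟶ Y) [QuasiCompact f] :
    Mor2.IsQuasiAffine f ↔ RelAmple.IsRelAmple f (Coh.structureModule X) := by
  constructor
  · rintro ⟨h1, h2⟩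
    exact ⟨h1, fun V => (isAmple_restrict_iff X _).2 (h2 V.1 V.2)⟩
  · rintro ⟨h1, h2⟩
    exact ⟨h1, fun V hV => (isAmple_restrict_iff X _).1 (h2 ⟨V, hV⟩)⟩

end Groth.Agent.S2337
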