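import Groth.Statements.S2340
import Groth.Agent.Ega2.QuasiAffine

set_option autoImplicit false
universe u
open CategoryTheory CategoryTheory.Limits AlgebraicGeometry
open EGA2

namespace Groth.Agent.S2340

/-- Stacks Tag 054G (EGA II, 5.1.10 (v) is the case g separated): let f : X → Y and g : Y → Z with g ∘ f quasi-affine and g quasi-separated. Then f is quasi-affine. -/
theorem result {X Y Z : Scheme.{u}} (f : X ⟶ Y) (g : Y ⟶ Z) [QuasiSeparated g]
    (h : Mor2.IsQuasiAffine (f ≫ g)) : Mor2.IsQuasiAffine f := by
  exact Groth.Agent.Ega2.QuasiAffine.qaff_of_comp f g h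

end Groth.Agent.S2340
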