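import Groth.Statements.S2342
import Groth.Agent.Ega2.ClosedLift

set_option autoImplicit false
universe u
open CategoryTheory CategoryTheory.Limits AlgebraicGeometry
open EGA2

namespace Groth.Agent.S2342

theorem bij_of_residue {R S : CommRingCat.{u}} {k l : CommRingCat.{u}} (φ : R ⟶ S) (a : R ⟶ k) (b : S ⟶ l) (ψ : k ⟶ l)
    (h : a ≫ ψ = φ ≫ b) (ha : Function.Bijective a.hom) (hb : Function.Injective b.hom)
    (hψ : Function.Bijective ψ.hom) : Function.Bijective φ.hom := by
  have hc : ∀ r, ψ.hom (a.hom r) = b.hom (φ.hom r) := fun r => congr($(h).hom r)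
  constructor
  · intro x y hxy
    apply ha.1
    apply hψ.1
    rw [hc, hc, hxy]
  · intro s
    obtain ⟨t, ht⟩ := hψ.2 (b.hom s)
    obtain ⟨r, rfl⟩ := ha.2 t
    exact ⟨r, hb (by rw [← hc, ht])⟩

theorem isField_stalk {Y : Scheme.{u}} [IsIntegral Y] (y : Y) (h : y = genericPoint Y) :
    IsField (Y.presheaf.stalk y) := by
  subst h
  exact Field.toIsField Y.functionField

theorem isIso_stalkSpecializes {Y : Scheme.{u}} {a b : Y} (h : a ⤳ b) (e : a = b) :
    IsIso (Y.presheaf.stalkSpecializes h) := by
  subst e
  rw [TopCat.Presheaf.stalkSpecializes_refl]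
  infer_instance

/-- EGA II, 7.3.1: let A be a valuation ring with Y = Spec A, X an integral separated scheme and f : X → Y a morphism which is closed as a map of topological spaces, such that the fibre over the generic point of Y consists of exactly one point x and the induced map from the residue field of the generic point of Y to that of x is bijective. Then f is an isomorphism. -/
theorem result (A : Type u) [CommRing A] [IsDomain A] [ValuationRing A]
    (X : Scheme.{u}) [IsIntegral X] [X.IsSeparated] (f : X ⟶ Spec (CommRingCat.of A)) (hf : IsClosedMap f.base)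
    (x : X) (hx : f.base ⁻¹' {genericPoint (Spec (CommRingCat.of A))} = {x})
    (hres : Function.Bijective (f.residueFieldMap x).hom) : IsIso f := by
  have hfx : f x = genericPoint (Spec (CommRingCat.of A)) := by
    have : x ∈ f.base ⁻¹' {genericPoint (Spec (CommRingCat.of A))} := by rw [hx]; rfl
    exact this
  have hxg : x = genericPoint X := by
    have h1 : f (genericPoint X) ⤳ f x :=
      ((genericPoint_spec X).specializes (Set.mem_univ x)).map f.base.hom.2
    have h2 : f (genericPoint X) = genericPoint (Spec (CommRingCat.of A)) := by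
      refine (Specializes.antisymm ?_ ?_).eq
      · rw [← hfx]; exact h1
      · exact (genericPoint_spec _).specializes (Set.mem_univ _)
    have h3 : genericPoint X ∈ f.base ⁻¹' {genericPoint (Spec (CommRingCat.of A))} := h2
    rw [hx] at h3
    exact h3.symm
  subst hxg
  let Y : Scheme.{u} := Spec (CommRingCat.of A)
  let y : Y := IsLocalRing.closedPoint A
  -- the stalk map at the generic point is an isomorphism
  have hbij : Function.Bijective (f.stalkMap (genericPoint X)).hom := by
    have hF1 : IsField (Y.presheaf.stalk (f (genericPoint X))) := isField_stalk _ hfx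
    have hF2 : IsField (X.presheaf.stalk (genericPoint X)) := Field.toIsField X.functionField
    refine bij_of_residue _ (Y.residue (f (genericPoint X))) (X.residue (genericPoint X)) _
      (Scheme.residue_residueFieldMap f _) ⟨?_, ?_⟩ ?_ hres
    · let := hF1.toField
      exact RingHom.injective _
    · exact Scheme.residue_surjective _ _
    · let := hF2.toField
      exact RingHom.injective _
  have hiso : IsIso (f.stalkMap (genericPoint X)) := (ConcreteCategory.isIso_iff_bijective _).mpr hbij
  have hsp : f (genericPoint X) ⤳ genericPoint Y := by rw [hfx]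
  have hsp' : genericPoint Y ⤳ f (genericPoint X) := by rw [hfx]
  let c : X.presheaf.stalk (genericPoint X) ⟶ Y.presheaf.stalk (genericPoint Y) :=
    inv (f.stalkMap (genericPoint X)) ≫ Y.presheaf.stalkSpecializes hsp'
  let p : Spec (CommRingCat.of Y.functionField) ⟶ X := Spec.map c ≫ X.fromSpecStalk (genericPoint X)
  have hp1 : p ≫ f = Y.fromSpecStalk (genericPoint Y) := by
    change (Spec.map c ≫ X.fromSpecStalk (genericPoint X)) ≫ f = _
    rw [Category.assoc, ← Scheme.SpecMap_stalkMap_fromSpecStalk, ← Spec.map_comp_assoc]
    have : f.stalkMap (genericPoint X) ≫ c = Y.presheaf.stalkSpecializes hsp' := by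
      simp [c]
    rw [this, Scheme.SpecMap_stalkSpecializes_fromSpecStalk]
  have hp : p ≫ f = Spec.map (CommRingCat.ofHom (algebraMap (Y.presheaf.stalk y) Y.functionField)) ≫
      Y.fromSpecStalk y := by
    rw [hp1]
    exact (Scheme.SpecMap_stalkSpecializes_fromSpecStalk
      ((genericPoint_spec Y).specializes (Set.mem_univ y))).symm
  have hval : ValuationRing (Y.presheaf.stalk y) :=
    Function.Surjective.valuationRing
      (stalkClosedPointIso (CommRingCat.of A)).commRingCatIsoToRingEquiv.symm.toRingHom
      (stalkClosedPointIso (CommRingCat.of A)).commRingCatIsoToRingEquiv.symm.surjective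
  obtain ⟨q, hq1, hq2⟩ := Groth.Agent.Ega2.ClosedLift.exists_lift_of_isClosedMap f hf y Y.functionField p hp
  have hYiso : IsIso (Y.fromSpecStalk y) := by
    have := Spec_stalkClosedPointIso (CommRingCat.of A)
    rw [← this]
    infer_instance
  have hsf : (inv (Y.fromSpecStalk y) ≫ q) ≫ f = 𝟙 Y := by
    rw [Category.assoc, hq1, IsIso.inv_hom_id]
  have hciso : IsIso c := by
    have : IsIso (Y.presheaf.stalkSpecializes hsp') := isIso_stalkSpecializes hsp' hfx.symm
    infer_instance
  have hdom : IsDominant (X.fromSpecStalk (genericPoint X)) := by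
    constructor
    rw [DenseRange, dense_iff_closure_eq]
    apply Set.eq_univ_of_univ_subset
    rw [← (genericPoint_spec X).def]
    apply closure_mono
    rw [Set.singleton_subset_iff, Scheme.range_fromSpecStalk]
    exact specializes_rfl
  have hfs : f ≫ (inv (Y.fromSpecStalk y) ≫ q) = 𝟙 X := by
    apply ext_of_isDominant (X.fromSpecStalk (genericPoint X))
    rw [← cancel_epi (Spec.map c)]
    have e1 : Spec.map c ≫ X.fromSpecStalk (genericPoint X) ≫ f ≫ (inv (Y.fromSpecStalk y) ≫ q) =
        (p ≫ f) ≫ inv (Y.fromSpecStalk y) ≫ q := by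
      simp only [p, Category.assoc]
    have e2 : Spec.map c ≫ X.fromSpecStalk (genericPoint X) ≫ 𝟙 X = p := by
      simp only [p, Category.comp_id]
    refine e1.trans (Eq.trans ?_ e2.symm)
    rw [hp, Category.assoc, IsIso.hom_inv_id_assoc, hq2]
  exact ⟨⟨_, hfs, hsf⟩⟩

end Groth.Agent.S2342
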