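import Groth.Statements.S2343
import Groth.Agent.Ega2.CompleteFinite
import Mathlib.AlgebraicGeometry.ZariskisMainTheorem

set_option autoImplicit false
universe u
open CategoryTheory CategoryTheory.Limits AlgebraicGeometry
open EGA2

namespace Groth.Agent.S2343

/-- EGA II, 6.2.5: let A be a complete Noetherian local ring, X a separated scheme locally of finite type over Spec A, and x a point of X over the closed point which is isolated in its fibre. Then the local ring of X at x is a finite A-module and the canonical morphism Spec O_{X,x} → X is both an open and a closed immersion (X is the disjoint sum of Spec O_{X,x} and another open subscheme). -/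
theorem result (A : Type u) [CommRing A] [IsLocalRing A] [IsNoetherianRing A]
    [IsAdicComplete (IsLocalRing.maximalIdeal A) A] (X : Scheme.{u}) (f : X ⟶ Spec (CommRingCat.of A)) [LocallyOfFiniteType f] [IsSeparated f]
    (x : X) (hx : f.base x = IsLocalRing.closedPoint A)
    (hisol : IsOpen ((Subtype.val : (f.base ⁻¹' {IsLocalRing.closedPoint A}) → X) ⁻¹' {x})) :
    ((Scheme.ΓSpecIso (CommRingCat.of A)).inv ≫ f.appTop ≫ X.presheaf.germ ⊤ x trivial).hom.Finite ∧ IsOpenImmersion (X.fromSpecStalk x) ∧ IsClosedImmersion (X.fromSpecStalk x) := by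
  -- `f` is quasi-finite at `x`
  have hqf : f.QuasiFiniteAt x := by
    rw [Scheme.Hom.quasiFiniteAt_iff_isOpen_singleton_asFiber, ← (f.fiberHomeo (f x)).isOpen_image,
      Set.image_singleton]
    have h1 : (Subtype.val ⁻¹' {x} : Set (f ⁻¹' {f x})) = {(f.fiberHomeo (f x)) (f.asFiber x)} := by
      ext y
      simp only [Set.mem_singleton_iff, Set.mem_preimage]
      rw [Scheme.Hom.asFiber, Homeomorph.apply_symm_apply]
      exact ⟨fun h => Subtype.ext h, fun h => by rw [h]⟩
    rw [← h1]
    have hx' : f x = IsLocalRing.closedPoint A := hx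
    rw [hx']
    exact hisol
  obtain ⟨_, ⟨U, hU', rfl⟩, hxU, -⟩ :=
    X.isBasis_affineOpens.exists_subset_of_mem_open (Set.mem_univ x) isOpen_univ
  have hU : IsAffineOpen U := hU'
  clear hU'
  have hxU : x ∈ U := hxU
  let φ' : CommRingCat.of A ⟶ Γ(X, U) := (Scheme.ΓSpecIso (CommRingCat.of A)).inv ≫ f.appLE ⊤ U le_top
  have hφ' : Spec.map φ' = hU.fromSpec ≫ f := by
    have := IsAffineOpen.SpecMap_appLE_fromSpec f (isAffineOpen_top (Spec (CommRingCat.of A))) hU le_top
    rw [← this, IsAffineOpen.fromSpec_top, Scheme.isoSpec_Spec_inv]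
    simp [φ', ← Spec.map_comp]
  let P : PrimeSpectrum Γ(X, U) := hU.primeIdealOf ⟨x, hxU⟩
  letI alg : Algebra A Γ(X, U) := φ'.hom.toAlgebra
  have hinv : Function.Bijective (Scheme.ΓSpecIso (CommRingCat.of A)).inv.hom :=
    ConcreteCategory.bijective_of_isIso (Scheme.ΓSpecIso (CommRingCat.of A)).inv
  have hft : Algebra.FiniteType A Γ(X, U) := by
    have h1 : (f.appLE ⊤ U le_top).hom.FiniteType :=
      f.finiteType_appLE (isAffineOpen_top _) hU le_top
    exact h1.comp (RingHom.FiniteType.of_surjective _ hinv.2)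
  have hqP : Algebra.QuasiFiniteAt A P.asIdeal := by
    have h1 := hqf.quasiFiniteAt hU (isAffineOpen_top (Spec (CommRingCat.of A))) le_top hxU
    have h2 : ((algebraMap Γ(X, U) (Localization.AtPrime P.asIdeal)).comp
        (f.appLE ⊤ U le_top).hom).QuasiFinite := by
      algebraize [(f.appLE ⊤ U le_top).hom]
      rw [RingHom.QuasiFiniteAt, Algebra.QuasiFiniteAt, ← RingHom.quasiFinite_algebraMap] at h1
      exact h1
    have h3 := h2.comp (RingHom.QuasiFinite.of_finite
      (RingHom.Finite.of_surjective (Scheme.ΓSpecIso (CommRingCat.of A)).inv.hom hinv.2))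
    rw [Algebra.QuasiFiniteAt, ← RingHom.quasiFinite_algebraMap]
    exact h3
  have hP : P.asIdeal.comap (algebraMap A Γ(X, U)) = IsLocalRing.maximalIdeal A := by
    have h1 : (Spec.map φ') P = IsLocalRing.closedPoint A := by
      rw [hφ']
      change f (hU.fromSpec P) = _
      rw [hU.fromSpec_primeIdealOf]
      exact hx
    exact congrArg PrimeSpectrum.asIdeal h1
  obtain ⟨e, he, heP, hdiv, S', hS', hmul⟩ :=
    Groth.Agent.Ega2.CompleteFinite.exists_idempotent_of_quasiFiniteAt P.asIdeal hP
  letI := X.presheaf.algebra_section_stalk ⟨x, hxU⟩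
  have hloc : IsLocalization.AtPrime (X.presheaf.stalk x) P.asIdeal := hU.isLocalization_stalk ⟨x, hxU⟩
  have haway : IsLocalization.Away e (X.presheaf.stalk x) := by
    have h1 : IsLocalization P.asIdeal.primeCompl (Localization.Away e) := by
      refine IsLocalization.of_le_of_exists_dvd (Submonoid.powers e) P.asIdeal.primeCompl ?_ ?_
      · rw [Submonoid.powers_le]; exact heP
      · intro n hn
        exact ⟨e, Submonoid.mem_powers e, hdiv n hn⟩
    exact IsLocalization.isLocalization_of_algEquiv _
      (IsLocalization.algEquiv P.asIdeal.primeCompl (Localization.Away e) (X.presheaf.stalk x))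
  have hopen : IsOpenImmersion (X.fromSpecStalk x) := by
    rw [← hU.fromSpecStalk_eq_fromSpecStalk hxU]
    have h1 : IsOpenImmersion (Spec.map (X.presheaf.germ U x hxU)) :=
      (IsOpenImmersion.of_isLocalization (R := Γ(X, U)) (S := X.presheaf.stalk x) e :)
    exact inferInstanceAs (IsOpenImmersion (Spec.map (X.presheaf.germ U x hxU) ≫ hU.fromSpec))
  have hfin : ((algebraMap Γ(X, U) (X.presheaf.stalk x)).comp (algebraMap A Γ(X, U))).Finite := by
    have h1 : Module.Finite A S' := ⟨(Submodule.fg_top _).mpr hS'⟩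
    have h2 : (algebraMap A S').Finite := RingHom.finite_algebraMap.mpr h1
    have h3 : Function.Surjective ((algebraMap Γ(X, U) (X.presheaf.stalk x)).comp (algebraMap S' Γ(X, U))) := by
      have he1 : algebraMap Γ(X, U) (X.presheaf.stalk x) e = 1 := by
        have hu := IsLocalization.Away.algebraMap_isUnit (S := X.presheaf.stalk x) e
        have h4 : algebraMap Γ(X, U) (X.presheaf.stalk x) e * algebraMap Γ(X, U) (X.presheaf.stalk x) e =
            algebraMap Γ(X, U) (X.presheaf.stalk x) e := by rw [← map_mul, he.eq]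
        exact hu.mul_right_cancel (by rw [h4, one_mul])
      intro y
      obtain ⟨s, ⟨_, k, rfl⟩, rfl⟩ := IsLocalization.exists_mk'_eq (Submonoid.powers e) y
      refine ⟨⟨e * s, hmul s⟩, ?_⟩
      change algebraMap Γ(X, U) (X.presheaf.stalk x) (e * s) = _
      rw [map_mul, he1, one_mul, eq_comm, IsLocalization.mk'_eq_iff_eq_mul]
      simp [he1]
    have h4 := (RingHom.Finite.of_surjective _ h3).comp h2
    exact h4
  have hgerm : (Scheme.ΓSpecIso (CommRingCat.of A)).inv ≫ f.appTop ≫ X.presheaf.germ ⊤ x trivial =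
      φ' ≫ X.presheaf.germ U x hxU := by
    have h1 : f.appLE ⊤ U le_top = f.appTop ≫ X.presheaf.map (homOfLE le_top).op := rfl
    simp only [φ', Category.assoc, h1]
    congr 2
    exact (TopCat.Presheaf.germ_res X.presheaf (homOfLE le_top) x hxU).symm
  refine ⟨?_, hopen, ?_⟩
  · rw [hgerm]; exact hfin
  · have h1 : IsFinite (X.fromSpecStalk x ≫ f) := by
      have h2 : X.fromSpecStalk x ≫ f = Spec.map (φ' ≫ X.presheaf.germ U x hxU) := by
        rw [← hU.fromSpecStalk_eq_fromSpecStalk hxU, IsAffineOpen.fromSpecStalk, Category.assoc, ← hφ',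
          ← Spec.map_comp]
      rw [h2, IsFinite.SpecMap_iff]
      exact hfin
    have h3 : IsFinite (X.fromSpecStalk x) := IsFinite.of_comp _ f
    rw [IsClosedImmersion.iff_isFinite_and_mono]
    exact ⟨h3, inferInstance⟩

end Groth.Agent.S2343
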