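import Groth.Statements.S2346
import Mathlib.AlgebraicGeometry.Morphisms.Finite
import Mathlib.AlgebraicGeometry.Noetherian
import Mathlib.AlgebraicGeometry.Stalk

set_option autoImplicit false
universe u
open CategoryTheory CategoryTheory.Limits AlgebraicGeometry
open EGA2

namespace Groth.Agent.S2346

/-- chain of three distinct points specialising one to the other, the last one having local ring of
dimension `≤ 1`: impossible. -/
theorem eq_or_eq_of_specializes (X : Scheme.{u}) (a b c : X) (h1 : a ⤳ b) (h2 : b ⤳ c)
    (hc : ringKrullDim (X.presheaf.stalk c) ≤ 1) : a = b ∨ b = c := by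
  by_contra hne
  push Not at hne
  obtain ⟨hab, hbc⟩ := hne
  rw [ringKrullDim_stalk_eq_coheight] at hc
  have l1 : b < a := ⟨h1, fun h => hab (h1.antisymm h).eq⟩
  have l2 : c < b := ⟨h2, fun h => hbc (h2.antisymm h).eq⟩
  have e1 := Order.coheight_add_one_le l1
  have e2 := Order.coheight_add_one_le l2
  have e3 : (2 : ℕ∞) ≤ Order.coheight c :=
    calc (2 : ℕ∞) = 0 + 1 + 1 := by norm_num
      _ ≤ Order.coheight a + 1 + 1 := by gcongr; exact zero_le
      _ ≤ Order.coheight b + 1 := by gcongr
      _ ≤ Order.coheight c := e2
  have e4 : Order.coheight c ≤ 1 := by exact_mod_cast hc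
  exact absurd (e3.trans e4) (by decide)

/-- In an irreducible scheme, quasi-compact, with all the local rings at closed points of dimension one,
every point is either generic or closed. -/
theorem eq_genericPoint_or_isClosed (X : Scheme.{u}) [IrreducibleSpace X] [JacobsonSpace X]
    (hX : ∀ x : X, IsClosed ({x} : Set X) → ringKrullDim (X.presheaf.stalk x) = 1) (x : X) :
    x = genericPoint X ∨ IsClosed ({x} : Set X) := by
  obtain ⟨c, hc, hcl⟩ := nonempty_inter_closedPoints (X := X) (Z := closure {x})
    ⟨x, subset_closure rfl⟩ isClosed_closure.isLocallyClosed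
  rcases eq_or_eq_of_specializes X (genericPoint X) x c (genericPoint_specializes x)
    (specializes_iff_mem_closure.mpr hc) (hX c hcl).le with h | h
  · exact Or.inl h.symm
  · exact Or.inr (h ▸ hcl)

/-- the generic point of a curve is not closed. -/
theorem not_isClosed_genericPoint (X : Scheme.{u}) [IrreducibleSpace X]
    (hX : ∀ x : X, IsClosed ({x} : Set X) → ringKrullDim (X.presheaf.stalk x) = 1) :
    ¬ IsClosed ({genericPoint X} : Set X) := by
  intro h
  have h1 := hX _ h
  rw [ringKrullDim_stalk_eq_coheight] at h1
  have h0 : Order.coheight (genericPoint X) = 0 :=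
    Order.coheight_eq_zero.mpr fun y _ => genericPoint_specializes y
  rw [h0] at h1
  exact absurd h1 (by decide)

/-- Proper closed subsets of a curve are finite -/
theorem finite_of_isClosed (X : Scheme.{u}) [IrreducibleSpace X] [JacobsonSpace X]
    [TopologicalSpace.NoetherianSpace X]
    (hX : ∀ x : X, IsClosed ({x} : Set X) → ringKrullDim (X.presheaf.stalk x) = 1)
    (Z : Set X) (hZ : IsClosed Z) (hη : genericPoint X ∉ Z) : Z.Finite := by
  obtain ⟨S, hS, hcl, hirr, hZS⟩ := TopologicalSpace.NoetherianSpace.exists_finite_set_isClosed_irreducible hZ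
  rw [hZS]
  refine hS.sUnion fun t ht => ?_
  obtain ⟨z, hz⟩ := QuasiSober.sober (hirr t ht) (hcl t ht)
  have hzt : z ∈ t := by rw [← hz.def]; exact subset_closure rfl
  rcases eq_genericPoint_or_isClosed X hX z with h | h
  · exact absurd (by rw [hZS]; exact ⟨t, ht, h ▸ hzt⟩) hη
  · have : t = {z} := by rw [← hz.def]; exact h.closure_eq
    rw [this]
    exact Set.finite_singleton z

/-- EGA II, 7.4.4: let X and Y be irreducible algebraic curves over k (separated, of finite type, local rings at closed points one-dimensional) and f : X → Y a k-morphism. Then f is dominant if and only if every fibre f⁻¹(y) is a finite set. -/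
theorem result (k : Type u) [Field k] (X Y : Scheme.{u}) [X.Over (Spec (CommRingCat.of k))] [Y.Over (Spec (CommRingCat.of k))]
    [LocallyOfFiniteType (X ↘ (Spec (CommRingCat.of k)))] [QuasiCompact (X ↘ (Spec (CommRingCat.of k)))] [IsSeparated (X ↘ (Spec (CommRingCat.of k)))] [LocallyOfFiniteType (Y ↘ (Spec (CommRingCat.of k)))] [QuasiCompact (Y ↘ (Spec (CommRingCat.of k)))] [IsSeparated (Y ↘ (Spec (CommRingCat.of k)))] [IrreducibleSpace X] [IrreducibleSpace Y]
    (hX : (∀ x : X, IsClosed ({x} : Set X) → ringKrullDim (X.presheaf.stalk x) = 1)) (hY : (∀ x : Y, IsClosed ({x} : Set Y) → ringKrullDim (Y.presheaf.stalk x) = 1))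
    (f : X ⟶ Y) (hf : f ≫ (Y ↘ (Spec (CommRingCat.of k))) = X ↘ (Spec (CommRingCat.of k))) :
    IsDominant f ↔ ∀ y : Y, (f.base ⁻¹' {y}).Finite := by
  have hJX : JacobsonSpace X := LocallyOfFiniteType.jacobsonSpace (X ↘ (Spec (CommRingCat.of k)))
  have hJY : JacobsonSpace Y := LocallyOfFiniteType.jacobsonSpace (Y ↘ (Spec (CommRingCat.of k)))
  have hfft : LocallyOfFiniteType f := by
    have : LocallyOfFiniteType (f ≫ (Y ↘ (Spec (CommRingCat.of k)))) := by rw [hf]; infer_instance
    exact locallyOfFiniteType_of_comp f (Y ↘ (Spec (CommRingCat.of k)))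
  have hNX : IsLocallyNoetherian X := LocallyOfFiniteType.isLocallyNoetherian (X ↘ (Spec (CommRingCat.of k)))
  have hCX : CompactSpace X := by
    have := QuasiCompact.compactSpace_of_compactSpace (X ↘ (Spec (CommRingCat.of k)))
    exact this
  have hNoethX : IsNoetherian X := {}
  constructor
  · intro hdom y
    have hfη : f.base (genericPoint X) = genericPoint Y := by
      have h1 := (genericPoint_spec X).image f.continuous
      rw [Set.image_univ, f.denseRange.closure_range] at h1
      exact h1.eq (genericPoint_spec Y)
    rcases eq_genericPoint_or_isClosed Y hY y with hy | hy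
    · subst hy
      refine (Set.finite_singleton (genericPoint X)).subset fun x hx => ?_
      rcases eq_genericPoint_or_isClosed X hX x with h | h
      · exact h
      · have := Scheme.Hom.closePoints_subset_preimage_closedPoints f h
        rw [Set.mem_preimage, mem_closedPoints_iff] at this
        exact absurd (by rw [← show f.base x = genericPoint Y from hx]; exact this)
          (not_isClosed_genericPoint Y hY)
    · refine finite_of_isClosed X hX _ (hy.preimage f.continuous) fun h => ?_
      exact not_isClosed_genericPoint Y hY (by rw [← hfη, show f.base (genericPoint X) = y from h]; exact hy)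
  · intro hfin
    by_contra hnd
    rcases eq_genericPoint_or_isClosed Y hY (f.base (genericPoint X)) with h | h
    · apply hnd
      refine ⟨?_⟩
      refine dense_iff_closure_eq.mpr (Set.eq_univ_of_univ_subset ?_)
      rw [← genericPoint_closure (α := Y), ← h]
      exact closure_mono (Set.singleton_subset_iff.mpr ⟨_, rfl⟩)
    · have hall : f.base ⁻¹' {f.base (genericPoint X)} = Set.univ := by
        refine Set.eq_univ_of_univ_subset ?_
        rw [← genericPoint_closure (α := X)]
        exact (h.preimage f.continuous).closure_subset_iff.mpr (Set.singleton_subset_iff.mpr rfl)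
      have hXfin : Finite X := by
        rw [← Set.finite_univ_iff, ← hall]
        exact hfin _
      exact not_isClosed_genericPoint X hX (isClosed_discrete _)

end Groth.Agent.S2346
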