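import Groth.Statements.S2349
-- import your own Groth.Agent.* helpers here

set_option autoImplicit false
universe u
open CategoryTheory CategoryTheory.Limits AlgebraicGeometry
open EGA2

namespace Groth.Agent.S2349

/-- EGA II, 5.4.5: let f : X → Y be separated and of finite type, and let j_i : X_i → X and h_i : Y_i → Y (i in a finite index type) be closed immersions with morphisms f_i : X_i → Y_i satisfying j_i ≫ f = f_i ≫ h_i, such that the images of the j_i cover X. Then f is proper if and only if every f_i is proper. -/
theorem result {X Y : Scheme.{u}} (f : X ⟶ Y) [IsSeparated f] [LocallyOfFiniteType f] [QuasiCompact f]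
    (ι : Type u) [Finite ι] (Xi Yi : ι → Scheme.{u}) (j : ∀ i, Xi i ⟶ X) (h : ∀ i, Yi i ⟶ Y) (fi : ∀ i, Xi i ⟶ Yi i)
    [∀ i, IsClosedImmersion (j i)] [∀ i, IsClosedImmersion (h i)] (hcomm : ∀ i, j i ≫ f = fi i ≫ h i)
    (hcov : ∀ x : X, ∃ i, x ∈ Set.range (j i).base) : IsProper f ↔ ∀ i, IsProper (fi i) := by
  constructor
  · intro hf i
    have h1 : IsProper (fi i ≫ h i) := by
      rw [← hcomm i]; infer_instance
    exact IsProper.of_comp (fi i) (h i)
  · intro hfi
    have hu : UniversallyClosed f := by
      constructor
      intro X' Y' i₁ i₂ f' H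
      intro C hC
      have key : f' '' C = ⋃ i, (pullback.fst i₁ (j i) ≫ f').base '' ((pullback.fst i₁ (j i)).base ⁻¹' C) := by
        ext y
        simp only [Set.mem_image, Set.mem_iUnion]
        constructor
        · rintro ⟨x, hx, rfl⟩
          obtain ⟨i, z, hz⟩ := hcov (i₁ x)
          obtain ⟨w, hw1, hw2⟩ := Scheme.Pullback.exists_preimage_pullback (f := i₁) (g := j i) x z hz.symm
          refine ⟨i, w, ?_, ?_⟩
          · change (pullback.fst i₁ (j i)) w ∈ C
            rw [hw1]; exact hx
          · change (pullback.fst i₁ (j i) ≫ f') w = _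
            rw [Scheme.Hom.comp_apply, hw1]
        · rintro ⟨i, w, hw, rfl⟩
          exact ⟨(pullback.fst i₁ (j i)) w, hw, by
            change _ = (pullback.fst i₁ (j i) ≫ f') w
            rw [Scheme.Hom.comp_apply]⟩
      rw [key]
      apply isClosed_iUnion_of_finite
      intro i
      have h1 : IsProper (j i ≫ f) := by
        rw [hcomm i]
        have := hfi i
        infer_instance
      have h2 : topologically @IsClosedMap (pullback.fst i₁ (j i) ≫ f') :=
        UniversallyClosed.universally_isClosedMap _ _ _
          ((IsPullback.of_hasPullback i₁ (j i)).paste_horiz H)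
      exact h2 _ (hC.preimage (pullback.fst i₁ (j i)).continuous)
    exact { }

end Groth.Agent.S2349
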