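import Groth.Statements.S2353
import Groth.Agent.Ega2.DVRFunctionField

set_option autoImplicit false
universe u
open CategoryTheory CategoryTheory.Limits AlgebraicGeometry
open EGA2

namespace Groth.Agent.S2353

/-- EGA II, 7.3.10 (ii), locally Noetherian case: let Y be an integral separated locally Noetherian scheme, X an integral separated scheme and f : X → Y dominant and of finite type, with generic point ξ of X. Suppose that for every discrete valuation subring R of the function field K(X) and every point y of Y such that R dominates the local ring O_{Y,y} (through O_{Y,y} → O_{Y,f(ξ)} → K(X): the image lies in R and the maximal ideal maps into the maximal ideal of R), there is a point x of X whose local ring is dominated by R (through O_{X,x} → K(X)). Then f is proper. -/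
theorem result {X Y : Scheme.{u}} [IsIntegral X] [IsIntegral Y] [X.IsSeparated] [Y.IsSeparated]
    [IsLocallyNoetherian Y] (f : X ⟶ Y) [IsDominant f] [LocallyOfFiniteType f] [QuasiCompact f]
    (h : ∀ (R : ValuationSubring X.functionField), IsDiscreteValuationRing R →
      ∀ (y : Y) (hy : f.base (genericPoint X) ⤳ y), ((∀ a : (Y.presheaf.stalk y), (Y.presheaf.stalkSpecializes hy ≫ f.stalkMap (genericPoint X)).hom a ∈ R) ∧ ∀ a ∈ IsLocalRing.maximalIdeal (Y.presheaf.stalk y), R.valuation ((Y.presheaf.stalkSpecializes hy ≫ f.stalkMap (genericPoint X)).hom a) < 1) →
        ∃ x : X, ((∀ a : (X.presheaf.stalk x), algebraMap (X.presheaf.stalk x) X.functionField a ∈ R) ∧ ∀ a ∈ IsLocalRing.maximalIdeal (X.presheaf.stalk x), R.valuation (algebraMap (X.presheaf.stalk x) X.functionField a) < 1)) :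
    IsProper f := by
  have hex : ValuativeCriterion.Existence f := by
    apply Groth.Agent.Ega2.DVRFunctionField.existence_of_generic
    intro V₀ i₂ hi₂
    refine Groth.Agent.Ega2.DVRCriterion.exists_lift_of_dvr f X.functionField
      (X.fromSpecStalk (genericPoint X)) ∅ ?_ V₀ i₂ hi₂ ?_
    · have hsurj : Function.Surjective (Scheme.stalkClosedPointTo
          (R := X.functionField) (X.fromSpecStalk (genericPoint X))).hom := by
        rw [Scheme.stalkClosedPointTo_fromSpecStalk]
        exact (ConcreteCategory.bijective_of_isIso
          (X.presheaf.stalkCongr (by rw [Scheme.fromSpecStalk_closedPoint]; rfl)).hom).2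
      rw [eq_top_iff]
      exact fun x _ => Subfield.subset_closure (Or.inl (hsurj x))
    · intro V hV j₂ hj₂ _
      set y : Y := j₂ (IsLocalRing.closedPoint V) with hy_def
      let st : Y.presheaf.stalk y ⟶ CommRingCat.of V :=
        Scheme.stalkClosedPointTo (R := CommRingCat.of V) j₂
      have hst : Spec.map st ≫ Y.fromSpecStalk y = j₂ :=
        Scheme.Spec_stalkClosedPointTo_fromSpecStalk (R := CommRingCat.of V) j₂
      have hstloc : IsLocalHom st.hom :=
        Scheme.isLocalHom_stalkClosedPointTo (R := CommRingCat.of V) j₂
      have hfη : f (genericPoint X) = j₂ ((Spec.map (CommRingCat.ofHom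
          (algebraMap V X.functionField))) (IsLocalRing.closedPoint X.functionField)) := by
        have h1 := congrArg (fun g : Spec X.functionField ⟶ Y =>
          g (IsLocalRing.closedPoint X.functionField)) hj₂
        have h2 : (X.fromSpecStalk (genericPoint X) ≫ f)
            (IsLocalRing.closedPoint X.functionField) = f (genericPoint X) :=
          congrArg f (Scheme.fromSpecStalk_closedPoint (X := X) (x := genericPoint X))
        exact h2.symm.trans h1
      have hy : f.base (genericPoint X) ⤳ y := by
        have h1 := (IsLocalRing.specializes_closedPoint (R := V) ((Spec.map (CommRingCat.ofHom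
          (algebraMap V X.functionField))) (IsLocalRing.closedPoint X.functionField))).map
          j₂.continuous
        rw [← hfη] at h1
        exact h1
      have key : Y.presheaf.stalkSpecializes hy ≫ f.stalkMap (genericPoint X) =
          st ≫ CommRingCat.ofHom (algebraMap V X.functionField) := by
        have h1 : Spec.map (Y.presheaf.stalkSpecializes hy ≫ f.stalkMap (genericPoint X)) ≫
            Y.fromSpecStalk y = Spec.map (st ≫ CommRingCat.ofHom
              (algebraMap V X.functionField)) ≫ Y.fromSpecStalk y := by
          rw [Spec.map_comp, Category.assoc, Scheme.SpecMap_stalkSpecializes_fromSpecStalk,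
            Scheme.SpecMap_stalkMap_fromSpecStalk, Spec.map_comp, Category.assoc, hst, hj₂]
        rw [cancel_mono] at h1
        exact Spec.map_injective h1
      have hval : ∀ a, (Y.presheaf.stalkSpecializes hy ≫ f.stalkMap (genericPoint X)).hom a =
          (st.hom a : X.functionField) := fun a => congr($(key).hom a)
      obtain ⟨x, hx1, -⟩ := h V hV y hy ⟨fun a => by
          rw [hval]
          exact (st.hom a).2, fun a ha => by
          rw [hval]
          rw [← V.valuation_lt_one_iff]
          intro hu
          exact ha (hstloc.map_nonunit _ hu)⟩
      have hη : genericPoint X ⤳ x := (genericPoint_spec X).specializes trivial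
      let φ₀ : X.presheaf.stalk x →+* V :=
        (algebraMap (X.presheaf.stalk x) X.functionField).codRestrict V.toSubring hx1
      have hφ₀ : CommRingCat.ofHom φ₀ ≫ CommRingCat.ofHom (algebraMap V X.functionField) =
          X.presheaf.stalkSpecializes hη := rfl
      have hfin : Spec.map (CommRingCat.ofHom (algebraMap V X.functionField)) ≫
          Spec.map (CommRingCat.ofHom φ₀) ≫ X.fromSpecStalk x =
          X.fromSpecStalk (genericPoint X) := by
        rw [← Category.assoc, ← Spec.map_comp, hφ₀, Scheme.SpecMap_stalkSpecializes_fromSpecStalk]
      refine ⟨Spec.map (CommRingCat.ofHom φ₀) ≫ X.fromSpecStalk x, ?_, hfin⟩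
      apply Groth.Agent.Ega2.DVRFunctionField.hom_ext_of_fractionField (A := V)
        (K := X.functionField) Subtype.val_injective
      rw [← hj₂, ← hfin]
      simp only [Category.assoc]
  have h1 : UniversallyClosed f := .of_valuativeCriterion f hex
  exact {}

end Groth.Agent.S2353
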