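import Groth.Statements.S2358
import Groth.Agent.Ega2.Normal

set_option autoImplicit false
universe u
open CategoryTheory CategoryTheory.Limits AlgebraicGeometry
open EGA2

namespace Groth.Agent.S2358

/-- EGA II, 6.1.14 (integral base): let X be an integral normal scheme, g : X' → X an integral morphism, U a dense open of X and s : U → X' a section of g over U. Then there is a section of g over all of X extending s. -/
theorem result {X X' : Scheme.{u}} [IsIntegral X] (hX : Pi1.IsNormalScheme X)
    (g : X' ⟶ X) [IsIntegralHom g] (U : X.Opens) (hU : Dense (U : Set X)) (s : (U : Scheme.{u}) ⟶ X') (hs : s ≫ g = U.ι) :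
    ∃ s' : X ⟶ X', s' ≫ g = 𝟙 X ∧ U.ι ≫ s' = s :=
  Ega2.Normal.exists_section_extending hX g U hU.nonempty s hs

end Groth.Agent.S2358
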