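import Groth.Statements.S2549
import Groth.Agent.Ega43.GeomRedMain
-- import your own Groth.Agent.* helpers here

set_option autoImplicit false
open CategoryTheory AlgebraicGeometry
universe u
open EGA43

namespace Groth.Agent.S2549

/-- EGA IV 12.1.1 (vii), for the structure sheaf: let f : X ⟶ Y be flat and locally of finite presentation. The set of points x of X such that the fibre of f through x, as a scheme over the residue field of f x, is geometrically reduced at x is open in X. -/
theorem result {X Y : Scheme.{u}} (f : X ⟶ Y) [Flat f]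
    [LocallyOfFinitePresentation f] :
    IsOpen {x : X | FBase.IsGeomReducedAt (f.fiberToSpecResidueField (f.base x)) (f.asFiber x)} := by
  have hP := Groth.Agent.Ega43.GeomRedMain.isoClosed_isReduced.{u}
  have hset : {x : X | FBase.IsGeomReducedAt (f.fiberToSpecResidueField (f.base x)) (f.asFiber x)} =
      {x : X | Groth.Agent.Ega43.GeomAt.GeomAt (fun R _ => _root_.IsReduced R) f x} := by
    ext x
    exact Groth.Agent.Ega43.GeomAt.geomAt_fiber_iff hP f x
  rw [hset]
  refine Groth.Agent.Ega43.GeomAt.isOpen_geomAt hP f ?_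
  intro V hV U hU e
  let : Algebra Γ(Y, V) Γ(X, U) := (f.appLE V U e).hom.toAlgebra
  have h1 : Algebra.FinitePresentation Γ(Y, V) Γ(X, U) := f.finitePresentation_appLE hV hU e
  have h2 : Module.Flat Γ(Y, V) Γ(X, U) := f.flat_appLE hV hU e
  have h3 := Groth.Agent.Ega43.GeomRedMain.isOpen_geomAtAlg_isReduced (A := Γ(Y, V)) (B := Γ(X, U))
  have hset2 : {x : Spec Γ(X, U) | Groth.Agent.Ega43.GeomAt.GeomAt (fun R _ => _root_.IsReduced R)
      (Spec.map (f.appLE V U e)) x} = {q : PrimeSpectrum Γ(X, U) |
      Groth.Agent.Ega43.GeomAt.GeomAtAlg (fun R _ => _root_.IsReduced R) Γ(Y, V) Γ(X, U) q.asIdeal} := by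
    ext q
    exact Groth.Agent.Ega43.GeomAt.geomAt_Spec_iff hP Γ(Y, V) Γ(X, U) q
  rw [hset2]
  exact h3

end Groth.Agent.S2549
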