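import Groth.Statements.S2556
import Groth.Agent.Ega43.OpenUnivMain

set_option autoImplicit false
open CategoryTheory AlgebraicGeometry
universe u
open EGA43

namespace Groth.Agent.S2556

/-- EGA IV 14.4.3 (a ⇔ c): let Y be a locally Noetherian scheme all of whose local rings are geometrically unibranch and f : X ⟶ Y a morphism locally of finite type. Then f is universally open if and only if its underlying map is open. -/
theorem result {X Y : Scheme.{u}} [IsLocallyNoetherian Y]
    (hY : ∀ y : Y, CAlg2.IsGeomUnibranch (Y.presheaf.stalk y)) (f : X ⟶ Y) [LocallyOfFiniteType f] :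
    UniversallyOpen f ↔ IsOpenMap f.base :=
  ⟨fun _ => f.isOpenMap, fun h => Ega43.OpenUniv.universallyOpen_of_isOpenMap hY f h⟩

end Groth.Agent.S2556
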