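import Groth.Statements.S2558
-- import your own Groth.Agent.* helpers here
import Groth.Agent.Ega43.UnivOpenAffine

set_option autoImplicit false
open CategoryTheory AlgebraicGeometry
universe u
open EGA43

namespace Groth.Agent.S2558

open CategoryTheory.Limits in
lemma exists_closure_subscheme {Y : Scheme.{u}} (y : Y) :
    ∃ (Z : Scheme.{u}) (i : Z ⟶ Y) (z : Z), IsClosedImmersion i ∧ closure {z} = Set.univ ∧ i z = y ∧
      Set.range i = closure {y} := by
  let C : TopologicalSpace.Closeds Y := ⟨closure {y}, isClosed_closure⟩
  let I := Scheme.IdealSheafData.vanishingIdeal C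
  have hr : Set.range I.subschemeι = closure {y} := by
    rw [Scheme.IdealSheafData.range_subschemeι, Scheme.IdealSheafData.coe_support_vanishingIdeal]
    rfl
  have hy : y ∈ Set.range I.subschemeι := by rw [hr]; exact subset_closure rfl
  obtain ⟨z, hz⟩ := hy
  refine ⟨I.subscheme, I.subschemeι, z, inferInstance, ?_, hz, hr⟩
  rw [Set.eq_univ_iff_forall]
  intro w
  rw [← specializes_iff_mem_closure, ← I.subschemeι.isEmbedding.specializes_iff, hz,
    specializes_iff_mem_closure, ← hr]
  exact ⟨w, rfl⟩

open CategoryTheory.Limits in
lemma generalizingMap_of_components_dominate {X Y : Scheme.{u}} (f : X ⟶ Y)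
    (h : ∀ (Y' : Scheme.{u}) (g : Y' ⟶ Y) [IrreducibleSpace Y'] [LocallyOfFiniteType g] [QuasiCompact g],
      ∀ Z ∈ irreducibleComponents (↥(pullback f g) : Type u), Dense ((pullback.snd f g).base '' Z))
    {X' Y' : Scheme.{u}} (f' : X' ⟶ Y') (pX : X' ⟶ X) (pY : Y' ⟶ Y) (hp : IsPullback f' pX pY f)
    [LocallyOfFiniteType pY] [QuasiCompact pY] : GeneralizingMap f' := by
  intro a b hb
  obtain ⟨Z, i, η, hi, hη, hηb, hr⟩ := exists_closure_subscheme b
  have : IrreducibleSpace Z := by
    rw [irreducibleSpace_def]
    change IsIrreducible Set.univ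
    rw [← hη]
    exact isIrreducible_singleton.closure
  let g : Z ⟶ Y := i ≫ pY
  obtain ⟨z, hz⟩ : f' a ∈ Set.range i := by
    rw [hr, ← specializes_iff_mem_closure]
    exact hb
  -- the pullback
  let k : pullback f g ⟶ X' := hp.lift (pullback.snd f g ≫ i) (pullback.fst f g)
    (by rw [Category.assoc, pullback.condition])
  have hk : k ≫ pX = pullback.fst f g := hp.lift_snd _ _ _
  have hk' : k ≫ f' = pullback.snd f g ≫ i := hp.lift_fst _ _ _
  have hsq : IsPullback k (pullback.snd f g) f' i := by
    refine IsPullback.of_right (h₁₂ := pX) (h₂₂ := pY) (v₁₃ := f) ?_ hk' hp.flip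
    rw [hk]
    exact IsPullback.of_hasPullback f g
  obtain ⟨w, hwa, hwz⟩ := Scheme.exists_preimage_of_isPullback hsq a z hz.symm
  have hC := irreducibleComponent_mem_irreducibleComponents w
  have hd := h Z g _ hC
  obtain ⟨c, hc⟩ := QuasiSober.sober (isIrreducible_irreducibleComponent (x := w)) isClosed_irreducibleComponent
  have hcw : c ⤳ w := by
    rw [specializes_iff_mem_closure, hc.def]
    exact mem_irreducibleComponent
  refine ⟨k c, ?_, ?_⟩
  · have := hcw.map k.continuous
    have e : k w = a := hwa
    rwa [e] at this
  · have h1 : closure {pullback.snd f g c} = Set.univ := by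
      rw [Set.eq_univ_iff_forall]
      intro z'
      have : (pullback.snd f g).base '' (irreducibleComponent w) ⊆ closure {pullback.snd f g c} := by
        rintro _ ⟨w', hw', rfl⟩
        rw [← hc.def, ← specializes_iff_mem_closure] at hw'
        rw [← specializes_iff_mem_closure]
        exact hw'.map (pullback.snd f g).continuous
      exact closure_minimal this isClosed_closure (hd z')
    have h2 : pullback.snd f g c = η := by
      refine (Specializes.antisymm ?_ ?_).eq
      · rw [specializes_iff_mem_closure, h1]; trivial
      · rw [specializes_iff_mem_closure, hη]; trivial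
    have h3 : f' (k c) = i (pullback.snd f g c) := by
      rw [← Scheme.Hom.comp_apply, hk', Scheme.Hom.comp_apply]
    rw [h3, h2, hηb]

open CategoryTheory.Limits in
/-- EGA IV 14.3.2 (converse part): let f : X ⟶ Y be locally of finite presentation. Suppose that for every irreducible scheme Y' and every morphism of finite type g : Y' ⟶ Y, each irreducible component of X ×_Y Y' has dense image in Y'. Then f is universally open. -/
theorem result {X Y : Scheme.{u}} (f : X ⟶ Y) [LocallyOfFinitePresentation f]
    (h : ∀ (Y' : Scheme.{u}) (g : Y' ⟶ Y) [IrreducibleSpace Y'] [LocallyOfFiniteType g] [QuasiCompact g],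
      ∀ Z ∈ irreducibleComponents (↥(pullback f g) : Type u), Dense ((pullback.snd f g).base '' Z)) :
    UniversallyOpen f := by
  apply Ega43.UnivOpenAffine.universallyOpen_of_isOpenMap_affineSpace
  intro n
  have : LocallyOfFinitePresentation (AffineSpace.map (ULift.{u} (Fin n)) f) :=
    MorphismProperty.of_isPullback (AffineSpace.isPullback_map f).flip inferInstance
  apply isOpenMap_of_generalizingMap
  exact generalizingMap_of_components_dominate f h _ _ _ (AffineSpace.isPullback_map f)

end Groth.Agent.S2558
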