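import Groth.Statements.S2562
import Groth.Agent.Ega43.FlatDvrMain
import Groth.Agent.Flat2D.FlatAtPt
import Mathlib.AlgebraicGeometry.Morphisms.FiniteType

set_option autoImplicit false
open CategoryTheory AlgebraicGeometry
universe u
open EGA43

namespace Groth.Agent.S2562

open TensorProduct in
/-- flatness of the stalk map of `Spec S ⟶ Spec R` at a prime `Q` -/
theorem flat_localization_of_stalkMap {R S : Type u} [CommRing R] [CommRing S] [Algebra R S]
    (Q : PrimeSpectrum S)
    (h : ((Spec.map (CommRingCat.ofHom (algebraMap R S))).stalkMap Q).hom.Flat) :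
    Module.Flat R (Localization.AtPrime Q.asIdeal) := by
  have h1 := (RingHom.Flat.respectsIso.arrow_mk_iso_iff
    (Scheme.arrowStalkMapSpecIso (CommRingCat.ofHom (algebraMap R S)) Q)).1 h
  have h2 : (Localization.localRingHom (Q.asIdeal.comap (algebraMap R S)) Q.asIdeal
    (algebraMap R S) rfl).Flat := h1
  have h3 : (algebraMap R (Localization.AtPrime (Q.asIdeal.comap (algebraMap R S)))).Flat := by
    rw [RingHom.flat_algebraMap_iff]
    exact IsLocalization.flat _ (Q.asIdeal.comap (algebraMap R S)).primeCompl
  have h4 := h3.comp h2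
  have h5 : (Localization.localRingHom (Q.asIdeal.comap (algebraMap R S)) Q.asIdeal
      (algebraMap R S) rfl).comp
      (algebraMap R (Localization.AtPrime (Q.asIdeal.comap (algebraMap R S)))) =
      algebraMap R (Localization.AtPrime Q.asIdeal) := by
    ext r
    rw [RingHom.comp_apply, Localization.localRingHom_to_map]
    rfl
  rw [h5] at h4
  exact RingHom.flat_algebraMap_iff.1 h4

open TensorProduct CategoryTheory.Limits in
/-- key step: from the hypothesis on base changes to discrete valuation rings to the algebraic one. -/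
theorem flat_of_pullback {X Y : Scheme.{u}} (f : X ⟶ Y) (x : X) (V : Type u) [CommRing V]
    [IsLocalRing V] [Algebra (Y.presheaf.stalk (f.base x)) V]
    (φ : (Y.presheaf.stalk (f.base x) : Type u) →+* V)
    (hφ : φ = algebraMap (Y.presheaf.stalk (f.base x)) V)
    (h : ∀ x' : ↥(pullback f (Spec.map (CommRingCat.ofHom φ) ≫ Y.fromSpecStalk (f.base x))),
          (pullback.fst f _).base x' = x →
          (pullback.snd f _).base x' = IsLocalRing.closedPoint V →
          ((pullback.snd f (Spec.map (CommRingCat.ofHom φ) ≫ Y.fromSpecStalk (f.base x))).stalkMap x').hom.Flat) :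
    letI : Algebra (Y.presheaf.stalk (f.base x)) (X.presheaf.stalk x) :=
      (f.stalkMap x).hom.toAlgebra
    ∀ (Q : Ideal (V ⊗[Y.presheaf.stalk (f.base x)] (X.presheaf.stalk x))) [Q.IsPrime],
      Q.comap (algebraMap V (V ⊗[Y.presheaf.stalk (f.base x)] (X.presheaf.stalk x))) =
        IsLocalRing.maximalIdeal V →
      Q.comap (Algebra.TensorProduct.includeRight : (X.presheaf.stalk x) →ₐ[Y.presheaf.stalk (f.base x)]
        V ⊗[Y.presheaf.stalk (f.base x)] (X.presheaf.stalk x)).toRingHom =
        IsLocalRing.maximalIdeal (X.presheaf.stalk x) →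
      Module.Flat V (Localization.AtPrime Q) := by
  subst hφ
  letI : Algebra (Y.presheaf.stalk (f.base x)) (X.presheaf.stalk x) :=
      (f.stalkMap x).hom.toAlgebra
  intro Q _ hQV hQC
  let φ : (Y.presheaf.stalk (f.base x) : Type u) →+* V :=
    algebraMap (Y.presheaf.stalk (f.base x)) V
  let A := Y.presheaf.stalk (f.base x)
  let C := X.presheaf.stalk x
  let W := V ⊗[A] C
  let g := Spec.map (CommRingCat.ofHom φ) ≫ Y.fromSpecStalk (f.base x)
  let b : Spec (CommRingCat.of W) ⟶ Spec (CommRingCat.of V) :=
    Spec.map (CommRingCat.ofHom (algebraMap V W))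
  let a : Spec (CommRingCat.of W) ⟶ Spec C :=
    Spec.map (CommRingCat.ofHom (Algebra.TensorProduct.includeRight : C →ₐ[A] W).toRingHom)
  have sq0 : IsPullback b a (Spec.map (CommRingCat.ofHom φ)) (Spec.map (f.stalkMap x)) :=
    isPullback_SpecMap_of_isPushout _ _ _ _ (CommRingCat.isPushout_tensorProduct A V C)
  -- compose with the monomorphism `Spec A ⟶ Y`
  have sq1 : IsPullback b a g (X.fromSpecStalk x ≫ f) := by
    have e : X.fromSpecStalk x ≫ f = Spec.map (f.stalkMap x) ≫ Y.fromSpecStalk (f.base x) :=
      (Scheme.SpecMap_stalkMap_fromSpecStalk f).symm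
    rw [e]
    exact ⟨⟨by rw [← Category.assoc, sq0.w, Category.assoc]⟩,
      ⟨PullbackCone.isLimitOfCompMono _ _ (Y.fromSpecStalk (f.base x)) sq0.cone sq0.isLimit⟩⟩
  have hw : (a ≫ X.fromSpecStalk x) ≫ f = b ≫ g := by
    rw [Category.assoc, sq1.w]
  let j : Spec (CommRingCat.of W) ⟶ pullback f g := pullback.lift (a ≫ X.fromSpecStalk x) b hw
  have hj1 : j ≫ pullback.fst f g = a ≫ X.fromSpecStalk x := pullback.lift_fst _ _ _
  have hj2 : j ≫ pullback.snd f g = b := pullback.lift_snd _ _ _
  have sq2 : IsPullback j a (pullback.fst f g) (X.fromSpecStalk x) := by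
    refine IsPullback.of_right (h₁₂ := pullback.snd f g) (h₂₂ := f) (v₁₃ := g) ?_ hj1
      (IsPullback.of_hasPullback f g).flip
    rw [hj2]
    exact sq1
  have hjflat : Flat j := by
    exact MorphismProperty.of_isPullback sq2.flip inferInstance
  let z : Spec (CommRingCat.of W) := ⟨Q, inferInstance⟩
  have haz : a.base z = IsLocalRing.closedPoint C := PrimeSpectrum.ext hQC
  have hbz : b.base z = IsLocalRing.closedPoint V := PrimeSpectrum.ext hQV
  have h1 : (pullback.fst f g).base (j.base z) = x := by
    have : (j ≫ pullback.fst f g).base z = (a ≫ X.fromSpecStalk x).base z := by rw [hj1]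
    have h2 : (pullback.fst f g).base (j.base z) = (X.fromSpecStalk x).base (a.base z) := this
    rw [h2, haz]
    exact Scheme.fromSpecStalk_closedPoint
  have h2 : (pullback.snd f g).base (j.base z) = IsLocalRing.closedPoint V := by
    have : (j ≫ pullback.snd f g).base z = b.base z := by rw [hj2]
    rw [← hbz, ← this]
    rfl
  have h3 := h (j.base z) h1 h2
  have h4 : ((j ≫ pullback.snd f g).stalkMap z).hom.Flat :=
    Groth.Agent.Flat2D.FlatAtPt.flat_stalkMap_comp j (pullback.snd f g) z
      (Flat.stalkMap j z) h3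
  rw [hj2] at h4
  exact flat_localization_of_stalkMap (R := V) (S := W) z h4

open CategoryTheory.Limits in
/-- EGA IV 11.8.1 (structure sheaf, reduced Noetherian case): let f : X ⟶ Y be locally of finite presentation, x a point of X, y = f x, and suppose the local ring O_{Y,y} is reduced and Noetherian. Then O_{Y,y} ⟶ O_{X,x} is flat if and only if, for every discrete valuation ring A' and every local homomorphism O_{Y,y} ⟶ A', the base change X' = X ×_Y Spec A' ⟶ Spec A' is flat at every point of X' lying over x and over the closed point of Spec A'. -/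
theorem result {X Y : Scheme.{u}} (f : X ⟶ Y) [LocallyOfFinitePresentation f]
    (x : X) [IsNoetherianRing (Y.presheaf.stalk (f.base x))] [_root_.IsReduced (Y.presheaf.stalk (f.base x))] :
    (f.stalkMap x).hom.Flat ↔
      ∀ (A' : Type u) [CommRing A'] [IsDomain A'] [IsDiscreteValuationRing A']
        (φ : (Y.presheaf.stalk (f.base x) : Type u) →+* A') [IsLocalHom φ],
        ∀ x' : ↥(pullback f (Spec.map (CommRingCat.ofHom φ) ≫ Y.fromSpecStalk (f.base x))),
          (pullback.fst f _).base x' = x →
          (pullback.snd f _).base x' = IsLocalRing.closedPoint A' →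
          ((pullback.snd f (Spec.map (CommRingCat.ofHom φ) ≫ Y.fromSpecStalk (f.base x))).stalkMap x').hom.Flat := by
  constructor
  · intro h A' _ _ _ φ _ x' hx' _
    exact Groth.Agent.Flat2D.FlatAtPt.flat_stalkMap_of_isPullback
      (IsPullback.of_hasPullback f (Spec.map (CommRingCat.ofHom φ) ≫ Y.fromSpecStalk (f.base x))) x'
      (Groth.Agent.Flat2D.FlatAtPt.flat_stalkMap_congr f hx'.symm h)
  · intro H
    letI : Algebra (Y.presheaf.stalk (f.base x)) (X.presheaf.stalk x) :=
      (f.stalkMap x).hom.toAlgebra
    haveI : IsLocalHom (algebraMap (Y.presheaf.stalk (f.base x)) (X.presheaf.stalk x)) :=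
      inferInstanceAs (IsLocalHom (f.stalkMap x).hom)
    haveI : Algebra.EssFiniteType (Y.presheaf.stalk (f.base x)) (X.presheaf.stalk x) :=
      LocallyOfFiniteType.stalkMap f x
    refine Groth.Agent.Ega43.FlatDvrMain.flat_of_forall_dvr
      (A := Y.presheaf.stalk (f.base x)) (C := X.presheaf.stalk x) ?_
    intro V _ _ _ hAV hloc Q _ hQV hQC
    have h1 := flat_of_pullback f x V (algebraMap (Y.presheaf.stalk (f.base x)) V) rfl
      (fun x' hx' hx'' => H V (algebraMap (Y.presheaf.stalk (f.base x)) V) x' hx' hx'')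
    exact h1 Q hQV hQC

end Groth.Agent.S2562
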