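import Groth.Statements.S2563
import Groth.Agent.Ega43.NilpotentFree

set_option autoImplicit false
open TensorProduct
universe u
open EGA43

namespace Groth.Agent.S2563

/-- EGA IV 11.4.1 (free case): let A be a commutative ring, J a nilpotent ideal of A, and (B_i) a family of commutative A-algebras such that an element of A vanishing in every B_i is zero. Let M be an A-module such that each B_i ⊗_A M is a free B_i-module and (A/J) ⊗_A M is a free (A/J)-module. Then M is a free A-module. -/
theorem result {A : Type u} [CommRing A] (J : Ideal A) (hJ : IsNilpotent J)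
    {ι : Type u} (B : ι → Type u) [∀ i, CommRing (B i)] [∀ i, Algebra A (B i)]
    (hB : ∀ a : A, (∀ i, algebraMap A (B i) a = 0) → a = 0)
    (M : Type u) [AddCommGroup M] [Module A M]
    (hfree : ∀ i, Module.Free (B i) (B i ⊗[A] M)) (hfreeJ : Module.Free (A ⧸ J) ((A ⧸ J) ⊗[A] M)) :
    Module.Free A M := by
  exact Ega43.NilpotentFree.free_of_nilpotent_of_injective J hJ B hB
    (fun i => by have := hfree i; infer_instance) hfreeJ

end Groth.Agent.S2563
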