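import Groth.Statements.S2564
import Groth.Agent.Ega43.FlatUniInt


set_option autoImplicit false
open CategoryTheory AlgebraicGeometry
universe u
open EGA43

namespace Groth.Agent.S2564

open CategoryTheory.Limits in
/-- EGA IV 11.5.5 (structure sheaf): let A ⟶ A' be an injective ring homomorphism making A' integral over A, f : X ⟶ Spec A locally of finite presentation, x a point of X, and X' = X ×_{Spec A} Spec A'. If X' ⟶ Spec A' is flat at every point of X' lying over x, then f is flat at x. -/
theorem result {A A' : Type u} [CommRing A] [CommRing A']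
    [Algebra A A'] [Algebra.IsIntegral A A'] (hinj : Function.Injective (algebraMap A A'))
    {X : Scheme.{u}} (f : X ⟶ Spec (CommRingCat.of A)) [LocallyOfFinitePresentation f] (x : X)
    (h : ∀ x' : ↥(pullback f (Spec.map (CommRingCat.ofHom (algebraMap A A')))),
      (pullback.fst f _).base x' = x →
      ((pullback.snd f (Spec.map (CommRingCat.ofHom (algebraMap A A')))).stalkMap x').hom.Flat) :
    (f.stalkMap x).hom.Flat := by
  rw [← Groth.Agent.Sga3C.FlatPt.isFlatAt_iff_stalkMap]
  refine Ega43.FlatUniInt.isFlatAt_of_isIntegral hinj f x fun x' hx' => ?_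
  rw [Groth.Agent.Sga3C.FlatPt.isFlatAt_iff_stalkMap]
  exact h x' hx'

end Groth.Agent.S2564
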