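import Groth.Statements.S2567
import Groth.Agent.Ega43.GeomRedMain
-- import your own Groth.Agent.* helpers here

set_option autoImplicit false
open CategoryTheory AlgebraicGeometry
universe u
open EGA43

namespace Groth.Agent.S2567

/-- EGA IV 11.3.13 (ii), reduced case (the source only needs f flat and of finite presentation at the point x): let f : X ⟶ Y be flat and locally of finite presentation, x a point of X with y = f x. If the local ring of Y at y is reduced and the fibre of f over y is geometrically reduced at x, then the local ring of X at x is reduced. -/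
theorem result {X Y : Scheme.{u}} (f : X ⟶ Y) [Flat f]
    [LocallyOfFinitePresentation f] (x : X) (hy : FBase.IsReducedAt Y (f.base x))
    (hx : FBase.IsGeomReducedAt (f.fiberToSpecResidueField (f.base x)) (f.asFiber x)) :
    FBase.IsReducedAt X x := by
  have hP := Groth.Agent.Ega43.GeomRedMain.isoClosed_isReduced.{u}
  have hgeom : Groth.Agent.Ega43.GeomAt.GeomAt (fun R _ => _root_.IsReduced R) f x :=
    (Groth.Agent.Ega43.GeomAt.geomAt_fiber_iff hP f x).1 hx
  obtain ⟨V, hV, hfV, -⟩ := exists_isAffineOpen_mem_and_subset (X := Y) (x := f.base x) (U := ⊤) trivial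
  obtain ⟨U, hU, hxU, hUV⟩ := exists_isAffineOpen_mem_and_subset (X := X) (x := x) (U := f ⁻¹ᵁ V) hfV
  let z : Spec Γ(X, U) := hU.primeIdealOf ⟨x, hxU⟩
  have hz : hU.fromSpec.base z = x := hU.fromSpec_primeIdealOf ⟨x, hxU⟩
  let : Algebra Γ(Y, V) Γ(X, U) := (f.appLE V U hUV).hom.toAlgebra
  have h1 : Algebra.FinitePresentation Γ(Y, V) Γ(X, U) := f.finitePresentation_appLE hV hU hUV
  have h2 : Module.Flat Γ(Y, V) Γ(X, U) := f.flat_appLE hV hU hUV
  have h3 : Groth.Agent.Ega43.GeomAt.GeomAtAlg (fun R _ => _root_.IsReduced R) Γ(Y, V) Γ(X, U)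
      z.asIdeal := by
    rw [← hz] at hgeom
    exact (Groth.Agent.Ega43.GeomAt.geomAt_fromSpec_iff_alg hP f hV hU hUV z).1 hgeom
  obtain ⟨g, s, hs, hg, hreg, -⟩ := Groth.Agent.Ega43.GeomRedMain.exists_away_of_fieldAt z h3
  let w : Spec Γ(Y, V) := hV.primeIdealOf ⟨f.base x, hfV⟩
  have hcomap : z.asIdeal.comap (algebraMap Γ(Y, V) Γ(X, U)) = w.asIdeal :=
    congrArg PrimeSpectrum.asIdeal (IsAffineOpen.comap_primeIdealOf_appLE V hV U hU hUV hxU)
  -- local rings
  let : Algebra Γ(X, U) (X.presheaf.stalk x) := X.presheaf.algebra_section_stalk ⟨x, hxU⟩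
  let : Algebra Γ(Y, V) (Y.presheaf.stalk (f.base x)) := Y.presheaf.algebra_section_stalk ⟨f.base x, hfV⟩
  have hlocY : IsLocalization.AtPrime (Y.presheaf.stalk (f.base x)) w.asIdeal :=
    hV.isLocalization_stalk ⟨f.base x, hfV⟩
  have hlocX : IsLocalization.AtPrime (X.presheaf.stalk x) z.asIdeal :=
    hU.isLocalization_stalk ⟨x, hxU⟩
  have hredY : _root_.IsReduced (Localization.AtPrime w.asIdeal) := by
    let e := IsLocalization.algEquiv w.asIdeal.primeCompl (Localization.AtPrime w.asIdeal)
      (Y.presheaf.stalk (f.base x))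
    have hy' : _root_.IsReduced (Y.presheaf.stalk (f.base x)) := hy
    exact isReduced_of_injective e e.injective
  have hregq := Groth.Agent.Ega43.GeomRedMain.nonZeroDivisors_localization_of_away z.asIdeal s hs g hreg
  have hred := Groth.Agent.Ega43.GeomRedAlg2.isReduced_localization_of_regular w.asIdeal z.asIdeal
    hcomap g hg hregq hredY
  let e := IsLocalization.algEquiv z.asIdeal.primeCompl (Localization.AtPrime z.asIdeal)
    (X.presheaf.stalk x)
  exact isReduced_of_injective e.symm e.symm.injective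

end Groth.Agent.S2567
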