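import Groth.Statements.S2568
import Groth.Agent.Ega43.ChevalleyCrit
import Groth.Agent.Ega43.FibreDimFinite

set_option autoImplicit false
open CategoryTheory AlgebraicGeometry
universe u
open EGA43

namespace Groth.Agent.S2568

/-- EGA IV 14.4.4 (ii) (Chevalley's criterion), case of irreducible source and target (13.2.2): let X and Y be irreducible schemes, all local rings of Y geometrically unibranch, and f : X ⟶ Y a dominant morphism locally of finite type such that for every point x the local dimension at x of the fibre through x equals the dimension of the generic fibre. Then f is universally open. -/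
theorem result {X Y : Scheme.{u}} [IrreducibleSpace X] [IrreducibleSpace Y]
    (hY : ∀ y : Y, CAlg2.IsGeomUnibranch (Y.presheaf.stalk y)) (f : X ⟶ Y) [LocallyOfFiniteType f] [IsDominant f]
    (h : ∀ x : X, FlatMor.fibreDimAt f x = topologicalKrullDim ↥(f.fiber (f.base (genericPoint X)))) :
    UniversallyOpen f := by
  obtain ⟨d, hd⟩ := Groth.Agent.Ega43.FibreDimFinite.exists_fibreDimAt_eq f (genericPoint X)
  have hall : ∀ x : X, FlatMor.fibreDimAt f x = d := fun x => by rw [h x, ← h (genericPoint X), hd]
  choose U hxU hU using fun x =>
    Groth.Agent.Ega43.ChevalleyCrit.exists_universallyOpen_nhd hY f x d (hall x).le hd.ge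
  refine IsZariskiLocalAtSource.of_iSup_eq_top (P := @UniversallyOpen) U ?_ hU
  rw [eq_top_iff]
  intro x _
  exact TopologicalSpace.Opens.mem_iSup.mpr ⟨x, hxU x⟩

end Groth.Agent.S2568
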