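import Groth.Statements.S2571
import Groth.Agent.Ega43.AffineDescentQS

set_option autoImplicit false
open CategoryTheory AlgebraicGeometry
universe u
open EGA43

namespace Groth.Agent.S2571

open CategoryTheory.Limits in
/-- EGA IV 14.5.11: let Y be locally Noetherian, f : X ⟶ Y locally of finite type, and g : Y' ⟶ Y locally of finite type, universally open and surjective. If the base change X ×_Y Y' ⟶ Y' is an affine morphism, then f is affine. -/
theorem result {X Y Y' : Scheme.{u}} [IsLocallyNoetherian Y]
    (f : X ⟶ Y) [LocallyOfFiniteType f] (g : Y' ⟶ Y) [LocallyOfFiniteType g] [UniversallyOpen g] [Surjective g]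
    [IsAffineHom (pullback.snd f g)] : IsAffineHom f :=
  Groth.Agent.Ega43.AffineDescentQS.isAffineHom_of_isAffineHom_baseChange f g

end Groth.Agent.S2571
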