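import Groth.Statements.S2572
-- import your own Groth.Agent.* helpers here
import Groth.Agent.Ega43.DedekindOpen

set_option autoImplicit false
open CategoryTheory AlgebraicGeometry
universe u
open EGA43

namespace Groth.Agent.S2572

open Groth.Agent.Ega43.MaxPoints Groth.Agent.Ega43.DedekindOpen

/-- EGA IV 14.3.8 (d ⇒ b): let Y be an irreducible locally Noetherian scheme whose local rings are regular of dimension at most one, f : X ⟶ Y locally of finite type, and y a point of Y. If every irreducible component of X meeting the fibre over y has dense image in Y, then there is an open subset U of X containing that fibre such that the restriction of f to U is universally open. -/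
theorem result {X Y : Scheme.{u}} [IsLocallyNoetherian Y]
    [IrreducibleSpace Y]
    (hY : ∀ y : Y, IsRegularLocalRing (Y.presheaf.stalk y) ∧ ringKrullDim (Y.presheaf.stalk y) ≤ 1)
    (f : X ⟶ Y) [LocallyOfFiniteType f] (y : Y)
    (h : ∀ Z ∈ irreducibleComponents (X : Type u), (Z ∩ f.base ⁻¹' {y}).Nonempty → Dense (f.base '' Z)) :
    ∃ U : X.Opens, f.base ⁻¹' {y} ⊆ (U : Set X) ∧ UniversallyOpen (U.ι ≫ f) := by
  have : IsLocallyNoetherian X := LocallyOfFiniteType.isLocallyNoetherian f
  choose V hxV hV using fun x : X => exists_open_isMaxPt_specializes x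
  refine ⟨⨆ x : f.base ⁻¹' {y}, V x, ?_, ?_⟩
  · intro x hx
    simp only [TopologicalSpace.Opens.coe_iSup, Set.mem_iUnion]
    exact ⟨⟨x, hx⟩, hxV x⟩
  · apply universallyOpen_of_isMaxPt
    · intro y
      have := (hY y).1
      exact isDomain_isPrincipalIdealRing_of_regular_dim_le_one _ (hY y).2
    · intro w hw
      have hw' := IsMaxPt.map_of_isEmbedding
        (Scheme.Opens.ι (⨆ x : f.base ⁻¹' {y}, V x)).isEmbedding
        (Scheme.Opens.ι (⨆ x : f.base ⁻¹' {y}, V x)).isOpenEmbedding.isOpen_range.stableUnderGeneralization hw
      have hmem : (Scheme.Opens.ι (⨆ x : f.base ⁻¹' {y}, V x)) w ∈ ((⨆ x : f.base ⁻¹' {y}, V x : X.Opens) : Set X) :=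
        w.2
      simp only [TopologicalSpace.Opens.coe_iSup, Set.mem_iUnion] at hmem
      obtain ⟨x, hx⟩ := hmem
      have hspec := hV x _ hx hw'
      rw [Scheme.Hom.comp_apply]
      set z := (Scheme.Opens.ι (⨆ x : f.base ⁻¹' {y}, V x)) w with hz
      have hd := h _ hw'.closure_mem_irreducibleComponents
        ⟨x, by rw [← specializes_iff_mem_closure]; exact hspec, x.2⟩
      have hcl : ∀ t : Y, f z ⤳ t := by
        intro t
        rw [specializes_iff_mem_closure]
        refine closure_minimal ?_ isClosed_closure (hd t)
        rintro _ ⟨a, ha, rfl⟩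
        rw [← specializes_iff_mem_closure] at ha ⊢
        exact ha.map f.continuous
      intro t ht
      exact (ht.antisymm (hcl t)).eq

end Groth.Agent.S2572
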