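import Groth.Statements.S2574
import Groth.Agent.Ega43.NilpotentFlat
import Mathlib.RingTheory.Ideal.AssociatedPrime.Finiteness
import Mathlib.RingTheory.Flat.Localization

set_option autoImplicit false
open TensorProduct
universe u
open EGA43

namespace Groth.Agent.S2574

/-- EGA IV 11.4.9 (flat case): let A be a Noetherian ring, J a nilpotent ideal of A and M an A-module. Then M is flat over A if and only if (A/J) ⊗_A M is flat over A/J and, for every associated prime p of A, the localization M_p is flat over A_p. -/
theorem result {A : Type u} [CommRing A] [IsNoetherianRing A]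
    (J : Ideal A) (hJ : IsNilpotent J) (M : Type u) [AddCommGroup M] [Module A M] :
    Module.Flat A M ↔
      Module.Flat (A ⧸ J) ((A ⧸ J) ⊗[A] M) ∧
        ∀ p : associatedPrimes A A,
          haveI : p.1.IsPrime := IsAssociatedPrime.isPrime p.2
          Module.Flat (Localization.AtPrime p.1) (LocalizedModule p.1.primeCompl M) := by
  constructor
  · intro h
    refine ⟨inferInstance, fun p => ?_⟩
    have : p.1.IsPrime := IsAssociatedPrime.isPrime p.2
    infer_instance
  · rintro ⟨h1, h2⟩
    have hfin : Finite (associatedPrimes A A) := (associatedPrimes.finite A A).to_subtype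
    have hp : ∀ p : associatedPrimes A A, p.1.IsPrime := fun p => IsAssociatedPrime.isPrime p.2
    refine Ega43.NilpotentFlat.flat_of_nilpotent_of_injective M
      (fun p : associatedPrimes A A => Localization.AtPrime p.1) J hJ ?_ h1 ?_
    · intro a ha
      by_contra hne
      obtain ⟨P, hP, hle⟩ := exists_le_isAssociatedPrime_of_isNoetherianRing A a hne
      have hPprime := hP.isPrime
      have h3 := ha ⟨P, hP⟩
      rw [IsLocalization.map_eq_zero_iff P.primeCompl] at h3
      obtain ⟨s, hs⟩ := h3
      apply s.2
      apply hle
      rw [Submodule.mem_colon_singleton, smul_eq_mul, Submodule.mem_bot]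
      exact hs
    · intro p
      have h3 := h2 p
      exact Module.Flat.of_linearEquiv
        (LocalizedModule.equivTensorProduct p.1.primeCompl M).symm

end Groth.Agent.S2574
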