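import Groth.Statements.S2582
import Groth.Agent.Ega43.LimAffine

set_option autoImplicit false
universe u
open CategoryTheory AlgebraicGeometry
open EGA43

namespace Groth.Agent.S2582

/-- EGA IV 8.10.5 (viii): let S = lim S_i be a cofiltered limit of schemes with affine transition morphisms, S_{i₀} a quasi-compact quasi-separated stage (the source needs S_{i₀} only quasi-compact; quasi-separatedness is assumed here), f₀ : X₀ ⟶ Y₀ an S_{i₀}-morphism between schemes of finite presentation over S_{i₀}, and f : X ⟶ Y its base change to S (base changes expressed by pullback squares). If f is affine, then the base change f_i : X_i ⟶ Y_i of f₀ to some stage S_i is affine. -/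
theorem result {I : Type u} [SmallCategory I] [IsCofiltered I]
    (D : I ⥤ Scheme.{u}) (c : Limits.Cone D) (hc : Limits.IsLimit c)
    [∀ (i j : I) (f : i ⟶ j), IsAffineHom (D.map f)] (i₀ : I) [CompactSpace (D.obj i₀)]
    [QuasiSeparatedSpace (D.obj i₀)] {X₀ Y₀ : Scheme.{u}} (f₀ : X₀ ⟶ Y₀) (g₀ : Y₀ ⟶ D.obj i₀)
    [LocallyOfFinitePresentation g₀] [QuasiCompact g₀] [QuasiSeparated g₀]
    [LocallyOfFinitePresentation (f₀ ≫ g₀)] [QuasiCompact (f₀ ≫ g₀)] [QuasiSeparated (f₀ ≫ g₀)]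
    {X Y : Scheme.{u}} (f : X ⟶ Y) (g : Y ⟶ c.pt) (qY : Y ⟶ Y₀) (qX : X ⟶ X₀)
    (hY : IsPullback qY g g₀ (c.π.app i₀)) (hX : IsPullback qX f f₀ qY) [IsAffineHom f] :
    ∃ (i : I) (φ : i ⟶ i₀) (Xi Yi : Scheme.{u}) (fi : Xi ⟶ Yi) (gi : Yi ⟶ D.obj i) (pY : Yi ⟶ Y₀)
      (pX : Xi ⟶ X₀), IsPullback pY gi g₀ (D.map φ) ∧ IsPullback pX fi f₀ pY ∧ IsAffineHom fi := by
  have : MorphismProperty.RespectsIso (C := Scheme.{u}) @IsAffineHom :=
    MorphismProperty.IsStableUnderBaseChange.respectsIso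
  exact Groth.Agent.Ega43.LimRed.exists_of_descendsOne (Q := ⊤)
    Groth.Agent.Ega43.LimAffine.descendsOne_isAffineHom D c hc i₀ f₀ g₀ trivial f g qY qX hY hX
    inferInstance

end Groth.Agent.S2582
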