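import Groth.Statements.S2587
import Groth.Agent.Ega43.OpenAtFT
import Groth.Agent.Ega43.DvrScheme

set_option autoImplicit false
open CategoryTheory AlgebraicGeometry
universe u
open EGA43

namespace Groth.Agent.S2587

open Groth.Agent.Ega43.OpenAt Groth.Agent.Ega43.OpenAtFT Groth.Agent.Ega43.DvrScheme

lemma eq_bot_of_ne_closedPoint {A : Type u} [CommRing A] [IsDomain A] [IsDiscreteValuationRing A]
    (p : PrimeSpectrum A) (hp : p ≠ IsLocalRing.closedPoint A) : p.asIdeal = ⊥ := by
  by_contra h
  apply hp
  apply PrimeSpectrum.ext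
  have : p.asIdeal.IsMaximal := Ideal.IsPrime.isMaximal p.2 h
  exact IsLocalRing.eq_maximalIdeal this

open CategoryTheory.Limits in
lemma mp {X Y : Scheme.{u}} (f : X ⟶ Y) (x : X) (H : EGA43.IsUnivOpenAt f x)
    (A : Type u) [CommRing A] [IsDomain A] [IsDiscreteValuationRing A]
    (g : Spec (CommRingCat.of A) ⟶ Y)
    (x' : ↥(pullback f g)) (hx' : (pullback.fst f g).base x' = x)
    (hc : (pullback.snd f g).base x' = IsLocalRing.closedPoint A) :
    ∃ z' : ↥(pullback f g), z' ⤳ x' ∧ (pullback.snd f g).base z' ≠ IsLocalRing.closedPoint A := by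
  have h1 := genAt_of_isOpenAt _ _ (H _ g x' hx')
  let s : Set ↥(Spec (CommRingCat.of A)) := {IsLocalRing.closedPoint A}ᶜ
  have hso : IsOpen s := (IsLocalRing.isClosed_singleton_closedPoint A).isOpen_compl
  have hs : Topology.IsConstructible s :=
    (TopologicalSpace.NoetherianSpace.isCompact s).isConstructible hso
  have hE := (Scheme.Hom.isConstructible_preimage (pullback.snd f g) hs).isLocallyConstructible
  obtain ⟨z, hz, hzx⟩ := exists_specializes_of_isLocallyConstructible hE (x := x') (by
    rw [mem_closure_iff]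
    intro U hU hxU
    obtain ⟨z, hz, hzy⟩ := h1 ⟨U, hU⟩ hxU (⊥ : PrimeSpectrum A) (by
      have : (⊥ : PrimeSpectrum A) ⤳ IsLocalRing.closedPoint A :=
        IsLocalRing.specializes_closedPoint _
      exact this.trans (specializes_of_eq hc.symm))
    refine ⟨z, hz, ?_⟩
    change (pullback.snd f g) z ≠ IsLocalRing.closedPoint A
    rw [hzy]
    intro h
    have h2 := congrArg PrimeSpectrum.asIdeal h
    exact IsDiscreteValuationRing.not_a_field A h2.symm)
  exact ⟨z, hzx, hz⟩

open CategoryTheory.Limits in
/-- EGA IV 14.3.6: let Y be locally Noetherian, f : X ⟶ Y locally of finite type and x a point of X. Then f is universally open at x if and only if: for every discrete valuation ring A and every morphism g : Spec A ⟶ Y sending the closed point to f x, every point x' of X ×_Y Spec A lying over x and over the closed point of Spec A is a specialization of some point of X ×_Y Spec A lying over the generic point of Spec A. -/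
theorem result {X Y : Scheme.{u}} [IsLocallyNoetherian Y] (f : X ⟶ Y)
    [LocallyOfFiniteType f] (x : X) :
    EGA43.IsUnivOpenAt f x ↔
      ∀ (A : Type u) [CommRing A] [IsDomain A] [IsDiscreteValuationRing A]
        (g : Spec (CommRingCat.of A) ⟶ Y), g.base (IsLocalRing.closedPoint A) = f.base x →
        ∀ x' : ↥(pullback f g), (pullback.fst f g).base x' = x →
          (pullback.snd f g).base x' = IsLocalRing.closedPoint A →
          ∃ z' : ↥(pullback f g), z' ⤳ x' ∧ (pullback.snd f g).base z' ≠ IsLocalRing.closedPoint A := by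
  constructor
  · intro H A _ _ _ g _ x' hx' hc
    exact mp f x H A g x' hx' hc
  · intro H
    have : LocallyOfFinitePresentation f :=
      LocallyOfFinitePresentation.iff_locallyOfFiniteType.mpr inferInstance
    rw [isUnivOpenAt_iff_affineSpace]
    intro n x₀ hx₀ U hU z hz
    by_cases hne : z = AffineSpace.map (ULift.{u} (Fin n)) f x₀
    · exact ⟨x₀, hU, hne.symm⟩
    have : IsLocallyNoetherian (𝔸(ULift.{u} (Fin n); Y)) :=
      LocallyOfFiniteType.isLocallyNoetherian (𝔸(ULift.{u} (Fin n); Y) ↘ Y)
    obtain ⟨R, _, _, _, _, _, g, hg1, hg2⟩ := exists_dvr_of_specializes hz hne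
      ((𝔸(ULift.{u} (Fin n); Y)).residueField z) (𝟙 _)
      (RingHom.FiniteType.essFiniteType (RingHom.FiniteType.id _))
    let g' := g ≫ (𝔸(ULift.{u} (Fin n); Y) ↘ Y)
    obtain ⟨a, ha1, ha2⟩ := Scheme.Pullback.exists_preimage_pullback
      (f := AffineSpace.map (ULift.{u} (Fin n)) f) (g := g) x₀ (IsLocalRing.closedPoint R) hg1.symm
    have sq : IsPullback (pullback.fst (AffineSpace.map (ULift.{u} (Fin n)) f) g ≫
        (𝔸(ULift.{u} (Fin n); X) ↘ X)) (pullback.snd (AffineSpace.map (ULift.{u} (Fin n)) f) g) f g' :=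
      ((IsPullback.of_hasPullback (AffineSpace.map (ULift.{u} (Fin n)) f) g).flip.paste_vert
        (AffineSpace.isPullback_map f)).flip
    have e1 : (pullback.fst f g') (sq.isoPullback.hom a) = x := by
      rw [← Scheme.Hom.comp_apply, IsPullback.isoPullback_hom_fst, Scheme.Hom.comp_apply, ha1, hx₀]
    have e2 : (pullback.snd f g') (sq.isoPullback.hom a) = IsLocalRing.closedPoint R := by
      rw [← Scheme.Hom.comp_apply, IsPullback.isoPullback_hom_snd, ha2]
    have e3 : g' (IsLocalRing.closedPoint R) = f x := by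
      have h3 : g' (IsLocalRing.closedPoint R) = (𝔸(ULift.{u} (Fin n); Y) ↘ Y)
        (AffineSpace.map (ULift.{u} (Fin n)) f x₀) :=
        (Scheme.Hom.comp_apply _ _ _).trans (congrArg _ hg1)
      rw [h3, ← Scheme.Hom.comp_apply, AffineSpace.map_over, Scheme.Hom.comp_apply, hx₀]
    obtain ⟨z', hz'1, hz'2⟩ := H R g' e3 (sq.isoPullback.hom a) e1 e2
    let w := sq.isoPullback.inv z'
    have hwa : w ⤳ a := by
      have h4 := hz'1.map sq.isoPullback.inv.continuous
      rwa [← Scheme.Hom.comp_apply, Iso.hom_inv_id] at h4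
    have hw1 : (pullback.fst (AffineSpace.map (ULift.{u} (Fin n)) f) g w) ⤳ x₀ := by
      have h5 := hwa.map (pullback.fst (AffineSpace.map (ULift.{u} (Fin n)) f) g).continuous
      rwa [ha1] at h5
    have hw2 : (pullback.snd (AffineSpace.map (ULift.{u} (Fin n)) f) g w) ≠
        IsLocalRing.closedPoint R := by
      intro h6
      apply hz'2
      rw [← h6, ← IsPullback.isoPullback_hom_snd sq]
      change _ = (sq.isoPullback.hom ≫ pullback.snd f g') w
      rw [Scheme.Hom.comp_apply]
      congr 1
      change _ = sq.isoPullback.hom (sq.isoPullback.inv z')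
      rw [← Scheme.Hom.comp_apply, Iso.inv_hom_id]
      rfl
    refine ⟨pullback.fst (AffineSpace.map (ULift.{u} (Fin n)) f) g w, hw1.mem_open U.2 hU, ?_⟩
    rw [← Scheme.Hom.comp_apply, pullback.condition, Scheme.Hom.comp_apply]
    have h7 : (Spec.map (CommRingCat.ofHom (algebraMap R
        ((𝔸(ULift.{u} (Fin n); Y)).residueField z)))) (⊥ : PrimeSpectrum _) =
          pullback.snd (AffineSpace.map (ULift.{u} (Fin n)) f) g w := by
      apply PrimeSpectrum.ext
      rw [eq_bot_of_ne_closedPoint _ hw2]
      exact Ideal.comap_bot_of_injective _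
        (IsFractionRing.injective R ((𝔸(ULift.{u} (Fin n); Y)).residueField z))
    rw [← h7]
    have h8 := congrArg (fun φ => φ (⊥ : PrimeSpectrum ((𝔸(ULift.{u} (Fin n); Y)).residueField z))) hg2
    refine (Scheme.Hom.comp_apply _ _ _).symm.trans (h8.trans ?_)
    refine (Scheme.Hom.comp_apply _ _ _).trans ?_
    exact Scheme.fromSpecResidueField_apply _ _

end Groth.Agent.S2587
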