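import Groth.Statements.S2591
import Groth.Agent.Ega43.FreeStrat
import Groth.Agent.Ega43.FpModModel

set_option autoImplicit false
open TensorProduct
universe u
open EGA43

namespace Groth.Agent.S2591

/-- EGA IV 11.3.15: let A be a commutative ring, B a finitely presented A-algebra and M a finitely presented B-module which is flat over A. Then there are finitely many elements f₁, …, fₙ of A generating the unit ideal such that, for each i < n, writing A' for the localization of A at f_{i+1} modulo the ideal generated by f₁, …, fᵢ, the module A' ⊗_A M is free over A'. -/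
theorem result {A B : Type u} [CommRing A] [CommRing B] [Algebra A B]
    [Algebra.FinitePresentation A B] (M : Type u) [AddCommGroup M] [Module B M] [Module A M] [IsScalarTower A B M]
    [Module.FinitePresentation B M] [Module.Flat A M] :
    ∃ l : List A, Ideal.span {a | a ∈ l} = ⊤ ∧
      ∀ (i : ℕ) (hi : i < l.length),
        letI J : Ideal (Localization.Away l[i]) :=
          (Ideal.span {a | a ∈ l.take i}).map (algebraMap A (Localization.Away l[i]))
        Module.Free (Localization.Away l[i] ⧸ J) ((Localization.Away l[i] ⧸ J) ⊗[A] M) := by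
  obtain ⟨A₀, n, M₀, _, _, _, _, hN, hfin, ⟨e⟩⟩ := Ega43.FpModModel.exists_model' A B M
  obtain ⟨l, hl, hl'⟩ := Ega43.FreeStrat.exists_list.{u, u, u, u}
    (R := A₀) (S := MvPolynomial (Fin n) A₀) M₀ ⊥
  have hspan : ∀ l' : List A₀, Ideal.span {a | a ∈ l'.map (algebraMap A₀ A)} =
      (Ideal.span {a | a ∈ l'}).map (algebraMap A₀ A) := by
    intro l'
    rw [Ideal.map_span]
    congr 1
    ext a
    simp
  refine ⟨l.map (algebraMap A₀ A), ?_, ?_⟩
  · rw [hspan, ← bot_sup_eq (Ideal.span {a | a ∈ l}), hl, Ideal.map_top]
  · intro i hi
    have hi' : i < l.length := by simpa using hi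
    let J : Ideal (Localization.Away (l.map (algebraMap A₀ A))[i]) :=
      (Ideal.span {a | a ∈ (l.map (algebraMap A₀ A)).take i}).map
        (algebraMap A (Localization.Away (l.map (algebraMap A₀ A))[i]))
    let A' := Localization.Away (l.map (algebraMap A₀ A))[i] ⧸ J
    have hA' : ∀ a : A₀, algebraMap A₀ A' a = Ideal.Quotient.mk J
        (algebraMap A (Localization.Away (l.map (algebraMap A₀ A))[i]) (algebraMap A₀ A a)) :=
      fun a => rfl
    have h1 : Module.Free A' (A' ⊗[A₀] M₀) := by
      refine hl' i hi' A' (fun a ha => ?_) (fun a ha => ?_) ?_ ?_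
      · rw [Ideal.mem_bot.mp ha, map_zero]
      · rw [hA', Ideal.Quotient.eq_zero_iff_mem]
        refine Ideal.mem_map_of_mem _ (Ideal.subset_span ?_)
        rw [Set.mem_setOf_eq, ← List.map_take]
        exact List.mem_map_of_mem ha
      · rw [hA']
        apply IsUnit.map
        have : algebraMap A₀ A l[i] = (l.map (algebraMap A₀ A))[i] := by simp
        rw [this]
        exact IsLocalization.Away.algebraMap_isUnit _
      · have h2 : Module.Flat A (A ⊗[A₀] M₀) := Module.Flat.of_linearEquiv e
        exact Module.Flat.of_linearEquiv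
          (AlgebraTensorModule.cancelBaseChange A₀ A A' A' M₀).symm
    exact Module.Free.of_equiv ((AlgebraTensorModule.cancelBaseChange A₀ A A' A' M₀).symm ≪≫ₗ
      (AlgebraTensorModule.congr (LinearEquiv.refl A' A') e))

end Groth.Agent.S2591
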