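import Groth.Statements.S2595
import Groth.Agent.Ega43.EquidimSch
import Groth.Agent.Ega43.FibreDimNat
import Groth.Agent.Ega43.CMOpen
import Groth.Agent.S1343
import Groth.Agent.S0386

set_option autoImplicit false
open CategoryTheory AlgebraicGeometry
universe u
open EGA43

namespace Groth.Agent.S2595

/-- EGA IV 15.4.1 (structure sheaf): let Y be locally Noetherian, f : X ⟶ Y locally of finite type and x a point of X. If O_{Y,f x} ⟶ O_{X,x} is flat and the local ring at x of the fibre through x is Cohen–Macaulay, then f is equidimensional at x. -/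
theorem result {X Y : Scheme.{u}} [IsLocallyNoetherian Y] (f : X ⟶ Y)
    [LocallyOfFiniteType f] (x : X) (hflat : (f.stalkMap x).hom.Flat)
    (hCM : LocCoh.IsCohenMacaulayLocalRing ((f.fiber (f.base x)).presheaf.stalk (f.asFiber x))) :
    EGA43.IsEquidimAt f x := by
  have hX : IsLocallyNoetherian X := LocallyOfFiniteType.isLocallyNoetherian f
  have hlfp : LocallyOfFinitePresentation f :=
    LocallyOfFinitePresentation.iff_locallyOfFiniteType.mpr inferInstance
  let W : X.Opens := ⟨_, S0386.result f⟩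
  have hxW : x ∈ W := hflat
  have hf₁ : Flat (W.ι ≫ f) := by
    refine Flat.of_stalkMap _ fun w ↦ ?_
    rw [Ega43.CMOpen.flat_stalkMap_comp_iff]
    exact w.2
  have hcm : MoreMor.IsCMAt (W.ι ≫ f) ⟨x, hxW⟩ := by
    rw [Ega43.CMOpen.isCMAt_comp_iff]
    exact ⟨hflat, hCM⟩
  obtain ⟨d, hd⟩ := Ega43.FibreDimNat.exists_natCast_fibreDimAt (W.ι ≫ f) ⟨x, hxW⟩
  obtain ⟨U, g, hxU, hg, hgf, hgq⟩ := (S1343.result (W.ι ≫ f) ⟨x, hxW⟩ d hd).mp hcm
  exact Ega43.EquidimSch.isEquidimAt_of_flat_quasiFinite f x d (U.ι ≫ W.ι)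
    ⟨⟨⟨x, hxW⟩, hxU⟩, rfl⟩ g (by rw [hg, Category.assoc])

end Groth.Agent.S2595
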