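import Groth.Statements.S2596
import Groth.Agent.Ega43.ProperNear

set_option autoImplicit false
open CategoryTheory AlgebraicGeometry
universe u
open EGA43

namespace Groth.Agent.S2596

open Groth.Agent.Ega43.ProperNear CategoryTheory.Limits

/-- Affine Noetherian base. -/
lemma affine_case {A : Type u} [CommRing A] [IsNoetherianRing A] {X : Scheme.{u}}
    (f : X ⟶ Spec (CommRingCat.of A)) [IsSeparated f] [LocallyOfFiniteType f] [QuasiCompact f]
    (y : Spec (CommRingCat.of A)) (h : LiftAt f y) :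
    ∃ U : (Spec (CommRingCat.of A)).Opens, y ∈ U ∧ IsProper (f ∣_ U) := by
  have : IsLocallyNoetherian (Spec (CommRingCat.of A)) := by
    have : IsNoetherianRing (CommRingCat.of A) := ‹_›
    infer_instance
  obtain ⟨n, X', π, j, hj, hcomm, hπ, hπs⟩ := Groth.Agent.S2588.result f
  have hp : IsProper (CohB1.ProjSpaceOver.toBase n (Spec (CommRingCat.of A))) :=
    Groth.Agent.Ega3B.ProjProper.isProper_toBase n _
  have hN : IsLocallyNoetherian (CohB1.ProjSpaceOver n (Spec (CommRingCat.of A))) :=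
    LocallyOfFiniteType.isLocallyNoetherian
      (CohB1.ProjSpaceOver.toBase n (Spec (CommRingCat.of A)))
  have h1 : QuasiCompact (j ≫ CohB1.ProjSpaceOver.toBase n (Spec (CommRingCat.of A))) := by
    rw [hcomm]; infer_instance
  have h2 : QuasiCompact j :=
    QuasiCompact.of_comp j (CohB1.ProjSpaceOver.toBase n (Spec (CommRingCat.of A)))
  exact exists_isProper_restrict f π j _ hcomm y h

lemma liftAt_of_sections {X Y : Scheme.{u}} (f : X ⟶ Y) (y : Y)
    (h : ∀ (A : Type u) [CommRing A] [IsDomain A] [IsDiscreteValuationRing A]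
      (g : Spec (CommRingCat.of A) ⟶ Y), g.base (IsLocalRing.closedPoint A) = y →
      ∀ σ : Spec (CommRingCat.of (FractionRing A)) ⟶ pullback f g,
        σ ≫ pullback.snd f g = Spec.map (CommRingCat.ofHom (algebraMap A (FractionRing A))) →
        ∃ s : Spec (CommRingCat.of A) ⟶ pullback f g, s ≫ pullback.snd f g = 𝟙 _ ∧
          Spec.map (CommRingCat.ofHom (algebraMap A (FractionRing A))) ≫ s = σ) :
    LiftAt f y := by
  intro R _ _ _ K _ _ _ i₁ i₂ h1 h2
  let e := FractionRing.algEquiv R K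
  have he1 : (CommRingCat.ofHom (algebraMap R K)) ≫ (CommRingCat.ofHom e.symm.toRingEquiv.toRingHom) =
      CommRingCat.ofHom (algebraMap R (FractionRing R)) := by
    ext a
    exact e.symm.commutes a
  have he2 : (CommRingCat.ofHom (algebraMap R (FractionRing R))) ≫
      (CommRingCat.ofHom e.toRingEquiv.toRingHom) = CommRingCat.ofHom (algebraMap R K) := by
    ext a
    exact e.commutes a
  have he3 : Spec.map (CommRingCat.ofHom e.toRingEquiv.toRingHom) ≫
      Spec.map (CommRingCat.ofHom e.symm.toRingEquiv.toRingHom) = 𝟙 _ := by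
    rw [← Spec.map_comp, ← Spec.map_id]
    congr 1
    ext a
    exact e.apply_symm_apply a
  obtain ⟨s, hs1, hs2⟩ := h R i₂ h1 (pullback.lift
    (Spec.map (CommRingCat.ofHom e.symm.toRingEquiv.toRingHom) ≫ i₁)
    (Spec.map (CommRingCat.ofHom (algebraMap R (FractionRing R)))) (by
      rw [Category.assoc, h2, ← Category.assoc, ← Spec.map_comp, he1])) (pullback.lift_snd _ _ _)
  refine ⟨s ≫ pullback.fst f i₂, ?_, ?_⟩
  · rw [← he2, Spec.map_comp, Category.assoc, reassoc_of% hs2, pullback.lift_fst,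
      ← Category.assoc, he3, Category.id_comp]
  · rw [Category.assoc, pullback.condition, reassoc_of% hs1]

open CategoryTheory.Limits in
/-- EGA IV 15.7.5 (c ⇒ a): let Y be locally Noetherian, f : X ⟶ Y separated and of finite type, and y a point of Y. Suppose that for every discrete valuation ring A with fraction field K and every morphism g : Spec A ⟶ Y sending the closed point to y, every K-point σ of X ×_Y Spec A lying over the generic point Spec K ⟶ Spec A extends to a section of X ×_Y Spec A ⟶ Spec A. Then f is proper over some open neighbourhood of y. -/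
theorem result {X Y : Scheme.{u}} [IsLocallyNoetherian Y]
    (f : X ⟶ Y) [IsSeparated f] [LocallyOfFiniteType f] [QuasiCompact f] (y : Y)
    (h : ∀ (A : Type u) [CommRing A] [IsDomain A] [IsDiscreteValuationRing A]
      (g : Spec (CommRingCat.of A) ⟶ Y), g.base (IsLocalRing.closedPoint A) = y →
      ∀ σ : Spec (CommRingCat.of (FractionRing A)) ⟶ pullback f g,
        σ ≫ pullback.snd f g = Spec.map (CommRingCat.ofHom (algebraMap A (FractionRing A))) →
        ∃ s : Spec (CommRingCat.of A) ⟶ pullback f g, s ≫ pullback.snd f g = 𝟙 _ ∧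
          Spec.map (CommRingCat.ofHom (algebraMap A (FractionRing A))) ≫ s = σ) :
    ∃ U : Y.Opens, y ∈ U ∧ IsProper (f ∣_ U) := by
  obtain ⟨A, jY, hjY, ⟨y₀, rfl⟩, -⟩ :=
    Scheme.exists_affine_mem_range_and_range_subset (U := (⊤ : Y.Opens)) (x := y) trivial
  have hA1 : IsLocallyNoetherian (Spec A) := LocallyOfFiniteType.isLocallyNoetherian jY
  have hA2 : IsNoetherianRing A := by rwa [isLocallyNoetherian_Spec] at hA1
  have hl : LiftAt (pullback.snd f jY) y₀ := LiftAt.pullback_snd f jY y₀ (liftAt_of_sections f _ h)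
  obtain ⟨U₀, hyU₀, hU₀⟩ := affine_case (A := A) (pullback.snd f jY) y₀ hl
  refine ⟨jY ''ᵁ U₀, ⟨y₀, hyU₀, rfl⟩, ?_⟩
  have hr : Set.range (jY ''ᵁ U₀).ι = Set.range (U₀.ι ≫ jY) := by
    rw [Scheme.Opens.range_ι]
    ext z
    constructor
    · rintro ⟨w, hw, rfl⟩
      exact ⟨⟨w, hw⟩, Scheme.Hom.comp_apply _ _ _⟩
    · rintro ⟨w, rfl⟩
      exact ⟨w.1, w.2, (Scheme.Hom.comp_apply U₀.ι jY w).symm⟩
  let e := IsOpenImmersion.isoOfRangeEq (jY ''ᵁ U₀).ι (U₀.ι ≫ jY) hr
  have he : e.hom ≫ (U₀.ι ≫ jY) = (jY ''ᵁ U₀).ι := IsOpenImmersion.isoOfRangeEq_hom_fac _ _ hr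
  have sq1 := (isPullback_morphismRestrict f (jY ''ᵁ U₀)).flip
  rw [← he] at sq1
  have sq2 := ((isPullback_morphismRestrict (pullback.snd f jY) U₀).flip).paste_horiz
    (IsPullback.of_hasPullback f jY)
  have e1 : (f ⁻¹ᵁ (jY ''ᵁ U₀)).ι ≫ f = (f ∣_ (jY ''ᵁ U₀) ≫ e.hom) ≫ U₀.ι ≫ jY := by
    rw [sq1.w, Category.assoc]
  have sq3 : IsPullback (sq2.lift (f ⁻¹ᵁ (jY ''ᵁ U₀)).ι (f ∣_ (jY ''ᵁ U₀) ≫ e.hom) e1)
      (f ∣_ (jY ''ᵁ U₀)) (pullback.snd f jY ∣_ U₀) e.hom := by
    refine IsPullback.of_right ?_ (sq2.lift_snd _ _ _) sq2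
    rw [sq2.lift_fst]
    exact sq1
  exact MorphismProperty.of_isPullback sq3 hU₀

end Groth.Agent.S2596
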