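import Groth.Statements.S2904
import Groth.Agent.Sga1.EffLocal
import Groth.Agent.Sga1.SliceCover

set_option autoImplicit false
open CategoryTheory CategoryTheory.Limits AlgebraicGeometry Opposite
universe u
open SGA1

namespace Groth.Agent.S2904

/-- SGA 1 IX 4.9. Let S be locally Noetherian and g : S' ⟶ S of finite type, surjective and universally open. Then every descent datum relative to g whose underlying scheme is etale, separated and quasi-compact over S' is isomorphic to the canonical descent datum of a scheme etale, separated and quasi-compact over S. (Descent data relative to g are taken in functor-of-points form.) -/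
theorem result {S' S : Scheme.{u}} [IsLocallyNoetherian S] (g : S' ⟶ S)
    [LocallyOfFiniteType g] [QuasiCompact g] [Surjective g] [UniversallyOpen g]
    (D : Desc.SchDD g) [QuasiCompact D.obj.hom] [IsSeparated D.obj.hom] [Etale D.obj.hom] :
    ∃ U : Over S, QuasiCompact U.hom ∧ IsSeparated U.hom ∧ Etale U.hom ∧ Nonempty ((Desc.toDD g).obj U ≅ D) := by
  refine Groth.Agent.Sga1.EffLocal.effective_of_integral_cover D (fun s => ?_)
  obtain ⟨T, q, t, Y, π, r, h1, h2, h3, h4, h5⟩ :=
    Groth.Agent.Sga1.SliceCover.exists_finite_cover g s
  exact ⟨T, q, t, Y, π, r, h1, h2, inferInstance, h4, h5⟩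

end Groth.Agent.S2904
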