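import Groth.Statements.S2906
-- import your own Groth.Agent.* helpers here
import Groth.Agent.S1134
import Groth.Agent.Desc.LqfQAff
import Groth.Agent.Desc.IsoLeft

set_option autoImplicit false
open CategoryTheory CategoryTheory.Limits AlgebraicGeometry Opposite
universe u
open SGA1

namespace Groth.Agent.S2906

/-- SGA 1 IX 4.1. Let g : S' ⟶ S be flat, surjective and quasi-compact. Then every descent datum relative to g whose underlying scheme is etale, separated and quasi-compact over S' is isomorphic to the canonical descent datum of a scheme etale, separated and quasi-compact over S. (Descent data relative to g are taken in functor-of-points form.) -/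
theorem result {S' S : Scheme.{u}} (g : S' ⟶ S) [Flat g] [Surjective g] [QuasiCompact g]
    (D : Desc.SchDD g) [QuasiCompact D.obj.hom] [IsSeparated D.obj.hom] [Etale D.obj.hom] :
    ∃ U : Over S, QuasiCompact U.hom ∧ IsSeparated U.hom ∧ Etale U.hom ∧ Nonempty ((Desc.toDD g).obj U ≅ D) := by
  obtain ⟨U, ⟨e⟩⟩ := Groth.Agent.S1134.result g D
    (Groth.Agent.Desc.LqfQAff.isQuasiAffine_of_etale D.obj.hom)
  have hg : (@Surjective ⊓ @Flat ⊓ @QuasiCompact : MorphismProperty Scheme.{u}) g :=
    ⟨⟨inferInstance, inferInstance⟩, inferInstance⟩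
  have := Groth.Agent.Desc.MorDescent.descendsAlong_quasiCompact.{u}
  have := Groth.Agent.Desc.MorDescent.descendsAlong_isSeparated.{u}
  exact ⟨U, Groth.Agent.Desc.IsoLeft.of_iso (P := @QuasiCompact) hg e inferInstance,
    Groth.Agent.Desc.IsoLeft.of_iso (P := @IsSeparated) hg e inferInstance,
    Groth.Agent.Desc.IsoLeft.of_iso (P := @Etale) hg e inferInstance, ⟨e⟩⟩

end Groth.Agent.S2906
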