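import Groth.Statements.S2907
import Groth.Agent.Sga1.QuotExists
-- import your own Groth.Agent.* helpers here

set_option autoImplicit false
open CategoryTheory CategoryTheory.Limits AlgebraicGeometry
universe u
open SGA1

namespace Groth.Agent.S2907

/-- SGA 1 V, Proposition 1.8 (sufficiency). Let a finite group G act on a scheme X by automorphisms and suppose every orbit of G is contained in some affine open of X. Then the quotient of X by G exists: there is an affine G-invariant morphism p : X ⟶ Y identifying the sections of O_Y over each open with the G-invariant sections of O_X over its preimage. -/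
theorem result {X : Scheme.{u}} {G : Type u} [Group G] [Finite G] (ρ : G →* Aut X)
    (h : ∀ x : X, ∃ U : X.Opens, IsAffineOpen U ∧ ∀ g : G, (ρ g).hom.base x ∈ U) :
    ∃ (Y : Scheme.{u}) (p : X ⟶ Y), SGA1.IsQuot ρ p := by
  exact Sga1.QuotExists.exists_isQuot ρ h

end Groth.Agent.S2907
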