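import Groth.Statements.S2909
import Groth.Agent.Sga1.QuotAffine

set_option autoImplicit false
open CategoryTheory CategoryTheory.Limits AlgebraicGeometry
universe u
open SGA1

namespace Groth.Agent.S2909

/-- SGA 1 V 1.5. Let a finite group G act on a scheme X by automorphisms over a scheme Z (structure morphism f), and let p : X ⟶ Y be a quotient of X by G with Y ⟶ Z the induced morphism q (so p ≫ q = f). Then X is affine over Z iff Y is, X is separated over Z iff Y is; if f is locally of finite type then p is finite; and if moreover Z is locally Noetherian and f quasi-compact then q is of finite type (locally of finite type and quasi-compact). -/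
theorem result {X Y Z : Scheme.{u}} {G : Type u} [Group G] [Finite G] (ρ : G →* Aut X)
    (p : X ⟶ Y) (hp : SGA1.IsQuot ρ p) (f : X ⟶ Z) (q : Y ⟶ Z) (hq : p ≫ q = f) (hρ : ∀ g : G, (ρ g).hom ≫ f = f) :
    (IsAffineHom f ↔ IsAffineHom q) ∧ (IsSeparated f ↔ IsSeparated q) ∧
    (LocallyOfFiniteType f → IsFinite p) ∧
    (IsLocallyNoetherian Z → LocallyOfFiniteType f → QuasiCompact f → LocallyOfFiniteType q ∧ QuasiCompact q) := by
  have hpa := hp.affine
  have hint := Groth.Agent.Sga1.FreeQuotSch.isIntegralHom_of_isQuot hp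
  have hsurj := Groth.Agent.Sga1.FreeQuotSch.surjective_of_isQuot hp
  refine ⟨⟨fun h => ?_, fun h => ?_⟩, ⟨fun h => ?_, fun h => ?_⟩, fun h => ?_, fun h1 h2 h3 => ⟨?_, ?_⟩⟩
  · exact Groth.Agent.Sga1.QuotAffine.isAffineHom_of_isQuot hp hq
  · rw [← hq]; infer_instance
  · exact Groth.Agent.Sga1.QuotAffine.isSeparated_of_comp hq
  · rw [← hq]; infer_instance
  · exact Groth.Agent.Sga1.QuotAffine.isFinite_of_isQuot hp hq
  · exact Groth.Agent.Sga1.QuotAffine.locallyOfFiniteType_of_isQuot hp hq
  · exact Groth.Agent.Sga1.QuotAffine.quasiCompact_of_comp hq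

end Groth.Agent.S2909
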