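import Groth.Statements.S2910
import Groth.Agent.Sga1.Transit

set_option autoImplicit false
open CategoryTheory CategoryTheory.Limits AlgebraicGeometry
universe u
open SGA1

namespace Groth.Agent.S2910

/-- SGA 1 V 2.4. Let a finite group G act faithfully on a connected scheme X, let p : X ⟶ Y be a quotient of X by G with Y locally Noetherian and p finite, and suppose p is etale. Then G acts freely on the geometric points of X (all inertia groups are trivial), and every automorphism of X over Y is the action of exactly one element of G. -/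
theorem result {X Y : Scheme.{u}} {G : Type u} [Group G] [Finite G] (ρ : G →* Aut X)
    (p : X ⟶ Y) (hp : SGA1.IsQuot ρ p) [IsLocallyNoetherian Y] [IsFinite p] [ConnectedSpace X]
    (hfaith : Function.Injective ρ) [Etale p] :
    (∀ (K : Type u) [Field K] [IsAlgClosed K] (ξ : Spec (CommRingCat.of K) ⟶ X) (g : G), ξ ≫ (ρ g).hom = ξ → g = 1) ∧
    ∀ u : Aut X, u.hom ≫ p = p → ∃! g : G, ρ g = u := by
  constructor
  · intro K _ _ ξ g h
    apply hfaith
    rw [map_one]
    ext1
    exact Groth.Agent.Sga1.Transit.eq_of_connected p (ρ g).hom (𝟙 X) ((hp.inv g).trans (Category.id_comp p).symm)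
      ξ (h.trans (Category.comp_id ξ).symm)
  · intro u hu
    obtain ⟨x⟩ : Nonempty X := inferInstance
    obtain ⟨g, hg⟩ := Groth.Agent.Sga1.Transit.exists_comp_eq hp (K := X.residueField x)
      (X.fromSpecResidueField x ≫ u.hom) (X.fromSpecResidueField x) (by rw [Category.assoc, hu])
    have h1 : u.hom = (ρ g).hom :=
      Groth.Agent.Sga1.Transit.eq_of_connected p u.hom (ρ g).hom (hu.trans (hp.inv g).symm) _ hg
    have h2 : ρ g = u := by ext1; exact h1.symm
    exact ⟨g, h2, fun g' hg' => hfaith (hg'.trans h2.symm)⟩

end Groth.Agent.S2910
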