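import Groth.Statements.S2911
import Groth.Agent.Sga1.EtaleQuotSch

set_option autoImplicit false
open CategoryTheory CategoryTheory.Limits AlgebraicGeometry
universe u
open SGA1

namespace Groth.Agent.S2911

/-- SGA 1 V 3.1, 3.2, 3.4 (with the existence of the quotient taken as a hypothesis). Let Y be locally Noetherian, f : X ⟶ Y etale, separated and quasi-compact, G a finite group acting on X by Y-automorphisms, p : X ⟶ X' a quotient of X by G and q : X' ⟶ Y the induced morphism. Then p and q are etale, and if f is finite then q is finite. -/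
theorem result {X X' Y : Scheme.{u}} {G : Type u} [Group G] [Finite G] (ρ : G →* Aut X)
    [IsLocallyNoetherian Y] (f : X ⟶ Y) [Etale f] [IsSeparated f] [QuasiCompact f] (hρ : ∀ g : G, (ρ g).hom ≫ f = f)
    (p : X ⟶ X') (hp : SGA1.IsQuot ρ p) (q : X' ⟶ Y) (hq : p ≫ q = f) :
    Etale p ∧ Etale q ∧ (IsFinite f → IsFinite q) := by
  obtain ⟨h1, -, -, h4⟩ := Groth.Agent.S2909.result ρ p hp f q hq hρ
  obtain ⟨h5, -⟩ := h4 inferInstance inferInstance inferInstance
  obtain ⟨h6, h7⟩ := Groth.Agent.Sga1.EtaleQuotSch.etale_and_etale f hρ p hp q hq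
  refine ⟨h6, h7, fun hf => ?_⟩
  subst hq
  have : IsAffineHom q := h1.mp inferInstance
  exact Groth.Agent.Sga1.EtaleQuotSch.isFinite_of_isFinite p q hp.injective

end Groth.Agent.S2911
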