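import Groth.Statements.S2912
-- import your own Groth.Agent.* helpers here
import Groth.Agent.S1131
import Groth.Agent.S1132
import Groth.Agent.S1133
import Groth.Agent.Desc.BaseOpenDD

set_option autoImplicit false
open CategoryTheory CategoryTheory.Limits AlgebraicGeometry Opposite
universe u
open SGA1

namespace Groth.Agent.S2912

open Groth.Agent.Desc.StableDD Groth.Agent.Desc.BaseOpenDD in
theorem effective_restrict {S' S : Scheme.{u}} (g : S' ⟶ S) [Flat g] [Surjective g]
    [QuasiCompact g] [UniversallyInjective g] (D : Desc.SchDD g) (S₀ : S.Opens)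
    (hS₀ : IsAffineOpen S₀) (W : D.obj.left.Opens) (hW : IsAffineOpen W)
    (hWS : W ≤ (D.obj.hom ≫ g) ⁻¹ᵁ S₀) :
    ∃ U : Over S, Nonempty ((Desc.toDD g).obj U ≅
      restrict D W (isStable_of_universallyInjective D W)) := by
  let D' := restrict D W (isStable_of_universallyInjective D W)
  let v₀ : W.toScheme ⟶ (g ⁻¹ᵁ S₀).toScheme := liftOpen (g ⁻¹ᵁ S₀) (W.ι ≫ D.obj.hom) (by
    intro t
    have h1 : W.ι t ∈ W := (mem_range_ι W _).mp ⟨t, rfl⟩
    exact hWS h1)
  have hv : v₀ ≫ (g ⁻¹ᵁ S₀).ι = W.ι ≫ D.obj.hom := liftOpen_ι _ _ _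
  have H : IsPullback (g ⁻¹ᵁ S₀).ι (g ∣_ S₀) g S₀.ι := (isPullback_morphismRestrict g S₀).flip
  have hsep : IsSeparated g := isSeparated_of_universallyInjective g
  have haff : IsAffine W.toScheme := hW
  have haff' : IsAffine S₀.toScheme := hS₀
  have h1 : IsAffineHom (v₀ ≫ (g ∣_ S₀)) := inferInstance
  have hsep' : IsSeparated (g ∣_ S₀) := inferInstance
  have h2 : IsAffineHom v₀ := IsAffineHom.of_comp v₀ (g ∣_ S₀)
  have hsurj : Surjective (g ∣_ S₀) := MorphismProperty.of_isPullback H ‹Surjective g›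
  refine effective_of_baseMono H D' v₀ hv ?_
  have h3 : IsAffineHom (baseMono H D' v₀ hv).obj.hom := h2
  exact Groth.Agent.S1133.result (g ∣_ S₀) (baseMono H D' v₀ hv)

/-- SGA 1 VIII 7.5. Let g : S' ⟶ S be flat, surjective, quasi-compact and universally injective. Then every descent datum relative to g (on an arbitrary S'-scheme) is isomorphic to the canonical descent datum of some S-scheme. (Descent data relative to g are taken in functor-of-points form.) -/
theorem result {S' S : Scheme.{u}} (g : S' ⟶ S) [Flat g] [Surjective g] [QuasiCompact g]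
    [UniversallyInjective g] (D : Desc.SchDD g) : ∃ U : Over S, Nonempty ((Desc.toDD g).obj U ≅ D) := by
  have := Groth.Agent.S1131.result g
  have := Groth.Agent.S1132.result g
  have hq : ∀ T : Over S, Topology.IsQuotientMap (pullback.snd g T.hom).base :=
    fun T ↦ Flat.isQuotientMap_of_surjective _
  have key : ∀ v : D.obj.left, ∃ (S₀ : S.Opens) (W : D.obj.left.Opens), IsAffineOpen S₀ ∧
      IsAffineOpen W ∧ W ≤ (D.obj.hom ≫ g) ⁻¹ᵁ S₀ ∧ v ∈ W := by
    intro v
    obtain ⟨S₀, hS₀, hv, -⟩ := TopologicalSpace.Opens.isBasis_iff_nbhd.mp S.isBasis_affineOpens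
      (TopologicalSpace.Opens.mem_top ((D.obj.hom ≫ g) v))
    obtain ⟨W, hW, hvW, hle⟩ := TopologicalSpace.Opens.isBasis_iff_nbhd.mp
      D.obj.left.isBasis_affineOpens (show v ∈ (D.obj.hom ≫ g) ⁻¹ᵁ S₀ from hv)
    exact ⟨S₀, W, hS₀, hW, hle, hvW⟩
  choose S₀ W hS₀ hW hle hv using key
  exact Groth.Agent.Desc.StableDD.effective_of_cover D hq W
    (fun i ↦ Groth.Agent.Desc.BaseOpenDD.isStable_of_universallyInjective D (W i))
    (fun v ↦ ⟨v, hv v⟩) (fun v ↦ effective_restrict g D (S₀ v) (hS₀ v) (W v) (hW v) (hle v))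

end Groth.Agent.S2912
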