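import Groth.Statements.S2913
-- import your own Groth.Agent.* helpers here

set_option autoImplicit false
open CategoryTheory CategoryTheory.Limits AlgebraicGeometry Opposite
universe u
open SGA1

namespace Groth.Agent.S2913

/-- SGA 1 VIII 5.1 a). Let g : S' ⟶ S be a surjective morphism of schemes such that for every open U of S the map O_S(U) → O_{S'}(g⁻¹U) is injective. Then g is an epimorphism in the category of schemes. -/
theorem result {S' S : Scheme.{u}} (g : S' ⟶ S) [Surjective g]
    (hinj : ∀ U : S.Opens, Function.Injective (g.app U).hom) : Epi g := by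
  constructor
  intro Z u v huv
  have hb : u.base = v.base := by
    have hs : Epi g.base := (TopCat.epi_iff_surjective _).mpr ‹Surjective g›.surj
    have h1 : g.base ≫ u.base = g.base ≫ v.base := by
      rw [← Scheme.Hom.comp_base, ← Scheme.Hom.comp_base, huv]
    exact (cancel_epi g.base).mp h1
  refine Scheme.Hom.ext hb fun U => ?_
  have hmono : Mono (g.app (v ⁻¹ᵁ U)) := ConcreteCategory.mono_of_injective _ (hinj _)
  rw [← cancel_mono (g.app (v ⁻¹ᵁ U))]
  have h2 := Scheme.Hom.congr_app huv U
  simp only [Scheme.Hom.comp_app] at h2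
  rw [Category.assoc, Scheme.Hom.naturality, reassoc_of% h2]
  have key : ∀ {V W : S'.Opens} (a : op V ⟶ op W) (b : op W ⟶ op V),
      S'.presheaf.map a ≫ S'.presheaf.map b = 𝟙 _ := fun a b => by
    rw [← Functor.map_comp, Subsingleton.elim (a ≫ b) (𝟙 _), CategoryTheory.Functor.map_id]
  erw [Category.assoc, key, Category.comp_id]

end Groth.Agent.S2913
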