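import Groth.Statements.S2914
import Groth.Agent.Sga1.EffEpi
-- import your own Groth.Agent.* helpers here

set_option autoImplicit false
open CategoryTheory CategoryTheory.Limits AlgebraicGeometry Opposite
universe u
open SGA1

namespace Groth.Agent.S2914

/-- SGA 1 VIII 5.1 b). Let g : S' ⟶ S be a morphism of schemes whose underlying map is a quotient map, and such that for every open U of S the sequence O_S(U) → O_{S'}(g⁻¹U) ⇉ O_{S''}(h⁻¹U) is an equalizer, where S'' = S' ×_S S' with structure map h and the two arrows are restriction along the projections. Then g is an effective epimorphism in the category of schemes. -/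
theorem result {S' S : Scheme.{u}} (g : S' ⟶ S) (hq : Topology.IsQuotientMap g.base)
    (hinj : ∀ U : S.Opens, Function.Injective (g.app U).hom)
    (heq : ∀ (U : S.Opens) (s' : Γ(S', g ⁻¹ᵁ U)), (SGA1.overlapFstApp g U).hom s' = (SGA1.overlapSndApp g U).hom s' →
      s' ∈ Set.range (g.app U).hom) :
    EffectiveEpi g := by
  have hsurj : Surjective g := ⟨hq.surjective⟩
  have hepi : Epi g := Groth.Agent.S2913.result g hinj
  have key : ∀ {W : Scheme.{u}} (e : S' ⟶ W),
      (∀ {Z : Scheme.{u}} (g₁ g₂ : Z ⟶ S'), g₁ ≫ g = g₂ ≫ g → g₁ ≫ e = g₂ ≫ e) →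
      ∃ d : S ⟶ W, g ≫ d = e := fun e he =>
    Groth.Agent.Sga1.EffEpi.exists_desc g hq hinj heq e (he _ _ pullback.condition)
  exact ⟨⟨{ desc := fun e he => (key e he).choose
            fac := fun e he => (key e he).choose_spec
            uniq := fun e he m hm => by
              rw [← cancel_epi g, hm, (key e he).choose_spec] }⟩⟩

end Groth.Agent.S2914
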