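import Groth.Statements.S2916
import Groth.Agent.Sga1.EtaleHom
-- import your own Groth.Agent.* helpers here

set_option autoImplicit false
open CategoryTheory CategoryTheory.Limits AlgebraicGeometry Opposite
universe u
open SGA1

namespace Groth.Agent.S2916

open Groth.Agent.Sga1

set_option backward.isDefEq.respectTransparency false in
/-- SGA 1 IX 3.4. Let g : S' ⟶ S be universally submersive with geometrically connected fibres (the base change of S' to any algebraically closed field valued point of S is connected). Then S' is connected whenever S is, and for schemes X, Y etale over S every S'-morphism between their base changes comes from exactly one S-morphism X ⟶ Y. -/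
theorem result {S' S : Scheme.{u}} (g : S' ⟶ S)
    (hg : SGA1.UnivSubmersive g)
    (hconn : ∀ (K : Type u) [Field K] [IsAlgClosed K] (ξ : Spec (CommRingCat.of K) ⟶ S), ConnectedSpace ↑(pullback g ξ)) :
    (ConnectedSpace S → ConnectedSpace S') ∧
    ∀ (X Y : Over S) [Etale X.hom] [Etale Y.hom], Function.Bijective ((Over.pullback g).map : (X ⟶ Y) → _) := by
  refine ⟨fun _ => EtaleHom.connectedSpace_of_geomConnected g (UnivSub.isQuotientMap hg) hconn,
    fun X Y _ _ => ⟨?_, ?_⟩⟩
  · intro u u' huu'
    have hs : Surjective g := UnivSub.surjective hg
    have hs' : Surjective (pullback.fst X.hom g) := inferInstance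
    ext1
    refine EtaleHom.hom_unique (pullback.fst X.hom g) Y.hom u.left u'.left
      ((Over.w u).trans (Over.w u').symm) ?_
    have := congrArg (fun f => f.left ≫ pullback.fst Y.hom g) huu'
    simpa using this
  · intro v
    have hX : UnivSubmersive (pullback.fst X.hom g) := MorphismProperty.pullback_fst _ _ hg
    have hconnX : ∀ (K : Type u) [Field K] [IsAlgClosed K] (ξ : Spec (CommRingCat.of K) ⟶ X.left),
        ConnectedSpace ↑(pullback (pullback.fst X.hom g) ξ) := by
      intro K _ _ ξ
      have h1 : IsPullback (pullback.snd (pullback.fst X.hom g) ξ)
          (pullback.fst (pullback.fst X.hom g) ξ ≫ pullback.snd X.hom g) (ξ ≫ X.hom) g :=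
        (IsPullback.of_hasPullback (pullback.fst X.hom g) ξ).flip.paste_vert
          (IsPullback.of_hasPullback X.hom g)
      have := hconn K (ξ ≫ X.hom)
      let i := h1.flip.isoPullback
      exact (Scheme.homeoOfIso i).symm.surjective.connectedSpace
        (Scheme.homeoOfIso i).symm.continuous
    obtain ⟨u, hu1, hu2⟩ := EtaleHom.exists_hom_of_geomConnected (pullback.fst X.hom g) hX hconnX
      X.hom Y.hom (v.left ≫ pullback.fst Y.hom g) (by
        have := Over.w v
        simp only [Over.pullback_obj_hom] at this
        rw [Category.assoc, pullback.condition, ← Category.assoc, pullback.condition]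
        rw [← this])
    refine ⟨Over.homMk u hu1, ?_⟩
    ext1
    apply pullback.hom_ext
    · simpa using hu2
    · have := Over.w v
      simp only [Over.pullback_obj_hom] at this
      simpa using this.symm

end Groth.Agent.S2916
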