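import Groth.Statements.S2917
import Groth.Agent.Sga1.UnivSub
-- import your own Groth.Agent.* helpers here

set_option autoImplicit false
open CategoryTheory CategoryTheory.Limits AlgebraicGeometry Opposite
universe u
open SGA1

namespace Groth.Agent.S2917

open Groth.Agent.Sga1.UnivSub

theorem sq {S' S X Y : Scheme.{u}} (g : S' ⟶ S) (f : X ⟶ Y) (q : Y ⟶ S) :
    IsPullback (pullback.fst (f ≫ q) g) (pullback.map (f ≫ q) g q g f (𝟙 S') (𝟙 S)
      (Category.comp_id _) ((Category.comp_id _).trans (Category.id_comp _).symm)) f
      (pullback.fst q g) := by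
  refine IsPullback.of_bot (v₂₁ := pullback.snd q g) (h₃₁ := g) (v₂₂ := q) ?_
    (pullback.lift_fst _ _ _).symm (IsPullback.of_hasPullback _ _)
  have : pullback.map (f ≫ q) g q g f (𝟙 S') (𝟙 S)
      (Category.comp_id _) ((Category.comp_id _).trans (Category.id_comp _).symm) ≫
      pullback.snd q g = pullback.snd _ _ :=
    (pullback.lift_snd _ _ _).trans (Category.comp_id _)
  rw [this]
  exact IsPullback.of_hasPullback _ _

/-- SGA 1 IX 2.4. Let g : S' ⟶ S be universally submersive, f : X ⟶ Y a morphism of S-schemes (Y ⟶ S the structure map) and f' its base change along S' ⟶ S, realised as X ×_S S' ⟶ Y ×_S S'. If f' is open (resp. closed) then so is f; if f' is universally open (resp. universally closed, resp. separated) then so is f; and if moreover g is quasi-compact and f locally of finite type, then f is proper as soon as f' is. -/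
theorem result {S' S X Y : Scheme.{u}} (g : S' ⟶ S) (hg : SGA1.UnivSubmersive g)
    (f : X ⟶ Y) (q : Y ⟶ S) :
    (IsOpenMap (pullback.map (f ≫ q) g q g f (𝟙 S') (𝟙 S) (Category.comp_id _) ((Category.comp_id _).trans (Category.id_comp _).symm)).base → IsOpenMap f.base) ∧
    (IsClosedMap (pullback.map (f ≫ q) g q g f (𝟙 S') (𝟙 S) (Category.comp_id _) ((Category.comp_id _).trans (Category.id_comp _).symm)).base → IsClosedMap f.base) ∧
    (UniversallyOpen (pullback.map (f ≫ q) g q g f (𝟙 S') (𝟙 S) (Category.comp_id _) ((Category.comp_id _).trans (Category.id_comp _).symm)) → UniversallyOpen f) ∧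
    (UniversallyClosed (pullback.map (f ≫ q) g q g f (𝟙 S') (𝟙 S) (Category.comp_id _) ((Category.comp_id _).trans (Category.id_comp _).symm)) → UniversallyClosed f) ∧
    (IsSeparated (pullback.map (f ≫ q) g q g f (𝟙 S') (𝟙 S) (Category.comp_id _) ((Category.comp_id _).trans (Category.id_comp _).symm)) → IsSeparated f) ∧
    (QuasiCompact g → LocallyOfFiniteType f →
      IsProper (pullback.map (f ≫ q) g q g f (𝟙 S') (𝟙 S) (Category.comp_id _) ((Category.comp_id _).trans (Category.id_comp _).symm)) → IsProper f) := by
  have h := sq g f q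
  have hg' : UnivSubmersive (pullback.fst q g) :=
    MorphismProperty.pullback_fst _ _ hg
  refine ⟨fun H => ?_, fun H => ?_, fun H => ?_, fun H => ?_, fun H => ?_, fun _ _ H => ?_⟩
  · exact isOpenMap_of_isPullback h (isQuotientMap hg') H
  · exact isClosedMap_of_isPullback h (isQuotientMap hg') H
  · exact MorphismProperty.of_isPullback_of_descendsAlong (P := @UniversallyOpen)
      (Q := UnivSubmersive) h.flip hg' H
  · exact MorphismProperty.of_isPullback_of_descendsAlong (P := @UniversallyClosed)
      (Q := UnivSubmersive) h.flip hg' H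
  · exact MorphismProperty.of_isPullback_of_descendsAlong (P := @IsSeparated)
      (Q := UnivSubmersive) h.flip hg' H
  · have h1 : UniversallyClosed f :=
      MorphismProperty.of_isPullback_of_descendsAlong (P := @UniversallyClosed)
        (Q := UnivSubmersive) h.flip hg' H.toUniversallyClosed
    have h2 : IsSeparated f :=
      MorphismProperty.of_isPullback_of_descendsAlong (P := @IsSeparated)
        (Q := UnivSubmersive) h.flip hg' H.toIsSeparated
    exact ⟨⟩

end Groth.Agent.S2917
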