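import Groth.Statements.S2918
import Groth.Agent.Sga1.Birat
import Groth.Agent.Pi1A.FEtAffine

set_option autoImplicit false
universe u
open SGA1

namespace Groth.Agent.S2918

open AlgebraicGeometry CategoryTheory CategoryTheory.Limits in
/-- SGA 1 X 3.4 (birational invariance of the fundamental group, in terms of finite etale covers). Let X and Y be proper over a field k, locally Noetherian with all local rings regular, and birational over k: some dense open of X is k-isomorphic to some dense open of Y. Then the categories of finite etale covers of X and of Y are equivalent compatibly with restriction to the common dense open. -/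
theorem result (k : Type u) [Field k] {X Y : Scheme.{u}}
    (f : X ⟶ Spec (CommRingCat.of k)) (g : Y ⟶ Spec (CommRingCat.of k)) [IsProper f] [IsProper g]
    [IsLocallyNoetherian X] [IsLocallyNoetherian Y]
    (hX : ∀ x : X, IsRegularLocalRing (X.presheaf.stalk x)) (hY : ∀ y : Y, IsRegularLocalRing (Y.presheaf.stalk y))
    (U : X.Opens) (V : Y.Opens) (hU : Dense (U : Set X)) (hV : Dense (V : Set Y))
    (e : (U : Scheme.{u}) ≅ (V : Scheme.{u})) (he : e.hom ≫ V.ι ≫ g = U.ι ≫ f) :
    ∃ Φ : FEt.Cat X ≌ FEt.Cat Y, Nonempty (FEt.restrict U.ι ≅ Φ.functor ⋙ FEt.restrict V.ι ⋙ FEt.restrict e.hom) := by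
  have : CompactSpace X := QuasiCompact.compactSpace_of_compactSpace f
  have : CompactSpace Y := QuasiCompact.compactSpace_of_compactSpace g
  have : IsNoetherian X := { }
  have : IsNoetherian Y := { }
  obtain ⟨hXf, hXf'⟩ := Groth.Agent.Sga1.BiratFF.restrict_fullyFaithful hX U hU
  obtain ⟨hYf, hYf'⟩ := Groth.Agent.Sga1.BiratFF.restrict_fullyFaithful hY V hV
  have h1 := fun B => Groth.Agent.Sga1.Birat.essImage_of_extension f g hX U hU (e.hom ≫ V.ι)
    (by rw [Category.assoc, he]) B
  have h2 := fun A => Groth.Agent.Sga1.Birat.essImage_of_extension g f hY V hV (e.inv ≫ U.ι)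
    (by rw [Category.assoc, ← he]; simp) A
  have hFF : (FEt.restrict V.ι ⋙ FEt.restrict e.hom).Full := inferInstance
  have hFF' : (FEt.restrict V.ι ⋙ FEt.restrict e.hom).Faithful := inferInstance
  refine Groth.Agent.Sga1.Birat.exists_equiv (FEt.restrict U.ι) (FEt.restrict V.ι ⋙ FEt.restrict e.hom) ?_ ?_
  · intro A
    obtain ⟨B, ⟨i⟩⟩ := h2 A
    refine ⟨B, ⟨(FEt.restrict e.hom).mapIso i ≪≫ ?_⟩⟩
    exact ((Groth.Agent.Sga1.Birat.restrictComp e.hom (e.inv ≫ U.ι) U.ι (by simp)).app A).symm
  · intro B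
    obtain ⟨A, ⟨i⟩⟩ := h1 B
    exact ⟨A, ⟨i ≪≫ (Groth.Agent.Sga1.Birat.restrictComp e.hom V.ι _ rfl).app B⟩⟩

end Groth.Agent.S2918
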