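import Groth.Statements.S2920
import Groth.Agent.Sga1.FreeQuotSch
import Mathlib.AlgebraicGeometry.Morphisms.Etale

set_option autoImplicit false
open CategoryTheory CategoryTheory.Limits AlgebraicGeometry
universe u
open SGA1

namespace Groth.Agent.S2920

/-- SGA 1 V 2.6, (i) ⇒ (iii). Let a finite group G act on X, p : X ⟶ Y a quotient with Y locally Noetherian and p finite, G acting freely on geometric points. Then the morphism from the disjoint union of copies of X indexed by G to X ×_Y X given on the g-th copy by (id, g) is an isomorphism, and p is flat and surjective. -/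
theorem result {X Y : Scheme.{u}} {G : Type u} [Group G] [Finite G] (ρ : G →* Aut X)
    (p : X ⟶ Y) (hp : SGA1.IsQuot ρ p) [IsLocallyNoetherian Y] [IsFinite p] (hfree : (∀ (K : Type u) [Field K] [IsAlgClosed K] (ξ : Spec (CommRingCat.of K) ⟶ X) (g : G), ξ ≫ (ρ g).hom = ξ → g = 1)) :
    IsIso (Sigma.desc (fun g : G => pullback.lift (𝟙 X) (ρ g).hom ((Category.id_comp p).trans (hp.inv g).symm)) :
      (∐ fun _ : G => X) ⟶ pullback p p) ∧ Flat p ∧ Surjective p := by
  have h := Groth.Agent.Sga1.FreeQuotSch.etale_of_isFree hp hfree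
  refine ⟨Groth.Agent.Sga1.FreeQuotSch.isIso_sigma_graph hp hfree, ?_, Groth.Agent.Sga1.FreeQuotSch.surjective_of_isQuot hp⟩
  exact (Etale.iff_flat_and_formallyUnramified.mp h).1

end Groth.Agent.S2920
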