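import Groth.Statements.S2921
import Groth.Agent.Sga1.KummerReg
import Groth.Agent.Sga1.KummerEtale

set_option autoImplicit false
universe u
open IsLocalRing
open SGA1

namespace Groth.Agent.S2921

/-- SGA 1 XIII 5.1 (regularity and etaleness; the tameness assertion is not stated). Let A be a regular local ring, f_1, …, f_r elements of the maximal ideal whose images in the cotangent space are linearly independent (part of a regular system of parameters), and n_1, …, n_r ≥ 1. Then A' = A[T_1, …, T_r]/(T_i^{n_i} − f_i) is a regular local ring; and if each n_i is invertible in the residue field of A, then A' becomes etale over A after inverting f_1 ⋯ f_r. -/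
theorem result (A : Type u) [CommRing A] [IsRegularLocalRing A] (r : ℕ) (f : Fin r → A)
    (hm : ∀ i, f i ∈ maximalIdeal A)
    (hf : LinearIndependent (ResidueField A) (fun i => (maximalIdeal A).toCotangent ⟨f i, hm i⟩))
    (n : Fin r → ℕ) (hn : ∀ i, 1 ≤ n i) :
    IsRegularLocalRing (SGA1.kummerAlg A f n) ∧
    ((∀ i, IsUnit ((n i : ℕ) : ResidueField A)) →
      letI := (Localization.awayMap (algebraMap A (SGA1.kummerAlg A f n)) (∏ i, f i)).toAlgebra
      Algebra.Etale (Localization.Away (∏ i, f i)) (Localization.Away (algebraMap A (SGA1.kummerAlg A f n) (∏ i, f i)))) := by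
  refine ⟨Sga1.KummerReg.isRegularLocalRing f n hm hf hn, fun hu => ?_⟩
  have hu' : ∀ i, IsUnit ((n i : ℕ) : A) := fun i => by
    have h := hu i
    rw [← map_natCast (IsLocalRing.residue A)] at h
    exact (isUnit_map_iff (IsLocalRing.residue A) _).mp h
  letI := (Localization.awayMap (algebraMap A (SGA1.kummerAlg A f n)) (∏ i, f i)).toAlgebra
  have h1 : Algebra.Etale A (Localization.Away (algebraMap A (SGA1.kummerAlg A f n) (∏ i, f i))) :=
    Sga1.KummerEtale.etale f n _ hn hu'
  have h2 : Algebra.Etale A (Localization.Away (∏ i, f i)) :=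
    Algebra.Etale.of_isLocalizationAway (∏ i, f i)
  have h3 : IsScalarTower A (Localization.Away (∏ i, f i))
      (Localization.Away (algebraMap A (SGA1.kummerAlg A f n) (∏ i, f i))) := by
    refine IsScalarTower.of_algebraMap_eq fun a => ?_
    rw [RingHom.algebraMap_toAlgebra, Localization.awayMap, IsLocalization.Away.map,
      IsLocalization.map_eq]
    exact IsScalarTower.algebraMap_apply A (SGA1.kummerAlg A f n) _ a
  exact Algebra.Etale.of_restrictScalars A _ _

end Groth.Agent.S2921
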