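import Groth.Statements.S2924
import Groth.Agent.Sga1.KummerTame

set_option autoImplicit false
universe u
open IsLocalRing
open SGA1

namespace Groth.Agent.S2924

/-- SGA 1 XIII 5.1, last assertion. Let A be a regular local ring, f_1, …, f_r part of a regular system of parameters and n_i ≥ 1 invertible in the residue field. Then the Kummer algebra A[T_1, …, T_r]/(T_i^{n_i} − f_i) is tamely ramified along each f_i (at every point of its generic fibre, with respect to the discrete valuation rings A_{(f_i)}). -/
theorem result (A : Type u) [CommRing A] [IsRegularLocalRing A] [IsDomain A] (r : ℕ) (f : Fin r → A)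
    (hm : ∀ i, f i ∈ maximalIdeal A)
    (hf : LinearIndependent (ResidueField A) (fun i => (maximalIdeal A).toCotangent ⟨f i, hm i⟩))
    [∀ i, (Ideal.span {f i}).IsPrime] (n : Fin r → ℕ) (hn : ∀ i, 1 ≤ n i) (hu : ∀ i, IsUnit ((n i : ℕ) : ResidueField A)) :
    SGA1.IsTameAlong f (algebraMap A (SGA1.kummerAlg A f n)) := by
  intro i q hq' hq V h
  let hAlg : Algebra (Localization.AtPrime (Ideal.span {f i})) V := (RingHom.codRestrict
    (SGA1.genericResidueMap (algebraMap A (SGA1.kummerAlg A f n)) (Ideal.span {f i}) q hq)
      V h.1).toAlgebra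
  intro hloc
  obtain ⟨h1, τ, hτ, h2⟩ := Sga1.KummerTame.main f n hm hf hn hu i q hq V (fun x => rfl)
  refine ⟨h1, fun p hp hchar hdvd => ?_⟩
  have hgmap : ∀ a : A, SGA1.genericResidueMap (algebraMap A (SGA1.kummerAlg A f n))
      (Ideal.span {f i}) q hq (algebraMap A (Localization.AtPrime (Ideal.span {f i})) a) =
      algebraMap _ q.ResidueField (algebraMap A (SGA1.kummerAlg A f n) a) := fun a =>
    IsLocalization.lift_eq _ _
  have hpow : τ ^ n i = algebraMap (Localization.AtPrime (Ideal.span {f i})) V
      (algebraMap A (Localization.AtPrime (Ideal.span {f i})) (f i)) := by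
    apply Subtype.ext
    change (τ : q.ResidueField) ^ n i = SGA1.genericResidueMap _ _ q hq _
    rw [hgmap, hτ, ← map_pow, Sga1.Kummer.T_pow]
  have hne : τ ≠ 0 := by
    intro h0
    have h3 : algebraMap _ q.ResidueField (algebraMap A (SGA1.kummerAlg A f n) (f i)) = 0 := by
      rw [← Sga1.Kummer.T_pow, map_pow, ← hτ, h0]
      exact zero_pow (by have := hn i; omega)
    have h4 : f i ∈ Ideal.comap (algebraMap A (SGA1.kummerAlg A f n)) q := by
      rw [Ideal.mem_comap, ← Ideal.ker_algebraMap_residueField q, RingHom.mem_ker]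
      exact h3
    rw [hq, Ideal.mem_bot] at h4
    exact Sga1.KummerTame.ne_zero f hm hf i h4
  have hmaxR : maximalIdeal (Localization.AtPrime (Ideal.span {f i})) =
      Ideal.span {algebraMap A (Localization.AtPrime (Ideal.span {f i})) (f i)} := by
    have := Localization.AtPrime.map_eq_maximalIdeal (I := Ideal.span {f i})
    rw [Ideal.map_span, Set.image_singleton] at this
    exact this.symm
  rw [Sga1.KummerTame.ramificationIdx'_eq _ τ (n i) hmaxR h2 hne hpow] at hdvd
  have h5 : ((n i : ℕ) : ResidueField (Localization.AtPrime (Ideal.span {f i}))) = 0 :=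
    (CharP.cast_eq_zero_iff _ p _).mpr hdvd
  have h6 : IsUnit ((n i : ℕ) : ResidueField (Localization.AtPrime (Ideal.span {f i}))) := by
    have h1 := hu i
    rw [← map_natCast (residue A)] at h1
    have h2 := (((isUnit_map_iff (residue A) _).mp h1).map
      (algebraMap A (Localization.AtPrime (Ideal.span {f i})))).map
      (residue (Localization.AtPrime (Ideal.span {f i})))
    rwa [map_natCast, map_natCast] at h2
  exact h6.ne_zero h5

end Groth.Agent.S2924
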