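import Groth.Statements.S2925
import Groth.Agent.Sga1.QuotBasic
import Groth.Agent.Sga1.DescHom

set_option autoImplicit false
open CategoryTheory CategoryTheory.Limits AlgebraicGeometry
universe u
open SGA1

namespace Groth.Agent.S2925

open Sga1.QuotBasic Sga1.DescHom in
/-- SGA 1 V 1.3 (iv) (with V 1.1 (iv)). Let a finite group G act on a scheme X and let p : X ⟶ Y be a quotient of X by G. Then every G-invariant morphism X ⟶ Z factors uniquely through p. -/
theorem result {X Y : Scheme.{u}} {G : Type u} [Group G] [Finite G] (ρ : G →* Aut X)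
    (p : X ⟶ Y) (hp : SGA1.IsQuot ρ p) (Z : Scheme.{u}) (h : X ⟶ Z) (hh : ∀ g : G, (ρ g).hom ≫ h = h) :
    ∃! h' : Y ⟶ Z, p ≫ h' = h := by
  refine existsUnique_desc p h (isQuotientMap_of_isQuot hp) hp.injective ?_ ?_
  · intro x x' e
    obtain ⟨g, rfl⟩ := exists_apply_eq_of_isQuot hp e
    exact (apply_apply_of_inv hh g x).symm
  · intro W V e f
    rw [hp.range_iff]
    intro g
    rw [← CommRingCat.comp_apply, Scheme.Hom.appLE_comp_appLE, appLE_congr_hom (hh g)]

end Groth.Agent.S2925
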