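import Groth.Statements.S2943
import Groth.Agent.Sga2.LocDual

set_option autoImplicit false
universe u
open CategoryTheory Opposite
open Dual

namespace Groth.Agent.S2943

/-- SGA 2 V 2.1 (local duality for a regular local ring).  Let A be a regular local ring of dimension r with maximal ideal m, κ → E an injective hull of the residue field (a dualizing module, IV 4.7/5.4), and M a finite A-module.  For every i ≤ r the local cohomology module H^i_m(M) is isomorphic to Hom_A(Ext^{r−i}_A(M, A), E).  (The source gives the isomorphism as the map induced by the Yoneda pairing; here the existence of an A-linear isomorphism is asserted.) -/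
theorem result (A : Type u) [CommRing A] [IsRegularLocalRing A] (r : ℕ) (hr : ringKrullDim A = r) (E : Type u) [AddCommGroup E] [Module A E] (f : IsLocalRing.ResidueField A →ₗ[A] E) (hf : InjHull.IsInjectiveHull f) (M : Type u) [AddCommGroup M] [Module A M] [Module.Finite A M] (i : ℕ) (hi : i ≤ r) : Nonempty (LocCoh.H (IsLocalRing.maximalIdeal A) i M ≃ₗ[A] ((((Ext A (ModuleCat.{u} A) (r - i)).obj (op (ModuleCat.of A M))).obj (ModuleCat.of A A)) →ₗ[A] E)) := by
  obtain ⟨e⟩ := Groth.Agent.Sga2.LocDual.local_duality_regular hr f hf (r - i) (Nat.sub_le r i)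
    (ModuleCat.of A M)
  rw [Nat.sub_sub_self hi] at e
  exact ⟨e.trans (LinearEquiv.congrLeft E A
    (Groth.Agent.Sga2.OldExt.oldNew A (ModuleCat.of A M) (ModuleCat.of A A) (r - i)).symm)⟩

end Groth.Agent.S2943
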