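import Groth.Statements.S2934
-- import your own Groth.Agent.* helpers here
import Groth.Agent.Sga2.FinLenLC
import Groth.Agent.Sga2.LCSurj
import Groth.Agent.Sga2.LCRes
import Groth.Agent.LoccohA.LCLinear

set_option autoImplicit false
universe u
open LocCoh

namespace Groth.Agent.S2934

open IsLocalRing Groth.Agent.Sga2 CategoryTheory Groth.Agent.LoccohA.LCLinear

/-- Vanishing of the local cohomology of stalks, over `A` and over `R` for a surjection `R → A`. -/
theorem stalk_iff (R A : Type u) [CommRing R] [CommRing A] [IsNoetherianRing R]
    [IsNoetherianRing A] (π : R →+* A)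
    (hπ : Function.Surjective π) (p : PrimeSpectrum A) (P : PrimeSpectrum R)
    (hP' : PrimeSpectrum.comap π p = P) (M : Type u) [AddCommGroup M] [Module A M] [Module R M]
    (hM : ∀ (r : R) (m : M), r • m = π r • m) (j : ℕ) :
    Subsingleton (LocCoh.H (maximalIdeal (Localization.AtPrime P.asIdeal)) j
      (LocalizedModule P.asIdeal.primeCompl M)) ↔
    Subsingleton (LocCoh.H (maximalIdeal (Localization.AtPrime p.asIdeal)) j
      (LocalizedModule p.asIdeal.primeCompl M)) := by
  subst hP'
  set P : PrimeSpectrum R := PrimeSpectrum.comap π p with hPdef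
  have hP : P.asIdeal = p.asIdeal.comap π := rfl
  let φ : Localization.AtPrime P.asIdeal →+* Localization.AtPrime p.asIdeal :=
    Localization.localRingHom P.asIdeal p.asIdeal π hP
  let _ : Algebra (Localization.AtPrime P.asIdeal) (Localization.AtPrime p.asIdeal) := φ.toAlgebra
  let _ : Module (Localization.AtPrime P.asIdeal) (LocalizedModule p.asIdeal.primeCompl M) :=
    Module.compHom _ φ
  let _ : Module R (LocalizedModule p.asIdeal.primeCompl M) := Module.compHom _ π
  have ht : IsScalarTower (Localization.AtPrime P.asIdeal) (Localization.AtPrime p.asIdeal)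
      (LocalizedModule p.asIdeal.primeCompl M) := by
    constructor
    intro a b x
    change (φ a * b) • x = φ a • (b • x)
    rw [mul_smul]
  have ht2 : IsScalarTower R (Localization.AtPrime P.asIdeal)
      (LocalizedModule p.asIdeal.primeCompl M) := by
    constructor
    intro a b x
    change φ (a • b) • x = π a • (φ b • x)
    rw [Algebra.smul_def, map_mul, mul_smul]
    have h1 : φ (algebraMap R (Localization.AtPrime P.asIdeal) a) =
        algebraMap A (Localization.AtPrime p.asIdeal) (π a) :=
      Localization.localRingHom_to_map P.asIdeal p.asIdeal π hP a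
    rw [h1, algebraMap_smul]
  let g : M →ₗ[R] LocalizedModule p.asIdeal.primeCompl M :=
    { toFun := LocalizedModule.mkLinearMap p.asIdeal.primeCompl M
      map_add' := map_add _
      map_smul' := fun r m => by rw [hM, map_smul, RingHom.id_apply]; rfl }
  have hloc : IsLocalizedModule P.asIdeal.primeCompl g :=
    LCSurj.isLocalizedModule_of_surjective π hπ p P M hM (fun r m => rfl) hP
  let e : LocalizedModule P.asIdeal.primeCompl M ≃ₗ[Localization.AtPrime P.asIdeal]
      LocalizedModule p.asIdeal.primeCompl M :=
    (IsLocalizedModule.linearEquiv P.asIdeal.primeCompl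
      (LocalizedModule.mkLinearMap P.asIdeal.primeCompl M) g).extendScalarsOfIsLocalization
      P.asIdeal.primeCompl (Localization.AtPrime P.asIdeal)
  have hφs : Function.Surjective φ :=
    RingHom.surjective_localRingHom_of_surjective π hπ p.asIdeal
  have hmax : (maximalIdeal (Localization.AtPrime P.asIdeal)).map
      (algebraMap (Localization.AtPrime P.asIdeal) (Localization.AtPrime p.asIdeal)) =
      maximalIdeal (Localization.AtPrime p.asIdeal) :=
    IsLocalRing.map_maximalIdeal_of_surjective φ hφs
  obtain ⟨e', _⟩ := LCRes.exists_equiv (Localization.AtPrime P.asIdeal)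
    (Localization.AtPrime p.asIdeal) (maximalIdeal _) (maximalIdeal _) hmax j
    (LocalizedModule p.asIdeal.primeCompl M)
  rw [(LCSurj.hCongr (maximalIdeal (Localization.AtPrime P.asIdeal)) j
    e).toEquiv.subsingleton_congr, e'.toEquiv.subsingleton_congr]

/-- SGA 2 V 3.5.  Let A be a Noetherian local ring which is a quotient of a regular local ring, m its maximal ideal, M a finite A-module and i ≥ 0.  Then H^i_m(M) is an A-module of finite length if and only if for every prime p ≠ m, writing e = dim A/p, the local cohomology H^{i−e} of M_p with support in the maximal ideal of A_p vanishes (no condition when e > i). -/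
theorem result (R : Type u) [CommRing R] [IsRegularLocalRing R] (A : Type u) [CommRing A] [IsLocalRing A] [IsNoetherianRing A] (π : R →+* A) (hπ : Function.Surjective π) (M : Type u) [AddCommGroup M] [Module A M] [Module.Finite A M] (i : ℕ) : IsFiniteLength A (LocCoh.H (IsLocalRing.maximalIdeal A) i M) ↔ ∀ p : PrimeSpectrum A, p.asIdeal ≠ IsLocalRing.maximalIdeal A → ∀ (e j : ℕ), ringKrullDim (A ⧸ p.asIdeal) = e → j + e = i → Subsingleton (LocCoh.H (IsLocalRing.maximalIdeal (Localization.AtPrime p.asIdeal)) j (LocalizedModule p.asIdeal.primeCompl M)) := by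
  let _ : Algebra R A := π.toAlgebra
  let _ : Module R M := Module.compHom M π
  have ht : IsScalarTower R A M := by
    constructor
    intro a b x
    change (π a * b) • x = π a • (b • x)
    rw [mul_smul]
  have hfin : Module.Finite R M := by
    have : Module.Finite R A := Module.Finite.of_surjective (Algebra.linearMap R A) hπ
    exact Module.Finite.trans A M
  have hmax : (maximalIdeal R).map (algebraMap R A) = maximalIdeal A :=
    IsLocalRing.map_maximalIdeal_of_surjective π hπ
  obtain ⟨e, he⟩ := LCRes.exists_equiv R A (maximalIdeal R) (maximalIdeal A) hmax i M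
  rw [← LCSurj.isFiniteLength_iff_of_semilinear (A := R) (B := A) hπ e he,
    FinLenLC.isFiniteLength_H_iff_stalks]
  constructor
  · intro h p hp d j hd hj
    have hP : (PrimeSpectrum.comap π p).asIdeal = p.asIdeal.comap π := rfl
    rw [← stalk_iff R A π hπ p (PrimeSpectrum.comap π p) rfl M (fun _ _ => rfl) j]
    refine h _ ?_ d j ?_ hj
    · intro h'
      apply hp
      rw [hP] at h'
      have := congrArg (Ideal.map π) h'
      rw [Ideal.map_comap_of_surjective _ hπ] at this
      rw [this]
      exact hmax
    · rw [← hd]
      exact ringKrullDim_eq_of_ringEquiv (RingEquiv.ofBijective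
        (Ideal.quotientMap p.asIdeal π le_rfl)
        ⟨Ideal.quotientMap_injective, Ideal.quotientMap_surjective hπ⟩)
  · intro h P hPm d j hd hj
    by_cases hk : RingHom.ker π ≤ P.asIdeal
    · obtain ⟨p, hp⟩ : ∃ p : PrimeSpectrum A, PrimeSpectrum.comap π p = P := by
        have := range_comap_of_surjective A π hπ
        have hmem : P ∈ PrimeSpectrum.zeroLocus (RingHom.ker π : Set R) := hk
        rw [← this] at hmem
        exact hmem
      have hP : P.asIdeal = p.asIdeal.comap π := by rw [← hp]; rfl
      rw [stalk_iff R A π hπ p P hp M (fun _ _ => rfl) j]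
      refine h p ?_ d j ?_ hj
      · intro h'
        apply hPm
        rw [hP, h']
        have : IsLocalHom π := hπ.isLocalHom π
        exact ((IsLocalRing.local_hom_TFAE π).out 0 4).mp this
      · rw [← hd]
        subst hp
        exact (ringKrullDim_eq_of_ringEquiv (RingEquiv.ofBijective
          (Ideal.quotientMap p.asIdeal π le_rfl)
          ⟨Ideal.quotientMap_injective, Ideal.quotientMap_surjective hπ⟩)).symm
    · obtain ⟨a, ha, haP⟩ := SetLike.not_le_iff_exists.mp hk
      have hz : Subsingleton (LocalizedModule P.asIdeal.primeCompl M) := by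
        rw [LocalizedModule.subsingleton_iff]
        intro m
        refine ⟨a, haP, ?_⟩
        change π a • m = 0
        rw [RingHom.mem_ker.mp ha, zero_smul]
      have h0 : Limits.IsZero (ModuleCat.of (Localization.AtPrime P.asIdeal)
          (LocalizedModule P.asIdeal.primeCompl M)) := ModuleCat.isZero_of_subsingleton _
      exact ModuleCat.subsingleton_of_isZero ((localCohomology
        (maximalIdeal (Localization.AtPrime P.asIdeal)) j).map_isZero h0)

end Groth.Agent.S2934
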