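import Groth.Statements.S2931
import Groth.Agent.Sga2.CMCodim
import Groth.Agent.S2930

set_option autoImplicit false
universe u
open LocCoh

namespace Groth.Agent.S2931

/-- SGA 2 VIII 3.2, affine form (coherence of R^p i_*(F) for p < n being finiteness of H^i_I for i ≤ n).  Let A be a Noetherian ring which is a quotient of a regular ring, I an ideal and M a finite A-module such that M_p is zero or Cohen–Macaulay for every prime p not containing I.  Then H^i_I(M) is a finite A-module for every i ≤ n if and only if for every prime p not containing I which is minimal in the support of M, the codimension of V(p) ∩ V(I) in V(p) is greater than n. -/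
theorem result (R : Type u) [CommRing R] [IsRegularRing R] (A : Type u) [CommRing A] [IsNoetherianRing A] (π : R →+* A) (hπ : Function.Surjective π) (I : Ideal A) (M : Type u) [AddCommGroup M] [Module A M] [Module.Finite A M] (hCM : ∀ p : PrimeSpectrum A, ¬ I ≤ p.asIdeal → Subsingleton (LocalizedModule p.asIdeal.primeCompl M) ∨ LocCoh.IsCohenMacaulayModule (Localization.AtPrime p.asIdeal) (LocalizedModule p.asIdeal.primeCompl M)) (n : ℕ) : (∀ i : ℕ, i ≤ n → Module.Finite A (LocCoh.H I i M)) ↔ ∀ p : PrimeSpectrum A, ¬ I ≤ p.asIdeal → p.asIdeal ∈ (Module.annihilator A M).minimalPrimes → (n : ℕ∞) < SGA2.relCodim I p := by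
  have hcat := (Groth.Agent.Ega4B.CatHeight.isCatenary_iff (R := A)).mp
    (Groth.Agent.Sga2.CMCodim.isCatenary_of_regular_quotient R A π hπ)
  rw [Groth.Agent.S2930.result R A π hπ I M n]
  constructor
  · intro h p hIp hp
    rw [← ENat.add_one_le_iff (ENat.coe_ne_top n)]
    refine Groth.Agent.Sga2.CMCodim.le_relCodim fun q hpq hIq => ?_
    obtain ⟨p', q', h1, h2, h3, h4, h5⟩ := Groth.Agent.Sga2.CMCodim.exists_covBy hpq hIq hIp
    have e1 := h p' q' h4 h5 h2
    have e2 := Groth.Agent.Sga2.CMCodim.depth_le_rlen (M := M) h1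
      (Module.associatedPrimes.minimalPrimes_annihilator_subset_associatedPrimes A M hp)
    rw [hcat p q' q (h1.trans h2.le) h3, hcat p p' q' h1 h2.le,
      Groth.Agent.Ega4B.CatHeight.rlen_eq_one_of_covBy h2]
    exact le_trans (add_le_add (e1.trans e2) le_rfl) le_self_add
  · intro h p q hIp hIq hpq
    rcases hCM p hIp with hM | hM
    · rw [Groth.Agent.CalgB.Depth1.depth_of_subsingleton]
      exact le_top
    · have hp : Module.annihilator A M ≤ p.asIdeal :=
        Module.annihilator_le_of_mem_support (Groth.Agent.CalgB.CM2.nontrivial_of_cm hM)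
      obtain ⟨p₀, hp₀, hle⟩ := Ideal.exists_minimalPrimes_le hp
      let P₀ : PrimeSpectrum A := ⟨p₀, hp₀.1.1⟩
      have hI : ¬ I ≤ P₀.asIdeal := fun hcon => hIp (hcon.trans hle)
      have e1 := h P₀ hI hp₀
      have e2 := e1.trans_le (Groth.Agent.Sga2.CMCodim.relCodim_le
        (show P₀ ≤ q from hle.trans hpq.le) hIq)
      rw [hcat P₀ p q hle hpq.le, Groth.Agent.Ega4B.CatHeight.rlen_eq_one_of_covBy hpq,
        ← ENat.add_one_le_iff (ENat.coe_ne_top n)] at e2
      have e3 : (n : ℕ∞) ≤ Groth.Agent.Ega4B.CatHeight.rlen P₀ p :=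
        (ENat.add_le_add_iff_right ENat.one_ne_top).mp e2
      have e4 := Groth.Agent.Sga2.CMCodim.rlen_le_supportDim (M := M)
        (show P₀ ≤ p from hle) hp₀.1.2
      rw [hM] at e4
      exact e3.trans (WithBot.coe_le_coe.mp e4)

end Groth.Agent.S2931
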