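import Groth.Statements.S2933
-- import your own Groth.Agent.* helpers here
import Mathlib.RingTheory.Ideal.MinimalPrime.Localization
import Mathlib.RingTheory.Ideal.MinimalPrime.Noetherian

set_option autoImplicit false
universe u
open LocCoh

namespace Groth.Agent.S2933

section Aux

variable {B : Type u} [CommRing B]

lemma dvd_pow_aux {x y : B} (hx : ∀ a : B, x * a = 0 → a = 0)
    (hy : ∀ a b : B, y * a = x * b → ∃ c, a = x * c) :
    ∀ (k : ℕ) (a b : B), y * a = x ^ k * b → ∃ c, a = x ^ k * c := by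
  intro k
  induction k with
  | zero => intro a b _; exact ⟨a, by simp⟩
  | succ k ih =>
    intro a b h
    obtain ⟨a', ha'⟩ := hy a (x ^ k * b) (by rw [h]; ring)
    have h2 : x * (y * a' - x ^ k * b) = 0 := by
      have : x * (y * a' - x ^ k * b) = y * (x * a') - x ^ (k + 1) * b := by ring
      rw [this, ← ha', h, sub_self]
    have h3 := sub_eq_zero.mp (hx _ h2)
    obtain ⟨c, hc⟩ := ih a' b h3
    exact ⟨c, by rw [ha', hc]; ring⟩

lemma dvd_pow_aux' {x y : B} (hx : ∀ a : B, x * a = 0 → a = 0)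
    (hy : ∀ a b : B, y * a = x * b → ∃ c, a = x * c) (k : ℕ) :
    ∀ (l : ℕ) (a b : B), y ^ l * a = x ^ k * b → ∃ c, a = x ^ k * c := by
  intro l
  induction l with
  | zero => intro a b h; exact ⟨b, by simpa using h⟩
  | succ l ih =>
    intro a b h
    obtain ⟨c, hc⟩ := dvd_pow_aux hx hy k (y ^ l * a) b (by rw [← h]; ring)
    exact ih a c hc

lemma pow_reg_aux {x : B} (hx : ∀ a : B, x * a = 0 → a = 0) :
    ∀ (k : ℕ) (a : B), x ^ k * a = 0 → a = 0 := by
  intro k
  induction k with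
  | zero => intro a h; simpa using h
  | succ k ih => intro a h; exact ih a (hx _ (by rw [← h]; ring))

/-- Hartshorne's lemma. -/
lemma key [IsLocalRing B] {x y : B} (hx : ∀ a : B, x * a = 0 → a = 0)
    (hy : ∀ a b : B, y * a = x * b → ∃ c, a = x * c) (J₁ J₂ : Ideal B) (hJ : J₁ * J₂ = ⊥)
    (k l : ℕ) (hxk : x ^ k ∈ J₁ ⊔ J₂) (hyl : y ^ l ∈ J₁ ⊔ J₂) : J₁ = ⊥ ∨ J₂ = ⊥ := by
  obtain ⟨a₁, ha₁, a₂, ha₂, ha⟩ := Submodule.mem_sup.mp hxk
  obtain ⟨b₁, hb₁, b₂, hb₂, hb⟩ := Submodule.mem_sup.mp hyl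
  have hz : ∀ u ∈ J₁, ∀ v ∈ J₂, u * v = 0 := fun u hu v hv => by
    have := Ideal.mul_mem_mul hu hv
    rwa [hJ, Ideal.mem_bot] at this
  have h1 : y ^ l * a₁ = x ^ k * b₁ := by
    rw [← ha, ← hb]
    have e1 := hz a₁ ha₁ b₂ hb₂
    have e2 := hz b₁ hb₁ a₂ ha₂
    linear_combination e1 - e2
  obtain ⟨c, hc⟩ := dvd_pow_aux' hx hy k l a₁ b₁ h1
  have hd : a₂ = x ^ k * (1 - c) := by
    have : a₂ = x ^ k - a₁ := by rw [← ha]; ring
    rw [this, hc]; ring
  rcases IsLocalRing.isUnit_or_isUnit_of_add_one (a := c) (b := 1 - c) (by ring) with hu | hu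
  · right
    have hxJ : x ^ k ∈ J₁ := by
      rw [hc] at ha₁
      exact (Ideal.mul_unit_mem_iff_mem J₁ hu).mp ha₁
    rw [eq_bot_iff]
    intro v hv
    exact pow_reg_aux hx k v (hz _ hxJ v hv)
  · left
    have hxJ : x ^ k ∈ J₂ := by
      rw [hd] at ha₂
      exact (Ideal.mul_unit_mem_iff_mem J₂ hu).mp ha₂
    rw [eq_bot_iff]
    intro v hv
    exact pow_reg_aux hx k v (by rw [mul_comm]; exact hz v hv _ hxJ)

lemma exists_xy [IsLocalRing B] (h : (2 : ℕ∞) ≤ LocCoh.depth B B) :
    ∃ x ∈ IsLocalRing.maximalIdeal B, ∃ y ∈ IsLocalRing.maximalIdeal B,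
      (∀ a : B, x * a = 0 → a = 0) ∧ (∀ a b : B, y * a = x * b → ∃ c, a = x * c) := by
  unfold LocCoh.depth LocCoh.idealDepth at h
  rw [if_neg] at h
  · have h1 : (1 : ℕ∞) < 2 := by norm_num
    have h2 := lt_of_lt_of_le h1 h
    obtain ⟨rs, h3⟩ := lt_iSup_iff.mp h2
    obtain ⟨⟨hrs, hm⟩, h4⟩ := lt_iSup_iff.mp h3
    match rs, hrs, hm, h4 with
    | [], _, _, h4 => simp at h4
    | [x], _, _, h4 => simp at h4
    | x :: y :: rs, hrs, hm, _ =>
      refine ⟨x, hm x (by simp), y, hm y (by simp), ?_, ?_⟩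
      · rw [RingTheory.Sequence.isWeaklyRegular_cons_iff] at hrs
        intro a ha
        exact hrs.1 (by simpa [smul_eq_mul] using ha)
      · rw [RingTheory.Sequence.isWeaklyRegular_cons_iff,
          RingTheory.Sequence.isWeaklyRegular_cons_iff] at hrs
        intro a b hab
        have hr := hrs.2.1
        have : y • (Submodule.Quotient.mk a : QuotSMulTop x B) = y • 0 := by
          rw [smul_zero, ← Submodule.Quotient.mk_smul, smul_eq_mul, hab,
            Submodule.Quotient.mk_eq_zero]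
          exact Submodule.mem_smul_pointwise_iff_exists _ _ _ |>.mpr ⟨b, trivial, rfl⟩
        have h5 := hr this
        rw [Submodule.Quotient.mk_eq_zero] at h5
        obtain ⟨c, _, hc⟩ := (Submodule.mem_smul_pointwise_iff_exists _ _ _).mp h5
        exact ⟨c, hc.symm⟩
  · intro h5
    rw [Ideal.smul_top_eq_map] at h5
    simp at h5
    exact (IsLocalRing.maximalIdeal.isMaximal B).ne_top h5

end Aux

/-- SGA 2 III 3.7, affine form.  Let A be a Noetherian ring with connected spectrum and d ≥ 1 an integer such that every prime p with dim A_p ≥ d has depth A_p ≥ 2.  Then for any two minimal primes p', p'' of A there is a finite sequence of minimal primes starting at p' and ending at p'' such that any two consecutive members are both contained in some prime of height at most d − 1 (Spec A is connected in codimension d − 1). -/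
theorem result (A : Type u) [CommRing A] [IsNoetherianRing A] [ConnectedSpace (PrimeSpectrum A)] (d : ℕ) (hd : 1 ≤ d) (h : ∀ p : PrimeSpectrum A, (d : ℕ∞) ≤ p.asIdeal.height → (2 : ℕ∞) ≤ LocCoh.depth (Localization.AtPrime p.asIdeal) (Localization.AtPrime p.asIdeal)) (p' p'' : PrimeSpectrum A) (hp' : p'.asIdeal ∈ minimalPrimes A) (hp'' : p''.asIdeal ∈ minimalPrimes A) : ∃ l : List (PrimeSpectrum A), l.head? = some p' ∧ l.getLast? = some p'' ∧ (∀ p ∈ l, p.asIdeal ∈ minimalPrimes A) ∧ List.IsChain (fun p q => ∃ r : PrimeSpectrum A, p ≤ r ∧ q ≤ r ∧ r.asIdeal.height ≤ (d - 1 : ℕ)) l := by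
  classical
  let R : PrimeSpectrum A → PrimeSpectrum A → Prop := fun p q =>
    p.asIdeal ∈ minimalPrimes A ∧ q.asIdeal ∈ minimalPrimes A ∧
      ∃ r : PrimeSpectrum A, p ≤ r ∧ q ≤ r ∧ r.asIdeal.height ≤ (d - 1 : ℕ)
  -- main claim
  have main : Relation.ReflTransGen R p' p'' := by
    by_contra hcon
    set C₁ : Set (Ideal A) := {I | ∃ p : PrimeSpectrum A, p.asIdeal = I ∧
      p.asIdeal ∈ minimalPrimes A ∧ Relation.ReflTransGen R p' p} with hC₁
    set C₂ : Set (Ideal A) := minimalPrimes A \ C₁ with hC₂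
    have hfin : (minimalPrimes A).Finite := minimalPrimes.finite_of_isNoetherianRing A
    have hC₁s : C₁ ⊆ minimalPrimes A := by
      rintro I ⟨p, rfl, hp, _⟩; exact hp
    have hC₂s : C₂ ⊆ minimalPrimes A := Set.sdiff_subset
    have hf₁ : C₁.Finite := hfin.subset hC₁s
    have hf₂ : C₂.Finite := hfin.subset hC₂s
    have hne₁ : p'.asIdeal ∈ C₁ := ⟨p', rfl, hp', Relation.ReflTransGen.refl⟩
    have hne₂ : p''.asIdeal ∈ C₂ := by
      refine ⟨hp'', ?_⟩
      rintro ⟨p, hp, _, hR⟩
      have : p = p'' := PrimeSpectrum.ext hp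
      subst this
      exact hcon hR
    set I₁ : Ideal A := sInf C₁ with hI₁
    set I₂ : Ideal A := sInf C₂ with hI₂
    -- primes containing I₁ contain a member of C₁
    have hprime : ∀ (C : Set (Ideal A)), C.Finite → ∀ q : Ideal A, q.IsPrime → sInf C ≤ q →
        ∃ I ∈ C, I ≤ q := by
      intro C hC q hq hle
      have : (hC.toFinset.inf id) ≤ q := by
        refine le_trans ?_ hle
        rw [Finset.inf_id_eq_sInf]
        simp
      obtain ⟨I, hI, hIq⟩ := (hq.inf_le').mp this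
      exact ⟨I, by simpa using hI, hIq⟩
    -- every prime contains I₁ or I₂
    have hcover : ∀ q : Ideal A, q.IsPrime → I₁ ≤ q ∨ I₂ ≤ q := by
      intro q hq
      obtain ⟨p, hp, hpq⟩ := Ideal.exists_minimalPrimes_le (I := ⊥) (J := q) bot_le
      by_cases hpC : p ∈ C₁
      · exact Or.inl ((sInf_le hpC).trans hpq)
      · exact Or.inr ((sInf_le (show p ∈ C₂ from ⟨hp, hpC⟩)).trans hpq)
    -- I₁ + I₂ is proper
    have hproper : I₁ ⊔ I₂ ≠ ⊤ := by
      intro htop
      have hdisj : ∀ q : PrimeSpectrum A, ¬ (I₁ ≤ q.asIdeal ∧ I₂ ≤ q.asIdeal) := by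
        rintro q ⟨h1, h2⟩
        exact q.isPrime.ne_top (top_le_iff.mp (htop ▸ sup_le h1 h2))
      have hcompl : (PrimeSpectrum.zeroLocus (I₁ : Set A))ᶜ = PrimeSpectrum.zeroLocus (I₂ : Set A) := by
        ext q
        simp only [Set.mem_compl_iff, PrimeSpectrum.mem_zeroLocus, SetLike.coe_subset_coe]
        constructor
        · intro hq
          exact (hcover q.asIdeal q.isPrime).resolve_left hq
        · intro hq hq'
          exact hdisj q ⟨hq', hq⟩
      have hclopen : IsClopen (PrimeSpectrum.zeroLocus (I₁ : Set A)) := by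
        refine ⟨PrimeSpectrum.isClosed_zeroLocus _, ?_⟩
        rw [← isClosed_compl_iff, hcompl]
        exact PrimeSpectrum.isClosed_zeroLocus _
      rcases _root_.isClopen_iff.mp hclopen with h0 | h0
      · have : p' ∈ PrimeSpectrum.zeroLocus (I₁ : Set A) := by
          rw [PrimeSpectrum.mem_zeroLocus, SetLike.coe_subset_coe]
          exact sInf_le hne₁
        rw [h0] at this
        exact this
      · have h1 : p'' ∈ PrimeSpectrum.zeroLocus (I₁ : Set A) := by
          rw [h0]; trivial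
        rw [PrimeSpectrum.mem_zeroLocus, SetLike.coe_subset_coe] at h1
        exact hdisj p'' ⟨h1, sInf_le hne₂⟩
    -- minimal prime over I₁ + I₂
    obtain ⟨r, hr⟩ := Ideal.nonempty_minimalPrimes hproper
    have hrp : r.IsPrime := hr.1.1
    have hr1 : I₁ ≤ r := le_sup_left.trans hr.1.2
    have hr2 : I₂ ≤ r := le_sup_right.trans hr.1.2
    obtain ⟨q₁, hq₁, hq₁r⟩ := hprime C₁ hf₁ r hrp hr1
    obtain ⟨q₂, hq₂, hq₂r⟩ := hprime C₂ hf₂ r hrp hr2
    obtain ⟨P₁, hP₁, hP₁min, hP₁R⟩ := hq₁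
    subst hP₁
    have hq₂p : q₂.IsPrime := (hC₂s hq₂).1.1
    have hht : (d : ℕ∞) ≤ r.height := by
      by_contra hlt
      rw [not_le] at hlt
      have hle : r.height ≤ (d - 1 : ℕ) := by
        have hlt' := hlt
        obtain ⟨n, hn⟩ : ∃ n : ℕ, r.height = n := ⟨_, (ENat.natCast_toNat hlt.ne_top).symm⟩
        rw [hn] at hlt ⊢
        have : n < d := by exact_mod_cast hlt
        exact_mod_cast (by omega : n ≤ d - 1)
      exact hq₂.2 ⟨⟨q₂, hq₂p⟩, rfl, hC₂s hq₂, hP₁R.tail
        ⟨hP₁min, hC₂s hq₂, ⟨r, hrp⟩, hq₁r, hq₂r, hle⟩⟩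
    obtain ⟨x, hx, y, hy, hxr, hyr⟩ := exists_xy (h ⟨r, hrp⟩ hht)
    -- nilpotency
    have hnil : IsNilpotent (I₁ * I₂) := by
      have : I₁ * I₂ ≤ nilradical A := by
        rw [nilradical, ← Ideal.sInf_minimalPrimes]
        refine le_sInf fun q hq => ?_
        rcases hcover q hq.1.1 with h1 | h1
        · exact le_trans Ideal.mul_le_left h1
        · exact le_trans Ideal.mul_le_right h1
      obtain ⟨n, hn⟩ := IsNoetherianRing.isNilpotent_nilradical A
      exact ⟨n, le_bot_iff.mp (le_trans (Ideal.pow_right_mono this n) hn.le)⟩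
    obtain ⟨n, hn⟩ := hnil
    -- localize
    let Bl := Localization.AtPrime r
    let φ := algebraMap A Bl
    have hJ : (I₁.map φ) ^ n * (I₂.map φ) ^ n = ⊥ := by
      rw [← mul_pow, ← Ideal.map_mul, ← Ideal.map_pow, hn]
      simp
    have hrad : ∀ z ∈ IsLocalRing.maximalIdeal Bl, ∃ k : ℕ,
        z ^ k ∈ (I₁.map φ) ^ n ⊔ (I₂.map φ) ^ n := by
      intro z hz
      have h1 : (Ideal.map φ (I₁ ⊔ I₂)).radical = Ideal.map φ r :=
        IsLocalization.AtPrime.radical_map_of_mem_minimalPrimes Bl r (I₁ ⊔ I₂) hr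
      have h2 : z ∈ Ideal.map φ r := by
        rw [Localization.AtPrime.map_eq_maximalIdeal]; exact hz
      rw [← h1, Ideal.map_sup] at h2
      have hle : (Ideal.map φ I₁ ⊔ Ideal.map φ I₂) ≤
          ((I₁.map φ) ^ n ⊔ (I₂.map φ) ^ n).radical := by
        refine sup_le (fun w hw => ⟨n, ?_⟩) (fun w hw => ⟨n, ?_⟩)
        · exact Ideal.mem_sup_left (Ideal.pow_mem_pow hw n)
        · exact Ideal.mem_sup_right (Ideal.pow_mem_pow hw n)
      have h3 := Ideal.radical_mono hle h2
      rw [Ideal.radical_idem] at h3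
      exact h3
    obtain ⟨k, hk⟩ := hrad x hx
    obtain ⟨l, hl⟩ := hrad y hy
    -- conclusion
    have hcontra : ∀ (C : Set (Ideal A)), C.Finite → C ⊆ minimalPrimes A → ∀ q ∈ minimalPrimes A,
        q ≤ r → q ∉ C → ((sInf C).map φ) ^ n ≠ ⊥ := by
      intro C hC hCs q hq hqr hqC h0
      have hqp : q.IsPrime := hq.1.1
      -- q extends to a prime of the localization
      have hdisj : Disjoint (r.primeCompl : Set A) (q : Set A) := by
        rw [Set.disjoint_left]
        intro a ha haq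
        exact ha (hqr haq)
      have hprimeQ : (q.map φ).IsPrime :=
        IsLocalization.isPrime_of_isPrime_disjoint r.primeCompl Bl q hqp hdisj
      have hle : (sInf C).map φ ≤ q.map φ := by
        have : ((sInf C).map φ) ^ n ≤ q.map φ := by rw [h0]; exact bot_le
        exact hprimeQ.le_of_pow_le this
      have hle2 : sInf C ≤ q := by
        have h4 : (q.map φ).comap φ = q :=
          IsLocalization.under_map_of_isPrime_disjoint r.primeCompl Bl hqp hdisj
        rw [← h4]
        exact Ideal.map_le_iff_le_comap.mp hle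
      obtain ⟨I, hI, hIq⟩ := hprime C hC q hqp hle2
      have : I = q := le_antisymm hIq (hq.2 ⟨(hCs hI).1.1, bot_le⟩ hIq)
      exact hqC (this ▸ hI)
    rcases key hxr hyr _ _ hJ k l hk hl with h0 | h0
    · exact hcontra C₁ hf₁ hC₁s q₂ (hC₂s hq₂) hq₂r hq₂.2 h0
    · refine hcontra C₂ hf₂ hC₂s P₁.asIdeal hP₁min hq₁r ?_ h0
      intro hmem
      exact hmem.2 ⟨P₁, rfl, hP₁min, hP₁R⟩
  obtain ⟨l, hl, hlast⟩ := List.exists_isChain_cons_of_relationReflTransGen main
  refine ⟨p' :: l, rfl, ?_, ?_, ?_⟩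
  · rw [List.getLast?_eq_getLast_of_ne_nil (List.cons_ne_nil _ _), hlast]
  · intro p hp
    have : ∀ (l : List (PrimeSpectrum A)) (a : PrimeSpectrum A), a.asIdeal ∈ minimalPrimes A →
        List.IsChain R (a :: l) → ∀ p ∈ a :: l, p.asIdeal ∈ minimalPrimes A := by
      intro l
      induction l with
      | nil => intro a ha _ p hp; simp at hp; rw [hp]; exact ha
      | cons b l ih =>
        intro a ha hc p hp
        rw [List.isChain_cons_cons] at hc
        rcases List.mem_cons.mp hp with rfl | hp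
        · exact ha
        · exact ih b hc.1.2.1 hc.2 p hp
    exact this l p' hp' hl p hp
  · exact hl.imp (fun a b hab => hab.2.2)

end Groth.Agent.S2933
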