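import Groth.Statements.S2937
-- import your own Groth.Agent.* helpers here
import Groth.Agent.Sga2.PureDescent

set_option autoImplicit false
universe u
open CategoryTheory AlgebraicGeometry
open Pi1

namespace Groth.Agent.S2937

/-- SGA 2 X 3.6.  Let X be a locally Noetherian scheme and U an open subscheme such that O_X → i_*O_U is an isomorphism, equivalently (X 3.5) every local ring of X at a point outside U has depth ≥ 2.  Let f : X_1 → X be faithfully flat and quasi-compact.  If the pair (X_1, X_1 − f⁻¹U) is pure (restriction of finite étale covers from every open V to V ∩ f⁻¹U is an equivalence), then so is (X, X − U). -/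
theorem result (X X₁ : Scheme.{u}) [IsLocallyNoetherian X] (U : X.Opens) (hU : ∀ x : X, x ∉ U → (2 : ℕ∞) ≤ LocCoh.depth (X.presheaf.stalk x) (X.presheaf.stalk x)) (f : X₁ ⟶ X) [Flat f] [Surjective f] [QuasiCompact f] (h : SGA2.IsPurePair X₁ (f ⁻¹ᵁ U)) : SGA2.IsPurePair X U := by
  exact Groth.Agent.Sga2.PureDescent.isPurePair U hU f h

end Groth.Agent.S2937
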