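import Groth.Statements.S2945
import Groth.Agent.Sga2.LefPunct
import Groth.Agent.Ega2.QCohLocal

set_option autoImplicit false
universe u
open CategoryTheory CategoryTheory.Limits AlgebraicGeometry
open Lef

namespace Groth.Agent.S2945

/-- SGA 2 X 2.1 (i).  Let A be a Noetherian local ring which is a quotient of a regular local ring, t an A-regular element of the maximal ideal such that A is complete for the t-adic topology, X the punctured spectrum of A and Y = V(t) ∩ X.  If A_p has depth ≥ 2 for every prime p with dim A/p = 1 (the closed points of X), then Lef(X, Y) holds: for every open U ⊇ Y of X and every finite locally free O_U-module D, Hom(D, O_U) → lim_n Hom(D, O_U/t^{n+1}O_U) is bijective. -/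
theorem result (R : Type u) [CommRing R] [IsRegularLocalRing R] (A : Type u) [CommRing A] [IsLocalRing A] [IsNoetherianRing A] (π : R →+* A) (hπ : Function.Surjective π) (t : A) (ht : t ∈ IsLocalRing.maximalIdeal A) (hreg : IsSMulRegular A t) [IsAdicComplete (Ideal.span {t}) A] (hdepth : ∀ p : PrimeSpectrum A, ringKrullDim (A ⧸ p.asIdeal) = 1 → (2 : ℕ∞) ≤ LocCoh.depth (Localization.AtPrime p.asIdeal) (Localization.AtPrime p.asIdeal)) : Lef.LefCond (↑(FEt.puncturedSpec A) : Scheme.{u}) ((Spec.map (CommRingCat.ofHom (Ideal.Quotient.mk (Ideal.span {t})))).ker.comap (FEt.puncturedSpec A).ι) := by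
  intro U hU D hD
  rw [← Scheme.IdealSheafData.comap_comp]
  refine Groth.Agent.Sga2.LefQcoh.bijective_of_isQCoh (U.ι ≫ (FEt.puncturedSpec A).ι) D
    (Groth.Agent.Ega2.QCohLocal.isQCoh_of_isFinLocFree hD)
    (Groth.Agent.Sga2.LefPunct.gammaComplete π hπ t ht hreg hdepth
      (U.ι ≫ (FEt.puncturedSpec A).ι) fun q htq hqm => ?_)
  have hqX : q ∈ FEt.puncturedSpec A := fun h => hqm (congrArg PrimeSpectrum.asIdeal h)
  let x : (FEt.puncturedSpec A : Scheme.{u}) := ⟨q, hqX⟩
  have hx : (FEt.puncturedSpec A).ι x = q := rfl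
  have hqK : q ∈ Set.range (Spec.map (CommRingCat.ofHom (Ideal.Quotient.mk (Ideal.span {t})))) := by
    have h1 := _root_.range_comap_of_surjective _ (Ideal.Quotient.mk (Ideal.span {t}))
      Ideal.Quotient.mk_surjective
    have h2 : q ∈ Set.range (PrimeSpectrum.comap (Ideal.Quotient.mk (Ideal.span {t}))) := by
      rw [h1, Ideal.mk_ker, PrimeSpectrum.mem_zeroLocus]
      exact (Ideal.span_singleton_le_iff_mem (I := q.asIdeal)).mpr htq
    exact h2
  have hxI : x ∈ (((Spec.map (CommRingCat.ofHom (Ideal.Quotient.mk (Ideal.span {t})))).ker.comap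
      (FEt.puncturedSpec A).ι).support : Set _) := by
    rw [Scheme.IdealSheafData.support_comap]
    exact Scheme.Hom.range_subset_ker_support _ hqK
  exact ⟨⟨x, hU hxI⟩, rfl⟩

end Groth.Agent.S2945
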