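import Groth.Statements.S2946
import Groth.Agent.Sga2.LefClopen

set_option autoImplicit false
universe u
open CategoryTheory CategoryTheory.Limits AlgebraicGeometry
open Lef

namespace Groth.Agent.S2946

/-- SGA 2 X 2.4, second assertion.  Let X be a locally Noetherian scheme and 𝓘 a quasi-coherent ideal sheaf with Y = V(𝓘), and suppose Lef(X, Y) holds (block-local Lef.LefCond).  Then for every open U of X containing Y, Y is connected if and only if U is connected. -/
theorem result (X : Scheme.{u}) [IsLocallyNoetherian X] (𝓘 : X.IdealSheafData) (h : Lef.LefCond X 𝓘) (U : X.Opens) (hU : (𝓘.support : Set X) ⊆ (U : Set X)) : ConnectedSpace (𝓘.support : Set X) ↔ ConnectedSpace U := by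
  have hG : Groth.Agent.Sga2.LefBasic.GammaComplete (𝓘.comap U.ι) :=
    Groth.Agent.Sga2.LefBasic.gammaComplete_of_homToFormalBijective _
      (h U hU _ (Groth.Agent.Sga2.LefBasic.isFinLocFree_structureModule _))
  have hsupp : ∀ x : U, x ∈ (𝓘.comap U.ι).support ↔ (x : X) ∈ 𝓘.support := by
    intro x
    rw [Scheme.IdealSheafData.support_comap]
    rfl
  rw [connectedSpace_iff_clopen, connectedSpace_iff_clopen]
  constructor
  · rintro ⟨⟨y⟩, hY⟩
    refine ⟨⟨⟨y.1, hU y.2⟩⟩, fun T hT => ?_⟩
    have key : ∀ T : Set U, IsClopen T →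
        (fun y : (𝓘.support : Set X) => (⟨y.1, hU y.2⟩ : U)) ⁻¹' T = ∅ → T = ∅ := by
      intro T hT hT0
      refine Groth.Agent.Sga2.LefClopen.clopen_eq_empty_of_gammaComplete _ hG T hT ?_
      intro x hx hx'
      have : (⟨x.1, (hsupp x).1 hx'⟩ : (𝓘.support : Set X)) ∈
          (fun y : (𝓘.support : Set X) => (⟨y.1, hU y.2⟩ : U)) ⁻¹' T := hx
      rw [hT0] at this
      exact this
    have hcont : Continuous (fun y : (𝓘.support : Set X) => (⟨y.1, hU y.2⟩ : U)) :=
      continuous_subtype_val.subtype_mk _
    rcases hY _ (hT.preimage hcont) with h0 | h1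
    · exact Or.inl (key T hT h0)
    · refine Or.inr (Set.compl_empty_iff.mp (key Tᶜ hT.compl ?_))
      exact (congrArg compl h1).trans Set.compl_univ
  · rintro ⟨⟨x⟩, hUc⟩
    constructor
    · by_contra hne
      have := Groth.Agent.Sga2.LefClopen.clopen_eq_empty_of_gammaComplete _ hG Set.univ isClopen_univ
        (fun x _ hx' => hne ⟨⟨x.1, (hsupp x).1 hx'⟩⟩)
      exact (Set.eq_empty_iff_forall_notMem.mp this) x trivial
    · intro s hs
      have hcont : Continuous (fun y : ((𝓘.comap U.ι).support : Set (U : Scheme.{u})) =>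
          (⟨U.ι y.1, (hsupp y.1).1 y.2⟩ : (𝓘.support : Set X))) :=
        (U.ι.continuous.comp continuous_subtype_val).subtype_mk _
      obtain ⟨T, hT, hTs⟩ := Groth.Agent.Sga2.LefClopen.exists_clopen_of_gammaComplete _ hG _
        (hs.preimage hcont)
      rcases hUc T hT with h0 | h1
      · left
        rw [Set.eq_empty_iff_forall_notMem]
        intro y hy
        have : (⟨⟨y.1, hU y.2⟩, (hsupp _).2 y.2⟩ : ((𝓘.comap U.ι).support : Set (U : Scheme.{u}))) ∈
            Subtype.val ⁻¹' T := by
          rw [hTs]; exact hy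
        rw [h0] at this
        exact this
      · right
        rw [Set.eq_univ_iff_forall]
        intro y
        have : (⟨⟨y.1, hU y.2⟩, (hsupp _).2 y.2⟩ : ((𝓘.comap U.ι).support : Set (U : Scheme.{u}))) ∈
            Subtype.val ⁻¹' T := by
          rw [h1]; trivial
        rw [hTs] at this
        exact this

end Groth.Agent.S2946
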