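import Groth.Statements.S2947
import Groth.Agent.Fdesc.LefEt

set_option autoImplicit false
universe u
open CategoryTheory CategoryTheory.Limits AlgebraicGeometry
open Lef

namespace Groth.Agent.S2947

/-- SGA 2 X 2.5, first assertion.  Let X be a locally Noetherian scheme, 𝓘 a quasi-coherent ideal sheaf with Y = V(𝓘), and suppose Lef(X, Y) holds.  Then for every open U ⊇ Y the restriction functor from finite étale covers of U to finite étale covers of the closed subscheme Y ∩ U defined by 𝓘|_U is fully faithful.  (For Y connected this says that π₁(Y) → π₁(U) is surjective, X 2.6.) -/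
theorem result (X : Scheme.{u}) [IsLocallyNoetherian X] (𝓘 : X.IdealSheafData) (h : Lef.LefCond X 𝓘) (U : X.Opens) (hU : (𝓘.support : Set X) ⊆ (U : Set X)) : (FEt.restrict (𝓘.comap U.ι).subschemeι).Full ∧ (FEt.restrict (𝓘.comap U.ι).subschemeι).Faithful := by
  exact Groth.Agent.Fdesc.LefEt.restrict_fullyFaithful _ fun D hD => h U hU D hD

end Groth.Agent.S2947
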