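import Groth.Statements.S2948
import Groth.Agent.Sga2.LefPic

set_option autoImplicit false
universe u
open CategoryTheory CategoryTheory.Limits AlgebraicGeometry
open Lef


namespace Groth.Agent.S2948

/-- SGA 2 XI 2.2, first assertion.  Let X be a locally Noetherian scheme, 𝓘 a quasi-coherent ideal sheaf with Y = V(𝓘), and p ≥ 0; suppose Lef(X, Y) holds and H^1(X, 𝓘^{n+1}/𝓘^{n+2}) = 0 for every n ≥ p (these are the groups H^1(Y, P_n) of the source, P_n being supported on Y).  Then for every open U ⊇ Y and every n ≥ p, if two invertible O_U-modules have isomorphic pullbacks to the closed subscheme Y_n ∩ U = V(𝓘^{n+1}) ∩ U, they are isomorphic. -/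
theorem result (X : Scheme.{u}) [IsLocallyNoetherian X] (𝓘 : X.IdealSheafData) (h : Lef.LefCond X 𝓘) (p : ℕ) (hH1 : ∀ n : ℕ, p ≤ n → Subsingleton (Coh.HH X (kernel (Lef.quotMap (Lef.pow_succ_le 𝓘 n))) 1)) (U : X.Opens) (hU : (𝓘.support : Set X) ⊆ (U : Set X)) (n : ℕ) (hn : p ≤ n) (L L' : (U : Scheme.{u}).Modules) (hL : PicF.IsInvertible L) (hL' : PicF.IsInvertible L') (e : Nonempty ((Scheme.Modules.pullback (((𝓘.comap U.ι) ^ (n + 1)).subschemeι)).obj L ≅ (Scheme.Modules.pullback (((𝓘.comap U.ι) ^ (n + 1)).subschemeι)).obj L')) : Nonempty (L ≅ L') := by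
  obtain ⟨ψ⟩ := e
  obtain ⟨W, e, e', hW, he, he'⟩ := Sga2.LefPic.exists_frames hL hL'
  obtain ⟨a, ha, hea⟩ := Sga2.LefPic.exists_cocycle he
  obtain ⟨a', ha', hea'⟩ := Sga2.LefPic.exists_cocycle he'
  have hg := Sga2.LefPic.IsCocycle.mul' ha (Sga2.LefLine.isCocycle_tr ha')
  obtain ⟨c, hc⟩ := Sga2.LefPic.exists_fam (Sga2.LefThick.tι (𝓘.comap U.ι) n) he he' ha' hea hea' ψ.hom
  obtain ⟨d, -, hd⟩ := Sga2.LefSeq.exists_seq (𝓘.comap U.ι) n ⟨c, hc⟩ (fun m hm d => by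
    obtain ⟨d', h1, h2⟩ := Sga2.LefOpen.exists_lift_step 𝓘 hU m (hH1 m (hn.trans hm)) hW hg d.2
    exact ⟨⟨d', h1⟩, h2⟩)
  obtain ⟨f, hf, hfg, -⟩ := Sga2.LefPic.exists_units_of_formal (𝓘.comap U.ι) (h U hU) hW hg
    (fun m => (d m).1) (fun m => (d m).2) hd
  exact Sga2.LefPic.exists_iso_of_fam he he' ha hea hea' hW ha' f hf hfg

end Groth.Agent.S2948
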