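import Groth.Statements.S2951
import Groth.Agent.S2940
import Groth.Agent.Sga2.GrFree
-- import your own Groth.Agent.* helpers here

set_option autoImplicit false
universe u
open AlgebraicGeometry
open ParaF

namespace Groth.Agent.S2951

/-- SGA 2 XII 4.8, parafactoriality part, for the local rings.  Let A → B be a flat local homomorphism of Noetherian local rings and B₀ = B/m_A B.  If B₀ has depth ≥ 3 and every invertible module on the punctured spectrum of B₀ is isomorphic to the structure sheaf, then every invertible module on the punctured spectrum of B is isomorphic to the structure sheaf. -/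
theorem result (A B : Type u) [CommRing A] [CommRing B] [IsLocalRing A] [IsLocalRing B] [IsNoetherianRing A] [IsNoetherianRing B] [Algebra A B] [IsLocalHom (algebraMap A B)] [Module.Flat A B] [IsLocalRing (B ⧸ (IsLocalRing.maximalIdeal A).map (algebraMap A B))] (hd : (3 : ℕ∞) ≤ LocCoh.depth (B ⧸ (IsLocalRing.maximalIdeal A).map (algebraMap A B)) (B ⧸ (IsLocalRing.maximalIdeal A).map (algebraMap A B))) (h0 : ∀ L : (↑(FEt.puncturedSpec (B ⧸ (IsLocalRing.maximalIdeal A).map (algebraMap A B))) : Scheme.{u}).Modules, PicF.IsInvertible L → Nonempty (L ≅ Coh.structureModule _)) (L : (↑(FEt.puncturedSpec B) : Scheme.{u}).Modules) (hL : PicF.IsInvertible L) : Nonempty (L ≅ Coh.structureModule _) := by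
  have hflat : Module.Flat A B := inferInstance
  have hgr := Groth.Agent.Sga2.GrFree.gr_free (A := A) (B := B) (IsLocalRing.maximalIdeal A)
  have hJ : (IsLocalRing.maximalIdeal A).map (algebraMap A B) ≠ ⊤ := by
    intro h
    have h1 : (IsLocalRing.maximalIdeal A).map (algebraMap A B) ≤ IsLocalRing.maximalIdeal B := by
      have h0 : IsLocalHom (algebraMap A B) := inferInstance
      exact ((IsLocalRing.local_hom_TFAE (algebraMap A B)).out 0 2).mp h0
    rw [h] at h1
    exact (IsLocalRing.maximalIdeal.isMaximal B).ne_top (top_le_iff.mp h1)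
  exact (Groth.Agent.S2940.result B ((IsLocalRing.maximalIdeal A).map (algebraMap A B)) hJ hd hgr h0).2 L hL

end Groth.Agent.S2951
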