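import Groth.Statements.S2954
import Groth.Agent.Sga3A.Weyl

set_option autoImplicit false
open RootPairing
open scoped Pointwise
universe u
open RootD

namespace Groth.Agent.S2954

/-- SGA 3 XXI 5.5 (with 3.3.7), for a finite crystallographic reduced root pairing: the Weyl group acts freely and transitively on systems of simple roots — for two bases b, b' there is exactly one element of the Weyl group carrying the set of simple roots of b onto that of b'. -/
theorem result {ι R M N : Type*} [CommRing R] [CharZero R] [IsDomain R] [AddCommGroup M] [Module R M]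
    [AddCommGroup N] [Module R N] (P : RootPairing ι R M N) [Finite ι] [P.IsCrystallographic] [P.IsReduced]
    (b b' : P.Base) :
    ∃! g : P.weylGroup, (fun i : ι => (g : P.Aut) • i) '' (b.support : Set ι) = (b'.support : Set ι) := by
  obtain ⟨w, hw, h⟩ := Sga3A.Weyl.exists_transport b b'
  have him := Sga3A.Weyl.image_support b b' w h
  refine ⟨⟨w, hw⟩, ?_, ?_⟩
  · ext i
    constructor
    · rintro ⟨j, hj, rfl⟩
      exact (him j).2 hj
    · intro hi
      refine ⟨w⁻¹ • i, ?_, smul_inv_smul w i⟩
      have := him (w⁻¹ • i)
      rw [smul_inv_smul] at this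
      exact this.1 hi
  · intro g hg
    have h1 : ((⟨w, hw⟩ : P.weylGroup)⁻¹ * g) = 1 := by
      apply Sga3A.Weyl.eq_one_of_preserves b
      intro j hj
      have h2 : (g : P.Aut) • j ∈ (b'.support : Set ι) := by
        rw [← hg]; exact ⟨j, hj, rfl⟩
      have h3 := him (w⁻¹ • ((g : P.Aut) • j))
      rw [smul_inv_smul] at h3
      exact b.isPos_of_mem_support (h3.1 h2)
    exact (inv_mul_eq_one.1 h1).symm

end Groth.Agent.S2954
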