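import Groth.Statements.S2955
import Groth.Agent.Sga3A.Weyl

set_option autoImplicit false
open RootPairing
open scoped Pointwise Classical
universe u
open RootD

namespace Groth.Agent.S2955

/-- SGA 3 XXI 3.5.1 (reduced case), for a finite crystallographic reduced root pairing with a base b: writing 2ρ for the sum of the positive roots, the reflection in a simple root β sends 2ρ to 2ρ − 2β; equivalently the pairing of the coroot of β with ρ is 1. -/
theorem result {ι R M N : Type*} [CommRing R] [CharZero R] [IsDomain R] [AddCommGroup M] [Module R M]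
    [AddCommGroup N] [Module R N] (P : RootPairing ι R M N) [Finite ι] [P.IsCrystallographic] [P.IsReduced]
    [Fintype ι] (b : P.Base) (j : ι) (hj : j ∈ b.support) :
    P.reflection j (∑ i, if b.IsPos i then P.root i else 0) =
      (∑ i, if b.IsPos i then P.root i else 0) - (2 : R) • P.root j := by
  have hjp := b.isPos_of_mem_support hj
  have hsplit : (∑ i, if b.IsPos i then P.root i else 0) =
      P.root j + ∑ i, if b.IsPos i ∧ i ≠ j then P.root i else 0 := by
    rw [← Finset.sum_filter, ← Finset.sum_filter]
    rw [← Finset.add_sum_erase _ _ (Finset.mem_filter.2 ⟨Finset.mem_univ j, hjp⟩)]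
    congr 2
    ext i
    simp only [Finset.mem_erase, Finset.mem_filter, Finset.mem_univ, true_and]
    tauto
  have hinv : P.reflection j (∑ i, if b.IsPos i ∧ i ≠ j then P.root i else 0) =
      ∑ i, if b.IsPos i ∧ i ≠ j then P.root i else 0 := by
    rw [map_sum]
    refine Fintype.sum_equiv (P.reflectionPerm j) _ _ ?_
    intro i
    have hiff : (b.IsPos (P.reflectionPerm j i) ∧ P.reflectionPerm j i ≠ j) ↔ (b.IsPos i ∧ i ≠ j) := by
      constructor
      · rintro ⟨h1, h2⟩
        have h3 := h1.reflectionPerm hj h2
        have h4 := P.reflectionPerm_involutive j i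
        rw [h4] at h3
        refine ⟨h3, ?_⟩
        intro h5
        rw [h5, Sga3A.Weyl.isPos_neg_iff] at h1
        exact h1 hjp
      · rintro ⟨h1, h2⟩
        exact ⟨h1.reflectionPerm hj h2, Sga3A.Weyl.reflectionPerm_ne_self_of_isPos b h1 hjp⟩
    by_cases h : b.IsPos i ∧ i ≠ j
    · rw [if_pos h, if_pos (hiff.2 h), root_reflectionPerm]
    · rw [if_neg h, if_neg (fun h' => h (hiff.1 h')), map_zero]
  rw [hsplit, map_add, hinv, reflection_apply_self, two_smul]
  abel

end Groth.Agent.S2955
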