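import Groth.Statements.S2957
import Groth.Agent.Sga3A.Weyl

set_option autoImplicit false
open RootPairing
open scoped Pointwise
universe u
open RootD

namespace Groth.Agent.S2957

/-- Auxiliary inductive description of Tits chains. -/
inductive Chain {ι R M N : Type*} [CommRing R] [AddCommGroup M] [Module R M]
    [AddCommGroup N] [Module R N] (P : RootPairing ι R M N) (S : Set ι) : ι → P.Aut → ι → Prop
  | nil (α : ι) (hα : α ∈ S) : Chain P S α 1 α
  | cons (α γ : ι) (u w' : P.Aut) (β : ι) (hα : α ∈ S) (hγ : γ ∈ S)
      (hu : u ∈ Subgroup.closure {Equiv.reflection P α, Equiv.reflection P γ})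
      (huγ : α ≠ u • α → γ = u • α) (h : Chain P S (u • α) w' β) : Chain P S α (w' * u) β

theorem Chain.out {ι R M N : Type*} [CommRing R] [AddCommGroup M] [Module R M]
    [AddCommGroup N] [Module R N] {P : RootPairing ι R M N} {S : Set ι} {α β : ι} {w : P.Aut}
    (h : Chain P S α w β) :
    ∃ (m : ℕ) (a : Fin (m + 1) → ι) (ws : Fin m → P.Aut),
      (∀ i, a i ∈ S) ∧ a 0 = α ∧ a (Fin.last m) = β ∧
      (∀ i, ws i ∈ P.weylGroup) ∧
      w = (List.ofFn fun i : Fin m => ws (Fin.rev i)).prod ∧
      (∀ i : Fin m, ws i • a (Fin.castSucc i) = a (Fin.succ i)) ∧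
      ∀ i : Fin m, ∃ γ ∈ S,
        ws i ∈ Subgroup.closure {Equiv.reflection P (a (Fin.castSucc i)), Equiv.reflection P γ} ∧
        (a (Fin.castSucc i) ≠ a (Fin.succ i) → γ = a (Fin.succ i)) := by
  induction h with
  | nil α hα =>
    exact ⟨0, fun _ => α, Fin.elim0, fun _ => hα, rfl, rfl, fun i => i.elim0, by simp, fun i => i.elim0,
      fun i => i.elim0⟩
  | cons α γ u w' β hα hγ hu huγ _ ih =>
    obtain ⟨m, a, ws, h1, h2, h3, h4, h5, h6, h7⟩ := ih
    refine ⟨m + 1, Fin.cons α a, Fin.cons u ws, ?_, rfl, ?_, ?_, ?_, ?_, ?_⟩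
    · intro i
      refine Fin.cases hα (fun i => ?_) i
      exact h1 i
    · rw [← Fin.succ_last, Fin.cons_succ, h3]
    · intro i
      refine Fin.cases ?_ (fun i => ?_) i
      · rw [Fin.cons_zero]
        refine (Subgroup.closure_le _).2 ?_ hu
        rintro x (rfl | rfl)
        · exact P.reflection_mem_weylGroup _
        · exact P.reflection_mem_weylGroup _
      · exact h4 i
    · rw [List.ofFn_succ', List.concat_eq_append, List.prod_append, Fin.rev_last, Fin.cons_zero,
        List.prod_singleton, h5]
      congr 3
      funext i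
      rw [Fin.rev_castSucc, Fin.cons_succ]
    · intro i
      refine Fin.cases ?_ (fun i => ?_) i
      · rw [Fin.castSucc_zero, Fin.cons_zero, Fin.cons_zero, Fin.cons_succ, h2]
      · rw [← Fin.succ_castSucc, Fin.cons_succ, Fin.cons_succ, Fin.cons_succ, h6]
    · intro i
      refine Fin.cases ?_ (fun i => ?_) i
      · rw [Fin.castSucc_zero, Fin.cons_zero, Fin.cons_zero, Fin.cons_succ, h2]
        exact ⟨γ, hγ, hu, huγ⟩
      · rw [← Fin.succ_castSucc, Fin.cons_succ, Fin.cons_succ, Fin.cons_succ]
        exact h7 i

section Main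

variable {ι R M N : Type*} [CommRing R] [CharZero R] [IsDomain R] [AddCommGroup M] [Module R M]
    [AddCommGroup N] [Module R N] {P : RootPairing ι R M N} [Finite ι] [P.IsCrystallographic] [P.IsReduced]
    (b : P.Base)

open Sga3A.Weyl in
theorem exists_min_coset {α γ : ι} (hα : α ∈ b.support) (hγ : γ ∈ b.support) :
    ∀ (n : ℕ) (w : P.Aut), cnt b b w = n →
      ∃ v ∈ Subgroup.closure {Equiv.reflection P α, Equiv.reflection P γ},
        b.IsPos ((w * v) • α) ∧ b.IsPos ((w * v) • γ) ∧ (cnt b b (w * v) < cnt b b w ∨ v = 1) := by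
  intro n
  induction n using Nat.strong_induction_on with
  | _ n ih =>
    intro w hn
    by_cases h1 : b.IsPos (w • α)
    · by_cases h2 : b.IsPos (w • γ)
      · exact ⟨1, one_mem _, by rwa [mul_one], by rwa [mul_one], Or.inr rfl⟩
      · have h3 := cnt_lt b b w hγ h2
        obtain ⟨v, hv, h4, h5, h6⟩ := ih _ (hn ▸ h3) _ rfl
        rw [mul_assoc] at h4 h5 h6
        refine ⟨_, mul_mem (Subgroup.subset_closure (by simp)) hv, h4, h5, Or.inl ?_⟩
        rcases h6 with h6 | rfl
        · exact h6.trans h3
        · rw [mul_one]; exact h3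
    · have h3 := cnt_lt b b w hα h1
      obtain ⟨v, hv, h4, h5, h6⟩ := ih _ (hn ▸ h3) _ rfl
      rw [mul_assoc] at h4 h5 h6
      refine ⟨_, mul_mem (Subgroup.subset_closure (by simp)) hv, h4, h5, Or.inl ?_⟩
      rcases h6 with h6 | rfl
      · exact h6.trans h3
      · rw [mul_one]; exact h3

open Sga3A.Weyl in
theorem root_smul_mem {α γ : ι} {u : P.Aut}
    (hu : u ∈ Subgroup.closure {Equiv.reflection P α, Equiv.reflection P γ}) (x y : ℤ) :
    ∃ x' y' : ℤ, u • (x • P.root α + y • P.root γ) = x' • P.root α + y' • P.root γ := by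
  induction hu using Subgroup.closure_induction'' generalizing x y with
  | one => exact ⟨x, y, one_smul _ _⟩
  | mem u hu =>
    rcases hu with rfl | rfl
    · refine ⟨-x - y * P.pairingIn ℤ γ α, y, ?_⟩
      rw [Equiv.reflection_smul, map_add, map_zsmul, map_zsmul, reflection_apply_self,
        reflection_apply_root' ℤ]
      module
    · refine ⟨x, -y - x * P.pairingIn ℤ α γ, ?_⟩
      rw [Equiv.reflection_smul, map_add, map_zsmul, map_zsmul, reflection_apply_self,
        reflection_apply_root' ℤ]
      module
  | inv_mem u hu =>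
    rcases hu with rfl | rfl
    · refine ⟨-x - y * P.pairingIn ℤ γ α, y, ?_⟩
      rw [Equiv.reflection_inv, Equiv.reflection_smul, map_add, map_zsmul, map_zsmul, reflection_apply_self,
        reflection_apply_root' ℤ]
      module
    · refine ⟨x, -y - x * P.pairingIn ℤ α γ, ?_⟩
      rw [Equiv.reflection_inv, Equiv.reflection_smul, map_add, map_zsmul, map_zsmul, reflection_apply_self,
        reflection_apply_root' ℤ]
      module
  | mul u v _ _ hu hv =>
    obtain ⟨x', y', h⟩ := hv x y
    obtain ⟨x'', y'', h'⟩ := hu x' y'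
    exact ⟨x'', y'', by rw [mul_smul, h, h']⟩

open Sga3A.Weyl in
theorem exists_chain {β : ι} (hβ : β ∈ b.support) :
    ∀ (n : ℕ) (w : P.Aut), cnt b b w = n → w ∈ P.weylGroup → ∀ α ∈ b.support, w • α = β →
      Chain P (b.support : Set ι) α w β := by
  classical
  intro n
  induction n using Nat.strong_induction_on with
  | _ n ih =>
    intro w hn hw α hα hwα
    by_cases hw1 : w = 1
    · subst hw1
      rw [one_smul] at hwα
      subst hwα
      exact Chain.nil _ hα
    · have hex : ∃ γ ∈ b.support, ¬ b.IsPos (w • γ) := by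
        by_contra hcon
        push Not at hcon
        apply hw1
        exact congrArg Subtype.val (eq_one_of_preserves b ⟨w, hw⟩ hcon)
      obtain ⟨γ, hγ, hγ'⟩ := hex
      obtain ⟨v, hv, h1, h2, h3⟩ := exists_min_coset b hα hγ n w hn
      have hlt : cnt b b (w * v) < cnt b b w := by
        refine h3.resolve_right ?_
        rintro rfl
        rw [mul_one] at h2
        exact hγ' h2
      have hvW : v ∈ P.weylGroup := by
        refine (Subgroup.closure_le _).2 ?_ hv
        rintro x (rfl | rfl)
        · exact P.reflection_mem_weylGroup _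
        · exact P.reflection_mem_weylGroup _
      have hαγ : α ≠ γ := by
        rintro rfl
        rw [hwα] at hγ'
        exact hγ' (b.isPos_of_mem_support hβ)
      -- the root `v⁻¹ • α` is simple
      have hmem : v⁻¹ • α = α ∨ v⁻¹ • α = γ := by
        obtain ⟨x, y, hxy⟩ := root_smul_mem (inv_mem hv) 1 0
        rw [one_smul, zero_smul, add_zero, ← root_smul] at hxy
        have hβ1 : P.root β = x • P.root ((w * v) • α) + y • P.root ((w * v) • γ) := by
          have hc : ∀ (z : ℤ) (m : M), z • ((w * v) • m) = (w * v) • (z • m) :=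
            fun z m => (smul_comm (w * v) z m).symm
          rw [root_smul, root_smul, hc, hc, ← smul_add, ← hxy, ← root_smul, mul_smul,
            smul_inv_smul, hwα]
        have hht := height_comb b hβ1
        rw [Base.height_one_of_mem_support hβ] at hht
        rw [Base.isPos_iff] at h1 h2
        have hsgn : (0 ≤ x ∧ 0 ≤ y) ∨ (x ≤ 0 ∧ y ≤ 0) := by
          have hsum : ∑ j ∈ b.support, (Pi.single α x + Pi.single γ y : ι → ℤ) j • P.root j =
              x • P.root α + y • P.root γ := by
            simp only [Pi.add_apply, add_smul, Finset.sum_add_distrib]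
            congr 1
            · rw [Finset.sum_eq_single_of_mem α hα]
              · simp
              · intro j _ hj
                simp [hj]
            · rw [Finset.sum_eq_single_of_mem γ hγ]
              · simp
              · intro j _ hj
                simp [hj]
          have hpn := b.pos_or_neg_of_sum_smul_root_mem (Pi.single α x + Pi.single γ y)
            (by rw [hsum, ← hxy]; exact ⟨_, rfl⟩) (by
              intro j hj
              by_contra hjs
              apply hj
              have e1 : j ≠ α := fun e => hjs (e ▸ hα)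
              have e2 : j ≠ γ := fun e => hjs (e ▸ hγ)
              simp [e1, e2])
          rcases hpn with hpn | hpn
          · left
            have e1 := hpn.le α
            have e2 := hpn.le γ
            simp [hαγ, hαγ.symm] at e1 e2
            exact ⟨e1, e2⟩
          · right
            have e1 := hpn.le α
            have e2 := hpn.le γ
            simp [hαγ, hαγ.symm] at e1 e2
            exact ⟨e1, e2⟩
        have hcases : (x = 1 ∧ y = 0) ∨ (x = 0 ∧ y = 1) := by
          rcases hsgn with ⟨hx, hy⟩ | ⟨hx, hy⟩
          · have e1 : x ≤ 1 := by nlinarith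
            have e2 : y ≤ 1 := by nlinarith
            interval_cases x <;> interval_cases y
            · omega
            · right; exact ⟨rfl, rfl⟩
            · left; exact ⟨rfl, rfl⟩
            · omega
          · exfalso; nlinarith
        rcases hcases with ⟨rfl, rfl⟩ | ⟨rfl, rfl⟩
        · left
          apply P.root.injective
          rw [hxy]; simp
        · right
          apply P.root.injective
          rw [hxy]; simp
      have hmem' : v⁻¹ • α ∈ b.support := by
        rcases hmem with h | h <;> rw [h] <;> assumption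
      have hc := ih _ (hn ▸ hlt) (w * v) rfl (mul_mem hw hvW) (v⁻¹ • α) hmem'
        (by rw [mul_smul, smul_inv_smul, hwα])
      have := Chain.cons α γ v⁻¹ (w * v) β hα hγ (inv_mem hv) (by
        intro hne
        rcases hmem with h | h
        · exact absurd h.symm hne
        · exact h.symm) hc
      rwa [mul_inv_cancel_right] at this

end Main


/-- SGA 3 XXI 5.6 (Tits), for a finite crystallographic reduced root pairing with a base b: let α, β be simple roots and w an element of the Weyl group with w(α) = β. Then there are simple roots α = α_0, ..., α_m = β and Weyl group elements w_0, ..., w_{m-1} with w = w_{m-1} ... w_0, w_i(α_i) = α_{i+1}, and each w_i lying in the subgroup generated by the reflections in α_i and in a simple root γ_i, where γ_i = α_{i+1} whenever α_i ≠ α_{i+1}. -/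
theorem result {ι R M N : Type*} [CommRing R] [CharZero R] [IsDomain R] [AddCommGroup M] [Module R M]
    [AddCommGroup N] [Module R N] (P : RootPairing ι R M N) [Finite ι] [P.IsCrystallographic] [P.IsReduced]
    (b : P.Base) (α β : ι) (hα : α ∈ b.support) (hβ : β ∈ b.support) (w : P.Aut) (hw : w ∈ P.weylGroup)
    (hwα : w • α = β) :
    ∃ (m : ℕ) (a : Fin (m + 1) → ι) (ws : Fin m → P.Aut),
      (∀ i, a i ∈ b.support) ∧ a 0 = α ∧ a (Fin.last m) = β ∧
      (∀ i, ws i ∈ P.weylGroup) ∧
      w = (List.ofFn fun i : Fin m => ws (Fin.rev i)).prod ∧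
      (∀ i : Fin m, ws i • a (Fin.castSucc i) = a (Fin.succ i)) ∧
      ∀ i : Fin m, ∃ γ ∈ b.support,
        ws i ∈ Subgroup.closure {Equiv.reflection P (a (Fin.castSucc i)), Equiv.reflection P γ} ∧
        (a (Fin.castSucc i) ≠ a (Fin.succ i) → γ = a (Fin.succ i)) := by
  exact (exists_chain b hβ _ w rfl hw α hα hwα).out

end Groth.Agent.S2957
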