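import Groth.Statements.S3022
import Groth.Agent.Fdesc.GrpDimHom
import Groth.Agent.S0402
import Groth.Agent.S0404
import Groth.Agent.VarietyA.LocDim

set_option autoImplicit false
universe u
open CategoryTheory MonoidalCategory CartesianMonoidalCategory MonObj GrpObj AlgebraicGeometry TensorProduct
open SGA3

namespace Groth.Agent.S3022

open Groth.Agent.Fdesc.GrpDimHom Groth.Agent.CycB.RelDim Groth.Agent.VarietyB TopologicalSpace

lemma dim_fiber {X Y : Scheme.{u}} (f : X ⟶ Y) (y : Y) :
    topologicalKrullDim (f.fiber y) = topologicalKrullDim (f ⁻¹' {y}) :=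
  IsHomeomorph.topologicalKrullDim_eq (f.fiberHomeo y) (f.fiberHomeo y).isHomeomorph

lemma of_comp_ι (P : MorphismProperty Scheme.{u}) [P.IsStableUnderBaseChange] {X Y : Scheme.{u}}
    {V : Y.Opens} (g : X ⟶ V.toScheme) (h : P (g ≫ V.ι)) : P g := by
  have : P.HasOfPostcompProperty @IsOpenImmersion := inferInstance
  exact P.of_postcomp (W' := @IsOpenImmersion) g V.ι inferInstance h

lemma dim_empty {X : Type*} [TopologicalSpace X] [IsEmpty X] : topologicalKrullDim X = ⊥ := by
  have : IsEmpty (TopologicalSpace.IrreducibleCloseds X) :=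
    ⟨fun T => by obtain ⟨x, -⟩ := T.isIrreducible.nonempty; exact isEmptyElim x⟩
  exact Order.krullDim_eq_bot

variable {S : Scheme.{u}} (G : Over S) [GrpObj G] [LocallyOfFiniteType G.hom]

/-- Generic points of the fibres of a group scheme. -/
lemma exists_dim (s : S) : ∃ d : ℕ, topologicalKrullDim (G.hom.fiber s) = d ∧
    ∀ x : G.left, G.hom x = s → FibGeneric G.hom x → rtd G.hom x = d := by
  let K := S.residueField s
  let Gs : Over (Spec (CommRingCat.of K)) := (Over.pullback (S.fromSpecResidueField s)).obj G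
  let _ : GrpObj Gs := Functor.grpObjObj
  have : LocallyOfFiniteType Gs.hom :=
    inferInstanceAs (LocallyOfFiniteType (Limits.pullback.snd G.hom (S.fromSpecResidueField s)))
  obtain ⟨d, hd, hd'⟩ := rtd_eq Gs
  refine ⟨d, hd, ?_⟩
  rintro x rfl hx
  let z : G.hom.fiber (G.hom x) := G.hom.asFiber x
  have h1 : G.hom.fiberι (G.hom x) z = x := G.hom.fiberι_asFiber x
  have hz : IsGen z := by
    intro w hw
    have h2 : G.hom.fiberι (G.hom x) w ⤳ x := by
      have := hw.map (G.hom.fiberι (G.hom x)).continuous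
      rwa [h1] at this
    have h3 : G.hom (G.hom.fiberι (G.hom x) w) = G.hom x := by
      have : G.hom.fiberι (G.hom x) w ∈ Set.range (G.hom.fiberι (G.hom x)) := ⟨w, rfl⟩
      rw [Scheme.Hom.range_fiberι] at this
      exact this
    have h4 := hx _ h3 h2
    apply (G.hom.fiberι (G.hom x)).isEmbedding.injective
    rw [h4, h1]
  have h5 := hd' z hz
  have h6 := rtd_fiberToSpecResidueField G.hom (G.hom x) z
  rw [h1] at h6
  rw [← h6]
  exact h5

/-- The fibre dimension of a group scheme, computed on any open subset meeting the fibre. -/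
lemma dim_open (s : S) (U : G.left.Opens) (x : G.left) (hx : G.hom x = s) (hxU : x ∈ U) :
    topologicalKrullDim ((U.ι ≫ G.hom).fiber s) = topologicalKrullDim (G.hom.fiber s) := by
  obtain ⟨d, hd, hd'⟩ := exists_dim G s
  apply le_antisymm
  · rw [dim_fiber, dim_fiber]
    refine DimTop.topologicalKrullDim_le_of_isEmbedding (f := U.ι) U.ι.isEmbedding.isInducing _ _ ?_
    intro y hy
    exact hy
  · rw [hd]
    obtain ⟨ξ, hξ1, hξ2, hξ3⟩ := exists_fibGeneric_specializes G.hom x
    have hξU : ξ ∈ U := hξ1.mem_open U.2 hxU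
    have hr : (⟨ξ, hξU⟩ : U) ∈ Set.range ((U.ι ≫ G.hom).fiberι s) := by
      rw [Scheme.Hom.range_fiberι]; exact hξ2.trans hx
    obtain ⟨z, hz⟩ := hr
    obtain ⟨n, hn, hn'⟩ := exists_dim_closure_fiber (U.ι ≫ G.hom) s z
    rw [hz, Groth.Agent.VarietyA.LocDim.rtd_ι_comp] at hn
    change rtd G.hom ξ = n at hn
    rw [hd' ξ (hξ2.trans hx) hξ3] at hn
    have : d = n := by exact_mod_cast hn
    subst this
    rw [← hn']
    exact topologicalKrullDim_subspace_le _ _

lemma fibreDimAt_eq (x : G.left) :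
    FlatMor.fibreDimAt G.hom x = topologicalKrullDim (G.hom.fiber (G.hom x)) := by
  obtain ⟨d, hd, hd'⟩ := exists_dim G (G.hom x)
  apply le_antisymm
  · exact DimTop.localDim_le_dim _
  · obtain ⟨ξ, hξ1, hξ2, hξ3⟩ := exists_fibGeneric_specializes G.hom x
    obtain ⟨n, hn, hn'⟩ := Groth.Agent.VarietyA.LocDim.le_fibreDimAt G.hom x ξ hξ1 hξ2
    rw [hd' ξ hξ2 hξ3] at hn
    have : d = n := by exact_mod_cast hn
    rw [hd, this]
    exact hn'

/-- SGA 3 VI_B Cor. 4.3: let S be a scheme and G a group scheme over S which is flat and locally of finite presentation. Then s ↦ dim G_s (the dimension of the fibre, i.e. of the subspace of G lying over s) is a locally constant function on S. -/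
theorem result (S : Scheme.{u}) (G : Over S) [GrpObj G] [Flat G.hom]
    [LocallyOfFinitePresentation G.hom] :
    IsLocallyConstant (fun s : S => topologicalKrullDim ↥(G.hom.base ⁻¹' {s})) := by
  rw [IsLocallyConstant.iff_exists_open]
  intro s
  obtain ⟨d, hd, -⟩ := exists_dim G s
  -- upper semicontinuity
  let e : S ⟶ G.left := (η[G] : 𝟙_ (Over S) ⟶ G).left
  have he : ∀ t : S, G.hom (e t) = t := by
    intro t
    have h1 : e ≫ G.hom = 𝟙 S := Over.w (η[G] : 𝟙_ (Over S) ⟶ G)
    rw [← Scheme.Hom.comp_apply, h1]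
    rfl
  have hup : IsOpen {t : S | topologicalKrullDim (G.hom.fiber t) ≤ d} := by
    have h1 := (Groth.Agent.S0402.result G.hom d).preimage e.continuous
    have h2 : e ⁻¹' {x | FlatMor.fibreDimAt G.hom x ≤ d} =
        {t : S | topologicalKrullDim (G.hom.fiber t) ≤ d} := by
      ext t
      change FlatMor.fibreDimAt G.hom (e t) ≤ d ↔ _
      rw [fibreDimAt_eq, he]
      rfl
    rwa [h2] at h1
  -- an affine chart around `e s`
  obtain ⟨V, hV, hsV, -⟩ := exists_isAffineOpen_mem_and_subset (U := ⊤) (x := s) (by trivial)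
  obtain ⟨U, hU, hxU, hUV⟩ := exists_isAffineOpen_mem_and_subset (U := G.hom ⁻¹ᵁ V) (x := e s)
    (show G.hom (e s) ∈ V by rw [he]; exact hsV)
  have : IsAffine U := hU
  have : IsAffine V := hV
  let g : U.toScheme ⟶ V.toScheme := IsOpenImmersion.lift V.ι (U.ι ≫ G.hom) (by
    rw [Scheme.Opens.range_ι]
    rintro _ ⟨y, rfl⟩
    exact hUV y.2)
  have hg : g ≫ V.ι = U.ι ≫ G.hom := IsOpenImmersion.lift_fac _ _ _
  have hflat : Flat g := by
    have : Flat (g ≫ V.ι) := by rw [hg]; infer_instance
    exact of_comp_ι @Flat g this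
  have hlfp : LocallyOfFinitePresentation g := by
    have : LocallyOfFinitePresentation (g ≫ V.ι) := by rw [hg]; infer_instance
    exact of_comp_ι @LocallyOfFinitePresentation g this
  have hfib : ∀ v : V.toScheme, topologicalKrullDim (g.fiber v) =
      topologicalKrullDim ((U.ι ≫ G.hom).fiber (V.ι v)) := by
    intro v
    rw [dim_fiber, dim_fiber]
    have : g ⁻¹' {v} = (U.ι ≫ G.hom) ⁻¹' {V.ι v} := by
      ext y
      rw [← hg]
      simp only [Set.mem_preimage, Set.mem_singleton_iff, Scheme.Hom.comp_apply]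
      exact V.ι.isOpenEmbedding.injective.eq_iff.symm
    rw [this]
  -- lower semicontinuity
  obtain ⟨c, hc⟩ : ∃ c : WithBot ℕ∞, ∀ x : WithBot ℕ∞, c < x ↔ (d : WithBot ℕ∞) ≤ x := by
    cases d with
    | zero => exact ⟨⊥, fun x => by
        induction x with
        | bot => simp
        | coe x => simp [WithBot.bot_lt_coe]⟩
    | succ m => exact ⟨(m : WithBot ℕ∞), fun x => by
        induction x with
        | bot => simp
        | coe x =>
          change (((m : ℕ∞) : WithBot ℕ∞) < (x : WithBot ℕ∞)) ↔ _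
          rw [WithBot.coe_lt_coe]
          change _ ↔ ((((m + 1 : ℕ) : ℕ∞) : WithBot ℕ∞) ≤ (x : WithBot ℕ∞))
          rw [WithBot.coe_le_coe]
          push_cast
          exact (Order.add_one_le_iff_of_not_isMax (by simp)).symm⟩
  have hlow := Groth.Agent.S0404.result g c
  refine ⟨{t : S | topologicalKrullDim (G.hom.fiber t) ≤ d} ∩
    V.ι '' {v | c < topologicalKrullDim (g.fiber v)}, hup.inter
    (V.ι.isOpenEmbedding.isOpenMap _ hlow), ⟨hd.le, ⟨s, hsV⟩, ?_, rfl⟩, ?_⟩
  · have h1 := hfib (⟨s, hsV⟩ : V.toScheme)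
    change c < topologicalKrullDim (g.fiber (⟨s, hsV⟩ : V.toScheme))
    rw [hc]
    refine le_trans ?_ h1.ge
    change _ ≤ topologicalKrullDim ((U.ι ≫ G.hom).fiber s)
    rw [dim_open G s U (e s) (he s) hxU, hd]
  · rintro _ ⟨h1, ⟨v, h2, rfl⟩⟩
    change c < topologicalKrullDim (g.fiber v) at h2
    have hne : Nonempty (g.fiber v) := by
      by_contra hne
      rw [not_nonempty_iff] at hne
      rw [hc, dim_empty] at h2
      simp at h2
    obtain ⟨z⟩ := hne
    rw [hc, hfib] at h2
    change topologicalKrullDim (G.hom ⁻¹' {V.ι v}) = topologicalKrullDim (G.hom ⁻¹' {s})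
    rw [← dim_fiber, ← dim_fiber, hd]
    apply le_antisymm h1
    have h3 : g (g.fiberι v z) = v := by
      have : g.fiberι v z ∈ Set.range (g.fiberι v) := ⟨z, rfl⟩
      rw [Scheme.Hom.range_fiberι] at this
      exact this
    have h4 : G.hom (g.fiberι v z).1 = V.ι v := by
      have := congrArg V.ι h3
      rw [← Scheme.Hom.comp_apply, hg, Scheme.Hom.comp_apply] at this
      exact this
    rwa [dim_open G (V.ι v) U _ h4 (g.fiberι v z).2] at h2

end Groth.Agent.S3022
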