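import Groth.Statements.S3003
import Groth.Agent.Sga3B.FibreCent
import Groth.Agent.Sga3B.AffHopf
import Groth.Agent.S0412

set_option autoImplicit false
universe u
open CategoryTheory MonoidalCategory CartesianMonoidalCategory MonObj GrpObj AlgebraicGeometry
open Red

namespace Groth.Agent.S3003

open Groth.Agent.Sga3B Groth.Agent.Sga3B.HaarDef Groth.Agent.Sga3B.AffTest Groth.Agent.Sga3B.PtData
open Groth.Agent.Sga3B.PtMor Groth.Agent.Sga3B.TorusNbhd Groth.Agent.Sga3B.TorusRk Groth.Agent.Sga3B.MaxTorusCrit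

/-- The local form: `S` replaced by an affine open neighbourhood of `s₀`. -/
theorem aux {S : Scheme.{u}} (G : Over S) [GrpObj G] [IsAffineHom G.hom] [Smooth G.hom] {R : Type u} [CommRing R]
    (j : Spec (CommRingCat.of R) ⟶ S) [IsOpenImmersion j] (s₀ : S) (hs₀ : s₀ ∈ Set.range j)
    (hc : ∀ (T : Over (Spec (CommRingCat.of (AlgebraicClosure (S.residueField s₀))))) [GrpObj T]
      (i : T ⟶ Red.geomFibre s₀ G), Red.IsMaximalTorus i → ∀ (X : Over _) (g : X ⟶ Red.geomFibre s₀ G),
      (∀ (X' : Over _) (x : X' ⟶ X) (t : X' ⟶ T), (x ≫ g) * (t ≫ i) = (t ≫ i) * (x ≫ g)) → ∃ t : X ⟶ T, g = t ≫ i) :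
    ∃ (B : Type u) (_ : CommRing B) (v : Spec (CommRingCat.of B) ⟶ S), Etale v ∧ s₀ ∈ Set.range v.base ∧
      ∃ (T : Over (Spec (CommRingCat.of B))) (_ : GrpObj T) (i : T ⟶ Red.bc v G),
        Red.IsMaximalTorus i ∧ ∃ r : ℕ, Red.IsSplitTorusWith (Fin r → ℤ) T := by
  -- the Hopf algebra
  have hGj : IsAffineHom (Red.bc j G).hom := by
    show IsAffineHom (Limits.pullback.snd _ _)
    infer_instance
  have hGj' : Smooth (Red.bc j G).hom := by
    show Smooth (Limits.pullback.snd _ _)
    infer_instance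
  have : IsAffine (Red.bc j G).left := isAffine_left_of_isAffineHom _
  obtain ⟨C, _, _, iC, hiC⟩ := AffHopf.exists_hopf (Red.bc j G)
  have hsm : Algebra.Smooth R C := AffHopf.smooth_of_iso iC
  have hft : Algebra.FiniteType R C := Algebra.FiniteType.of_finitePresentation
  -- the geometric point
  have hrange : Set.range (Red.geomPt s₀) ⊆ Set.range j := by
    rintro _ ⟨x, rfl⟩
    have : Red.geomPt s₀ x = s₀ := by
      show (Spec.map _ ≫ S.fromSpecResidueField s₀) x = s₀
      rw [Scheme.Hom.comp_apply]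
      exact Scheme.fromSpecResidueField_apply _ _
    rw [this]
    exact hs₀
  let φ : R →+* AlgebraicClosure (S.residueField s₀) :=
    (Spec.preimage (IsOpenImmersion.lift j (Red.geomPt s₀) hrange)).hom
  let : Algebra R (AlgebraicClosure (S.residueField s₀)) := φ.toAlgebra
  have hgeom : Red.geomPt s₀ = q R (AlgebraicClosure (S.residueField s₀)) ≫ j := by
    have h1 : Spec.map (CommRingCat.ofHom φ) = IsOpenImmersion.lift j (Red.geomPt s₀) hrange := Spec.map_preimage _
    show _ = Spec.map (CommRingCat.ofHom φ) ≫ j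
    rw [h1, IsOpenImmersion.lift_fac]
  obtain ⟨PK⟩ := AffHopf.exists_ptStr G j iC (AlgebraicClosure (S.residueField s₀)) (Red.geomPt s₀) hgeom
  have hGK : IsAffineHom (Red.geomFibre s₀ G).hom := by
    show IsAffineHom (Limits.pullback.snd _ _)
    infer_instance
  have : IsAffine (Red.geomFibre s₀ G).left := isAffine_left_of_isAffineHom _
  obtain ⟨r, F₀, hF₀, hm₀, hfin, hrk⟩ := FibreCent.exists_fibre_torus PK hc
  obtain ⟨Q, _, _, U, g, hQ, hU, hUg, hUrk⟩ := exists_smooth_torus hF₀ hm₀ hfin hrk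
  -- étale section
  have hQsm : Smooth (q R Q) := by
    rw [HasRingHomProperty.Spec_iff (P := @Smooth)]
    exact RingHom.smooth_algebraMap.2 hQ
  have hfs : Smooth (q R Q ≫ j) := inferInstance
  have hs : s₀ ∈ Set.range (q R Q ≫ j) := by
    let k : Spec (CommRingCat.of (AlgebraicClosure (S.residueField s₀))) ⟶ Spec (CommRingCat.of Q) :=
      Spec.map (CommRingCat.ofHom g.toRingHom)
    have hk : k ≫ q R Q = q R (AlgebraicClosure (S.residueField s₀)) := by
      show Spec.map _ ≫ Spec.map _ = Spec.map _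
      rw [← Spec.map_comp, ← CommRingCat.ofHom_comp]
      congr 2
      exact g.comp_algebraMap
    obtain ⟨x⟩ : Nonempty (Spec (CommRingCat.of (AlgebraicClosure (S.residueField s₀)))) := inferInstance
    refine ⟨k x, ?_⟩
    rw [← Scheme.Hom.comp_apply, ← Category.assoc, hk, ← hgeom]
    show (Spec.map _ ≫ S.fromSpecResidueField s₀) x = s₀
    rw [Scheme.Hom.comp_apply]
    exact Scheme.fromSpecResidueField_apply _ _
  obtain ⟨S', g', s', hg'e, hg's, h, hh⟩ := S0412.result (q R Q ≫ j) s₀ hs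
  -- affine neighbourhood of `s'`
  obtain ⟨V, hV, hs'V, -⟩ := exists_isAffineOpen_mem_and_subset (x := s') (U := ⊤) trivial
  let B : Type u := Γ(S', V)
  let w : Spec (CommRingCat.of B) ⟶ S' := hV.fromSpec
  have hw : IsOpenImmersion w := inferInstanceAs (IsOpenImmersion hV.fromSpec)
  have hs'w : s' ∈ Set.range w := by
    have : Set.range hV.fromSpec = (V : Set S') := hV.range_fromSpec
    exact this ▸ hs'V
  let ψ : Q →+* B := (Spec.preimage (w ≫ h)).hom
  have hψ : Spec.map (CommRingCat.ofHom ψ) = w ≫ h := Spec.map_preimage _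
  let : Algebra Q B := ψ.toAlgebra
  let : Algebra R B := (ψ.comp (algebraMap R Q)).toAlgebra
  have : IsScalarTower R Q B := IsScalarTower.of_algebraMap_eq fun _ => rfl
  have hv : w ≫ g' = q R B ≫ j := by
    rw [← hh, ← Category.assoc, ← hψ, ← Category.assoc]
    congr 1
    show Spec.map _ ≫ Spec.map _ = Spec.map _
    rw [← Spec.map_comp, ← CommRingCat.ofHom_comp]
  obtain ⟨PB⟩ := AffHopf.exists_ptStr G j iC B (w ≫ g') hv
  have hGB : IsAffineHom (Red.bc (w ≫ g') G).hom := by
    show IsAffineHom (Limits.pullback.snd _ _)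
    infer_instance
  have : IsAffine (Red.bc (w ≫ g') G).left := isAffine_left_of_isAffineHom _
  have : IsAffine (Red.DS (Spec (CommRingCat.of B)) (Fin r → ℤ)).left := isAffine_left_of_isAffineHom _
  let F := pushG (HaarDef.T (MonoidAlgebra R (Multiplicative (Fin r → ℤ))) (IsScalarTower.toAlgHom R Q B)) U
  have hF : IsHom F := hU.map _
  have hFg : UnitGen F := hUg.map _
  have hFrk : LieRk F r := hUrk.map _
  obtain ⟨i, hi⟩ := exists_mor (dsStr R B (Fin r → ℤ)) PB F
  refine ⟨B, inferInstance, w ≫ g', inferInstance, ?_, Red.DS (Spec (CommRingCat.of B)) (Fin r → ℤ), inferInstance, i,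
    isMaximalTorus_of_corr PB hi hF (hFg.amono hF) ?_, r, ⟨Iso.refl _⟩⟩
  · obtain ⟨y, hy⟩ := hs'w
    refine ⟨y, ?_⟩
    show (w ≫ g') y = s₀
    rw [Scheme.Hom.comp_apply, hy, hg's]
  · intro s _ f _ r' F' χ hF' hm' he
    have h3 := hFrk.map f
    rw [he] at h3
    exact rank_le_of_lieRk hF' hm' χ h3

/-- SGA 3 XIX 6.1.  Let S be a scheme, G an S-group scheme which is smooth and affine over S with connected fibres, and s₀ ∈ S such that every maximal torus of the geometric fibre G_{s̄₀} is its own centralizer (every point of G_{s̄₀} commuting with all points of the torus lies in it).  Then there exist an étale morphism v : Spec B → S whose image contains s₀ and a maximal torus of the base change of G to Spec B which is split. -/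
theorem result (S : Scheme.{u}) (G : Over S) [GrpObj G] [IsAffineHom G.hom] [Smooth G.hom] (hconn : ∀ s : S, _root_.IsConnected (G.hom.base ⁻¹' {s})) (s₀ : S) (hc : ∀ (T : Over (Spec (CommRingCat.of (AlgebraicClosure (S.residueField s₀))))) [GrpObj T] (i : T ⟶ Red.geomFibre s₀ G), Red.IsMaximalTorus i → ∀ (X : Over _) (g : X ⟶ Red.geomFibre s₀ G), (∀ (X' : Over _) (x : X' ⟶ X) (t : X' ⟶ T), (x ≫ g) * (t ≫ i) = (t ≫ i) * (x ≫ g)) → ∃ t : X ⟶ T, g = t ≫ i) : ∃ (B : Type u) (_ : CommRing B) (v : Spec (CommRingCat.of B) ⟶ S), Etale v ∧ s₀ ∈ Set.range v.base ∧ ∃ (T : Over (Spec (CommRingCat.of B))) (_ : GrpObj T) (i : T ⟶ Red.bc v G), Red.IsMaximalTorus i ∧ ∃ r : ℕ, Red.IsSplitTorusWith (Fin r → ℤ) T := by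
  obtain ⟨V, hV, hs₀V, -⟩ := exists_isAffineOpen_mem_and_subset (x := s₀) (U := ⊤) trivial
  have hr : Set.range hV.fromSpec = (V : Set S) := hV.range_fromSpec
  exact aux (R := Γ(S, V)) G (hV.fromSpec : Spec (CommRingCat.of Γ(S, V)) ⟶ S) s₀ (hr ▸ hs₀V) hc

end Groth.Agent.S3003
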