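import Groth.Statements.S2962
import Groth.Agent.Sga3B.SplitCentre897
import Groth.Agent.Sga3B.ChartEx
import Groth.Agent.Sga3B.ChartFib
import Groth.Agent.Sga3B.CellEt

set_option autoImplicit false
open CategoryTheory MonoidalCategory CartesianMonoidalCategory MonObj GrpObj AlgebraicGeometry
universe u
open RedX

namespace Groth.Agent.S2962

/-- SGA 3 XXII 4.1.6: let G be a split reductive group scheme over S with splitting D (maximal torus T = D(M), roots in M). A point g of G with values in X is central (commutes with every point of G after every base change X' -> X) if and only if it factors through T and every root, viewed as a character T -> G_m, is trivial on it; i.e. the centre of G is the intersection of the kernels of the roots. -/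
theorem result {S : Scheme.{u}} {G : Over S} [GrpObj G] (D : Red.SplitRed G)
    (X : Over S) (g : X ⟶ G) :
    (∀ (X' : Over S) (x : X' ⟶ X) (h : X' ⟶ G), (x ≫ g) * h = h * (x ≫ g)) ↔
      ∃ t : X ⟶ D.T, t ≫ D.i = g ∧ ∀ a : D.idx, t ≫ D.split.hom.hom.hom ≫ Red.chi S (D.P.root a) = 1 := by
  have hG := D.reductive
  have : IsAffineHom G.hom := hG.1
  have : Smooth G.hom := hG.2.1
  refine Groth.Agent.Sga3B.SplitCentre897.main D ?_ X g
  intro R _ s
  obtain ⟨c⟩ := Groth.Agent.Sga3B.exists_chart G s
  have hsm : Algebra.Smooth R c.A := Groth.Agent.Sga3B.ChartFib.smooth_of_isPullback c.isPullback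
  have hdom : Groth.Agent.Sga3B.Cell.GeomDom R c.A := fun K _ _ _ =>
    Groth.Agent.Sga3B.ChartFib.isDomain hG c.isPullback K
  have hrank : (c.datum D).RankOK := by
    intro K _ _ _ _ _ _
    rw [Groth.Agent.Sga3B.ChartFib.finrank_eq hG
      (N := Module.finrank ℤ D.M + Fintype.card D.idx) D.dim_fibre c.isPullback K]
    exact Nat.add_comm _ _
  exact ⟨{
    A := c.A
    i := fun B _ _ t => (c.datum D).i B t
    pts := c.pts
    pts_nat := c.pts_nat
    pts_i := fun B _ _ t => (c.pts_i D t).trans (Category.assoc _ _ _)
    central_iff := fun g => Groth.Agent.Sga3B.Cell.Datum.central_iff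
      (Groth.Agent.Sga3B.Cell.Datum.good (c.datum D) hrank) hdom g }⟩

end Groth.Agent.S2962
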