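import Groth.Statements.S2964
import Mathlib.Algebra.Lie.Engel
import Mathlib.RingTheory.LocalRing.Module
import Mathlib.Algebra.Polynomial.Module.AEval
import Mathlib.RingTheory.LocalRing.ResidueField.Ideal
import Mathlib.RingTheory.FiniteType
-- import your own Groth.Agent.* helpers here

set_option autoImplicit false
universe u
open scoped TensorProduct
open SGA3t2b

namespace Groth.Agent.S2964

section
open Polynomial

/-- additive comparison map of fibres -/
noncomputable def fibMap {A : Type u} [CommRing A] {M : Type u} [AddCommGroup M] [Module A M]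
    (v : Module.End A M) (q : Ideal A[X]) [q.IsPrime] :
    ((q.comap (C : A →+* A[X])).ResidueField ⊗[A] M) →+
      (q.ResidueField ⊗[A[X]] Module.AEval' v) :=
  TensorProduct.liftAddHom
    { toFun := fun c =>
        { toFun := fun m => (Ideal.ResidueField.map (q.comap (C : A →+* A[X])) q
              (C : A →+* A[X]) rfl c) ⊗ₜ[A[X]] (Module.AEval'.of v m)
          map_zero' := by rw [map_zero, TensorProduct.tmul_zero]
          map_add' := fun x y => by rw [map_add, TensorProduct.tmul_add] }
      map_zero' := by
        ext m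
        simp
      map_add' := fun x y => by
        ext m
        simp [TensorProduct.add_tmul] }
    (by
      intro r c m
      simp only [AddMonoidHom.coe_mk, ZeroHom.coe_mk]
      rw [Algebra.smul_def, map_mul, Ideal.ResidueField.map_algebraMap, ← Algebra.smul_def,
        TensorProduct.smul_tmul, map_smul]
      congr 1
      exact (Module.AEval.C_smul _ _ _))

theorem fibMap_tmul {A : Type u} [CommRing A] {M : Type u} [AddCommGroup M] [Module A M]
    (v : Module.End A M) (q : Ideal A[X]) [q.IsPrime] (c : (q.comap (C : A →+* A[X])).ResidueField)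
    (m : M) :
    fibMap v q (c ⊗ₜ m) = (Ideal.ResidueField.map (q.comap (C : A →+* A[X])) q
              (C : A →+* A[X]) rfl c) ⊗ₜ[A[X]] (Module.AEval'.of v m) := rfl

/-- A fibrewise nilpotent endomorphism of a finitely generated module is nilpotent. -/
theorem isNilpotent_of_fibres {A : Type u} [CommRing A] {M : Type u} [AddCommGroup M] [Module A M]
    [Module.Finite A M] (v : Module.End A M)
    (h : ∀ p : PrimeSpectrum A, ∃ n : ℕ, ∀ m : M,
      (1 : p.asIdeal.ResidueField) ⊗ₜ[A] ((v ^ n) m) = 0) : IsNilpotent v := by
  have hann : Module.annihilator A[X] (Module.AEval' v) = RingHom.ker (aeval v) :=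
    Module.AEval.annihilator_eq_ker_aeval v
  have key : (X : A[X]) ∈ (Module.annihilator A[X] (Module.AEval' v)).radical := by
    rw [Ideal.radical_eq_sInf, Ideal.mem_sInf]
    rintro q ⟨hq1, hq2⟩
    by_contra hX
    have hsupp : (⟨q, hq2⟩ : PrimeSpectrum A[X]) ∈ Module.support A[X] (Module.AEval' v) := by
      rw [Module.mem_support_iff_of_finite]
      exact hq1
    rw [Module.mem_support_iff_nontrivial_residueField_tensorProduct] at hsupp
    change Nontrivial (q.ResidueField ⊗[A[X]] Module.AEval' v) at hsupp
    obtain ⟨n, hn⟩ := h ⟨q.comap (C : A →+* A[X]), Ideal.IsPrime.comap _⟩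
    change ∀ m : M, (1 : (q.comap (C : A →+* A[X])).ResidueField) ⊗ₜ[A] ((v ^ n) m) = 0 at hn
    have h1 : ∀ m : M, (1 : q.ResidueField) ⊗ₜ[A[X]] (Module.AEval'.of v ((v ^ n) m)) = 0 := by
      intro m
      have := congrArg (fibMap v q) (hn m)
      rw [fibMap_tmul, map_zero, map_one] at this
      exact this
    have h2 : ∀ z : q.ResidueField ⊗[A[X]] Module.AEval' v,
        (algebraMap A[X] q.ResidueField (X ^ n)) • z = 0 := by
      intro z
      induction z with
      | zero => rw [smul_zero]
      | add x y hx hy => rw [smul_add, hx, hy, add_zero]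
      | tmul c m =>
        obtain ⟨m, rfl⟩ := (Module.AEval'.of v).surjective m
        rw [algebraMap_smul, ← TensorProduct.tmul_smul, Module.AEval'.X_pow_smul_of]
        have := congrArg (fun z => c • z) (h1 m)
        simp only [smul_zero] at this
        rw [TensorProduct.smul_tmul', smul_eq_mul, mul_one] at this
        exact this
    have h3 : algebraMap A[X] q.ResidueField (X ^ n) ≠ 0 := by
      intro h0
      rw [Ideal.algebraMap_residueField_eq_zero] at h0
      exact hX (hq2.mem_of_pow_mem n h0)
    obtain ⟨z, hz⟩ := exists_ne (0 : q.ResidueField ⊗[A[X]] Module.AEval' v)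
    exact hz ((smul_eq_zero_iff_right h3).mp (h2 z))
  obtain ⟨n, hn⟩ := key
  rw [hann, RingHom.mem_ker, aeval_X_pow] at hn
  exact ⟨n, hn⟩

end

/-- Engel's theorem for a Lie algebra which is finitely generated as a module over any commutative ring. -/
theorem engel_of_finite {A : Type u} [CommRing A] {L : Type u} [LieRing L] [LieAlgebra A L]
    [Module.Finite A L] (h : ∀ x : L, IsNilpotent (LieAlgebra.ad A L x)) : LieRing.IsNilpotent L := by
  classical
  obtain ⟨s, hs⟩ := (Module.Finite.fg_top : (⊤ : Submodule A L).FG)
  -- structure constants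
  have hstruct : ∀ i j : s, ∃ f : L → A, ∑ k ∈ s, f k • k = ⁅(i : L), (j : L)⁆ := by
    intro i j
    have : ⁅(i : L), (j : L)⁆ ∈ Submodule.span A (s : Set L) := by rw [hs]; trivial
    obtain ⟨f, _, hf⟩ := Submodule.mem_span_finset.mp this
    exact ⟨f, hf⟩
  choose f hf using hstruct
  let T : Finset A := (Finset.univ : Finset (s × s × s)).image (fun t => f t.1 t.2.1 t.2.2)
  let R0 : Subalgebra ℤ A := Algebra.adjoin ℤ (T : Set A)
  have hT : ∀ (i j k : s), f i j k ∈ R0 := by
    intro i j k
    apply Algebra.subset_adjoin
    simp only [T, Finset.coe_image, Finset.coe_univ, Set.image_univ, Set.mem_range]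
    exact ⟨(i, j, k), rfl⟩
  haveI : IsNoetherianRing R0 := by
    haveI : Algebra.FiniteType ℤ R0 := by
      rw [← Subalgebra.fg_iff_finiteType]
      exact ⟨T, rfl⟩
    exact Algebra.FiniteType.isNoetherianRing ℤ R0
  letI : LieAlgebra R0 L := { lie_smul := fun t x y => lie_smul (t : A) x y }
  let N : Submodule R0 L := Submodule.span R0 (s : Set L)
  have hN : ∀ x ∈ N, ∀ y ∈ N, ⁅x, y⁆ ∈ N := by
    intro x hx y hy
    induction hx, hy using Submodule.span_induction₂ with
    | mem_mem a b ha hb =>
      rw [← hf ⟨a, ha⟩ ⟨b, hb⟩]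
      refine Submodule.sum_mem _ fun k hk => ?_
      exact Submodule.smul_mem N (⟨_, hT ⟨a, ha⟩ ⟨b, hb⟩ ⟨k, hk⟩⟩ : R0) (Submodule.subset_span hk)
    | zero_left y hy => rw [zero_lie]; exact zero_mem _
    | zero_right x hx => rw [lie_zero]; exact zero_mem _
    | add_left x y z _ _ _ h1 h2 => rw [add_lie]; exact add_mem h1 h2
    | add_right x y z _ _ _ h1 h2 => rw [lie_add]; exact add_mem h1 h2
    | smul_left r x y _ _ h1 => rw [smul_lie]; exact Submodule.smul_mem _ _ h1
    | smul_right r x y _ _ h1 => rw [lie_smul]; exact Submodule.smul_mem _ _ h1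
  let L0 : LieSubalgebra R0 L := { N with lie_mem' := fun {x y} hx hy => hN x hx y hy }
  haveI : Module.Finite R0 L0 := by
    change Module.Finite R0 N
    exact Module.Finite.span_of_finite R0 s.finite_toSet
  haveI : IsNoetherian R0 L0 := isNoetherian_of_isNoetherianRing_of_finite R0 L0
  have hnil : LieModule.IsNilpotent L0 L := by
    rw [LieModule.isNilpotent_iff_forall (R := R0)]
    rintro ⟨x, hx⟩
    obtain ⟨n, hn⟩ := h x
    refine ⟨n, ?_⟩
    ext y
    have h1 : ∀ (m : ℕ) (y : L), ((LieModule.toEnd R0 L0 L ⟨x, hx⟩) ^ m) y = ((LieAlgebra.ad A L x) ^ m) y := by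
      intro m
      induction m with
      | zero => intro y; simp
      | succ m ih =>
        intro y
        rw [pow_succ, pow_succ]
        exact ih _
    rw [h1 n y, hn]
    rfl
  obtain ⟨k, hk⟩ := LieModule.IsNilpotent.nilpotent R0 L0 L
  have hgen : ∀ (k : ℕ) (x : L), x ∈ LieModule.lowerCentralSeries A L L k →
      x ∈ Submodule.span A ((LieModule.lowerCentralSeries R0 L0 L k : Set L)) := by
    intro k
    induction k with
    | zero =>
      intro x _
      exact Submodule.subset_span (by simp)
    | succ k ih =>
      intro x hx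
      rw [LieModule.lowerCentralSeries_succ, ← LieSubmodule.mem_toSubmodule,
        LieSubmodule.lieIdeal_oper_eq_linear_span'] at hx
      induction hx using Submodule.span_induction with
      | mem z hz =>
        obtain ⟨a, -, b, hb, rfl⟩ := hz
        have ha : a ∈ Submodule.span A (s : Set L) := by rw [hs]; trivial
        have hb' := ih b hb
        clear hb
        induction ha, hb' using Submodule.span_induction₂ with
        | mem_mem a b ha hb =>
          apply Submodule.subset_span
          rw [LieModule.lowerCentralSeries_succ]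
          exact LieSubmodule.lie_mem_lie (x := (⟨a, Submodule.subset_span ha⟩ : L0)) (LieSubmodule.mem_top _) hb
        | zero_left y hy => rw [zero_lie]; exact zero_mem _
        | zero_right x hx => rw [lie_zero]; exact zero_mem _
        | add_left x y z _ _ _ h1 h2 => rw [add_lie]; exact add_mem h1 h2
        | add_right x y z _ _ _ h1 h2 => rw [lie_add]; exact add_mem h1 h2
        | smul_left r x y _ _ h1 => rw [smul_lie]; exact Submodule.smul_mem _ _ h1
        | smul_right r x y _ _ h1 => rw [lie_smul]; exact Submodule.smul_mem _ _ h1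
      | zero => exact zero_mem _
      | add y z _ _ h1 h2 => exact add_mem h1 h2
      | smul c y _ h1 => exact Submodule.smul_mem _ _ h1
  refine LieModule.IsNilpotent.mk (R := A) (k := k) L ?_
  rw [LieSubmodule.eq_bot_iff]
  intro x hx
  have := hgen k x hx
  rw [hk] at this
  simpa using this


/-- SGA 3 XIV 2.1, implications (i) ⇒ (iii) and (ii) ⇒ (iii): let d be a Lie algebra over a commutative ring A which is finitely presented as an A-module. If for every prime p of A the fibre Lie algebra κ(p) ⊗_A d is nilpotent, then d is nilpotent (its lower central series vanishes, i.e. there is N with ad(x_1) ⋯ ad(x_N) = 0 for all x_i); and the same conclusion holds if ad(x) is nilpotent for every x in d. -/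
theorem result {A : Type u} [CommRing A] {L : Type u} [LieRing L] [LieAlgebra A L]
    [Module.FinitePresentation A L] :
    ((∀ p : PrimeSpectrum A, LieRing.IsNilpotent (p.asIdeal.ResidueField ⊗[A] L)) → LieRing.IsNilpotent L) ∧
    ((∀ x : L, IsNilpotent (LieAlgebra.ad A L x)) → LieRing.IsNilpotent L) := by
  have h2 : (∀ x : L, IsNilpotent (LieAlgebra.ad A L x)) → LieRing.IsNilpotent L :=
    fun h => engel_of_finite h
  refine ⟨fun h => h2 fun x => ?_, h2⟩
  refine isNilpotent_of_fibres _ fun p => ?_
  haveI := h p
  obtain ⟨n, hn⟩ := LieModule.exists_forall_pow_toEnd_eq_zero p.asIdeal.ResidueField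
    (p.asIdeal.ResidueField ⊗[A] L) (p.asIdeal.ResidueField ⊗[A] L)
  refine ⟨n, fun m => ?_⟩
  have h1 : ∀ (k : ℕ) (m : L),
      ((LieModule.toEnd p.asIdeal.ResidueField (p.asIdeal.ResidueField ⊗[A] L)
        (p.asIdeal.ResidueField ⊗[A] L) ((1 : p.asIdeal.ResidueField) ⊗ₜ[A] x)) ^ k)
        ((1 : p.asIdeal.ResidueField) ⊗ₜ[A] m) =
      (1 : p.asIdeal.ResidueField) ⊗ₜ[A] (((LieAlgebra.ad A L x) ^ k) m) := by
    intro k
    induction k with
    | zero => intro m; simp
    | succ k ih =>
      intro m
      rw [pow_succ, pow_succ, Module.End.mul_apply, Module.End.mul_apply, LieModule.toEnd_apply_apply,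
        LieAlgebra.ExtendScalars.bracket_tmul, mul_one, ih, LieAlgebra.ad_apply]
  rw [← h1, hn]
  rfl

end Groth.Agent.S2964
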