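import Groth.Statements.S2965
-- import your own Groth.Agent.* helpers here

set_option autoImplicit false
universe u
open SGA3t2b

namespace Groth.Agent.S2965

open Polynomial in
/-- SGA 3 XIV 2.13, implication (iv) ⇒ (i) (global form, finite free module): let u be an endomorphism of a finite free module M over a commutative ring A whose characteristic polynomial is X^r · Q with Q(0) invertible. Then M is the direct sum of two u-stable submodules M', M'' such that u is nilpotent on M' and bijective on M''. -/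
theorem result {A : Type u} [CommRing A] {M : Type u} [AddCommGroup M] [Module A M]
    [Module.Free A M] [Module.Finite A M] (u : M →ₗ[A] M) (r : ℕ) (Q : A[X]) (hQ : IsUnit (Q.coeff 0))
    (h : u.charpoly = X ^ r * Q) :
    ∃ M' M'' : Submodule A M, IsCompl M' M'' ∧ (∀ x ∈ M', u x ∈ M') ∧ (∀ x ∈ M'', u x ∈ M'') ∧
      (∃ n : ℕ, ∀ x ∈ M', (u ^ n) x = 0) ∧ Set.BijOn u M'' M'' := by
  obtain ⟨q, hq⟩ := hQ
  have hQdecomp : Q = X * divX Q + C (q : A) := by
    rw [hq]; exact (X_mul_divX_add Q).symm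
  have hcop0 : IsCoprime (X : A[X]) Q := by
    refine ⟨-(C ((q⁻¹ : Aˣ) : A)) * divX Q, C ((q⁻¹ : Aˣ) : A), ?_⟩
    have h1 : C ((q⁻¹ : Aˣ) : A) * C (q : A) = 1 := by
      rw [← C_mul, Units.inv_mul, C_1]
    calc -(C ((q⁻¹ : Aˣ) : A)) * divX Q * X + C ((q⁻¹ : Aˣ) : A) * Q
        = -(C ((q⁻¹ : Aˣ) : A)) * divX Q * X + C ((q⁻¹ : Aˣ) : A) * (X * divX Q + C (q : A)) := by
          rw [← hQdecomp]
      _ = C ((q⁻¹ : Aˣ) : A) * C (q : A) := by ring
      _ = 1 := h1
  have hcop : IsCoprime ((X : A[X]) ^ r) Q := hcop0.pow_left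
  obtain ⟨a, b, hab⟩ := hcop
  have hCH : aeval u (X ^ r * Q) = 0 := by rw [← h]; exact LinearMap.aeval_self_charpoly u
  have hCH' : ∀ x, aeval u (X ^ r * Q) x = 0 := fun x => by rw [hCH]; rfl
  have hmem' : ∀ x, x ∈ LinearMap.ker (u ^ r) ↔ aeval u (X ^ r : A[X]) x = 0 := by
    intro x; rw [LinearMap.mem_ker]; simp
  have hmul : ∀ (f g : A[X]) (x : M), aeval u (f * g) x = aeval u f (aeval u g x) := by
    intro f g x; rw [map_mul]; rfl
  have hX : ∀ x : M, aeval u (X : A[X]) x = u x := by intro x; simp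
  refine ⟨LinearMap.ker (u ^ r), LinearMap.ker (aeval u Q), ⟨?_, ?_⟩, ?_, ?_, ⟨r, ?_⟩, ?_, ?_, ?_⟩
  · rw [Submodule.disjoint_def]
    intro x hx1 hx2
    rw [hmem'] at hx1
    rw [LinearMap.mem_ker] at hx2
    have : aeval u (a * X ^ r + b * Q) x = x := by rw [hab]; simp
    rw [map_add, LinearMap.add_apply, hmul, hmul, hx1, hx2] at this
    simpa using this.symm
  · rw [codisjoint_iff_le_sup]
    intro x _
    have hx : aeval u (a * X ^ r + b * Q) x = x := by rw [hab]; simp
    rw [map_add, LinearMap.add_apply] at hx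
    rw [← hx]
    refine add_mem (Submodule.mem_sup_right ?_) (Submodule.mem_sup_left ?_)
    · rw [LinearMap.mem_ker, ← hmul, show Q * (a * X ^ r) = a * (X ^ r * Q) by ring, hmul, hCH', map_zero]
    · rw [hmem', ← hmul, show X ^ r * (b * Q) = b * (X ^ r * Q) by ring, hmul, hCH', map_zero]
  · intro x hx
    rw [hmem'] at hx ⊢
    rw [← hX x, ← hmul, mul_comm, hmul, hx, map_zero]
  · intro x hx
    rw [LinearMap.mem_ker] at hx ⊢
    rw [← hX x, ← hmul, mul_comm, hmul, hx, map_zero]
  · intro x hx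
    exact hx
  · intro x hx
    simp only [SetLike.mem_coe, LinearMap.mem_ker] at hx ⊢
    rw [← hX x, ← hmul, mul_comm, hmul, hx, map_zero]
  · have hinj : ∀ x ∈ LinearMap.ker (aeval u Q), u x = 0 → x = 0 := by
      intro x hx hux
      rw [LinearMap.mem_ker] at hx
      obtain ⟨c, d, hcd⟩ := hcop0
      have : aeval u (c * X + d * Q) x = x := by rw [hcd]; simp
      rw [map_add, LinearMap.add_apply, hmul, hmul, hX, hux, hx] at this
      simpa using this.symm
    intro x hx y hy hxy
    have := hinj (x - y) (sub_mem hx hy) (by rw [map_sub, hxy, sub_self])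
    exact sub_eq_zero.mp this
  · intro x hx
    simp only [SetLike.mem_coe, LinearMap.mem_ker] at hx
    obtain ⟨c, d, hcd⟩ := hcop0
    have h1 : aeval u (c * X + d * Q) x = x := by rw [hcd]; simp
    rw [map_add, LinearMap.add_apply, hmul d Q, hx, map_zero, add_zero, mul_comm, hmul, hX] at h1
    refine ⟨aeval u c x, ?_, h1⟩
    simp only [SetLike.mem_coe, LinearMap.mem_ker]
    rw [← hmul, mul_comm, hmul, hx, map_zero]

end Groth.Agent.S2965
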