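import Groth.Statements.S2966
import Groth.Agent.Sga3A.ComodUnip2
-- import your own Groth.Agent.* helpers here

set_option autoImplicit false
universe u
open scoped TensorProduct
open SGA3t2b

namespace Groth.Agent.S2966

open Groth.Agent.Sga3A.ComodBasic Groth.Agent.Sga3A.ComodUnip

/-- the filtrations are functorial for bialgebra maps -/
theorem bialgHom_mem_soc {k : Type u} [Field k] {A B : Type u} [CommRing A] [CommRing B]
    [Bialgebra k A] [Bialgebra k B] (φ : A →ₐc[k] B) (n : ℕ) (a : A) (ha : a ∈ soc k A A n) :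
    φ a ∈ soc k B B n := by
  induction n generalizing a with
  | zero => rw [mem_soc_zero] at ha ⊢; rw [ha, map_zero]
  | succ n ih =>
    rw [mem_soc_succ]
    intro g
    have h1 := ih _ ((mem_soc_succ n a).mp ha (g ∘ₗ (φ : A →ₗ[k] B)))
    have h2 : ∀ z : A ⊗[k] A, φ (TensorProduct.rid k A (LinearMap.lTensor A (g ∘ₗ (φ : A →ₗ[k] B)) z)) =
        TensorProduct.rid k B (LinearMap.lTensor B g
          (TensorProduct.map (φ : A →ₗ[k] B) (φ : A →ₗ[k] B) z)) := by
      intro z
      induction z with
      | zero => simp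
      | add x y hx hy => simp only [map_add, hx, hy]
      | tmul x y => simp
    have h3 : φ (T A (g ∘ₗ (φ : A →ₗ[k] B)) a) = T B g (φ a) := by
      rw [T_apply, T_apply, h2]
      congr 2
      exact CoalgHomClass.map_comp_comul_apply φ a
    rw [map_sub, h3, map_smul] at h1
    have h4 : (g ∘ₗ (φ : A →ₗ[k] B)) 1 = g 1 := by
      rw [LinearMap.comp_apply]
      congr 1
      exact map_one φ
    rwa [h4] at h1

/-- elements that become scalars after base change are scalars -/
theorem eq_counit_of_baseChange {k : Type u} [Field k] {B : Type u} [CommRing B]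
    [HopfAlgebra k B] (K : Type u) [Field K] [Algebra k K] (b : B) (c : K)
    (h : (1 : K) ⊗ₜ[k] b = c • (1 : K ⊗[k] B)) :
    b = algebraMap k B (CoalgebraStruct.counit (R := k) b) := by
  have h1 := congrArg (CoalgebraStruct.counit (R := K) (A := K ⊗[k] B)) h
  rw [map_smul, Bialgebra.counit_one] at h1
  have h2 : CoalgebraStruct.counit (R := K) ((1 : K) ⊗ₜ[k] b) =
      algebraMap k K (CoalgebraStruct.counit (R := k) b) := by
    change CoalgebraStruct.counit (R := k) b • CoalgebraStruct.counit (R := K) (1 : K) = _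
    rw [Bialgebra.counit_one, Algebra.algebraMap_eq_smul_one]
  rw [h2, smul_eq_mul, mul_one] at h1
  rw [← h1] at h
  have h3 : (1 : K) ⊗ₜ[k] b = (1 : K) ⊗ₜ[k] (algebraMap k B (CoalgebraStruct.counit (R := k) b)) := by
    rw [h, Algebra.TensorProduct.one_def, TensorProduct.smul_tmul', smul_eq_mul, mul_one,
      Algebra.algebraMap_eq_smul_one, Algebra.algebraMap_eq_smul_one, TensorProduct.smul_tmul]
  exact Algebra.TensorProduct.includeRight_injective (algebraMap k K).injective h3

/-- SGA 3 XVII 2.4 (Hopf-algebra form; 'unipotent' in the representation-theoretic form of XVII 3.5 vi): affine and every non-zero finite-dimensional representation has a non-zero fixed vector): let k be a field, A_M the coordinate Hopf algebra of an affine k-group M of finite type which is of multiplicative type in the sense that it becomes diagonalisable over an algebraic closure of k, and A_U that of a unipotent affine k-group U. Then (i) every homomorphism M -> U and (ii) every homomorphism U -> M is trivial: every bialgebra map A_U -> A_M,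 resp. A_M -> A_U, factors through the counit. -/
theorem result {k : Type u} [Field k] {AM AU : Type u} [CommRing AM] [CommRing AU]
    [HopfAlgebra k AM] [HopfAlgebra k AU] [Algebra.FiniteType k AM] [Algebra.FiniteType k AU]
    (hM : HopfRep.IsDiagonalizable (AlgebraicClosure k) (AlgebraicClosure k ⊗[k] AM)) (hU : HopfRep.IsUnipotent k AU) :
    (∀ φ : AU →ₐc[k] AM, SGA3t2b.IsTrivialBialgHom φ) ∧ (∀ ψ : AM →ₐc[k] AU, SGA3t2b.IsTrivialBialgHom ψ) := by
  set K := AlgebraicClosure k with hK
  refine ⟨fun φ a => ?_, fun ψ a => ?_⟩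
  · obtain ⟨n, hn⟩ := exists_mem_soc hU a
    have h1 := bialgHom_mem_soc φ n a hn
    have h2 := baseChange_mem_soc K n _ h1
    obtain ⟨c, hc⟩ := soc_le_of_isDiagonalizable hM n _ h2
    have h3 := eq_counit_of_baseChange K (φ a) c hc
    rw [h3, CoalgHomClass.counit_comp_apply]
  · let ψK : (K ⊗[k] AM) →ₐc[K] (K ⊗[k] AU) := Bialgebra.TensorProduct.map (BialgHom.id K K) ψ
    have h1 : ∀ h : K ⊗[k] AM, IsGroupLikeElem K h → ψK h = 1 := by
      intro h hh
      have hh' : IsGroupLikeElem K (ψK h) := hh.map ψK
      obtain ⟨n, hn⟩ := exists_mem_soc_baseChange K hU (ψK h)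
      exact groupLike_eq_one_of_mem_soc _ hh' n hn
    have h2 : ∀ x : K ⊗[k] AM, ∃ c : K, ψK x = c • (1 : K ⊗[k] AU) := by
      intro x
      have hx : x ∈ Submodule.span K {a : K ⊗[k] AM | IsGroupLikeElem K a} := by
        rw [show Submodule.span K {a : K ⊗[k] AM | IsGroupLikeElem K a} = ⊤ from hM]
        trivial
      induction hx using Submodule.span_induction with
      | mem y hy => exact ⟨1, by rw [h1 y hy, one_smul]⟩
      | zero => exact ⟨0, by rw [map_zero, zero_smul]⟩
      | add y z _ _ hy hz =>
        obtain ⟨c, hc⟩ := hy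
        obtain ⟨d, hd⟩ := hz
        exact ⟨c + d, by rw [map_add, hc, hd, add_smul]⟩
      | smul r y _ hy =>
        obtain ⟨c, hc⟩ := hy
        exact ⟨r * c, by rw [map_smul, hc, mul_smul]⟩
    obtain ⟨c, hc⟩ := h2 ((1 : K) ⊗ₜ[k] a)
    have h4 : ψK ((1 : K) ⊗ₜ[k] a) = (1 : K) ⊗ₜ[k] ψ a := rfl
    rw [h4] at hc
    have h3 := eq_counit_of_baseChange K (ψ a) c hc
    rw [h3, CoalgHomClass.counit_comp_apply]

end Groth.Agent.S2966
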