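import Groth.Statements.S2967
-- import your own Groth.Agent.* helpers here

set_option autoImplicit false
universe u
open SGA3t2b

namespace Groth.Agent.S2967

/-- SGA 3 XVII 3.9 bis (a commutative p-Lie algebra over a field k of characteristic p is recorded as a k-vector space g with its p-th power map, which is then additive and Frobenius-semilinear): let g be finite-dimensional and non-zero, with p-th power map φ such that every element is killed by some iterate of φ (g is unipotent). Then the k-subspace spanned by the p-th powers φ(g) is a proper subspace of g. -/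
theorem result {k : Type u} [Field k] (p : ℕ) [Fact p.Prime] [CharP k p]
    {V : Type u} [AddCommGroup V] [Module k V] [FiniteDimensional k V] [Nontrivial V]
    (φ : V →ₛₗ[frobenius k p] V) (hφ : ∀ x : V, ∃ n : ℕ, φ^[n] x = 0) :
    Submodule.span k (Set.range φ) ≠ ⊤ := by
  intro htop
  have hadd : ∀ (n : ℕ) (x y : V), φ^[n] (x + y) = φ^[n] x + φ^[n] y := by
    intro n
    induction n with
    | zero => intro x y; simp
    | succ n ih =>
      intro x y
      rw [Function.iterate_succ_apply', ih, map_add, Function.iterate_succ_apply',
        Function.iterate_succ_apply']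
  have hsmul : ∀ (n : ℕ) (c : k) (x : V), φ^[n] (c • x) = (c ^ (p ^ n)) • φ^[n] x := by
    intro n
    induction n with
    | zero => intro c x; simp
    | succ n ih =>
      intro c x
      rw [Function.iterate_succ_apply', ih, LinearMap.map_smulₛₗ, Function.iterate_succ_apply',
        frobenius_def, ← pow_mul, pow_succ]
  have hzero : ∀ (n : ℕ), φ^[n] (0 : V) = 0 := by
    intro n
    have := hadd n 0 0
    simpa using this
  -- some iterate kills everything
  obtain ⟨s, hs⟩ := (Module.Finite.fg_top : (⊤ : Submodule k V).FG)
  choose N hN using hφ
  have hmono : ∀ (x : V) (m n : ℕ), m ≤ n → φ^[m] x = 0 → φ^[n] x = 0 := by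
    intro x m n hmn h
    obtain ⟨d, rfl⟩ := Nat.exists_eq_add_of_le hmn
    rw [Nat.add_comm, Function.iterate_add_apply, h, hzero]
  let K : ℕ := s.sup N
  have hK : ∀ x : V, φ^[K] x = 0 := by
    intro x
    have hx : x ∈ Submodule.span k (s : Set V) := by rw [hs]; trivial
    induction hx using Submodule.span_induction with
    | mem y hy => exact hmono y (N y) K (Finset.le_sup (f := N) hy) (hN y)
    | zero => exact hzero K
    | add y z _ _ h1 h2 => rw [hadd, h1, h2, add_zero]
    | smul c y _ h1 => rw [hsmul, h1, smul_zero]
  have hspan : ∀ n : ℕ, Submodule.span k (Set.range (φ^[n])) = ⊤ := by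
    intro n
    induction n with
    | zero =>
      rw [eq_top_iff]
      intro x _
      exact Submodule.subset_span ⟨x, rfl⟩
    | succ n ih =>
      rw [← ih]
      apply le_antisymm
      · apply Submodule.span_mono
        rintro _ ⟨x, rfl⟩
        exact ⟨φ x, by rw [← Function.iterate_succ_apply]⟩
      · rw [Submodule.span_le]
        rintro _ ⟨x, rfl⟩
        have hx : x ∈ Submodule.span k (Set.range φ) := by rw [htop]; trivial
        show φ^[n] x ∈ Submodule.span k (Set.range (φ^[n+1]))
        induction hx using Submodule.span_induction with
        | mem y hy =>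
          obtain ⟨z, rfl⟩ := hy
          exact Submodule.subset_span ⟨z, by rw [← Function.iterate_succ_apply]⟩
        | zero => rw [hzero]; exact Submodule.zero_mem _
        | add y z _ _ h1 h2 => rw [hadd]; exact Submodule.add_mem _ h1 h2
        | smul c y _ h1 => rw [hsmul]; exact Submodule.smul_mem _ _ h1
  have h1 := hspan K
  have h2 : Set.range (φ^[K]) ⊆ {0} := by
    rintro _ ⟨x, rfl⟩
    exact hK x
  have h3 : Submodule.span k (Set.range (φ^[K])) ≤ ⊥ := by
    rw [Submodule.span_le]
    exact h2
  rw [h1] at h3
  exact bot_ne_top (le_bot_iff.mp h3).symm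

end Groth.Agent.S2967
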