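import Groth.Statements.S2968
import Groth.Agent.Sga3A.ComodUnip
import Mathlib.Algebra.CharP.Lemmas
import Mathlib.Algebra.CharP.Algebra
-- import your own Groth.Agent.* helpers here

set_option autoImplicit false
universe u
open SGA3t2b

namespace Groth.Agent.S2968

open TensorProduct Groth.Agent.Sga3A.ComodBasic Groth.Agent.Sga3A.ComodUnip

/-- Over a field of characteristic `p`, the `p^m`-th iterate of a derivation is a derivation. -/
theorem pow_char_leibniz {k : Type u} [Field k] (p : ℕ) [Fact p.Prime] [CharP k p] {A : Type u}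
    [CommRing A] [Algebra k A] [Nontrivial A] (X : A →ₗ[k] A)
    (hX : ∀ a b, X (a * b) = a * X b + X a * b) (m : ℕ) (a b : A) :
    (X ^ (p ^ m)) (a * b) = a * (X ^ (p ^ m)) b + (X ^ (p ^ m)) a * b := by
  haveI : Nontrivial (A ⊗[k] A) := inferInstance
  haveI : CharP (Module.End k (A ⊗[k] A)) p :=
    charP_of_injective_algebraMap (algebraMap k (Module.End k (A ⊗[k] A))).injective p
  let P : Module.End k (A ⊗[k] A) := X.rTensor A
  let Q : Module.End k (A ⊗[k] A) := X.lTensor A
  have hPQ : Commute P Q := by
    change P * Q = Q * P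
    change (X.rTensor A) ∘ₗ (X.lTensor A) = (X.lTensor A) ∘ₗ (X.rTensor A)
    rw [LinearMap.rTensor_comp_lTensor, LinearMap.lTensor_comp_rTensor]
  have h1 : ∀ z : A ⊗[k] A, X (LinearMap.mul' k A z) = LinearMap.mul' k A ((P + Q) z) := by
    intro z
    induction z with
    | zero => simp
    | add x y hx hy => simp only [map_add, hx, hy]
    | tmul a b =>
      simp only [LinearMap.mul'_apply, hX, LinearMap.add_apply, map_add, P, Q,
        LinearMap.rTensor_tmul, LinearMap.lTensor_tmul]
      ring
  have h2 : ∀ (n : ℕ) (z : A ⊗[k] A), (X ^ n) (LinearMap.mul' k A z) =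
      LinearMap.mul' k A (((P + Q) ^ n) z) := by
    intro n
    induction n with
    | zero => intro z; simp
    | succ n ih =>
      intro z
      rw [pow_succ, pow_succ, Module.End.mul_apply, Module.End.mul_apply, h1, ih]
  have h3 := h2 (p ^ m) (a ⊗ₜ b)
  rw [add_pow_char_pow_of_commute p m hPQ] at h3
  simp only [P, Q, LinearMap.add_apply, map_add] at h3
  rw [LinearMap.rTensor_pow, LinearMap.lTensor_pow] at h3
  simp only [LinearMap.mul'_apply, LinearMap.rTensor_tmul, LinearMap.lTensor_tmul] at h3
  rw [h3]
  ring

/-- The left-invariant operator of an `ε`-derivation is a derivation. -/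
theorem T_leibniz {k : Type u} [Field k] {A : Type u} [CommRing A] [HopfAlgebra k A]
    (δ : A →ₗ[k] k)
    (hδ : ∀ a b, δ (a * b) = CoalgebraStruct.counit (R := k) a * δ b +
      CoalgebraStruct.counit (R := k) b * δ a) (a b : A) :
    T A δ (a * b) = a * T A δ b + T A δ a * b := by
  have h : ∀ x y : A ⊗[k] A, TensorProduct.rid k A (LinearMap.lTensor A δ (x * y)) =
      TensorProduct.rid k A (LinearMap.lTensor A (CoalgebraStruct.counit (R := k)) x) *
        TensorProduct.rid k A (LinearMap.lTensor A δ y) +
      TensorProduct.rid k A (LinearMap.lTensor A δ x) *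
        TensorProduct.rid k A (LinearMap.lTensor A (CoalgebraStruct.counit (R := k)) y) := by
    intro x y
    induction x with
    | zero => simp
    | add x1 x2 h1 h2 => simp only [add_mul, map_add, h1, h2]; ring
    | tmul a1 a2 =>
      induction y with
      | zero => simp
      | add x1 x2 h1 h2 => simp only [mul_add, map_add, h1, h2]; ring
      | tmul b1 b2 =>
        simp only [Algebra.TensorProduct.tmul_mul_tmul, LinearMap.lTensor_tmul,
          TensorProduct.rid_tmul, hδ, Algebra.smul_def, map_mul, map_add]
        ring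
  have ha := T_counit (k := k) (A := A) (V := A) a
  have hb := T_counit (k := k) (A := A) (V := A) b
  rw [T_apply] at ha hb
  rw [T_apply]
  change TensorProduct.rid k A (LinearMap.lTensor A δ (CoalgebraStruct.comul (R := k) (a * b))) = _
  rw [Bialgebra.comul_mul, h]
  change TensorProduct.rid k A (LinearMap.lTensor A _ (HopfRep.Comod.coact (k := k) (A := A) a)) *
    T A δ b + T A δ a *
    TensorProduct.rid k A (LinearMap.lTensor A _ (HopfRep.Comod.coact (k := k) (A := A) b)) = _
  rw [ha, hb]

theorem convPow_eq {k : Type u} [Field k] {A : Type u} [CommRing A] [HopfAlgebra k A]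
    (δ : A →ₗ[k] k) (n : ℕ) (a : A) :
    LieHopf.convPow δ n a = CoalgebraStruct.counit (R := k) (((T A δ) ^ n) a) := by
  induction n generalizing a with
  | zero => rfl
  | succ n ih =>
    rw [pow_succ, Module.End.mul_apply, ← ih]
    have h : ∀ (f : A →ₗ[k] k) (z : A ⊗[k] A), LinearMap.mul' k k (TensorProduct.map f δ z) =
        f (TensorProduct.rid k A (LinearMap.lTensor A δ z)) := by
      intro f z
      induction z with
      | zero => simp
      | add x1 x2 h1 h2 => simp only [map_add, h1, h2]
      | tmul b1 b2 => simp [mul_comm]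
    exact h _ _

/-- SGA 3 XVII 3.7, characteristic-p part (Hopf-algebra form; 'unipotent' in the representation-theoretic form of XVII 3.5 vi)): let k be a field of characteristic p > 0 and A the coordinate Hopf algebra of a unipotent affine algebraic k-group. Then the Lie algebra of the group is a unipotent p-Lie algebra: for every ε-derivation D : A -> k some iterated p-operation of D, computed as the p^n-fold convolution power of D (this block's rendering of the p-operation, whose axioms are not proved here), vanishes. -/
theorem result {k : Type u} [Field k] (p : ℕ) [Fact p.Prime] [CharP k p] {A : Type u} [CommRing A]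
    [HopfAlgebra k A] [Algebra.FiniteType k A] (hU : HopfRep.IsUnipotent k A) (D : LieHopf.Lie k A) :
    ∃ n : ℕ, 0 < n ∧ LieHopf.convPow (D.toLinearMap.restrictScalars k ∘ₗ LinearMap.id) (p ^ n) = 0 := by
  set δ : A →ₗ[k] k := D.toLinearMap.restrictScalars k ∘ₗ LinearMap.id with hδdef
  have hδ : ∀ a b, δ (a * b) = CoalgebraStruct.counit (R := k) a * δ b +
      CoalgebraStruct.counit (R := k) b * δ a := by
    intro a b
    exact D.leibniz a b
  have hδ1 : δ 1 = 0 := D.map_one_eq_zero
  have hlower : ∀ (n : ℕ) (v : A), v ∈ soc k A A (n + 1) → T A δ v ∈ soc k A A n := by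
    intro n v hv
    have := (mem_soc_succ n v).mp hv δ
    rwa [hδ1, zero_smul, sub_zero] at this
  have hkill : ∀ (n : ℕ) (v : A), v ∈ soc k A A n → ((T A δ) ^ n) v = 0 := by
    intro n
    induction n with
    | zero => intro v hv; rw [mem_soc_zero] at hv; simp [hv]
    | succ n ih =>
      intro v hv
      rw [pow_succ, Module.End.mul_apply]
      exact ih _ (hlower n v hv)
  obtain ⟨s, hs⟩ := (inferInstance : Algebra.FiniteType k A).out
  choose N hN using fun v : A => exists_mem_soc hU v
  let K : ℕ := s.sup N
  have hp : 1 < p := (Fact.out : p.Prime).one_lt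
  refine ⟨K + 1, Nat.succ_pos K, ?_⟩
  have hle : K ≤ p ^ (K + 1) := (Nat.le_succ K).trans (Nat.lt_pow_self hp).le
  haveI : Nontrivial A := by
    refine ⟨⟨0, 1, fun h => ?_⟩⟩
    have := congrArg (CoalgebraStruct.counit (R := k) (A := A)) h
    rw [map_zero, Bialgebra.counit_one] at this
    exact zero_ne_one this
  have hgen : ∀ a ∈ s, ((T A δ) ^ (p ^ (K + 1))) a = 0 := by
    intro a ha
    apply hkill
    exact soc_mono ((Finset.le_sup (f := N) ha).trans hle) (hN a)
  have hall : ∀ a : A, ((T A δ) ^ (p ^ (K + 1))) a = 0 := by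
    intro a
    have ha : a ∈ Algebra.adjoin k (s : Set A) := by rw [hs]; trivial
    have hT1 : T A δ 1 = 0 := by
      have := T_leibniz δ hδ 1 1
      simpa using this
    induction ha using Algebra.adjoin_induction with
    | mem x hx => exact hgen x hx
    | algebraMap r =>
      rw [Algebra.algebraMap_eq_smul_one, map_smul]
      have : p ^ (K + 1) = (p ^ (K + 1) - 1) + 1 :=
        (Nat.sub_add_cancel (Nat.one_le_pow _ _ (by omega))).symm
      rw [this, pow_succ, Module.End.mul_apply, hT1, map_zero, smul_zero]
    | add x y _ _ h1 h2 => rw [map_add, h1, h2, add_zero]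
    | mul x y _ _ h1 h2 =>
      rw [pow_char_leibniz p (T A δ) (T_leibniz δ hδ), h1, h2, mul_zero, zero_mul, add_zero]
  ext a
  rw [convPow_eq, hall, map_zero]
  rfl

end Groth.Agent.S2968
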