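import Groth.Statements.S2969
import Groth.Agent.Sga3A.MTConst

set_option autoImplicit false
universe u
open TensorProduct SGA3b
open SGA3b

namespace Groth.Agent.S2969

/-- SGA 3 X 1.4. Let k be a field and H = Spec A a k-group of multiplicative type and of finite type. Then H is isotrivial: there is a finite separable extension k' of k over which H becomes diagonalisable (of finite type). (Affine group schemes over an affine base are taken in Hopf-algebra form; base change is the tensor product.) -/
theorem result (k : Type u) [Field k] (A : Type u) [CommRing A] [HopfAlgebra k A]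
    (hft : Algebra.FiniteType k A) (h : IsMultType k A) :
    ∃ (k' : Type u) (_ : Field k') (_ : Algebra k k'), Module.Finite k k' ∧ Algebra.IsSeparable k k' ∧ IsDiagFT k' (k' ⊗[k] A) := by
  obtain ⟨S, _, _, _, M, _, _, ⟨g⟩⟩ :=
    Groth.Agent.Sga3A.MTConst.exists_gbasis (Groth.Agent.Sga3A.MultBC.IsMultType.const_of_isLocalRing h)
  obtain ⟨T, _, _, _, _, _, hT⟩ := Groth.Agent.Sga3A.MTKey.exists_etale_cover g
  have : Nontrivial T := (FaithfulSMul.algebraMap_injective k T).nontrivial
  obtain ⟨m, hm⟩ := Ideal.exists_maximal T
  let _ : Field (T ⧸ m) := Ideal.Quotient.field m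
  have : Algebra.FormallyUnramified T (T ⧸ m) := .of_surjective (Algebra.ofId T (T ⧸ m)) Ideal.Quotient.mk_surjective
  have : Algebra.FormallyUnramified k (T ⧸ m) := .comp k T (T ⧸ m)
  obtain ⟨g'⟩ := hT (T ⧸ m)
  exact ⟨T ⧸ m, inferInstance, inferInstance, inferInstance, Algebra.FormallyUnramified.isSeparable k (T ⧸ m),
    Groth.Agent.Sga3A.MTConst.isDiagFT_of_gbasis g'⟩

end Groth.Agent.S2969
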