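import Groth.Statements.S2971
import Groth.Agent.S2970
import Groth.Agent.Sga3A.NilDescent
-- import your own Groth.Agent.* helpers here

set_option autoImplicit false
universe u
open TensorProduct SGA3b
open SGA3b

namespace Groth.Agent.S2971

open Groth.Agent.Sga3A.MultBC Groth.Agent.Sga3A.NilDescent

theorem aux (R : Type u) [CommRing R] (A : Type u) [CommRing A] [HopfAlgebra R A] (h : IsMultType R A)
    (T : Type u) [CommRing T] [Algebra R T] (hn : ∀ x : R, algebraMap R T x = 0 → IsNilpotent x)
    (hs : Function.Surjective (algebraMap R T)) (T₁ : Type u) [CommRing T₁] [Algebra T T₁] [Algebra R T₁]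
    [IsScalarTower R T T₁] [Algebra.Etale T T₁] [Module.FaithfullyFlat T T₁] (hd : IsDiag T₁ (T₁ ⊗[R] A)) :
    ∃ (B : Type u) (_ : CommRing B) (_ : Algebra R B), Algebra.Etale R B ∧ Module.FaithfullyFlat R B ∧
      (Module.Finite T T₁ → Module.Finite R B) ∧ IsDiag B (B ⊗[R] A) := by
  obtain ⟨B, _, _, hB, hff, hfin, J, hJ, ⟨φ⟩⟩ := exists_etale_lift hn hs T₁
  refine ⟨B, _, _, hB, hff, hfin, ?_⟩
  exact Groth.Agent.S2970.result B (B ⊗[R] A) J hJ (isMultType_baseChange B h)
    (isDiag_tower' (isDiag_of_algHom φ hd))

/-- SGA 3 X 2.2, cases of isotriviality and quasi-isotriviality. Let R be a ring, I an ideal consisting of nilpotent elements and H = Spec A an R-group of multiplicative type. If the base change of H to R/I is isotrivial (resp. quasi-isotrivial), so is H. (Affine group schemes over an affine base are taken in Hopf-algebra form; base change is the tensor product.) -/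
theorem result (R : Type u) [CommRing R] (A : Type u) [CommRing A] [HopfAlgebra R A] (I : Ideal R) (hI : ∀ x ∈ I, IsNilpotent x) (h : IsMultType R A) :
    (IsIsotrivial (R ⧸ I) ((R ⧸ I) ⊗[R] A) → IsIsotrivial R A) ∧
    (IsQuasiIsotrivial (R ⧸ I) ((R ⧸ I) ⊗[R] A) → IsQuasiIsotrivial R A) := by
  have hn : ∀ x : R, algebraMap R (R ⧸ I) x = 0 → IsNilpotent x := fun x hx =>
    hI x (Ideal.Quotient.eq_zero_iff_mem.mp hx)
  have hs : Function.Surjective (algebraMap R (R ⧸ I)) := Ideal.Quotient.mk_surjective
  constructor
  · rintro ⟨T₁, _, _, h1, h2, h3, hd⟩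
    let : Algebra R T₁ := ((algebraMap (R ⧸ I) T₁).comp (algebraMap R (R ⧸ I))).toAlgebra
    have : IsScalarTower R (R ⧸ I) T₁ := IsScalarTower.of_algebraMap_eq (fun _ => rfl)
    obtain ⟨B, _, _, hB, hff, hfin, hdiag⟩ := aux R A h (R ⧸ I) hn hs T₁ (isDiag_tower hd)
    exact ⟨B, _, _, hB, hfin h2, hff, hdiag⟩
  · rintro ⟨s₀, hs₀, H⟩
    refine ⟨{f : R | algebraMap R (R ⧸ I) f ∈ s₀}, ?_, ?_⟩
    · apply ideal_eq_top_of_nil hn hs
      rw [Ideal.map_span, ← hs₀]
      congr 1
      ext x
      constructor
      · rintro ⟨f, hf, rfl⟩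
        exact hf
      · intro hx
        obtain ⟨f, rfl⟩ := hs x
        exact ⟨f, hx, rfl⟩
    · intro f hf
      obtain ⟨T₁, _, _, h1, h2, hd⟩ := H _ hf
      have hu : IsUnit ((algebraMap (R ⧸ I) (Localization.Away (algebraMap R (R ⧸ I) f))).comp
          (algebraMap R (R ⧸ I)) f) :=
        IsLocalization.Away.algebraMap_isUnit (S := Localization.Away (algebraMap R (R ⧸ I) f))
          (algebraMap R (R ⧸ I) f)
      let : Algebra (Localization.Away f) (Localization.Away (algebraMap R (R ⧸ I) f)) :=
        (IsLocalization.Away.lift (S := Localization.Away f) f hu).toAlgebra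
      have hcomp : ∀ r : R, algebraMap (Localization.Away f) (Localization.Away (algebraMap R (R ⧸ I) f))
          (algebraMap R (Localization.Away f) r) =
          algebraMap (R ⧸ I) (Localization.Away (algebraMap R (R ⧸ I) f)) (algebraMap R (R ⧸ I) r) := by
        intro r
        change IsLocalization.Away.lift (S := Localization.Away f) f hu (algebraMap R _ r) = _
        rw [IsLocalization.Away.lift_eq]
        rfl
      have : IsScalarTower R (Localization.Away f) (Localization.Away (algebraMap R (R ⧸ I) f)) := by
        refine IsScalarTower.of_algebraMap_eq fun r => ?_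
        rw [hcomp, ← IsScalarTower.algebraMap_apply]
      have hs' : Function.Surjective
          (algebraMap (Localization.Away f) (Localization.Away (algebraMap R (R ⧸ I) f))) := by
        intro y
        obtain ⟨n, a, ha⟩ := IsLocalization.Away.surj (algebraMap R (R ⧸ I) f) y
        obtain ⟨b, rfl⟩ := hs a
        have hfu : IsUnit (algebraMap R (Localization.Away f) f) := IsLocalization.Away.algebraMap_isUnit f
        refine ⟨algebraMap R _ b * (↑(hfu.unit⁻¹) : Localization.Away f) ^ n, ?_⟩
        have hfu' : IsUnit (algebraMap (R ⧸ I) (Localization.Away (algebraMap R (R ⧸ I) f)) (algebraMap R (R ⧸ I) f)) :=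
          IsLocalization.Away.algebraMap_isUnit _
        apply (hfu'.pow n).mul_right_cancel
        rw [ha, map_mul, hcomp, mul_assoc, ← hcomp f, ← map_pow, ← map_mul, ← mul_pow]
        simp
      have hn' : ∀ x : Localization.Away f, algebraMap (Localization.Away f)
          (Localization.Away (algebraMap R (R ⧸ I) f)) x = 0 → IsNilpotent x := by
        intro x hx
        obtain ⟨n, a, ha⟩ := IsLocalization.Away.surj f x
        have hfu : IsUnit (algebraMap R (Localization.Away f) f) := IsLocalization.Away.algebraMap_isUnit f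
        have h3 : algebraMap (R ⧸ I) (Localization.Away (algebraMap R (R ⧸ I) f)) (algebraMap R (R ⧸ I) a) = 0 := by
          rw [← hcomp, ← ha, map_mul, hx, zero_mul]
        rw [IsLocalization.map_eq_zero_iff (Submonoid.powers (algebraMap R (R ⧸ I) f))] at h3
        obtain ⟨⟨_, m, rfl⟩, hm⟩ := h3
        have h4 : IsNilpotent (f ^ m * a) := hn _ (by rw [map_mul, map_pow]; exact hm)
        have h5 : IsNilpotent (algebraMap R (Localization.Away f) (f ^ m * a)) := h4.map _
        rw [map_mul, ← ha] at h5
        have h6 : x = (↑(hfu.unit⁻¹) : Localization.Away f) ^ (n + m) *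
            (algebraMap R (Localization.Away f) (f ^ m) * (x * algebraMap R (Localization.Away f) f ^ n)) := by
          have h7 : (↑(hfu.unit⁻¹) : Localization.Away f) * algebraMap R (Localization.Away f) f = 1 := by simp
          calc x = ((↑(hfu.unit⁻¹) : Localization.Away f) * algebraMap R (Localization.Away f) f) ^ (n + m) * x := by
                rw [h7]; simp
            _ = _ := by rw [map_pow]; ring
        rw [h6]
        exact (Commute.all _ _).isNilpotent_mul_left h5
      let : Algebra (R ⧸ I) T₁ := ((algebraMap (Localization.Away (algebraMap R (R ⧸ I) f)) T₁).comp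
        (algebraMap (R ⧸ I) _)).toAlgebra
      have : IsScalarTower (R ⧸ I) (Localization.Away (algebraMap R (R ⧸ I) f)) T₁ :=
        IsScalarTower.of_algebraMap_eq (fun _ => rfl)
      let : Algebra R T₁ := ((algebraMap (R ⧸ I) T₁).comp (algebraMap R (R ⧸ I))).toAlgebra
      have : IsScalarTower R (R ⧸ I) T₁ := IsScalarTower.of_algebraMap_eq (fun _ => rfl)
      let : Algebra (Localization.Away f) T₁ := ((algebraMap (Localization.Away (algebraMap R (R ⧸ I) f)) T₁).comp
        (algebraMap (Localization.Away f) _)).toAlgebra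
      have : IsScalarTower (Localization.Away f) (Localization.Away (algebraMap R (R ⧸ I) f)) T₁ :=
        IsScalarTower.of_algebraMap_eq (fun _ => rfl)
      have : IsScalarTower R (Localization.Away f) T₁ := by
        refine IsScalarTower.of_algebraMap_eq fun r => ?_
        rw [IsScalarTower.algebraMap_apply (Localization.Away f) (Localization.Away (algebraMap R (R ⧸ I) f)) T₁,
          hcomp]
        rfl
      have hd1 : IsDiag T₁ (T₁ ⊗[R] A) := isDiag_tower (isDiag_tower hd)
      obtain ⟨B, _, _, hB, hff, -, hdiag⟩ := aux (Localization.Away f) (Localization.Away f ⊗[R] A)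
        (isMultType_baseChange _ h) (Localization.Away (algebraMap R (R ⧸ I) f)) hn' hs' T₁ (isDiag_tower' hd1)
      exact ⟨B, _, _, hB, hff, hdiag⟩

end Groth.Agent.S2971
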