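import Groth.Statements.S2974
import Groth.Agent.Sga3A.MTConst
import Groth.Agent.S0499
import Mathlib.RingTheory.Etale.Pi

set_option autoImplicit false
universe u
open TensorProduct SGA3b
open SGA3b

namespace Groth.Agent.S2974

/-- SGA 3 X 4.5 (second part) / 4.6. Let R be a henselian local ring and H = Spec A an R-group of multiplicative type and of finite type. Then H is isotrivial: split by a finite etale faithfully flat R-algebra. (Affine group schemes over an affine base are taken in Hopf-algebra form; base change is the tensor product.) -/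
theorem result (R : Type u) [CommRing R] (A : Type u) [CommRing A] [HopfAlgebra R A] [HenselianLocalRing R] (hft : Algebra.FiniteType R A) (h : IsMultType R A) :
    IsIsotrivial R A := by
  classical
  obtain ⟨S, _, _, _, M, _, _, ⟨g⟩⟩ :=
    Groth.Agent.Sga3A.MTConst.exists_gbasis (Groth.Agent.Sga3A.MultBC.IsMultType.const_of_isLocalRing h)
  obtain ⟨T, _, _, _, _, _, hT⟩ := Groth.Agent.Sga3A.MTKey.exists_etale_cover g
  have : Nontrivial T := (FaithfulSMul.algebraMap_injective R T).nontrivial
  obtain ⟨ι, _, A', _, hA', ⟨e⟩⟩ := Groth.Agent.S0499.result R T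
  have hι : Nonempty ι := by
    by_contra hcon
    rw [not_nonempty_iff] at hcon
    have : Subsingleton T := e.injective.subsingleton
    exact not_subsingleton T this
  obtain ⟨i⟩ := hι
  let _ : ∀ i, Algebra T (A' i) := fun i => ((Pi.evalRingHom A' i).comp e.toRingHom).toAlgebra
  let _ : ∀ i, Algebra R (A' i) := fun i => ((algebraMap T (A' i)).comp (algebraMap R T)).toAlgebra
  have : ∀ i, IsScalarTower R T (A' i) := fun i => .of_algebraMap_eq' rfl
  let e' : T ≃ₐ[R] (∀ i, A' i) := AlgEquiv.ofRingEquiv (f := e) (fun r => rfl)
  have hfe : Algebra.FormallyEtale R (∀ i, A' i) := Algebra.FormallyEtale.of_equiv e'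
  have hfei : Algebra.FormallyEtale R (A' i) := (Algebra.FormallyEtale.pi_iff A').mp hfe i
  have hfin : Module.Finite R (A' i) := by
    have : Function.Surjective (algebraMap T (A' i)) := fun y => ⟨e.symm (Pi.single i y), by
      change (e (e.symm (Pi.single i y))) i = y
      simp⟩
    exact Module.Finite.of_surjective (Algebra.ofId T (A' i) |>.restrictScalars R).toLinearMap this
  have hproj : Module.Projective R (A' i) := by
    have : Module.FinitePresentation R T := Module.FinitePresentation.of_finite_of_finitePresentation R T
    have : Module.Projective R T := Module.Flat.projective_of_finitePresentation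
    refine Module.Projective.of_split (M := T)
      (e'.symm.toLinearMap ∘ₗ LinearMap.single R A' i) (LinearMap.proj i ∘ₗ e'.toLinearMap) ?_
    ext y
    simp
  have hfp : Algebra.FinitePresentation R (A' i) := by
    have : Module.FinitePresentation R (A' i) := Module.finitePresentation_of_projective _ _
    infer_instance
  have := hA' i
  obtain ⟨g'⟩ := hT (A' i)
  have hloc : IsLocalHom (algebraMap R (A' i)) := by
    have h1 : (IsLocalRing.maximalIdeal (A' i)).comap (algebraMap R (A' i)) = IsLocalRing.maximalIdeal R :=
      IsLocalRing.eq_maximalIdeal (Ideal.isMaximal_comap_of_isIntegral_of_isMaximal _)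
    exact ((IsLocalRing.local_hom_TFAE (algebraMap R (A' i))).out 4 0).mp h1
  exact ⟨A' i, inferInstance, inferInstance, ⟨hfei, hfp⟩, hfin, Module.FaithfullyFlat.of_flat_of_isLocalHom,
    Groth.Agent.Sga3A.MTConst.isDiag_of_gbasis g'⟩

end Groth.Agent.S2974
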