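import Groth.Statements.S2977
import Groth.Agent.Sga3A.MTNormal737
-- import your own Groth.Agent.* helpers here

set_option autoImplicit false
universe u
open TensorProduct SGA3b
open SGA3b

namespace Groth.Agent.S2977

/-- SGA 3 X 5.16 (for a Noetherian integrally closed domain, a case of the source's locally Noetherian geometrically unibranch base). Let R be a Noetherian integrally closed domain and H = Spec A an R-group of multiplicative type and of finite type. Then H is isotrivial. (Affine group schemes over an affine base are taken in Hopf-algebra form; base change is the tensor product.) -/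
theorem result (R : Type u) [CommRing R] (A : Type u) [CommRing A] [HopfAlgebra R A] [IsDomain R] [IsNoetherianRing R] [IsIntegrallyClosed R]
    (hft : Algebra.FiniteType R A) (h : IsMultType R A) : IsIsotrivial R A := by
  obtain ⟨S, _, _, _, M, _, _, ⟨g⟩⟩ :=
    Groth.Agent.Sga3A.MTConst.exists_gbasis (Groth.Agent.Sga3A.MTNormal737.const_of_isDomain h)
  have hA : Module.Flat R A := Groth.Agent.Sga3A.MTKey.flat_of_gbasis g
  obtain ⟨T, _, _, _, _, _, hT⟩ := Groth.Agent.Sga3A.MTKey.exists_etale_cover g
  have : Nontrivial T := (FaithfulSMul.algebraMap_injective R T).nontrivial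
  obtain ⟨T', _, _, _, _, hdom, hfin, het, hff⟩ :=
    Groth.Agent.Sga3A.MTNormal737.exists_domain_cover (R := R) T
  obtain ⟨g'⟩ := Groth.Agent.Sga3A.MTNormal737.exists_gbasis_of_local (T := T') (B := T' ⊗[R] A) (M := M) (by
    intro T₁ _ _ _
    let _ : Algebra R T₁ := ((algebraMap T' T₁).comp (algebraMap R T')).toAlgebra
    have : IsScalarTower R T' T₁ := .of_algebraMap_eq' rfl
    let _ : Algebra T T₁ := ((algebraMap T' T₁).comp (algebraMap T T')).toAlgebra
    have : IsScalarTower R T T₁ := .of_algebraMap_eq fun r => by
      rw [IsScalarTower.algebraMap_apply R T' T₁, IsScalarTower.algebraMap_apply R T T']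
      rfl
    obtain ⟨g₁⟩ := hT T₁
    exact ⟨g₁.map (Groth.Agent.Sga3A.MTBasis.cancelBC R T' T₁ A).symm⟩)
  exact ⟨T', inferInstance, inferInstance, het, hfin, hff, Groth.Agent.Sga3A.MTConst.isDiag_of_gbasis g'⟩

end Groth.Agent.S2977
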