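import Groth.Statements.S2978
-- import your own Groth.Agent.* helpers here
import Mathlib.RingTheory.Length
import Mathlib.RingTheory.Lasker
import Mathlib.RingTheory.HopkinsLevitzki
import Mathlib.RingTheory.Localization.AtPrime.Basic
import Mathlib.RingTheory.Localization.Submodule
import Mathlib.RingTheory.Ideal.Quotient.Noetherian
import Mathlib.RingTheory.LocalRing.Quotient

set_option autoImplicit false
universe u
open SGA3b

namespace Groth.Agent.S2978

/-- Key case: an Artinian ring. -/
theorem artinian_case {B : Type u} [CommRing B] [IsArtinianRing B] {M : Type u}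
    {ι : Type u} [Fintype ι] (b c : ι → M → B)
    (hoff : ∀ m m', m ≠ m' → ∑ i, b i m * c i m' = 0) :
    Set.Finite {m : M | ∑ i, b i m * c i m ≠ 0} := by
  classical
  by_contra hinf
  have hℓ : Module.length B B ≠ ⊤ := Module.length_ne_top
  obtain ⟨ℓ, hℓ'⟩ := WithTop.ne_top_iff_exists.mp hℓ
  have hlen : Module.length B (ι → B) = ((Fintype.card ι * ℓ : ℕ) : ℕ∞) := by
    rw [Module.length_pi_of_fintype]
    simp only [Finset.sum_const, Finset.card_univ, nsmul_eq_mul]
    rw [← hℓ']
    push_cast
    rfl
  have hinf' : Set.Infinite {m : M | ∑ i, b i m * c i m ≠ 0} := hinf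
  obtain ⟨S, hS, hcard⟩ := hinf'.exists_subset_card_eq (Fintype.card ι * ℓ + 1)
  let d : M → B := fun m => ∑ i, b i m * c i m
  let G : (ι → B) →ₗ[B] (S → B) :=
    LinearMap.pi fun m => ∑ i, (b i m.1) • LinearMap.proj i
  have hG : ∀ y m, G y m = ∑ i, b i m.1 * y i := by
    intro y m
    simp [G]
  let P : Submodule B (ι → B) := Submodule.comap G (Submodule.pi Set.univ fun m : S => Submodule.span B {d m.1})
  let H : P →ₗ[B] ((m : S) → Submodule.span B {d m.1}) :=
    LinearMap.pi fun m => LinearMap.codRestrict _ ((LinearMap.proj m ∘ₗ G) ∘ₗ P.subtype)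
      (fun y => y.2 m (Set.mem_univ _))
  have hH : Function.Surjective H := by
    intro z
    have hz : ∀ m : S, ∃ x : B, x * d m.1 = (z m : B) := by
      intro m
      have := (z m).2
      rw [Submodule.mem_span_singleton] at this
      obtain ⟨x, hx⟩ := this
      exact ⟨x, hx⟩
    choose x hx using hz
    have key : ∀ m : S, G (fun i => ∑ m' : S, c i m'.1 * x m') m = z m := by
      intro m
      rw [hG]
      simp_rw [Finset.mul_sum]
      rw [Finset.sum_comm]
      rw [Finset.sum_eq_single m]
      · rw [← hx m]
        simp only [d]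
        rw [Finset.mul_sum]
        refine Finset.sum_congr rfl fun i _ => ?_
        ring
      · intro m' _ hne
        have h0 := hoff m.1 m'.1 (fun h => hne (Subtype.ext h.symm))
        have : ∑ i, b i m.1 * (c i m'.1 * x m') = (∑ i, b i m.1 * c i m'.1) * x m' := by
          rw [Finset.sum_mul]
          refine Finset.sum_congr rfl fun i _ => ?_
          ring
        rw [this, h0, zero_mul]
      · intro h
        exact absurd (Finset.mem_univ _) h
    refine ⟨⟨fun i => ∑ m' : S, c i m'.1 * x m', ?_⟩, ?_⟩
    · intro m _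
      rw [key m]
      exact (z m).2
    · funext m
      apply Subtype.ext
      exact key m
  have h1 : Module.length B ((m : S) → Submodule.span B {d m.1}) ≤ Module.length B (ι → B) :=
    (Module.length_le_of_surjective H hH).trans (Module.length_le_of_injective P.subtype P.injective_subtype)
  rw [hlen, Module.length_pi_of_fintype] at h1
  have h2 : ((Fintype.card ι * ℓ + 1 : ℕ) : ℕ∞) ≤ ∑ m : S, Module.length B (Submodule.span B {d m.1}) := by
    calc ((Fintype.card ι * ℓ + 1 : ℕ) : ℕ∞) = ∑ m : S, (1 : ℕ∞) := by
          simp [hcard]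
      _ ≤ _ := by
          refine Finset.sum_le_sum fun m _ => ?_
          have : Nontrivial (Submodule.span B {d m.1}) := by
            rw [Submodule.nontrivial_iff_ne_bot]
            intro h
            rw [Submodule.span_singleton_eq_bot] at h
            exact hS m.2 h
          exact Order.one_le_iff_pos.mpr Module.length_pos
  have h3 := h2.trans h1
  rw [Nat.cast_le] at h3
  omega

/-- Case of a Noetherian ring and the non-membership in a primary ideal. -/
theorem primary_case {A : Type u} [CommRing A] [IsNoetherianRing A] {M : Type u}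
    {ι : Type u} [Fintype ι] (b c : ι → M → A)
    (hoff : ∀ m m', m ≠ m' → ∑ i, b i m * c i m' = 0) (q : Ideal A) (hq : q.IsPrimary) :
    Set.Finite {m : M | ∑ i, b i m * c i m ∉ q} := by
  classical
  have hp : q.radical.IsPrime := Ideal.isPrime_radical hq
  let p := q.radical
  have : p.IsPrime := hp
  let L := Localization.AtPrime p
  let B := L ⧸ (q.map (algebraMap A L))
  have hmem : ∀ x : A, (Ideal.Quotient.mk (q.map (algebraMap A L)) (algebraMap A L x) = 0) → x ∈ q := by
    intro x hx
    rw [Ideal.Quotient.eq_zero_iff_mem] at hx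
    rw [IsLocalization.algebraMap_mem_map_algebraMap_iff p.primeCompl] at hx
    obtain ⟨s, hs, hsx⟩ := hx
    have := (Ideal.isPrimary_iff.mp hq).2 (x := x) (y := s) (by rwa [mul_comm])
    rcases this with h | h
    · exact h
    · exact absurd h hs
  have hne : q.map (algebraMap A L) ≠ ⊤ := by
    intro h
    have : (1 : A) ∈ q := hmem 1 (by rw [Ideal.Quotient.eq_zero_iff_mem, h]; trivial)
    exact (Ideal.isPrimary_iff.mp hq).1 ((Ideal.eq_top_iff_one q).mpr this)
  have : Nontrivial B := Ideal.Quotient.nontrivial_iff.mpr hne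
  have : IsLocalRing B := IsLocalRing.of_surjective' (Ideal.Quotient.mk _) Ideal.Quotient.mk_surjective
  have : IsNoetherianRing L := IsLocalization.isNoetherianRing p.primeCompl L inferInstance
  have : IsNoetherianRing B := inferInstance
  have : IsArtinianRing B := by
    rw [isArtinianRing_iff_isNilpotent_maximalIdeal]
    have h1 : ∃ n, p ^ n ≤ q := by
      exact Ideal.exists_radical_pow_le_of_fg q (IsNoetherian.noetherian _)
    obtain ⟨n, hn⟩ := h1
    refine ⟨n, ?_⟩
    have h2 : IsLocalRing.maximalIdeal B = Ideal.map ((Ideal.Quotient.mk (q.map (algebraMap A L))).comp (algebraMap A L)) p := by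
      rw [← Ideal.map_map, Localization.AtPrime.map_eq_maximalIdeal]
      have hsurj : Function.Surjective (Ideal.Quotient.mk (q.map (algebraMap A L))) := Ideal.Quotient.mk_surjective
      have hloc : IsLocalHom (Ideal.Quotient.mk (q.map (algebraMap A L))) := hsurj.isLocalHom _
      apply le_antisymm
      · intro x hx
        obtain ⟨y, rfl⟩ := hsurj x
        apply Ideal.mem_map_of_mem
        rw [IsLocalRing.mem_maximalIdeal, mem_nonunits_iff] at hx ⊢
        exact fun h => hx (h.map _)
      · rw [Ideal.map_le_iff_le_comap]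
        intro x hx
        rw [Ideal.mem_comap, IsLocalRing.mem_maximalIdeal, mem_nonunits_iff]
        rw [IsLocalRing.mem_maximalIdeal, mem_nonunits_iff] at hx
        exact fun h => hx (isUnit_of_map_unit _ _ h)
    rw [h2, ← Ideal.map_pow, Ideal.zero_eq_bot, eq_bot_iff, Ideal.map_le_iff_le_comap]
    refine hn.trans ?_
    intro x hx
    change Ideal.Quotient.mk _ _ = 0
    rw [Ideal.Quotient.eq_zero_iff_mem]
    exact Ideal.mem_map_of_mem _ hx
  let f : A →+* B := (Ideal.Quotient.mk (q.map (algebraMap A L))).comp (algebraMap A L)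
  have := artinian_case (B := B) (M := M) (ι := ι) (fun i m => f (b i m)) (fun i m => f (c i m)) (by
    intro m m' h
    rw [← map_zero f, ← hoff m m' h]
    simp [map_sum, map_mul])
  refine this.subset ?_
  intro m hm h
  apply hm
  apply hmem
  change f _ = 0
  rw [map_sum, ← h]
  simp [map_mul]

/-- SGA 3 IX 7.2. Let A be a Noetherian ring, M a set and a : M × M → A a family vanishing off the diagonal which is a finite sum of decomposable families: a (m, m') = Σ_i b_i(m) c_i(m') for finitely many b_i, c_i : M → A. Then a has finite support. -/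
theorem result (A : Type u) [CommRing A] [IsNoetherianRing A] (M : Type u)
    (a : M × M → A) (hdiag : ∀ m m', m ≠ m' → a (m, m') = 0)
    (ι : Type u) [Fintype ι] (b c : ι → M → A) (hdec : ∀ m m', a (m, m') = ∑ i, b i m * c i m') :
    Set.Finite {p : M × M | a p ≠ 0} := by
  classical
  obtain ⟨s, hs, hprim⟩ := Submodule.isLasker A A (⊥ : Ideal A)
  have hoff : ∀ m m', m ≠ m' → ∑ i, b i m * c i m' = 0 := fun m m' h => by
    rw [← hdec, hdiag m m' h]
  have hfin : Set.Finite (⋃ q ∈ (s : Set (Ideal A)), {m : M | ∑ i, b i m * c i m ∉ q}) :=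
    Set.Finite.biUnion s.finite_toSet fun q hq => primary_case b c hoff q (hprim hq)
  refine (hfin.image (fun m => (m, m))).subset ?_
  rintro ⟨m, m'⟩ hm
  have hmm : m = m' := by
    by_contra h
    exact hm (hdiag m m' h)
  subst hmm
  refine ⟨m, ?_, rfl⟩
  by_contra hcon
  apply hm
  rw [hdec]
  have : ∑ i, b i m * c i m ∈ (⊥ : Ideal A) := by
    rw [← hs]
    rw [Submodule.mem_finsetInf]
    intro q hq
    by_contra hnot
    apply hcon
    simp only [Set.mem_iUnion]
    exact ⟨q, hq, hnot⟩
  simpa using this

end Groth.Agent.S2978
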