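import Groth.Statements.S2979
import Groth.Agent.Sga3A.LiftNil

set_option autoImplicit false
universe u
open TensorProduct SGA3b
open SGA3b

namespace Groth.Agent.S2979

/-- SGA 3 X 2.1, second assertion (essential surjectivity). Let R be a ring and I an ideal consisting of nilpotent elements. Every quasi-isotrivial (R/I)-group of multiplicative type Spec A₀ is the base change of some quasi-isotrivial R-group of multiplicative type Spec A. (Affine group schemes over an affine base are taken in Hopf-algebra form; base change is the tensor product.) -/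
theorem result (R : Type u) [CommRing R] (I : Ideal R) (hI : ∀ x ∈ I, IsNilpotent x)
    (A₀ : Type u) [CommRing A₀] [HopfAlgebra (R ⧸ I) A₀] (h0 : IsQuasiIsotrivial (R ⧸ I) A₀) :
    ∃ (A : Type u) (_ : CommRing A) (_ : HopfAlgebra R A), IsQuasiIsotrivial R A ∧ Nonempty (((R ⧸ I) ⊗[R] A) ≃ₐc[R ⧸ I] A₀) := by
  classical
  have hs : Function.Surjective (algebraMap R (R ⧸ I)) := Ideal.Quotient.mk_surjective
  have hn : ∀ x : R, algebraMap R (R ⧸ I) x = 0 → IsNilpotent x := fun x hx =>
    hI x (Ideal.Quotient.eq_zero_iff_mem.mp hx)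
  obtain ⟨s, hs1, H⟩ := h0
  obtain ⟨t, hts, ht⟩ := (Ideal.span_eq_top_iff_finite s).mp hs1
  choose r hr B iB iAB M iM hE hG hF using fun f : t =>
    Groth.Agent.Sga3A.LiftNil.exists_local_data hn hs (A₀ := A₀) f.1 (H f.1 (hts f.2))
  have hspan : Ideal.span (Set.range r) = ⊤ := by
    apply Groth.Agent.Sga3A.NilDescent.ideal_eq_top_of_nil hn hs
    rw [Ideal.map_span, ← Set.range_comp, eq_top_iff, ← ht, Ideal.span_le]
    intro f hf
    exact Ideal.subset_span ⟨⟨f, hf⟩, hr ⟨f, hf⟩⟩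
  have hflat : ∀ i, Module.Flat R (B i) := fun i => inferInstance
  have hff : Module.FaithfullyFlat R (∀ i, B i) :=
    Groth.Agent.Sga3A.LiftNil.faithfullyFlat_pi_of_away r hspan B
  obtain ⟨A, iA, iH, h1, h2⟩ := Groth.Agent.Sga3A.LiftMain.exists_lift (R := R) (R₀ := R ⧸ I) (A₀ := A₀)
    (S := B) (M := M) (fun i => (hG i).some)
    (fun i => Groth.Agent.Sga3A.LiftNil.idemLift_of_nil hn hs _)
    (fun i j => Groth.Agent.Sga3A.LiftNil.idemLift_of_nil hn hs _)
    (fun i j k => Groth.Agent.Sga3A.LiftNil.idemLift_of_nil hn hs _)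
  refine ⟨A, iA, iH, ⟨Set.range r, hspan, ?_⟩, h2⟩
  rintro _ ⟨i, rfl⟩
  refine ⟨Localization.Away (r i) ⊗[R] B i, inferInstance, inferInstance, inferInstance, hF i, ?_⟩
  obtain ⟨e⟩ := h1 i
  have h3 : IsDiag (B i) (B i ⊗[R] A) := ⟨M i, iM i, ⟨e⟩⟩
  have h4 := Groth.Agent.Sga3A.NilDescent.isDiag_of_algHom
    (Algebra.TensorProduct.includeRight : B i →ₐ[R] Localization.Away (r i) ⊗[R] B i) h3
  exact Groth.Agent.Sga3A.MultBC.isDiag_tower' h4

end Groth.Agent.S2979
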