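import Groth.Statements.S2980
import Groth.Agent.Sga3A.LiftHens

set_option autoImplicit false
universe u
open TensorProduct SGA3b
open SGA3b

namespace Groth.Agent.S2980

/-- SGA 3 X 3.2 (i), essential surjectivity. Let R be a Noetherian ring, separated and complete for the I-adic topology. Every isotrivial (R/I)-group of multiplicative type Spec A₀ is the base change of some isotrivial R-group of multiplicative type Spec A. (Affine group schemes over an affine base are taken in Hopf-algebra form; base change is the tensor product.) -/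
theorem result (R : Type u) [CommRing R] [IsNoetherianRing R] (I : Ideal R) [IsAdicComplete I R]
    (A₀ : Type u) [CommRing A₀] [HopfAlgebra (R ⧸ I) A₀] (h0 : IsIsotrivial (R ⧸ I) A₀) :
    ∃ (A : Type u) (_ : CommRing A) (_ : HopfAlgebra R A), IsIsotrivial R A ∧ Nonempty (((R ⧸ I) ⊗[R] A) ≃ₐc[R ⧸ I] A₀) := by
  classical
  obtain ⟨R', iR', iA', hE, hfin, hF, M, iM, ⟨e⟩⟩ := h0
  obtain ⟨B, iB, iAB, hBf, hBe, ⟨φ⟩⟩ := Groth.Agent.S0532.result R I R'
  have hflat : Module.Flat R B := inferInstance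
  have hff : Module.FaithfullyFlat R B := by
    refine Groth.Agent.Sga3A.LiftHens.faithfullyFlat_of_le_jacobson I HenselianRing.jac B (R' := R')
      (((φ : (R ⧸ I) ⊗[R] B →ₐ[R ⧸ I] R').toRingHom).comp
        (Algebra.TensorProduct.includeRight : B →ₐ[R] (R ⧸ I) ⊗[R] B).toRingHom) (fun p => ?_)
    change φ ((1 : R ⧸ I) ⊗ₜ[R] algebraMap R B p) = _
    rw [Algebra.algebraMap_eq_smul_one, ← TensorProduct.smul_tmul, ← Algebra.algebraMap_eq_smul_one]
    exact φ.commutes (Ideal.Quotient.mk I p)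
  have hffpi : Module.FaithfullyFlat R (∀ _ : PUnit.{1}, B) :=
    Module.FaithfullyFlat.of_linearEquiv _ B (LinearEquiv.funUnique PUnit.{1} R B)
  have g1 : Groth.Agent.Sga3A.MTBasis.GBasis R' (R' ⊗[R ⧸ I] A₀) M :=
      (Groth.Agent.Sga3A.MTBasis.GBasis.ofBialgEquiv e)
  obtain ⟨A, iA, iH, h1, h2⟩ := Groth.Agent.Sga3A.LiftMain.exists_lift (R := R) (R₀ := R ⧸ I) (A₀ := A₀)
    (S := fun _ : PUnit.{1} => B) (M := fun _ => M) (fun i => g1.bc (φ.symm : R' →ₐ[R ⧸ I] (R ⧸ I) ⊗[R] B))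
    (fun i => Groth.Agent.Sga3A.LiftHens.idemLift_of_henselian R I _)
    (fun i j => Groth.Agent.Sga3A.LiftHens.idemLift_of_henselian R I _)
    (fun i j k => Groth.Agent.Sga3A.LiftHens.idemLift_of_henselian R I _)
  exact ⟨A, iA, iH, ⟨B, iB, iAB, hBe, hBf, hff, M, iM, h1 ⟨⟩⟩, h2⟩

end Groth.Agent.S2980
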