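import Groth.Statements.S2981
import Groth.Agent.Sga3A.TorsionDense

set_option autoImplicit false
universe u
open TensorProduct SGA3b
open SGA3b

namespace Groth.Agent.S2981

/-- SGA 3 IX 4.7 (affine form). Let G = Spec A be an R-group of multiplicative type and of finite type. Then the kernels ₙG of the n-th power maps, n > 0, form a schematically dense family: over every basic open D(a) of G, the intersection of the (extended) ideals of the ₙG is zero. (Affine group schemes over an affine base are taken in Hopf-algebra form; base change is the tensor product.) -/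
theorem result (R : Type u) [CommRing R] (A : Type u) [CommRing A] [HopfAlgebra R A] (hft : Algebra.FiniteType R A) (h : IsMultType R A) :
    ∀ a : A, ⨅ n : {n : ℕ // 0 < n}, Ideal.map (algebraMap A (Localization.Away a)) (torsionIdeal R A n.1) = ⊥ := by
  intro a
  rw [eq_bot_iff]
  intro x hx
  rw [Ideal.mem_iInf] at hx
  obtain ⟨⟨y, ⟨_, k, rfl⟩⟩, hy⟩ := IsLocalization.surj (Submonoid.powers a) x
  have hu : IsUnit (algebraMap A (Localization.Away a) (a ^ k)) := by
    rw [map_pow]
    exact (IsLocalization.Away.algebraMap_isUnit a).pow k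
  have hD : ∀ n : ℕ, 0 < n → ∃ N : ℕ, a ^ N * y ∈ torsionIdeal R A n := by
    intro n hn
    have h1 := hx ⟨n, hn⟩
    have h2 : algebraMap A (Localization.Away a) y ∈
        Ideal.map (algebraMap A (Localization.Away a)) (torsionIdeal R A n) := by
      rw [← hy]
      exact Ideal.mul_mem_right _ _ h1
    rw [IsLocalization.mem_map_algebraMap_iff (Submonoid.powers a)] at h2
    obtain ⟨⟨i, ⟨_, j, rfl⟩⟩, hij⟩ := h2
    rw [← map_mul, IsLocalization.eq_iff_exists (Submonoid.powers a)] at hij
    obtain ⟨⟨_, l, rfl⟩, hl⟩ := hij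
    refine ⟨l + j, ?_⟩
    have h3 : a ^ (l + j) * y = a ^ l * i := by
      rw [← hl]
      change a ^ (l + j) * y = a ^ l * (y * a ^ j)
      ring
    rw [h3]
    exact Ideal.mul_mem_left _ _ i.2
  obtain ⟨N, hN⟩ := Groth.Agent.Sga3A.TorsionDense.dense_of_isMultType hft h a y hD
  have h4 : algebraMap A (Localization.Away a) y = 0 := by
    rw [IsLocalization.map_eq_zero_iff (Submonoid.powers a)]
    exact ⟨⟨_, N, rfl⟩, hN⟩
  rw [h4] at hy
  have h5 : x = 0 := by
    rcases hu with ⟨u, hu⟩
    rw [← hu] at hy
    exact (Units.mul_left_eq_zero u).mp hy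
  rw [h5]
  exact Submodule.zero_mem _

end Groth.Agent.S2981
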