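import Groth.Statements.S2983
import Groth.Agent.Sga3A.GLIndep
import Mathlib.RingTheory.HopfAlgebra.GroupLike
-- import your own Groth.Agent.* helpers here

set_option autoImplicit false
universe u
open TensorProduct SGA3b
open SGA3b

namespace Groth.Agent.S2983

open Groth.Agent.Sga3A

/-- SGA 3 IX 2.11 (i), subgroup part. Let R be a ring with connected spectrum (no idempotents other than 0 and 1), G = Spec A a diagonalisable R-group of finite type, and H = Spec (A/J) a closed subgroup (J a Hopf ideal) which is of multiplicative type. Then H is diagonalisable. (Affine group schemes over an affine base are taken in Hopf-algebra form; base change is the tensor product.) -/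
theorem result (R : Type u) [CommRing R] (A : Type u) [CommRing A] [HopfAlgebra R A] [Nontrivial R] (hconn : ∀ e : R, IsIdempotentElem e → e = 0 ∨ e = 1)
    (hG : IsDiagFT R A) (J : Ideal A) [J.IsHopfIdeal R] (hH : IsMultType R (A ⧸ J)) : IsDiag R (A ⧸ J) := by
  obtain ⟨M, _, -, ⟨e⟩⟩ := hG
  let q : A →ₐc[R] A ⧸ J := Bialgebra.Quotient.mkBialgHom J
  let g : M →* GroupLike R (A ⧸ J) :=
    { toFun := fun m => ⟨q (e.symm (MonoidAlgebra.single m 1)),
        ((MonoidAlgebra.isGroupLikeElem_single_one m).map e.symm).map q⟩
      map_one' := by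
        ext
        change q (e.symm (1 : MonoidAlgebra R M)) = 1
        simp
      map_mul' := fun m n => by
        ext
        change q (e.symm (MonoidAlgebra.single (m * n) 1)) = q _ * q _
        rw [← map_mul, ← map_mul, MonoidAlgebra.single_mul_single, one_mul] }
  let F : MonoidAlgebra R g.range →ₐc[R] A ⧸ J :=
    MonoidAlgebra.liftGroupLikeBialgHom.comp (MonoidAlgebra.mapDomainBialgHom R g.range.subtype)
  have hF : ∀ x : g.range, F (MonoidAlgebra.single x 1) = x.1.1 := by
    intro x
    simp [F]
  have hsurj : Function.Surjective F := by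
    have h1 : ∀ y : MonoidAlgebra R M, ∃ z, F z = q (e.symm y) := by
      intro y
      induction y using MonoidAlgebra.induction_linear with
      | zero => exact ⟨0, by simp⟩
      | add x y hx hy =>
        obtain ⟨a, ha⟩ := hx
        obtain ⟨b, hb⟩ := hy
        exact ⟨a + b, by rw [map_add, ha, hb, map_add, map_add]⟩
      | single m r =>
        refine ⟨r • MonoidAlgebra.single (g.rangeRestrict m) 1, ?_⟩
        rw [map_smul, hF]
        have h2 : (MonoidAlgebra.single m r : MonoidAlgebra R M) = r • MonoidAlgebra.single m 1 := by simp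
        rw [h2, map_smul, map_smul]
        rfl
    intro x
    obtain ⟨a, rfl⟩ := Ideal.Quotient.mk_surjective x
    obtain ⟨z, hz⟩ := h1 (e a)
    refine ⟨z, ?_⟩
    rw [hz]
    change Ideal.Quotient.mk J (e.symm (e a)) = _
    rw [BialgEquiv.symm_apply_apply]
  have hlin : LinearIndependent R (fun x : g.range => (x.1.1 : A ⧸ J)) := by
    refine GLIndep.linearIndependent_of_torsionOf hH _ (fun x => x.1.2) fun x y hxy => ?_
    obtain ⟨i, hi, h⟩ := GLIndep.exists_idempotent_torsionOf_sub hH x.1.2 y.1.2
    rcases hconn i hi with rfl | rfl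
    · rw [h]; simp
    · exfalso
      have h1 : (1 : R) ∈ Ideal.torsionOf R (A ⧸ J) (x.1.1 - y.1.1) := by rw [h]; simp
      rw [Ideal.mem_torsionOf_iff, one_smul, sub_eq_zero] at h1
      exact hxy (Subtype.ext (GroupLike.val_injective h1))
  have hinj : Function.Injective F := by
    rw [injective_iff_map_eq_zero]
    intro z hz
    have h1 : Finsupp.linearCombination R (fun x : g.range => (x.1.1 : A ⧸ J)) z.coeff = 0 := by
      rw [← hz]
      clear hz
      induction z using MonoidAlgebra.induction_linear with
      | zero => simp
      | add x y hx hy => rw [MonoidAlgebra.coeff_add, map_add, hx, hy, map_add]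
      | single m r =>
        have h2 : (MonoidAlgebra.single m r : MonoidAlgebra R g.range) = r • MonoidAlgebra.single m 1 := by simp
        rw [h2, map_smul, hF]
        simp
    have h2 := (linearIndependent_iff.mp hlin) _ h1
    exact MonoidAlgebra.coeff_injective (by simpa using h2)
  exact ⟨g.range, inferInstance, ⟨(BialgEquiv.ofBijective F ⟨hinj, hsurj⟩).symm⟩⟩

end Groth.Agent.S2983
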