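import Groth.Statements.S2984
import Groth.Agent.Sga3A.PowConv
import Mathlib.GroupTheory.FiniteAbelian.Basic
import Mathlib.RingTheory.LocalProperties.Submodule
import Mathlib.RingTheory.Localization.Finiteness
import Mathlib.RingTheory.Localization.BaseChange
-- import your own Groth.Agent.* helpers here

set_option autoImplicit false
universe u
open TensorProduct SGA3b
open SGA3b

namespace Groth.Agent.S2984

open Groth.Agent.Sga3A.PowConv

/-- SGA 3 IX 2.1 c) (second equivalence, affine base). Let G = Spec A be an R-group of multiplicative type and of finite type. Then A is finite over R if and only if the n-th power map of G is trivial for some n > 0 (the kernel ₙG is all of G). (Affine group schemes over an affine base are taken in Hopf-algebra form; base change is the tensor product.) -/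
theorem result (R : Type u) [CommRing R] (A : Type u) [CommRing A] [HopfAlgebra R A] (hft : Algebra.FiniteType R A) (h : IsMultType R A) :
    Module.Finite R A ↔ ∃ n : ℕ, 0 < n ∧ torsionIdeal R A n = ⊥ := by
  obtain ⟨s, hs, hmt⟩ := h
  constructor
  · intro hfin
    obtain ⟨t, hts, ht⟩ := (Ideal.span_eq_top_iff_finite s).mp hs
    have key : ∀ f : t, ∃ n : ℕ, 0 < n ∧ ∀ x : Localization.Away f.1 ⊗[R] A,
        powConv (Localization.Away f.1) (Localization.Away f.1 ⊗[R] A) n x =
          algebraMap _ _ (Coalgebra.counit (R := Localization.Away f.1) x) := by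
      intro f
      obtain ⟨R', _, _, hff, M, _, ⟨e⟩⟩ := hmt f (hts f.2)
      rcases subsingleton_or_nontrivial R' with hsub | hnt
      · refine ⟨1, one_pos, fun x => ?_⟩
        have : Subsingleton (Localization.Away f.1) :=
          (FaithfulSMul.algebraMap_injective (Localization.Away f.1) R').subsingleton
        exact powConv_trivial_of_subsingleton _ _ _ _
      · have hfinM : Module.Finite R' (MonoidAlgebra R' M) :=
          Module.Finite.equiv e.toCoalgEquiv.toLinearEquiv
        have hMfin : Finite M :=
          Module.Finite.finite_basis (MonoidAlgebra.basis M R')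
        refine ⟨Nat.card M, Nat.card_pos, fun x => ?_⟩
        have h1 : ∀ a : MonoidAlgebra R' M, powConv R' (MonoidAlgebra R' M) (Nat.card M) a =
            algebraMap R' _ (Coalgebra.counit a) :=
          (powConv_trivial_monoidAlgebra R' _).mpr fun m => pow_card_eq_one'
        have h2 := powConv_trivial_of_equiv R' _ e.symm _ h1
        have h3 := powConv_trivial_of_baseChange (Localization.Away f.1) (Localization.Away f.1 ⊗[R] A) R' _ h2 x
        rw [← sub_eq_zero]
        have : Function.Injective (TensorProduct.mk (Localization.Away f.1) R' (Localization.Away f.1 ⊗[R] A) 1) :=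
          Module.FaithfullyFlat.tensorProduct_mk_injective _
        exact this (by simpa using h3)
    choose n hn0 hn using key
    refine ⟨∏ f, n f, Finset.prod_pos fun f _ => hn0 f, ?_⟩
    rw [torsionIdeal_eq_bot_iff]
    intro a
    rw [← sub_eq_zero]
    refine Module.eq_zero_of_isLocalized_span (t : Set R) ht (fun f : (t : Set R) => Localization.Away f.1 ⊗[R] A)
      (fun f => TensorProduct.mk R (Localization.Away f.1) A 1) _ fun f => ?_
    have h4 : ∀ x : Localization.Away f.1 ⊗[R] A,
        powConv (Localization.Away f.1) (Localization.Away f.1 ⊗[R] A) (∏ f, n f) x =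
          algebraMap _ _ (Coalgebra.counit (R := Localization.Away f.1) x) := by
      obtain ⟨k, hk⟩ : n f ∣ ∏ f, n f := Finset.dvd_prod_of_mem _ (Finset.mem_univ _)
      rw [hk]
      exact powConv_trivial_mul _ _ _ _ (hn f)
    exact powConv_trivial_of_baseChange R A (Localization.Away f.1) _ h4 a
  · rintro ⟨n, hn, hn'⟩
    rw [torsionIdeal_eq_bot_iff] at hn'
    refine Module.Finite.of_localizationSpan' (Rₚ := fun f : s => Localization.Away f.1) s hs
      (fun f => TensorProduct.mk R (Localization.Away f.1) A 1) fun f => ?_
    obtain ⟨R', _, _, hff, M, _, ⟨e⟩⟩ := hmt f f.2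
    rcases subsingleton_or_nontrivial R' with hsub | hnt
    · have : Subsingleton (Localization.Away f.1) :=
          (FaithfulSMul.algebraMap_injective (Localization.Away f.1) R').subsingleton
      have := Module.subsingleton (Localization.Away f.1) (Localization.Away f.1 ⊗[R] A)
      infer_instance
    · have h1 := powConv_trivial_baseChange R A (Localization.Away f.1) n hn'
      have h2 := powConv_trivial_baseChange _ _ R' n h1
      have h3 := powConv_trivial_of_equiv _ _ e n h2
      rw [powConv_trivial_monoidAlgebra] at h3
      have hft1 : Algebra.FiniteType R' (R' ⊗[Localization.Away f.1] (Localization.Away f.1 ⊗[R] A)) :=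
        inferInstance
      have hft2 : Algebra.FiniteType R' (MonoidAlgebra R' M) :=
        Algebra.FiniteType.equiv hft1 (e : _ ≃ₐ[R'] _)
      have hfg : Group.FG M := MonoidAlgebra.finiteType_iff_group_fg.mp hft2
      have hMfin : Finite M := CommGroup.finite_of_fg_isMulTorsion (G := M)
        (fun m => isOfFinOrder_iff_pow_eq_one.mpr ⟨n, hn, h3 m⟩)
      have : Module.Finite R' (MonoidAlgebra R' M) :=
        Module.Finite.of_basis (MonoidAlgebra.basis M R')
      have : Module.Finite R' (R' ⊗[Localization.Away f.1] (Localization.Away f.1 ⊗[R] A)) :=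
        Module.Finite.equiv e.symm.toCoalgEquiv.toLinearEquiv
      exact Module.Finite.of_finite_tensorProduct_of_faithfullyFlat R'

end Groth.Agent.S2984
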