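import Groth.Statements.S2985
import Groth.Agent.Sga3A.Rigidity
-- import your own Groth.Agent.* helpers here

set_option autoImplicit false
universe u
open TensorProduct SGA3b
open SGA3b

namespace Groth.Agent.S2985

section Aux

open Groth.Agent.Sga3A.MultBC Groth.Agent.Sga3A.Rigidity Coalgebra Bialgebra

theorem main (R : Type u) [CommRing R] (A : Type u) [CommRing A] [HopfAlgebra R A] [IsLocalRing R] (hft : Algebra.FiniteType R A) (h : IsMultType R A)
    (C : Type u) [CommRing C] [HopfAlgebra R C] [Coalgebra.IsCocomm R C] (hC : Algebra.FinitePresentation R C)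
    (φ ψ : C →ₐc[R] A) (hs : ∀ c : C, φ c - ψ c ∈ Ideal.map (algebraMap R A) (IsLocalRing.maximalIdeal R)) :
    φ = ψ := by
  classical
  obtain ⟨R', _, _, _, hloc, hff, M, _, ⟨e⟩⟩ :=
    IsMultTypeConst.exists_local (IsMultType.const_of_isLocalRing h)
  let φ' : R' ⊗[R] C →ₐc[R'] MonoidAlgebra R' M :=
    (e : R' ⊗[R] A →ₐc[R'] MonoidAlgebra R' M).comp
      (Bialgebra.TensorProduct.map (BialgHom.id R' R') φ)
  let ψ' : R' ⊗[R] C →ₐc[R'] MonoidAlgebra R' M :=
    (e : R' ⊗[R] A →ₐc[R'] MonoidAlgebra R' M).comp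
      (Bialgebra.TensorProduct.map (BialgHom.id R' R') ψ)
  have hφ' : ∀ r c, φ' (r ⊗ₜ c) = e (r ⊗ₜ φ c) := fun r c => rfl
  have hψ' : ∀ r c, ψ' (r ⊗ₜ c) = e (r ⊗ₜ ψ c) := fun r c => rfl
  let 𝔪' := IsLocalRing.maximalIdeal R'
  let K : Ideal (MonoidAlgebra R' M) :=
    RingHom.ker (MonoidAlgebra.mapRingHom M (Ideal.Quotient.mk 𝔪'))
  have hK : ∀ x : MonoidAlgebra R' M, x ∈ K → ∀ m, x.coeff m ∈ 𝔪' := by
    intro x hx m
    have := congr(($hx).coeff m)
    simpa [Ideal.Quotient.eq_zero_iff_mem] using this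
  have hA : Ideal.map (algebraMap R A) (IsLocalRing.maximalIdeal R) ≤
      K.comap ((e : R' ⊗[R] A →+* MonoidAlgebra R' M).comp
        (Algebra.TensorProduct.includeRight : A →ₐ[R] R' ⊗[R] A).toRingHom) := by
    rw [Ideal.map_le_iff_le_comap]
    intro r hr
    have h1 : ((e : R' ⊗[R] A →+* MonoidAlgebra R' M).comp
        (Algebra.TensorProduct.includeRight : A →ₐ[R] R' ⊗[R] A).toRingHom) (algebraMap R A r) =
        MonoidAlgebra.single 1 (algebraMap R R' r) := by
      have h2 : (Algebra.TensorProduct.includeRight : A →ₐ[R] R' ⊗[R] A) (algebraMap R A r) =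
          algebraMap R' (R' ⊗[R] A) (algebraMap R R' r) := by
        rw [AlgHom.commutes, ← IsScalarTower.algebraMap_apply]
      change e ((Algebra.TensorProduct.includeRight : A →ₐ[R] R' ⊗[R] A) (algebraMap R A r)) = _
      rw [h2]
      exact AlgHomClass.commutes e _
    show ((e : R' ⊗[R] A →+* MonoidAlgebra R' M).comp
        (Algebra.TensorProduct.includeRight : A →ₐ[R] R' ⊗[R] A).toRingHom) (algebraMap R A r) ∈ K
    rw [h1]
    simp only [K, RingHom.mem_ker, MonoidAlgebra.mapRingHom_single]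
    have h3 : (Ideal.Quotient.mk 𝔪') (algebraMap R R' r) = 0 := by
      rw [Ideal.Quotient.eq_zero_iff_mem]
      have h5 : Ideal.map (algebraMap R R') (IsLocalRing.maximalIdeal R) ≤ 𝔪' :=
        ((IsLocalRing.local_hom_TFAE (algebraMap R R')).out 0 2).mp hloc
      exact h5 (Ideal.mem_map_of_mem _ hr)
    rw [h3, MonoidAlgebra.single_zero]
  have hdiff : ∀ c : R' ⊗[R] C, φ' c - ψ' c ∈ K := by
    intro c
    induction c with
    | zero => simp
    | add x y hx hy =>
      have : φ' (x + y) - ψ' (x + y) = (φ' x - ψ' x) + (φ' y - ψ' y) := by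
        rw [map_add, map_add]; ring
      rw [this]
      exact K.add_mem hx hy
    | tmul r c =>
      rw [hφ', hψ', ← map_sub, ← TensorProduct.tmul_sub]
      have h1 : r ⊗ₜ[R] (φ c - ψ c) = r • (1 ⊗ₜ[R] (φ c - ψ c) : R' ⊗[R] A) := by
        rw [TensorProduct.smul_tmul', smul_eq_mul, mul_one]
      rw [h1, map_smul, Algebra.smul_def]
      exact K.mul_mem_left _ (hA (hs c))
  have hfg : (RingHom.ker (counitAlgHom R' (R' ⊗[R] C))).FG :=
    Algebra.FinitePresentation.ker_fG_of_surjective (counitAlgHom R' (R' ⊗[R] C))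
      (fun r => ⟨algebraMap R' _ r, by simp⟩)
  have hmain : φ' = ψ' := by
    apply eq_of_diff
    apply core hfg
    intro c hc
    exact hK _ (diff_mem φ' ψ' K hdiff c hc)
  apply BialgHom.ext
  intro c
  apply Module.FaithfullyFlat.tensorProduct_mk_injective (A := R) (B := R') A
  have h4 : e (1 ⊗ₜ φ c) = e (1 ⊗ₜ ψ c) := by
    rw [← hφ', ← hψ', hmain]
  exact EquivLike.injective e h4

end Aux

/-- SGA 3 IX 5.1 (case of a commutative target, over a local base). Let R be a local ring, H = Spec A an R-group of multiplicative type and of finite type, G = Spec C a commutative affine R-group (C cocommutative) with C of finite presentation over R, and u, v : H ⟶ G homomorphisms (bialgebra maps φ, ψ : C → A) which agree on the closed fibre: φ c − ψ c lies in 𝔪A for every c. Then u = v. (Affine group schemes over an affine base are taken in Hopf-algebra form; base change is the tensor product.) -/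
theorem result (R : Type u) [CommRing R] (A : Type u) [CommRing A] [HopfAlgebra R A] [IsLocalRing R] (hft : Algebra.FiniteType R A) (h : IsMultType R A)
    (C : Type u) [CommRing C] [HopfAlgebra R C] [Coalgebra.IsCocomm R C] (hC : Algebra.FinitePresentation R C)
    (φ ψ : C →ₐc[R] A) (hs : ∀ c : C, φ c - ψ c ∈ Ideal.map (algebraMap R A) (IsLocalRing.maximalIdeal R)) :
    φ = ψ :=
  main R A hft h C hC φ ψ hs

end Groth.Agent.S2985
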