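import Groth.Statements.S2986
-- import your own Groth.Agent.* helpers here
import Groth.Agent.Sga3A.SmoothNZD
import Groth.Agent.Sga3A.SmoothSection
import Mathlib.RingTheory.Spectrum.Prime.Homeomorph

set_option autoImplicit false
universe u
open TensorProduct
open SGA3b

namespace Groth.Agent.S2986

open Groth.Agent.Sga3A

/-- In `R ⊗ B₁`, with a section `e₁` of `B₁`, every element is congruent to its value along the section. -/
theorem sub_mem_map {A R : Type u} [CommRing A] [CommRing R] [Algebra A R] {B₁ : Type u} [CommRing B₁] [Algebra A B₁]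
    (e₁ : B₁ →ₐ[A] A) (ε : R ⊗[A] B₁ →ₐ[R] R) (hε : ∀ x : B₁, ε (1 ⊗ₜ x) = algebraMap A R (e₁ x)) (z : R ⊗[A] B₁) :
    z - algebraMap R _ (ε z) ∈ (RingHom.ker e₁).map (Algebra.TensorProduct.includeRight : B₁ →ₐ[A] R ⊗[A] B₁) := by
  induction z with
  | zero => simp
  | add x y hx hy =>
    have : x + y - algebraMap R _ (ε (x + y)) = (x - algebraMap R _ (ε x)) + (y - algebraMap R _ (ε y)) := by
      rw [map_add, map_add]; ring
    rw [this]
    exact Ideal.add_mem _ hx hy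
  | tmul r b =>
    have h1 : ε (r ⊗ₜ[A] b) = r * algebraMap A R (e₁ b) := by
      have : r ⊗ₜ[A] b = r • ((1 : R) ⊗ₜ[A] b) := by
        rw [TensorProduct.smul_tmul', smul_eq_mul, mul_one]
      rw [this, map_smul, hε, smul_eq_mul]
    have h2 : r ⊗ₜ[A] b - algebraMap R _ (ε (r ⊗ₜ[A] b)) =
        (r ⊗ₜ[A] (1 : B₁)) * (Algebra.TensorProduct.includeRight : B₁ →ₐ[A] R ⊗[A] B₁) (b - algebraMap A B₁ (e₁ b)) := by
      rw [h1, map_sub, mul_sub]
      congr 1
      · simp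
      · rw [AlgHom.commutes, map_mul, ← IsScalarTower.algebraMap_apply A R]
        rfl
    rw [h2]
    apply Ideal.mul_mem_left
    apply Ideal.mem_map_of_mem
    rw [RingHom.mem_ker, map_sub, AlgHom.commutes]
    simp

/-- Comparison map between the infinitesimal neighbourhoods of the section and of its model. -/
theorem exists_theta {A R R' : Type u} [CommRing A] [CommRing R] [CommRing R'] [Algebra A R] [Algebra R R']
    [Algebra A R'] [IsScalarTower A R R'] {B₁ B : Type u} [CommRing B₁] [Algebra A B₁] [CommRing B] [Algebra R B]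
    (ι : R ⊗[A] B₁ ≃ₐ[R] B) (e : B →ₐ[R] R) (e₁ : B₁ →ₐ[A] A)
    (he : ∀ x : B₁, e (ι (1 ⊗ₜ x)) = algebraMap A R (e₁ x)) (n : ℕ) :
    ∃ Θ : R' ⊗[R] (B ⧸ RingHom.ker e ^ (n + 1)) →ₐ[R'] R' ⊗[A] (B₁ ⧸ RingHom.ker e₁ ^ (n + 1)),
      ∀ x₁ : B₁, Θ (1 ⊗ₜ Ideal.Quotient.mk _ (ι (1 ⊗ₜ x₁))) = 1 ⊗ₜ Ideal.Quotient.mk _ x₁ := by
  let θ₀ : R ⊗[A] B₁ →ₐ[R] R' ⊗[A] (B₁ ⧸ RingHom.ker e₁ ^ (n + 1)) :=
    Algebra.TensorProduct.map (Algebra.ofId R R') (Ideal.Quotient.mkₐ A (RingHom.ker e₁ ^ (n + 1)))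
  let θ₁ : B →ₐ[R] R' ⊗[A] (B₁ ⧸ RingHom.ker e₁ ^ (n + 1)) := θ₀.comp ι.symm.toAlgHom
  let N : Ideal (R' ⊗[A] (B₁ ⧸ RingHom.ker e₁ ^ (n + 1))) :=
    (RingHom.ker e₁).map (θ₀.toRingHom.comp
      (Algebra.TensorProduct.includeRight : B₁ →ₐ[A] R ⊗[A] B₁).toRingHom)
  have hN : N ^ (n + 1) = ⊥ := by
    simp only [N]
    rw [← Ideal.map_pow, eq_bot_iff, Ideal.map_le_iff_le_comap]
    intro x hx
    rw [Ideal.mem_comap, Ideal.mem_bot]
    change θ₀ (1 ⊗ₜ x) = 0
    simp only [θ₀, Algebra.TensorProduct.map_tmul]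
    rw [Ideal.Quotient.mkₐ_eq_mk, Ideal.Quotient.eq_zero_iff_mem.mpr hx, TensorProduct.tmul_zero]
  have hker : RingHom.ker e ≤ N.comap θ₁ := by
    intro b hb
    rw [Ideal.mem_comap]
    have h1 := sub_mem_map e₁ (e.comp ι.toAlgHom) he (ι.symm b)
    have h2 : (e.comp ι.toAlgHom) (ι.symm b) = 0 := by
      change e (ι (ι.symm b)) = 0
      rw [AlgEquiv.apply_symm_apply]
      exact hb
    rw [h2, map_zero, sub_zero] at h1
    have h3 : (RingHom.ker e₁).map (Algebra.TensorProduct.includeRight : B₁ →ₐ[A] R ⊗[A] B₁) ≤ N.comap θ₀ := by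
      rw [Ideal.map_le_iff_le_comap]
      intro x hx
      rw [Ideal.mem_comap, Ideal.mem_comap]
      exact Ideal.mem_map_of_mem (θ₀.toRingHom.comp
        (Algebra.TensorProduct.includeRight : B₁ →ₐ[A] R ⊗[A] B₁).toRingHom) hx
    exact h3 h1
  have hθ₁ : ∀ b ∈ RingHom.ker e ^ (n + 1), θ₁ b = 0 := by
    intro b hb
    rw [← Ideal.mem_bot, ← hN]
    exact ((Ideal.pow_right_mono hker _).trans (Ideal.le_comap_pow _ _)) hb
  let θ₂ : (B ⧸ RingHom.ker e ^ (n + 1)) →ₐ[R] R' ⊗[A] (B₁ ⧸ RingHom.ker e₁ ^ (n + 1)) :=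
    Ideal.Quotient.liftₐ _ θ₁ hθ₁
  refine ⟨Algebra.TensorProduct.lift (Algebra.ofId R' _) θ₂ (fun _ _ => Commute.all _ _), ?_⟩
  intro x₁
  rw [Algebra.TensorProduct.lift_tmul, map_one, one_mul]
  change θ₀ (ι.symm (ι (1 ⊗ₜ x₁))) = _
  rw [AlgEquiv.symm_apply_apply]
  simp [θ₀]

/-- Krull intersection step. -/
theorem krull_step {A : Type u} [CommRing A] [IsNoetherianRing A] {B₁ : Type u} [CommRing B₁] [Algebra A B₁]
    [Algebra.FiniteType A B₁] (e₁ : B₁ →ₐ[A] A) (K : Ideal A) (x : B₁)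
    (hx : ∀ n, (1 : A ⧸ K) ⊗ₜ[A] (Ideal.Quotient.mk (RingHom.ker e₁ ^ (n + 1)) x) = 0) :
    ∃ r ∈ RingHom.ker e₁, (1 - r) * x ∈ K.map (algebraMap A B₁) := by
  have hN : IsNoetherianRing B₁ := Algebra.FiniteType.isNoetherianRing A B₁
  let 𝔟 : Ideal B₁ := K.map (algebraMap A B₁)
  let 𝔪 : Ideal (B₁ ⧸ 𝔟) := (RingHom.ker e₁).map (Ideal.Quotient.mk 𝔟)
  have h1 : ∀ n, x ∈ 𝔟 ⊔ RingHom.ker e₁ ^ (n + 1) := by
    intro n
    let φ₁ : (A ⧸ K) →ₐ[A] B₁ ⧸ (𝔟 ⊔ RingHom.ker e₁ ^ (n + 1)) :=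
      Ideal.Quotient.liftₐ K (Algebra.ofId A _) (by
        intro a ha
        rw [Algebra.ofId_apply, IsScalarTower.algebraMap_apply A B₁]
        exact Ideal.Quotient.eq_zero_iff_mem.mpr (le_sup_left (a := 𝔟) (Ideal.mem_map_of_mem _ ha)))
    let φ₂ : (B₁ ⧸ RingHom.ker e₁ ^ (n + 1)) →ₐ[A] B₁ ⧸ (𝔟 ⊔ RingHom.ker e₁ ^ (n + 1)) :=
      Ideal.Quotient.factorₐ A le_sup_right
    let φ : (A ⧸ K) ⊗[A] (B₁ ⧸ RingHom.ker e₁ ^ (n + 1)) →ₐ[A] B₁ ⧸ (𝔟 ⊔ RingHom.ker e₁ ^ (n + 1)) :=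
      Algebra.TensorProduct.productMap φ₁ φ₂
    have := congrArg φ (hx n)
    rw [map_zero, Algebra.TensorProduct.productMap_apply_tmul, map_one, one_mul] at this
    exact Ideal.Quotient.eq_zero_iff_mem.mp this
  have h2 : (Ideal.Quotient.mk 𝔟 x) ∈ (⨅ i : ℕ, 𝔪 ^ i • ⊤ : Submodule (B₁ ⧸ 𝔟) (B₁ ⧸ 𝔟)) := by
    rw [Submodule.mem_iInf]
    intro i
    rw [smul_eq_mul, Ideal.mul_top]
    apply Ideal.pow_le_pow_right (Nat.le_succ i)
    simp only [𝔪]
    rw [← Ideal.map_pow]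
    obtain ⟨y, hy, z, hz, hyz⟩ := Submodule.mem_sup.mp (h1 i)
    have : Ideal.Quotient.mk 𝔟 x = Ideal.Quotient.mk 𝔟 z := by
      rw [← hyz, map_add, Ideal.Quotient.eq_zero_iff_mem.mpr hy, zero_add]
    rw [this]
    exact Ideal.mem_map_of_mem _ hz
  rw [Ideal.mem_iInf_smul_pow_eq_bot_iff] at h2
  obtain ⟨⟨r', hr'⟩, hrx⟩ := h2
  obtain ⟨r, hr, rfl⟩ := (Ideal.mem_map_iff_of_surjective _ Ideal.Quotient.mk_surjective).mp hr'
  refine ⟨r, hr, ?_⟩
  rw [← Ideal.Quotient.eq_zero_iff_mem, map_mul, map_sub, map_one, sub_mul, one_mul, sub_eq_zero]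
  exact hrx.symm

/-- SGA 3 XI 6.9 (affine base and affine X, to which the source reduces). Let R be a ring, B a smooth R-algebra whose geometric fibres are connected (for every algebraically closed field K under R, Spec (K ⊗ B) is connected), e : B → R a section with kernel m, and J a finitely generated ideal of B (a finitely presented closed subscheme Y of X = Spec B). Then there is n ≥ 0 such that for every R-algebra R': the base change of X to R' lies in Y (every element of J dies in R' ⊗ B) if and only if the base change of the n-th infinitesimal neighbourhood Spec (B/m^(n+1)) of the section lies in Y. -/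
theorem result (R B : Type u) [CommRing R] [CommRing B] [Algebra R B]
    [Algebra.Smooth R B]
    (hconn : ∀ (K : Type u) [Field K] [IsAlgClosed K] [Algebra R K], ConnectedSpace (PrimeSpectrum (K ⊗[R] B)))
    (e : B →ₐ[R] R) (J : Ideal B) (hJ : J.FG) :
    ∃ n : ℕ, ∀ (R' : Type u) [CommRing R'] [Algebra R R'],
      (∀ x ∈ J, (1 : R') ⊗ₜ[R] x = (0 : R' ⊗[R] B)) ↔
        (∀ x ∈ J, (1 : R') ⊗ₜ[R] (Ideal.Quotient.mk (RingHom.ker e ^ (n + 1)) x) = (0 : R' ⊗[R] (B ⧸ RingHom.ker e ^ (n + 1)))) := by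
  classical
  obtain ⟨F, hF⟩ := hJ
  obtain ⟨A, _, _, _, B₁, _, _, _, ι, e₁, hinj, he, hFA⟩ := SmoothDescent.exists_model R B e F
  let g : B₁ →+* B := (ι : R ⊗[A] B₁ →+* B).comp
    ((Algebra.TensorProduct.includeRight : B₁ →ₐ[A] R ⊗[A] B₁) : B₁ →+* R ⊗[A] B₁)
  have hg : ∀ x, g x = ι (1 ⊗ₜ x) := fun x => rfl
  let J₁ : Ideal B₁ := J.comap g
  have hproj : ∀ n, Module.Projective A (B₁ ⧸ RingHom.ker e₁ ^ (n + 1)) :=
    fun n => SmoothSection.projective_quotient_pow e₁ n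
  have hK' : ∀ n, ∃ K : Ideal A, ∀ (R' : Type u) [CommRing R'] [Algebra A R'],
      (∀ y ∈ (Ideal.Quotient.mk (RingHom.ker e₁ ^ (n + 1)) '' (J₁ : Set B₁)), (1 : R') ⊗ₜ[A] y = 0) ↔
        K ≤ RingHom.ker (algebraMap A R') := fun n => by
    have := hproj n
    exact SmoothSection.exists_ideal_of_projective _
  choose K hK using hK'
  have hmono : Monotone K := by
    apply monotone_nat_of_le_succ
    intro n
    have h1 : K n ≤ RingHom.ker (algebraMap A (A ⧸ K (n + 1))) := by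
      rw [← hK n (A ⧸ K (n + 1))]
      have h2 := (hK (n + 1) (A ⧸ K (n + 1))).mpr (by rw [Ideal.Quotient.algebraMap_eq, Ideal.mk_ker])
      rintro _ ⟨x, hx, rfl⟩
      have h3 := h2 _ ⟨x, hx, rfl⟩
      let φ : (B₁ ⧸ RingHom.ker e₁ ^ (n + 1 + 1)) →ₐ[A] (B₁ ⧸ RingHom.ker e₁ ^ (n + 1)) :=
        Ideal.Quotient.factorₐ A (Ideal.pow_le_pow_right (Nat.le_succ (n + 1)))
      have h4 := congrArg (LinearMap.lTensor (A ⧸ K (n + 1)) φ.toLinearMap) h3
      rw [map_zero, LinearMap.lTensor_tmul] at h4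
      exact h4
    rw [Ideal.Quotient.algebraMap_eq, Ideal.mk_ker] at h1
    exact h1
  obtain ⟨n₀, hn₀⟩ := monotone_stabilizes_iff_noetherian.mpr (inferInstance : IsNoetherian A A) ⟨K, hmono⟩
  refine ⟨n₀, ?_⟩
  intro R' _ _
  constructor
  · intro h x hx
    have := congrArg (LinearMap.lTensor R' (Ideal.Quotient.mkₐ R (RingHom.ker e ^ (n₀ + 1))).toLinearMap) (h x hx)
    rw [map_zero, LinearMap.lTensor_tmul] at this
    exact this
  · intro h
    let algAR' : Algebra A R' := ((algebraMap R R').comp (algebraMap A R)).toAlgebra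
    have htower : IsScalarTower A R R' := IsScalarTower.of_algebraMap_eq' rfl
    -- step (i)
    have hKR' : K n₀ ≤ RingHom.ker (algebraMap A R') := by
      rw [← hK n₀ R']
      rintro _ ⟨x₁, hx₁, rfl⟩
      obtain ⟨Θ, hΘ⟩ := exists_theta (R' := R') ι e e₁ he n₀
      rw [← hΘ x₁]
      have h1 := h (g x₁) hx₁
      rw [hg] at h1
      rw [h1, map_zero]
    -- step (iii)
    have key : ∀ x₁ ∈ J₁, (1 : R') ⊗ₜ[R] (g x₁) = 0 := by
      intro x₁ hx₁
      obtain ⟨r, hr, hrx⟩ := krull_step e₁ (K n₀) x₁ (by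
        intro n
        rcases le_total n n₀ with hn | hn
        · have h1 : K n ≤ RingHom.ker (algebraMap A (A ⧸ K n₀)) := by
            rw [Ideal.Quotient.algebraMap_eq, Ideal.mk_ker]
            exact hmono hn
          exact (hK n (A ⧸ K n₀)).mpr h1 _ ⟨x₁, hx₁, rfl⟩
        · have h1 : K n ≤ RingHom.ker (algebraMap A (A ⧸ K n₀)) := by
            rw [Ideal.Quotient.algebraMap_eq, Ideal.mk_ker]
            exact (hn₀ n hn).symm.le
          exact (hK n (A ⧸ K n₀)).mpr h1 _ ⟨x₁, hx₁, rfl⟩)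
      let γ : B₁ →+* R' ⊗[R] B := ((Algebra.TensorProduct.includeRight : B →ₐ[R] R' ⊗[R] B) : B →+* R' ⊗[R] B).comp g
      have hγ : ∀ a : A, γ (algebraMap A B₁ a) = algebraMap R' (R' ⊗[R] B) (algebraMap A R' a) := by
        intro a
        have h1 : g (algebraMap A B₁ a) = algebraMap R B (algebraMap A R a) := by
          rw [hg, ← ι.commutes]
          congr 1
          rw [Algebra.TensorProduct.algebraMap_apply, Algebra.algebraMap_eq_smul_one, ← TensorProduct.smul_tmul,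
            Algebra.smul_def, mul_one]
          rfl
        change (Algebra.TensorProduct.includeRight : B →ₐ[R] R' ⊗[R] B) (g (algebraMap A B₁ a)) = _
        rw [h1, AlgHom.commutes, IsScalarTower.algebraMap_apply A R R', ← IsScalarTower.algebraMap_apply R R']
      have hγ0 : γ ((1 - r) * x₁) = 0 := by
        have h1 : (K n₀).map (algebraMap A B₁) ≤ RingHom.ker γ := by
          rw [Ideal.map_le_iff_le_comap]
          intro a ha
          rw [Ideal.mem_comap, RingHom.mem_ker, hγ, RingHom.mem_ker.mp (hKR' ha), map_zero]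
        exact h1 hrx
      let e' : R' ⊗[R] B →ₐ[R'] R' := Algebra.TensorProduct.lift (AlgHom.id R' R') ((Algebra.ofId R R').comp e)
        (fun _ _ => Commute.all _ _)
      have hconn' : ∀ (L : Type u) [Field L] [IsAlgClosed L] [Algebra R' L],
          ConnectedSpace (PrimeSpectrum (L ⊗[R'] (R' ⊗[R] B))) := by
        intro L _ _ _
        let algRL : Algebra R L := ((algebraMap R' L).comp (algebraMap R R')).toAlgebra
        have htowerL : IsScalarTower R R' L := IsScalarTower.of_algebraMap_eq' rfl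
        let E : L ⊗[R'] (R' ⊗[R] B) ≃ₐ[L] L ⊗[R] B := Algebra.TensorProduct.cancelBaseChange R R' L L B
        have h1 := hconn L
        let H := PrimeSpectrum.homeomorphOfRingEquiv E.toRingEquiv
        exact H.symm.surjective.connectedSpace H.symm.continuous
      refine SmoothNZD.eq_zero_of_mul_eq_zero R' (R' ⊗[R] B) hconn' e' (γ (1 - r)) ?_ (γ x₁) ?_
      · change e' (1 ⊗ₜ (g (1 - r))) = 1
        have h1 : e (g (1 - r)) = 1 := by
          rw [hg, he, map_sub, map_one, RingHom.mem_ker.mp hr, sub_zero, map_one]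
        simp only [e', Algebra.TensorProduct.lift_tmul, AlgHom.comp_apply, h1, map_one, mul_one]
      · rw [← map_mul, hγ0]
    -- conclusion
    intro x hx
    have h1 : J ≤ RingHom.ker (Algebra.TensorProduct.includeRight : B →ₐ[R] R' ⊗[R] B) := by
      rw [← hF, Ideal.span_le]
      intro y hy
      obtain ⟨x₁, hx₁⟩ := hFA y hy
      have hx₁J : x₁ ∈ J₁ := by
        rw [Ideal.mem_comap, hg, hx₁, ← hF]
        exact Ideal.subset_span hy
      have := key x₁ hx₁J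
      rw [hg, hx₁] at this
      exact this
    exact h1 hx

end Groth.Agent.S2986
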