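import Groth.Statements.S2987
-- import your own Groth.Agent.* helpers here
import Groth.Agent.Sga3A.LiftGL
import Groth.Agent.Sga3A.BCIso
import Groth.Agent.Proet.EtaleLift

set_option autoImplicit false
universe u
open TensorProduct SGA3b
open SGA3b

namespace Groth.Agent.S2987

open Groth.Agent.Sga3A.LiftGL Groth.Agent.Sga3A.BCIso

/-- Diagonalisability lifts along surjections with nilpotent kernel, for flat Hopf algebras. -/
theorem isDiag_of_nilpotent {S T B : Type u} [CommRing S] [CommRing T] [Algebra S T] [CommRing B]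
    [HopfAlgebra S B] [Module.Flat S B] (hT : Function.Surjective (algebraMap S T))
    (hn : IsNilpotent (RingHom.ker (algebraMap S T))) (h : IsDiag T (T ⊗[S] B)) : IsDiag S B := by
  obtain ⟨M, i, ⟨e⟩⟩ := h
  obtain ⟨k, hk⟩ := hn
  obtain ⟨e', -⟩ := exists_equiv_of_nilpotent k hT
    (by rw [pow_succ, hk]; simp) e
  exact ⟨M, i, ⟨e'.symm⟩⟩

/-- The constant-type statement over one surjection with nilpotent kernel. -/
theorem const_of_nilpotent {R L L₀ A : Type u} [CommRing R] [CommRing L] [CommRing L₀] [CommRing A]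
    [HopfAlgebra R A] [Algebra R L] [Algebra R L₀] [Algebra L L₀] [IsScalarTower R L L₀]
    [Module.Flat R A]
    (hsurj : Function.Surjective (algebraMap L L₀)) (hn : IsNilpotent (RingHom.ker (algebraMap L L₀)))
    (h : ∃ (S₀ : Type u) (_ : CommRing S₀) (_ : Algebra L₀ S₀) (_ : Algebra R S₀)
      (_ : IsScalarTower R L₀ S₀),
      Algebra.Etale L₀ S₀ ∧ Module.FaithfullyFlat L₀ S₀ ∧ IsDiag S₀ (S₀ ⊗[R] A)) :
    IsQuasiIsotrivialConst L (L ⊗[R] A) := by
  obtain ⟨S₀, _, _, _, _, het, hff, hd⟩ := h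
  obtain ⟨B, _, _, hetB, ⟨e⟩⟩ :=
    Groth.Agent.Proet.EtaleLift.exists_etale_lift L L₀ S₀ hsurj
  -- `S₀` as a `B`-algebra
  let φ : B →+* S₀ := (e : L₀ ⊗[L] B →+* S₀).comp
    (Algebra.TensorProduct.includeRight : B →ₐ[L] L₀ ⊗[L] B).toRingHom
  have hφ : ∀ b, φ b = e (1 ⊗ₜ b) := fun b => rfl
  let _ : Algebra B S₀ := φ.toAlgebra
  let _ : Algebra L S₀ := ((algebraMap L₀ S₀).comp (algebraMap L L₀)).toAlgebra
  let _ : Algebra R B := ((algebraMap L B).comp (algebraMap R L)).toAlgebra
  have : IsScalarTower R L B := IsScalarTower.of_algebraMap_eq (fun _ => rfl)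
  have hLB : ∀ l : L, φ (algebraMap L B l) = algebraMap L₀ S₀ (algebraMap L L₀ l) := by
    intro l
    rw [hφ]
    have : (1 : L₀) ⊗ₜ[L] algebraMap L B l = algebraMap L₀ (L₀ ⊗[L] B) (algebraMap L L₀ l) := by
      rw [Algebra.algebraMap_eq_smul_one, ← TensorProduct.smul_tmul]
      rw [Algebra.TensorProduct.algebraMap_apply, Algebra.smul_def, mul_one]
      rfl
    rw [this, AlgEquiv.commutes]
  have : IsScalarTower R B S₀ := IsScalarTower.of_algebraMap_eq (fun r => by
    change _ = φ (algebraMap L B (algebraMap R L r))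
    rw [hLB, ← IsScalarTower.algebraMap_apply R L L₀, ← IsScalarTower.algebraMap_apply R L₀ S₀])
  have hφs : Function.Surjective (algebraMap B S₀) := by
    intro x
    obtain ⟨y, rfl⟩ := e.surjective x
    induction y using TensorProduct.induction_on with
    | zero => exact ⟨0, by rw [map_zero, map_zero]⟩
    | tmul l b =>
      obtain ⟨l, rfl⟩ := hsurj l
      refine ⟨l • b, ?_⟩
      change φ _ = _
      rw [hφ, ← TensorProduct.smul_tmul, Algebra.smul_def, mul_one]
    | add x y hx hy =>
      obtain ⟨a, ha⟩ := hx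
      obtain ⟨b, hb⟩ := hy
      exact ⟨a + b, by rw [map_add, ha, hb, map_add]⟩
  have hker : RingHom.ker (algebraMap B S₀) = (RingHom.ker (algebraMap L L₀)).map (algebraMap L B) := by
    apply le_antisymm
    · intro b hb
      have hb' : e (1 ⊗ₜ b) = 0 := hb
      rw [EmbeddingLike.map_eq_zero_iff, one_tmul_eq_zero_iff hsurj] at hb'
      rw [Ideal.smul_top_eq_map] at hb'
      exact hb'
    · rw [Ideal.map_le_iff_le_comap]
      intro l hl
      rw [Ideal.mem_comap, RingHom.mem_ker]
      change φ _ = _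
      rw [hLB, RingHom.mem_ker.mp hl, map_zero]
  have hnB : IsNilpotent (RingHom.ker (algebraMap B S₀)) := by
    obtain ⟨k, hk⟩ := hn
    refine ⟨k, ?_⟩
    rw [hker, ← Ideal.map_pow, hk]
    simp
  -- faithful flatness
  have hffB : Module.FaithfullyFlat L B := by
    refine Module.FaithfullyFlat.of_comap_surjective fun p => ?_
    have hp : p ∈ Set.range (PrimeSpectrum.comap (algebraMap L L₀)) := by
      rw [range_comap_of_surjective _ _ hsurj]
      obtain ⟨k, hk⟩ := hn
      intro x hx
      have : x ^ k ∈ RingHom.ker (algebraMap L L₀) ^ k := Ideal.pow_mem_pow hx k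
      rw [hk] at this
      have h0 : x ^ k = 0 := by simpa using this
      exact p.isPrime.mem_of_pow_mem k (by rw [h0]; exact p.asIdeal.zero_mem)
    obtain ⟨p₀, rfl⟩ := hp
    obtain ⟨q, rfl⟩ := PrimeSpectrum.comap_surjective_of_faithfullyFlat (A := L₀) (B := S₀) p₀
    refine ⟨PrimeSpectrum.comap φ q, ?_⟩
    rw [← PrimeSpectrum.comap_comp_apply, ← PrimeSpectrum.comap_comp_apply]
    have : φ.comp (algebraMap L B) = (algebraMap L₀ S₀).comp (algebraMap L L₀) :=
      RingHom.ext hLB
    rw [this]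
  refine ⟨B, inferInstance, inferInstance, hetB, hffB, ?_⟩
  rw [isDiag_cancel_iff]
  exact isDiag_of_nilpotent hφs hnB ((isDiag_cancel_iff B S₀).mpr hd)

/-- SGA 3 X 2.3. Let R be a ring, I a nilpotent ideal, and H = Spec A an affine R-group with A flat over R. If the base change of H to R/I is a quasi-isotrivial group of multiplicative type, then so is H. (Affine group schemes over an affine base are taken in Hopf-algebra form; base change is the tensor product.) -/
theorem result (R : Type u) [CommRing R] (A : Type u) [CommRing A] [HopfAlgebra R A] [Module.Flat R A] (I : Ideal R) (hI : IsNilpotent I)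
    (h0 : IsQuasiIsotrivial (R ⧸ I) ((R ⧸ I) ⊗[R] A)) : IsQuasiIsotrivial R A := by
  obtain ⟨s₀, hs₀, H⟩ := h0
  refine ⟨{f : R | Ideal.Quotient.mk I f ∈ s₀}, ?_, ?_⟩
  · -- the span
    have h1 : Ideal.map (Ideal.Quotient.mk I) (Ideal.span {f : R | Ideal.Quotient.mk I f ∈ s₀}) = ⊤ := by
      rw [Ideal.map_span, ← hs₀]
      congr 1
      ext x
      constructor
      · rintro ⟨f, hf, rfl⟩
        exact hf
      · intro hx
        obtain ⟨f, rfl⟩ := Ideal.Quotient.mk_surjective x
        exact ⟨f, hx, rfl⟩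
    rw [Ideal.eq_top_iff_one] at h1 ⊢
    rw [Ideal.mem_map_iff_of_surjective _ Ideal.Quotient.mk_surjective] at h1
    obtain ⟨x, hx, hx1⟩ := h1
    have h2 : x - 1 ∈ I := by
      rw [← Ideal.Quotient.eq, hx1, map_one]
    obtain ⟨k, hk⟩ := hI
    have h3 : IsNilpotent (x - 1) := by
      refine ⟨k, ?_⟩
      have : (x - 1) ^ k ∈ I ^ k := Ideal.pow_mem_pow h2 k
      rw [hk] at this
      simpa using this
    have h4 : IsUnit x := by
      have := h3.isUnit_add_one
      simpa using this
    rw [← Ideal.eq_top_iff_one]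
    exact Ideal.eq_top_of_isUnit_mem _ hx h4
  · intro f hf
    obtain ⟨S₀, _, _, het, hff, hd⟩ := H _ hf
    let L := Localization.Away f
    let L₀ := Localization.Away (Ideal.Quotient.mk I f)
    have hle : Submonoid.powers f ≤ Submonoid.comap (Ideal.Quotient.mk I)
        (Submonoid.powers (Ideal.Quotient.mk I f)) := by
      rw [Submonoid.powers_le]
      exact ⟨1, by simp⟩
    let ψ : L →+* L₀ := IsLocalization.map L₀ (Ideal.Quotient.mk I) hle
    let _ : Algebra L L₀ := ψ.toAlgebra
    have : IsScalarTower R L L₀ := IsScalarTower.of_algebraMap_eq (fun r => by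
      change _ = ψ (algebraMap R L r)
      rw [IsLocalization.map_eq]
      rfl)
    have hψ : Function.Surjective (algebraMap L L₀) := by
      intro x
      obtain ⟨r₀, m, rfl⟩ := IsLocalization.exists_mk'_eq (Submonoid.powers (Ideal.Quotient.mk I f)) x
      obtain ⟨r, rfl⟩ := Ideal.Quotient.mk_surjective r₀
      obtain ⟨_, n, rfl⟩ := m
      refine ⟨IsLocalization.mk' L r (⟨f ^ n, ⟨n, rfl⟩⟩ : Submonoid.powers f), ?_⟩
      change ψ _ = _
      rw [IsLocalization.map_mk']
      congr 1
    have hker : RingHom.ker (algebraMap L L₀) ≤ I.map (algebraMap R L) := by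
      intro x hx
      obtain ⟨r, m, rfl⟩ := IsLocalization.exists_mk'_eq (Submonoid.powers f) x
      have hx' : ψ (IsLocalization.mk' L r m) = 0 := hx
      rw [IsLocalization.map_mk', IsLocalization.mk'_eq_zero_iff] at hx'
      obtain ⟨⟨_, n, rfl⟩, hn⟩ := hx'
      have h1 : f ^ n * r ∈ I := by
        rw [← Ideal.Quotient.eq_zero_iff_mem, map_mul, map_pow]
        exact hn
      have h2 : IsLocalization.mk' L r m =
          IsLocalization.mk' L 1 (m * (⟨f ^ n, ⟨n, rfl⟩⟩ : Submonoid.powers f)) *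
            algebraMap R L (f ^ n * r) := by
        rw [mul_comm, ← IsLocalization.mk'_eq_mul_mk'_one, IsLocalization.mk'_eq_iff_eq]
        simp only [Submonoid.coe_mul]
        ring_nf
      rw [h2]
      exact Ideal.mul_mem_left _ _ (Ideal.mem_map_of_mem _ h1)
    have hnil : IsNilpotent (RingHom.ker (algebraMap L L₀)) := by
      obtain ⟨k, hk⟩ := hI
      refine ⟨k, ?_⟩
      rw [Ideal.zero_eq_bot, eq_bot_iff]
      calc RingHom.ker (algebraMap L L₀) ^ k ≤ (I.map (algebraMap R L)) ^ k :=
            Ideal.pow_right_mono hker k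
        _ = ⊥ := by rw [← Ideal.map_pow, hk]; simp
    let _ : Algebra R S₀ := ((algebraMap L₀ S₀).comp (algebraMap R L₀)).toAlgebra
    let _ : Algebra (R ⧸ I) S₀ := ((algebraMap L₀ S₀).comp (algebraMap (R ⧸ I) L₀)).toAlgebra
    have : IsScalarTower R L₀ S₀ := IsScalarTower.of_algebraMap_eq (fun _ => rfl)
    have : IsScalarTower (R ⧸ I) L₀ S₀ := IsScalarTower.of_algebraMap_eq (fun _ => rfl)
    have : IsScalarTower R (R ⧸ I) S₀ := IsScalarTower.of_algebraMap_eq (fun _ => rfl)
    refine const_of_nilpotent (L₀ := L₀) hψ hnil ⟨S₀, inferInstance, inferInstance, inferInstance,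
      inferInstance, het, hff, ?_⟩
    rw [isDiag_cancel_iff, isDiag_cancel_iff] at hd
    exact hd

end Groth.Agent.S2987
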