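import Groth.Statements.S2993
import Groth.Agent.Sga3B.AffineDimOne

set_option autoImplicit false
universe u
open Par

namespace Groth.Agent.S2993

open AlgebraicGeometry CategoryTheory in
/-- SGA 3 XXV 4.1, in the case proved in the text (G smooth over S; the editors note that flatness suffices): let S be a locally Noetherian scheme of dimension ≤ 1, G and H two S-group schemes of finite type and f : G → H a homomorphism of S-groups which is quasi-finite and separated. If G is smooth over S then f is affine. -/
theorem result {S : Scheme.{u}} [IsLocallyNoetherian S] (hS : topologicalKrullDim S ≤ 1)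
    (G H : Over S) [GrpObj G] [GrpObj H] [LocallyOfFiniteType G.hom] [QuasiCompact G.hom] [LocallyOfFiniteType H.hom] [QuasiCompact H.hom]
    [Smooth G.hom] (f : G ⟶ H) [IsMonHom f] [LocallyQuasiFinite f.left] [QuasiCompact f.left] [IsSeparated f.left] :
    IsAffineHom f.left :=
  Groth.Agent.Sga3B.AffineDimOne.isAffineHom_of_quasiFinite hS G H f

end Groth.Agent.S2993
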