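import Groth.Statements.S3006
import Groth.Agent.Sga3B.CentSmooth

set_option autoImplicit false
universe u
open CategoryTheory MonoidalCategory CartesianMonoidalCategory MonObj GrpObj AlgebraicGeometry
open Red

namespace Groth.Agent.S3006

/-- SGA 3 XIX 6.3 (i).  Let S be a scheme, G an S-group scheme smooth and of finite presentation over S, and q : Q → G a closed subgroup scheme which is a torus.  Then the centralizer and the normalizer of Q in G exist as closed subgroup schemes of G (characterized on points as in `Red.IsCentralizerOf` / `Red.IsNormalizerOf`) and are smooth over S. -/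
theorem result (S : Scheme.{u}) (G Q : Over S) [GrpObj G] [GrpObj Q] [Smooth G.hom] [LocallyOfFinitePresentation G.hom] [QuasiCompact G.hom] [QuasiSeparated G.hom] (q : Q ⟶ G) [IsMonHom q] (hq : IsClosedImmersion q.left) (hQ : Red.IsTorus Q) : (∃ (Z : Over S) (_ : GrpObj Z) (z : Z ⟶ G), Red.IsCentralizerOf q z ∧ IsClosedImmersion z.left ∧ Smooth Z.hom) ∧ ∃ (N : Over S) (_ : GrpObj N) (n : N ⟶ G), Red.IsNormalizerOf q n ∧ IsClosedImmersion n.left ∧ Smooth N.hom := by
  obtain ⟨Z, i1, z, h1, h2, h3, -⟩ := Sga3B.CentSmooth.exists_smooth_centralizer q hQ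
  obtain ⟨N, i2, n, h4, h5, h6, -⟩ := Sga3B.CentSmooth.exists_smooth_normalizer q hQ
  exact ⟨⟨Z, i1, z, h1, h2, h3⟩, ⟨N, i2, n, h4, h5, h6⟩⟩

end Groth.Agent.S3006
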