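import Groth.Statements.S3014
import Groth.Agent.Sga3B.DescIso
import Groth.Agent.Sga3B.BcIso

set_option autoImplicit false
universe u
open CategoryTheory MonoidalCategory CartesianMonoidalCategory MonObj GrpObj AlgebraicGeometry
open Red

namespace Groth.Agent.S3014

open Groth.Agent.Sga3B

/-- SGA 3 XXIII 5.6, (i)⇒(ii).  Let G and G' be reductive S-groups and f : S' → S a surjective morphism such that the base changes of G and G' to S' are isomorphic as group schemes.  Then for every s ∈ S the geometric fibres G_{s̄} and G'_{s̄} are isomorphic. -/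
theorem result (S : Scheme.{u}) (G G' : Over S) [GrpObj G] [GrpObj G'] (hG : Red.IsReductive G) (hG' : Red.IsReductive G') (S' : Scheme.{u}) (f : S' ⟶ S) [Surjective f] (hiso : Nonempty (Grp.mk (Red.bc f G) ≅ Grp.mk (Red.bc f G'))) (s : S) : Nonempty (Grp.mk (Red.geomFibre s G) ≅ Grp.mk (Red.geomFibre s G')) := by
  obtain ⟨s', rfl⟩ := f.surjective s
  let k := S.residueField (f s')
  let k' := S'.residueField s'
  algebraize [(f.residueFieldMap s').hom]
  let Ω := AlgebraicClosure k'
  let K := AlgebraicClosure k
  let i : K →ₐ[k] Ω := IsAlgClosed.lift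
  algebraize [i.toRingHom]
  have hq : Spec.map (CommRingCat.ofHom (algebraMap K Ω)) ≫ geomPt (f s') = geomPt s' ≫ f := by
    rw [geomPt, geomPt, Category.assoc, ← Scheme.Hom.SpecMap_residueFieldMap_fromSpecResidueField,
      ← Category.assoc, ← Category.assoc, ← Spec.map_comp, ← Spec.map_comp]
    congr 2
    ext x
    exact i.commutes x
  have h1 : Nonempty (Grp.mk (Red.bc (geomPt s' ≫ f) G) ≅ Grp.mk (Red.bc (geomPt s' ≫ f) G')) :=
    BcIso.nonempty_iso_bc_of_comp rfl hiso
  rw [← hq] at h1
  obtain ⟨e⟩ := h1
  have := hG.1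
  have := hG'.1
  have := hG.2.1
  have := hG'.2.1
  have a1 : IsAffine (geomFibre (f s') G).left := by
    change IsAffine (Limits.pullback G.hom (geomPt (f s')))
    exact isAffine_of_isAffineHom (Limits.pullback.snd G.hom (geomPt (f s')))
  have a2 : IsAffine (geomFibre (f s') G').left := by
    change IsAffine (Limits.pullback G'.hom (geomPt (f s')))
    exact isAffine_of_isAffineHom (Limits.pullback.snd G'.hom (geomPt (f s')))
  have a3 : LocallyOfFiniteType (geomFibre (f s') G).hom := by
    change LocallyOfFiniteType (Limits.pullback.snd G.hom (geomPt (f s')))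
    infer_instance
  have a4 : LocallyOfFiniteType (geomFibre (f s') G').hom := by
    change LocallyOfFiniteType (Limits.pullback.snd G'.hom (geomPt (f s')))
    infer_instance
  exact DescIso.descend_algClosed (K := K) (Ω := Ω) ⟨(BcIso.bcCompIso _ _ G).symm ≪≫ e ≪≫ BcIso.bcCompIso _ _ G'⟩

end Groth.Agent.S3014
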