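import Groth.Statements.S3015
import Groth.Agent.Sga3C.ArtinBase
import Groth.Agent.Sga3C.GrpBasic

set_option autoImplicit false
universe u
open CategoryTheory MonoidalCategory CartesianMonoidalCategory MonObj GrpObj AlgebraicGeometry TensorProduct
open SGA3

namespace Groth.Agent.S3015

/-- SGA 3 VI_A 0.5: let A be a local artinian ring, G a group scheme over A, and U, V dense open subsets of G. Then U · V, the image of U ×_A V under the multiplication, is the whole underlying space of G: every point of G is the product of a point of G ×_A G whose two projections lie in U and V. -/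
theorem result (A : Type u) [CommRing A] [IsArtinianRing A] [IsLocalRing A]
    (G : Over (Spec (CommRingCat.of A))) [GrpObj G] (U V : G.left.Opens)
    (hU : Dense (U : Set G.left)) (hV : Dense (V : Set G.left)) (g : G.left) :
    ∃ z : ↥(G ⊗ G).left, (fst G G).left.base z ∈ U ∧ (snd G G).left.base z ∈ V ∧ μ[G].left.base z = g := by
  let T : Over (Spec (CommRingCat.of A)) := Over.mk (G.left.fromSpecResidueField g ≫ G.hom)
  let gT : T ⟶ G := Over.homMk (G.left.fromSpecResidueField g) rfl
  let φ : T ⊗ G ⟶ G ⊗ G := lift (snd T G) ((snd T G)⁻¹ * (fst T G ≫ gT))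
  have hφ : φ ≫ μ[G] = fst T G ≫ gT := by
    rw [← Hom.mul_def, mul_inv_cancel_left]
  have hφ1 : φ ≫ fst G G = snd T G := lift_fst _ _
  have hφ2 : φ ≫ snd G G = (Groth.Agent.Sga3C.GrpBasic.invMulShear gT).hom ≫ snd T G := by
    rw [Groth.Agent.Sga3C.GrpBasic.invMulShear_hom_snd]; exact lift_snd _ _
  have hTo : UniversallyOpen T.hom :=
    Groth.Agent.Sga3C.ArtinBase.universallyOpen_of_isArtinianRing A _
  have hop : UniversallyOpen (snd T G).left :=
    inferInstanceAs (UniversallyOpen (Limits.pullback.snd T.hom G.hom))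
  have hop2 : UniversallyOpen ((Groth.Agent.Sga3C.GrpBasic.invMulShear gT).hom ≫ snd T G).left := by
    rw [Over.comp_left]; infer_instance
  have h₁ : Dense ((snd T G).left.base ⁻¹' (U : Set G.left)) := hU.preimage (snd T G).left.isOpenMap
  have h₂ : Dense (((Groth.Agent.Sga3C.GrpBasic.invMulShear gT).hom ≫ snd T G).left.base ⁻¹' (V : Set G.left)) :=
    hV.preimage (((Groth.Agent.Sga3C.GrpBasic.invMulShear gT).hom ≫ snd T G).left).isOpenMap
  have h := h₁.inter_of_isOpen_left h₂ (U.2.preimage (snd T G).left.continuous)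
  have : Nonempty (T ⊗ G).left :=
    ⟨(lift (𝟙 T) (1 : T ⟶ G)).left.base (IsLocalRing.closedPoint (G.left.residueField g))⟩
  obtain ⟨w, hw₁, hw₂⟩ := h.nonempty
  refine ⟨φ.left.base w, ?_, ?_, ?_⟩
  · have : (φ ≫ fst G G).left.base w ∈ U := by
      rw [hφ1]; exact hw₁
    exact this
  · have : (φ ≫ snd G G).left.base w ∈ V := by
      rw [hφ2]; exact hw₂
    exact this
  · have : (φ ≫ μ[G]).left.base w = g := by
      rw [hφ, Over.comp_left, Scheme.Hom.comp_base, TopCat.comp_app]
      exact G.left.fromSpecResidueField_apply g ((fst T G).left.base w)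
    exact this

end Groth.Agent.S3015
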