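import Groth.Statements.S3024
import Groth.Agent.Sga3C.SchemImage
import Groth.Agent.Sga3C.GenPts

set_option autoImplicit false
universe u
open CategoryTheory MonoidalCategory CartesianMonoidalCategory MonObj GrpObj AlgebraicGeometry TensorProduct
open SGA3

namespace Groth.Agent.S3024

open Groth.Agent.Sga3C Groth.Agent.Sga3C.SchemImage Groth.Agent.Sga3C.GenPts

/-- A quasi-compact schematically dominant homomorphism of group schemes over a field is
surjective. -/
theorem surjective_of_dominant {k : Type u} [Field k] {H G : Over (Spec (CommRingCat.of k))}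
    [GrpObj H] [GrpObj G] (f : H ⟶ G) [IsMonHom f] [QuasiCompact f.left]
    [IsSchemeTheoreticallyDominant f.left] : Surjective f.left := by
  constructor
  intro g
  let T : Over (Spec (CommRingCat.of k)) := Over.mk (G.left.fromSpecResidueField g ≫ G.hom)
  let gT : T ⟶ G := Over.homMk (G.left.fromSpecResidueField g)
  -- the automorphism `(t, x) ↦ (t, g(t) x⁻¹)` of `T × G`
  let φ : T ⊗ G ⟶ T ⊗ G := lift (fst T G) ((fst T G ≫ gT) * (snd T G)⁻¹)
  let ψ : T ⊗ G ⟶ T ⊗ G := lift (fst T G) ((snd T G)⁻¹ * (fst T G ≫ gT))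
  have hφψ : φ ≫ ψ = 𝟙 _ := by
    apply CartesianMonoidalCategory.hom_ext
    · simp [φ, ψ]
    · simp only [φ, ψ, Category.assoc, lift_snd, MonObj.comp_mul, GrpObj.comp_inv,
        lift_fst_assoc, Category.id_comp]
      group
  have hψφ : ψ ≫ φ = 𝟙 _ := by
    apply CartesianMonoidalCategory.hom_ext
    · simp [φ, ψ]
    · simp only [φ, ψ, Category.assoc, lift_snd, MonObj.comp_mul, GrpObj.comp_inv,
        lift_fst_assoc, Category.id_comp]
      group
  let e : T ⊗ G ≅ T ⊗ G := ⟨φ, ψ, hφψ, hψφ⟩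
  let e' : (T ⊗ G).left ≅ (T ⊗ G).left := (Over.forget _).mapIso e
  let π : T ⊗ H ⟶ T ⊗ G := T ◁ f
  have : QuasiCompact π.left := quasiCompact_whiskerLeft f T
  have : IsSchemeTheoreticallyDominant π.left := dominant_whiskerLeft f T
  -- a generic point of `T × G`
  obtain ⟨ξ, hξ, -⟩ := exists_mem_genericPoints_specializes
    ((lift (𝟙 T) gT).left (IsLocalRing.closedPoint (G.left.residueField g)))
  obtain ⟨b, hb⟩ := mem_range_of_mem_genericPoints π.left ξ hξ
  obtain ⟨a, ha⟩ := mem_range_of_mem_genericPoints π.left (e'.hom ξ)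
    (homeomorph_mem_genericPoints e'.hom.homeomorph hξ)
  have hab : (π ≫ φ).left b = π.left a := by
    rw [ha, ← hb]
    rfl
  obtain ⟨w, hw1, hw2⟩ := Scheme.Pullback.exists_preimage_pullback _ _ hab
  let W : Over (Spec (CommRingCat.of k)) :=
    Over.mk (Limits.pullback.fst (π ≫ φ).left π.left ≫ (T ⊗ H).hom)
  let b' : W ⟶ T ⊗ H := Over.homMk (Limits.pullback.fst (π ≫ φ).left π.left)
  let a' : W ⟶ T ⊗ H := Over.homMk (Limits.pullback.snd (π ≫ φ).left π.left) (by
    rw [← Over.w π, ← Limits.pullback.condition_assoc, Over.w (π ≫ φ)]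
    rfl)
  have hab' : b' ≫ π ≫ φ = a' ≫ π := by
    apply Over.OverMorphism.ext
    rw [Over.comp_left, Over.comp_left]
    exact Limits.pullback.condition (f := (π ≫ φ).left) (g := π.left)
  have h1 : b' ≫ fst _ _ = a' ≫ fst _ _ := by
    simpa [π, φ] using hab' =≫ fst _ _
  have h2 : (b' ≫ fst _ _ ≫ gT) * (b' ≫ snd _ _ ≫ f)⁻¹ = a' ≫ snd _ _ ≫ f := by
    simpa [π, φ, MonObj.comp_mul, GrpObj.comp_inv] using hab' =≫ snd _ _
  have h3 : b' ≫ fst _ _ ≫ gT = ((a' ≫ snd _ _) * (b' ≫ snd _ _)) ≫ f := by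
    rw [MonObj.mul_comp, Category.assoc, Category.assoc, ← h2, inv_mul_cancel_right]
  refine ⟨((a' ≫ snd _ _) * (b' ≫ snd _ _)).left w, ?_⟩
  rw [← Scheme.Hom.comp_apply, ← Over.comp_left, ← h3]
  change (G.left.fromSpecResidueField g) ((b' ≫ fst _ _).left w) = g
  exact Scheme.fromSpecResidueField_apply _ _

/-- SGA 3 VI_A Prop. 6.4: let f : H → G be a quasi-compact homomorphism of group schemes over a field k. Then f factors as a homomorphism f' : H → H' followed by a homomorphism i : H' → G which is a closed immersion (H' is the schematic image of f, a closed subgroup scheme of G), with f' schematically dominant, quasi-compact and surjective. -/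
theorem result (k : Type u) [Field k] (H G : Over (Spec (CommRingCat.of k))) [GrpObj H] [GrpObj G]
    (f : H ⟶ G) [IsMonHom f] [QuasiCompact f.left] :
    ∃ (H' : Over (Spec (CommRingCat.of k))) (_ : GrpObj H') (i : H' ⟶ G) (f' : H ⟶ H'),
      IsMonHom i ∧ IsMonHom f' ∧ f' ≫ i = f ∧ IsClosedImmersion i.left ∧
      f'.left.ker = ⊥ ∧ QuasiCompact f'.left ∧ Surjective f'.left := by
  let H' : Over (Spec (CommRingCat.of k)) := Over.mk (f.left.imageι ≫ G.hom)
  let i : H' ⟶ G := Over.homMk f.left.imageι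
  let f' : H ⟶ H' := Over.homMk f.left.toImage (by
    change f.left.toImage ≫ f.left.imageι ≫ G.hom = _
    rw [Scheme.Hom.toImage_imageι_assoc, Over.w])
  have hf' : f' ≫ i = f := by
    ext1
    exact f.left.toImage_imageι
  have : IsClosedImmersion i.left := inferInstanceAs (IsClosedImmersion f.left.imageι)
  have : Mono i := Over.mono_of_mono_left i
  have hdom : IsSchemeTheoreticallyDominant f'.left := dominant_toImage f.left
  have : QuasiCompact f'.left := inferInstanceAs (QuasiCompact f.left.toImage)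
  have : IsSchemeTheoreticallyDominant (f' ⊗ₘ f').left := by
    rw [tensorHom_def, Over.comp_left]
    have := dominant_whiskerRight f' H
    have := dominant_whiskerLeft f' H'
    infer_instance
  obtain ⟨hG, hi⟩ := SubGrp.exists_grpObj_of_mono i
    (exists_lift_over (f' ⊗ₘ f') ((i ⊗ₘ i) ≫ μ[G]) i (μ[H] ≫ f') (by
      rw [Category.assoc, hf', IsMonHom.mul_hom, tensorHom_comp_tensorHom_assoc, hf']))
    ⟨η[H] ≫ f', by rw [Category.assoc, hf', IsMonHom.one_hom]⟩
    (exists_lift_over f' (i ≫ ι[G]) i (ι[H] ≫ f') (by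
      rw [Category.assoc, hf', reassoc_of% hf', GrpObj.inv_hom]))
  have : IsMonHom (f' ≫ i) := by rw [hf']; infer_instance
  have := SubGrp.isMonHom_of_comp_mono f' i
  exact ⟨H', hG, i, f', hi, this, hf', inferInstance, hdom.ker_eq_bot, inferInstance,
    surjective_of_dominant f'⟩

end Groth.Agent.S3024
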