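import Groth.Statements.S3016
import Groth.Agent.Fdesc.GrpDimHom
import Groth.Agent.S3024
import Groth.Agent.Sga3C.DimTop
import Groth.Agent.Sga3B.AffineDimOne

set_option autoImplicit false
universe u
open CategoryTheory MonoidalCategory CartesianMonoidalCategory MonObj GrpObj AlgebraicGeometry TensorProduct
open SGA3

namespace Groth.Agent.S3016

open Groth.Agent.Fdesc.GrpDimHom

lemma isImmersion_one {S : Scheme.{u}} (H : Over S) [GrpObj H] :
    IsImmersion (η[H] : 𝟙_ (Over S) ⟶ H).left := by
  have h2 : (η[H] : 𝟙_ (Over S) ⟶ H).left ≫ H.hom = 𝟙 _ := Over.w (η[H] : 𝟙_ (Over S) ⟶ H)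
  have : IsImmersion ((η[H] : 𝟙_ (Over S) ⟶ H).left ≫ H.hom) := by rw [h2]; infer_instance
  exact IsImmersion.of_comp _ H.hom

lemma dim_range {X Y : Scheme.{u}} (j : X ⟶ Y) [IsImmersion j] :
    topologicalKrullDim X = topologicalKrullDim (Set.range j) :=
  IsHomeomorph.topologicalKrullDim_eq j.isEmbedding.toHomeomorph
    j.isEmbedding.toHomeomorph.isHomeomorph

lemma dim_image {X Y : Type*} [TopologicalSpace X] [TopologicalSpace Y] (φ : X ≃ₜ Y) (V : Set X) :
    topologicalKrullDim V = topologicalKrullDim (φ '' V) :=
  IsHomeomorph.topologicalKrullDim_eq (φ.image V) (φ.image V).isHomeomorph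

/-- SGA 3 VI_B 1.2: let A be a local artinian ring and u : G → H a quasi-compact homomorphism between group schemes locally of finite type over A. Then the image u(G) is a closed subset of H, and dim G = dim u(G) + dim Ker u (dimensions of the underlying topological spaces; Ker u is the fibre of u over the unit section). -/
theorem result (A : Type u) [CommRing A] [IsArtinianRing A] [IsLocalRing A]
    (G H : Over (Spec (CommRingCat.of A))) [GrpObj G] [GrpObj H] [LocallyOfFiniteType G.hom] [LocallyOfFiniteType H.hom]
    (u : G ⟶ H) [IsMonHom u] [QuasiCompact u.left] :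
    IsClosed (Set.range u.left.base) ∧
    topologicalKrullDim G.left =
      topologicalKrullDim (Set.range u.left.base) +
        topologicalKrullDim ↥(Limits.pullback u.left (η[H] : 𝟙_ (Over (Spec (CommRingCat.of A))) ⟶ H).left) := by
  let K := IsLocalRing.ResidueField A
  let g : Spec (CommRingCat.of K) ⟶ Spec (CommRingCat.of A) :=
    Spec.map (CommRingCat.ofHom (IsLocalRing.residue A))
  have hgc : IsClosedImmersion g :=
    IsClosedImmersion.spec_of_surjective _ IsLocalRing.residue_surjective
  have hsub : Subsingleton (Spec (CommRingCat.of A)) := by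
    have : Subsingleton (PrimeSpectrum A) := inferInstance
    exact this
  have hgs : Surjective g :=
    ⟨fun y => ⟨IsLocalRing.closedPoint K, Subsingleton.elim _ _⟩⟩
  let G' := (Over.pullback g).obj G
  let H' := (Over.pullback g).obj H
  let _ : GrpObj G' := Functor.grpObjObj
  let _ : GrpObj H' := Functor.grpObjObj
  let u' : G' ⟶ H' := (Over.pullback g).map u
  have hu' : IsMonHom u' := inferInstance
  let a : G'.left ⟶ G.left := Limits.pullback.fst G.hom g
  let b : H'.left ⟶ H.left := Limits.pullback.fst H.hom g
  have hac : IsClosedImmersion a := inferInstanceAs (IsClosedImmersion (Limits.pullback.fst G.hom g))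
  have hbc : IsClosedImmersion b := inferInstanceAs (IsClosedImmersion (Limits.pullback.fst H.hom g))
  have has : Surjective a := inferInstanceAs (Surjective (Limits.pullback.fst G.hom g))
  have hbs : Surjective b := inferInstanceAs (Surjective (Limits.pullback.fst H.hom g))
  have hpb : IsPullback u'.left a b u.left := by
    have := Groth.Agent.Sga3B.AffineDimOne.isPullback_lift u.left H.hom G.hom (Over.w u) g
    have e : u'.left = Limits.pullback.lift
      (Limits.pullback.fst G.hom g ≫ u.left) (Limits.pullback.snd G.hom g)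
      (by rw [Category.assoc, Over.w, Limits.pullback.condition]) := by
      simp [u']
    rw [e]
    exact this
  have hq : QuasiCompact u'.left := MorphismProperty.of_isPullback hpb.flip ‹_›
  have hlG : LocallyOfFiniteType G'.hom := by
    change LocallyOfFiniteType (Limits.pullback.snd G.hom g); infer_instance
  have hlH : LocallyOfFiniteType H'.hom := by
    change LocallyOfFiniteType (Limits.pullback.snd H.hom g); infer_instance
  let φ : H'.left ≃ₜ H.left := b.isEmbedding.toHomeomorphOfSurjective b.surjective
  let ψ : G'.left ≃ₜ G.left := a.isEmbedding.toHomeomorphOfSurjective a.surjective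
  have hw : ∀ x : G'.left, b (u'.left x) = u.left (a x) := fun x => by
    rw [← Scheme.Hom.comp_apply, hpb.w, Scheme.Hom.comp_apply]
  -- the image over the residue field
  have hc' : IsClosed (Set.range u'.left) := by
    obtain ⟨Z, _, i, f', -, -, h1, h2, -, -, h3⟩ := Groth.Agent.S3024.result K G' H' u'
    have : Set.range u'.left = Set.range i.left := by
      rw [← h1, Over.comp_left]
      ext y
      constructor
      · rintro ⟨x, rfl⟩
        exact ⟨f'.left x, (Scheme.Hom.comp_apply _ _ _).symm⟩
      · rintro ⟨z, rfl⟩
        obtain ⟨x, rfl⟩ := f'.left.surjective z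
        exact ⟨x, Scheme.Hom.comp_apply _ _ _⟩
    rw [this]
    exact i.left.isClosedEmbedding.isClosed_range
  have hrange : Set.range u.left = φ '' Set.range u'.left := by
    ext y
    constructor
    · rintro ⟨x, rfl⟩
      obtain ⟨x', rfl⟩ := a.surjective x
      exact ⟨u'.left x', ⟨x', rfl⟩, hw x'⟩
    · rintro ⟨_, ⟨x', rfl⟩, rfl⟩
      exact ⟨a x', (hw x').symm⟩
  have hcl : IsClosed (Set.range u.left) := by
    rw [hrange]
    exact φ.isClosedMap _ hc'
  refine ⟨hcl, ?_⟩
  have hdG : topologicalKrullDim G.left = topologicalKrullDim G'.left :=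
    (Groth.Agent.Sga3C.DimTop.topologicalKrullDim_eq_of_isIntegralHom a).symm
  have hdI : topologicalKrullDim (Set.range u.left) = topologicalKrullDim (Set.range u'.left) := by
    rw [hrange]
    exact (dim_image φ _).symm
  have i1 := isImmersion_one H
  have i2 := isImmersion_one H'
  have hdK : topologicalKrullDim
      ↥(Limits.pullback u.left (η[H] : 𝟙_ (Over (Spec (CommRingCat.of A))) ⟶ H).left) =
      topologicalKrullDim (Groth.Agent.Fdesc.GrpDimHom.ker u').left := by
    have h1 := dim_range (Limits.pullback.fst u.left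
      (η[H] : 𝟙_ (Over (Spec (CommRingCat.of A))) ⟶ H).left)
    have h2 := dim_range (Limits.pullback.fst u'.left
      (η[H'] : 𝟙_ (Over (Spec (CommRingCat.of K))) ⟶ H').left)
    -- the unit sections
    have hone : ∀ s : (𝟙_ (Over (Spec (CommRingCat.of K)))).left,
        b ((η[H'] : 𝟙_ (Over (Spec (CommRingCat.of K))) ⟶ H').left s) =
        (η[H] : 𝟙_ (Over (Spec (CommRingCat.of A))) ⟶ H).left (IsLocalRing.closedPoint A) := by
      intro s
      have e1 : (η[H'] : 𝟙_ (Over (Spec (CommRingCat.of K))) ⟶ H') =
          Functor.LaxMonoidal.ε (Over.pullback g) ≫ (Over.pullback g).map η[H] :=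
        Functor.obj.η_def _
      have e2 : ((Over.pullback g).map (η[H] : 𝟙_ (Over (Spec (CommRingCat.of A))) ⟶ H)).left ≫ b =
          Limits.pullback.fst _ _ ≫ (η[H] : 𝟙_ (Over (Spec (CommRingCat.of A))) ⟶ H).left := by
        simp only [b, Over.pullback_map_left]
        exact Limits.pullback.lift_fst _ _ _
      rw [e1, Over.comp_left, Scheme.Hom.comp_apply, ← Scheme.Hom.comp_apply _ b, e2,
        Scheme.Hom.comp_apply]
      congr 1
      exact hsub.elim _ _
    have hr1 : Set.range (η[H] : 𝟙_ (Over (Spec (CommRingCat.of A))) ⟶ H).left =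
        {(η[H] : 𝟙_ (Over (Spec (CommRingCat.of A))) ⟶ H).left (IsLocalRing.closedPoint A)} := by
      ext y
      constructor
      · rintro ⟨z, rfl⟩
        have : z = IsLocalRing.closedPoint A := hsub.elim z (IsLocalRing.closedPoint A)
        rw [this]; rfl
      · rintro rfl
        exact ⟨_, rfl⟩
    have hR : Set.range (Limits.pullback.fst u.left
        (η[H] : 𝟙_ (Over (Spec (CommRingCat.of A))) ⟶ H).left) =
      ψ '' Set.range (Limits.pullback.fst u'.left
        (η[H'] : 𝟙_ (Over (Spec (CommRingCat.of K))) ⟶ H').left) := by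
      rw [Scheme.Pullback.range_fst, Scheme.Pullback.range_fst, hr1]
      ext x
      constructor
      · intro hx
        obtain ⟨x', rfl⟩ := a.surjective x
        refine ⟨x', ?_, rfl⟩
        have hx' : u.left (a x') = _ := hx
        rw [← hw, ← hone (IsLocalRing.closedPoint K)] at hx'
        exact ⟨_, (b.isEmbedding.injective hx').symm⟩
      · rintro ⟨x', ⟨s, hs⟩, rfl⟩
        change u.left (a x') = _
        rw [← hw, ← hs, hone]
    rw [h1, hR]
    exact (dim_image ψ _).symm.trans h2.symm
  rw [hdK]
  change topologicalKrullDim G.left = topologicalKrullDim (Set.range u.left) + _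
  rw [hdG, hdI]
  exact dim_eq u' hc'

end Groth.Agent.S3016
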