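import Groth.Statements.S3019
import Groth.Agent.Sga3C.LineStab

set_option autoImplicit false
universe u
open CategoryTheory MonoidalCategory CartesianMonoidalCategory MonObj GrpObj AlgebraicGeometry TensorProduct
open SGA3

namespace Groth.Agent.S3019

open Groth.Agent.Sga3C.MatComod Groth.Agent.Sga3C.LineStab

/-- Two elements of `(κ → k) ⊗ R` in coordinates. -/
lemma sum_single_tmul_inj {k : Type u} [Field k] {R : Type u} [CommRing R] [Algebra k R]
    {κ : Type} [Fintype κ] [DecidableEq κ] (x y : κ → R)
    (h : ∑ f, (Pi.single f (1 : k) : κ → k) ⊗ₜ[k] x f =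
      ∑ f, (Pi.single f (1 : k) : κ → k) ⊗ₜ[k] y f) : x = y := by
  funext f
  have h2 := congrArg (fun t => TensorProduct.lid k R
    (LinearMap.rTensor R (LinearMap.proj f : (κ → k) →ₗ[k] k) t)) h
  simpa [map_sum, Pi.single_apply] using h2

/-- The coaction attached to a matrix, pushed to an `R`-point. -/
lemma lTensor_coactOf {k : Type u} [Field k] {A : Type u} [CommRing A] [HopfAlgebra k A]
    {R : Type u} [CommRing R] [Algebra k R]
    {κ : Type} [Fintype κ] [DecidableEq κ] (b : κ → κ → A) (g : A →ₐ[k] R) (v : κ → k) :
    LinearMap.lTensor (κ → k) g.toLinearMap (coactOf k b v) =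
      ∑ f, (Pi.single f (1 : k) : κ → k) ⊗ₜ[k] (∑ h, algebraMap k R (v h) * g (b f h)) := by
  rw [coactOf_apply, map_sum]
  refine Finset.sum_congr rfl fun f _ => ?_
  rw [LinearMap.lTensor_tmul]
  congr 1
  simp [map_sum, Algebra.smul_def]

lemma tmul_eq_sum {k : Type u} [Field k] {R : Type u} [CommRing R] [Algebra k R]
    {κ : Type} [Fintype κ] [DecidableEq κ] (v : κ → k) (c : R) :
    v ⊗ₜ[k] c = ∑ f, (Pi.single f (1 : k) : κ → k) ⊗ₜ[k] (algebraMap k R (v f) * c) := by
  have hv : v = ∑ j, v j • (Pi.single j (1 : k) : κ → k) := by
    ext i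
    simp [Finset.sum_apply, Pi.single_apply]
  conv_lhs => rw [hv]
  rw [TensorProduct.sum_tmul]
  refine Finset.sum_congr rfl fun f _ => ?_
  rw [TensorProduct.smul_tmul, Algebra.smul_def]

/-- SGA 3 VI_B Thm. 11.16 (Hopf form): let A be a finitely generated commutative Hopf algebra over a field k (an affine algebraic k-group G) and I a Hopf ideal (a closed subgroup scheme H). Then there are a finite-dimensional A-comodule V and a nonzero vector v ∈ V such that, for every k-algebra R, an R-point of G kills I exactly when it carries v to an R-multiple of v: H is the stabilizer of the line through v. -/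
theorem result (k : Type u) [Field k] (A : Type u) [CommRing A] [HopfAlgebra k A]
    [Algebra.FiniteType k A] (I : Ideal A) [I.IsHopfIdeal k] :
    ∃ (V : Type u) (_ : AddCommGroup V) (_ : Module k V) (_ : HopfRep.Comod k A V) (_ : Module.Finite k V) (v : V),
      v ≠ 0 ∧ Dyn.Represents k A I (fun R _ _ g => SGA3.StabilizesLine k A v R g) := by
  classical
  have : IsNoetherianRing A := Algebra.FiniteType.isNoetherianRing k A
  obtain ⟨d, m, w, a, ha, hcom, hcou, hspan, haI⟩ :=
    Groth.Agent.Sga3C.Chevalley.exists_adapted k A I (IsNoetherian.noetherian I)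
  have hw : ∀ j, w (Sum.inl j) ∈ I := fun j => by
    rw [hspan]
    exact Ideal.subset_span ⟨j, rfl⟩
  refine ⟨(Fin d → Fin d ⊕ Fin m) → k, inferInstance, inferInstance,
    (ha.tensorPow (κ := Fin d)).comod, inferInstance, alt k d m, ?_, ?_⟩
  · intro h
    have := congrFun h (fun i => Sum.inl i)
    rw [alt_inl] at this
    exact one_ne_zero this
  · intro R _ _ g
    -- the condition in terms of the matrix
    let _ : HopfRep.Comod k A ((Fin d → Fin d ⊕ Fin m) → k) := (ha.tensorPow (κ := Fin d)).comod
    have key : SGA3.StabilizesLine k A (V := (Fin d → Fin d ⊕ Fin m) → k) (alt k d m) R g ↔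
        ∃ c : R, ∀ f, minor (fun i j => g (a i j)) f = alt R d m f * c := by
      unfold SGA3.StabilizesLine
      refine exists_congr fun c => ?_
      have e1 : LinearMap.lTensor ((Fin d → Fin d ⊕ Fin m) → k) g.toLinearMap
          (HopfRep.Comod.coact (k := k) (A := A) (alt k d m)) =
          ∑ f, (Pi.single f (1 : k) : (Fin d → Fin d ⊕ Fin m) → k) ⊗ₜ[k]
            minor (fun i j => g (a i j)) f := by
        refine (lTensor_coactOf _ g (alt k d m)).trans ?_
        refine Finset.sum_congr rfl fun f _ => ?_
        congr 1
        rw [minor_eq]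
        refine Finset.sum_congr rfl fun h _ => ?_
        rw [algebraMap_alt, map_prod]
      rw [e1, tmul_eq_sum]
      constructor
      · intro h f
        have := congrFun (sum_single_tmul_inj _ _ h) f
        rw [this, algebraMap_alt]
      · intro h
        refine Finset.sum_congr rfl fun f _ => ?_
        rw [h, algebraMap_alt]
    refine Iff.trans ?_ key.symm
    constructor
    · intro hg
      refine ⟨minor (fun i j => g (a i j)) (fun i => Sum.inl i), fun f => ?_⟩
      exact minor_of_block _ (fun i j => hg _ (haI i j)) f
    · rintro ⟨c, hc⟩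
      have hNM : ∀ i j, ∑ l, g (HopfAlgebraStruct.antipode (R := k) (a i l)) * g (a l j) =
          if i = j then 1 else 0 := by
        intro i j
        have h1 := HopfAlgebra.mul_antipode_rTensor_comul_apply (R := k) (a i j)
        rw [ha.comul, ha.counit] at h1
        simp only [map_sum, LinearMap.rTensor_tmul, LinearMap.mul'_apply] at h1
        have h2 := congrArg g h1
        simp only [map_sum, map_mul] at h2
        rw [h2]
        split_ifs <;> simp
      have hblock := block_of_minor (fun i j => g (a i j))
        (fun i j => g (HopfAlgebraStruct.antipode (R := k) (a i j))) hNM c hc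
      have hgw : ∀ j, g (w (Sum.inl j)) = 0 := by
        intro j
        rw [hcou (Sum.inl j), map_sum, Fintype.sum_sum_type]
        have hε : ∀ i, CoalgebraStruct.counit (R := k) (w (Sum.inl i)) = 0 := fun i =>
          Submodule.IsCoideal.counit_eq_zero (I := I.restrictScalars k) (hw i)
        simp only [hε, zero_smul, map_zero, Finset.sum_const_zero, map_smul, hblock, smul_zero,
          add_zero]
      intro x hx
      rw [hspan] at hx
      have h3 : Ideal.span (Set.range fun j => w (Sum.inl j)) ≤ RingHom.ker g := by
        rw [Ideal.span_le]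
        rintro _ ⟨j, rfl⟩
        exact hgw j
      exact h3 hx

end Groth.Agent.S3019
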