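import Groth.Statements.S3020
import Groth.Agent.Sga3C.AffinizationGrp
import Groth.Agent.S3015
import Mathlib.AlgebraicGeometry.Morphisms.IsIso

set_option autoImplicit false
universe u
open CategoryTheory MonoidalCategory CartesianMonoidalCategory MonObj GrpObj AlgebraicGeometry TensorProduct
open SGA3

namespace Groth.Agent.S3020

/-- SGA 3 VI_B Prop. 11.11, (ii) implies (i): let G be a group scheme of finite type over a field k whose underlying scheme is quasi-affine (a quasi-compact open subscheme of an affine scheme). Then G is affine. -/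
theorem result (k : Type u) [Field k] (G : Over (Spec (CommRingCat.of k))) [GrpObj G]
    [LocallyOfFiniteType G.hom] [QuasiCompact G.hom] [G.left.IsQuasiAffine] : IsAffine G.left := by
  have ha := Groth.Agent.Sga3C.Affinization.isAffinization_toAff G
  obtain ⟨Gr, hmon⟩ := Groth.Agent.Sga3C.AffinizationGrp.exists_grpObj ha
  have hop : IsOpenImmersion (Groth.Agent.Sga3C.Affinization.toAff G).left := inferInstanceAs (IsOpenImmersion G.left.toSpecΓ)
  have hdom : IsDominant (Groth.Agent.Sga3C.Affinization.toAff G).left := inferInstanceAs (IsDominant G.left.toSpecΓ)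
  have hdense : Dense ((Groth.Agent.Sga3C.Affinization.toAff G).left.opensRange : Set (Groth.Agent.Sga3C.Affinization.affOver G).left) := hdom.1
  have hsurj : Surjective (Groth.Agent.Sga3C.Affinization.toAff G).left := by
    refine ⟨fun g => ?_⟩
    obtain ⟨z, hz1, hz2, hz3⟩ := Groth.Agent.S3015.result k (Groth.Agent.Sga3C.Affinization.affOver G) _ _ hdense hdense g
    obtain ⟨w, hw⟩ : z ∈ Set.range (Groth.Agent.Sga3C.Affinization.toAff G ⊗ₘ Groth.Agent.Sga3C.Affinization.toAff G).left := by
      rw [Over.tensorHom_left, Scheme.Pullback.range_map]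
      exact ⟨hz1, hz2⟩
    refine ⟨(μ[G]).left w, ?_⟩
    have h : (μ[G] ≫ Groth.Agent.Sga3C.Affinization.toAff G).left.base w = ((Groth.Agent.Sga3C.Affinization.toAff G ⊗ₘ Groth.Agent.Sga3C.Affinization.toAff G) ≫ μ[Groth.Agent.Sga3C.Affinization.affOver G]).left.base w := by
      rw [IsMonHom.mul_hom (Groth.Agent.Sga3C.Affinization.toAff G)]
    rw [← hz3, ← hw]
    exact h
  have : IsIso (Groth.Agent.Sga3C.Affinization.toAff G).left := by
    rw [isIso_iff_isOpenImmersion_and_surjective]
    exact ⟨hop, hsurj⟩
  have := ha.isAffine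
  exact IsAffine.of_isIso (Groth.Agent.Sga3C.Affinization.toAff G).left

end Groth.Agent.S3020
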