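import Groth.Statements.S3021
import Mathlib.LinearAlgebra.TensorProduct.Finiteness
import Mathlib.LinearAlgebra.TensorProduct.RightExactness
import Mathlib.LinearAlgebra.DirectSum.Finsupp
import Mathlib.Algebra.Module.Projective

set_option autoImplicit false
universe u
open CategoryTheory MonoidalCategory CartesianMonoidalCategory MonObj GrpObj AlgebraicGeometry TensorProduct
open SGA3

namespace Groth.Agent.S3021

section

open scoped Classical

variable {A : Type u} [CommRing A] {C : Type u} [AddCommGroup C] [Module A C]
variable (s : C →ₗ[A] C →₀ A)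

/-- coordinates of an element of `U ⊗ C` with respect to a dual basis of `C`. -/
noncomputable def Phi (U : Type u) [AddCommGroup U] [Module A U] : U ⊗[A] C →ₗ[A] (C →₀ U) :=
  (TensorProduct.finsuppScalarRight A A U C).toLinearMap ∘ₗ s.lTensor U

lemma Phi_tmul {U : Type u} [AddCommGroup U] [Module A U] (m : U) (c : C) (x : C) :
    Phi s U (m ⊗ₜ[A] c) x = s c x • m := by
  simp [Phi]

lemma Phi_map {U U' : Type u} [AddCommGroup U] [Module A U] [AddCommGroup U'] [Module A U']
    (f : U →ₗ[A] U') (z : U ⊗[A] C) (x : C) :
    Phi s U' (f.rTensor C z) x = f (Phi s U z x) := by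
  induction z using TensorProduct.induction_on with
  | zero => simp
  | tmul m c => rw [LinearMap.rTensor_tmul, Phi_tmul, Phi_tmul, map_smul]
  | add a b ha hb => simp only [map_add, Finsupp.add_apply, ha, hb]

lemma Phi_injective (hs : Function.LeftInverse (Finsupp.linearCombination A id) s)
    {U : Type u} [AddCommGroup U] [Module A U] (z : U ⊗[A] C) (hz : ∀ x, Phi s U z x = 0) : z = 0 := by
  have h0 : Phi s U z = 0 := Finsupp.ext hz
  have h1 : s.lTensor U z = 0 := by
    exact (TensorProduct.finsuppScalarRight A A U C).map_eq_zero_iff.mp h0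
  have h2 : (Finsupp.linearCombination A (id : C → C)).lTensor U (s.lTensor U z) = z := by
    rw [← LinearMap.comp_apply, ← LinearMap.lTensor_comp]
    have : (Finsupp.linearCombination A (id : C → C)) ∘ₗ s = LinearMap.id := LinearMap.ext hs
    rw [this, LinearMap.lTensor_id, LinearMap.id_apply]
  rw [← h2, h1, map_zero]

lemma mem_range_iff (hs : Function.LeftInverse (Finsupp.linearCombination A id) s)
    {U : Type u} [AddCommGroup U] [Module A U] (W : Submodule A U) (z : U ⊗[A] C) :
    z ∈ LinearMap.range (W.subtype.rTensor C) ↔ ∀ x, Phi s U z x ∈ W := by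
  constructor
  · rintro ⟨z', rfl⟩ x
    rw [Phi_map]
    exact (Phi s W z' x).2
  · intro h
    have hex : Function.Exact (W.subtype.rTensor C) (W.mkQ.rTensor C) :=
      rTensor_exact C (LinearMap.exact_subtype_mkQ W) (Submodule.mkQ_surjective W)
    refine (hex z).1 (Phi_injective s hs _ fun x => ?_)
    rw [Phi_map]
    simpa using h x

variable [Coalgebra A C] (V : Type u) [AddCommGroup V] [Module A V] [HopfRep.Comod A C V]

/-- the operator `T_x = (id ⊗ φ_x) ∘ c` -/
noncomputable def T (x : C) : V →ₗ[A] V :=
  Finsupp.lapply x ∘ₗ Phi s V ∘ₗ HopfRep.Comod.coact (k := A) (A := C)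

/-- the operator `(id ⊗ φ_x) ∘ Δ` on `C`. -/
noncomputable def h (x : C) : C →ₗ[A] C :=
  Finsupp.lapply x ∘ₗ Phi s C ∘ₗ CoalgebraStruct.comul (R := A) (A := C)

lemma coact_T (x : C) (v : V) :
    HopfRep.Comod.coact (k := A) (A := C) (T s V x v) =
      (h s x).lTensor V (HopfRep.Comod.coact (k := A) (A := C) v) := by
  have h1 : ∀ z : V ⊗[A] C,
      HopfRep.Comod.coact (k := A) (A := C) (Phi s V z x) =
      Phi s (V ⊗[A] C) ((HopfRep.Comod.coact (k := A) (A := C)).rTensor C z) x := by
    intro z
    rw [Phi_map]
  have h2 : (TensorProduct.assoc A V C C)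
      ((HopfRep.Comod.coact (k := A) (A := C)).rTensor C (HopfRep.Comod.coact (k := A) (A := C) v)) =
        (CoalgebraStruct.comul (R := A) (A := C)).lTensor V (HopfRep.Comod.coact (k := A) (A := C) v) :=
      LinearMap.congr_fun (HopfRep.Comod.coassoc (k := A) (A := C) (V := V)) v
  have h3 : ∀ (v : V) (w : C ⊗[A] C),
      Phi s (V ⊗[A] C) ((TensorProduct.assoc A V C C).symm (v ⊗ₜ[A] w)) x = v ⊗ₜ[A] (Phi s C w x) := by
    intro v w
    induction w using TensorProduct.induction_on with
    | zero => simp
    | tmul m c => rw [TensorProduct.assoc_symm_tmul, Phi_tmul, Phi_tmul, TensorProduct.tmul_smul]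
    | add a b ha hb =>
      simp only [map_add, TensorProduct.tmul_add, Finsupp.add_apply, ha, hb]
  have h4 : ∀ z : V ⊗[A] C,
      Phi s (V ⊗[A] C) ((TensorProduct.assoc A V C C).symm
        ((CoalgebraStruct.comul (R := A) (A := C)).lTensor V z)) x = (h s x).lTensor V z := by
    intro z
    induction z using TensorProduct.induction_on with
    | zero => simp
    | tmul m c => rw [LinearMap.lTensor_tmul, h3, LinearMap.lTensor_tmul]; rfl
    | add a b ha hb => simp only [map_add, Finsupp.add_apply, ha, hb]
  have h5 : HopfRep.Comod.coact (k := A) (A := C) (T s V x v) =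
      HopfRep.Comod.coact (k := A) (A := C) (Phi s V (HopfRep.Comod.coact (k := A) (A := C) v) x) := rfl
  rw [h5, h1, ← h4, ← h2, LinearEquiv.symm_apply_apply]

end

/-- SGA 3 VI_B Lemma 11.8: let A be a commutative ring, C an A-coalgebra which is projective as an A-module, V a C-comodule and M an A-submodule of V. Then there is a smallest subcomodule of V containing M, and it is finitely generated over A when M is. -/
theorem result (A : Type u) [CommRing A] (C : Type u) [AddCommGroup C] [Module A C]
    [Coalgebra A C] [Module.Projective A C] (V : Type u) [AddCommGroup V] [Module A V] [HopfRep.Comod A C V]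
    (M : Submodule A V) :
    ∃ W : Submodule A V, HopfRep.IsSubcomod (k := A) (A := C) W ∧ M ≤ W ∧
      (∀ W' : Submodule A V, HopfRep.IsSubcomod (k := A) (A := C) W' → M ≤ W' → W ≤ W') ∧
      (M.FG → W.FG) := by
  classical
  obtain ⟨s, hs⟩ := Module.projective_def.mp (inferInstance : Module.Projective A C)
  have hTmem : ∀ (W : Submodule A V) (v : V),
      HopfRep.Comod.coact (k := A) (A := C) v ∈ LinearMap.range (W.subtype.rTensor C) ↔
        ∀ x, T s V x v ∈ W := fun W v => mem_range_iff s hs W _
  set W : Submodule A V := ⨆ x : C, M.map (T s V x) with hW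
  have hMT : ∀ m ∈ M, ∀ x, T s V x m ∈ W := fun m hm x =>
    (le_iSup (fun x : C => M.map (T s V x)) x) (Submodule.mem_map_of_mem hm)
  refine ⟨W, ?_, ?_, ?_, ?_⟩
  · -- subcomodule
    have : W ≤ (LinearMap.range (W.subtype.rTensor C)).comap
        (HopfRep.Comod.coact (k := A) (A := C) (V := V)) := by
      rw [hW]
      refine iSup_le fun x => ?_
      rintro _ ⟨m, hm, rfl⟩
      rw [← hW, Submodule.mem_comap, coact_T]
      obtain ⟨z, hz⟩ := (hTmem W m).2 (hMT m hm)
      refine ⟨(h s x).lTensor W z, ?_⟩
      rw [← hz]
      have e1 := LinearMap.rTensor_comp_lTensor (R := A) (f := W.subtype) (g := h s x)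
      have e2 := LinearMap.lTensor_comp_rTensor (R := A) (f := W.subtype) (g := h s x)
      exact LinearMap.congr_fun (e1.trans e2.symm) z
    exact this
  · intro m hm
    obtain ⟨z, hz⟩ := (hTmem W m).2 (hMT m hm)
    have h1 : ((CoalgebraStruct.counit (R := A) (A := C)).lTensor V)
        (HopfRep.Comod.coact (k := A) (A := C) m) = m ⊗ₜ[A] (1 : A) :=
      LinearMap.congr_fun (HopfRep.Comod.counit_comp (k := A) (A := C) (V := V)) m
    have e1 := LinearMap.rTensor_comp_lTensor (R := A) (f := W.subtype)
      (g := CoalgebraStruct.counit (R := A) (A := C))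
    have e2 := LinearMap.lTensor_comp_rTensor (R := A) (f := W.subtype)
      (g := CoalgebraStruct.counit (R := A) (A := C))
    have h2 := LinearMap.congr_fun (e1.trans e2.symm) z
    simp only [LinearMap.comp_apply] at h2
    rw [hz, h1] at h2
    have h3 : (TensorProduct.rid A V) ((W.subtype.rTensor A)
        ((CoalgebraStruct.counit (R := A) (A := C)).lTensor W z)) = m := by
      rw [h2, TensorProduct.rid_tmul, one_smul]
    have h4 : ∀ y : W ⊗[A] A, (TensorProduct.rid A V) ((W.subtype.rTensor A) y) ∈ W := by
      intro y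
      induction y using TensorProduct.induction_on with
      | zero => simp
      | tmul w a =>
        rw [LinearMap.rTensor_tmul, TensorProduct.rid_tmul]
        exact W.smul_mem _ w.2
      | add a b ha hb => simp only [map_add]; exact W.add_mem ha hb
    rw [← h3]
    exact h4 _
  · intro W' hW' hMW'
    rw [hW]
    refine iSup_le fun x => ?_
    rintro _ ⟨m, hm, rfl⟩
    exact (hTmem W' m).1 (hW' m (hMW' hm)) x
  · rintro ⟨S, hS⟩
    have hfin : (⋃ m ∈ S, Set.range fun x => T s V x m).Finite := by
      refine Set.Finite.biUnion S.finite_toSet fun m _ => ?_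
      exact Finsupp.finite_range (Phi s V (HopfRep.Comod.coact (k := A) (A := C) m))
    have : W = Submodule.span A (⋃ m ∈ S, Set.range fun x => T s V x m) := by
      apply le_antisymm
      · rw [hW]
        refine iSup_le fun x => ?_
        rw [← hS, Submodule.map_span, Submodule.span_le]
        rintro _ ⟨m, hm, rfl⟩
        apply Submodule.subset_span
        simp only [Set.mem_iUnion]
        exact ⟨m, hm, x, rfl⟩
      · rw [Submodule.span_le]
        intro y hy
        simp only [Set.mem_iUnion] at hy
        obtain ⟨m, hm, x, rfl⟩ := hy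
        exact hMT m (hS ▸ Submodule.subset_span hm) x
    rw [this]
    exact Submodule.fg_span hfin

end Groth.Agent.S3021
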