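import Groth.Statements.S3023
-- import your own Groth.Agent.* helpers here
import Groth.Agent.Sga3C.ClosedSub
import Groth.Agent.Sga3C.FlatClosed
import Groth.Agent.Fdesc.GeomConn

set_option autoImplicit false
universe u
open CategoryTheory MonoidalCategory CartesianMonoidalCategory MonObj GrpObj AlgebraicGeometry TensorProduct
open SGA3

namespace Groth.Agent.S3023

open Groth.Agent.Sga3C.ClosedSub Groth.Agent.Sga3C.FlatClosed

section

variable {k : Type u} [Field k]

lemma stableUnderGeneralization_connectedComponent {X : Type*} [TopologicalSpace X] (x : X) :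
    StableUnderGeneralization (connectedComponent x) := by
  intro y z h hy
  have h1 : _root_.IsPreconnected (closure {z}) := isPreconnected_singleton.closure
  have h2 : y ∈ closure {z} := h.mem_closure
  have h3 := h1.subset_connectedComponent h2 (subset_closure rfl)
  rwa [connectedComponent_eq hy]

lemma geometricallyConnected_of_point {X : Scheme.{u}} [ConnectedSpace X]
    (f : X ⟶ Spec (CommRingCat.of k)) (e : Spec (CommRingCat.of k) ⟶ X) (he : e ≫ f = 𝟙 _) :
    GeometricallyConnected f := by
  have : GeometricallyConnected (e ≫ f) := by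
    rw [he]
    refine ⟨fun K _ y Z fst snd h ↦ ?_⟩
    have : IsIso snd := h.isIso_snd_of_isIso
    exact (asIso snd).hom.homeomorph.connectedSpace_iff.mpr inferInstance
  exact Groth.Agent.Fdesc.GeomConn.geometricallyConnected_of_hom f e

end

/-- SGA 3 VI_A Thm. 2.6.5 (i), (ii): let G be a group scheme over a field k (not necessarily locally of finite type). There is a subgroup scheme G⁰ of G whose inclusion is a flat closed immersion (the local rings of G⁰ are those of G) and whose underlying space is the irreducible component of the identity point, which by (iii) of 2.6.5 and 2.6.6 (i) is also its connected component (the form used here). -/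
theorem result (k : Type u) [Field k] (G : Over (Spec (CommRingCat.of k))) [GrpObj G] :
    ∃ (G0 : Over (Spec (CommRingCat.of k))) (_ : GrpObj G0) (i : G0 ⟶ G), IsMonHom i ∧ IsClosedImmersion i.left ∧ Flat i.left ∧
      (∀ pt : ↥(𝟙_ (Over (Spec (CommRingCat.of k)))).left, Set.range i.left.base = connectedComponent (η[G].left.base pt)) := by
  let pt : ↥(𝟙_ (Over (Spec (CommRingCat.of k)))).left := IsLocalRing.closedPoint k
  have hpt : ∀ q : ↥(𝟙_ (Over (Spec (CommRingCat.of k)))).left, q = pt := fun q ↦
    Subsingleton.elim (α := ↥(Spec (CommRingCat.of k))) _ _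
  let e : G.left := η[G].left pt
  have hC : IsClosed (connectedComponent e) := isClosed_connectedComponent
  have hg := stableUnderGeneralization_connectedComponent e
  let I := flatIdeal hC hg
  let Z := sub G I
  let i : Z ⟶ G := subι G I
  have hrange : Set.range i.left = connectedComponent e := range_subschemeι_flatIdeal hC hg
  have hfac : ∀ {T : Over (Spec (CommRingCat.of k))} (g : T ⟶ G),
      Set.range g.left ⊆ connectedComponent e → ∃ g' : T ⟶ Z, g' ≫ i = g := by
    intro T g hT
    rw [over_factors_iff, ker_subι]
    exact flatIdeal_le_ker hC hg g.left hT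
  have hconn : ∀ {T : Over (Spec (CommRingCat.of k))} (g : T ⟶ G) [ConnectedSpace T.left] (t : T.left)
      (ht : g.left t = e), ∃ g' : T ⟶ Z, g' ≫ i = g := by
    intro T g _ t ht
    apply hfac
    have h1 : _root_.IsPreconnected (Set.range g.left) := isPreconnected_range g.left.continuous
    exact h1.subset_connectedComponent (ht ▸ ⟨t, rfl⟩)
  obtain ⟨e', he'⟩ : ∃ e' : 𝟙_ _ ⟶ Z, e' ≫ i = η[G] := by
    apply hfac
    rintro _ ⟨q, rfl⟩
    rw [hpt q]
    exact mem_connectedComponent
  have hZ : ConnectedSpace Z.left := by
    rw [connectedSpace_iff_univ]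
    refine ⟨⟨e'.left pt, trivial⟩, ?_⟩
    rw [← i.left.isEmbedding.isInducing.isPreconnected_image, Set.image_univ, hrange]
    exact isPreconnected_connectedComponent
  have hZg : GeometricallyConnected Z.hom := by
    refine geometricallyConnected_of_point Z.hom e'.left ?_
    exact Over.w e'
  have hZZ : ConnectedSpace (Z ⊗ Z).left := by
    change ConnectedSpace ↥(Limits.pullback Z.hom Z.hom)
    infer_instance
  obtain ⟨hGZ, hi⟩ : ∃ _ : GrpObj Z, IsMonHom i := by
    apply exists_grpObj_of_mono
    · exact ⟨e', he'⟩
    · refine hconn ((i ⊗ₘ i) ≫ μ[G]) ((lift e' e').left pt) ?_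
      have h1 : lift e' e' ≫ (i ⊗ₘ i) ≫ μ[G] = η[G] := by
        rw [lift_map_assoc, he']
        change η[G] * η[G] = η[G]
        rw [MonObj.one_eq_one, _root_.mul_one]
      change ((lift e' e').left ≫ ((i ⊗ₘ i) ≫ μ[G]).left) pt = e
      rw [← Over.comp_left, h1]
    · refine hconn (i ≫ ι[G]) (e'.left pt) ?_
      have h1 : e' ≫ i ≫ ι[G] = η[G] := by
        rw [reassoc_of% he', GrpObj.one_inv]
      change (e'.left ≫ (i ≫ ι[G]).left) pt = e
      rw [← Over.comp_left, h1]
  refine ⟨Z, hGZ, i, hi, inferInstance, ?_, ?_⟩
  · exact flat_subschemeι_flatIdeal hC hg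
  · intro q
    rw [hpt q]
    exact hrange

end Groth.Agent.S3023
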