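import Groth.Statements.S3028
-- import your own Groth.Agent.* helpers here
import Groth.Agent.Sga3C.ClosedSub
import Groth.Agent.Sga3C.GeomRed

set_option autoImplicit false
universe u
open CategoryTheory MonoidalCategory CartesianMonoidalCategory MonObj GrpObj AlgebraicGeometry TensorProduct
open SGA3

namespace Groth.Agent.S3028

open Groth.Agent.Sga3C.ClosedSub Groth.Agent.Sga3C.GeomRed

section

variable {k : Type u} [Field k]

lemma geometricallyReduced_tensor (X Y : Over (Spec (CommRingCat.of k)))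
    [GeometricallyReduced X.hom] [GeometricallyReduced Y.hom] :
    GeometricallyReduced (X ⊗ Y).hom :=
  geometricallyReduced_pullback X.hom Y.hom

/-- the ideal sheaf of the smallest closed subgroup scheme through which `f` factors -/
noncomputable def minIdeal {G X : Over (Spec (CommRingCat.of k))} [GrpObj G] (f : X ⟶ G) :
    G.left.IdealSheafData :=
  sSup {I | ∃ (Γ' : Over (Spec (CommRingCat.of k))) (_ : GrpObj Γ') (i' : Γ' ⟶ G),
    IsMonHom i' ∧ IsClosedImmersion i'.left ∧ (∃ f'' : X ⟶ Γ', f'' ≫ i' = f) ∧ I = i'.left.ker}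

lemma factors_minIdeal_iff {G X T : Over (Spec (CommRingCat.of k))} [GrpObj G] (f : X ⟶ G)
    (g : T ⟶ G) :
    (∃ g' : T ⟶ sub G (minIdeal f), g' ≫ subι G (minIdeal f) = g) ↔
      ∀ (Γ' : Over (Spec (CommRingCat.of k))) (_ : GrpObj Γ') (i' : Γ' ⟶ G),
        IsMonHom i' → IsClosedImmersion i'.left → (∃ f'' : X ⟶ Γ', f'' ≫ i' = f) →
          ∃ g'' : T ⟶ Γ', g'' ≫ i' = g := by
  rw [over_factors_iff, ker_subι, minIdeal, sSup_le_iff]
  constructor
  · intro H Γ' _ i' h1 h2 h3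
    rw [over_factors_iff]
    exact H _ ⟨Γ', _, i', h1, h2, h3, rfl⟩
  · rintro H _ ⟨Γ', _, i', h1, h2, h3, rfl⟩
    rw [← over_factors_iff]
    exact H Γ' _ i' h1 h2 h3

end

/-- SGA 3 VI_B Prop. 7.1 (i): let G be a group scheme over a field k, X a geometrically reduced k-scheme and f : X → G a k-morphism. Then among the closed subgroup schemes of G through which f factors there is a smallest one, and it is geometrically reduced over k. -/
theorem result (k : Type u) [Field k] (G X : Over (Spec (CommRingCat.of k))) [GrpObj G]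
    [GeometricallyReduced X.hom] (f : X ⟶ G) :
    ∃ (Γ : Over (Spec (CommRingCat.of k))) (_ : GrpObj Γ) (i : Γ ⟶ G), IsMonHom i ∧ IsClosedImmersion i.left ∧
      (∃ f' : X ⟶ Γ, f' ≫ i = f) ∧ GeometricallyReduced Γ.hom ∧
      ∀ (Γ' : Over (Spec (CommRingCat.of k))) (_ : GrpObj Γ') (i' : Γ' ⟶ G), IsMonHom i' → IsClosedImmersion i'.left →
        (∃ f'' : X ⟶ Γ', f'' ≫ i' = f) → ∃ j : Γ ⟶ Γ', j ≫ i' = i := by
  -- the intersection `G₁` of all closed subgroups through which `f` factors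
  let G₁ := sub G (minIdeal f)
  let i₁ : G₁ ⟶ G := subι G (minIdeal f)
  have hmin : ∀ (Γ' : Over (Spec (CommRingCat.of k))) (_ : GrpObj Γ') (i' : Γ' ⟶ G), IsMonHom i' →
      IsClosedImmersion i'.left → (∃ f'' : X ⟶ Γ', f'' ≫ i' = f) → ∃ j : G₁ ⟶ Γ', j ≫ i' = i₁ :=
    (factors_minIdeal_iff f i₁).mp ⟨𝟙 _, Category.id_comp _⟩
  obtain ⟨hG₁, hi₁⟩ : ∃ _ : GrpObj G₁, IsMonHom i₁ := by
    apply exists_grpObj_of_mono
    · rw [factors_minIdeal_iff]
      intro Γ' _ i' h1 h2 h3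
      exact ⟨η[Γ'], IsMonHom.one_hom i'⟩
    · rw [factors_minIdeal_iff]
      intro Γ' _ i' h1 h2 h3
      obtain ⟨j, hj⟩ := hmin Γ' _ i' h1 h2 h3
      refine ⟨(j ⊗ₘ j) ≫ μ[Γ'], ?_⟩
      rw [Category.assoc, IsMonHom.mul_hom, ← hj]
      simp
    · rw [factors_minIdeal_iff]
      intro Γ' _ i' h1 h2 h3
      obtain ⟨j, hj⟩ := hmin Γ' _ i' h1 h2 h3
      refine ⟨j ≫ ι[Γ'], ?_⟩
      rw [Category.assoc, GrpObj.inv_hom, ← hj]
      simp
  obtain ⟨f₁, hf₁⟩ : ∃ f₁ : X ⟶ G₁, f₁ ≫ i₁ = f := by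
    rw [factors_minIdeal_iff]
    intro Γ' _ i' h1 h2 h3
    exact h3
  -- the largest geometrically reduced closed subscheme of `G₁`
  let Γ := sub G₁ (grIdeal G₁.hom)
  let i₂ : Γ ⟶ G₁ := subι G₁ (grIdeal G₁.hom)
  have hΓ : GeometricallyReduced Γ.hom := geometricallyReduced_grIdeal G₁.hom
  have hfac : ∀ (T : Over (Spec (CommRingCat.of k))) (g : T ⟶ G₁), GeometricallyReduced T.hom →
      ∃ g' : T ⟶ Γ, g' ≫ i₂ = g := by
    intro T g hT
    rw [over_factors_iff, ker_subι]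
    have : GeometricallyReduced (g.left ≫ G₁.hom) := by rw [Over.w]; exact hT
    exact grIdeal_le_ker G₁.hom g.left
  obtain ⟨hGΓ, hi₂⟩ : ∃ _ : GrpObj Γ, IsMonHom i₂ := by
    apply exists_grpObj_of_mono
    · apply hfac
      exact geometricallyReduced_of_isIso (𝟙 _)
    · apply hfac
      exact geometricallyReduced_tensor Γ Γ
    · exact hfac _ _ hΓ
  have hc1 : IsClosedImmersion i₁.left := inferInstance
  have hc2 : IsClosedImmersion i₂.left := inferInstance
  refine ⟨Γ, hGΓ, i₂ ≫ i₁, inferInstance, ?_, ?_, hΓ, ?_⟩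
  · rw [Over.comp_left]; infer_instance
  · obtain ⟨f', hf'⟩ := hfac X f₁ inferInstance
    exact ⟨f', by rw [← Category.assoc, hf', hf₁]⟩
  · intro Γ' _ i' h1 h2 h3
    obtain ⟨j, hj⟩ := hmin Γ' _ i' h1 h2 h3
    exact ⟨i₂ ≫ j, by rw [Category.assoc, hj]⟩

end Groth.Agent.S3028
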