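import Groth.Statements.S3026
import Groth.Agent.S3017
import Groth.Agent.S3028
import Groth.Agent.Sga3C.GeomRedPerf
import Groth.Agent.Sga3C.Affinization
import Groth.Agent.Ega1.ReducedSub
import Mathlib.AlgebraicGeometry.Group.Smooth
import Mathlib.FieldTheory.IsAlgClosed.AlgebraicClosure

set_option autoImplicit false
universe u
open CategoryTheory MonoidalCategory CartesianMonoidalCategory MonObj GrpObj AlgebraicGeometry TensorProduct
open SGA3

namespace Groth.Agent.S3026

open Limits

theorem subsingleton_of_const {K : Type u} [Field K] {X Y : Scheme.{u}} (f : X ⟶ Y) [Surjective f]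
    (a : X ⟶ Spec (.of K)) (b : Spec (.of K) ⟶ Y) (h : f = a ≫ b) : Subsingleton Y := by
  constructor
  intro y y'
  obtain ⟨x, rfl⟩ := f.surjective y
  obtain ⟨x', rfl⟩ := f.surjective y'
  rw [h, Scheme.Hom.comp_apply, Scheme.Hom.comp_apply]
  exact congrArg _ (Subsingleton.elim (α := PrimeSpectrum K) _ _)

/-- A scheme with at most one point is affine. -/
theorem isAffine_of_subsingleton (X : Scheme.{u}) [Subsingleton X] : IsAffine X := by
  rcases isEmpty_or_nonempty X with h | ⟨⟨x⟩⟩
  · infer_instance
  · obtain ⟨_, ⟨V, hV, rfl⟩, hxV, -⟩ := X.isBasis_affineOpens.exists_subset_of_mem_open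
      (Set.mem_univ x) isOpen_univ
    have : V = ⊤ := by
      ext y
      simpa [Subsingleton.elim y x] using hxV
    rw [this] at hV
    have : IsAffine (⊤ : X.Opens).toScheme := hV
    exact IsAffine.of_isIso X.topIso.inv
  
/-- Injectivity on global functions for an epimorphism. -/
theorem appTop_injective {X Y : Scheme.{u}} (f : X ⟶ Y) [Epi f] :
    Function.Injective f.appTop.hom := by
  have hm : Mono f.appTop := by
    constructor
    intro T α β h
    have h1 : f ≫ Y.toSpecΓ ≫ Spec.map α = f ≫ Y.toSpecΓ ≫ Spec.map β := by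
      rw [Scheme.toSpecΓ_naturality_assoc, Scheme.toSpecΓ_naturality_assoc, ← Spec.map_comp,
        ← Spec.map_comp, h]
    rw [cancel_epi] at h1
    have h2 := congrArg (fun q => q.appTop) h1
    simp only [Scheme.Hom.comp_appTop, Scheme.toSpecΓ_appTop] at h2
    rw [cancel_mono] at h2
    have h3 := Scheme.ΓSpecIso_naturality α
    have h4 := Scheme.ΓSpecIso_naturality β
    rw [h2, h4] at h3
    exact ((cancel_epi _).mp h3).symm
  exact (ConcreteCategory.mono_iff_injective_of_preservesPullback _).mp hm

/-- The algebraically closed case. -/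
theorem isReduced_of_algClosed {K : Type u} [Field K] [IsAlgClosed K]
    (W : Over (Spec (CommRingCat.of K))) [GrpObj W] [LocallyOfFiniteType W.hom]
    (hO : Function.Surjective W.hom.appTop.hom) : IsReduced W.left := by
  obtain ⟨R', i', hi', hR', hrange⟩ := Ega1.ReducedSub.exists_reduced_immersion (X := W.left)
    Set.univ isClosed_univ.isLocallyClosed
  let R : Over (Spec (CommRingCat.of K)) := Over.mk (i' ≫ W.hom)
  have hR : IsReduced R.left := hR'
  have hRg : GeometricallyReduced R.hom :=
    Sga3C.GeomRedPerf.geometricallyReduced_of_isReduced (k := K) R.hom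
  let r : R ⟶ W := Over.homMk i' rfl
  have hr : Surjective r.left := ⟨Set.range_eq_univ.mp hrange⟩
  obtain ⟨Γ, hΓ, i, hi, hic, ⟨f', hf'⟩, hΓg, -⟩ := S3028.result K W R r
  have his : Surjective i.left := by
    have : Surjective (f'.left ≫ i.left) := by
      rw [← Over.comp_left, hf']; exact hr
    exact Surjective.of_comp f'.left i.left
  have hΓr : IsReduced Γ.left :=
    hΓg.geometrically_isReduced (𝟙 _) (𝟙 _) Γ.hom (IsPullback.of_horiz_isIso ⟨by simp⟩)
  have hΓl : LocallyOfFiniteType Γ.hom := by
    rw [← Over.w i]; infer_instance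
  have hmono : Mono i := (Over.forget _).mono_of_mono_map (inferInstanceAs (Mono i.left))
  have hss : Subsingleton ↥(Spec (CommRingCat.of K)) :=
    inferInstanceAs (Subsingleton (PrimeSpectrum K))
  have hf1 : Flat Γ.hom := inferInstance
  have hf2 : Flat W.hom := inferInstance
  obtain ⟨X, p, hp1, hp2, hp3, hpb, -, -, -⟩ := S3017.result K Γ W i
  -- `X` is a point
  have hcomm : i ≫ p = toUnit Γ ≫ η[W] ≫ p := by
    have h1 := congrArg (fun q => lift (𝟙 Γ) (1 : Γ ⟶ W) ≫ q) hpb.w
    simp only [← Category.assoc, lift_snd] at h1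
    rw [Hom.one_def] at h1
    have h2 : lift (𝟙 Γ) (toUnit Γ ≫ η[W]) ≫ i ▷ W ≫ μ[W] = i := by
      have : lift (𝟙 Γ) (toUnit Γ ≫ η[W]) ≫ i ▷ W = lift i (toUnit Γ ≫ η[W]) := by
        ext <;> simp
      rw [← Category.assoc, this, ← Hom.one_def, ← Hom.mul_def, _root_.mul_one]
    rw [Category.assoc (CartesianMonoidalCategory.lift _ _), h2] at h1
    rw [h1, Category.assoc]
  have hsub : Subsingleton X.left := by
    have : Surjective (i ≫ p).left := by
      rw [Over.comp_left]; infer_instance
    refine subsingleton_of_const (K := K) (i ≫ p).left Γ.hom (η[W] ≫ p).left ?_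
    rw [hcomm]; rfl
  have haff : IsAffine X.left := isAffine_of_subsingleton _
  have hepi : Epi p.left := Flat.epi_of_flat_of_surjective _
  have hinj := appTop_injective p.left
  have hne : Nonempty X.left := ⟨p.left (η[W].left (IsLocalRing.closedPoint K))⟩
  have hXiso : IsIso X.hom := by
    have hsurj : Function.Surjective X.hom.appTop.hom := by
      intro b
      obtain ⟨c, hc⟩ := hO (p.left.appTop.hom b)
      refine ⟨c, hinj ?_⟩
      rw [← hc, ← Over.w p, Scheme.Hom.comp_appTop]
      rfl
    have hinj' : Function.Injective X.hom.appTop.hom := by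
      have : IsField Γ(Spec (CommRingCat.of K), ⊤) :=
        MulEquiv.isField (Field.toIsField K)
          (Scheme.ΓSpecIso (CommRingCat.of K)).commRingCatIsoToRingEquiv.toMulEquiv
      let := this.toField
      have : Nontrivial Γ(X.left, ⊤) := by
        obtain ⟨x⟩ := hne
        have : Nonempty (⊤ : X.left.Opens) := ⟨⟨x, trivial⟩⟩
        infer_instance
      exact RingHom.injective _
    have h1 : IsIso X.hom.appTop :=
      (ConcreteCategory.isIso_iff_bijective X.hom.appTop).mpr ⟨hinj', hsurj⟩
    have h2 : IsIso (Spec.map X.hom.appTop) := inferInstance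
    exact (MorphismProperty.arrow_mk_iso_iff (MorphismProperty.isomorphisms _)
      (arrowIsoSpecΓOfIsAffine X.hom)).mpr h2
  -- a retraction
  obtain ⟨z, hz1, hz2⟩ : ∃ z : W ⟶ Γ ⊗ W, z ≫ ((i ▷ W) ≫ μ[W]) = 𝟙 W ∧ z ≫ snd Γ W = 1 := by
    have hw : (𝟙 W) ≫ p = (1 : W ⟶ W) ≫ p := by
      apply Over.OverMorphism.ext
      rw [← cancel_mono X.hom, Over.w, Over.w]
    exact ⟨hpb.lift _ _ hw, hpb.lift_fst _ _ hw, hpb.lift_snd _ _ hw⟩
  have hri : (z ≫ fst Γ W) ≫ i = 𝟙 W := by
    have h1 : z ≫ (i ▷ W) = CartesianMonoidalCategory.lift ((z ≫ fst Γ W) ≫ i) 1 := by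
      ext1
      · rw [Category.assoc, whiskerRight_fst, lift_fst, Category.assoc]
      · rw [Category.assoc, whiskerRight_snd, lift_snd, hz2]
    rw [← Category.assoc, h1, ← Hom.mul_def, _root_.mul_one] at hz1
    exact hz1
  have : IsIso i := by
    refine ⟨z ≫ fst Γ W, ?_, hri⟩
    rw [← cancel_mono i, Category.assoc, hri, Category.comp_id, Category.id_comp]
  have : IsIso i.left := inferInstanceAs (IsIso ((Over.forget _).map i))
  exact isReduced_of_isOpenImmersion (inv i.left)

/-- SGA 3 VI_B Lemma 12.3 (smoothness part): let N be a group scheme of finite type over a field k such that the structure map identifies k with the ring of global functions of N. Then N is smooth over k. (The same lemma also gives connectedness and commutativity.) -/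
theorem result (k : Type u) [Field k] (N : Over (Spec (CommRingCat.of k))) [GrpObj N]
    [LocallyOfFiniteType N.hom] [QuasiCompact N.hom]
    (hO : Function.Bijective ((Scheme.ΓSpecIso (CommRingCat.of k)).inv ≫ N.hom.appTop).hom) :
    Smooth N.hom := by
  let K := AlgebraicClosure k
  let g : Spec (.of K) ⟶ Spec (.of k) := Spec.map (CommRingCat.ofHom <| algebraMap k K)
  have hNiso : IsIso N.hom.appTop := by
    rw [ConcreteCategory.isIso_iff_bijective]
    have h1 : (Scheme.ΓSpecIso (CommRingCat.of k)).hom ≫
        ((Scheme.ΓSpecIso (CommRingCat.of k)).inv ≫ N.hom.appTop) = N.hom.appTop := by simp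
    rw [← h1]
    exact hO.comp (ConcreteCategory.bijective_of_isIso (Scheme.ΓSpecIso (CommRingCat.of k)).hom)
  apply MorphismProperty.of_pullback_snd_of_descendsAlong
    (Q := @Surjective ⊓ @Flat ⊓ @QuasiCompact) (g := g)
  · exact ⟨⟨inferInstance, inferInstance⟩, inferInstance⟩
  · let : GrpObj (Over.mk N.hom) := inferInstanceAs (GrpObj N)
    let : GrpObj (Over.mk (Limits.pullback.snd N.hom g)) := Over.grpObjMkPullbackSnd
    have : CompactSpace N.left := QuasiCompact.compactSpace_of_compactSpace N.hom
    have : IsLocallyNoetherian N.left := LocallyOfFiniteType.isLocallyNoetherian N.hom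
    have : QuasiSeparatedSpace N.left := inferInstance
    let Y : Over (Spec (CommRingCat.of k)) := Over.mk g
    have : CompactSpace Y.left := inferInstanceAs (CompactSpace (Spec (.of K)))
    have : QuasiSeparatedSpace Y.left := inferInstanceAs (QuasiSeparatedSpace (Spec (.of K)))
    have hpo := Sga3C.Affinization.isPushout_appTop k N Y
    have h2 : IsIso (snd N Y).left.appTop := hpo.isIso_inr_of_isIso
    have h3 : IsIso (Limits.pullback.snd N.hom g).appTop := h2
    have : LocallyOfFiniteType (Over.mk (Limits.pullback.snd N.hom g)).hom :=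
      inferInstanceAs (LocallyOfFiniteType (Limits.pullback.snd N.hom g))
    have hred := isReduced_of_algClosed (Over.mk (Limits.pullback.snd N.hom g))
      (ConcreteCategory.bijective_of_isIso (Limits.pullback.snd N.hom g).appTop).2
    have hred' : IsReduced (Limits.pullback N.hom g) := hred
    have := Sga3C.GeomRedPerf.geometricallyReduced_of_isReduced (k := K) (Limits.pullback.snd N.hom g)
    exact smooth_of_grpObj _

end Groth.Agent.S3026
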