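import Groth.Statements.S3027
import Groth.Agent.Sga3C.Center

set_option autoImplicit false
universe u
open CategoryTheory MonoidalCategory CartesianMonoidalCategory MonObj GrpObj AlgebraicGeometry TensorProduct
open SGA3

namespace Groth.Agent.S3027

/-- SGA 3 VI_B Cor. 6.2.6: let G be a connected group scheme of finite type over a field k. Then the centre of G (the subfunctor of points g such that g commutes with every point of G after every base change) is represented by a closed subgroup scheme Z of G, and the quotient G/Z is an affine k-group: there are an affine group scheme Q and a faithfully flat homomorphism q : G → Q with kernel Z. -/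
theorem result (k : Type u) [Field k] (G : Over (Spec (CommRingCat.of k))) [GrpObj G]
    [LocallyOfFiniteType G.hom] [QuasiCompact G.hom] [ConnectedSpace G.left] :
    ∃ (Z : Over (Spec (CommRingCat.of k))) (_ : GrpObj Z) (i : Z ⟶ G), IsMonHom i ∧ IsClosedImmersion i.left ∧
      (∀ (T : Over (Spec (CommRingCat.of k))) (g : T ⟶ G),
        (∃ z : T ⟶ Z, z ≫ i = g) ↔ ∀ (T' : Over (Spec (CommRingCat.of k))) (t : T' ⟶ T) (h : T' ⟶ G), (t ≫ g) * h = h * (t ≫ g)) ∧
      ∃ (Q : Over (Spec (CommRingCat.of k))) (_ : GrpObj Q) (q : G ⟶ Q), IsMonHom q ∧ IsAffine Q.left ∧ LocallyOfFiniteType Q.hom ∧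
        Flat q.left ∧ Surjective q.left ∧ AlgGrp.IsKernel i q := by
  classical
  obtain ⟨H, gH, hHa, hHlft, f, hf, hker⟩ : ∃ (H : Over (Spec (CommRingCat.of k))) (_ : GrpObj H),
      IsAffine H.left ∧ LocallyOfFiniteType H.hom ∧ ∃ f : G ⟶ H, IsMonHom f ∧
      ∀ (T : Over (Spec (CommRingCat.of k))) (g : T ⟶ G), g ≫ f = 1 ↔
        ∀ (T' : Over (Spec (CommRingCat.of k))) (t : T' ⟶ T) (h : T' ⟶ G),
          (t ≫ g) * h = h * (t ≫ g) := by
    obtain ⟨m, _, _, f, hf, hker⟩ := Groth.Agent.Sga3C.Center.exists_rep_center k G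
    exact ⟨_, inferInstance, isAffine_of_isAffineHom
      (Groth.Agent.Sga3B.GLn.GLS m (Spec (CommRingCat.of k))).hom, inferInstance, f, hf, hker⟩
  have hsub : Subsingleton (Spec (CommRingCat.of k)) := inferInstanceAs (Subsingleton (PrimeSpectrum k))
  have hHn : IsLocallyNoetherian H.left := LocallyOfFiniteType.isLocallyNoetherian H.hom
  have hlft : LocallyOfFiniteType f.left := by
    have : LocallyOfFiniteType (f.left ≫ H.hom) := by rw [Over.w]; infer_instance
    exact locallyOfFiniteType_of_comp f.left H.hom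
  have hqc : QuasiCompact f.left := by
    have : QuasiCompact (f.left ≫ H.hom) := by rw [Over.w]; infer_instance
    exact QuasiCompact.of_comp f.left H.hom
  have hK : Flat (Limits.pullback.snd f.left
      (η[H] : 𝟙_ (Over (Spec (CommRingCat.of k))) ⟶ H).left) := by
    have h1 : IsIntegral (𝟙_ (Over (Spec (CommRingCat.of k)))).left :=
      inferInstanceAs (IsIntegral (Spec (CommRingCat.of k)))
    have h2 : Subsingleton (𝟙_ (Over (Spec (CommRingCat.of k)))).left :=
      inferInstanceAs (Subsingleton (PrimeSpectrum k))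
    infer_instance
  obtain ⟨C, gC, p, i, hp, hi, hpi, hpf, hps, hplfp, hic, hpq, hCf⟩ :=
    Groth.Agent.Sga3C.FlatImage2.exists_factorisation
      (fun T => Groth.Agent.Sga3C.ArtinBase.universallyOpen_of_isArtinianRing k T.hom) f hK
  have hCa : IsAffine C.left := isAffine_of_isAffineHom i.left
  have hClft : LocallyOfFiniteType C.hom := by
    rw [← Over.w i]; infer_instance
  have hmi : Mono i := by
    have : Mono i.left := inferInstance
    exact Over.mono_of_mono_left i
  have hiff : ∀ (T : Over (Spec (CommRingCat.of k))) (g : T ⟶ G), g ≫ p = 1 ↔ g ≫ f = 1 := by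
    intro T g
    rw [← cancel_mono i, Category.assoc, hpi, MonObj.one_comp]
  refine ⟨Groth.Agent.Fdesc.GrpDimHom.ker p, Groth.Agent.Fdesc.GrpDimHom.kerGrp p,
    Groth.Agent.Fdesc.GrpDimHom.kerι p, ?_, ?_, ?_, C, gC, p, hp, hCa, hClft, hpf, hps,
    Groth.Agent.Sga3C.Center.isPullback_kerι p⟩
  · let _ : GrpObj (Groth.Agent.Fdesc.GrpDimHom.ker p) := Groth.Agent.Fdesc.GrpDimHom.kerGrp p
    exact { one_hom := Groth.Agent.Fdesc.GrpDimHom.kerLift_comp _ _ _
            mul_hom := Groth.Agent.Fdesc.GrpDimHom.kerLift_comp _ _ _ }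
  · exact inferInstanceAs (IsClosedImmersion
      (Limits.pullback.fst p.left (η[C] : 𝟙_ (Over (Spec (CommRingCat.of k))) ⟶ C).left))
  · intro T g
    rw [← hker, ← hiff]
    constructor
    · rintro ⟨z, rfl⟩
      rw [Category.assoc, Groth.Agent.Fdesc.GrpDimHom.kerι_comp, MonObj.comp_one]
    · intro h
      exact Groth.Agent.Fdesc.GrpDimHom.exists_lift p g h

end Groth.Agent.S3027
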