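import Groth.Statements.S3030
import Groth.Agent.S3017
import Groth.Agent.Sga3C.QuotProps

set_option autoImplicit false
universe u
open CategoryTheory MonoidalCategory CartesianMonoidalCategory MonObj GrpObj AlgebraicGeometry TensorProduct
open SGA3

namespace Groth.Agent.S3030

/-- SGA 3 VI_A Thm. 3.2 (iv): let A be a local artinian ring, F and G group schemes flat and locally of finite type over A, and u : F → G a homomorphism which is a quasi-compact monomorphism with F normal in G. Then there are a group scheme Q over A and a homomorphism p : G → Q which is faithfully flat and locally of finite presentation, with kernel F (the square u, p, unit is cartesian); Q is separated and flat over A, and smooth over A when G is. -/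
theorem result (A : Type u) [CommRing A] [IsArtinianRing A] [IsLocalRing A]
    (F G : Over (Spec (CommRingCat.of A))) [GrpObj F] [GrpObj G] [Flat F.hom] [LocallyOfFiniteType F.hom]
    [Flat G.hom] [LocallyOfFiniteType G.hom] (u : F ⟶ G) [IsMonHom u] [Mono u] [QuasiCompact u.left]
    (hN : AlgGrp.IsNormalHom u) :
    ∃ (Q : Over (Spec (CommRingCat.of A))) (_ : GrpObj Q) (p : G ⟶ Q), IsMonHom p ∧
      Flat p.left ∧ Surjective p.left ∧ LocallyOfFinitePresentation p.left ∧ AlgGrp.IsKernel u p ∧
      IsSeparated Q.hom ∧ Flat Q.hom ∧ (Smooth G.hom → Smooth Q.hom) := by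
  obtain ⟨X, p, h1, h2, h3, h4, h5, h6, h7⟩ := Groth.Agent.S3017.result A F G u
  obtain ⟨g, hg⟩ := Groth.Agent.Sga3C.QuotProps.exists_grpObj_quotient u p h4 hN
  exact ⟨X, g, p, hg, h1, h2, h3, Groth.Agent.Sga3C.QuotProps.isKernel_of_quotient u p h4, h5, h6, h7⟩

end Groth.Agent.S3030
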