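import Groth.Statements.S3031
-- import your own Groth.Agent.* helpers here
import Groth.Agent.S3023

set_option autoImplicit false
universe u
open CategoryTheory MonoidalCategory CartesianMonoidalCategory MonObj GrpObj AlgebraicGeometry TensorProduct
open SGA3

namespace Groth.Agent.S3031

open Groth.Agent.Sga3C.ClosedSub

/-- a morphism from a reduced scheme with set-theoretic image in a closed subscheme factors -/
lemma ker_le_ker_of_isReduced {X Y Z : Scheme.{u}} [IsReduced X] (i : Z ⟶ Y) [IsClosedImmersion i]
    (f : X ⟶ Y) (h : Set.range f ⊆ Set.range i) : i.ker ≤ f.ker := by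
  have h1 : f.ker = Scheme.IdealSheafData.vanishingIdeal (.closure (Set.range f)) := by
    rw [← Set.image_univ, ← TopologicalSpace.Closeds.coe_top,
      ← Scheme.IdealSheafData.map_vanishingIdeal, Scheme.IdealSheafData.vanishingIdeal_top,
      Scheme.nilradical_eq_bot, Scheme.IdealSheafData.map_bot]
  rw [h1, ← Scheme.IdealSheafData.le_support_iff_le_vanishingIdeal,
    TopologicalSpace.Closeds.closure_le]
  exact h.trans i.range_subset_ker_support

/-- SGA 3 VI_B Cor. 7.2.1 (with X connected and possessing a rational point over the identity, a case of 'geometrically connected with e ∈ f(X)'): let G be a group scheme over a field k, X a connected, geometrically reduced k-scheme, x a k-point of X and f : X → G a k-morphism with f(x) the identity. Then the smallest closed subgroup scheme of G through which f factors is connected. -/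
theorem result (k : Type u) [Field k] (G X : Over (Spec (CommRingCat.of k))) [GrpObj G]
    [GeometricallyReduced X.hom] [ConnectedSpace X.left] (x : 𝟙_ (Over (Spec (CommRingCat.of k))) ⟶ X) (f : X ⟶ G)
    (hx : x ≫ f = η[G])
    (Γ : Over (Spec (CommRingCat.of k))) [GrpObj Γ] (i : Γ ⟶ G) [IsMonHom i] [IsClosedImmersion i.left]
    (hf : ∃ f' : X ⟶ Γ, f' ≫ i = f)
    (hmin : ∀ (Γ' : Over (Spec (CommRingCat.of k))) (_ : GrpObj Γ') (i' : Γ' ⟶ G), IsMonHom i' → IsClosedImmersion i'.left →
        (∃ f'' : X ⟶ Γ', f'' ≫ i' = f) → ∃ j : Γ ⟶ Γ', j ≫ i' = i) :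
    ConnectedSpace Γ.left := by
  obtain ⟨f', rfl⟩ := hf
  have : Mono i := mono_of_left i
  have hX : IsReduced X.left := self_of_isIntegral_of_geometrically
    (P := fun X ↦ IsReduced X) (GeometricallyReduced.geometrically_isReduced (f := X.hom))
  obtain ⟨G0, hG0, i0, hi0, hc0, -, hr0⟩ := Groth.Agent.S3023.result k Γ
  let pt : ↥(𝟙_ (Over (Spec (CommRingCat.of k)))).left := IsLocalRing.closedPoint k
  have hx' : x ≫ f' = η[Γ] := by
    rw [← cancel_mono i, Category.assoc, hx, IsMonHom.one_hom]
  have hfac : ∃ f'' : X ⟶ G0, f'' ≫ i0 = f' := by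
    rw [over_factors_iff]
    apply ker_le_ker_of_isReduced
    rw [hr0 pt]
    have h1 : _root_.IsPreconnected (Set.range f'.left) := isPreconnected_range f'.left.continuous
    refine h1.subset_connectedComponent ⟨x.left pt, ?_⟩
    change (x.left ≫ f'.left) pt = _
    rw [← Over.comp_left, hx']
  obtain ⟨f'', hf''⟩ := hfac
  obtain ⟨j, hj⟩ := hmin G0 hG0 (i0 ≫ i) inferInstance
    (by rw [Over.comp_left]; infer_instance) ⟨f'', by rw [← Category.assoc, hf'']⟩
  have hji : j ≫ i0 = 𝟙 Γ := by
    rw [← cancel_mono i, Category.assoc, hj, Category.id_comp]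
  have hsurj : Set.range i0.left = Set.univ := by
    rw [Set.range_eq_univ]
    intro y
    refine ⟨j.left y, ?_⟩
    change (j.left ≫ i0.left) y = y
    rw [← Over.comp_left, hji]
    rfl
  rw [connectedSpace_iff_univ, ← hsurj]
  have := hr0 pt
  rw [show Set.range i0.left = connectedComponent (η[Γ].left.base pt) from this]
  exact isConnected_connectedComponent

end Groth.Agent.S3031
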