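import Groth.Statements.S3032
import Mathlib.LinearAlgebra.TensorProduct.Finiteness
import Mathlib.LinearAlgebra.TensorProduct.RightExactness
import Mathlib.RingTheory.Flat.Basic

set_option autoImplicit false
universe u
open CategoryTheory MonoidalCategory CartesianMonoidalCategory MonObj GrpObj AlgebraicGeometry TensorProduct
open SGA3

namespace Groth.Agent.S3032

/-- SGA 3 VI_B Prop. 11.8.bis: let R be a Noetherian commutative ring, C an R-coalgebra which is flat as an R-module, V a C-comodule and M a finitely generated R-submodule of V. Then M is contained in a subcomodule of V which is finitely generated over R. -/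
theorem result (R : Type u) [CommRing R] [IsNoetherianRing R] (C : Type u) [AddCommGroup C]
    [Module R C] [Coalgebra R C] [Module.Flat R C] (V : Type u) [AddCommGroup V] [Module R V] [HopfRep.Comod R C V]
    (M : Submodule R V) (hM : M.FG) :
    ∃ W : Submodule R V, HopfRep.IsSubcomod (k := R) (A := C) W ∧ M ≤ W ∧ W.FG := by
  classical
  set c : V →ₗ[R] V ⊗[R] C := HopfRep.Comod.coact with hc
  obtain ⟨s, hs⟩ := hM
  obtain ⟨N, hNfin, hN⟩ := TensorProduct.exists_finite_submodule_left_of_setFinite
    (c '' (s : Set V)) (s.finite_toSet.image c)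
  have hNFG : N.FG := Module.Finite.iff_fg.mp hNfin
  -- the submodule `{v | c v ∈ N ⊗ C}`
  set g : V →ₗ[R] (V ⧸ N) ⊗[R] C := (N.mkQ.rTensor C) ∘ₗ c with hg
  have hex : Function.Exact (N.subtype.rTensor C) (N.mkQ.rTensor C) :=
    rTensor_exact C (LinearMap.exact_subtype_mkQ N) (Submodule.mkQ_surjective N)
  have hMW : M ≤ LinearMap.ker g := by
    rw [← hs, Submodule.span_le]
    intro x hx
    have : c x ∈ LinearMap.range (N.subtype.rTensor C) := hN ⟨x, hx, rfl⟩
    exact (hex (c x)).2 this
  have hWN : LinearMap.ker g ≤ N := by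
    intro w hw
    have hw' : (N.mkQ.rTensor C) (c w) = 0 := hw
    have h1 : ((CoalgebraStruct.counit (R := R) (A := C)).lTensor V) (c w) = w ⊗ₜ[R] (1 : R) :=
      LinearMap.congr_fun (HopfRep.Comod.counit_comp (k := R) (A := C) (V := V)) w
    have h2 : (N.mkQ.rTensor R) (((CoalgebraStruct.counit (R := R) (A := C)).lTensor V) (c w)) =
        ((CoalgebraStruct.counit (R := R) (A := C)).lTensor (V ⧸ N)) ((N.mkQ.rTensor C) (c w)) := by
      have e1 := LinearMap.rTensor_comp_lTensor (R := R) (f := N.mkQ)
        (g := CoalgebraStruct.counit (R := R) (A := C))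
      have e2 := LinearMap.lTensor_comp_rTensor (R := R) (f := N.mkQ)
        (g := CoalgebraStruct.counit (R := R) (A := C))
      exact LinearMap.congr_fun (e1.trans e2.symm) (c w)
    rw [h1, hw', map_zero, LinearMap.rTensor_tmul] at h2
    have h3 := congrArg (TensorProduct.rid R (V ⧸ N)) h2
    rw [TensorProduct.rid_tmul, one_smul, map_zero] at h3
    simpa using h3
  refine ⟨LinearMap.ker g, ?_, hMW, ?_⟩
  · intro w hw
    have hw' : (N.mkQ.rTensor C) (c w) = 0 := hw
    have hex2 : Function.Exact ((LinearMap.ker g).subtype.rTensor C) (g.rTensor C) :=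
      Module.Flat.rTensor_exact C (LinearMap.exact_subtype_ker_map g)
    refine (hex2 (c w)).1 ?_
    have h1 : (TensorProduct.assoc R V C C) (c.rTensor C (c w)) =
        (CoalgebraStruct.comul (R := R) (A := C)).lTensor V (c w) :=
      LinearMap.congr_fun (HopfRep.Comod.coassoc (k := R) (A := C) (V := V)) w
    have h2 : (TensorProduct.assoc R (V ⧸ N) C C) (g.rTensor C (c w)) = 0 := by
      have h3 : (TensorProduct.assoc R (V ⧸ N) C C).toLinearMap ∘ₗ (N.mkQ.rTensor C).rTensor C =
          N.mkQ.rTensor (C ⊗[R] C) ∘ₗ (TensorProduct.assoc R V C C).toLinearMap := by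
        ext x y z
        simp
      have h4 : g.rTensor C (c w) = (N.mkQ.rTensor C).rTensor C (c.rTensor C (c w)) := by
        rw [hg, LinearMap.rTensor_comp, LinearMap.comp_apply]
      have h5 := LinearMap.congr_fun h3 (c.rTensor C (c w))
      simp only [LinearMap.comp_apply, LinearEquiv.coe_coe] at h5
      rw [h4, h5, h1, ← LinearMap.comp_apply, LinearMap.rTensor_comp_lTensor,
        ← LinearMap.lTensor_comp_rTensor, LinearMap.comp_apply, hw', map_zero]
    exact (TensorProduct.assoc R (V ⧸ N) C C).map_eq_zero_iff.mp h2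
  · have : IsNoetherian R N := isNoetherian_of_fg_of_noetherian N hNFG
    exact Submodule.FG.of_le hNFG hWN

end Groth.Agent.S3032
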