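import Groth.Statements.S3033
import Groth.Agent.Sga3C.DimTop
import Groth.Agent.Sga3C.Transl
import Groth.Agent.Sga3C.LocConn
import Mathlib.FieldTheory.IsAlgClosed.AlgebraicClosure

set_option autoImplicit false
universe u
open CategoryTheory MonoidalCategory CartesianMonoidalCategory MonObj GrpObj AlgebraicGeometry TensorProduct
open SGA3

namespace Groth.Agent.S3033

/-- SGA 3 VI_A Prop. 2.5.4 (i): let A be a local artinian ring, G a group scheme locally of finite type over A acting on a nonempty A-scheme X locally of finite type, such that the morphism G ×_A X → X ×_A X, (g, x) ↦ (g·x, x) is surjective. Then all connected components of X have the same dimension. (Their irreducibility, also part of 2.5.4 (i), is the row for VI_A 2.6.6 (i).) -/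
theorem result (A : Type u) [CommRing A] [IsArtinianRing A] [IsLocalRing A]
    (G X : Over (Spec (CommRingCat.of A))) [GrpObj G] [LocallyOfFiniteType G.hom] [LocallyOfFiniteType X.hom] [Nonempty X.left]
    (a : AlgGrp.Action G X) (hΦ : Surjective (lift a.act (snd G X)).left) (x y : X.left) :
    topologicalKrullDim ↥(connectedComponent x) = topologicalKrullDim ↥(connectedComponent y) := by
  classical
  let k := IsLocalRing.ResidueField A
  let K := AlgebraicClosure k
  let t : Spec (CommRingCat.of K) ⟶ Spec (CommRingCat.of A) :=
    Spec.map (CommRingCat.ofHom (algebraMap A K))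
  have ht : IsIntegralHom t := by
    rw [IsIntegralHom.SpecMap_iff]
    change (algebraMap A K).IsIntegral
    have h1 : Algebra.IsIntegral A k := ⟨fun y => by
      obtain ⟨x, rfl⟩ := IsLocalRing.residue_surjective y
      exact isIntegral_algebraMap (R := A) (A := k) (x := x)⟩
    have h2 : Algebra.IsIntegral k K := inferInstance
    have h3 : Algebra.IsIntegral A K := Algebra.IsIntegral.trans k
    exact fun x => h3.isIntegral x
  have hts : Surjective t := by
    refine ⟨fun y => ⟨IsLocalRing.closedPoint K, ?_⟩⟩
    have : Subsingleton ↥(Spec (CommRingCat.of A)) :=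
      inferInstanceAs (Subsingleton (PrimeSpectrum A))
    exact Subsingleton.elim _ _
  let T : Over (Spec (CommRingCat.of A)) := Over.mk t
  let W : Scheme := (T ⊗ X).left
  let p : W ⟶ X.left := (snd T X).left
  have hp : IsIntegralHom p := inferInstanceAs (IsIntegralHom (Limits.pullback.snd t X.hom))
  have hps : Surjective p := inferInstanceAs (Surjective (Limits.pullback.snd t X.hom))
  let q : W ⟶ Spec (CommRingCat.of K) := (fst T X).left
  have hq : LocallyOfFiniteType q := inferInstanceAs (LocallyOfFiniteType (Limits.pullback.fst t X.hom))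
  have : JacobsonSpace W := LocallyOfFiniteType.jacobsonSpace q
  have : IsLocallyNoetherian X.left := LocallyOfFiniteType.isLocallyNoetherian X.hom
  have : LocallyConnectedSpace X.left :=
    Sga3C.LocConn.locallyConnectedSpace_of_isLocallyNoetherian X.left
  -- a closed point of `W`
  obtain ⟨w0, -⟩ := p.surjective x
  obtain ⟨w, -, hw⟩ := nonempty_inter_closedPoints (X := W) (Z := Set.univ) ⟨w0, trivial⟩
    isClosed_univ.isLocallyClosed
  let d := @Order.coheight W (specializationOrder W).toPreorder w
  have key : ∀ x : X.left, topologicalKrullDim ↥(connectedComponent x) = (d : WithBot ℕ∞) := by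
    intro x
    let C : X.left.Opens := ⟨connectedComponent x, isOpen_connectedComponent⟩
    have h1 : topologicalKrullDim ↥(p ⁻¹ᵁ C) = (d : WithBot ℕ∞) := by
      refine Sga3C.DimTop.topologicalKrullDim_open_eq_of_closedPoints (X := W) (p ⁻¹ᵁ C : W.Opens)
        (p ⁻¹ᵁ C).2 ?_ d ?_
      · obtain ⟨w1, hw1⟩ := p.surjective x
        exact ⟨w1, by change p w1 ∈ connectedComponent x; rw [hw1]; exact mem_connectedComponent⟩
      · intro z _ hz
        obtain ⟨g, hg⟩ := Sga3C.Transl.exists_transl_eq a t hΦ w z hw hz
        let e : W ≅ W := (Over.forget _).mapIso (Sga3C.Transl.transl a g)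
        have he : e.hom w = z := hg
        have := Sga3C.DimTop.coheight_homeomorph e.schemeIsoToHomeo w
        rw [← he]
        exact this
    have h2 : topologicalKrullDim ↥(p ⁻¹ᵁ C) = topologicalKrullDim ↥C := by
      have : Surjective (p ∣_ C) := IsZariskiLocalAtTarget.restrict hps C
      exact Sga3C.DimTop.topologicalKrullDim_eq_of_isIntegralHom (p ∣_ C)
    exact h2.symm.trans h1
  rw [key x, key y]

end Groth.Agent.S3033
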