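import Groth.Statements.S3037
import Groth.Agent.Sga3C.ArtinHom2

set_option autoImplicit false
universe u
open CategoryTheory MonoidalCategory CartesianMonoidalCategory MonObj GrpObj AlgebraicGeometry TensorProduct
open SGA3

namespace Groth.Agent.S3037

/-- SGA 3 VI_B Cor. 1.4.1, (iii) ⟺ (v): let A be a local artinian ring and u : G → H a quasi-compact homomorphism between group schemes locally of finite type over A. Then u is finite if and only if the kernel of u (the fibre of u over the unit section) is a discrete space. -/
theorem result (A : Type u) [CommRing A] [IsArtinianRing A] [IsLocalRing A]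
    (G H : Over (Spec (CommRingCat.of A))) [GrpObj G] [GrpObj H] [LocallyOfFiniteType G.hom] [LocallyOfFiniteType H.hom]
    (u : G ⟶ H) [IsMonHom u] [QuasiCompact u.left] :
    IsFinite u.left ↔ DiscreteTopology ↥(Limits.pullback u.left (η[H] : 𝟙_ (Over (Spec (CommRingCat.of A))) ⟶ H).left) := by
  exact Groth.Agent.Sga3C.ArtinHom2.isFinite_iff u

end Groth.Agent.S3037
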