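import Groth.Statements.S3042
import Groth.Agent.Sga3C.UnramFiber
import Mathlib.AlgebraicGeometry.Morphisms.UniversallyInjective
import Mathlib.AlgebraicGeometry.Morphisms.IsIso

set_option autoImplicit false
universe u
open CategoryTheory MonoidalCategory CartesianMonoidalCategory MonObj GrpObj AlgebraicGeometry TensorProduct
open SGA3

namespace Groth.Agent.S3042

/-- SGA 3 VI_B Cor. 2.11: let f : X → Y be a morphism of schemes locally of finite type. Then f is a monomorphism if and only if, for every point y of Y, the fibre X_y → Spec κ(y) is a monomorphism. -/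
theorem result (X Y : Scheme.{u}) (f : X ⟶ Y) [LocallyOfFiniteType f] :
    Mono f ↔ ∀ y : Y, Mono (f.fiberToSpecResidueField y) := by
  constructor
  · intro h y
    exact inferInstanceAs (Mono (Limits.pullback.snd f (Y.fromSpecResidueField y)))
  intro h
  have hunr : FormallyUnramified f := by
    apply Groth.Agent.Sga3C.UnramFiber.of_formallyUnramified_fiberToSpecResidueField f
    intro y
    have := h y
    have : IsIso (Limits.pullback.diagonal (f.fiberToSpecResidueField y)) :=
      (Limits.pullback.isIso_diagonal_iff _).mpr inferInstance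
    infer_instance
  have hinj : ∀ (K : Type u) [Field K], Function.Injective (fun g : Spec (.of K) ⟶ X ↦ g ≫ f) := by
    intro K _ g₁ g₂ hg
    dsimp only at hg
    obtain ⟨⟨y, φ⟩, hy⟩ := (Y.SpecToEquivOfField K).symm.surjective (g₁ ≫ f)
    rw [Scheme.SpecToEquivOfField_symm_apply] at hy
    dsimp only at hy
    let g₁' : Spec (.of K) ⟶ f.fiber y := Limits.pullback.lift g₁ (Spec.map φ) hy.symm
    let g₂' : Spec (.of K) ⟶ f.fiber y := Limits.pullback.lift g₂ (Spec.map φ) (by rw [← hg]; exact hy.symm)
    have h12 : g₁' ≫ f.fiberToSpecResidueField y = g₂' ≫ f.fiberToSpecResidueField y := by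
      exact (Limits.pullback.lift_snd _ _ _).trans (Limits.pullback.lift_snd _ _ _).symm
    have h12' : g₁' = g₂' := (h y).right_cancellation _ _ h12
    have e1 : g₁' ≫ f.fiberι y = g₁ := Limits.pullback.lift_fst _ _ _
    have e2 : g₂' ≫ f.fiberι y = g₂ := Limits.pullback.lift_fst _ _ _
    rw [← e1, ← e2, h12']
  have hs : Surjective (Limits.pullback.diagonal f) := (tfae_universallyInjective f).out 1 3 |>.mp hinj
  have hiso : IsIso (Limits.pullback.diagonal f) := by
    rw [isIso_iff_isOpenImmersion_and_surjective]
    exact ⟨inferInstance, hs⟩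
  exact (Limits.pullback.isIso_diagonal_iff f).mp hiso

end Groth.Agent.S3042
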