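import Groth.Statements.S3043
import Mathlib.AlgebraicGeometry.Morphisms.Integral
import Mathlib.AlgebraicGeometry.Morphisms.UniversallyClosed

set_option autoImplicit false
universe u
open CategoryTheory MonoidalCategory CartesianMonoidalCategory MonObj GrpObj AlgebraicGeometry TensorProduct
open SGA3

namespace Groth.Agent.S3043

/-- SGA 3 VI_B Lemma 2.9 (i): let π : X → S be a morphism of schemes admitting a section ε (ε followed by π is the identity). If π is injective on underlying points, then π is an integral morphism. -/
theorem result (X S : Scheme.{u}) (π : X ⟶ S) (ε : S ⟶ X) (hε : ε ≫ π = 𝟙 S)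
    (hinj : Function.Injective π.base) : IsIntegralHom π := by
  have hπε : ∀ s, π.base (ε.base s) = s := by
    intro s
    have := congrArg (fun f => f.base s) hε
    simpa using this
  have hεπ : ∀ x, ε.base (π.base x) = x := fun x => hinj (hπε _)
  have hsurj : Surjective ε := ⟨fun x => ⟨π.base x, hεπ x⟩⟩
  have huc : UniversallyClosed π := by
    have : UniversallyClosed (ε ≫ π) := by rw [hε]; infer_instance
    exact UniversallyClosed.of_comp_surjective ε π
  have hrange : Set.range π.base = Set.univ := Set.eq_univ_of_forall fun s => ⟨ε.base s, hπε s⟩
  have haff : IsAffineHom π := by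
    apply isAffineHom_of_isInducing
    · refine Topology.IsInducing.of_comp π.continuous ε.continuous ?_
      have : (ε.base ∘ π.base : X → X) = id := funext hεπ
      change Topology.IsInducing (ε.base ∘ π.base)
      rw [this]
      exact Topology.IsInducing.id
    · change IsClosed (Set.range π.base)
      rw [hrange]; exact isClosed_univ
  exact IsIntegralHom.iff_universallyClosed_and_isAffineHom.mpr ⟨huc, haff⟩

end Groth.Agent.S3043
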