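import Groth.Statements.S3046
import Mathlib.Tactic.NoncommRing
import Mathlib.RingTheory.HopfAlgebra.Convolution

set_option autoImplicit false
universe u
open TensorProduct
open SGA3

namespace Groth.Agent.S3046

open WithConv

theorem conv3_eq (k : Type u) [CommRing k] (A : Type u) [CommRing A] [HopfAlgebra k A]
    {C : Type u} [CommRing C] [Algebra k C] (f g h : A →ₐ[k] C) :
    toConv (Dyn.conv3 k A f g h) = toConv f * toConv g * toConv h := by
  apply WithConv.ext
  simp only [AlgHom.convMul_def, Dyn.conv3, ofConv_toConv]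
  rw [← AlgHom.comp_assoc (Algebra.TensorProduct.map _ h), ← Algebra.TensorProduct.map_comp,
    AlgHom.comp_id, AlgHom.comp_assoc (Algebra.TensorProduct.lmul' k)]

theorem conv3_toLinearMap (k : Type u) [CommRing k] (A : Type u) [CommRing A] [HopfAlgebra k A]
    {C : Type u} [CommRing C] [Algebra k C] (f g h : A →ₐ[k] C) :
    toConv (Dyn.conv3 k A f g h).toLinearMap =
      toConv f.toLinearMap * toConv g.toLinearMap * toConv h.toLinearMap := by
  have h1 := conv3_eq k A f g h
  have h2 : toConv (toConv (Dyn.conv3 k A f g h)).ofConv.toLinearMap =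
    toConv (toConv f * toConv g * toConv h).ofConv.toLinearMap := by rw [h1]
  rw [AlgHom.toLinearMap_convMul, AlgHom.toLinearMap_convMul] at h2
  simpa using h2

theorem conv_mul_antipode (k : Type u) [CommRing k] (A : Type u) [CommRing A] [HopfAlgebra k A]
    {C : Type u} [CommRing C] [Algebra k C] (f : A →ₐ[k] C) :
    toConv f.toLinearMap * toConv (f.comp (HopfAlgebra.antipodeAlgHom k A)).toLinearMap = 1 := by
  have h1 := LinearMap.algHom_comp_convMul_distrib f (toConv (LinearMap.id (R := k) (M := A)))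
    (toConv (HopfAlgebra.antipode k (A := A)))
  rw [LinearMap.id_mul_antipode] at h1
  apply WithConv.ext
  refine Eq.trans h1.symm ?_
  ext a
  simp

noncomputable def P0 (k : Type u) [CommRing k] (A : Type u) [CommRing A] [HopfAlgebra k A]
    (D : LieHopf.Lie k A) (R : Type u) [CommRing R] [Algebra k R] : WithConv (A →ₗ[k] R) :=
  toConv (Algebra.linearMap k R ∘ₗ LieHopf.dlin D)

theorem ptOfLie_toLinearMap (k : Type u) [CommRing k] (A : Type u) [CommRing A] [HopfAlgebra k A]
    (D : LieHopf.Lie k A) (R : Type u) [CommRing R] [Algebra k R] (t : R) (ht : t * t = 0) :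
    toConv (LieHopf.ptOfLie D R t ht).toLinearMap = 1 + t • P0 k A D R := by
  ext a
  simp [LieHopf.ptOfLie, P0, mul_comm]

theorem inv_eq {W : Type u} [Ring W] (P X' : W) (hP : P * P = 0) (h : (1 + P) * X' = 1) :
    X' = 1 - P := by
  have h1 : (1 - P) * (1 + P) = 1 := by
    have : (1 - P) * (1 + P) = 1 - P * P := by noncomm_ring
    rw [this, hP, sub_zero]
  calc X' = (1 - P) * (1 + P) * X' := by rw [h1, one_mul]
    _ = (1 - P) * ((1 + P) * X') := by rw [mul_assoc]
    _ = 1 - P := by rw [h, mul_one]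

theorem comm_eq {W : Type u} [Ring W] (P Q : W) (hP : P * P = 0) (hQ : Q * Q = 0)
    (hPQP : P * Q * P = 0) (hQPQ : Q * P * Q = 0) :
    (1 + P) * (1 + Q) * (1 - P) * (1 - Q) = 1 + (P * Q - Q * P) := by
  have e : (1 + P) * (1 + Q) * (1 - P) * (1 - Q) = 1 + (P * Q - Q * P)
     - P * P - P * Q * P - Q * Q - P * (Q * Q) + Q * P * Q + P * P * Q + (P * Q * P) * Q := by
    noncomm_ring
  rw [e, hP, hQ, hPQP, hQPQ]
  simp

/-- SGA 3 II 4.7.3 (Hopf form): let A be a commutative Hopf algebra over a commutative ring k, D and E two ε-derivations A → k (tangent vectors at the identity of G = Spec A), R a commutative k-algebra and t, t' ∈ R with t² = 0 = t'². Let x = e + tD and y = e + t'E be the corresponding R-points of G. Then the commutator x y x⁻¹ y⁻¹ (product of points; the inverse of a point is its composite with the antipode) is the point a ↦ ε(a) + [D, E](a) · t t', where [D, E] = D ⋆ E − E ⋆ D is the convolution commutator. -/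
theorem result (k : Type u) [CommRing k] (A : Type u) [CommRing A] [HopfAlgebra k A]
    (D E : LieHopf.Lie k A) (R : Type u) [CommRing R] [Algebra k R] (t t' : R) (ht : t * t = 0) (ht' : t' * t' = 0)
    (a : A) :
    Dyn.conv3 k A
        (Dyn.conv3 k A (LieHopf.ptOfLie D R t ht) (LieHopf.ptOfLie E R t' ht')
          ((LieHopf.ptOfLie D R t ht).comp (HopfAlgebra.antipodeAlgHom k A)))
        ((LieHopf.ptOfLie E R t' ht').comp (HopfAlgebra.antipodeAlgHom k A))
        ((Algebra.ofId k R).comp (Bialgebra.counitAlgHom k A)) a =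
      algebraMap k R (Bialgebra.counitAlgHom k A a) + algebraMap k R (LieHopf.bracketLin D E a) * (t * t') := by
  set P := t • P0 k A D R with hPdef
  set Q := t' • P0 k A E R with hQdef
  have key : ∀ (s : R) (hs : s * s = 0) (U V : WithConv (A →ₗ[k] R)), (s • U) * V * (s • U) = 0 := by
    intro s hs U V
    rw [smul_mul_assoc, smul_mul_assoc, mul_smul_comm, smul_smul, hs, zero_smul]
  have hP : P * P = 0 := by
    have := key t ht (P0 k A D R) 1
    rwa [mul_one] at this
  have hQ : Q * Q = 0 := by
    have := key t' ht' (P0 k A E R) 1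
    rwa [mul_one] at this
  have hPQP : P * Q * P = 0 := key t ht (P0 k A D R) Q
  have hQPQ : Q * P * Q = 0 := key t' ht' (P0 k A E R) P
  have hX := ptOfLie_toLinearMap k A D R t ht
  have hY := ptOfLie_toLinearMap k A E R t' ht'
  have hX' := inv_eq P _ hP (by rw [← hX]; exact conv_mul_antipode k A (LieHopf.ptOfLie D R t ht))
  have hY' := inv_eq Q _ hQ (by rw [← hY]; exact conv_mul_antipode k A (LieHopf.ptOfLie E R t' ht'))
  have h1 : toConv ((Algebra.ofId k R).comp (Bialgebra.counitAlgHom k A)).toLinearMap = 1 := rfl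
  have hmain : toConv (Dyn.conv3 k A
        (Dyn.conv3 k A (LieHopf.ptOfLie D R t ht) (LieHopf.ptOfLie E R t' ht')
          ((LieHopf.ptOfLie D R t ht).comp (HopfAlgebra.antipodeAlgHom k A)))
        ((LieHopf.ptOfLie E R t' ht').comp (HopfAlgebra.antipodeAlgHom k A))
        ((Algebra.ofId k R).comp (Bialgebra.counitAlgHom k A))).toLinearMap =
        1 + (P * Q - Q * P) := by
    rw [conv3_toLinearMap, conv3_toLinearMap, h1, mul_one, hX', hY', hX, hY]
    exact comm_eq P Q hP hQ hPQP hQPQ
  have hfin : Dyn.conv3 k A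
        (Dyn.conv3 k A (LieHopf.ptOfLie D R t ht) (LieHopf.ptOfLie E R t' ht')
          ((LieHopf.ptOfLie D R t ht).comp (HopfAlgebra.antipodeAlgHom k A)))
        ((LieHopf.ptOfLie E R t' ht').comp (HopfAlgebra.antipodeAlgHom k A))
        ((Algebra.ofId k R).comp (Bialgebra.counitAlgHom k A)) a =
        (1 + (P * Q - Q * P) : WithConv (A →ₗ[k] R)) a := by
    rw [← hmain]; rfl
  rw [hfin]
  have hconv : ∀ (D E : LieHopf.Lie k A), (P0 k A D R * P0 k A E R) a =
      algebraMap k R (LieHopf.conv (LieHopf.dlin D) (LieHopf.dlin E) a) := by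
    intro D E
    have h3 : (P0 k A D R * P0 k A E R).ofConv = Algebra.linearMap k R ∘ₗ
        (toConv (LieHopf.dlin D) * toConv (LieHopf.dlin E)).ofConv := by
      have := LinearMap.algHom_comp_convMul_distrib (Algebra.ofId k R) (toConv (LieHopf.dlin D))
        (toConv (LieHopf.dlin E))
      exact this.symm
    have h4 := LinearMap.congr_fun h3 a
    exact h4
  have hPQ : (P * Q) a = (t * t') * algebraMap k R (LieHopf.conv (LieHopf.dlin D) (LieHopf.dlin E) a) := by
    rw [hPdef, hQdef, smul_mul_assoc, mul_smul_comm, smul_smul]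
    show (t * t') • ((P0 k A D R * P0 k A E R) a) = _
    rw [hconv]; rfl
  have hQP : (Q * P) a = (t * t') * algebraMap k R (LieHopf.conv (LieHopf.dlin E) (LieHopf.dlin D) a) := by
    rw [hPdef, hQdef, smul_mul_assoc, mul_smul_comm, smul_smul, mul_comm t' t]
    show (t * t') • ((P0 k A E R * P0 k A D R) a) = _
    rw [hconv]; rfl
  have hbr : LieHopf.bracketLin D E a = LieHopf.conv (LieHopf.dlin D) (LieHopf.dlin E) a -
    LieHopf.conv (LieHopf.dlin E) (LieHopf.dlin D) a := rfl
  rw [hbr]
  show (1 : WithConv (A →ₗ[k] R)) a + ((P * Q) a - (Q * P) a) = _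
  rw [hPQ, hQP, map_sub, LinearMap.convOne_apply]
  simp only [Bialgebra.counitAlgHom_apply]
  ring

end Groth.Agent.S3046
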