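import Groth.Statements.S3045
import Mathlib.Tactic.NoncommRing
import Mathlib.RingTheory.HopfAlgebra.Convolution
import Groth.Agent.S3046

set_option autoImplicit false
universe u
open TensorProduct
open SGA3

namespace Groth.Agent.S3045

noncomputable def Q0 (k : Type u) [CommRing k] (A : Type u) [CommRing A] [HopfAlgebra k A]
    (φ : LieHopf.LiePts k A) : WithConv (A →ₗ[k] DualNumber k) :=
  WithConv.toConv (Algebra.linearMap k (DualNumber k) ∘ₗ (TrivSqZeroExt.sndHom k k ∘ₗ φ.1.toLinearMap))

theorem pt_eq (k : Type u) [CommRing k] (A : Type u) [CommRing A] [HopfAlgebra k A]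
    (φ : LieHopf.LiePts k A) : WithConv.toConv φ.1.toLinearMap =
      1 + (DualNumber.eps : DualNumber k) • Q0 k A φ := by
  ext a
  · have := φ.2 a
    simp [this, Q0]
    rfl
  · simp [Q0, TrivSqZeroExt.algebraMap_eq_inl]

/-- SGA 3 II Prop. 3.9 / Cor. 3.9.3 (Hopf form): let A be a commutative Hopf algebra over a commutative ring k and φ, ψ two k[ε]-points of Spec A reducing to the unit. Then the ε-component of their product φ · ψ (product of points, i.e. convolution) is the sum of the ε-components of φ and ψ: on tangent vectors at the identity the group law of G is addition. -/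
theorem result (k : Type u) [CommRing k] (A : Type u) [CommRing A] [HopfAlgebra k A]
    (φ ψ : LieHopf.LiePts k A) (a : A) :
    TrivSqZeroExt.snd (Dyn.conv3 k A φ.1 ψ.1 ((Algebra.ofId k (DualNumber k)).comp (Bialgebra.counitAlgHom k A)) a) =
      LieHopf.LiePts.tangent k A φ a + LieHopf.LiePts.tangent k A ψ a := by
  have h1 : WithConv.toConv ((Algebra.ofId k (DualNumber k)).comp
      (Bialgebra.counitAlgHom k A)).toLinearMap = 1 := rfl
  have hmain : WithConv.toConv (Dyn.conv3 k A φ.1 ψ.1 ((Algebra.ofId k (DualNumber k)).comp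
      (Bialgebra.counitAlgHom k A))).toLinearMap =
      1 + (DualNumber.eps : DualNumber k) • (Q0 k A φ + Q0 k A ψ) := by
    rw [S3046.conv3_toLinearMap, h1, mul_one, pt_eq, pt_eq]
    have : ((DualNumber.eps : DualNumber k) • Q0 k A φ) * ((DualNumber.eps : DualNumber k) • Q0 k A ψ) = 0 := by
      rw [smul_mul_assoc, mul_smul_comm, smul_smul, DualNumber.eps_mul_eps, zero_smul]
    rw [add_mul, mul_add, mul_add, this, one_mul, mul_one, one_mul, smul_add]
    abel
  have hfin : Dyn.conv3 k A φ.1 ψ.1 ((Algebra.ofId k (DualNumber k)).comp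
      (Bialgebra.counitAlgHom k A)) a =
        (1 + (DualNumber.eps : DualNumber k) • (Q0 k A φ + Q0 k A ψ) : WithConv (A →ₗ[k] DualNumber k)) a := by
    rw [← hmain]; rfl
  rw [hfin]
  simp [Q0, LieHopf.LiePts.tangent, TrivSqZeroExt.algebraMap_eq_inl]

end Groth.Agent.S3045
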