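import Groth.Statements.S3049
import Groth.Agent.Sga4A.EtDescFF

set_option autoImplicit false
open CategoryTheory CategoryTheory.Limits AlgebraicGeometry Opposite
universe u
open EtDesc

namespace Groth.Agent.S3049

/-- SGA 4 VIII 9.2: let f : X' -> X be universally submersive and F a sheaf of sets on X_et, with inverse images F' on X' and F'' on X'' = X' x_X X'. Then Gamma(X, F) -> Gamma(X', F') is injective with image the sections whose two pullbacks to X'' agree (under the canonical identification pr_1^* F' = pr_2^* F'); i.e. the sequence Gamma(X, F) -> Gamma(X', F') => Gamma(X'', F'') is exact. -/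
theorem result {X' X : Scheme.{u}} (f : X' ⟶ X)
    (hf : EtDesc.IsUnivSubmersive f) (F : EtDesc.Sh X) :
    Function.Injective (EtDesc.secPull f F) ∧
    Set.range (EtDesc.secPull f F) =
      {s' | (EtDesc.canIso f F).hom.hom.app (op (EtCoh.top (EtDesc.X2 f)))
          (EtDesc.secPull (pullback.fst f f) ((EtDesc.pullSh f).obj F) s') =
        EtDesc.secPull (pullback.snd f f) ((EtDesc.pullSh f).obj F) s'} := by
  exact ⟨Groth.Agent.Sga4A.EtStalk.secPull_injective f
      (Groth.Agent.Sga4A.EtStalk.etSubmersive_of_isUnivSubmersive f hf) F,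
    Groth.Agent.Sga4A.EtStalk.range_secPull f
      (Groth.Agent.Sga4A.EtStalk.etSubmersive_of_isUnivSubmersive f hf) F⟩

end Groth.Agent.S3049
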