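import Groth.Statements.S3055
import Mathlib.CategoryTheory.Sites.DenseSubsite.InducedTopology
-- import your own Groth.Agent.* helpers here

set_option autoImplicit false
open CategoryTheory CategoryTheory.Limits AlgebraicGeometry Opposite
universe u
open EtDesc

namespace Groth.Agent.S3055

variable (k : Type u) [Field k] [IsSepClosed k]

/-- The functor from the punctual category picking out the base scheme itself. -/
noncomputable abbrev ptF (X : Scheme.{u}) : Discrete PUnit.{1} ⥤ X.Etale :=
  Functor.fromPUnit (EtCoh.top X)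

instance ptF_full (X : Scheme.{u}) : (ptF X).Full where
  map_surjective {a b} f := ⟨eqToHom (by subsingleton),
    (EtCore.topIsTerminal X).hom_ext _ _⟩

instance ptF_faithful (X : Scheme.{u}) : (ptF X).Faithful where
  map_injective {a b} f g _ := by subsingleton

set_option backward.isDefEq.respectTransparency.types false in
instance ptF_dense : (ptF (Spec (CommRingCat.of k))).IsCoverDense
    (Spec (CommRingCat.of k)).smallEtaleTopology where
  is_cover U := by
    let ι := (EtCoh.top (Spec (CommRingCat.of k)) ⟶ U)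
    refine GrothendieckTopology.superset_covering _ (S := Sieve.ofArrows
      (fun _ : ι => EtCoh.top (Spec (CommRingCat.of k))) (fun i => i)) ?_ ?_
    · rintro Y f ⟨Z, g, h, ⟨i⟩, w⟩
      exact ⟨⟨⟨⟨⟩⟩, g, i, w⟩⟩
    · rw [Scheme.ofArrows_mem_smallEtaleTopology_iff]
      ext x
      simp only [Set.mem_iUnion, Set.mem_range, Set.mem_univ, iff_true]
      obtain ⟨l, hl, hl'⟩ := Scheme.exists_fac_of_etale_of_isSepClosed U.hom
        (𝟙 (Spec (CommRingCat.of k))) x
        (Subsingleton.elim (α := Spec (CommRingCat.of k)) _ _)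
      exact ⟨MorphismProperty.Over.homMk l hl (by simp), (default : Spec (CommRingCat.of k)), hl'⟩

lemma eq_top_of_mem (S : Sieve (⟨PUnit.unit⟩ : Discrete PUnit.{1}))
    (hS : S ∈ (ptF (Spec (CommRingCat.of k))).inducedTopology
      (Spec (CommRingCat.of k)).smallEtaleTopology ⟨PUnit.unit⟩) : S = ⊤ := by
  rw [Functor.mem_inducedTopology_iff_of_isCoverDense] at hS
  obtain ⟨α, T, f, hf⟩ := (S.functorPushforward (ptF (Spec (CommRingCat.of k)))).exists_eq_ofArrows
  rw [hf, Scheme.ofArrows_mem_smallEtaleTopology_iff] at hS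
  obtain ⟨i, y, hy⟩ : ∃ (i : α) (y : (T i).left), (f i).left y =
      (default : Spec (CommRingCat.of k)) := by
    have hx := hS.symm.subset (Set.mem_univ (default : Spec (CommRingCat.of k)))
    obtain ⟨_, ⟨i, rfl⟩, hx⟩ := hx
    exact ⟨i, hx⟩
  have : (S.functorPushforward (ptF (Spec (CommRingCat.of k)))) (f i) := by
    rw [hf]
    exact Sieve.ofArrows_mk _ _ i
  obtain ⟨Z, g, h, hg, _⟩ := this
  obtain rfl : Z = ⟨PUnit.unit⟩ := rfl
  obtain rfl : g = 𝟙 _ := by subsingleton
  exact (Sieve.id_mem_iff_eq_top).1 hg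

/-- SGA 4 VIII 2.4, first assertion: for a separably closed field k and X = Spec k, the global sections functor from sheaves of sets on X_et (valued one universe up) to sets is an equivalence of categories. -/
theorem result (k : Type u) [Field k] [IsSepClosed k] :
    ((sheafSections (Spec (CommRingCat.of k)).smallEtaleTopology (Type (u + 1))).obj
      (op (EtCoh.top (Spec (CommRingCat.of k))))).IsEquivalence := by
  let X := Spec (CommRingCat.of k)
  let G := ptF X
  let K := X.smallEtaleTopology
  let J := G.inducedTopology K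
  have hJ : J = ⊥ := by
    ext ⟨⟨⟩⟩ S
    constructor
    · intro h
      rw [GrothendieckTopology.bot_covering]
      exact eq_top_of_mem k S h
    · intro h
      rw [GrothendieckTopology.bot_covering] at h
      rw [h]
      exact J.top_mem _
  let E := G.sheafPushforwardContinuous (Type (u + 1)) J K
  have hE : E.IsEquivalence := inferInstance
  let R : Sheaf J (Type (u + 1)) ⥤ Type (u + 1) := (sheafSections J (Type (u + 1))).obj (op ⟨⟨⟩⟩)
  have hR : R.IsEquivalence := by
    have : R.Faithful := ⟨fun {F F'} f g h => by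
      ext ⟨⟨⟨⟩⟩⟩ x
      exact ConcreteCategory.congr_hom h x⟩
    have : R.Full := ⟨fun {F F'} f => by
      refine ⟨⟨{ app := fun _ => f, naturality := ?_ }⟩, rfl⟩
      rintro ⟨⟨⟨⟩⟩⟩ ⟨⟨⟨⟩⟩⟩ g
      obtain rfl : g = 𝟙 _ := Quiver.Hom.unop_inj (by subsingleton)
      simp⟩
    have : R.EssSurj := ⟨fun S => ⟨⟨(Functor.const _).obj S, by
      rw [hJ]; exact Presheaf.isSheaf_bot _⟩, ⟨Iso.refl _⟩⟩⟩
    exact { }
  exact inferInstanceAs (E ⋙ R).IsEquivalence

end Groth.Agent.S3055
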