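import Groth.Statements.S3056
import Groth.Agent.Sga4A.EpiFam
import Groth.Agent.Sga4A.EpsSect

set_option autoImplicit false
open CategoryTheory CategoryTheory.Limits Opposite
universe u
open ToposFin

namespace Groth.Agent.S3056

/-- SGA 4 VI 1.2: for a small site (C, J) and an object X of C, X is quasi-compact as an object of the site (every covering sieve contains finitely many arrows generating a covering sieve) if and only if the sheaf associated to the presheaf represented by X is a quasi-compact object of the topos of sheaves of sets. -/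
theorem result {C : Type u} [SmallCategory C] (J : GrothendieckTopology C) (X : C) :
    ToposFin.IsQCSite J X ↔ ToposFin.IsQC (ToposFin.eps J X) := by
  constructor
  · intro hX ι F π hπ
    rw [Sga4A.EpiFam.epi_desc_iff] at hπ
    obtain ⟨n, V, g, hg, hcov⟩ := hX _ (hπ X (Sga4A.EpsSect.sect J (𝟙 X)))
    choose i y hy using hg
    classical
    refine ⟨Finset.univ.image i, ?_⟩
    rw [Sga4A.EpiFam.epi_desc_iff]
    intro U x
    obtain ⟨S, hS, hS'⟩ := Sga4A.EpsSect.exists_sect J x
    refine J.transitive hS _ ?_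
    intro W a ha
    obtain ⟨f, hf⟩ := hS' W a ha
    refine J.superset_covering ?_ (J.pullback_stable f hcov)
    rintro T b ⟨_, c, _, ⟨k⟩, hck⟩
    refine ⟨⟨i k, by simp⟩, (F (i k)).obj.map c.op (y k), ?_⟩
    have h1 := NatTrans.naturality_apply (π (i k)).hom c.op (y k)
    refine h1.trans ?_
    rw [hy, Sga4A.EpsSect.map_sect, Sga4A.EpsSect.map_sect]
    have h2 : (ToposFin.eps J X).obj.map (b ≫ a).op x = Sga4A.EpsSect.sect J (b ≫ f) := by
      rw [← Sga4A.EpsSect.map_sect, hf]
      simp
    rw [h2, Category.comp_id, hck]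
  · intro h S hS
    let ι : Type u := Σ V : C, {f : V ⟶ X // S f}
    let F : ι → ToposFin.Sh J := fun i => ToposFin.eps J i.1
    let π : ∀ i, F i ⟶ ToposFin.eps J X := fun i =>
      (presheafToSheaf J (Type u)).map (yoneda.map i.2.1)
    have hπ : Epi (Sigma.desc π) := by
      rw [Sga4A.EpiFam.epi_desc_iff]
      intro U x
      obtain ⟨T, hT, hT'⟩ := Sga4A.EpsSect.exists_sect J x
      refine J.transitive hT _ ?_
      intro W a ha
      obtain ⟨f, hf⟩ := hT' W a ha
      refine J.superset_covering ?_ (J.pullback_stable f hS)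
      intro R b hb
      refine ⟨⟨R, b ≫ f, hb⟩, Sga4A.EpsSect.sect J (𝟙 R), ?_⟩
      refine (Sga4A.EpsSect.eps_map_sect J (𝟙 R) (b ≫ f)).trans ?_
      have h2 : (ToposFin.eps J X).obj.map (b ≫ a).op x = Sga4A.EpsSect.sect J (b ≫ f) := by
        rw [← Sga4A.EpsSect.map_sect, hf]
        simp
      rw [h2, Category.id_comp]
    obtain ⟨s, hs⟩ := h ι F π hπ
    rw [Sga4A.EpiFam.epi_desc_iff] at hs
    let e : Fin s.card ≃ s := (Fintype.equivFinOfCardEq (by simp)).symm
    refine ⟨s.card, fun k => (e k).1.1, fun k => (e k).1.2.1, fun k => (e k).1.2.2, ?_⟩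
    refine J.transitive (hs X (Sga4A.EpsSect.sect J (𝟙 X))) _ ?_
    rintro W a ⟨i, y, hy⟩
    obtain ⟨T, hT, hT'⟩ := Sga4A.EpsSect.exists_sect J (X := i.1.1) y
    refine J.transitive hT _ ?_
    intro R b hb
    obtain ⟨f, hf⟩ := hT' R b hb
    have h1 : Sga4A.EpsSect.sect J (f ≫ i.1.2.1) = Sga4A.EpsSect.sect J (b ≫ a) := by
      rw [← Sga4A.EpsSect.eps_map_sect, hf]
      refine (NatTrans.naturality_apply (π i.1).hom b.op y).trans ?_
      have h3 : (π i.1).hom.app (op W) y = Sga4A.EpsSect.sect J a := by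
        refine hy.trans ?_
        rw [Sga4A.EpsSect.map_sect, Category.comp_id]
      rw [h3, Sga4A.EpsSect.map_sect]
    obtain ⟨Q, hQ, hQ'⟩ := Sga4A.EpsSect.eq_locally J _ _ h1
    refine J.superset_covering ?_ hQ
    intro Z c hc
    have h4 := hQ' Z c hc
    refine ⟨i.1.1, c ≫ f, i.1.2.1, ?_, ?_⟩
    · obtain ⟨k, hk⟩ := e.surjective i
      have : i = e k := hk.symm
      subst this
      exact ⟨k⟩
    · simpa using h4

end Groth.Agent.S3056
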