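import Groth.Statements.S3058
import Groth.Agent.Sga4A.QC
import Groth.Agent.Sga4A.GiraudVK

set_option autoImplicit false
open CategoryTheory CategoryTheory.Limits Opposite
universe u
open ToposFin

namespace Groth.Agent.S3058

/-- An object covered by initial objects is initial. -/
noncomputable def isInitial_of_js {C : Type u} [SmallCategory C] {J : GrothendieckTopology C}
    {ι : Type*} {X : ToposFin.Sh J} {F : ι → ToposFin.Sh J} {π : ∀ i, F i ⟶ X}
    (h : Sga4A.QC.JS π) (hF : ∀ i, IsInitial (F i)) : IsInitial X := by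
  have h1 : Sga4A.QC.JS (fun _ : PUnit.{1} => initial.to X) := by
    apply h.of_factors
    intro i
    exact ⟨PUnit.unit, (hF i).to _, (hF i).hom_ext _ _⟩
  have h2 : Epi (initial.to X) := (Sga4A.QC.js_punit _).1 h1
  have h3 : IsIso (initial.to X) := isIso_of_mono_of_epi _
  exact initialIsInitial.ofIso (asIso (initial.to X))

theorem isQC_summand {C : Type u} [SmallCategory C] {J : GrothendieckTopology C} {ι : Type u}
    (F : ι → ToposFin.Sh J) (h : ToposFin.IsQC (∐ F)) (i : ι) : ToposFin.IsQC (F i) := by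
  classical
  have := Sga4A.GiraudVK.coproductDisjoint_sheaf F
  rw [Sga4A.QC.isQC_iff_js]
  intro κ G ρ hρ
  have h1 : Sga4A.QC.JS (J := J) (ι := κ ⊕ {j // j ≠ i}) (X := ∐ F)
      (F := Sum.elim G (fun j => F j.1))
      (fun x => match x with
        | Sum.inl k => ρ k ≫ Sigma.ι F i
        | Sum.inr j => Sigma.ι F j.1) := by
    rw [Sga4A.QC.js_iff_epiFamily]
    intro Z a b hab
    refine Sigma.hom_ext _ _ fun j => ?_
    by_cases hj : j = i
    · subst hj
      apply hρ.hom_ext
      intro k
      simpa using hab (Sum.inl k)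
    · exact hab (Sum.inr ⟨j, hj⟩)
  obtain ⟨s, hs⟩ := Sga4A.QC.exists_finset_js h h1
  refine ⟨s.preimage Sum.inl Sum.inl_injective.injOn, ?_⟩
  have h2 := hs.pullback_snd (Sigma.ι F i)
  rw [Sga4A.QC.js_iff_epiFamily]
  intro Z a b hab
  apply h2.hom_ext
  rintro ⟨x | j, hx⟩
  · have h3 : pullback.snd (ρ x ≫ Sigma.ι F i) (Sigma.ι F i) =
        pullback.fst (ρ x ≫ Sigma.ι F i) (Sigma.ι F i) ≫ ρ x := by
      rw [← cancel_mono (Sigma.ι F i), ← pullback.condition, Category.assoc]
    change pullback.snd (ρ x ≫ Sigma.ι F i) (Sigma.ι F i) ≫ a =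
      pullback.snd (ρ x ≫ Sigma.ι F i) (Sigma.ι F i) ≫ b
    rw [h3, Category.assoc, Category.assoc]
    congr 1
    exact hab ⟨x, by simpa using hx⟩
  · exact (IsInitial.ofCoproductDisjoint (X := F) j.2).hom_ext _ _

/-- SGA 4 VI 1.4, for a topos of sheaves of sets on a small site: the coproduct of a small family of objects is quasi-compact if and only if every member is quasi-compact and all but finitely many members are initial (empty) objects. -/
theorem result {C : Type u} [SmallCategory C] {J : GrothendieckTopology C} {ι : Type u}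
    (F : ι → ToposFin.Sh J) :
    ToposFin.IsQC (∐ F) ↔ (∀ i, ToposFin.IsQC (F i)) ∧ {i | IsEmpty (F i ≅ ⊥_ (ToposFin.Sh J))}.Finite := by
  have := Sga4A.GiraudVK.coproductDisjoint_sheaf F
  constructor
  · intro h
    refine ⟨fun i => isQC_summand F h i, ?_⟩
    obtain ⟨s, hs⟩ := Sga4A.QC.exists_finset_js h (Sga4A.QC.js_sigma_ι F)
    refine s.finite_toSet.subset ?_
    intro i hi
    by_contra his
    refine hi.false (initialIsInitial.uniqueUpToIso ?_).symm
    have h1 := hs.pullback_snd (Sigma.ι F i)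
    have h2 : ∀ k : s, IsInitial (pullback (Sigma.ι F k) (Sigma.ι F i)) := fun k =>
      IsInitial.ofCoproductDisjoint (X := F) (i := k.1) (j := i) (fun hki => his (hki ▸ k.2))
    exact isInitial_of_js h1 h2
  · rintro ⟨h1, h2⟩
    have := h2.to_subtype
    refine Sga4A.QC.isQC_of_finite_js
      (ι := {i | IsEmpty (F i ≅ ⊥_ (ToposFin.Sh J))}) (π := fun i => Sigma.ι F i.1) ?_
      (fun i => h1 i.1)
    rw [Sga4A.QC.js_iff_epiFamily]
    intro Z a b hab
    refine Sigma.hom_ext _ _ fun i => ?_
    by_cases hi : IsEmpty (F i ≅ ⊥_ (ToposFin.Sh J))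
    · exact hab ⟨i, hi⟩
    · rw [not_isEmpty_iff] at hi
      exact (initialIsInitial.ofIso hi.some.symm).hom_ext _ _

end Groth.Agent.S3058
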