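import Groth.Statements.S3059
import Groth.Agent.Sga4A.FiltColim

set_option autoImplicit false
open CategoryTheory CategoryTheory.Limits Opposite
universe u
open ToposFin

namespace Groth.Agent.S3059

open Groth.Agent.Sga4A.FiltColim

theorem post_injective {C : Type u} [SmallCategory C] {J : GrothendieckTopology C}
    (X : ToposFin.Sh J) (hX : ToposFin.IsQC X) (I : Type u) [SmallCategory I] [IsFiltered I]
    (D : I ⥤ ToposFin.Sh J) :
    Function.Injective (colimit.post D (coyoneda.obj (op X))) := by
  intro z₁ z₂ h
  obtain ⟨i, f, g, rfl, rfl⟩ := Types.FilteredColimit.jointly_surjective_of_isColimit₂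
    (colimit.isColimit (D ⋙ coyoneda.obj (op X))) z₁ z₂
  have hf := ConcreteCategory.congr_hom (colimit.ι_post D (coyoneda.obj (op X)) i) f
  have hg := ConcreteCategory.congr_hom (colimit.ι_post D (coyoneda.obj (op X)) i) g
  have hfg : f ≫ colimit.ι D i = g ≫ colimit.ι D i := by
    refine Eq.trans hf.symm (Eq.trans h hg)
  obtain ⟨j, t, ht⟩ := eq_of_isQC D hX _ (colimit.isColimit D) i f g hfg
  exact (Types.FilteredColimit.isColimit_eq_iff' (colimit.isColimit (D ⋙ coyoneda.obj (op X)))
    f g).2 ⟨j, t, ht⟩

/-- The diagram of cokernel pairs of the finite subfamilies of a family. -/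
noncomputable def cokerPairs {C : Type u} [SmallCategory C] {J : GrothendieckTopology C}
    {X : ToposFin.Sh J} {ι : Type u} {F : ι → ToposFin.Sh J} (π : ∀ i, F i ⟶ X) :
    Finset ι ⥤ ToposFin.Sh J where
  obj s := pushout (Sigma.desc (fun i : s => π i)) (Sigma.desc (fun i : s => π i))
  map {s t} h := pushout.desc (pushout.inl (Sigma.desc (fun i : t => π i)) (Sigma.desc (fun i : t => π i)))
    (pushout.inr (Sigma.desc (fun i : t => π i)) (Sigma.desc (fun i : t => π i))) (by
      apply Sigma.hom_ext
      intro i
      have := (Sigma.ι (fun k : t => F k) ⟨i.1, leOfHom h i.2⟩) ≫=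
        (pushout.condition (f := Sigma.desc (fun k : t => π k))
          (g := Sigma.desc (fun k : t => π k)))
      simpa using this)
  map_id s := by
    apply pushout.hom_ext
    · exact (pushout.inl_desc _ _ _).trans (Category.comp_id _).symm
    · exact (pushout.inr_desc _ _ _).trans (Category.comp_id _).symm
  map_comp {s t r} f g := by
    apply pushout.hom_ext
    · refine (pushout.inl_desc _ _ _).trans ?_
      refine Eq.trans ?_ (Category.assoc _ _ _)
      refine Eq.trans ?_ (congrArg (· ≫ _) (pushout.inl_desc _ _ _).symm)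
      exact (pushout.inl_desc _ _ _).symm
    · refine (pushout.inr_desc _ _ _).trans ?_
      refine Eq.trans ?_ (Category.assoc _ _ _)
      refine Eq.trans ?_ (congrArg (· ≫ _) (pushout.inr_desc _ _ _).symm)
      exact (pushout.inr_desc _ _ _).symm

/-- SGA 4 VI 1.23 (i), for a topos of sheaves of sets on a small site: an object X is quasi-compact if and only if, for every small filtered diagram (Y_i), the natural map colim Hom(X, Y_i) -> Hom(X, colim Y_i) is injective. -/
theorem result {C : Type u} [SmallCategory C] {J : GrothendieckTopology C}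
    (X : ToposFin.Sh J) :
    ToposFin.IsQC X ↔ ∀ (I : Type u) [SmallCategory I] [IsFiltered I] (D : I ⥤ ToposFin.Sh J),
      Function.Injective (colimit.post D (coyoneda.obj (op X))) := by
  constructor
  · intro hX I _ _ D
    exact post_injective X hX I D
  · intro H ι F π hπ
    classical
    have h1 := H (Finset ι) (cokerPairs π)
    let inl : ∀ s, X ⟶ (cokerPairs π).obj s := fun s => pushout.inl _ _
    let inr : ∀ s, X ⟶ (cokerPairs π).obj s := fun s => pushout.inr _ _
    have hinl : ∀ {s t : Finset ι} (h : s ⟶ t), inl s ≫ (cokerPairs π).map h = inl t := by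
      intro s t h
      exact pushout.inl_desc _ _ _
    have hinr : ∀ {s t : Finset ι} (h : s ⟶ t), inr s ≫ (cokerPairs π).map h = inr t := by
      intro s t h
      exact pushout.inr_desc _ _ _
    have key : inl ∅ ≫ colimit.ι (cokerPairs π) ∅ = inr ∅ ≫ colimit.ι (cokerPairs π) ∅ := by
      apply (jepi_iff_epi _).2 hπ
      intro i
      let h : (∅ : Finset ι) ⟶ {i} := homOfLE (by simp)
      rw [← colimit.w (cokerPairs π) h, reassoc_of% (hinl h), reassoc_of% (hinr h)]
      rw [← Category.assoc, ← Category.assoc]
      congr 1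
      have := (Sigma.ι (fun k : ({i} : Finset ι) => F k) ⟨i, by simp⟩) ≫=
        (pushout.condition (f := Sigma.desc (fun k : ({i} : Finset ι) => π k))
          (g := Sigma.desc (fun k : ({i} : Finset ι) => π k)))
      simp only [Sigma.ι_desc_assoc] at this
      exact this
    have h2 := h1 (a₁ := colimit.ι (cokerPairs π ⋙ coyoneda.obj (op X)) ∅ (inl ∅))
      (a₂ := colimit.ι (cokerPairs π ⋙ coyoneda.obj (op X)) ∅ (inr ∅)) (by
        have hf := ConcreteCategory.congr_hom (colimit.ι_post (cokerPairs π) (coyoneda.obj (op X)) ∅) (inl ∅)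
        have hg := ConcreteCategory.congr_hom (colimit.ι_post (cokerPairs π) (coyoneda.obj (op X)) ∅) (inr ∅)
        refine Eq.trans hf (Eq.trans key hg.symm))
    obtain ⟨s, t, ht⟩ := (Types.FilteredColimit.isColimit_eq_iff' (colimit.isColimit (cokerPairs π ⋙ coyoneda.obj (op X)))
      (inl ∅) (inr ∅)).1 h2
    have ht' : inl ∅ ≫ (cokerPairs π).map t = inr ∅ ≫ (cokerPairs π).map t := ht
    rw [hinl, hinr] at ht'
    refine ⟨s, ?_⟩
    constructor
    intro Z f g hfg
    have hl := pushout.inl_desc f g hfg
    have hr := pushout.inr_desc f g hfg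
    refine hl.symm.trans (Eq.trans ?_ hr)
    change inl s ≫ _ = inr s ≫ _
    rw [ht']

end Groth.Agent.S3059
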