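import Groth.Statements.S3060
import Groth.Agent.S3059
import Groth.Agent.Sga4A.FiltColim2

set_option autoImplicit false
open CategoryTheory CategoryTheory.Limits Opposite
universe u
open ToposFin

namespace Groth.Agent.S3060

/-- SGA 4 VI 1.23 (ii), for a topos of sheaves of sets on a small site admitting a generating family of quasi-compact objects: if X is coherent then for every small filtered diagram (Y_i) the natural map colim Hom(X, Y_i) -> Hom(X, colim Y_i) is bijective (X is finitely presentable). -/
theorem result {C : Type u} [SmallCategory C] {J : GrothendieckTopology C}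
    (hE : ToposFin.HasQCGenerators J) (X : ToposFin.Sh J) (hX : ToposFin.IsCoherent X)
    (I : Type u) [SmallCategory I] [IsFiltered I] (D : I ⥤ ToposFin.Sh J) :
    Function.Bijective (colimit.post D (coyoneda.obj (op X))) := by
  refine ⟨Groth.Agent.S3059.post_injective X hX.1 I D, ?_⟩
  intro g
  obtain ⟨i, h, hh⟩ := Groth.Agent.Sga4A.FiltColim.exists_lift_of_isCoherent D hE hX _
    (colimit.isColimit D) g
  refine ⟨colimit.ι (D ⋙ coyoneda.obj (op X)) i h, ?_⟩
  have hf := ConcreteCategory.congr_hom (colimit.ι_post D (coyoneda.obj (op X)) i) h
  exact Eq.trans hf hh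

end Groth.Agent.S3060
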