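import Groth.Statements.S3061
-- import your own Groth.Agent.* helpers here

set_option autoImplicit false
open CategoryTheory CategoryTheory.Limits Opposite
universe u
open ToposFin

namespace Groth.Agent.S3061

/-- Joint epimorphicity of a family is not affected by composing with an isomorphism. -/
theorem epi_desc_comp_iso_iff {C : Type u} [SmallCategory C] {J : GrothendieckTopology C}
    {X Y : ToposFin.Sh J} (e : X ⟶ Y) [IsIso e] {κ : Type u} (G : κ → ToposFin.Sh J)
    (ρ : ∀ k, G k ⟶ X) :
    Epi (Sigma.desc (fun k => ρ k ≫ e)) ↔ Epi (Sigma.desc ρ) := by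
  have h : Sigma.desc (fun k => ρ k ≫ e) = Sigma.desc ρ ≫ e := by
    ext1 k
    simp
  rw [h]
  constructor
  · intro h1
    have h2 : Sigma.desc ρ = (Sigma.desc ρ ≫ e) ≫ inv e := by simp
    rw [h2]
    exact epi_comp _ _
  · intro h1
    exact epi_comp _ _

/-- Quasi-compactness of an object is invariant under isomorphisms. -/
theorem isQC_of_iso {C : Type u} [SmallCategory C] {J : GrothendieckTopology C}
    {X Y : ToposFin.Sh J} (e : X ≅ Y) (h : ToposFin.IsQC X) : ToposFin.IsQC Y := by
  intro ι F π hπ
  obtain ⟨s, hs⟩ := h ι F (fun i => π i ≫ e.inv) ((epi_desc_comp_iso_iff e.inv F π).mpr hπ)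
  exact ⟨s, (epi_desc_comp_iso_iff e.inv _ (fun i : s => π i)).mp hs⟩

/-- The diagonal of a composite factors through the diagonal of the first map followed by a
monomorphism. -/
theorem exists_mono_diagonal_comp {D : Type*} [Category D] [HasPullbacks D] {X Y Z : D}
    (f : X ⟶ Y) (g : Y ⟶ Z) :
    ∃ i : pullback f f ⟶ pullback (f ≫ g) (f ≫ g),
      Mono i ∧ pullback.diagonal (f ≫ g) = pullback.diagonal f ≫ i := by
  refine ⟨pullback.lift (pullback.fst f f) (pullback.snd f f)
      (by rw [← Category.assoc, pullback.condition, Category.assoc]), ⟨fun u v huv => ?_⟩, ?_⟩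
  · apply pullback.hom_ext
    · have := congrArg (fun t => t ≫ pullback.fst _ _) huv
      simpa only [Category.assoc, pullback.lift_fst] using this
    · have := congrArg (fun t => t ≫ pullback.snd _ _) huv
      simpa only [Category.assoc, pullback.lift_snd] using this
  · apply pullback.hom_ext <;> simp [pullback.lift_fst, pullback.lift_snd]

/-- SGA 4 VI 1.8 (iii), for a topos of sheaves of sets on a small site: if f : X -> Y and g : Y -> Z are morphisms and g o f is quasi-separated (quasi-compact diagonal), then f is quasi-separated. -/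
theorem result {C : Type u} [SmallCategory C] {J : GrothendieckTopology C} {X Y Z : ToposFin.Sh J}
    (f : X ⟶ Y) (g : Y ⟶ Z) (h : ToposFin.IsQSHom (f ≫ g)) : ToposFin.IsQSHom f := by
  intro Y' a hY'
  obtain ⟨i, hi, hd⟩ := exists_mono_diagonal_comp f g
  have h1 := h Y' (a ≫ i) hY'
  rw [hd] at h1
  exact isQC_of_iso
    ((pullbackIsPullbackOfCompMono (pullback.diagonal f) a i).conePointUniqueUpToIso
      (limit.isLimit _)).symm h1

end Groth.Agent.S3061
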