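import Groth.Statements.S3068
import Groth.Agent.Sga4A.QCLocal

set_option autoImplicit false
open CategoryTheory CategoryTheory.Limits Opposite
universe u
open ToposFin

namespace Groth.Agent.S3068

/-- SGA 4 VI 1.18, for a topos of sheaves of sets on a small site: given a generating family of quasi-compact objects G_a, an object Y is quasi-separated if and only if every morphism G_a -> Y is quasi-compact. -/
theorem result {C : Type u} [SmallCategory C] {J : GrothendieckTopology C} {α : Type u} (G : α → ToposFin.Sh J) (hG : ∀ a, ToposFin.IsQC (G a))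
    (hgen : ∀ X : ToposFin.Sh J, ∃ (ι : Type u) (a : ι → α) (π : ∀ i, G (a i) ⟶ X), Epi (Sigma.desc π))
    (Y : ToposFin.Sh J) :
    ToposFin.IsQS Y ↔ ∀ (a : α) (s : G a ⟶ Y), ToposFin.IsQCHom s := by
  constructor
  · intro hY a s T t hT
    exact hY _ _ s t (hG a) hT
  · intro H T T' t t' hT hT'
    obtain ⟨ι, a, π, hπ⟩ := hgen T
    obtain ⟨s, hs⟩ := Sga4A.QC.exists_finset_js hT ((Sga4A.QC.js_iff_epi π).2 hπ)
    exact Sga4A.QCLocal.isQC_pullback_of_js_source t t' hs (fun k => H _ _ _ _ hT')

end Groth.Agent.S3068
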