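import Groth.Statements.S3069
import Groth.Agent.S3056
import Groth.Agent.Sga4A.EpsHom

set_option autoImplicit false
open CategoryTheory CategoryTheory.Limits Opposite
universe u
open ToposFin

namespace Groth.Agent.S3069

/-- Index set: sections of `Y` whose image in `eps J X` is given by an arrow of the site. -/
structure LiftIdx {C : Type u} [SmallCategory C] {J : GrothendieckTopology C} {X : C}
    {Y : ToposFin.Sh J} (a : Y ⟶ ToposFin.eps J X) : Type u where
  /-- the object -/
  V : C
  /-- the section -/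
  y : Y.obj.obj (op V)
  /-- the arrow -/
  f : V ⟶ X
  h : a.hom.app (op V) y = Sga4A.EpsSect.sect J f

theorem js_lift {C : Type u} [SmallCategory C] {J : GrothendieckTopology C} {X : C}
    {Y : ToposFin.Sh J} (a : Y ⟶ ToposFin.eps J X) :
    Sga4A.QC.JS (fun i : LiftIdx a => Sga4A.EpsHom.ofSect i.y) := by
  intro U y
  obtain ⟨S, hS, hS'⟩ := Sga4A.EpsSect.exists_sect J (a.hom.app (op U) y)
  refine ⟨S, hS, fun V g hg => ?_⟩
  obtain ⟨f, hf⟩ := hS' V g hg
  refine ⟨⟨V, Y.obj.map g.op y, f, ?_⟩, Sga4A.EpsSect.sect J (𝟙 V), ?_⟩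
  · exact (NatTrans.naturality_apply a.hom g.op y).trans hf.symm
  · rw [Sga4A.EpsHom.ofSect_sect]
    simp

/-- SGA 4 VI 2.1.1, first assertion: let (C, J) be a small site with fibre products in which every object is quasi-compact. Then for every object X of C the associated sheaf of the representable presheaf of X is a coherent object (quasi-compact and quasi-separated) of the topos of sheaves of sets. -/
theorem result {C : Type u} [SmallCategory C] [HasPullbacks C]
    (J : GrothendieckTopology C) (hC : ∀ X : C, ToposFin.IsQCSite J X) (X : C) :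
    ToposFin.IsCoherent (ToposFin.eps J X) := by
  refine ⟨(S3056.result J X).1 (hC X), ?_⟩
  intro Y Z a b hY hZ
  obtain ⟨s, hs⟩ := Sga4A.QC.exists_finset_js hY (js_lift a)
  obtain ⟨t, ht⟩ := Sga4A.QC.exists_finset_js hZ (js_lift b)
  have hP := IsPullback.of_hasPullback a b
  have hcond : ∀ (i : LiftIdx a) (k : LiftIdx b),
      a.hom.app (op (pullback i.f k.f)) (Y.obj.map (pullback.fst i.f k.f).op i.y) =
        b.hom.app (op (pullback i.f k.f)) (Z.obj.map (pullback.snd i.f k.f).op k.y) := by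
    intro i k
    have h1 := NatTrans.naturality_apply a.hom (pullback.fst i.f k.f).op i.y
    have h2 := NatTrans.naturality_apply b.hom (pullback.snd i.f k.f).op k.y
    refine h1.trans (Eq.trans ?_ h2.symm)
    rw [i.h, k.h, Sga4A.EpsSect.map_sect, Sga4A.EpsSect.map_sect, pullback.condition]
  choose p hp1 hp2 using fun i k => Sga4A.QC.exists_section_of_isPullback hP _ _ (hcond i k)
  refine Sga4A.QC.isQC_of_finite_js (ι := s × t)
    (π := fun ik => Sga4A.EpsHom.ofSect (p ik.1.1 ik.2.1)) ?_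
    (fun ik => (S3056.result J _).1 (hC _))
  intro U x
  obtain ⟨S1, hS1, h1⟩ := hs U ((pullback.fst a b).hom.app (op U) x)
  obtain ⟨S2, hS2, h2⟩ := ht U ((pullback.snd a b).hom.app (op U) x)
  refine ⟨Sga4A.EpiFam.famSieve _
    (fun ik : s × t => Sga4A.EpsHom.ofSect (p ik.1.1 ik.2.1)) x, ?_, fun V g hg => hg⟩
  refine J.transitive (J.intersection_covering hS1 hS2) _ ?_
  rintro V g ⟨hg1, hg2⟩
  obtain ⟨i, y, hy⟩ := h1 V g hg1
  obtain ⟨k, z, hz⟩ := h2 V g hg2
  obtain ⟨T1, hT1, hT1'⟩ := Sga4A.EpsSect.exists_sect J y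
  obtain ⟨T2, hT2, hT2'⟩ := Sga4A.EpsSect.exists_sect J z
  refine J.transitive (J.intersection_covering hT1 hT2) _ ?_
  rintro W c ⟨hc1, hc2⟩
  obtain ⟨f1, hf1⟩ := hT1' W c hc1
  obtain ⟨f2, hf2⟩ := hT2' W c hc2
  have hx1 : (pullback.fst a b).hom.app (op W) ((pullback a b).obj.map (c ≫ g).op x) =
      Y.obj.map f1.op i.1.y := by
    rw [← Sga4A.EpsHom.ofSect_sect i.1.y, hf1]
    refine (NatTrans.naturality_apply (pullback.fst a b).hom (c ≫ g).op x).trans ?_
    refine Eq.trans ?_ (NatTrans.naturality_apply (Sga4A.EpsHom.ofSect i.1.y).hom c.op y).symm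
    refine Eq.trans ?_ (congrArg (Y.obj.map c.op) hy.symm)
    simp
  have hx2 : (pullback.snd a b).hom.app (op W) ((pullback a b).obj.map (c ≫ g).op x) =
      Z.obj.map f2.op k.1.y := by
    rw [← Sga4A.EpsHom.ofSect_sect k.1.y, hf2]
    refine (NatTrans.naturality_apply (pullback.snd a b).hom (c ≫ g).op x).trans ?_
    refine Eq.trans ?_ (NatTrans.naturality_apply (Sga4A.EpsHom.ofSect k.1.y).hom c.op z).symm
    refine Eq.trans ?_ (congrArg (Z.obj.map c.op) hz.symm)
    simp
  have hcomm : Sga4A.EpsSect.sect J (f1 ≫ i.1.f) = Sga4A.EpsSect.sect J (f2 ≫ k.1.f) := by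
    rw [← Sga4A.EpsSect.map_sect, ← Sga4A.EpsSect.map_sect, ← i.1.h, ← k.1.h]
    refine (NatTrans.naturality_apply a.hom f1.op i.1.y).symm.trans ?_
    refine Eq.trans ?_ (NatTrans.naturality_apply b.hom f2.op k.1.y)
    rw [← hx1, ← hx2]
    have := ConcreteCategory.congr_hom (congr_app ((sheafToPresheaf J _).congr_map
      (pullback.condition (f := a) (g := b))) (op W)) ((pullback a b).obj.map (c ≫ g).op x)
    exact this
  obtain ⟨Q, hQ, hQ'⟩ := Sga4A.EpsSect.eq_locally J _ _ hcomm
  refine J.superset_covering ?_ hQ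
  intro R d hd
  have h4 : (d ≫ f1) ≫ i.1.f = (d ≫ f2) ≫ k.1.f := by
    simpa using hQ' R d hd
  refine ⟨(i, k), Sga4A.EpsSect.sect J (pullback.lift (d ≫ f1) (d ≫ f2) h4), ?_⟩
  rw [Sga4A.EpsHom.ofSect_sect]
  apply Sga4A.EpsHom.pullback_section_ext hP
  · refine (NatTrans.naturality_apply (pullback.fst a b).hom _ _).trans ?_
    rw [hp1]
    have h5 : (pullback.fst a b).hom.app (op R) ((pullback a b).obj.map ((d ≫ c) ≫ g).op x) =
        Y.obj.map d.op ((pullback.fst a b).hom.app (op W) ((pullback a b).obj.map (c ≫ g).op x)) := by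
      rw [← NatTrans.naturality_apply (pullback.fst a b).hom d.op]
      simp
    rw [h5, hx1, ← ConcreteCategory.comp_apply, ← ConcreteCategory.comp_apply, ← Functor.map_comp,
      ← Functor.map_comp, ← op_comp, ← op_comp, pullback.lift_fst]
  · refine (NatTrans.naturality_apply (pullback.snd a b).hom _ _).trans ?_
    rw [hp2]
    have h5 : (pullback.snd a b).hom.app (op R) ((pullback a b).obj.map ((d ≫ c) ≫ g).op x) =
        Z.obj.map d.op ((pullback.snd a b).hom.app (op W) ((pullback a b).obj.map (c ≫ g).op x)) := by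
      rw [← NatTrans.naturality_apply (pullback.snd a b).hom d.op]
      simp
    rw [h5, hx2, ← ConcreteCategory.comp_apply, ← ConcreteCategory.comp_apply, ← Functor.map_comp,
      ← Functor.map_comp, ← op_comp, ← op_comp, pullback.lift_snd]

end Groth.Agent.S3069
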