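import Groth.Statements.S3070
import Groth.Agent.Sga4A.JSFam

set_option autoImplicit false
open CategoryTheory CategoryTheory.Limits Opposite
universe u
open ToposFin

namespace Groth.Agent.S3070

open Groth.Agent.Sga4A.JSFam

/-- SGA 4 VI 2.1.3, for a topos of sheaves of sets on a small site admitting a generating family of quasi-compact objects: let f : X -> Y and let (g_i : X_i -> X) be a jointly epimorphic family with every X_i quasi-compact and every X_i x_Y X_j quasi-separated. If X is quasi-separated then f is a quasi-separated morphism. -/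
theorem result {C : Type u} [SmallCategory C] {J : GrothendieckTopology C} (hE : ToposFin.HasQCGenerators J)
    {X Y : ToposFin.Sh J} (f : X ⟶ Y) {ι : Type u} (Xi : ι → ToposFin.Sh J) (g : ∀ i, Xi i ⟶ X)
    (hg : Epi (Sigma.desc g)) (hqc : ∀ i, ToposFin.IsQC (Xi i))
    (hqs : ∀ i j, ToposFin.IsQS (pullback (g i ≫ f) (g j ≫ f))) (hX : ToposFin.IsQS X) :
    ToposFin.IsQSHom f := by
  intro T t hT
  classical
  have hg' : JS g := (epi_desc_iff g).mp hg
  -- the cover of `X ×_Y X` by the `X_i ×_Y X_j`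
  let m : ∀ k : ι × ι, pullback (g k.1 ≫ f) (g k.2 ≫ f) ⟶ pullback f f := fun k =>
    pullback.map (g k.1 ≫ f) (g k.2 ≫ f) f f (g k.1) (g k.2) (𝟙 _) (Category.comp_id _)
      (Category.comp_id _)
  have hm : JS m := by
    refine JS.prod_over (IsPullback.of_hasPullback f f) hg' hg'
      (fun k => IsPullback.of_hasPullback (g k.1 ≫ f) (g k.2 ≫ f)) m (fun k => ?_) (fun k => ?_)
    · exact pullback.lift_fst _ _ _
    · exact pullback.lift_snd _ _ _
  have hmT := hm.pullback t
  -- cover the pieces by quasi-compact objects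
  have h1 : ∀ k : ι × ι, ∃ (κ : Type u) (E : κ → ToposFin.Sh J)
      (ρ : ∀ l, E l ⟶ pullback (m k) t), (∀ l, ToposFin.IsQC (E l)) ∧ JS ρ := by
    intro k
    obtain ⟨κ, E, ρ, hE1, hE2⟩ := hE (pullback (m k) t)
    exact ⟨κ, E, ρ, hE1, (epi_desc_iff ρ).mp hE2⟩
  choose κ E ρ hEqc hρ using h1
  have h2 := hmT.comp hρ
  obtain ⟨s, hs⟩ := isQC_iff.mp hT _ _ _ h2
  -- pull back to `P`
  refine isQC_of_finite_JS (hs.pullback (pullback.snd (pullback.diagonal f) t)) ?_
  rintro ⟨⟨k, l⟩, hl⟩
  -- the square `X_i ×_X X_j → X_i ×_Y X_j` over `X → X ×_Y X`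
  have sq1 := pullback_map_diagonal_isPullback (g k.1) (g k.2) f
  have hQ : ToposFin.IsQC (pullback (g k.1) (g k.2)) := hX _ _ _ _ (hqc _) (hqc _)
  have sq2 := IsPullback.of_hasPullback (ρ k l ≫ pullback.snd (m k) t)
    (pullback.snd (pullback.diagonal f) t)
  have sq3 := IsPullback.of_hasPullback (pullback.diagonal f) t
  have sq4 := IsPullback.of_hasPullback (ρ k l ≫ pullback.fst (m k) t)
    (pullback.map (g k.1) (g k.2) (g k.1 ≫ f) (g k.2 ≫ f) (𝟙 _) (𝟙 _) f (Category.id_comp _).symm (Category.id_comp _).symm)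
  have hP4 := isQC_of_isPullback_of_isQS sq4 (hEqc k l) hQ (hqs _ _)
  have sqA := sq2.flip.paste_horiz sq3
  have sqB := sq4.flip.paste_horiz sq1
  have he : (ρ k l ≫ pullback.fst (m k) t) ≫ m k = (ρ k l ≫ pullback.snd (m k) t) ≫ t := by
    rw [Category.assoc, Category.assoc, pullback.condition]
  have sqB' := (show IsPullback _ _ _ ((ρ k l ≫ pullback.fst (m k) t) ≫ m k) from sqB)
  rw [he] at sqB'
  exact isQC_of_iso (sqB'.isoIsPullback _ _ sqA) hP4

end Groth.Agent.S3070
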