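import Groth.Statements.S3071
import Groth.Agent.Sga4A.JSFam
import Groth.Agent.S3070

set_option autoImplicit false
open CategoryTheory CategoryTheory.Limits Opposite
universe u
open ToposFin

namespace Groth.Agent.S3071

open Groth.Agent.Sga4A.JSFam

/-- The canonical monomorphism from a fibre product to the product. -/
theorem exists_mono_pullback_prod {D : Type*} [Category D] [HasPullbacks D]
    [HasBinaryProducts D] {A B Y : D} (a : A ⟶ Y) (b : B ⟶ Y) :
    ∃ i : pullback a b ⟶ A ⨯ B, Mono i := by
  refine ⟨prod.lift (pullback.fst a b) (pullback.snd a b), ⟨fun u v huv => ?_⟩⟩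
  apply pullback.hom_ext
  · have := congrArg (fun t => t ≫ prod.fst) huv
    simpa only [Category.assoc, prod.lift_fst] using this
  · have := congrArg (fun t => t ≫ prod.snd) huv
    simpa only [Category.assoc, prod.lift_snd] using this

/-- SGA 4 VI 2.2, implication (ii bis) => (i bis), for a topos of sheaves of sets on a small site: suppose given a generating family of coherent objects G_a such that every product G_a x G_b is quasi-separated. Then for every morphism f : X -> Y with X quasi-separated, f is quasi-separated. -/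
theorem result {C : Type u} [SmallCategory C] {J : GrothendieckTopology C} {α : Type u} (G : α → ToposFin.Sh J)
    (hG : ∀ a, ToposFin.IsCoherent (G a))
    (hgen : ∀ X : ToposFin.Sh J, ∃ (ι : Type u) (a : ι → α) (π : ∀ i, G (a i) ⟶ X), Epi (Sigma.desc π))
    (hprod : ∀ a b, ToposFin.IsQS (G a ⨯ G b)) {X Y : ToposFin.Sh J} (f : X ⟶ Y) (hX : ToposFin.IsQS X) :
    ToposFin.IsQSHom f := by
  obtain ⟨ι, a, π, hπ⟩ := hgen X
  refine Groth.Agent.S3070.result (fun Z => ?_) f (fun i => G (a i)) π hπ (fun i => (hG _).1)
    (fun i j => ?_) hX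
  · obtain ⟨κ, b, ρ, hρ⟩ := hgen Z
    exact ⟨κ, fun k => G (b k), ρ, fun k => (hG _).1, hρ⟩
  · obtain ⟨m, hm⟩ := exists_mono_pullback_prod (π i ≫ f) (π j ≫ f)
    exact isQS_of_mono m (hprod _ _)

end Groth.Agent.S3071
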