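import Groth.Statements.S3072
import Groth.Agent.S3059
import Groth.Agent.S3060
import Groth.Agent.S3074
import Groth.Agent.Sga4A.FiltColim2

set_option autoImplicit false
open CategoryTheory CategoryTheory.Limits Opposite
universe u
open ToposFin

namespace Groth.Agent.S3072

open Groth.Agent.Sga4A.FiltColim

variable {C : Type u} [SmallCategory C] {J : GrothendieckTopology C}

/-- Finite presentability, elementwise form. -/
def FP (X : ToposFin.Sh J) : Prop :=
  ∀ (I : Type u) [SmallCategory I] [IsFiltered I] (D : I ⥤ ToposFin.Sh J),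
    (∀ (i : I) (f g : X ⟶ D.obj i), f ≫ colimit.ι D i = g ≫ colimit.ι D i →
      ∃ (j : I) (t : i ⟶ j), f ≫ D.map t = g ≫ D.map t) ∧
    (∀ g : X ⟶ colimit D, ∃ (i : I) (h : X ⟶ D.obj i), h ≫ colimit.ι D i = g)

theorem isFP_iff (X : ToposFin.Sh J) : ToposFin.IsFP X ↔ FP X := by
  refine forall_congr' fun I => forall_congr' fun _ => forall_congr' fun _ =>
    forall_congr' fun D => ?_
  have hpost : ∀ (i : I) (f : X ⟶ D.obj i), colimit.post D (coyoneda.obj (op X))
      (colimit.ι (D ⋙ coyoneda.obj (op X)) i f) = f ≫ colimit.ι D i := fun i f =>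
    ConcreteCategory.congr_hom (colimit.ι_post D (coyoneda.obj (op X)) i) f
  constructor
  · intro h
    refine ⟨?_, ?_⟩
    · intro i f g hfg
      have h1 := h.1 (a₁ := colimit.ι (D ⋙ coyoneda.obj (op X)) i f)
        (a₂ := colimit.ι (D ⋙ coyoneda.obj (op X)) i g) (by
          refine Eq.trans (hpost i f) (Eq.trans hfg (hpost i g).symm))
      exact (Types.FilteredColimit.isColimit_eq_iff'
        (colimit.isColimit (D ⋙ coyoneda.obj (op X))) f g).1 h1
    · intro g
      obtain ⟨z, hz⟩ := h.2 g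
      obtain ⟨i, f, rfl⟩ := Types.jointly_surjective_of_isColimit
        (colimit.isColimit (D ⋙ coyoneda.obj (op X))) z
      exact ⟨i, f, (hpost i f).symm.trans hz⟩
  · rintro ⟨h1, h2⟩
    refine ⟨?_, ?_⟩
    · intro z₁ z₂ h
      obtain ⟨i, f, g, rfl, rfl⟩ := Types.FilteredColimit.jointly_surjective_of_isColimit₂
        (colimit.isColimit (D ⋙ coyoneda.obj (op X))) z₁ z₂
      obtain ⟨j, t, ht⟩ := h1 i f g ((hpost i f).symm.trans (Eq.trans h (hpost i g)))
      exact (Types.FilteredColimit.isColimit_eq_iff' (colimit.isColimit (D ⋙ coyoneda.obj (op X)))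
        f g).2 ⟨j, t, ht⟩
    · intro g
      obtain ⟨i, h, hh⟩ := h2 g
      exact ⟨colimit.ι (D ⋙ coyoneda.obj (op X)) i h, (hpost i h).trans hh⟩

theorem FP.retract {X Q : ToposFin.Sh J} (hQ : FP Q) (i : X ⟶ Q) (p : Q ⟶ X)
    (hip : i ≫ p = 𝟙 X) : FP X := by
  intro I _ _ D
  refine ⟨?_, ?_⟩
  · intro k f g hfg
    obtain ⟨j, t, ht⟩ := (hQ I D).1 k (p ≫ f) (p ≫ g) (by simp [hfg])
    refine ⟨j, t, ?_⟩
    have := i ≫= ht
    simpa [reassoc_of% hip] using this
  · intro g
    obtain ⟨k, h, hh⟩ := (hQ I D).2 (p ≫ g)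
    refine ⟨k, i ≫ h, ?_⟩
    rw [Category.assoc, hh, reassoc_of% hip]

theorem FP.coequalizer {X₀ X₁ : ToposFin.Sh J} (h₀ : FP X₀) (h₁ : FP X₁) (a b : X₁ ⟶ X₀) :
    FP (coequalizer a b) := by
  intro I _ _ D
  refine ⟨?_, ?_⟩
  · intro k f g hfg
    obtain ⟨j, t, ht⟩ := (h₀ I D).1 k (coequalizer.π a b ≫ f) (coequalizer.π a b ≫ g) (by
      rw [Category.assoc, Category.assoc, hfg])
    refine ⟨j, t, ?_⟩
    rw [← cancel_epi (coequalizer.π a b)]
    simpa using ht
  · intro g
    obtain ⟨k, h, hh⟩ := (h₀ I D).2 (coequalizer.π a b ≫ g)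
    obtain ⟨j, t, ht⟩ := (h₁ I D).1 k (a ≫ h) (b ≫ h) (by
      rw [Category.assoc, Category.assoc, hh, coequalizer.condition_assoc])
    refine ⟨j, coequalizer.desc (h ≫ D.map t) (by simpa using ht), ?_⟩
    rw [← cancel_epi (coequalizer.π a b), ← hh, coequalizer.π_desc_assoc, Category.assoc,
      colimit.w]

/-- The diagram of coequalizers of the finite subfamilies of a family of pairs of maps. -/
noncomputable def coeqDiag {X₀ : ToposFin.Sh J} {κ : Type u} {H : κ → ToposFin.Sh J}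
    (a b : ∀ k, H k ⟶ X₀) : Finset κ ⥤ ToposFin.Sh J where
  obj t := coequalizer (Sigma.desc (fun k : t => a k)) (Sigma.desc (fun k : t => b k))
  map {s t} h := coequalizer.desc (coequalizer.π (Sigma.desc (fun k : t => a k))
      (Sigma.desc (fun k : t => b k))) (by
      apply Sigma.hom_ext
      intro i
      have := (Sigma.ι (fun k : t => H k) ⟨i.1, leOfHom h i.2⟩) ≫=
        (coequalizer.condition (Sigma.desc (fun k : t => a k)) (Sigma.desc (fun k : t => b k)))
      simpa using this)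
  map_id s := by
    apply coequalizer.hom_ext
    exact (coequalizer.π_desc _ _).trans (Category.comp_id _).symm
  map_comp {s t r} f g := by
    apply coequalizer.hom_ext
    refine (coequalizer.π_desc _ _).trans ?_
    refine Eq.trans ?_ (Category.assoc _ _ _)
    refine Eq.trans ?_ (congrArg (· ≫ _) (coequalizer.π_desc _ _).symm)
    exact (coequalizer.π_desc _ _).symm

/-- The projection to a term of `coeqDiag`. -/
noncomputable def coeqπ {X₀ : ToposFin.Sh J} {κ : Type u} {H : κ → ToposFin.Sh J}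
    (a b : ∀ k, H k ⟶ X₀) (t : Finset κ) : X₀ ⟶ (coeqDiag a b).obj t :=
  coequalizer.π (Sigma.desc (fun k : t => a k)) (Sigma.desc (fun k : t => b k))

theorem coeqπ_map {X₀ : ToposFin.Sh J} {κ : Type u} {H : κ → ToposFin.Sh J}
    (a b : ∀ k, H k ⟶ X₀) {s t : Finset κ} (h : s ⟶ t) :
    coeqπ a b s ≫ (coeqDiag a b).map h = coeqπ a b t :=
  coequalizer.π_desc _ _

instance {X₀ : ToposFin.Sh J} {κ : Type u} {H : κ → ToposFin.Sh J}
    (a b : ∀ k, H k ⟶ X₀) (t : Finset κ) : Epi (coeqπ a b t) :=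
  (inferInstance : Epi (coequalizer.π (Sigma.desc (fun k : t => a k))
    (Sigma.desc (fun k : t => b k))))

theorem coeqπ_condition {X₀ : ToposFin.Sh J} {κ : Type u} {H : κ → ToposFin.Sh J}
    (a b : ∀ k, H k ⟶ X₀) (t : Finset κ) (k : κ) (hk : k ∈ t) :
    a k ≫ coeqπ a b t = b k ≫ coeqπ a b t := by
  have := (Sigma.ι (fun k : t => H k) ⟨k, hk⟩) ≫=
    (coequalizer.condition (Sigma.desc (fun k : t => a k)) (Sigma.desc (fun k : t => b k)))
  simp only [Sigma.ι_desc_assoc] at this
  exact this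

theorem isCoherent_sigma {κ : Type u} [Finite κ]
    (F : κ → ToposFin.Sh J) (hF : ∀ k, ToposFin.IsCoherent (F k)) : ToposFin.IsCoherent (∐ F) :=
  ⟨isQC_sigma F (fun k => (hF k).1),
    (Groth.Agent.S3074.result.2 F).2 (fun k => (hF k).2)⟩

theorem exists_retract (hE : ToposFin.HasCoherentGenerators J)
    (X : ToposFin.Sh J) (hX : ToposFin.IsFP X) :
    ∃ (X₀ X₁ : ToposFin.Sh J) (a b : X₁ ⟶ X₀) (i : X ⟶ coequalizer a b)
      (p : coequalizer a b ⟶ X), ToposFin.IsCoherent X₀ ∧ ToposFin.IsCoherent X₁ ∧ i ≫ p = 𝟙 X := by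
  have hE' : ToposFin.HasQCGenerators J := by
    intro Y
    obtain ⟨ι, F, π, hF, hπ⟩ := hE Y
    exact ⟨ι, F, π, fun i => (hF i).1, hπ⟩
  have hQC : ToposFin.IsQC X :=
    (Groth.Agent.S3059.result X).2 (fun I _ _ D => (hX I D).1)
  obtain ⟨ι, F, π, hF, hπ⟩ := hE X
  obtain ⟨s, hs⟩ := hQC ι F π hπ
  let X₀ : ToposFin.Sh J := ∐ (fun i : s => F i)
  let q : X₀ ⟶ X := Sigma.desc (fun i : s => π i)
  have hq : Epi q := hs
  have hX₀ : ToposFin.IsCoherent X₀ := isCoherent_sigma _ (fun i => hF i)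
  obtain ⟨κ, H, ρ, hH, hρ⟩ := hE (pullback q q)
  have hρ' : JEpi ρ := (jepi_iff_epi ρ).2 hρ
  let a : ∀ k, H k ⟶ X₀ := fun k => ρ k ≫ pullback.fst q q
  let b : ∀ k, H k ⟶ X₀ := fun k => ρ k ≫ pullback.snd q q
  have hab : ∀ k, a k ≫ q = b k ≫ q := by
    intro k
    simp only [a, b, Category.assoc]
    rw [pullback.condition]
  let p : ∀ t : Finset κ, (coeqDiag a b).obj t ⟶ X := fun t => coequalizer.desc q (by
    apply Sigma.hom_ext
    intro k
    simpa using hab k)
  have hp : ∀ t, coeqπ a b t ≫ p t = q := fun t => coequalizer.π_desc _ _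
  let c : Cocone (coeqDiag a b) :=
    { pt := X
      ι := { app := p
             naturality := by
              intro s t h
              rw [← cancel_epi (coeqπ a b s)]
              have h1 := coeqπ_map a b h
              simp only [Functor.const_obj_obj, Functor.const_obj_map, Category.comp_id]
              rw [reassoc_of% h1, hp, hp] } }
  have : IsRegularEpi q := IsRegularEpiCategory.regularEpiOfEpi q
  have : EffectiveEpi q := inferInstance
  have key : ∀ {Z : ToposFin.Sh J} (z : X₀ ⟶ Z), (∀ k, a k ≫ z = b k ≫ z) →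
      ∀ {W : ToposFin.Sh J} (g₁ g₂ : W ⟶ X₀), g₁ ≫ q = g₂ ≫ q → g₁ ≫ z = g₂ ≫ z := by
    intro Z z hz W g₁ g₂ h12
    have h0 : pullback.fst q q ≫ z = pullback.snd q q ≫ z := by
      apply hρ'
      intro k
      simpa [a, b] using hz k
    have h3 : pullback.lift g₁ g₂ h12 ≫ pullback.fst q q = g₁ := pullback.lift_fst _ _ _
    have h4 : pullback.lift g₁ g₂ h12 ≫ pullback.snd q q = g₂ := pullback.lift_snd _ _ _
    have := pullback.lift g₁ g₂ h12 ≫= h0
    rw [reassoc_of% h3, reassoc_of% h4] at this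
    exact this
  have hz : ∀ (s : Cocone (coeqDiag a b)) (k : κ),
      a k ≫ coeqπ a b ∅ ≫ s.ι.app ∅ = b k ≫ coeqπ a b ∅ ≫ s.ι.app ∅ := by
    intro s k
    classical
    let h : (∅ : Finset κ) ⟶ {k} := homOfLE (by simp)
    have h1 := coeqπ_condition a b {k} k (by simp)
    rw [← s.w h, reassoc_of% (coeqπ_map a b h), reassoc_of% h1]
  have hcπ : ∀ (s : Cocone (coeqDiag a b)) (t : Finset κ),
      coeqπ a b ∅ ≫ s.ι.app ∅ = coeqπ a b t ≫ s.ι.app t := by
    intro s t
    let h : (∅ : Finset κ) ⟶ t := homOfLE (by simp)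
    rw [← s.w h, reassoc_of% (coeqπ_map a b h)]
  have hc : IsColimit c :=
    { desc := fun s => EffectiveEpi.desc q (coeqπ a b ∅ ≫ s.ι.app ∅) (key _ (hz s))
      fac := by
        intro s t
        rw [← cancel_epi (coeqπ a b t)]
        change coeqπ a b t ≫ p t ≫ _ = _
        rw [reassoc_of% (hp t), EffectiveEpi.fac]
        exact hcπ s t
      uniq := by
        intro s m hm
        rw [← cancel_epi q, EffectiveEpi.fac, ← hm ∅]
        change _ = coeqπ a b ∅ ≫ p ∅ ≫ _
        rw [reassoc_of% (hp ∅)] }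
  obtain ⟨t, i, hi⟩ := ((isFP_iff X).1 hX (Finset κ) (coeqDiag a b)).2
    (hc.coconePointUniqueUpToIso (colimit.isColimit _)).hom
  have hi' : i ≫ p t = 𝟙 X := by
    have h1 : colimit.ι (coeqDiag a b) t ≫
        (hc.coconePointUniqueUpToIso (colimit.isColimit _)).inv = c.ι.app t :=
      hc.comp_coconePointUniqueUpToIso_inv (colimit.isColimit _) t
    change i ≫ c.ι.app t = _
    rw [← h1, reassoc_of% hi, Iso.hom_inv_id]
  exact ⟨X₀, ∐ (fun k : t => H k), Sigma.desc (fun k : t => a k), Sigma.desc (fun k : t => b k),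
    i, p t, hX₀, isCoherent_sigma _ (fun k => hH k), hi'⟩

/-- SGA 4 VI 1.24.2 (b), for a topos of sheaves of sets on a small site admitting a generating family of coherent objects: Hom(X, -) commutes with small filtered colimits if and only if X is a retract (image of an idempotent) of the coequalizer of some pair of morphisms X_1 => X_0 with X_0 and X_1 coherent. -/
theorem result {C : Type u} [SmallCategory C] {J : GrothendieckTopology C} (hE : ToposFin.HasCoherentGenerators J)
    (X : ToposFin.Sh J) :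
    ToposFin.IsFP X ↔ ∃ (X₀ X₁ : ToposFin.Sh J) (a b : X₁ ⟶ X₀) (i : X ⟶ coequalizer a b)
      (p : coequalizer a b ⟶ X), ToposFin.IsCoherent X₀ ∧ ToposFin.IsCoherent X₁ ∧ i ≫ p = 𝟙 X := by
  constructor
  · exact exists_retract hE X
  · rintro ⟨X₀, X₁, a, b, i, p, h₀, h₁, hip⟩
    have hE' : ToposFin.HasQCGenerators J := by
      intro Y
      obtain ⟨ι, F, π, hF, hπ⟩ := hE Y
      exact ⟨ι, F, π, fun i => (hF i).1, hπ⟩
    have hc : ∀ Y : ToposFin.Sh J, ToposFin.IsCoherent Y → FP Y := fun Y hY =>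
      (isFP_iff Y).1 (fun I _ _ D => Groth.Agent.S3060.result hE' Y hY I D)
    exact (isFP_iff X).2 (((hc _ h₀).coequalizer (hc _ h₁) a b).retract i p hip)

end Groth.Agent.S3072
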