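import Groth.Statements.S3075
import Groth.Agent.Sga4A.QS

set_option autoImplicit false
open CategoryTheory CategoryTheory.Limits Opposite
universe u
open ToposFin

namespace Groth.Agent.S3075

/-- SGA 4 VI 1.19, for a topos of sheaves of sets on a small site admitting a generating family of quasi-compact objects: if (g_i : Y_i -> Y) is a jointly epimorphic family with every Y_i quasi-separated and every g_i quasi-compact, then Y is quasi-separated. -/
theorem result {C : Type u} [SmallCategory C] {J : GrothendieckTopology C} (hE : ToposFin.HasQCGenerators J) {Y : ToposFin.Sh J}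
    {ι : Type u} (Yi : ι → ToposFin.Sh J) (g : ∀ i, Yi i ⟶ Y) (hg : Epi (Sigma.desc g))
    (hqs : ∀ i, ToposFin.IsQS (Yi i)) (hqc : ∀ i, ToposFin.IsQCHom (g i)) : ToposFin.IsQS Y := by
  exact Groth.Agent.Sga4A.QS.isQS_of_qs_cover_qc_maps ((Groth.Agent.Sga4A.QC.js_iff_epi g).2 hg) hqs hqc

end Groth.Agent.S3075
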