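import Groth.Statements.S3077
import Groth.Agent.Sga4A.EtFamTr

set_option autoImplicit false
open CategoryTheory CategoryTheory.Limits AlgebraicGeometry Opposite
universe u
open EtDesc

namespace Groth.Agent.S3077

open Groth.Agent.Sga4A Groth.Agent.Sga4A.EtStalk

theorem liftsAt {X' X : Scheme.{u}} (f : X' ⟶ X)
    [DiscreteTopology ↥X] (F' : EtDesc.Sh X')
    (φ : (EtDesc.pullSh (pullback.fst f f)).obj F' ≅ (EtDesc.pullSh (pullback.snd f f)).obj F')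
    (hφ : EtDesc.IsCocycle F' φ) {Ω : Type u} [Field Ω] [IsSepClosed Ω] (ξ' : Spec (.of Ω) ⟶ X') :
    LiftsAt f F' φ ξ' := by
  intro σ
  obtain ⟨V, l, hl, a, rfl⟩ := exists_germ F' σ
  let γ : Fam F' ξ' := ((Fam.ofSect a).pull l).congr hl
  have hγ : ∀ {Ω' : Type u} [Field Ω'] [IsSepClosed Ω'] (z : Spec (.of Ω') ⟶ Spec (.of Ω)) (ξ₁ : Spec (.of Ω') ⟶ X')
      (h : z ≫ ξ' = ξ₁) (h' : (z ≫ l) ≫ V.hom = ξ₁), γ.val z ξ₁ h = germ F' (z ≫ l) h' a := by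
    intro Ω' _ _ z ξ₁ h h'
    rw [Fam.congr_val]
    rfl
  let p : Spec (.of Ω) ⟶ X := ξ' ≫ f
  have hpp : (pullback.fst p p ≫ ξ') ≫ f = (pullback.snd p p ≫ ξ') ≫ f := by
    rw [Category.assoc, Category.assoc]; exact pullback.condition
  obtain ⟨δ, hδ⟩ := exists_trFam f F' φ (γ.pull (pullback.fst p p)) (pullback.snd p p ≫ ξ') hpp
  have hTd : DiscreteTopology ↥(Spec (CommRingCat.of Ω)) := inferInstance
  have hW : IsClopen (Fam.Agree δ (γ.pull (pullback.snd p p))) :=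
    ⟨Fam.isClosed_Agree_of_discrete (pullback.snd p p) ξ' _ _, Fam.isOpen_Agree _ _⟩
  have hmem : ∀ {Ω' : Type u} [Field Ω'] [IsSepClosed Ω'] (z₁ z₂ : Spec (.of Ω') ⟶ Spec (.of Ω)) (h : z₁ ≫ p = z₂ ≫ p)
      (ξ₁ ξ₂ : Spec (.of Ω') ⟶ X') (h₁ : z₁ ≫ ξ' = ξ₁) (h₂ : z₂ ≫ ξ' = ξ₂) (e : ξ₁ ≫ f = ξ₂ ≫ f),
      pullback.lift z₁ z₂ h default ∈ Fam.Agree δ (γ.pull (pullback.snd p p)) ↔
        tr f F' φ ξ₁ ξ₂ e (γ.val z₁ ξ₁ h₁) = γ.val z₂ ξ₂ h₂ := by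
    intro Ω' _ _ z₁ z₂ h ξ₁ ξ₂ h₁ h₂ e
    obtain ⟨ζ, hζ, hζ₁, hζ₂⟩ : ∃ ζ : Spec (.of Ω') ⟶ pullback p p, pullback.lift z₁ z₂ h = ζ ∧
      ζ ≫ pullback.fst p p = z₁ ∧ ζ ≫ pullback.snd p p = z₂ :=
      ⟨_, rfl, pullback.lift_fst _ _ _, pullback.lift_snd _ _ _⟩
    rw [hζ]
    subst hζ₁ hζ₂
    rw [Fam.mem_agree_iff δ _ ζ ξ₂ (by rw [← h₂, Category.assoc]),
      hδ ζ ξ₁ ξ₂ (by rw [← h₁, Category.assoc]) _ e]
    rfl
  obtain ⟨U₀, u, q, hu, hqu, hqs, hU⟩ := DiscGeom.exists_etale_of_clopen p _ hW (by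
    rintro _ ⟨x, rfl⟩
    obtain rfl : x = default := Subsingleton.elim _ _
    have := (hmem (𝟙 _) (𝟙 _) rfl ξ' ξ' (Category.id_comp _) (Category.id_comp _) rfl).2 (tr_self f hφ _ _)
    exact this)
  let U : X.Etale := Scheme.Etale.mk u
  have hE : Etale U.hom := hu
  have hUd : DiscreteTopology U.left := DiscGeom.discreteTopology_of_etale (X := X) U.hom
  let q' : Spec (.of Ω) ⟶ U.left := q
  have hqs' : Surjective q' := hqs
  have hqo : UniversallyOpen q' := DiscGeom.universallyOpen_of_discrete q'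
  have hqu' : q' ≫ U.hom = ξ' ≫ f := hqu
  obtain ⟨s, hs, hs'⟩ := exists_compat_of_fam f F' φ hφ U q' ξ' hqu'.symm γ (by
    intro Ω' _ _ z₁ z₂ hz ξ₁ ξ₂ h₁ h₂ e
    have h : z₁ ≫ p = z₂ ≫ p := by
      rw [← hqu]; exact (reassoc_of% hz) u
    exact (hmem z₁ z₂ h ξ₁ ξ₂ h₁ h₂ e).1 (hU _ z₁ z₂ hz h default))
  refine ⟨U, q', hqu', s, hs, ?_⟩
  rw [hs' (𝟙 _) (bcPt f ξ' q' hqu') (by rw [bcPt_fst, Category.id_comp]) ξ' ξ' (Category.id_comp _)
    (bcPt_hom _ _ _ _) rfl, tr_self f hφ, hγ (𝟙 _) ξ' (Category.id_comp _) (by rw [Category.id_comp, hl])]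
  congr 1

/-- SGA 4 VIII 9.4 (d): let f : X' -> X be a surjective morphism of schemes with X discrete as a topological space (for instance the spectrum of a field). Then f is a morphism of effective descent for etale sheaves of sets: every sheaf on X'_et with an isomorphism pr_1^* F' = pr_2^* F' satisfying the cocycle condition is, compatibly, the inverse image of a sheaf on X_et. -/
theorem result {X' X : Scheme.{u}} (f : X' ⟶ X) [Surjective f]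
    [DiscreteTopology ↥X] (F' : EtDesc.Sh X')
    (φ : (EtDesc.pullSh (pullback.fst f f)).obj F' ≅ (EtDesc.pullSh (pullback.snd f f)).obj F')
    (hφ : EtDesc.IsCocycle F' φ) : EtDesc.IsEffective f F' φ := by
  have := DiscGeom.universallyOpen_of_discrete f
  refine isEffective_of_liftsAt f F' φ (etSubmersive_of_universallyOpen f) (fun x' => ?_)
  obtain ⟨Ω, _, _, ξ', h⟩ := exists_geomPoint X' x'
  exact ⟨Ω, inferInstance, inferInstance, ξ', h, liftsAt f F' φ hφ ξ'⟩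

end Groth.Agent.S3077
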