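import Groth.Statements.S3079
import Groth.Agent.Sga4A.CanonicalSheaf

set_option autoImplicit false
universe w v u
open CategoryTheory
open SGA4

namespace Groth.Agent.S3079

open CategoryTheory.Limits in
/-- SGA 4 IV 1.4 (for the topos of sheaves of sets on a small site (C, J)): a presheaf F on the topos with values in an arbitrary category E' is a sheaf for the canonical topology of the topos if and only if F, as a functor on the opposite category, preserves all u-small limits (i.e. turns u-small colimits of sheaves into limits in E'). -/
theorem result {C : Type u} [SmallCategory C] (J : GrothendieckTopology C)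
    {E' : Type v} [Category.{w} E'] (F : (Sheaf J (Type u))ᵒᵖ ⥤ E') :
    Presheaf.IsSheaf (Sheaf.canonicalTopology (Sheaf J (Type u))) F ↔ PreservesLimitsOfSize.{u, u} F :=
  Sga4A.CanonicalSheaf.presheafIsSheaf_iff F

end Groth.Agent.S3079
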