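import Groth.Statements.S3080
import Groth.Agent.Sga4A.ColimZigzag
import Mathlib.CategoryTheory.Adjunction.Restrict
import Mathlib.CategoryTheory.Limits.Presheaf
import Mathlib.CategoryTheory.Sites.LeftExact

set_option autoImplicit false
universe v u
open CategoryTheory
open SGA4

namespace Groth.Agent.S3080

section

open CategoryTheory.Limits Opposite ToposFin
open Groth.Agent.Sga4A.QC Groth.Agent.Sga4A.JSDesc Groth.Agent.Sga4A.ColimZigzag

variable {C D : Type u} [SmallCategory C] [SmallCategory D]
    {J : GrothendieckTopology C} {K : GrothendieckTopology D} (f : Sh J ⥤ Sh K)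

lemma zigzag_aux {I : Type u} [SmallCategory I] (F : I ⥤ Sh J) (t : Cocone (F ⋙ f)) (U : C)
    (a b : Σ i, ((F ⋙ sheafToPresheaf J _) ⋙ (evaluation _ _).obj (op U)).obj i)
    (hab : Relation.EqvGen ((F ⋙ sheafToPresheaf J _) ⋙ (evaluation _ _).obj (op U)).ColimitTypeRel a b) :
    f.map (mk (F := F.obj a.1) a.2) ≫ t.ι.app a.1 = f.map (mk (F := F.obj b.1) b.2) ≫ t.ι.app b.1 := by
  induction hab with
  | rel x y h =>
    obtain ⟨i, x⟩ := x
    obtain ⟨j, y⟩ := y
    obtain ⟨g, hg⟩ := h
    change i ⟶ j at g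
    have h₁ : mk (F := F.obj j) y = mk (F := F.obj i) x ≫ F.map g := by
      rw [mk_comp]
      exact congrArg mk hg
    have h₂ : f.map (F.map g) ≫ t.ι.app j = t.ι.app i := t.w g
    dsimp only
    rw [h₁, f.map_comp, Category.assoc, h₂]
  | refl x => rfl
  | symm x y _ ih => exact ih.symm
  | trans x y z _ _ ih₁ ih₂ => exact ih₁.trans ih₂

variable [PreservesFiniteLimits f] (hf : SGA4.PreservesEpiFamilies.{u + 1, u + 1, u} f)

include hf

omit [PreservesFiniteLimits f] in
lemma js_map {ι : Type u} {X : Sh J} {F : ι → Sh J} {π : ∀ i, F i ⟶ X} (h : JS π) :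
    JS (fun i => f.map (π i)) :=
  js_of_epiFamily (hf ι _ _ _ (js_iff_epiFamily.1 h))

omit [PreservesFiniteLimits f] in
lemma compat_aux {I : Type u} [SmallCategory I] (F : I ⥤ Sh J) {c : Cocone F} (hc : IsColimit c)
    (t : Cocone (F ⋙ f)) (i j : I) :
    f.map (pullback.fst (c.ι.app i) (c.ι.app j)) ≫ t.ι.app i =
      f.map (pullback.snd (c.ι.app i) (c.ι.app j)) ≫ t.ι.app j := by
  let P := pullback (c.ι.app i) (c.ι.app j)
  let p : P ⟶ F.obj i := pullback.fst (c.ι.app i) (c.ι.app j)
  let q : P ⟶ F.obj j := pullback.snd (c.ι.app i) (c.ι.app j)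
  let Idx : Type u := {a : Σ U : C, P.obj.obj (op U) //
    Relation.EqvGen ((F ⋙ sheafToPresheaf J _) ⋙ (evaluation _ _).obj (op a.1)).ColimitTypeRel
      ⟨i, p.hom.app (op a.1) a.2⟩ ⟨j, q.hom.app (op a.1) a.2⟩}
  have h₁ : JS (fun a : Idx => mk (F := P) a.1.2) := by
    apply js_ysh (fun a : Idx => a.1.1) (fun a => a.1.2)
    intro V s
    have hs : (c.ι.app i).hom.app (op V) (p.hom.app (op V) s) =
        (c.ι.app j).hom.app (op V) (q.hom.app (op V) s) := by
      have := pullback.condition (f := c.ι.app i) (g := c.ι.app j)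
      exact ConcreteCategory.congr_hom (congr_app ((sheafToPresheaf J _).congr_map this) (op V)) s
    obtain ⟨S, hS, h⟩ := locally_zigzag F hc _ _ hs
    refine ⟨S, hS, fun W g hg => ⟨⟨⟨W, P.obj.map g.op s⟩, ?_⟩, rfl, by simp⟩⟩
    have := h W g hg
    dsimp only
    erw [NatTrans.naturality_apply p.hom g.op s, NatTrans.naturality_apply q.hom g.op s]
    exact this
  apply (js_map f hf h₁).hom_ext
  rintro ⟨⟨U, a⟩, ha⟩
  have := zigzag_aux f F t U _ _ ha
  dsimp only at this ⊢
  rw [← Category.assoc, ← Category.assoc, ← f.map_comp, ← f.map_comp, mk_comp, mk_comp]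
  exact this

lemma preservesColimit_aux {I : Type u} [SmallCategory I] (F : I ⥤ Sh J) : PreservesColimit F f := by
  refine ⟨fun {c} hc => ?_⟩
  have h₁ : JS (fun i => c.ι.app i) := js_of_epiFamily (fun Z a b hab => hc.hom_ext hab)
  have h₂ : JS (fun i => f.map (c.ι.app i)) := js_map f hf h₁
  have key : ∀ t : Cocone (F ⋙ f), ∃ s : f.obj c.pt ⟶ t.pt, ∀ i, f.map (c.ι.app i) ≫ s = t.ι.app i :=
    fun t => exists_desc_pullback h₂ (fun i => t.ι.app i)
      (fun i j => (IsPullback.of_hasPullback (c.ι.app i) (c.ι.app j)).map f)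
      (fun i j => compat_aux f hf F hc t i j)
  exact ⟨{ desc := fun t => (key t).choose
           fac := fun t i => (key t).choose_spec i
           uniq := fun t m hm => h₂.hom_ext fun i => (hm i).trans ((key t).choose_spec i).symm }⟩

lemma preservesColimits_aux : PreservesColimitsOfSize.{u, u} f :=
  ⟨fun {_} _ => ⟨fun {F} => preservesColimit_aux f hf F⟩⟩

omit hf [PreservesFiniteLimits f] in
lemma isIso_map_functorInclusion {X : C} (S : Sieve X) (hS : S ∈ J X) :
    IsIso ((presheafToSheaf J (Type u)).map S.functorInclusion) := by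
  rw [← J.W_iff]
  have : Presheaf.IsLocallyInjective J S.functorInclusion :=
    Presheaf.isLocallyInjective_of_injective J _ (fun U a b h => Subtype.ext h)
  have : Presheaf.IsLocallySurjective J S.functorInclusion := by
    constructor
    intro U s
    refine J.superset_covering ?_ (J.pullback_stable (s : U ⟶ X) hS)
    intro V g hg
    exact ⟨⟨g ≫ s, hg⟩, rfl⟩
  exact J.W_of_isLocallyBijective _

omit hf [PreservesFiniteLimits f] in
lemma isSheaf_rightAdjoint {R : Sh K ⥤ (Cᵒᵖ ⥤ Type u)} (adj : presheafToSheaf J (Type u) ⋙ f ⊣ R)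
    (F : Sh K) : Presheaf.IsSheaf J (R.obj F) := by
  rw [isSheaf_iff_isSheaf_of_type]
  intro X S hS
  rw [Presieve.isSheafFor_iff_yonedaSheafCondition]
  intro g
  have := isIso_map_functorInclusion S hS
  have hi : IsIso ((presheafToSheaf J (Type u) ⋙ f).map S.functorInclusion) :=
    inferInstanceAs (IsIso (f.map ((presheafToSheaf J (Type u)).map S.functorInclusion)))
  refine ⟨adj.homEquiv _ _ (inv ((presheafToSheaf J (Type u) ⋙ f).map S.functorInclusion) ≫
    (adj.homEquiv _ _).symm g), ?_, ?_⟩
  · dsimp only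
    rw [← Adjunction.homEquiv_naturality_left, IsIso.hom_inv_id_assoc, Equiv.apply_symm_apply]
  · intro h hh
    apply (adj.homEquiv _ _).symm.injective
    rw [Equiv.symm_apply_apply, ← cancel_epi ((presheafToSheaf J (Type u) ⋙ f).map S.functorInclusion),
      IsIso.hom_inv_id_assoc, ← hh, Adjunction.homEquiv_naturality_left_symm]

lemma isLeftAdjoint_aux : f.IsLeftAdjoint := by
  have := preservesColimits_aux f hf
  have : PreservesColimitsOfSize.{u, u} (presheafToSheaf J (Type u) ⋙ f) := inferInstance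
  have hL : (presheafToSheaf J (Type u) ⋙ f).IsLeftAdjoint :=
    Presheaf.isLeftAdjoint_of_preservesColimits.{u} (C := Cᵒᵖ) (presheafToSheaf J (Type u) ⋙ f)
  let adj := Adjunction.ofIsLeftAdjoint (presheafToSheaf J (Type u) ⋙ f)
  let R' : Sh K ⥤ Sh J := ObjectProperty.lift _ (presheafToSheaf J (Type u) ⋙ f).rightAdjoint
    (isSheaf_rightAdjoint f adj)
  have adj' : f ⊣ R' := adj.restrictFullyFaithful (iC := sheafToPresheaf J (Type u)) (iD := 𝟭 _)
    (fullyFaithfulSheafToPresheaf J (Type u)) (Functor.FullyFaithful.id _)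
    (Functor.isoWhiskerRight (asIso (sheafificationAdjunction J (Type u)).counit) f)
    (Iso.refl _)
  exact adj'.isLeftAdjoint

end

open CategoryTheory.Limits in
/-- SGA 4 IV 1.7 with 1.6 (for sheaf topoi on small sites): let f be a functor from sheaves of sets on (C, J) to sheaves of sets on (D, K) which preserves finite limits and sends u-small jointly epimorphic families to jointly epimorphic families. Then f is a left adjoint (so it is the inverse-image functor of a morphism of topoi), equivalently it preserves all u-small colimits. -/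
theorem result {C D : Type u} [SmallCategory C] [SmallCategory D]
    (J : GrothendieckTopology C) (K : GrothendieckTopology D) (f : Sheaf J (Type u) ⥤ Sheaf K (Type u))
    [PreservesFiniteLimits f] (hf : SGA4.PreservesEpiFamilies.{u + 1, u + 1, u} f) :
    f.IsLeftAdjoint ∧ PreservesColimitsOfSize.{u, u} f :=
  ⟨isLeftAdjoint_aux f hf, preservesColimits_aux f hf⟩

end Groth.Agent.S3080
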