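import Groth.Statements.S3081
import Groth.Agent.Sga4A.GiraudAxioms

set_option autoImplicit false
universe u
open CategoryTheory
open SGA4

namespace Groth.Agent.S3081

open CategoryTheory.Limits in
/-- SGA 4 II 4.8 b), c): in the category of sheaves of u-small sets on a u-small site, every u-small family has a coproduct which is disjoint and stable under base change, and every equivalence relation is effective with universally effective-epimorphic quotient map. -/
theorem result {C : Type u} [SmallCategory C] (J : GrothendieckTopology C) :
    SGA4.HasDisjointUniversalCoproducts.{u + 1, u} (Sheaf J (Type u)) ∧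
    ∀ (R A : Sheaf J (Type u)) (p₁ p₂ : R ⟶ A), SGA4.IsEquivRel p₁ p₂ → SGA4.IsEffectiveUniversalEquivRel p₁ p₂ :=
  ⟨Sga4A.GiraudAxioms.hasDisjointUniversalCoproducts,
    fun _ _ _ _ h => Sga4A.GiraudAxioms.isEffectiveUniversal h⟩

end Groth.Agent.S3081
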