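import Groth.Statements.S3082
import Mathlib.CategoryTheory.Sites.LocallyBijective
import Mathlib.CategoryTheory.Limits.ConcreteCategory.Basic

set_option autoImplicit false
universe u
open CategoryTheory
open SGA4

namespace Groth.Agent.S3082

/-- SGA 4 II 4.10 with 4.11: let (C, J) be a u-small site and G a class of objects such that every object admits a covering family by members of G. Then the sheaves associated to the representable presheaves of members of G detect isomorphisms of sheaves of sets: a morphism of sheaves inducing bijections on sections over every member of G is an isomorphism. In particular the sheaf topos has a u-small generating family. -/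
theorem result {C : Type u} [SmallCategory C] (J : GrothendieckTopology C) (G : Set C)
    (hG : ∀ X : C, ∃ (ι : Type u) (Y : ι → C) (f : ∀ i, Y i ⟶ X), Sieve.ofArrows Y f ∈ J X ∧ ∀ i, Y i ∈ G) :
    (ObjectProperty.ofObj fun X : G => (presheafToSheaf J (Type u)).obj (yoneda.obj (X : C))).IsDetecting := by
  intro F F' φ hφ
  have key : ∀ (X : C), X ∈ G → Function.Bijective (φ.hom.app (Opposite.op X)) := by
    intro X hX
    let e : ∀ (P : Sheaf J (Type u)), ((presheafToSheaf J (Type u)).obj (yoneda.obj X) ⟶ P) ≃
        P.obj.obj (Opposite.op X) := fun P =>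
      ((sheafificationAdjunction J (Type u)).homEquiv _ _).trans yonedaEquiv
    have he : ∀ (h : (presheafToSheaf J (Type u)).obj (yoneda.obj X) ⟶ F),
        e F' (h ≫ φ) = φ.hom.app (Opposite.op X) (e F h) := by
      intro h
      simp only [e, Equiv.trans_apply]
      rw [Adjunction.homEquiv_naturality_right]
      rfl
    have hX' := hφ _ (ObjectProperty.ofObj_apply
      (fun X : G => (presheafToSheaf J (Type u)).obj (yoneda.obj (X : C))) ⟨X, hX⟩)
    constructor
    · intro a b hab
      obtain ⟨h, -, hu⟩ := hX' ((e F').symm (φ.hom.app (Opposite.op X) a))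
      have ha := hu ((e F).symm a) (by
        apply (e F').injective
        rw [he, Equiv.apply_symm_apply, Equiv.apply_symm_apply])
      have hb := hu ((e F).symm b) (by
        apply (e F').injective
        rw [he, Equiv.apply_symm_apply, Equiv.apply_symm_apply, hab])
      exact (e F).symm.injective (ha.trans hb.symm)
    · intro y
      obtain ⟨h, hh, -⟩ := hX' ((e F').symm y)
      refine ⟨e F h, ?_⟩
      rw [← he]
      dsimp only at hh
      rw [hh, Equiv.apply_symm_apply]
  have h1 : Sheaf.IsLocallyInjective φ := by
    constructor
    intro X x y hxy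
    obtain ⟨ι, Y, f, hf, hY⟩ := hG X.unop
    refine J.superset_covering ?_ hf
    rw [Sieve.ofArrows, Sieve.generate_le_iff]
    rintro Z _ ⟨i⟩
    change F.obj.map (f i).op x = F.obj.map (f i).op y
    apply (key _ (hY i)).1
    have h1 := ConcreteCategory.congr_hom (φ.hom.naturality (f i).op) x
    have h2 := ConcreteCategory.congr_hom (φ.hom.naturality (f i).op) y
    change φ.hom.app _ (F.obj.map (f i).op x) = F'.obj.map (f i).op (φ.hom.app _ x) at h1
    change φ.hom.app _ (F.obj.map (f i).op y) = F'.obj.map (f i).op (φ.hom.app _ y) at h2
    rw [h1, h2]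
    exact congrArg _ hxy
  have h2 : Sheaf.IsLocallySurjective φ := by
    constructor
    intro X s
    obtain ⟨ι, Y, f, hf, hY⟩ := hG X
    refine J.superset_covering ?_ hf
    rw [Sieve.ofArrows, Sieve.generate_le_iff]
    rintro Z _ ⟨i⟩
    exact (key _ (hY i)).2 _
  exact (Sheaf.isLocallyBijective_iff_isIso φ).1 ⟨h1, h2⟩

end Groth.Agent.S3082
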