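import Groth.Statements.S3085
import Groth.Agent.Sga4A.OpenClosed3

set_option autoImplicit false
universe u
open CategoryTheory
open SGA4

namespace Groth.Agent.S3085

open CategoryTheory.Limits in
/-- SGA 4 IV 9.5.4 a) (for sheaves of sets on a small site; existence of an equivalence, the source's being the explicit functor X ↦ (i^* X, j^* X, i^*(X -> j_* j^* X))): let U be an open with restriction j^* : E -> E/U (X ↦ U × X), assume j^* has a right adjoint j_* (true in a topos; taken as an instance hypothesis), and let i^* be a left adjoint of the inclusion of the closed complement F of U. With ρ = i^* ∘ j_* : E/U -> F, the topos E is equivalent to the glued category of triples (Y in F, X in E/U, Y -> ρ X). -/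
theorem result {C : Type u} [SmallCategory C] (J : GrothendieckTopology C)
    (U : Sheaf J (Type u)) (hU : SGA4.IsOpen U) [(Over.star U).IsLeftAdjoint]
    (L : Sheaf J (Type u) ⥤ (SGA4.closedCompl U).FullSubcategory) (adj : L ⊣ (SGA4.closedCompl U).ι) :
    Nonempty (Sheaf J (Type u) ≌
      Comma (𝟭 (SGA4.closedCompl U).FullSubcategory) ((Over.star U).rightAdjoint ⋙ L)) := by
  exact Groth.Agent.Sga4A.OpenClosed3.nonempty_equiv hU L adj

end Groth.Agent.S3085
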