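import Groth.Statements.S3086
import Groth.Agent.S3078
import Groth.Agent.S3081
import Groth.Agent.Sga4A.GlueComma2
import Groth.Agent.Sga4A.GlueDetect
import Groth.Agent.Sga4A.GiraudVK

set_option autoImplicit false
universe u
open CategoryTheory
open SGA4

namespace Groth.Agent.S3086

open CategoryTheory.Limits in
/-- SGA 4 IV 9.5.4 b) (topos part; for sheaf topoi on small sites): let ρ be a functor from sheaves of sets on (C, J) to sheaves of sets on (D, K) which preserves finite limits and is accessible. Then the glued category of triples (Y, X, Y -> ρ X) is a topos. -/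
theorem result {C D : Type u} [SmallCategory C] [SmallCategory D] (J : GrothendieckTopology C)
    (K : GrothendieckTopology D) (ρ : Sheaf J (Type u) ⥤ Sheaf K (Type u)) [PreservesFiniteLimits ρ]
    [ρ.IsAccessible.{u}] :
    SGA4.IsTopos.{u + 1, u} (Comma (𝟭 (Sheaf K (Type u))) ρ) := by
  have hJ := S3081.result J
  have hK := S3081.result K
  refine S3078.result ?_ ?_ (Sga4A.GlueDetect.exists_detecting J K ρ)
  · intro ι X
    have hl : HasCoproductsOfShape ι (Sheaf K (Type u)) := inferInstance
    have hr : HasCoproductsOfShape ι (Sheaf J (Type u)) := inferInstance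
    have hc := coproductIsCoproduct X
    refine ⟨Cofan.mk (∐ X) (Sigma.ι X), hc, ?_, ?_⟩
    · exact Sga4A.GlueComma.coproductDisjoint_of X
        (Sga4A.GiraudVK.coproductDisjoint_sheaf (fun i => (X i).left))
        (Sga4A.GiraudVK.coproductDisjoint_sheaf (fun i => (X i).right))
    · exact Sga4A.GlueComma.isUniversalColimit_of
        (Sga4A.GiraudVK.isUniversalColimit_sheaf (isColimitOfPreserves (Comma.fst _ _) hc))
        (Sga4A.GiraudVK.isUniversalColimit_sheaf (isColimitOfPreserves (Comma.snd _ _) hc))
  · exact Sga4A.GlueComma.isEffectiveUniversalEquivRel_of hK.2 hJ.2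

end Groth.Agent.S3086
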