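import Groth.Statements.S3087
import Groth.Agent.Sga4A.ModShriek
import Mathlib.Algebra.Category.ModuleCat.Sheaf.Abelian
import Mathlib.Algebra.Category.ModuleCat.Sheaf.PullbackContinuous
import Mathlib.Algebra.Category.ModuleCat.Presheaf.EpiMono
import Mathlib.Algebra.Homology.ShortComplex.ExactFunctor
import Mathlib.Algebra.Category.Grp.FilteredColimits
import Mathlib.Algebra.Category.Grp.Limits
import Mathlib.Algebra.Category.Grp.Colimits
import Mathlib.CategoryTheory.Sites.LocallyBijective
import Mathlib.CategoryTheory.Sites.LeftExact
import Mathlib.CategoryTheory.Sites.Abelian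
import Mathlib.CategoryTheory.Limits.Constructions.EpiMono
import Mathlib.CategoryTheory.Adjunction.Additive

set_option autoImplicit false
universe u
open CategoryTheory
open SGA4

namespace Groth.Agent.S3087

section

open CategoryTheory.Limits Opposite Groth.Agent.Sga4A.ModShriek

variable {C : Type u} [SmallCategory C] (J : GrothendieckTopology C) (X : C) (A : Sheaf J RingCat.{u})

/-- The model of the extension by zero of sheaves of modules. -/
noncomputable abbrev model : SheafOfModules.{u} (A.over X) ⥤ SheafOfModules.{u} A :=
  SheafOfModules.forget (A.over X) ⋙ shriek A.obj X ⋙ PresheafOfModules.sheafification (𝟙 A.obj)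

lemma isRightAdjoint : (SheafOfModules.overFunctor.{u} A X).IsRightAdjoint :=
  inferInstanceAs (SheafOfModules.pushforward.{u} (F := Over.forget X) (𝟙 (A.over X))).IsRightAdjoint

variable {J X A}

/-- Any left adjoint of the restriction is isomorphic to the model. -/
noncomputable def isoModel {L : SheafOfModules.{u} (A.over X) ⥤ SheafOfModules.{u} A}
    (adjL : L ⊣ SheafOfModules.overFunctor.{u} A X) : L ≅ model J X A :=
  Adjunction.leftAdjointUniq adjL
    (SheafOfModules.PullbackConstruction.adjunction.{u} (F := Over.forget X) (𝟙 (A.over X))) ≪≫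
    Functor.isoWhiskerLeft _ (Functor.isoWhiskerRight (Adjunction.leftAdjointUniq
      (PresheafOfModules.pullbackPushforwardAdjunction.{u} (F := Over.forget X) (𝟙 (rover A.obj X)))
      (adj A.obj X)) _)

instance : (model J X A).PreservesMonomorphisms where
  preserves {M N} f _ := by
    have h₀ : PreservesFiniteLimits (SheafOfModules.forget.{u} (A.over X)) := inferInstance
    have h₀' : (SheafOfModules.forget.{u} (A.over X)).PreservesMonomorphisms := inferInstance
    have h₁ : Mono ((SheafOfModules.forget.{u} (A.over X)).map f) := h₀'.preserves f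
    have h₂ : Mono ((shriek A.obj X).map ((SheafOfModules.forget (A.over X)).map f)) := by
      apply PresheafOfModules.mono_of_injective
      intro U
      exact shMapApp_injective _ (fun Y =>
        @PresheafOfModules.injective_of_mono _ _ _ _ _ ((SheafOfModules.forget.{u} (A.over X)).map f) h₁ Y) U
    exact inferInstanceAs (Mono ((PresheafOfModules.sheafification (𝟙 A.obj)).map
      ((shriek A.obj X).map ((SheafOfModules.forget (A.over X)).map f))))

lemma of_eq_locally {M N : SheafOfModules.{u} (A.over X)} (a b : M ⟶ N)
    (hab : (model J X A).map a = (model J X A).map b) (Y : (Over X)ᵒᵖ) (m : M.val.obj Y) :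
    ∃ S ∈ J Y.unop.left, ∀ (V : C) (g : V ⟶ Y.unop.left), S g →
      res N.val g.op (of N.val (op Y.unop.left) Y.unop.hom ((a.val.app Y).hom m)) =
      res N.val g.op (of N.val (op Y.unop.left) Y.unop.hom ((b.val.app Y).hom m)) := by
  let a' : sh M.val ⟶ sh N.val := shMap a.val
  let b' : sh M.val ⟶ sh N.val := shMap b.val
  have h₀ : (PresheafOfModules.sheafification (𝟙 A.obj)).map a' =
    (PresheafOfModules.sheafification (𝟙 A.obj)).map b' := hab
  have h₁ : (PresheafOfModules.toPresheaf _).map a' ≫ toSheafify J (sh N.val).presheaf =
      (PresheafOfModules.toPresheaf _).map b' ≫ toSheafify J (sh N.val).presheaf := by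
    have na := (PresheafOfModules.sheafificationAdjunction (𝟙 A.obj)).unit.naturality a'
    have nb := (PresheafOfModules.sheafificationAdjunction (𝟙 A.obj)).unit.naturality b'
    have key : a' ≫ (PresheafOfModules.sheafificationAdjunction (𝟙 A.obj)).unit.app (sh N.val) =
        b' ≫ (PresheafOfModules.sheafificationAdjunction (𝟙 A.obj)).unit.app (sh N.val) := by
      refine na.trans (Eq.trans ?_ nb.symm)
      dsimp only [Functor.comp_map]
      rw [h₀]
    exact (PresheafOfModules.toPresheaf _).congr_map key
  have h₂ := ConcreteCategory.congr_hom (congr_app h₁ (op Y.unop.left))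
    (of M.val (op Y.unop.left) Y.unop.hom m)
  have h₃ : (toSheafify J (sh N.val).presheaf).app (op Y.unop.left)
        (of N.val (op Y.unop.left) Y.unop.hom ((a.val.app Y).hom m)) =
      (toSheafify J (sh N.val).presheaf).app (op Y.unop.left)
        (of N.val (op Y.unop.left) Y.unop.hom ((b.val.app Y).hom m)) := by
    have e₁ := shMapApp_of a.val (op Y.unop.left) Y.unop.hom m
    have e₂ := shMapApp_of b.val (op Y.unop.left) Y.unop.hom m
    refine (congrArg ((toSheafify J (sh N.val).presheaf).app (op Y.unop.left)) e₁.symm).trans
      (h₂.trans (congrArg ((toSheafify J (sh N.val).presheaf).app (op Y.unop.left)) e₂))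
  refine ⟨_, Presheaf.equalizerSieve_mem J (toSheafify J (sh N.val).presheaf) _ _ h₃, ?_⟩
  intro V g hg
  exact hg

lemma model_faithful : (model J X A).Faithful where
  map_injective {M N} a b hab := by
    ext Y m
    obtain ⟨S, hS, h⟩ := of_eq_locally a b hab Y m
    have hsep : Presheaf.IsSeparated (J.over X) N.val.presheaf := N.isSheaf.isSeparated
    refine hsep Y.unop ((Sieve.overEquiv Y.unop).symm S) (J.overEquiv_symm_mem_over _ _ hS) _ _ ?_
    intro Z f hf
    have hf' : S f.left := (Sieve.overEquiv_symm_iff S f).1 hf
    have h₁ := h _ f.left hf'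
    rw [res_of, res_of] at h₁
    have h₂ := of_injective N.val _ _ h₁
    rw [resFib_apply, resFib_apply] at h₂
    let g : Over.mk (f.left ≫ Y.unop.hom) ⟶ Over.mk Y.unop.hom := Over.homMk f.left
    let t : Z ⟶ Over.mk (f.left ≫ Y.unop.hom) := Over.homMk (𝟙 _) (by simp)
    have hfg : f.op = g.op ≫ t.op := by
      apply Quiver.Hom.unop_inj
      apply Over.OverMorphism.ext
      simp [g, t]
    change N.val.map f.op _ = N.val.map f.op _
    rw [hfg, PresheafOfModules.map_comp_apply, PresheafOfModules.map_comp_apply]
    exact congrArg _ h₂

instance : (SheafOfModules.overFunctor.{u} A X).Additive where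
  map_add := rfl

end

open CategoryTheory.Limits in
/-- SGA 4 IV 11.3.1 (for the ringed topos of sheaves on a small site (C, J) with sheaf of rings A, localised at an object X of C): the restriction functor j_X^* from sheaves of A-modules to sheaves of A|X-modules on the site of objects over X admits a left adjoint (extension by zero j_{X!}), and any such left adjoint is exact (preserves finite limits and finite colimits) and faithful. -/
theorem result {C : Type u} [SmallCategory C] (J : GrothendieckTopology C) (X : C)
    (A : Sheaf J RingCat.{u}) :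
    (SheafOfModules.overFunctor.{u} A X).IsRightAdjoint ∧
    ∀ (L : SheafOfModules.{u} (A.over X) ⥤ SheafOfModules.{u} A) (_ : L ⊣ SheafOfModules.overFunctor.{u} A X),
      PreservesFiniteLimits L ∧ PreservesFiniteColimits L ∧ L.Faithful := by
  refine ⟨isRightAdjoint J X A, fun L adjL => ?_⟩
  have hL : L.IsLeftAdjoint := adjL.isLeftAdjoint
  have h₁ : PreservesFiniteColimits L :=
    have := adjL.leftAdjoint_preservesColimits
    inferInstance
  have e := isoModel adjL
  have hadd : L.Additive := adjL.left_adjoint_additive
  have hmono : L.PreservesMonomorphisms := Functor.PreservesMonomorphisms.of_iso e.symm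
  refine ⟨?_, h₁, ?_⟩
  · rw [Functor.preservesFiniteLimits_iff_forall_exact_map_and_mono]
    intro S hS
    have := hS.mono_f
    exact ⟨((Functor.preservesFiniteColimits_iff_forall_exact_map_and_epi L).1 h₁ S hS).1, inferInstance⟩
  · have := model_faithful (J := J) (X := X) (A := A)
    exact Functor.Faithful.of_iso e.symm

end Groth.Agent.S3087
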