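import Groth.Statements.S3089
import Mathlib.Algebra.Homology.CommSq
import Mathlib.CategoryTheory.Sites.MayerVietorisSquare
-- import your own Groth.Agent.* helpers here

set_option autoImplicit false
universe u
open CategoryTheory
open CohSite

namespace Groth.Agent.S3089

set_option backward.isDefEq.respectTransparency false in
open Limits in
/-- In an abelian category, if `Ext¹` out of the pushout of a mono `i` with itself into `F` vanishes,
then every morphism to `F` extends along `i`. -/
lemma extend_of_ext_pushout_zero {A : Type*} [Category A] [Abelian A] [HasExt A]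
    {X Y P : A} (i : Y ⟶ X) [Mono i] {a b : X ⟶ P} (sq : IsPushout i i a b)
    (F : A) (h : Subsingleton (Abelian.Ext P F 1)) (s : Y ⟶ F) : ∃ t : X ⟶ F, i ≫ t = s := by
  have hepi := sq.epi_shortComplex_g
  have hmono : Mono sq.shortComplex.f := by
    have : Mono (sq.shortComplex.f ≫ biprod.fst) := by
      simp only [CommSq.shortComplex_f, biprod.lift_fst]
      infer_instance
    exact mono_of_mono _ biprod.fst
  have hex : sq.shortComplex.Exact :=
    ShortComplex.exact_of_g_is_cokernel _ sq.isColimitCokernelCofork
  have hS : sq.shortComplex.ShortExact := { exact := hex }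
  obtain ⟨x₂, hx₂⟩ := Abelian.Ext.contravariant_sequence_exact₁ hS F
    (Abelian.Ext.mk₀ s) (n₁ := 1) (by omega) (Subsingleton.elim (α := Abelian.Ext P F 1) _ _)
  obtain ⟨t, rfl⟩ := (Abelian.Ext.mk₀_bijective _ _).2 x₂
  rw [Abelian.Ext.mk₀_comp_mk₀] at hx₂
  have h' := (Abelian.Ext.mk₀_bijective _ _).1 hx₂
  refine ⟨biprod.inl ≫ t - biprod.inr ≫ t, ?_⟩
  rw [← h', Preadditive.comp_sub]
  have : sq.shortComplex.f = i ≫ biprod.inl - i ≫ biprod.inr := by
    apply biprod.hom_ext
    · simp
    · simp
  rw [this]
  simp

open Opposite in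
/-- SGA 4 V 4.7 (abelian sheaves on the topos of sheaves of sets on a small site): let F be an abelian sheaf which is flasque in the sense of SGA 4 V 4.1, i.e. H^q(X, F) = 0 for every sheaf of sets X and every q > 0 (totally acyclic), and let Y -> X be a monomorphism of sheaves of sets. Then the restriction map H^0(X, F) -> H^0(Y, F) is surjective. -/
theorem result {C : Type u} [SmallCategory C] {J : GrothendieckTopology C}
    (F : Sheaf J AddCommGrpCat.{u}) (hF : CohCx.IsTotallyAcyclic F) {Y X : Sheaf J (Type u)} (ι : Y ⟶ X) [Mono ι] :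
    Function.Surjective ((CohCx.HK0Functor J F).map ι.op) := by
  let Z := Sheaf.composeAndSheafify J AddCommGrpCat.free.{u}
  have : Z.IsLeftAdjoint := (Sheaf.adjunction J AddCommGrpCat.adj).isLeftAdjoint
  have sq : IsPushout ι ι (Limits.pushout.inl ι ι) (Limits.pushout.inr ι ι) := IsPushout.of_hasPushout ι ι
  have sqZ := sq.map Z
  have hm : Mono (Z.map ι) := by
    dsimp [Z, Sheaf.composeAndSheafify]
    infer_instance
  intro s
  obtain ⟨t, ht⟩ := extend_of_ext_pushout_zero (Z.map ι) sqZ F (hF _ 0) s
  exact ⟨t, ht⟩

end Groth.Agent.S3089
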