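import Groth.Statements.S3090
import Groth.Agent.Sga4A.TotAcyc
-- import your own Groth.Agent.* helpers here

set_option autoImplicit false
universe u
open CategoryTheory
open CohSite

namespace Groth.Agent.S3090

open CategoryTheory.Limits in
/-- SGA 4 V 4.9 1) (abelian sheaves; the morphism of topoi is the one attached to a morphism of sites given by a continuous functor u : D -> C which preserves finite limits, D having finite limits, and sends coverings to coverings): if F is a flasque (totally acyclic) abelian sheaf on C then its direct image V ↦ F(u(V)) is a flasque abelian sheaf on D. -/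
theorem result {C D : Type u} [SmallCategory C] [SmallCategory D]
    [HasFiniteLimits D] (J : GrothendieckTopology C) (K : GrothendieckTopology D) (u : D ⥤ C)
    (hu : CoverPreserving K J u) [PreservesFiniteLimits u] [u.IsContinuous K J]
    (F : Sheaf J AddCommGrpCat.{u}) (hF : CohCx.IsTotallyAcyclic F) :
    CohCx.IsTotallyAcyclic ((CohSite.push J K u).obj F) := by
  have : RepresentablyFlat u := flat_of_preservesFiniteLimits u
  have h1 : PreservesFiniteLimits (u.sheafPullback AddCommGrpCat.{u} K J) :=
    Functor.SmallCategories.instPreservesFiniteLimitsSheafSheafPullbackOfRepresentablyFlat u AddCommGrpCat.{u} K J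
  have : (u.sheafPullback AddCommGrpCat.{u} K J).PreservesMonomorphisms :=
    preservesMonomorphisms_of_preservesLimitsOfShape _
  exact Groth.Agent.Sga4A.TotAcyc.isTotallyAcyclic_sheafPushforwardContinuous u _
    (u.sheafAdjunctionContinuous AddCommGrpCat.{u} K J) F hF

end Groth.Agent.S3090
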