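import Groth.Statements.S3091
import Groth.Agent.CohtopB.HypSiteGlue
import Groth.Agent.CohtopB.HypRes

set_option autoImplicit false
universe u
open CategoryTheory
open Hyper

namespace Groth.Agent.S3091

section helpers

open Opposite CategoryTheory.Limits Groth.Agent.CohtopB
open Groth.Agent.CohtopB.LocTriv Groth.Agent.CohtopB.HypRes

variable {C : Type u} [SmallCategory C] (J : GrothendieckTopology C)
  (K : SimplicialObject (FormalCoproduct.{u} C))

/-- Comparison with the complex of free abelian sheaves on sections. -/
noncomputable def chainIso : Hyper.freeChainCx J K ≅ SC J K :=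
  (AlgebraicTopology.alternatingFaceMapComplex _).mapIso
    (Functor.isoWhiskerRight (Functor.isoWhiskerRight (Functor.isoWhiskerLeft K HypSec.yonedaIso)
      ((Functor.whiskeringRight _ _ _).obj AddCommGrpCat.free.{u}))
      (presheafToSheaf J AddCommGrpCat.{u}))

/-- The free abelian group on a point is `ℤ`. -/
noncomputable def freePt : (AddCommGrpCat.free.{u}).obj PUnit.{u + 1} ≅
    AddCommGrpCat.of (ULift.{u} ℤ) :=
  AddEquiv.toAddCommGrpIso ((FreeAbelianGroup.uniqueEquiv PUnit.{u + 1}).trans
    AddEquiv.ulift.symm)

/-- The free abelian presheaf on the final presheaf is constant. -/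
noncomputable def freeConst : (Functor.const Cᵒᵖ).obj PUnit.{u + 1} ⋙ AddCommGrpCat.free.{u} ≅
    (Functor.const Cᵒᵖ).obj (AddCommGrpCat.of (ULift.{u} ℤ)) :=
  NatIso.ofComponents (fun _ => freePt) (fun {V W} f => by
    refine Eq.trans ?_ (Category.comp_id _).symm
    have : ((Functor.const Cᵒᵖ).obj PUnit.{u + 1} ⋙ AddCommGrpCat.free.{u}).map f = 𝟙 _ :=
      (AddCommGrpCat.free.{u}).map_id _
    rw [this]
    exact Category.id_comp _)

end helpers

open Opposite CategoryTheory.Limits in
/-- SGA 4 V 7.3.2 3) (site with fibre products and binary products, as in V 7.3.0; hypercoverings of the final object in Verdier's sense, coskeleta assumed to exist): for a hypercovering K, the chain complex of abelian sheaves Z[F(K)]^# (sheafified free abelian presheaves on the coproducts of representables F(K_n), with alternating sum of faces as differential) has vanishing homology sheaves in positive degrees, and its degree-zero homology is isomorphic to the constant sheaf Z. -/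
theorem result {C : Type u} [SmallCategory C] [HasPullbacks C] [HasBinaryProducts C]
    (J : GrothendieckTopology C) (K : SimplicialObject (FormalCoproduct.{u} C))
    [∀ (n : ℕ) (F : (SimplexCategory.Truncated n)ᵒᵖ ⥤ Limits.FormalCoproduct.{u} C),
      (SimplexCategory.Truncated.inclusion n).op.HasRightKanExtension F]
    (hK : Hyper.IsHypercoveringSite J K) :
    (∀ n : ℕ, IsZero ((Hyper.freeChainCx J K).homology (n + 1))) ∧
    Nonempty ((Hyper.freeChainCx J K).homology 0 ≅ (constantSheaf J AddCommGrpCat.{u}).obj (AddCommGrpCat.of (ULift.{u} ℤ))) := by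
  have h := Groth.Agent.CohtopB.HypSiteGlue.isLocHyp_of_site hK
  refine ⟨fun n => ?_, ?_⟩
  · refine IsZero.of_iso ?_ ((HomologicalComplex.homologyFunctor _ _ (n + 1)).mapIso (chainIso J K))
    exact (HomologicalComplex.exactAt_iff_isZero_homology _ _).1
      (Groth.Agent.CohtopB.HypRes.exactAt_succ h n)
  · obtain ⟨e⟩ := Groth.Agent.CohtopB.HypRes.nonempty_homology_zero_iso h
    exact ⟨(HomologicalComplex.homologyFunctor _ _ 0).mapIso (chainIso J K) ≪≫ e ≪≫
      (presheafToSheaf J AddCommGrpCat.{u}).mapIso freeConst⟩

end Groth.Agent.S3091
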