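import Groth.Statements.S3092
import Groth.Agent.Sga4A.LTF
import Groth.Agent.Sga4A.LTFEpi
import Groth.Agent.Sga4A.Special

set_option autoImplicit false
universe u
open CategoryTheory
open Hyper

namespace Groth.Agent.S3092

open Opposite CategoryTheory.Limits in
/-- SGA 4 V 7.2.1 (in the topos of sheaves of sets on a small site; coskeleta assumed to exist): let v : K -> L be a morphism of simplicial sheaves of sets and n ≥ 0 such that v_p is an isomorphism for p < n, v_n is an epimorphism, and K, L are n-coskeletal (the units K -> cosk_n K, L -> cosk_n L are isomorphisms). Then every v_p is an epimorphism and v induces a quasi-isomorphism between the chain complexes of free abelian sheaves Z[K] -> Z[L]. -/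
theorem result {C : Type u} [SmallCategory C] (J : GrothendieckTopology C)
    [∀ (n : ℕ) (F : (SimplexCategory.Truncated n)ᵒᵖ ⥤ Sheaf J (Type u)),
      (SimplexCategory.Truncated.inclusion n).op.HasRightKanExtension F]
    {K L : SimplicialObject (Sheaf J (Type u))} (v : K ⟶ L) (n : ℕ)
    (h1 : ∀ p : ℕ, p < n → IsIso (v.app (op (SimplexCategory.mk p))))
    (h2 : Epi (v.app (op (SimplexCategory.mk n))))
    (h3 : IsIso ((SimplicialObject.coskAdj n).unit.app K) ∧ IsIso ((SimplicialObject.coskAdj n).unit.app L)) :
    (∀ p : ℕ, Epi (v.app (op (SimplexCategory.mk p)))) ∧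
    QuasiIso ((AlgebraicTopology.alternatingFaceMapComplex _).map
      (Functor.whiskerRight v (Sheaf.composeAndSheafify J AddCommGrpCat.free.{u}))) := by
  have h := Groth.Agent.Sga4A.Special.isLTF_of_special v n h1 h2 h3
  exact ⟨fun p => Groth.Agent.Sga4A.LTFEpi.epi_app v h p,
    Groth.Agent.Sga4A.LTF.quasiIso_composeAndSheafify v h⟩

end Groth.Agent.S3092
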