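import Groth.Statements.S3093
-- import your own Groth.Agent.* helpers here

set_option autoImplicit false
universe u
open CohTop

namespace Groth.Agent.S3093

/-- SGA 4 Vbis 4.1.4: let X be a topological space and K ⊆ X a compact subset any two distinct points of which have disjoint open neighbourhoods in X. If A and B are closed subsets of K and W is an open subset of X containing A ∩ B, then there are open subsets U ⊇ A and V ⊇ B of X with U ∩ V ⊆ W. -/
theorem result {X : Type u} [TopologicalSpace X] {K : Set X} (hK : IsCompact K)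
    (hsep : ∀ x ∈ K, ∀ y ∈ K, x ≠ y → ∃ U V : Set X, IsOpen U ∧ IsOpen V ∧ x ∈ U ∧ y ∈ V ∧ Disjoint U V)
    {A B W : Set X} (hA : A ⊆ K) (hB : B ⊆ K) (hAc : IsClosed (Subtype.val ⁻¹' A : Set K))
    (hBc : IsClosed (Subtype.val ⁻¹' B : Set K)) (hW : IsOpen W) (hABW : A ∩ B ⊆ W) :
    ∃ U V : Set X, IsOpen U ∧ IsOpen V ∧ A ⊆ U ∧ B ⊆ V ∧ U ∩ V ⊆ W := by
  have hcpt : ∀ T : Set X, T ⊆ K → IsClosed (Subtype.val ⁻¹' T : Set K) → IsCompact T := by
    intro T hT hTc
    haveI : CompactSpace K := isCompact_iff_compactSpace.mp hK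
    have h1 : IsCompact (Subtype.val '' (Subtype.val ⁻¹' T : Set K)) :=
      hTc.isCompact.image continuous_subtype_val
    rwa [Subtype.image_preimage_coe, Set.inter_eq_self_of_subset_right hT] at h1
  have hAW : IsCompact (A \ W) := (hcpt A hA hAc).diff hW
  have hBk : IsCompact B := hcpt B hB hBc
  let n : Set (X × X) := interior {p | p.1 ≠ p.2}
  have hsub : (A \ W) ×ˢ B ⊆ n := by
    rintro ⟨x, y⟩ ⟨⟨hxA, hxW⟩, hyB⟩
    have hxy : x ≠ y := by
      rintro rfl
      exact hxW (hABW ⟨hxA, hyB⟩)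
    obtain ⟨U, V, hU, hV, hxU, hyV, hd⟩ := hsep x (hA hxA) y (hB hyB) hxy
    refine mem_interior.mpr ⟨U ×ˢ V, ?_, hU.prod hV, ⟨hxU, hyV⟩⟩
    rintro ⟨a, b⟩ ⟨ha, hb⟩ hab
    have hab' : a = b := hab
    subst hab'
    exact Set.disjoint_left.mp hd ha hb
  obtain ⟨U, V, hU, hV, hAU, hBV, hUV⟩ := generalized_tube_lemma hAW hBk isOpen_interior hsub
  refine ⟨U ∪ W, V, hU.union hW, hV, ?_, hBV, ?_⟩
  · intro x hx
    by_cases hxW : x ∈ W
    · exact Or.inr hxW
    · exact Or.inl (hAU ⟨hx, hxW⟩)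
  · rintro x ⟨hx | hx, hxV⟩
    · exact absurd rfl (interior_subset (hUV (show (x, x) ∈ U ×ˢ V from ⟨hx, hxV⟩)))
    · exact hx

end Groth.Agent.S3093
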