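import Groth.Statements.S3094
import Groth.Agent.Sga4A.TotAcyc
import Groth.Agent.Sga4A.OverShriek
-- import your own Groth.Agent.* helpers here

set_option autoImplicit false
universe u
open CategoryTheory
open CohSite

namespace Groth.Agent.S3094

/-- SGA 4 V 4.11 1), flasque case (abelian sheaves on a small site, localised at an object X of the site): if F is flasque in the sense of SGA 4 V 4.1 (totally acyclic: H^q(K, F) = 0 for all sheaves of sets K and q > 0), then its restriction to the site of objects over X is again flasque. -/
theorem result {C : Type u} [SmallCategory C] (J : GrothendieckTopology C) (X : C)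
    (F : Sheaf J AddCommGrpCat.{u}) (hF : CohCx.IsTotallyAcyclic F) :
    CohCx.IsTotallyAcyclic (((Over.forget X).sheafPushforwardContinuous AddCommGrpCat.{u} (J.over X) J).obj F) := by
  exact Groth.Agent.Sga4A.TotAcyc.isTotallyAcyclic_sheafPushforwardContinuous (Over.forget X) _
    (Groth.Agent.Sga4A.OverShriek.jShAdj X AddCommGrpCat.{u} J) F hF

end Groth.Agent.S3094
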