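import Groth.Statements.S3105
-- import your own Groth.Agent.* helpers here
import Groth.Agent.Sga4B.ConstLC
import Groth.Agent.Sga4B.EtaleDomain
import Groth.Agent.Sga4B.ExtendLC

set_option autoImplicit false
universe u
open CategoryTheory CategoryTheory.Limits AlgebraicGeometry Opposite
open EtPBC

namespace Groth.Agent.S3105

theorem aux (X : Scheme.{u}) [IsIntegral X] (hX : Pi1.IsNormalScheme X) {V : Scheme.{u}} (a : V ⟶ X)
    [Etale a] (A : Type*) : Function.Bijective (LocallyConstant.comap (Z := A)
      ((pullback.fst a (X.fromSpecResidueField (genericPoint X))).base.hom : C(_, V))) := by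
  have hdom : ∀ v : V, IsDomain (V.presheaf.stalk v) := fun v =>
    Sga4B.EtaleDomain.isDomain_stalk_of_etale a v (hX _).1 (hX _).2
  have hopen : IsOpenMap a := a.isOpenMap
  have hr0 : Set.range (X.fromSpecResidueField (genericPoint X)) = {genericPoint X} :=
    Scheme.range_fromSpecResidueField _
  have hr : Set.range (pullback.fst a (X.fromSpecResidueField (genericPoint X))) =
      a ⁻¹' {genericPoint X} := by
    rw [← hr0]
    exact Scheme.Pullback.range_fst a _
  have hqc : QuasiCompact (X.fromSpecResidueField (genericPoint X)) :=
    ⟨fun U _ _ => Set.Finite.isCompact (Set.toFinite _)⟩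
  refine Sga4B.ExtendLC.comap_bijective (pullback.fst a (X.fromSpecResidueField (genericPoint X)))
    ?_ ?_ ?_ hdom _
  · change Dense (Set.range (pullback.fst a _))
    rw [hr]
    exact Dense.preimage (dense_iff_closure_eq.2 (genericPoint_closure X)) hopen
  · exact (pullback.fst a (X.fromSpecResidueField (genericPoint X))).isEmbedding.isInducing
  · rw [hr]
    intro x y hxy hx
    have h1 : a y ⤳ a x := hxy.map a.continuous
    have h2 : a x = genericPoint X := hx
    rw [h2] at h1
    exact (h1.antisymm (genericPoint_specializes _)).eq

/-- SGA 4 IX 2.14.1 (second assertion), case of the inclusion of a maximal point: let X be a normal integral scheme with generic point η, g : Spec κ(η) -> X the canonical morphism, and M an abelian group. Then the natural map from the constant sheaf M_X to g_* g^* M_X is an isomorphism. (The source allows X geometrically unibranch and sheaves of sets; it writes out the case of a dominant open immersion and states that the case of a maximal point is treated in exactly the same way.) -/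
theorem result (X : Scheme.{u}) [IsIntegral X] (hX : Pi1.IsNormalScheme X)
    [EtCoh.BCCont (X.fromSpecResidueField (genericPoint X))] (M : Type) [AddCommGroup M] :
    IsIso ((EtCoh.pullPushAdj (X.fromSpecResidueField (genericPoint X))).unit.app (EtCoh.const X M)) := by
  rw [Sga4B.ConstLC.isIso_unit_const_iff]
  apply Sga4B.ConstLC.isIso_LCres
  intro V
  exact aux X hX V.hom _

end Groth.Agent.S3105
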