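import Groth.Statements.S3106
import Groth.Agent.Sga4B.RefineInt

set_option autoImplicit false
universe u
open CategoryTheory CategoryTheory.Limits AlgebraicGeometry Opposite
open EtDual

namespace Groth.Agent.S3106

/-- SGA 4 XVII 6.2.3, case of a finite morphism of constant rank (where f_! = f_*): let f : X -> S be finite, flat and locally of finite presentation, of rank n at every point of S. Then there exists a natural transformation Tr : f_* f^* -> id on abelian sheaves on the small etale site of S such that for every F the composite F -> f_* f^* F -> F of the unit with Tr is multiplication by n. (The source constructs Tr for all separated quasi-finite flat finitely presented f with f_! in place of f_*, and proves uniqueness subject to compatibility with base change and composition; only existence with naturality and the normalisation is stated here.) -/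
theorem result {X S : Scheme.{u}} (f : X ⟶ S) [IsFinite f] [Flat f]
    [LocallyOfFinitePresentation f] [EtCoh.BCCont f] (n : ℕ) (hn : ∀ s : S, f.finrank s = n) :
    ∃ Tr : EtCoh.pull f ⋙ EtCoh.push f ⟶ 𝟭 (EtCoh.Ab S),
      ∀ F : EtCoh.Ab S, (EtCoh.pullPushAdj f).unit.app F ≫ Tr.app F = n • 𝟙 F := by
  have hLS : Groth.Agent.Sga4B.TraceMap.LocSplit f := by
    apply Groth.Agent.Sga4B.LocSplit.locSplit
    intro V
    have : IsFinite (Groth.Agent.Sga4B.UnitInj.pr f V) :=
      MorphismProperty.of_isPullback (P := @IsFinite)
        (Groth.Agent.Sga4B.UnitInj.isPullback_pr f V).flip inferInstance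
    exact Groth.Agent.Sga4B.RefineInt.refine_of_isIntegralHom _
  exact ⟨Groth.Agent.Sga4B.TraceMap.trace f hLS,
    fun F => Groth.Agent.Sga4B.TraceMap.unit_trace f hLS hn F⟩

end Groth.Agent.S3106
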