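import Groth.Statements.S3114
import Groth.Agent.Sga4B.SpecLocConst

set_option autoImplicit false
universe u
open CategoryTheory CategoryTheory.Limits AlgebraicGeometry Opposite
open EtPBC

namespace Groth.Agent.S3114

/-- SGA 4 IX 2.13 (i), abelian case on a locally noetherian scheme (locally noetherian schemes are 'locally arcwise connected' in the sense of the source): let F be an abelian sheaf on the small etale site of X all of whose geometric stalks are finite. Then F is finite locally constant if and only if for every two geometric points ξ, ξ' of X and every morphism of the corresponding points of the etale site from ξ' to ξ (a specialization arrow), the induced specialization map on stalks F_ξ -> F_ξ' is an isomorphism. -/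
theorem result (X : Scheme.{u}) [IsLocallyNoetherian X] (F : EtCoh.Ab X)
    (hfin : ∀ (Ω : Type u) [Field Ω] [IsSepClosed Ω] (ξ : Spec (CommRingCat.of Ω) ⟶ X),
      Finite ((EtCoh.stalk ξ).obj F)) :
    EtCoh.IsFiniteLocallyConstant F ↔
      ∀ (Ω Ω' : Type u) [Field Ω] [IsSepClosed Ω] [Field Ω'] [IsSepClosed Ω']
        (ξ : Spec (CommRingCat.of Ω) ⟶ X) (ξ' : Spec (CommRingCat.of Ω') ⟶ X)
        (φ : Scheme.pointSmallEtale ξ' ⟶ Scheme.pointSmallEtale ξ),
        IsIso ((GrothendieckTopology.Point.Hom.sheafFiber (A := AddCommGrpCat.{u + 1}) φ).app F) := by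
  constructor
  · intro hF Ω Ω' _ _ _ _ ξ ξ' a
    rw [ConcreteCategory.isIso_iff_bijective]
    exact Groth.Agent.Sga4B.SpecLocConst.spMap_bijective_of_flc hF a
  · intro h
    refine Groth.Agent.Sga4B.SpecLocConst.flc_of_spMap_bijective F hfin ?_
    intro Ω Ω' _ _ _ _ ξ ξ' a
    have := h Ω Ω' ξ ξ' a
    exact ConcreteCategory.bijective_of_isIso
      ((GrothendieckTopology.Point.Hom.sheafFiber (A := AddCommGrpCat.{u + 1}) a).app F)

end Groth.Agent.S3114
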