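import Groth.Statements.S3116
import Groth.Agent.Sga4B.SpecConstr

set_option autoImplicit false
universe u
open CategoryTheory CategoryTheory.Limits AlgebraicGeometry Opposite
open EtPBC

namespace Groth.Agent.S3116

/-- SGA 4 IX 2.13 (iii) (with 2.3.1, for abelian sheaves): let X be locally noetherian and F an abelian sheaf on the small etale site of X whose geometric stalks are all finite. Then F is constructible if and only if for every natural number n the set of points x of X such that the stalk of F at some geometric point over x has exactly n elements is locally constructible. -/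
theorem result (X : Scheme.{u}) [IsLocallyNoetherian X] (F : EtCoh.Ab X)
    (hfin : ∀ (Ω : Type u) [Field Ω] [IsSepClosed Ω] (ξ : Spec (CommRingCat.of Ω) ⟶ X),
      Finite ((EtCoh.stalk ξ).obj F)) :
    EtPBC.IsConstructible F ↔ ∀ n : ℕ, Topology.IsLocallyConstructible
      {x : X | ∃ (Ω : Type u) (_ : Field Ω) (_ : IsSepClosed Ω) (ξ : Spec (CommRingCat.of Ω) ⟶ X),
        Set.range ξ = {x} ∧ Nat.card ((EtCoh.stalk ξ).obj F) = n} := by
  constructor
  · intro hF n
    exact Groth.Agent.Sga4B.SpecConstr.isLocallyConstructible_cardLocus F hfin hF n
  · intro h
    exact Groth.Agent.Sga4B.SpecConstr.isConstructible_of_cardLocus F hfin h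

end Groth.Agent.S3116
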