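import Groth.Statements.S3120
-- import your own Groth.Agent.* helpers here

set_option autoImplicit false
universe u
open CategoryTheory CategoryTheory.Limits AlgebraicGeometry Opposite
open EtDual

namespace Groth.Agent.S3120

/-- `(W → V → Y) ×_Y X ≅ W ×_V (X ×_Y V)` for schemes. -/
noncomputable def schIso {X Y V W : Scheme.{u}} (f : X ⟶ Y) (j : V ⟶ Y) (w : W ⟶ V) :
    pullback (w ≫ j) f ≅ pullback w (pullback.snd f j) where
  hom := pullback.lift (pullback.fst (w ≫ j) f)
        (pullback.lift (pullback.snd (w ≫ j) f) (pullback.fst (w ≫ j) f ≫ w)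
          (by rw [Category.assoc]; exact pullback.condition.symm)) (pullback.lift_snd _ _ _).symm
  inv := pullback.lift (pullback.fst w (pullback.snd f j))
        (pullback.snd w (pullback.snd f j) ≫ pullback.fst f j)
        (by rw [Category.assoc, pullback.condition, ← Category.assoc, pullback.condition, Category.assoc])
  hom_inv_id := by
    apply pullback.hom_ext
    · rw [Category.assoc, pullback.lift_fst, pullback.lift_fst, Category.id_comp]
    · simp only [Category.assoc, Category.id_comp, pullback.lift_snd, pullback.lift_snd_assoc, pullback.lift_fst]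
  inv_hom_id := by
    apply pullback.hom_ext
    · rw [Category.assoc, pullback.lift_fst, pullback.lift_fst, Category.id_comp]
    · apply pullback.hom_ext
      · rw [Category.assoc, Category.assoc, pullback.lift_snd_assoc, pullback.lift_fst, pullback.lift_snd,
          Category.id_comp]
      · rw [Category.assoc, Category.assoc, pullback.lift_snd_assoc, pullback.lift_snd,
          pullback.lift_fst_assoc, Category.id_comp, pullback.condition]

theorem schIso_hom_fst {X Y V W : Scheme.{u}} (f : X ⟶ Y) (j : V ⟶ Y) (w : W ⟶ V) :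
    (schIso f j w).hom ≫ pullback.fst w (pullback.snd f j) = pullback.fst (w ≫ j) f :=
  pullback.lift_fst _ _ _

theorem schIso_hom_snd {X Y V W : Scheme.{u}} (f : X ⟶ Y) (j : V ⟶ Y) (w : W ⟶ V) :
    (schIso f j w).hom ≫ pullback.snd w (pullback.snd f j) ≫ pullback.fst f j =
      pullback.snd (w ≫ j) f := by
  unfold schIso
  dsimp only
  rw [pullback.lift_snd_assoc, pullback.lift_fst]

theorem schIso_hom_snd_snd {X Y V W : Scheme.{u}} (f : X ⟶ Y) (j : V ⟶ Y) (w : W ⟶ V) :
    (schIso f j w).hom ≫ pullback.snd w (pullback.snd f j) ≫ pullback.snd f j =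
      pullback.fst (w ≫ j) f ≫ w := by
  unfold schIso
  dsimp only
  rw [pullback.lift_snd_assoc, pullback.lift_snd]

theorem schIso_nat {X Y V W W' : Scheme.{u}} (f : X ⟶ Y) (j : V ⟶ Y) (w : W ⟶ V) (w' : W' ⟶ V)
    (g : W ⟶ W') (hg : g ≫ w' = w)
    (a : pullback (w ≫ j) f ⟶ pullback (w' ≫ j) f)
    (ha1 : a ≫ pullback.fst _ _ = pullback.fst _ _ ≫ g) (ha2 : a ≫ pullback.snd _ _ = pullback.snd _ _)
    (b : pullback w (pullback.snd f j) ⟶ pullback w' (pullback.snd f j))
    (hb1 : b ≫ pullback.fst _ _ = pullback.fst _ _ ≫ g) (hb2 : b ≫ pullback.snd _ _ = pullback.snd _ _) :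
    a ≫ (schIso f j w').hom = (schIso f j w).hom ≫ b := by
  apply pullback.hom_ext
  · rw [Category.assoc, Category.assoc, schIso_hom_fst, ha1, hb1]
    rw [← Category.assoc, schIso_hom_fst]
  · apply pullback.hom_ext
    · rw [Category.assoc, Category.assoc, Category.assoc, Category.assoc, schIso_hom_snd, ha2]
      rw [← Category.assoc b, hb2, schIso_hom_snd]
    · rw [Category.assoc, Category.assoc, Category.assoc, Category.assoc, schIso_hom_snd_snd]
      rw [← Category.assoc b, hb2, schIso_hom_snd_snd, ← Category.assoc, ha1, Category.assoc, hg]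

set_option backward.isDefEq.respectTransparency.types false in
/-- Sites level base change iso: `(W → V → Y) ×_Y X ≅ (W ×_V U → U → X)`, `U = X ×_Y V`. -/
noncomputable def siteIso {X Y V : Scheme.{u}} (f : X ⟶ Y) (j : V ⟶ Y) [IsOpenImmersion j] :
    EtShriek.compEtale j ⋙ EtCoh.bc f ≅
      EtCoh.bc (pullback.snd f j) ⋙ EtShriek.compEtale (pullback.fst f j) :=
  NatIso.ofComponents (fun W => MorphismProperty.Over.isoMk (schIso f j W.hom)
    (schIso_hom_snd f j W.hom))
    (by
      intro W W' g
      apply MorphismProperty.Over.Hom.ext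
      refine schIso_nat f j W.hom W'.hom g.left (Over.w g.hom) _ ?_ ?_ _ ?_ ?_
      · exact pullback.lift_fst _ _ _
      · exact pullback.lift_snd _ _ _
      · exact pullback.lift_fst _ _ _
      · exact pullback.lift_snd _ _ _)

set_option backward.isDefEq.respectTransparency.types false in
noncomputable def pushRestrIso {X Y V : Scheme.{u}} (f : X ⟶ Y) (j : V ⟶ Y) [IsOpenImmersion j] :
    EtCoh.push f ⋙ EtShriek.restrAlong j ≅
      EtShriek.restrAlong (pullback.fst f j) ⋙ EtCoh.push (pullback.snd f j) :=
  haveI : (EtCoh.bc (pullback.snd f j) ⋙ EtShriek.compEtale (pullback.fst f j)).IsContinuous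
      V.smallEtaleTopology X.smallEtaleTopology :=
    Functor.isContinuous_comp _ _ _ (pullback f j).smallEtaleTopology _
  (Functor.sheafPushforwardContinuousComp' (siteIso f j) AddCommGrpCat.{u + 1} V.smallEtaleTopology
      Y.smallEtaleTopology X.smallEtaleTopology) ≪≫
    (Functor.sheafPushforwardContinuousComp _ _ _ _ _ _).symm

/-- SGA 4 XVII 5.1.2 for schemes: let f : X -> Y be a morphism, j : V -> Y an open immersion, and U = X ×_Y V with projections f' : U -> V and j' : U -> X (an open immersion). Then for every abelian sheaf G on the small etale site of V, the sheaves f^* (j_! G) and j'_! (f'^* G) on X are isomorphic. (The source gives a unique isomorphism compatible with the base change map for j_*; only the existence of an isomorphism is stated here.) -/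
theorem result {X Y V : Scheme.{u}} (f : X ⟶ Y) (j : V ⟶ Y) [IsOpenImmersion j]
    [EtCoh.BCCont f] [EtCoh.BCCont (pullback.snd f j)] (G : EtCoh.Ab V) :
    Nonempty ((EtCoh.pull f).obj ((EtShriek.extZero j).obj G) ≅
      (EtShriek.extZero (pullback.fst f j)).obj ((EtCoh.pull (pullback.snd f j)).obj G)) := by
  have a1 := (EtShriek.extZeroAdj j).comp (EtCoh.pullPushAdj f)
  have a2 := (EtCoh.pullPushAdj (pullback.snd f j)).comp (EtShriek.extZeroAdj (pullback.fst f j))
  exact ⟨((a1.ofNatIsoRight (pushRestrIso f j)).leftAdjointUniq a2).app G⟩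

end Groth.Agent.S3120
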