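import Groth.Statements.S3128
import Mathlib.FieldTheory.Finite.GaloisField
import Mathlib.FieldTheory.Finite.Extension
import Mathlib.RingTheory.Polynomial.UniqueFactorization
import Mathlib.RingTheory.Norm.Defs
import Mathlib.RingTheory.Norm.Basic
import Mathlib.RingTheory.Trace.Basic
import Mathlib.FieldTheory.Minpoly.MinpolyDiv

set_option autoImplicit false
open BigOperators
open SGA4h

namespace Groth.Agent.S3128

open Polynomial

section

variable {F : Type} [Field F] {R : Type} [CommRing R]

/-- the function lambda on monic polynomials -/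
noncomputable def lam (χ : MulChar F R) (ψ : AddChar F R) (f : F[X]) : R :=
  χ ((-1) ^ f.natDegree * f.coeff 0) * ψ (-f.nextCoeff)

lemma lam_mul (χ : MulChar F R) (ψ : AddChar F R) {f g : F[X]} (hf : f.Monic) (hg : g.Monic) :
    lam χ ψ (f * g) = lam χ ψ f * lam χ ψ g := by
  unfold lam
  rw [hf.natDegree_mul hg, hf.nextCoeff_mul hg, mul_coeff_zero, neg_add, AddChar.map_add_eq_mul,
    pow_add, show (-1 : F) ^ f.natDegree * (-1) ^ g.natDegree * (f.coeff 0 * g.coeff 0) =
      ((-1 : F) ^ f.natDegree * f.coeff 0) * ((-1) ^ g.natDegree * g.coeff 0) by ring, map_mul]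
  ring

lemma lam_one (χ : MulChar F R) (ψ : AddChar F R) : lam χ ψ 1 = 1 := by
  unfold lam
  have : (1 : F[X]).nextCoeff = 0 := by
    rw [← C_1, nextCoeff_C_eq_zero]
  simp [this]

lemma lam_pow (χ : MulChar F R) (ψ : AddChar F R) {f : F[X]} (hf : f.Monic) (m : ℕ) :
    lam χ ψ (f ^ m) = lam χ ψ f ^ m := by
  induction m with
  | zero => simp [lam_one]
  | succ m ih => rw [pow_succ, lam_mul χ ψ (hf.pow m) hf, ih, pow_succ]

variable [Fintype F]

/-- Monic polynomials of degree `d`. -/
lemma finite_monic (d : ℕ) : {f : F[X] | f.Monic ∧ f.natDegree = d}.Finite := by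
  have : Set.Finite (Set.range (fun c : Fin d → F => (X ^ d + ∑ i, C (c i) * X ^ (i : ℕ) : F[X]))) :=
    Set.finite_range _
  refine this.subset ?_
  rintro f ⟨hf, rfl⟩
  refine ⟨fun i => f.coeff i, ?_⟩
  conv_rhs => rw [hf.as_sum]
  simp only
  rw [Finset.sum_range]

noncomputable def M (F : Type) [Field F] [Fintype F] (d : ℕ) : Finset F[X] := (finite_monic (F := F) d).toFinset

lemma mem_M {d : ℕ} {f : F[X]} : f ∈ M F d ↔ f.Monic ∧ f.natDegree = d := by
  simp [M]

noncomputable def a (χ : MulChar F R) (ψ : AddChar F R) (d : ℕ) : R := ∑ f ∈ M F d, lam χ ψ f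

lemma a_zero (χ : MulChar F R) (ψ : AddChar F R) : a χ ψ 0 = 1 := by
  have : M F 0 = {1} := by
    ext f
    rw [mem_M, Finset.mem_singleton]
    constructor
    · rintro ⟨h1, h2⟩
      exact h1.natDegree_eq_zero.1 h2
    · rintro rfl
      simp
  rw [a, this, Finset.sum_singleton, lam_one]

lemma a_one (χ : MulChar F R) (ψ : AddChar F R) : a χ ψ 1 = ∑ x : F, χ x * ψ x := by
  rw [a]
  symm
  refine Finset.sum_bij (fun x _ => X - C x) ?_ ?_ ?_ ?_
  · intro x _
    rw [mem_M]
    exact ⟨monic_X_sub_C x, natDegree_X_sub_C x⟩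
  · intro x _ y _ h
    simpa using h
  · intro f hf
    rw [mem_M] at hf
    refine ⟨-f.coeff 0, Finset.mem_univ _, ?_⟩
    have := hf.1.as_sum
    rw [hf.2] at this
    rw [this]
    simp
  · intro x _
    unfold lam
    simp [nextCoeff]

lemma a_eq_zero [IsDomain R] (χ : MulChar F R) (ψ : AddChar F R) (hψ : ψ ≠ 1) (d : ℕ) (hd : 2 ≤ d) :
    a χ ψ d = 0 := by
  obtain ⟨b, hb⟩ : ∃ b, ψ b ≠ 1 := by
    by_contra hcon
    push Not at hcon
    exact hψ (by ext x; simp [hcon x])
  have hdeg : ∀ (f : F[X]) (c : F), f ∈ M F d → f + C c * X ^ (d - 1) ∈ M F d := by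
    intro f c hf
    rw [mem_M] at hf ⊢
    have hlt : (C c * X ^ (d - 1) : F[X]).degree < f.degree := by
      rw [degree_eq_natDegree hf.1.ne_zero, hf.2]
      refine (degree_C_mul_X_pow_le _ _).trans_lt ?_
      exact_mod_cast (by omega : d - 1 < d)
    refine ⟨hf.1.add_of_left hlt, ?_⟩
    rw [natDegree_add_eq_left_of_degree_lt hlt, hf.2]
  have key : a χ ψ d = ψ b * a χ ψ d := by
    conv_lhs => rw [a]
    rw [a, Finset.mul_sum]
    refine Finset.sum_bij (fun f _ => f + C b * X ^ (d - 1)) ?_ ?_ ?_ ?_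
    · intro f hf
      exact hdeg f b hf
    · intro f _ g _ h
      simpa using h
    · intro f hf
      refine ⟨f + C (-b) * X ^ (d - 1), hdeg f (-b) hf, ?_⟩
      simp
    · intro f hf
      have h1 := mem_M.1 hf
      have h2 := mem_M.1 (hdeg f b hf)
      unfold lam
      rw [h1.2, h2.2, nextCoeff_of_natDegree_pos (by omega), nextCoeff_of_natDegree_pos (by omega),
        h1.2, h2.2]
      simp only [coeff_add, coeff_C_mul, coeff_X_pow, if_neg (show ¬ (0 = d - 1) by omega), if_true,
        mul_one, mul_zero, add_zero]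
      rw [show -f.coeff (d - 1) = b + -(f.coeff (d-1) + b) by ring, AddChar.map_add_eq_mul]
      ring
  have : (1 - ψ b) * a χ ψ d = 0 := by
    rw [sub_mul, one_mul, ← key, sub_self]
  rcases mul_eq_zero.1 this with h | h
  · exact absurd (sub_eq_zero.1 h).symm hb
  · exact h

/-- monic irreducible polynomials of degree `≤ N`. -/
noncomputable def I (F : Type) [Field F] [Fintype F] (N : ℕ) : Finset F[X] := by
  classical
  exact (Finset.range (N + 1)).biUnion (fun d => (M F d).filter Irreducible)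

lemma mem_I {N : ℕ} {f : F[X]} : f ∈ I F N ↔ f.Monic ∧ f.natDegree ≤ N ∧ Irreducible f := by
  classical
  simp only [I, Finset.mem_biUnion, Finset.mem_range, Finset.mem_filter, mem_M]
  constructor
  · rintro ⟨d, h1, ⟨h2, rfl⟩, h3⟩
    exact ⟨h2, by omega, h3⟩
  · rintro ⟨h1, h2, h3⟩
    exact ⟨f.natDegree, by omega, ⟨h1, rfl⟩, h3⟩

lemma natDegree_eq_sum (N : ℕ) (f : F[X]) (hf : f.Monic) (hN : f.natDegree ≤ N) [DecidableRel (α := F[X]) (· ∣ ·)] :
    f.natDegree = ∑ P ∈ I F N, ∑ m ∈ Finset.Icc 1 N, if P ^ m ∣ f then P.natDegree else 0 := by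
  classical
  set s := UniqueFactorizationMonoid.normalizedFactors f with hs
  have hprod : s.prod = f := by
    have := UniqueFactorizationMonoid.prod_normalizedFactors_eq hf.ne_zero
    rw [hf.normalize_eq_self] at this
    exact this
  have hirr : ∀ P ∈ s, Irreducible P := fun P hP =>
    UniqueFactorizationMonoid.irreducible_of_normalized_factor P hP
  have hmon : ∀ P ∈ s, P.Monic := fun P hP => by
    have := UniqueFactorizationMonoid.normalize_normalized_factor P hP
    rw [← this]
    exact monic_normalize (hirr P hP).ne_zero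
  have h1 : f.natDegree = (s.map natDegree).sum := by
    conv_lhs => rw [← hprod]
    rw [natDegree_multiset_prod_of_monic _ hmon]
  have h2 : s.toFinset ⊆ I F N := by
    intro P hP
    rw [Multiset.mem_toFinset] at hP
    rw [mem_I]
    refine ⟨hmon P hP, ?_, hirr P hP⟩
    refine le_trans ?_ hN
    rw [← hprod]
    exact natDegree_le_of_dvd (Multiset.dvd_prod hP) (by rw [hprod]; exact hf.ne_zero)
  rw [h1, Finset.sum_multiset_map_count, Finset.sum_subset h2]
  · refine Finset.sum_congr rfl ?_
    intro P hP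
    rw [mem_I] at hP
    obtain ⟨hPm, hPN, hPi⟩ := hP
    rw [← Finset.sum_filter, Finset.sum_const]
    congr 1
    have hcount : ∀ m, P ^ m ∣ f ↔ m ≤ s.count P := by
      intro m
      rw [UniqueFactorizationMonoid.dvd_iff_normalizedFactors_le_normalizedFactors (pow_ne_zero _ hPi.ne_zero) hf.ne_zero]
      rw [UniqueFactorizationMonoid.normalizedFactors_pow, UniqueFactorizationMonoid.normalizedFactors_irreducible hPi,
        hPm.normalize_eq_self, ← hs, Multiset.nsmul_singleton, Multiset.le_count_iff_replicate_le]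
    have hle : s.count P ≤ N := by
      have h3 := (hcount _).2 le_rfl
      have h4 := natDegree_le_of_dvd h3 hf.ne_zero
      rw [natDegree_pow] at h4
      have h5 : 0 < P.natDegree := hPi.natDegree_pos
      nlinarith
    have : Finset.filter (fun m => P ^ m ∣ f) (Finset.Icc 1 N) = Finset.Icc 1 (s.count P) := by
      ext m
      simp only [Finset.mem_filter, Finset.mem_Icc, hcount]
      omega
    rw [this]
    simp
  · intro P _ hP
    rw [Multiset.mem_toFinset] at hP
    rw [Multiset.count_eq_zero_of_notMem hP, zero_smul]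

lemma sum_dvd (χ : MulChar F R) (ψ : AddChar F R) (P : F[X]) (hP : P.Monic) (d e : ℕ) 
    (he : P.natDegree = e) [DecidablePred (fun f : F[X] => P ∣ f)] :
    ∑ f ∈ (M F d).filter (fun f => P ∣ f), lam χ ψ f = if e ≤ d then lam χ ψ P * a χ ψ (d - e) else 0 := by
  classical
  split_ifs with h
  · rw [a, Finset.mul_sum]
    symm
    refine Finset.sum_bij (fun g _ => P * g) ?_ ?_ ?_ ?_
    · intro g hg
      rw [mem_M] at hg
      rw [Finset.mem_filter, mem_M]
      refine ⟨⟨hP.mul hg.1, ?_⟩, dvd_mul_right _ _⟩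
      rw [hP.natDegree_mul hg.1, he, hg.2]
      omega
    · intro g _ g' _ h
      exact mul_left_cancel₀ hP.ne_zero h
    · intro f hf
      rw [Finset.mem_filter, mem_M] at hf
      obtain ⟨⟨h1, h2⟩, g, rfl⟩ := hf
      have hg : g.Monic := hP.of_mul_monic_left h1
      refine ⟨g, ?_, rfl⟩
      rw [mem_M]
      refine ⟨hg, ?_⟩
      rw [hP.natDegree_mul hg, he] at h2
      omega
    · intro g hg
      rw [mem_M] at hg
      rw [lam_mul χ ψ hP hg.1]
  · rw [Finset.filter_false_of_mem, Finset.sum_empty]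
    intro f hf hdvd
    rw [mem_M] at hf
    have := natDegree_le_of_dvd hdvd hf.1.ne_zero
    omega

noncomputable def b (χ : MulChar F R) (ψ : AddChar F R) (N k : ℕ) : R :=
  ∑ P ∈ I F N, ∑ m ∈ Finset.Icc 1 N, if m * P.natDegree = k then (P.natDegree : R) * lam χ ψ P ^ m else 0

lemma recursion (χ : MulChar F R) (ψ : AddChar F R) (N d : ℕ) (hd : d ≤ N) :
    (d : R) * a χ ψ d = ∑ P ∈ I F N, ∑ m ∈ Finset.Icc 1 N, 
      if m * P.natDegree ≤ d then (P.natDegree : R) * lam χ ψ P ^ m * a χ ψ (d - m * P.natDegree) else 0 := by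
  classical
  rw [a, Finset.mul_sum]
  have : ∀ f ∈ M F d, (d : R) * lam χ ψ f = ∑ P ∈ I F N, ∑ m ∈ Finset.Icc 1 N, if P ^ m ∣ f then (P.natDegree : R) * lam χ ψ f else 0 := by
    intro f hf
    rw [mem_M] at hf
    have h := natDegree_eq_sum N f hf.1 (by rw [hf.2]; exact hd)
    rw [hf.2] at h
    conv_lhs => rw [h]
    push_cast
    rw [Finset.sum_mul]
    refine Finset.sum_congr rfl fun P _ => ?_
    rw [Finset.sum_mul]
    refine Finset.sum_congr rfl fun m _ => ?_
    split_ifs <;> simp
  rw [Finset.sum_congr rfl this, Finset.sum_comm]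
  refine Finset.sum_congr rfl fun P hP => ?_
  rw [Finset.sum_comm]
  refine Finset.sum_congr rfl fun m _ => ?_
  rw [mem_I] at hP
  rw [← Finset.sum_filter, ← Finset.mul_sum, sum_dvd χ ψ (P ^ m) (hP.1.pow m) d (m * P.natDegree) (natDegree_pow _ _),
    lam_pow χ ψ hP.1]
  split_ifs <;> ring

lemma b_one [IsDomain R] (χ : MulChar F R) (ψ : AddChar F R) (N : ℕ) (hN : 1 ≤ N) :
    b χ ψ N 1 = a χ ψ 1 := by
  have := recursion χ ψ N 1 hN
  rw [Nat.cast_one, one_mul] at this
  rw [this, b]
  refine Finset.sum_congr rfl fun P hP => ?_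
  refine Finset.sum_congr rfl fun m hm => ?_
  rw [mem_I] at hP
  rw [Finset.mem_Icc] at hm
  have h1 : 0 < P.natDegree := hP.2.2.natDegree_pos
  have h2 : 0 < m * P.natDegree := Nat.mul_pos (by omega) h1
  by_cases h : m * P.natDegree = 1
  · rw [if_pos h, if_pos (by omega), h, Nat.sub_self, a_zero, mul_one]
  · rw [if_neg h, if_neg (by omega)]

lemma b_succ [IsDomain R] (χ : MulChar F R) (ψ : AddChar F R) (hψ : ψ ≠ 1) (N k : ℕ) (hk : 1 ≤ k) (hN : k + 1 ≤ N) :
    b χ ψ N (k + 1) = - a χ ψ 1 * b χ ψ N k := by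
  have := recursion χ ψ N (k + 1) hN
  rw [a_eq_zero χ ψ hψ (k + 1) (by omega), mul_zero] at this
  rw [← sub_eq_zero]
  rw [show b χ ψ N (k + 1) - - a χ ψ 1 * b χ ψ N k = b χ ψ N (k + 1) + a χ ψ 1 * b χ ψ N k by ring]
  rw [this, b, b, Finset.mul_sum, ← Finset.sum_add_distrib]
  refine Finset.sum_congr rfl fun P hP => ?_
  rw [Finset.mul_sum, ← Finset.sum_add_distrib]
  refine Finset.sum_congr rfl fun m hm => ?_
  by_cases h : m * P.natDegree = k + 1
  · rw [if_pos h, if_neg (by omega), if_pos (by omega), h, Nat.sub_self, a_zero]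
    ring
  · by_cases h' : m * P.natDegree = k
    · rw [if_neg h, if_pos h', if_pos (by omega), h', Nat.add_sub_cancel_left]
      ring
    · rw [if_neg h, if_neg h']
      split_ifs with h''
      · rw [a_eq_zero χ ψ hψ (k + 1 - m * P.natDegree) (by omega)]
        ring
      · ring

lemma b_eq [IsDomain R] (χ : MulChar F R) (ψ : AddChar F R) (hψ : ψ ≠ 1) (N k : ℕ) (hN : k + 1 ≤ N) :
    b χ ψ N (k + 1) = - (- a χ ψ 1) ^ (k + 1) := by
  induction k with
  | zero => rw [b_one χ ψ N (by omega)]; ring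
  | succ k ih => rw [b_succ χ ψ hψ N (k + 1) (by omega) hN, ih (by omega)]; ring

end

lemma norm_eq_norm_adjoin' {F F' : Type} [Field F] [Field F'] [Algebra F F'] [FiniteDimensional F F'] (x : F') :
    Algebra.norm F x = ((-1) ^ (minpoly F x).natDegree * (minpoly F x).coeff 0) ^
      Module.finrank (IntermediateField.adjoin F {x}) F' := by
  have hx : IsIntegral F x := Algebra.IsIntegral.isIntegral x
  rw [Algebra.norm_eq_norm_adjoin]
  congr 1
  have := Algebra.PowerBasis.norm_gen_eq_coeff_zero_minpoly (IntermediateField.adjoin.powerBasis hx)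
  rw [IntermediateField.adjoin.powerBasis_gen, IntermediateField.minpoly_gen] at this
  rw [this, IntermediateField.adjoin.powerBasis_dim]

theorem main (F F' : Type) [Field F] [Fintype F] [Field F'] [Fintype F'] [Algebra F F']
    (R : Type) [CommRing R] [IsDomain R] (χ : MulChar F R) (ψ : AddChar F R) :
    ∑ x : F', χ (Algebra.norm F x) * ψ (Algebra.trace F F' x) = 
      b χ ψ (Module.finrank F F') (Module.finrank F F') := by
  classical
  set n := Module.finrank F F' with hn
  have hfin : FiniteDimensional F F' := inferInstance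
  have hint : ∀ x : F', IsIntegral F x := fun x => Algebra.IsIntegral.isIntegral x
  have hmaps : ∀ x ∈ (Finset.univ : Finset F'), minpoly F x ∈ I F n := by
    intro x _
    rw [mem_I]
    exact ⟨minpoly.monic (hint x), minpoly.natDegree_le x, minpoly.irreducible (hint x)⟩
  rw [← Finset.sum_fiberwise_of_maps_to hmaps, b]
  refine Finset.sum_congr rfl fun P hP => ?_
  rw [mem_I] at hP
  obtain ⟨hPm, hPn, hPi⟩ := hP
  have hPpos := hPi.natDegree_pos
  have hdeg : ∀ x : F', minpoly F x = P → (P.natDegree ∣ n) ∧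
      χ (Algebra.norm F x) * ψ (Algebra.trace F F' x) = lam χ ψ P ^ (n / P.natDegree) := by
    intro x hx
    have h1 : Module.finrank F (IntermediateField.adjoin F {x}) = P.natDegree := by
      rw [IntermediateField.adjoin.finrank (hint x), hx]
    have h2 := Module.finrank_mul_finrank F (IntermediateField.adjoin F {x}) F'
    rw [h1, ← hn] at h2
    have h3 : Module.finrank (IntermediateField.adjoin F {x}) F' = n / P.natDegree := by
      rw [← h2, Nat.mul_div_cancel_left _ hPpos]
    refine ⟨⟨_, h2.symm⟩, ?_⟩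
    rw [norm_eq_norm_adjoin', trace_eq_finrank_mul_minpoly_nextCoeff, h3, hx, map_pow]
    unfold lam
    rw [mul_pow]
    congr 1
    rw [← nsmul_eq_mul, AddChar.map_nsmul_eq_pow]
  by_cases hdvd : P.natDegree ∣ n
  · have hcard : (Finset.univ.filter (fun x : F' => minpoly F x = P)).card = P.natDegree := by
      have : Fact (Irreducible P) := ⟨hPi⟩
      have hfr : Module.finrank F (AdjoinRoot P) = P.natDegree := by
        rw [(AdjoinRoot.powerBasis hPi.ne_zero).finrank, AdjoinRoot.powerBasis_dim]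
      have h1 := FiniteField.natCard_algHom_of_finrank_dvd (F := F) (K := AdjoinRoot P) (L := F') (by rw [hfr]; exact hdvd)
      rw [hfr, Nat.card_congr (AdjoinRoot.equiv F' F P hPi.ne_zero)] at h1
      rw [← h1, ← Fintype.card_subtype, ← Nat.card_eq_fintype_card]
      refine Nat.card_congr (Equiv.subtypeEquivRight fun x => ?_)
      rw [mem_aroots]
      constructor
      · intro hx
        exact ⟨hPi.ne_zero, by rw [← hx]; exact minpoly.aeval F x⟩
      · rintro ⟨_, hx⟩
        exact (minpoly.eq_of_irreducible_of_monic hPi hx hPm).symm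
    rw [Finset.sum_congr rfl (g := fun _ => lam χ ψ P ^ (n / P.natDegree)) (fun x hx => (hdeg x (Finset.mem_filter.1 hx).2).2),
      Finset.sum_const, hcard, nsmul_eq_mul]
    rw [Finset.sum_eq_single (n / P.natDegree)]
    · rw [if_pos (Nat.div_mul_cancel hdvd)]
    · intro m _ hm
      rw [if_neg]
      intro h
      exact hm (by rw [← h, Nat.mul_div_cancel _ hPpos])
    · intro h
      exfalso
      apply h
      rw [Finset.mem_Icc]
      exact ⟨Nat.div_pos hPn hPpos, Nat.div_le_self _ _⟩
  · rw [Finset.filter_false_of_mem (fun x _ hx => hdvd (hdeg x hx).1), Finset.sum_empty]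
    symm
    refine Finset.sum_eq_zero fun m _ => ?_
    rw [if_neg]
    intro h
    exact hdvd ⟨m, by rw [← h, mul_comm]⟩

/-- SGA 4½ [Sommes trig.] Théorème 1.15 (Hasse–Davenport): let F ⊂ F' be finite fields with [F' : F] = n, χ a multiplicative character of F and ψ a nontrivial additive character of F, with values in a domain of characteristic zero. Writing τ(χ, ψ) = -Σ_x χ(x) ψ(x), one has τ(χ ∘ N_{F'/F}, ψ ∘ Tr_{F'/F}) = τ(χ, ψ)^n. (The source writes χ⁻¹ inside τ; replacing χ by χ⁻¹ gives the same family of identities.) -/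
theorem result (F F' : Type) [Field F] [Fintype F] [Field F'] [Fintype F'] [Algebra F F']
    (R : Type) [CommRing R] [IsDomain R] [CharZero R] (χ : MulChar F R) (ψ : AddChar F R) (hψ : ψ ≠ 1) :
    -(∑ x : F', χ (Algebra.norm F x) * ψ (Algebra.trace F F' x)) =
      (-(∑ x : F, χ x * ψ x)) ^ Module.finrank F F' := by
  have hfin : FiniteDimensional F F' := inferInstance
  have hpos : 0 < Module.finrank F F' := Module.finrank_pos
  rw [main F F' R χ ψ, ← a_one]
  obtain ⟨k, hk⟩ : ∃ k, Module.finrank F F' = k + 1 := ⟨Module.finrank F F' - 1, by omega⟩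
  rw [hk, b_eq χ ψ hψ (k + 1) k le_rfl, neg_neg]

end Groth.Agent.S3128
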