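-- Statement S3129
import Groth.Statements.S3129

set_option autoImplicit false
open BigOperators
open SGA4h

namespace Groth.Agent.S3129

theorem aux_sum_units (F : Type) [Field F] [Fintype F] [DecidableEq F] (R : Type) [CommRing R]
    (f : F → R) : ∑ y : F, f y = f 0 + ∑ y : Fˣ, f (y : F) := by
  classical
  rw [← Finset.add_sum_erase Finset.univ f (Finset.mem_univ (0 : F))]
  congr 1
  symm
  refine Finset.sum_bij (fun (y : Fˣ) _ => (y : F)) ?_ ?_ ?_ ?_
  · intro a _
    simp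
  · intro a _ b _ h
    exact Units.ext h
  · intro b hb
    have hb' : b ≠ 0 := by simpa using hb
    exact ⟨Units.mk0 b hb', Finset.mem_univ _, rfl⟩
  · intro a _
    rfl

theorem aux_units_addchar (F : Type) [Field F] [Fintype F] [DecidableEq F] (R : Type) [CommRing R]
    [IsDomain R] (Ψ : AddChar F R) (hΨ : Ψ ≠ 1) (s : F) :
    ∑ y : Fˣ, Ψ ((y : F) * s) = (if s = 0 then (Fintype.card F : R) else 0) - 1 := by
  have h := AddChar.sum_mulShift s (AddChar.IsPrimitive.of_ne_one hΨ)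
  rw [aux_sum_units F R (fun y => Ψ (y * s))] at h
  simp only [zero_mul, AddChar.map_zero_eq_one] at h
  rw [eq_sub_iff_add_eq, add_comm, h]
  split_ifs <;> simp

theorem aux_prod_apply (F : Type) [Field F] [Fintype F] [DecidableEq F] (R : Type) [CommRing R]
    {ι : Type} (s : Finset ι) (χ : ι → MulChar F R) (y : Fˣ) :
    (∏ i ∈ s, χ i) (y : F) = ∏ i ∈ s, χ i (y : F) := by
  classical
  induction s using Finset.induction_on with
  | empty => simp
  | insert a s ha ih => rw [Finset.prod_insert ha, Finset.prod_insert ha, MulChar.mul_apply, ih]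

theorem aux_addchar_sum (F : Type) [Field F] (R : Type) [CommRing R] (Ψ : AddChar F R)
    {ι : Type} (s : Finset ι) (f : ι → F) :
    Ψ (∑ i ∈ s, f i) = ∏ i ∈ s, Ψ (f i) := by
  classical
  induction s using Finset.induction_on with
  | empty => simp [AddChar.map_zero_eq_one]
  | insert a s ha ih => rw [Finset.sum_insert ha, Finset.prod_insert ha, AddChar.map_add_eq_mul, ih]

/-- SGA 4½ [Sommes trig.] Proposition 4.15, formula (4.15.1): let F be a finite field with q elements, N ≥ 1, χ_0, …, χ_N multiplicative characters of F with values in a domain, not all trivial and with product 1, and Ψ a nontrivial additive character. Put τ(χ, Ψ) = -Σ_{x} Ψ(x) χ⁻¹(x) and J(χ) = (-1)^{N-1} Σ χ_1⁻¹(x_1) ⋯ χ_N⁻¹(x_N), the sum over x_1, …, x_N in F^* with x_1 + ⋯ + x_N = -1. Then q · J(χ) = τ(χ_0, Ψ) ⋯ τ(χ_N, Ψ). -/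
theorem result (F : Type) [Field F] [Fintype F] [DecidableEq F] (R : Type) [CommRing R] [IsDomain R]
    (N : ℕ) (hN : 1 ≤ N) (χ : Fin (N + 1) → MulChar F R) (hprod : ∏ i, χ i = 1) (hnt : ∃ i, χ i ≠ 1)
    (Ψ : AddChar F R) (hΨ : Ψ ≠ 1) :
    (Fintype.card F : R) * ((-1) ^ (N - 1) *
        ∑ x ∈ (Finset.univ : Finset (Fin N → Fˣ)).filter (fun x => ∑ i, ((x i : Fˣ) : F) = -1),
          ∏ i : Fin N, (χ i.succ)⁻¹ ((x i : Fˣ) : F)) =
      ∏ i : Fin (N + 1), (-(∑ y : F, Ψ y * (χ i)⁻¹ y)) := by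
  classical
  -- each Gauss sum as a sum over units
  have hg : ∀ i, ∑ y : F, Ψ y * (χ i)⁻¹ y = ∑ y : Fˣ, Ψ (y : F) * (χ i)⁻¹ (y : F) := by
    intro i
    rw [aux_sum_units F R (fun y => Ψ y * (χ i)⁻¹ y)]
    simp [MulChar.map_zero]
  -- the product of the values
  have hprod' : ∀ y : Fˣ, ∏ i, (χ i)⁻¹ (y : F) = 1 := by
    intro y
    have h1 : ∏ i, (χ i)⁻¹ (y : F) = (∏ i, χ i) ((y⁻¹ : Fˣ) : F) := by
      rw [aux_prod_apply]
      refine Finset.prod_congr rfl fun i _ => ?_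
      rw [MulChar.inv_apply', Units.val_inv_eq_inv_val]
    rw [h1, hprod]
    exact MulChar.one_apply_coe _
  have hsplit : ∀ y : Fˣ, (χ 0)⁻¹ (y : F) * ∏ i : Fin N, (χ i.succ)⁻¹ (y : F) = 1 := by
    intro y
    rw [← hprod' y, Fin.prod_univ_succ]
  -- there is a nontrivial character among the last ones
  have hnt' : ∃ i : Fin N, χ i.succ ≠ 1 := by
    by_contra hcon
    push Not at hcon
    obtain ⟨i, hi⟩ := hnt
    refine hi ?_
    rw [Fin.prod_univ_succ] at hprod
    simp only [hcon, Finset.prod_const_one, mul_one] at hprod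
    refine Fin.cases hprod (fun j => hcon j) i
  have hzero : ∏ i : Fin N, (∑ y : Fˣ, (χ i.succ)⁻¹ (y : F)) = 0 := by
    obtain ⟨i, hi⟩ := hnt'
    refine Finset.prod_eq_zero (Finset.mem_univ i) ?_
    have h2 : (χ i.succ)⁻¹ ≠ 1 := by
      intro h
      exact hi (inv_eq_one.mp h)
    have h3 := MulChar.sum_eq_zero_of_ne_one h2
    rw [aux_sum_units F R (fun y => (χ i.succ)⁻¹ y)] at h3
    rw [MulChar.map_zero, zero_add] at h3
    exact h3
  -- main computation
  have hmain : ∏ i : Fin (N + 1), (∑ y : F, Ψ y * (χ i)⁻¹ y) =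
      (Fintype.card F : R) * ∑ x ∈ (Finset.univ : Finset (Fin N → Fˣ)).filter
        (fun x => ∑ i, ((x i : Fˣ) : F) = -1), ∏ i : Fin N, (χ i.succ)⁻¹ ((x i : Fˣ) : F) := by
    rw [Fin.prod_univ_succ]
    simp only [hg]
    rw [Finset.prod_univ_sum, Finset.sum_mul]
    simp only [Fintype.piFinset_univ]
    -- substitution
    have hsub : ∀ y : Fˣ, (Ψ (y : F) * (χ 0)⁻¹ (y : F)) *
        ∑ x : Fin N → Fˣ, ∏ i : Fin N, (Ψ ((x i : Fˣ) : F) * (χ i.succ)⁻¹ ((x i : Fˣ) : F)) =
        ∑ x : Fin N → Fˣ, Ψ ((y : F) * (1 + ∑ i, ((x i : Fˣ) : F))) *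
          ∏ i : Fin N, (χ i.succ)⁻¹ ((x i : Fˣ) : F) := by
      intro y
      rw [← Equiv.sum_comp (Equiv.piCongrRight (fun _ : Fin N => Equiv.mulLeft y))
        (fun x : Fin N → Fˣ => ∏ i : Fin N, (Ψ ((x i : Fˣ) : F) * (χ i.succ)⁻¹ ((x i : Fˣ) : F)))]
      rw [Finset.mul_sum]
      refine Finset.sum_congr rfl fun x _ => ?_
      simp only [Equiv.piCongrRight_apply, Pi.map_apply, Equiv.coe_mulLeft, Units.val_mul, map_mul,
        Finset.prod_mul_distrib]
      rw [mul_add, mul_one, AddChar.map_add_eq_mul, Finset.mul_sum, aux_addchar_sum]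
      have := hsplit y
      calc _ = (Ψ (y : F) * ∏ i, Ψ ((y : F) * (x i : F))) * (∏ i, (χ i.succ)⁻¹ ((x i : Fˣ) : F)) *
            ((χ 0)⁻¹ (y : F) * ∏ i : Fin N, (χ i.succ)⁻¹ (y : F)) := by ring
        _ = _ := by rw [this, mul_one]
    simp only [hsub]
    rw [Finset.sum_comm]
    simp only [← Finset.sum_mul]
    have hadd : ∀ x : Fin N → Fˣ, ∑ y : Fˣ, Ψ ((y : F) * (1 + ∑ i, ((x i : Fˣ) : F))) =
        (if ∑ i, ((x i : Fˣ) : F) = -1 then (Fintype.card F : R) else 0) - 1 := by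
      intro x
      rw [aux_units_addchar F R Ψ hΨ]
      congr 1
      refine if_congr ?_ rfl rfl
      constructor
      · intro h
        rw [eq_neg_iff_add_eq_zero, add_comm]
        exact h
      · intro h
        rw [h]
        ring
    simp only [hadd, sub_mul, one_mul, Finset.sum_sub_distrib]
    have hz : ∑ x : Fin N → Fˣ, ∏ i : Fin N, (χ i.succ)⁻¹ ((x i : Fˣ) : F) = 0 := by
      rw [← hzero, Finset.prod_univ_sum]
      simp only [Fintype.piFinset_univ]
    rw [hz, sub_zero, Finset.mul_sum, Finset.sum_filter]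
    refine Finset.sum_congr rfl fun x _ => ?_
    split_ifs <;> simp
  rw [Finset.prod_neg, hmain, Finset.card_univ, Fintype.card_fin]
  obtain ⟨M, rfl⟩ : ∃ M, N = M + 1 := ⟨N - 1, by omega⟩
  simp only [Nat.add_sub_cancel, pow_succ]
  ring

end Groth.Agent.S3129
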