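import Groth.Statements.S3133
-- import your own Groth.Agent.* helpers here

set_option autoImplicit false
open Polynomial
open SGA4h

namespace Groth.Agent.S3133


section helpers

open Matrix Kronecker

/-- removing the zeroth block -/
def blockEquiv (k : ℕ) (m : Type) : m ⊕ (Fin k × m) ≃ Fin (k + 1) × m where
  toFun := Sum.elim (fun a => (0, a)) (fun p => (p.1.succ, p.2))
  invFun := fun p => Fin.cases (motive := fun _ => m ⊕ (Fin k × m)) (Sum.inl p.2) (fun i => Sum.inr (i, p.2)) p.1
  left_inv := by rintro (a | ⟨i, a⟩) <;> rfl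
  right_inv := by
    rintro ⟨i, a⟩
    refine Fin.cases ?_ (fun i => ?_) i <;> rfl

/-- lower unitriangular matrix of powers of `X` -/
noncomputable def lowL (R : Type) [CommRing R] (k : ℕ) : Matrix (Fin (k + 1)) (Fin (k + 1)) R[X] :=
  Matrix.of fun p q => if q ≤ p then X ^ (p.val - q.val) else 0

theorem det_lowL (R : Type) [CommRing R] (k : ℕ) : (lowL R k).det = 1 := by
  rw [Matrix.det_of_isLowerTriangular]
  · simp [lowL]
  · intro i j hij
    simp only [lowL, Matrix.of_apply]
    rw [if_neg]
    simpa using hij

/-- the cyclic matrix -/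
def cyc {R : Type} [CommRing R] {m : Type} [DecidableEq m] (A : Matrix m m R) (k : ℕ) :
    Matrix (Fin (k + 1) × m) (Fin (k + 1) × m) R :=
  Matrix.of fun p q =>
        if p.1.val = 0 then (if q.1.val = k then A p.2 q.2 else 0)
        else (if q.1.val + 1 = p.1.val ∧ p.2 = q.2 then 1 else 0)

theorem cyc_mul {R : Type} [CommRing R] {m : Type} [Fintype m] [DecidableEq m] (A : Matrix m m R) (k : ℕ) 
    (p r : Fin (k + 1) × m) :
    ((cyc A k).map C * (lowL R k ⊗ₖ (1 : Matrix m m R[X]))) p r =
      if p.1.val = 0 then C (A p.2 r.2) * X ^ (k - r.1.val) else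
        (if r.1.val + 1 ≤ p.1.val ∧ p.2 = r.2 then X ^ (p.1.val - 1 - r.1.val) else 0) := by
  obtain ⟨p, a⟩ := p
  obtain ⟨r, b⟩ := r
  rw [Matrix.mul_apply, Fintype.sum_prod_type]
  by_cases hp : p.val = 0
  · simp only [cyc, hp, Matrix.map_apply, Matrix.of_apply, if_true]
    rw [Finset.sum_eq_single (Fin.last k)]
    · rw [Finset.sum_eq_single b]
      · simp [lowL, Matrix.kroneckerMap_apply, Fin.le_last]
      · intro c _ hc
        simp [Matrix.kroneckerMap_apply, Matrix.one_apply_ne hc]
      · simp
    · intro q _ hq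
      refine Finset.sum_eq_zero fun c _ => ?_
      have : q.val ≠ k := fun h => hq (Fin.ext (by simpa using h))
      simp [this]
    · simp
  · simp only [cyc, hp, Matrix.map_apply, Matrix.of_apply, if_false]
    have hlt : p.val - 1 < k + 1 := by omega
    rw [Finset.sum_eq_single (⟨p.val - 1, hlt⟩ : Fin (k + 1))]
    · rw [Finset.sum_eq_single a]
      · have h1 : p.val - 1 + 1 = p.val := by omega
        simp only [h1, and_self, if_true, map_one, one_mul, Matrix.kroneckerMap_apply, lowL,
          Matrix.of_apply]
        by_cases hab : a = b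
        · subst hab
          by_cases hr : r.val + 1 ≤ p.val
          · have : r ≤ (⟨p.val - 1, hlt⟩ : Fin (k + 1)) := by
              rw [Fin.le_def]; simp; omega
            simp [hr, this]
          · have : ¬ r ≤ (⟨p.val - 1, hlt⟩ : Fin (k + 1)) := by
              rw [Fin.le_def]; simp; omega
            simp [hr, this]
        · simp [hab]
      · intro c _ hc
        simp [Ne.symm hc]
      · simp
    · intro q _ hq
      refine Finset.sum_eq_zero fun c _ => ?_
      have : q.val + 1 ≠ p.val := fun h => hq (Fin.ext (by simp; omega))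
      simp [this]
    · simp

theorem aux {R : Type} [CommRing R] {m : Type} [Fintype m] [DecidableEq m] (A : Matrix m m R) (k : ℕ) :
    (cyc A k).charpolyRev = Polynomial.expand R (k + 1) A.charpolyRev := by
  have h1 : (cyc A k).charpolyRev =
      ((1 - (X : R[X]) • (cyc A k).map C) * (lowL R k ⊗ₖ (1 : Matrix m m R[X]))).det := by
    rw [Matrix.det_mul, Matrix.det_kronecker, det_lowL, Matrix.det_one]
    simp [Matrix.charpolyRev]
  have h2 : ((1 - (X : R[X]) • (cyc A k).map C) * (lowL R k ⊗ₖ (1 : Matrix m m R[X]))).submatrix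
      (blockEquiv k m) (blockEquiv k m) = 
      Matrix.fromBlocks (1 - (X ^ (k + 1) : R[X]) • A.map C)
        (Matrix.of fun a (r : Fin k × m) => - (X * (C (A a r.2) * X ^ (k - (r.1.val + 1))))) 0 1 := by
    ext1 p r
    rw [Matrix.submatrix_apply, sub_mul, one_mul, Matrix.smul_mul, Matrix.sub_apply,
      Matrix.smul_apply, cyc_mul]
    rcases p with a | ⟨p, a⟩ <;> rcases r with b | ⟨r, b⟩
    · simp [blockEquiv, lowL, Matrix.kroneckerMap_apply, pow_succ]
      ring
    · simp [blockEquiv, lowL, Matrix.kroneckerMap_apply]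
    · simp only [blockEquiv, lowL, Matrix.kroneckerMap_apply, Equiv.coe_fn_mk, Sum.elim_inl,
        Sum.elim_inr, Matrix.fromBlocks_apply₂₁, Matrix.of_apply, Matrix.zero_apply]
      by_cases hab : a = b
      · subst hab
        simp [pow_succ']
      · simp [hab]
    · simp only [blockEquiv, lowL, Matrix.kroneckerMap_apply, Equiv.coe_fn_mk, Sum.elim_inl,
        Sum.elim_inr, Matrix.fromBlocks_apply₂₂, Matrix.of_apply]
      by_cases hab : a = b
      · subst hab
        by_cases hpr : p = r
        · subst hpr
          simp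
        · by_cases hlt : r < p
          · have h3 : r.val + 1 ≤ p.val := hlt
            have h4 : r.val ≤ p.val := by omega
            have h5 : p.val - r.val = p.val - (r.val + 1) + 1 := by omega
            have h6 : (p, a) ≠ (r, a) := by simpa using hpr
            have h7 : r ≤ p := h4
            simp [h3, h7, h5, h6, pow_succ', Matrix.one_apply_ne]
          · have h3 : ¬ (r.val + 1 ≤ p.val) := hlt
            have h4 : ¬ (r.val ≤ p.val) := by
              intro h; apply hpr; ext; omega
            have h6 : (p, a) ≠ (r, a) := by simpa using hpr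
            have h7 : ¬ r ≤ p := h4
            simp [h3, h7, h6, Matrix.one_apply_ne]
      · have h6 : (p, a) ≠ (r, b) := by simp [hab]
        simp [hab, h6, Matrix.one_apply_ne]
  rw [h1, ← Matrix.det_submatrix_equiv_self (blockEquiv k m), h2, Matrix.det_fromBlocks_zero₂₁,
    Matrix.det_one, mul_one, Matrix.charpolyRev]
  have := (RingHom.map_det ((Polynomial.expand R (k + 1) : R[X] →ₐ[R] R[X]) : R[X] →+* R[X])
    (1 - (X : R[X]) • A.map C)).symm
  refine Eq.trans ?_ this
  congr 1
  ext1 i j
  by_cases h : i = j
  · subst h; simp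
  · simp [Matrix.one_apply_ne h]

end helpers

/-- SGA 4½ [Rapport] Corollaire 3.4 (matrix form): let A be a square matrix over a commutative ring and n ≥ 1, and let B be the matrix on n blocks of the endomorphism (x_1, …, x_n) ↦ (A x_n, x_1, …, x_{n-1}). Then det(1 − B·T) = det(1 − A·Tⁿ), i.e. the reverse characteristic polynomial of B is that of A expanded by n. -/
theorem result (R : Type) [CommRing R] (m : Type) [Fintype m] [DecidableEq m]
    (A : Matrix m m R) (n : ℕ) (hn : 1 ≤ n) :
    (Matrix.of fun (p q : Fin n × m) =>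
        if p.1.val = 0 then (if q.1.val = n - 1 then A p.2 q.2 else 0)
        else (if q.1.val + 1 = p.1.val ∧ p.2 = q.2 then 1 else 0)).charpolyRev =
      Polynomial.expand R n A.charpolyRev := by
  obtain ⟨k, rfl⟩ : ∃ k, n = k + 1 := ⟨n - 1, by omega⟩
  exact aux A k

end Groth.Agent.S3133
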