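import Groth.Statements.S3134
-- import your own Groth.Agent.* helpers here

set_option autoImplicit false
open Polynomial
open SGA4h

namespace Groth.Agent.S3134


open Matrix in
/-- derivative of a determinant -/
theorem derivative_det {R : Type*} [CommRing R] {m : Type*} [Fintype m] [DecidableEq m]
    (M : Matrix m m R[X]) :
    derivative M.det = (M.adjugate * M.map derivative).trace := by
  have h1 : derivative M.det = ∑ j, (M.updateCol j (fun i => derivative (M i j))).det := by
    simp only [Matrix.det_apply, derivative_sum]
    rw [Finset.sum_comm]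
    refine Finset.sum_congr rfl fun σ _ => ?_
    have : derivative (Equiv.Perm.sign σ • ∏ i, M (σ i) i) =
        Equiv.Perm.sign σ • derivative (∏ i, M (σ i) i) := by
      rcases Int.units_eq_one_or (Equiv.Perm.sign σ) with h | h <;> simp [h]
    rw [this, Polynomial.derivative_prod_finset, Finset.smul_sum]
    refine Finset.sum_congr rfl fun j _ => ?_
    congr 1
    rw [← Finset.mul_prod_erase Finset.univ _ (Finset.mem_univ j), mul_comm]
    congr 1
    · simp
    · refine Finset.prod_congr rfl fun i hi => ?_
      rw [Matrix.updateCol_ne (Finset.ne_of_mem_erase hi)]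
  rw [h1, Matrix.trace]
  refine Finset.sum_congr rfl fun j _ => ?_
  rw [← Matrix.cramer_apply, Matrix.cramer_eq_adjugate_mulVec]
  rfl

/-- SGA 4½ [Rapport] Proposition 3.3 (matrix form, cleared of denominators): for a square matrix A over a commutative ring, with P(T) = det(1 − A·T), one has −T·P′(T) = P(T) · Σ_{n ≥ 1} Tr(Aⁿ) Tⁿ as formal power series (equivalently T d/dT log P(T)⁻¹ = Σ_{n≥1} Tr(Aⁿ) Tⁿ). -/
theorem result (R : Type) [CommRing R] (m : Type) [Fintype m] [DecidableEq m]
    (A : Matrix m m R) :
    ((-(X * Polynomial.derivative A.charpolyRev) : R[X]) : PowerSeries R) =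
      (A.charpolyRev : PowerSeries R) * PowerSeries.mk (fun n => if n = 0 then 0 else (A ^ n).trace) := by
  let φ : R[X] →+* PowerSeries R := Polynomial.coeToPowerSeries.ringHom
  have hφX : φ X = PowerSeries.X := Polynomial.coe_X
  have hφC : ∀ r : R, φ (C r) = PowerSeries.C r := fun r => Polynomial.coe_C r
  set M : Matrix m m R[X] := 1 - (X : R[X]) • A.map C with hM
  have hP : A.charpolyRev = M.det := rfl
  have hM' : M.map derivative = - A.map C := by
    ext i j
    simp only [hM, Matrix.map_apply, Matrix.sub_apply, Matrix.smul_apply, Matrix.neg_apply,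
      smul_eq_mul, derivative_sub, derivative_mul, derivative_X, one_mul, derivative_C, mul_zero,
      add_zero]
    by_cases h : i = j
    · subst h; simp
    · simp [Matrix.one_apply_ne h]
  let G : Matrix m m (PowerSeries R) := Matrix.of fun i j => PowerSeries.mk fun n => (A ^ n) i j
  let B : Matrix m m (PowerSeries R) := A.map (PowerSeries.C)
  have hN : M.map φ = 1 - (PowerSeries.X : PowerSeries R) • B := by
    ext1 i j
    simp only [hM, Matrix.map_apply, Matrix.sub_apply, Matrix.smul_apply, smul_eq_mul, map_sub,
      map_mul, hφX, hφC, B]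
    by_cases h : i = j
    · subst h; simp
    · simp [Matrix.one_apply_ne h]
  have hG : G - 1 = (PowerSeries.X : PowerSeries R) • (B * G) := by
    ext i j n
    cases n with
    | zero =>
      by_cases h : i = j
      · subst h
        simp [G, Matrix.sub_apply]
      · simp [G, Matrix.sub_apply, Matrix.one_apply_ne h]
    | succ n =>
      have h0 : (PowerSeries.coeff (n + 1)) ((1 : Matrix m m (PowerSeries R)) i j) = 0 := by
        by_cases h : i = j
        · subst h; simp [PowerSeries.coeff_one]
        · simp [Matrix.one_apply_ne h]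
      simp only [Matrix.sub_apply, map_sub, h0, sub_zero, Matrix.smul_apply, smul_eq_mul,
        PowerSeries.coeff_succ_X_mul, Matrix.mul_apply, map_sum, B, Matrix.map_apply,
        PowerSeries.coeff_C_mul, G, Matrix.of_apply, PowerSeries.coeff_mk, pow_succ' A n]
  have hNG : (M.map φ) * G = 1 := by
    rw [hN, sub_mul, one_mul, Matrix.smul_mul, ← hG, sub_sub_cancel]
  have hGN : G * (M.map φ) = 1 := by
    rwa [mul_eq_one_comm] at hNG
  have hG2 : G - 1 = (PowerSeries.X : PowerSeries R) • (G * B) := by
    have h3 := hGN
    rw [hN, mul_sub, mul_one, Matrix.mul_smul] at h3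
    rw [sub_eq_iff_eq_add] at h3 ⊢
    rw [add_comm]
    exact h3
  have hadj : (M.map φ).adjugate = (M.map φ).det • G := by
    calc (M.map φ).adjugate = (M.map φ).adjugate * ((M.map φ) * G) := by rw [hNG, mul_one]
      _ = (M.map φ).det • G := by
        rw [← mul_assoc, Matrix.adjugate_mul, Matrix.smul_mul, one_mul]
  have hdet : (M.map φ).det = φ M.det := (RingHom.map_det φ M).symm
  change φ (-(X * derivative A.charpolyRev)) = φ A.charpolyRev * _
  rw [hP, derivative_det, hM', Matrix.mul_neg, Matrix.trace_neg, mul_neg, neg_neg, map_mul, hφX]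
  have h5 : φ ((M.adjugate * A.map C).trace) = ((M.map φ).adjugate * B).trace := by
    refine (AddMonoidHom.map_trace φ.toAddMonoidHom (M.adjugate * A.map C)).trans ?_
    congr 1
    change (M.adjugate * A.map C).map φ = _
    rw [Matrix.map_mul, Matrix.map_map]
    congr 1
    · exact (RingHom.map_adjugate φ M)
    · ext1 i j
      simp [B, hφC]
  rw [h5, hadj, hdet, Matrix.smul_mul, Matrix.trace_smul, smul_eq_mul, mul_left_comm,
    ← smul_eq_mul (a := (PowerSeries.X : PowerSeries R)), ← Matrix.trace_smul, ← hG2]
  congr 1
  ext n
  simp only [Matrix.trace, Matrix.diag, Matrix.sub_apply, Matrix.one_apply_eq, map_sum, map_sub,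
    PowerSeries.coeff_mk, G, Matrix.of_apply]
  cases n with
  | zero => simp
  | succ n => simp [PowerSeries.coeff_one]

end Groth.Agent.S3134
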