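import Groth.Statements.S3139
import Groth.Agent.Sga4h.DetComplex
import Mathlib.Algebra.Homology.DerivedCategory.KProjective
import Mathlib.Algebra.Category.ModuleCat.Projective
import Mathlib.RingTheory.Finiteness.Prod
import Mathlib.RingTheory.TensorProduct.Finite
import Mathlib.RingTheory.TensorProduct.Free
import Mathlib.LinearAlgebra.Basis.Prod

set_option autoImplicit false
universe u
open CategoryTheory
attribute [local instance] HasDerivedCategory.standard
open SGA4h

namespace Groth.Agent.S3139

open CochainComplex CochainComplex.HomComplex Polynomial TensorProduct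

section

variable {A : Type u} [CommRing A] {K K' : CochainComplex (ModuleCat.{u} A) ℤ}

section

variable (f : K ⟶ K') (i : ℤ)

theorem h1 (x : K.X (i + 1)) : ((mappingCone.fst f).1.v i (i + 1) rfl).hom
    (((mappingCone.inl f).v (i + 1) i (by omega)).hom x) = x :=
  LinearMap.congr_fun congr($(mappingCone.inl_v_fst_v f (i + 1) i rfl).hom) x

theorem h2 (x : K.X (i + 1)) : ((mappingCone.snd f).v i i (add_zero i)).hom
    (((mappingCone.inl f).v (i + 1) i (by omega)).hom x) = 0 :=
  LinearMap.congr_fun congr($(mappingCone.inl_v_snd_v f (i + 1) i (by omega)).hom) x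

theorem h3 (x : K'.X i) : ((mappingCone.fst f).1.v i (i + 1) rfl).hom
    (((mappingCone.inr f).f i).hom x) = 0 :=
  LinearMap.congr_fun congr($(mappingCone.inr_f_fst_v f i (i + 1) rfl).hom) x

theorem h4 (x : K'.X i) : ((mappingCone.snd f).v i i (add_zero i)).hom
    (((mappingCone.inr f).f i).hom x) = x :=
  LinearMap.congr_fun congr($(mappingCone.inr_f_snd_v f i).hom) x

theorem h5 (x : (mappingCone f).X i) :
    ((mappingCone.inl f).v (i + 1) i (by omega)).hom (((mappingCone.fst f).1.v i (i + 1) rfl).hom x) +
    (((mappingCone.inr f).f i).hom (((mappingCone.snd f).v i i (add_zero i)).hom x)) = x :=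
  LinearMap.congr_fun congr($(mappingCone.id_X f i (i + 1) rfl).hom) x

/-- The decomposition of the terms of the mapping cone. -/
noncomputable def coneEquiv :
    (mappingCone f).X i ≃ₗ[A] K.X (i + 1) × K'.X i :=
  LinearEquiv.ofLinearMap
    (LinearMap.prod ((mappingCone.fst f).1.v i (i + 1) rfl).hom ((mappingCone.snd f).v i i (add_zero i)).hom)
    (LinearMap.coprod ((mappingCone.inl f).v (i + 1) i (by omega)).hom ((mappingCone.inr f).f i).hom)
    (by
      apply LinearMap.prod_ext
      · ext x
        · simp only [LinearMap.coe_comp, Function.comp_apply, LinearMap.coprod_apply,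
            LinearMap.inl_apply, map_zero, add_zero, LinearMap.prod_apply,
            LinearMap.id_coe, id_eq]
          exact h1 f i x
        · simp only [LinearMap.coe_comp, Function.comp_apply, LinearMap.coprod_apply,
            LinearMap.inl_apply, map_zero, add_zero, LinearMap.prod_apply,
            LinearMap.id_coe, id_eq]
          exact h2 f i x
      · ext x
        · simp only [LinearMap.coe_comp, Function.comp_apply, LinearMap.coprod_apply,
            LinearMap.inr_apply, map_zero, zero_add, LinearMap.prod_apply,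
            LinearMap.id_coe, id_eq]
          exact h3 f i x
        · simp only [LinearMap.coe_comp, Function.comp_apply, LinearMap.coprod_apply,
            LinearMap.inr_apply, map_zero, zero_add, LinearMap.prod_apply,
            LinearMap.id_coe, id_eq]
          exact h4 f i x)
    (by
      ext x
      exact h5 f i x)

/-- The block decomposition of the determinant on the mapping cone. -/
theorem detOneSub_cone (hK : ∀ i : ℤ, Module.Finite A (K.X i) ∧ Module.Free A (K.X i))
    (hK' : ∀ i : ℤ, Module.Finite A (K'.X i) ∧ Module.Free A (K'.X i))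
    (u : K ⟶ K) (u' : K' ⟶ K') (H : Homotopy (f ≫ u') (u ≫ f)) :
    detOneSub ((mappingCone f).X i) ((mappingCone.mapOfHomotopy H).f i) =
      detOneSub (K.X (i + 1)) (u.f (i + 1)) * detOneSub (K'.X i) (u'.f i) := by
  have := fun i => (hK i).1
  have := fun i => (hK i).2
  have := fun i => (hK' i).1
  have := fun i => (hK' i).2
  have : Module.Finite A ((mappingCone f).X i) := Module.Finite.equiv (coneEquiv f i).symm
  have : Module.Free A ((mappingCone f).X i) := Module.Free.of_equiv (coneEquiv f i).symm
  have e1 : (mappingCone.inr f).f i ≫ (mappingCone.mapOfHomotopy H).f i =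
      u'.f i ≫ (mappingCone.inr f).f i := by
    simp [mappingCone.mapOfHomotopy]
  have e2 : (mappingCone.inl f).v (i + 1) i (by omega) ≫ (mappingCone.mapOfHomotopy H).f i ≫
      (mappingCone.fst f).1.v i (i + 1) rfl = u.f (i + 1) := by
    simp [mappingCone.mapOfHomotopy]
  have e1' := fun x => LinearMap.congr_fun congr(($e1).hom) x
  have e2' := fun x => LinearMap.congr_fun congr(($e2).hom) x
  simp only [ModuleCat.hom_comp, LinearMap.coe_comp, Function.comp_apply] at e1' e2'
  rw [mul_comm]
  exact Sga4h.DetComplex.det_one_sub_block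
    ((mappingCone.inr f).f i).hom
    ((mappingCone.snd f).v i i (add_zero i)).hom
    ((mappingCone.inl f).v (i + 1) i (by omega)).hom
    ((mappingCone.fst f).1.v i (i + 1) rfl).hom
    (h4 f i) (h1 f i) (h3 f i) (h2 f i) (fun x => (add_comm _ _).trans (h5 f i x)) _ _ _ e1' e2'

end

end

theorem exists_data {A : Type u} [CommRing A]
    (K K' : CochainComplex (ModuleCat.{u} A) ℤ) [K.IsKProjective] [K'.IsKProjective]
    (u : K ⟶ K) (u' : K' ⟶ K') (φ : DerivedCategory.Q.obj K ≅ DerivedCategory.Q.obj K')
    (hφ : DerivedCategory.Q.map u ≫ φ.hom = φ.hom ≫ DerivedCategory.Q.map u') :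
    ∃ (f : K ⟶ K') (_ : Homotopy (f ≫ u') (u ≫ f)), Nonempty (Homotopy (𝟙 (mappingCone f)) 0) := by
  obtain ⟨g, hg⟩ := (IsKProjective.Qh_map_bijective K ((HomotopyCategory.quotient _ _).obj K')).surjective
    ((DerivedCategory.quotientCompQhIso _).hom.app K ≫ φ.hom ≫
      (DerivedCategory.quotientCompQhIso _).inv.app K')
  obtain ⟨f, rfl⟩ := (HomotopyCategory.quotient _ _).map_surjective g
  have hf : DerivedCategory.Q.map f = φ.hom := by
    have := (DerivedCategory.quotientCompQhIso (ModuleCat.{u} A)).inv.naturality f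
    rw [← cancel_mono ((DerivedCategory.quotientCompQhIso _).inv.app K'), this]
    dsimp
    rw [hg]
    simp
  have hqi : QuasiIso f := by
    rw [← DerivedCategory.isIso_Q_map_iff_quasiIso, hf]
    infer_instance
  have hhe := (IsKProjective.quasiIso_iff f).1 hqi
  have hiso : IsIso ((HomotopyCategory.quotient _ _).map f) := by
    rwa [← HomotopyCategory.inverseImage_quotient_isomorphisms,
      MorphismProperty.inverseImage_iff, MorphismProperty.isomorphisms.iff] at hhe
  have hcomm : (HomotopyCategory.quotient _ _).map (f ≫ u') = (HomotopyCategory.quotient _ _).map (u ≫ f) := by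
    apply (IsKProjective.Qh_map_bijective K ((HomotopyCategory.quotient _ _).obj K')).injective
    have e : DerivedCategory.Q.map (f ≫ u') = DerivedCategory.Q.map (u ≫ f) := by
      rw [Functor.map_comp, Functor.map_comp, hf, hφ]
    have n1 := (DerivedCategory.quotientCompQhIso (ModuleCat.{u} A)).inv.naturality (f ≫ u')
    have n2 := (DerivedCategory.quotientCompQhIso (ModuleCat.{u} A)).inv.naturality (u ≫ f)
    rw [e, n2] at n1
    exact ((cancel_epi _).1 n1).symm
  refine ⟨f, HomotopyCategory.homotopyOfEq _ _ hcomm, ?_⟩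
  have hz : Limits.IsZero ((HomotopyCategory.quotient _ (ComplexShape.up ℤ)).obj (mappingCone f)) :=
    Pretriangulated.Triangle.isZero₃_of_isIso₁ (mappingCone.triangleh f)
      (HomotopyCategory.mappingCone_triangleh_distinguished f) hiso
  exact ⟨HomotopyCategory.homotopyOfEq _ _ (by
    exact hz.eq_of_src _ _)⟩

/-- SGA 4½ [Fonctions L mod ℓ^n], Corollaire 1.13: let A be a commutative ring, K and K' bounded cochain complexes of finite free A-modules with endomorphisms u and u', and suppose (K, u) and (K', u') are isomorphic in the derived category D(A): there is an isomorphism K ≅ K' in D(A) intertwining the images of u and u'. Then det(1 - u t, K) = det(1 - u' t, K'), where det(1 - u t, K) = ∏ᵢ det(1 - u t, Kⁱ)^{(-1)^i}; the equality is stated cross-multiplied, as ∏_{i even} det(1 - u t, Kⁱ) · ∏_{i odd} det(1 - u' t, K'ⁱ) = ∏_{i odd} det(1 - u t, Kⁱ) · ∏_{i even} det(1 - u' t, K'ⁱ) in A[t]. (The source works with finite projective modules; finite free is the special case stated here.) -/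
theorem result (A : Type u) [CommRing A]
    (K K' : CochainComplex (ModuleCat.{u} A) ℤ) (a b : ℤ) [K.IsStrictlyGE a] [K.IsStrictlyLE b] [K'.IsStrictlyGE a] [K'.IsStrictlyLE b]
    (hK : ∀ i : ℤ, Module.Finite A (K.X i) ∧ Module.Free A (K.X i)) (hK' : ∀ i : ℤ, Module.Finite A (K'.X i) ∧ Module.Free A (K'.X i))
    (u : K ⟶ K) (u' : K' ⟶ K') (φ : DerivedCategory.Q.obj K ≅ DerivedCategory.Q.obj K')
    (hφ : DerivedCategory.Q.map u ≫ φ.hom = φ.hom ≫ DerivedCategory.Q.map u') :
    SGA4h.detEven K u * SGA4h.detOdd K' u' = SGA4h.detOdd K u * SGA4h.detEven K' u' := by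
  have hf1 := fun i => (hK i).1
  have hf2 := fun i => (hK i).2
  have hf3 := fun i => (hK' i).1
  have hf4 := fun i => (hK' i).2
  have : ∀ n, Projective (K.X n) := fun n => ModuleCat.projective_of_free (Module.Free.chooseBasis A (K.X n))
  have : ∀ n, Projective (K'.X n) := fun n => ModuleCat.projective_of_free (Module.Free.chooseBasis A (K'.X n))
  have : K.IsKProjective := isKProjective_of_projective K b
  have : K'.IsKProjective := isKProjective_of_projective K' b
  obtain ⟨f, H, ⟨h⟩⟩ := exists_data K K' u u' φ hφ
  have hfin : ∀ i, Module.Finite A ((mappingCone f).X i) := fun i =>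
    Module.Finite.equiv (coneEquiv f i).symm
  have hfree : ∀ i, Module.Free A ((mappingCone f).X i) := fun i =>
    Module.Free.of_equiv (coneEquiv f i).symm
  have hsubK : ∀ i, i < a ∨ b < i → Subsingleton (K.X i) := fun i hi => by
    rcases hi with hi | hi
    · exact ModuleCat.subsingleton_of_isZero (K.isZero_of_isStrictlyGE a i hi)
    · exact ModuleCat.subsingleton_of_isZero (K.isZero_of_isStrictlyLE b i hi)
  have hsubK' : ∀ i, i < a ∨ b < i → Subsingleton (K'.X i) := fun i hi => by
    rcases hi with hi | hi
    · exact ModuleCat.subsingleton_of_isZero (K'.isZero_of_isStrictlyGE a i hi)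
    · exact ModuleCat.subsingleton_of_isZero (K'.isZero_of_isStrictlyLE b i hi)
  have key := Sga4h.DetComplex.finprod_det_even_eq_odd (R := A[X])
    (M := fun i => A[X] ⊗[A] (mappingCone f).X i)
    (fun i j => ((mappingCone f).d i j).hom.baseChange A[X])
    (fun i j => (h.hom i j).hom.baseChange A[X])
    (fun i => by
      rw [← LinearMap.baseChange_comp, ← ModuleCat.hom_comp, HomologicalComplex.d_comp_d]
      exact LinearMap.baseChange_zero)
    (fun i => by
      have hc := h.comm i
      rw [dNext_eq _ (show (ComplexShape.up ℤ).Rel i (i + 1) from rfl),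
        prevD_eq _ (show (ComplexShape.up ℤ).Rel (i - 1) i by simp)] at hc
      rw [← LinearMap.baseChange_comp, ← LinearMap.baseChange_comp, ← LinearMap.baseChange_add,
        ← ModuleCat.hom_comp, ← ModuleCat.hom_comp, ← ModuleCat.hom_add]
      have : (h.hom i (i - 1) ≫ (mappingCone f).d (i - 1) i +
          (mappingCone f).d i (i + 1) ≫ h.hom (i + 1) i) = 𝟙 _ := by
        rw [add_comm]
        simpa using hc.symm
      rw [this]
      exact LinearMap.baseChange_id)
    (fun i => LinearMap.id - (X : A[X]) • ((mappingCone.mapOfHomotopy H).f i).hom.baseChange A[X])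
    (fun i => by
      rw [LinearMap.sub_comp, LinearMap.comp_sub, LinearMap.id_comp, LinearMap.comp_id,
        LinearMap.smul_comp, LinearMap.comp_smul, ← LinearMap.baseChange_comp,
        ← LinearMap.baseChange_comp, ← ModuleCat.hom_comp, ← ModuleCat.hom_comp,
        HomologicalComplex.Hom.comm])
    (a - 1) b
    (fun i hi => by
      have : Subsingleton (K.X (i + 1)) := hsubK (i + 1) (by omega)
      have : Subsingleton (K'.X i) := hsubK' i (by omega)
      have : Subsingleton ((mappingCone f).X i) := (coneEquiv f i).toEquiv.subsingleton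
      infer_instance)
  have fin1 : ∀ p : ℤ → Prop, (Function.mulSupport fun i : {i : ℤ // p i} =>
      detOneSub (K.X (i.1 + 1)) (u.f (i.1 + 1))).Finite := by
    intro p
    refine Set.Finite.preimage (f := fun i : {i : ℤ // p i} => i.1)
      (s := Function.mulSupport fun i : ℤ => detOneSub (K.X (i + 1)) (u.f (i + 1)))
      Subtype.val_injective.injOn ?_
    refine (Set.finite_Icc (a - 1) b).subset ?_
    intro i hi
    by_contra hcon
    apply hi
    have : Subsingleton (K.X (i + 1)) := hsubK (i + 1) (by
      simp only [Set.mem_Icc, not_and_or, not_le] at hcon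
      omega)
    exact LinearMap.det_eq_one_of_subsingleton _
  have fin2 : ∀ p : ℤ → Prop, (Function.mulSupport fun i : {i : ℤ // p i} =>
      detOneSub (K'.X i.1) (u'.f i.1)).Finite := by
    intro p
    refine Set.Finite.preimage (f := fun i : {i : ℤ // p i} => i.1)
      (s := Function.mulSupport fun i : ℤ => detOneSub (K'.X i) (u'.f i))
      Subtype.val_injective.injOn ?_
    refine (Set.finite_Icc (a - 1) b).subset ?_
    intro i hi
    by_contra hcon
    apply hi
    have : Subsingleton (K'.X i) := hsubK' i (by
      simp only [Set.mem_Icc, not_and_or, not_le] at hcon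
      omega)
    exact LinearMap.det_eq_one_of_subsingleton _
  have key' : ∏ᶠ i : {i : ℤ // Even i}, (detOneSub (K.X (i.1 + 1)) (u.f (i.1 + 1)) *
        detOneSub (K'.X i.1) (u'.f i.1)) =
      ∏ᶠ i : {i : ℤ // Odd i}, (detOneSub (K.X (i.1 + 1)) (u.f (i.1 + 1)) *
        detOneSub (K'.X i.1) (u'.f i.1)) := by
    have e : ∀ i : ℤ, LinearMap.det (LinearMap.id - (X : A[X]) •
        ((mappingCone.mapOfHomotopy H).f i).hom.baseChange A[X]) =
        detOneSub (K.X (i + 1)) (u.f (i + 1)) * detOneSub (K'.X i) (u'.f i) :=
      fun i => detOneSub_cone f i hK hK' u u' H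
    simpa only [e] using key
  rw [finprod_mul_distrib (fin1 _) (fin2 _), finprod_mul_distrib (fin1 _) (fin2 _)] at key'
  have g1 : ∏ᶠ i : {i : ℤ // Even i}, detOneSub (K.X (i.1 + 1)) (u.f (i.1 + 1)) =
      ∏ᶠ i : {i : ℤ // Odd i}, detOneSub (K.X i.1) (u.f i.1) := by
    refine finprod_eq_of_bijective (fun i => ⟨i.1 + 1, i.2.add_one⟩) ⟨?_, ?_⟩ (fun _ => rfl)
    · intro i j h
      simpa [Subtype.ext_iff] using h
    · rintro ⟨j, hj⟩
      exact ⟨⟨j - 1, by simpa using hj.sub_odd odd_one⟩, by simp⟩
  have g2 : ∏ᶠ i : {i : ℤ // Odd i}, detOneSub (K.X (i.1 + 1)) (u.f (i.1 + 1)) =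
      ∏ᶠ i : {i : ℤ // Even i}, detOneSub (K.X i.1) (u.f i.1) := by
    refine finprod_eq_of_bijective (fun i => ⟨i.1 + 1, i.2.add_one⟩) ⟨?_, ?_⟩ (fun _ => rfl)
    · intro i j h
      simpa [Subtype.ext_iff] using h
    · rintro ⟨j, hj⟩
      exact ⟨⟨j - 1, hj.sub_odd odd_one⟩, by simp⟩
  rw [g1, g2] at key'
  exact key'.symm

end Groth.Agent.S3139
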