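import Groth.Statements.S3140
import Mathlib.RingTheory.Nakayama
import Mathlib.Tactic.LinearCombination
-- import your own Groth.Agent.* helpers here

set_option autoImplicit false
universe u
open RingTheory.Sequence
open SGA4h

namespace Groth.Agent.S3140

lemma notMem_of_isRegular_append {A : Type u} [CommRing A] (w : List A) (x : A)
    (h : IsRegular A (w ++ [x])) : x ∉ Ideal.ofList w := by
  intro hx
  have h1 := ((isWeaklyRegular_append_iff A w [x]).mp h.toIsWeaklyRegular).2
  rw [isWeaklyRegular_singleton_iff] at h1
  have h2 : (⊤ : Submodule A A) ≠ Ideal.ofList w • ⊤ := by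
    intro h3
    apply h.top_ne_smul
    rw [Ideal.ofList_append, Submodule.sup_smul, ← h3, top_sup_eq]
  apply h2
  symm
  rw [Ideal.eq_top_iff_one]
  have h4 : x • (Submodule.Quotient.mk (1 : A) : A ⧸ (Ideal.ofList w • ⊤ : Submodule A A)) =
      x • (0 : A ⧸ (Ideal.ofList w • ⊤ : Submodule A A)) := by
    rw [smul_zero, ← Submodule.Quotient.mk_smul, Submodule.Quotient.mk_eq_zero]
    exact Submodule.smul_mem_smul hx trivial
  have h5 := h1 h4
  rwa [Submodule.Quotient.mk_eq_zero] at h5

lemma exchange_last {A : Type u} [CommRing A] (w : List A) (x y a : A)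
    (h : IsRegular A (w ++ [y])) (ha : IsUnit a) (hx : x - a * y ∈ Ideal.ofList w) :
    IsRegular A (w ++ [x]) ∧ Ideal.ofList (w ++ [x]) = Ideal.ofList (w ++ [y]) := by
  have hI : Ideal.ofList (w ++ [x]) = Ideal.ofList (w ++ [y]) := by
    rw [Ideal.ofList_append, Ideal.ofList_append, Ideal.ofList_singleton, Ideal.ofList_singleton]
    apply le_antisymm
    · refine sup_le le_sup_left ?_
      rw [Ideal.span_singleton_le_iff_mem]
      have h1 : x = (x - a * y) + a * y := by ring
      rw [h1]
      exact Ideal.add_mem _ (Ideal.mem_sup_left hx)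
        (Ideal.mem_sup_right (Ideal.mul_mem_left _ _ (Ideal.mem_span_singleton_self y)))
    · refine sup_le le_sup_left ?_
      rw [Ideal.span_singleton_le_iff_mem]
      obtain ⟨b, hb⟩ := ha.exists_left_inv
      have h1 : y = b * x - b * (x - a * y) := by
        linear_combination (-y) * hb
      rw [h1]
      exact Ideal.sub_mem _
        (Ideal.mem_sup_right (Ideal.mul_mem_left _ _ (Ideal.mem_span_singleton_self x)))
        (Ideal.mem_sup_left (Ideal.mul_mem_left _ _ hx))
  refine ⟨⟨?_, ?_⟩, hI⟩
  · have h0 := h.toIsWeaklyRegular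
    rw [isWeaklyRegular_append_iff, isWeaklyRegular_singleton_iff] at h0 ⊢
    refine ⟨h0.1, ?_⟩
    have h1 := h0.2
    intro z z' hzz
    apply h1
    obtain ⟨b, hb⟩ := ha.exists_left_inv
    have key : ∀ z : A ⧸ (Ideal.ofList w • ⊤ : Submodule A A), y • z = b • (x • z) := by
      intro z
      obtain ⟨z, rfl⟩ := Submodule.Quotient.mk_surjective _ z
      rw [← Submodule.Quotient.mk_smul, ← Submodule.Quotient.mk_smul, ← Submodule.Quotient.mk_smul,
        Submodule.Quotient.eq]
      have h3 : y • z - b • x • z = (x - a * y) • ((-b) * z) := by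
        simp only [smul_eq_mul]
        linear_combination (-y * z) * hb
      rw [h3]
      exact Submodule.smul_mem_smul hx trivial
    change y • z = y • z'
    rw [key z, key z']
    change x • z = x • z' at hzz
    rw [hzz]
  · have h0 := h.top_ne_smul
    rwa [← hI] at h0

lemma split_or {A : Type u} [CommRing A] [IsLocalRing A] (x : A) (t : List A) : ∀ (J : Ideal A),
    x ∈ J ⊔ Ideal.ofList t →
    (∃ t1 y t2 a, t = t1 ++ y :: t2 ∧ IsUnit a ∧ x - a * y ∈ J ⊔ Ideal.ofList (t1 ++ t2)) ∨
      x ∈ J ⊔ IsLocalRing.maximalIdeal A • Ideal.ofList t := by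
  induction t with
  | nil =>
    intro J hJ
    right
    rw [Ideal.ofList_nil, sup_bot_eq] at hJ
    exact Ideal.mem_sup_left hJ
  | cons y t' ih =>
    intro J hJ
    rw [Ideal.ofList_cons, ← sup_assoc] at hJ
    rcases ih _ hJ with ⟨t1, y', t2, a, ht, ha, hx⟩ | h
    · left
      refine ⟨y :: t1, y', t2, a, by rw [ht]; rfl, ha, ?_⟩
      rw [List.cons_append, Ideal.ofList_cons, ← sup_assoc]
      exact hx
    · rw [Submodule.mem_sup] at h
      obtain ⟨p, hp, z, hz, rfl⟩ := h
      rw [Submodule.mem_sup] at hp
      obtain ⟨j, hj, q, hq, rfl⟩ := hp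
      rw [Ideal.mem_span_singleton'] at hq
      obtain ⟨b, rfl⟩ := hq
      by_cases hb : IsUnit b
      · left
        refine ⟨[], y, t', b, rfl, hb, ?_⟩
        have h1 : j + b * y + z - b * y = j + z := by ring
        rw [h1, List.nil_append]
        exact Ideal.add_mem _ (Ideal.mem_sup_left hj)
          (Ideal.mem_sup_right (Submodule.smul_le_right hz))
      · right
        rw [Ideal.ofList_cons, Submodule.smul_sup, ← sup_assoc]
        refine Ideal.add_mem _ (Ideal.mem_sup_left (Ideal.add_mem _ (Ideal.mem_sup_left hj)
          (Ideal.mem_sup_right ?_))) (Ideal.mem_sup_right hz)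
        exact Submodule.smul_mem_smul ((IsLocalRing.mem_maximalIdeal b).mpr hb)
          (Ideal.mem_span_singleton_self y)

lemma ofList_perm {A : Type u} [CommRing A] {s t : List A} (h : s.Perm t) :
    Ideal.ofList s = Ideal.ofList t := by
  exact congrArg Ideal.span (Set.ext fun x => h.mem_iff)

lemma main (A : Type u) [CommRing A] [IsLocalRing A] [IsNoetherianRing A] (r : List A) :
    ∀ (s t v w : List A), v = s ++ r → IsRegular A v → IsRegular A w → w.Perm (s ++ t) →
      Ideal.ofList w = Ideal.ofList v →
      ∃ ws : List (List A), ws.head? = some w ∧ ws.getLast? = some v ∧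
        (∀ w' ∈ ws, IsRegular A w' ∧ Ideal.ofList w' = Ideal.ofList v) ∧
        List.IsChain (fun w w' : List A =>
          w.Perm w' ∨ (w.length = w'.length ∧ w.dropLast = w'.dropLast)) ws := by
  induction r with
  | nil =>
    intro s t v w hv hvr hwr hwp hwv
    rw [List.append_nil] at hv
    subst hv
    have ht : t = [] := by
      rcases t with _ | ⟨y, t'⟩
      · rfl
      · exfalso
        have h1 : w.Perm ((v ++ t') ++ [y]) := by
          refine hwp.trans ?_
          rw [List.append_assoc]
          refine List.Perm.append_left _ ?_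
          exact (List.perm_append_singleton y t').symm
        have h2 := IsLocalRing.isRegular_of_perm hwr h1
        apply notMem_of_isRegular_append _ _ h2
        have h3 : y ∈ Ideal.ofList w := Ideal.subset_span (h1.mem_iff.mpr (by simp))
        rw [hwv] at h3
        rw [Ideal.ofList_append]
        exact Ideal.mem_sup_left h3
    subst ht
    rw [List.append_nil] at hwp
    refine ⟨[w, v], rfl, rfl, ?_, ?_⟩
    · intro w' hw'
      simp only [List.mem_cons, List.not_mem_nil, or_false] at hw'
      rcases hw' with rfl | rfl
      · exact ⟨hwr, hwv⟩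
      · exact ⟨hvr, rfl⟩
    · simp [hwp]
  | cons x r' ih =>
    intro s t v w hv hvr hwr hwp hwv
    have hxI : x ∈ Ideal.ofList w := by
      rw [hwv, hv]
      exact Ideal.subset_span (by simp)
    have hx1 : x ∈ Ideal.ofList s ⊔ Ideal.ofList t := by
      rw [← Ideal.ofList_append, ← ofList_perm hwp]
      exact hxI
    rcases split_or x t _ hx1 with ⟨t1, y, t2, a, ht, ha, hx⟩ | h
    · have h1 : w.Perm ((s ++ (t1 ++ t2)) ++ [y]) := by
        refine hwp.trans ?_
        rw [ht, List.append_assoc]
        refine List.Perm.append_left _ ?_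
        exact List.perm_middle.trans (List.perm_append_singleton y (t1 ++ t2)).symm
      have h2 := IsLocalRing.isRegular_of_perm hwr h1
      rw [← Ideal.ofList_append] at hx
      obtain ⟨h3, h4⟩ := exchange_last _ x y a h2 ha hx
      have h5 : ((s ++ (t1 ++ t2)) ++ [x]).Perm ((s ++ [x]) ++ (t1 ++ t2)) := by
        rw [List.append_assoc s, List.append_assoc s]
        refine List.Perm.append_left _ ?_
        exact List.perm_append_comm
      have h6 : Ideal.ofList ((s ++ (t1 ++ t2)) ++ [x]) = Ideal.ofList v := by
        rw [h4, ← ofList_perm h1, hwv]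
      obtain ⟨ws, hh, hl, hr, hc⟩ := ih (s ++ [x]) (t1 ++ t2) v _ (by rw [hv]; simp) hvr h3 h5 h6
      refine ⟨w :: ((s ++ (t1 ++ t2)) ++ [y]) :: ws, rfl, ?_, ?_, ?_⟩
      · rw [List.getLast?_cons_cons, List.getLast?_cons]
        rcases ws with _ | ⟨w0, ws0⟩
        · simp at hh
        · rw [hl]; rfl
      · intro w' hw'
        simp only [List.mem_cons] at hw'
        rcases hw' with rfl | rfl | hw'
        · exact ⟨hwr, hwv⟩
        · exact ⟨h2, by rw [← ofList_perm h1, hwv]⟩
        · exact hr w' hw'
      · rcases ws with _ | ⟨w0, ws0⟩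
        · simp at hh
        · simp only [List.head?_cons, Option.some.injEq] at hh
          subst hh
          refine List.IsChain.cons_cons (Or.inl h1) (List.IsChain.cons_cons (Or.inr ?_) hc)
          refine ⟨by simp, ?_⟩
          simp only [List.dropLast_concat]
    · exfalso
      have h1 : v.Perm ((s ++ r') ++ [x]) := by
        rw [hv, List.append_assoc]
        refine List.Perm.append_left _ ?_
        exact (List.perm_append_singleton x r').symm
      have h2 := IsLocalRing.isRegular_of_perm hvr h1
      apply notMem_of_isRegular_append _ _ h2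
      have h3 : Ideal.ofList v ≤ Ideal.ofList (s ++ r') ⊔
          IsLocalRing.maximalIdeal A • Ideal.ofList v := by
        conv_lhs => rw [ofList_perm h1, Ideal.ofList_append, Ideal.ofList_singleton]
        refine sup_le le_sup_left ?_
        rw [Ideal.span_singleton_le_iff_mem]
        rw [Ideal.ofList_append]
        have h4 : Ideal.ofList s ⊔ IsLocalRing.maximalIdeal A • Ideal.ofList t ≤
            (Ideal.ofList s ⊔ Ideal.ofList r') ⊔
              IsLocalRing.maximalIdeal A • Ideal.ofList v := by
          refine sup_le (le_sup_left.trans le_sup_left) ?_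
          refine le_trans ?_ le_sup_right
          refine Submodule.smul_mono le_rfl ?_
          rw [← hwv, ofList_perm hwp, Ideal.ofList_append]
          exact le_sup_right
        exact h4 h
      have h5 : Ideal.ofList v ≤ Ideal.ofList (s ++ r') :=
        Submodule.le_of_le_smul_of_le_jacobson_bot (IsNoetherian.noetherian _)
          (IsLocalRing.maximalIdeal_le_jacobson _) h3
      apply h5
      rw [← hwv]
      exact hxI

/-- SGA 4½ [Cycle], Lemme 2.2.3: let A be a Noetherian local ring and u, v two regular sequences of elements of A generating the same ideal. Then there is a finite chain of regular sequences generating that same ideal, starting at u and ending at v, in which each sequence is obtained from the previous one either by a permutation or by changing only its last element. -/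
theorem result (A : Type u) [CommRing A] [IsLocalRing A] [IsNoetherianRing A]
    (u v : List A) (hu : IsRegular A u) (hv : IsRegular A v) (huv : Ideal.span {x | x ∈ u} = Ideal.span {x | x ∈ v}) :
    ∃ ws : List (List A), ws.head? = some u ∧ ws.getLast? = some v ∧
      (∀ w ∈ ws, IsRegular A w ∧ Ideal.span {x | x ∈ w} = Ideal.span {x | x ∈ u}) ∧
      List.IsChain (fun w w' : List A => w.Perm w' ∨ (w.length = w'.length ∧ w.dropLast = w'.dropLast)) ws := by
  obtain ⟨ws, h1, h2, h3, h4⟩ := main A v [] u v u rfl hv hu (by simp) huv
  exact ⟨ws, h1, h2, fun w hw => ⟨(h3 w hw).1, (h3 w hw).2.trans huv.symm⟩, h4⟩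

end Groth.Agent.S3140
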