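import Groth.Statements.S3143
-- import your own Groth.Agent.* helpers here
import Groth.Agent.Sga4h.HYRestr
import Groth.Agent.Sga4h.TateLocal
import Groth.Agent.Sga4h.Edge

set_option autoImplicit false
universe u
open CategoryTheory CategoryTheory.Limits AlgebraicGeometry Opposite
open EtDual

namespace Groth.Agent.S3143

/-- SGA 4½ [Cycle], Proposition 2.2.6 (ii), second assertion: let X be a Noetherian separated scheme, n invertible on X, c a natural number, Y ⊆ X closed with open complement j : U ⟶ X, and Z ⊆ Y closed in X with open complement k' : X' ⟶ X, so that U ⊆ X' and V = Y ∩ X' is closed in X' with complement j' : U ⟶ X'. If the local cohomology sheaves H^p_Z(X, ℤ/n) vanish for all p ≤ 2c + 1, then H^{2c}_Y(X, ℤ/n(c)) and H^{2c}_V(X', ℤ/n(c)) are isomorphic. (The source's map is the restriction; only the existence of an isomorphism is asserted. Under vanishing for p ≤ 2c only, the source obtains injectivity.) -/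
theorem result {X X' U : Scheme.{u}} [IsNoetherian X] [X.IsSeparated]
    (n : ℕ) (hn : IsUnit (n : Γ(X, ⊤))) (c : ℕ)
    (j : U ⟶ X) [IsOpenImmersion j] (k' : X' ⟶ X) [IsOpenImmersion k'] (j' : U ⟶ X') [IsOpenImmersion j']
    (hfac : j' ≫ k' = j) [EtCoh.BCCont j] [EtCoh.BCCont k'] [EtCoh.BCCont j']
    (hZ : ∀ p : ℕ, p ≤ 2 * c + 1 → IsZero ((EtDual.locCoh k' p).obj (EtCoh.const X (ZMod n)))) :
    Nonempty ((EtDual.HY j (2 * c)).obj (EtDual.tate X n c) ≅ (EtDual.HY j' (2 * c)).obj (EtDual.tate X' n c)) := by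
  have hz : ∀ p : ℕ, p < 2 * c + 2 → IsZero ((EtDual.HY k' p).obj (EtDual.tate X n c)) := by
    intro p hp
    have hadd : (sheafToPresheaf X.smallEtaleTopology AddCommGrpCat.{u + 1} ⋙
        (evaluation X.Etaleᵒᵖ AddCommGrpCat.{u + 1}).obj (op (EtCoh.top X))).Additive :=
      { map_add := rfl }
    exact Groth.Agent.Sga4h.Edge.isZero_rightDerived_comp (EtDual.secSupp k')
      (sheafToPresheaf X.smallEtaleTopology AddCommGrpCat.{u + 1} ⋙
        (evaluation X.Etaleᵒᵖ AddCommGrpCat.{u + 1}).obj (op (EtCoh.top X)))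
      (fun I hI => Groth.Agent.Sga4h.SecSupp.injective_secSupp k' I) (EtDual.tate X n c) (2 * c + 2)
      (fun q hq => Groth.Agent.Sga4h.TateLocal.isZero_locCoh_tate k' n hn c q (hZ q (by omega))) p hp
  obtain ⟨e⟩ := Groth.Agent.Sga4h.HYRestr.nonempty_iso j k' j' hfac (2 * c) (EtDual.tate X n c)
    (hz _ (by omega)) (hz _ (by omega))
  exact ⟨e ≪≫ (EtDual.HY j' (2 * c)).mapIso (Groth.Agent.Sga4h.EtaleRes2.pullTate k' n c)⟩

end Groth.Agent.S3143
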