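import Groth.Statements.S3194
import Mathlib.LinearAlgebra.Dimension.Localization
import Mathlib.LinearAlgebra.FreeModule.StrongRankCondition
import Mathlib.LinearAlgebra.FreeModule.PID
import Mathlib.RingTheory.Ideal.AssociatedPrime.Finiteness
import Mathlib.Algebra.Homology.ShortComplex.ModuleCat
-- import your own Groth.Agent.* helpers here

set_option autoImplicit false
universe u
open CategoryTheory
open SGA6

namespace Groth.Agent.S3194

section

variable {A : Type u} [CommRing A]

lemma clSub_eq (M : ModuleCat.{u} A) (h : Module.Finite A M) :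
    KZero.clSub (fun M : ModuleCat.{u} A => Module.Finite A M) M =
      QuotientAddGroup.mk (FreeAbelianGroup.of ⟨M, h⟩) := by
  unfold KZero.clSub
  rw [dif_pos h]

lemma clSub_add (S : ShortComplex (ModuleCat.{u} A)) (hS : S.ShortExact)
    (h₁ : Module.Finite A S.X₁) (h₂ : Module.Finite A S.X₂) (h₃ : Module.Finite A S.X₃) :
    KZero.clSub (fun M : ModuleCat.{u} A => Module.Finite A M) S.X₂ =
      KZero.clSub (fun M : ModuleCat.{u} A => Module.Finite A M) S.X₁ +
      KZero.clSub (fun M : ModuleCat.{u} A => Module.Finite A M) S.X₃ := by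
  rw [clSub_eq _ h₁, clSub_eq _ h₂, clSub_eq _ h₃, ← QuotientAddGroup.mk_add,
    QuotientAddGroup.eq]
  have : FreeAbelianGroup.of (⟨S.X₂, h₂⟩ : Subtype (fun M : ModuleCat.{u} A => Module.Finite A M))
      - FreeAbelianGroup.of ⟨S.X₁, h₁⟩ - FreeAbelianGroup.of ⟨S.X₃, h₃⟩ ∈
      KZero.relSub (fun M : ModuleCat.{u} A => Module.Finite A M) :=
    AddSubgroup.subset_closure ⟨S, h₁, h₂, h₃, hS, rfl⟩
  rw [← AddSubgroup.neg_mem_iff] at this
  convert this using 1
  abel

lemma clSub_exact {N₁ N₂ N₃ : Type u} [AddCommGroup N₁] [Module A N₁] [Module.Finite A N₁]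
    [AddCommGroup N₂] [Module A N₂] [Module.Finite A N₂]
    [AddCommGroup N₃] [Module A N₃] [Module.Finite A N₃]
    (f : N₁ →ₗ[A] N₂) (g : N₂ →ₗ[A] N₃) (hf : Function.Injective f) (hg : Function.Surjective g)
    (hfg : Function.Exact f g) :
    KZero.clSub (fun M : ModuleCat.{u} A => Module.Finite A M) (ModuleCat.of A N₂) =
      KZero.clSub (fun M : ModuleCat.{u} A => Module.Finite A M) (ModuleCat.of A N₁) +
      KZero.clSub (fun M : ModuleCat.{u} A => Module.Finite A M) (ModuleCat.of A N₃) := by
  refine clSub_add (ShortComplex.mk (ModuleCat.ofHom f) (ModuleCat.ofHom g) ?_)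
    (ModuleCat.shortComplex_shortExact _ hfg hf hg) ?_ ?_ ?_
  · ext x
    exact hfg.apply_apply_eq_zero x
  all_goals dsimp; infer_instance

lemma clSub_subsingleton (N : Type u) [AddCommGroup N] [Module A N] [Module.Finite A N]
    [Subsingleton N] :
    KZero.clSub (fun M : ModuleCat.{u} A => Module.Finite A M) (ModuleCat.of A N) = 0 := by
  have := clSub_exact (0 : N →ₗ[A] N) (0 : N →ₗ[A] N) (Function.injective_of_subsingleton _)
    (Function.surjective_to_subsingleton _) (fun x => ⟨fun _ => ⟨0, Subsingleton.elim _ _⟩,
      fun _ => Subsingleton.elim _ _⟩)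
  simpa using this

lemma clSub_equiv {N₁ N₂ : Type u} [AddCommGroup N₁] [Module A N₁] [Module.Finite A N₁]
    [AddCommGroup N₂] [Module A N₂] [Module.Finite A N₂] (e : N₁ ≃ₗ[A] N₂) :
    KZero.clSub (fun M : ModuleCat.{u} A => Module.Finite A M) (ModuleCat.of A N₂) =
      KZero.clSub (fun M : ModuleCat.{u} A => Module.Finite A M) (ModuleCat.of A N₁) := by
  have := clSub_exact (N₁ := N₁) (N₂ := N₂) (N₃ := PUnit.{u+1}) e.toLinearMap 0 e.injective
    (Function.surjective_to_subsingleton _)
    ((LinearMap.exact_zero_iff_surjective _ _).2 e.surjective)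
  rw [this, clSub_subsingleton PUnit.{u+1}, add_zero]

end

/-- The rank homomorphism on `K₀` of finitely generated modules over a domain. -/
noncomputable def rankHom (A : Type u) [CommRing A] [IsDomain A] :
    KZero.K0sub (fun M : ModuleCat.{u} A => Module.Finite A M) →+ ℤ :=
  QuotientAddGroup.lift _ (FreeAbelianGroup.lift (fun M => (Module.finrank A M.1 : ℤ))) (by
    unfold KZero.relSub
    rw [AddSubgroup.closure_le]
    rintro x ⟨S, h₁, h₂, h₃, hS, rfl⟩
    simp only [SetLike.mem_coe, AddMonoidHom.mem_ker, map_sub, FreeAbelianGroup.lift_apply_of]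
    have hex := (ShortComplex.ShortExact.moduleCat_exact_iff_function_exact S).1 hS.exact
    have hinj := hS.moduleCat_injective_f
    have hsurj := hS.moduleCat_surjective_g
    have : Module.Finite A S.X₂ := h₂
    have key := Submodule.finrank_quotient_add_finrank (LinearMap.ker S.g.hom)
    have e₁ : Module.finrank A S.X₁ = Module.finrank A (LinearMap.ker S.g.hom) := by
      rw [← hS.exact.moduleCat_range_eq_ker]
      exact (LinearEquiv.ofInjective S.f.hom hinj).finrank_eq
    have e₃ : Module.finrank A (S.X₂ ⧸ LinearMap.ker S.g.hom) = Module.finrank A S.X₃ :=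
      (S.g.hom.quotKerEquivOfSurjective hsurj).finrank_eq
    rw [← key, e₁, e₃]
    push_cast
    ring)

/-- SGA 6 IX, Lemme 1.7: let A be a principal ideal domain and K_•(Spec A) = K₀ of the category of finitely generated A-modules (free abelian group on finitely generated modules modulo short exact sequences). The homomorphism ℤ ⟶ K_•(Spec A) sending k to k·[A] is bijective. -/
theorem result (A : Type u) [CommRing A] [IsDomain A] [IsPrincipalIdealRing A] :
    Function.Bijective (fun k : ℤ => k • KZero.clSub (fun M : ModuleCat.{u} A => Module.Finite A M) (ModuleCat.of A A)) := by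
  constructor
  · intro k l h
    have h' := congrArg (rankHom A) h
    simp only [map_zsmul] at h'
    rw [clSub_eq (ModuleCat.of A A) (by dsimp; infer_instance)] at h'
    have h1 : rankHom A (QuotientAddGroup.mk (FreeAbelianGroup.of ⟨ModuleCat.of A A, by dsimp; infer_instance⟩)) = 1 := by
      change FreeAbelianGroup.lift _ (FreeAbelianGroup.of _) = _
      rw [FreeAbelianGroup.lift_apply_of]
      simp
    rw [h1] at h'
    simpa using h'
  · intro x
    change x ∈ Set.range (zmultiplesHom _ (KZero.clSub (fun M : ModuleCat.{u} A => Module.Finite A M) (ModuleCat.of A A)))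
    rw [← AddMonoidHom.coe_range]
    change x ∈ (zmultiplesHom _ (KZero.clSub (fun M : ModuleCat.{u} A => Module.Finite A M) (ModuleCat.of A A))).range
    set R := (zmultiplesHom _ (KZero.clSub (fun M : ModuleCat.{u} A => Module.Finite A M) (ModuleCat.of A A))).range with hR
    have hA : KZero.clSub (fun M : ModuleCat.{u} A => Module.Finite A M) (ModuleCat.of A A) ∈ R :=
      ⟨1, by simp⟩
    have key : ∀ (M : ModuleCat.{u} A) (hM : Module.Finite A M),
        KZero.clSub (fun M : ModuleCat.{u} A => Module.Finite A M) M ∈ R := by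
      intro M hM
      refine IsNoetherianRing.induction_on_isQuotientEquivQuotientPrime (A := A) (M := M) hM
        (motive := fun N _ _ _ =>
          KZero.clSub (fun M : ModuleCat.{u} A => Module.Finite A M) (ModuleCat.of A N) ∈ R)
        ?_ ?_ ?_
      · intro N _ _ _ _
        rw [clSub_subsingleton]
        exact R.zero_mem
      · intro N _ _ _ p e
        rw [clSub_equiv e.symm]
        obtain ⟨a, ha⟩ := IsPrincipalIdealRing.principal p.1
        have h1 := clSub_exact (p.1.subtype : p.1 →ₗ[A] A) p.1.mkQ
          p.1.injective_subtype p.1.mkQ_surjective (LinearMap.exact_subtype_mkQ p.1)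
        have h2 : KZero.clSub (fun M : ModuleCat.{u} A => Module.Finite A M) (ModuleCat.of A p.1) ∈ R := by
          by_cases ha0 : a = 0
          · have : Subsingleton p.1 := by
              rw [ha, ha0]
              simp only [Submodule.span_singleton_eq_bot.2]
              infer_instance
            rw [clSub_subsingleton]
            exact R.zero_mem
          · have e : A ≃ₗ[A] p.1 := by
              rw [ha]
              exact LinearEquiv.toSpanNonzeroSingleton A A a ha0
            rw [clSub_equiv e]
            exact hA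
        rw [h1] at hA
        exact (AddSubgroup.add_mem_cancel_left R h2).1 hA
      · intro N₁ _ _ _ N₂ _ _ _ N₃ _ _ _ f g hf hg hfg h₁ h₃
        rw [clSub_exact f g hf hg hfg]
        exact R.add_mem h₁ h₃
    obtain ⟨y, rfl⟩ := QuotientAddGroup.mk_surjective x
    induction y using FreeAbelianGroup.induction_on with
    | zero => exact R.zero_mem
    | of M => 
      have := key M.1 M.2
      rwa [clSub_eq _ M.2] at this
    | neg M h => exact R.neg_mem h
    | add a b ha hb => exact R.add_mem ha hb

end Groth.Agent.S3194
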