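import Groth.Statements.S3195
-- import your own Groth.Agent.* helpers here
import Groth.Agent.Sga67.TorKoszul
import Groth.Agent.Sga67.ExtQuot
import Groth.Agent.Flat2H.KoszulLen

set_option autoImplicit false
universe u
open CategoryTheory
open SGA6

namespace Groth.Agent.S3195

section Aux

open CategoryTheory.Limits CochainComplex CochainComplex.HomComplex CohIII
open Groth.Agent.Flat2H.KoszulBasic Groth.Agent.Flat2H.KoszulReg Groth.Agent.Flat2H.KoszulLen

variable {A : Type u} [CommRing A]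

theorem koszulCx_eq_kos (M : ModuleCat.{u} A) (l : List A) : koszulCx M l = kos l (sgl M) := by
  induction l with
  | nil => rfl
  | cons f l ih => rw [kos_cons, ← ih]; rfl

theorem isZero_kos_pos (l : List A) (C : CochainComplex (ModuleCat.{u} A) ℤ)
    (h0 : ∀ i : ℤ, 0 < i → IsZero (C.homology i)) (hz : ∀ z ∈ l, NullH C z) (i : ℤ) (hi : 0 < i) :
    IsZero ((kos l C).homology i) := by
  induction l generalizing i with
  | nil => exact h0 i hi
  | cons f l ih =>
    obtain ⟨e⟩ := nonempty_homology_cone1_equiv_prod (K := kos l C) (nullH_kos (hz f (by simp)) l) i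
    have h1 := ih (fun z hz' => hz z (by simp [hz'])) i hi
    have h2 := ih (fun z hz' => hz z (by simp [hz'])) (i + 1) (by omega)
    have s1 : Subsingleton ((kos l C).homology i) := ModuleCat.subsingleton_of_isZero h1
    have s2 : Subsingleton ((kos l C).homology (i + 1)) := ModuleCat.subsingleton_of_isZero h2
    have : Subsingleton ((kos (f :: l) C).homology i) := e.injective.subsingleton
    exact ModuleCat.isZero_of_subsingleton _

/-- The Koszul homology when all the elements of the list are null-homotopic. -/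
theorem nonempty_kos_equiv (l : List A) (C : CochainComplex (ModuleCat.{u} A) ℤ) (B : Type u) [AddCommGroup B]
    [Module A B] (e0 : (C.homology 0 : Type u) ≃ₗ[A] B) (h0 : ∀ i : ℤ, i ≠ 0 → IsZero (C.homology i))
    (hz : ∀ z ∈ l, NullH C z) (i : ℕ) :
    Nonempty (((kos l C).homology (-(i : ℤ)) : Type u) ≃ₗ[A] (Fin (l.length.choose i) → B)) := by
  induction l generalizing i with
  | nil =>
    match i with
    | 0 => exact ⟨e0 ≪≫ₗ (LinearEquiv.funUnique (Fin 1) A B).symm⟩
    | (i + 1) =>
      have s1 : Subsingleton ((kos ([] : List A) C).homology (-((i + 1 : ℕ) : ℤ))) :=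
        ModuleCat.subsingleton_of_isZero (h0 _ (by omega))
      have s2 : Subsingleton (Fin (([] : List A).length.choose (i + 1)) → B) := by
        simp only [List.length_nil, Nat.choose_zero_succ]
        infer_instance
      exact ⟨{ (0 : ((kos ([] : List A) C).homology (-((i + 1 : ℕ) : ℤ)) : Type u) →ₗ[A] _) with
        invFun := 0
        left_inv := fun _ => Subsingleton.elim _ _
        right_inv := fun _ => Subsingleton.elim _ _ }⟩
  | cons f l ih =>
    obtain ⟨e⟩ := nonempty_homology_cone1_equiv_prod (K := kos l C) (nullH_kos (hz f (by simp)) l) (-(i : ℤ))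
    have hz' : ∀ z ∈ l, NullH C z := fun z hz' => hz z (by simp [hz'])
    obtain ⟨e1⟩ := ih hz' i
    match i with
    | 0 =>
      have s1 : Subsingleton ((kos l C).homology (-((0 : ℕ) : ℤ) + 1)) :=
        ModuleCat.subsingleton_of_isZero (isZero_kos_pos l C (fun i hi => h0 i (by omega)) hz' _ (by omega))
      have e2 : ((kos l C).homology (-((0 : ℕ) : ℤ)) × (kos l C).homology (-((0 : ℕ) : ℤ) + 1)) ≃ₗ[A]
          ((kos l C).homology (-((0 : ℕ) : ℤ)) : Type u) :=
        { LinearMap.fst A _ _ with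
          invFun := fun x => (x, 0)
          left_inv := fun x => Prod.ext rfl (Subsingleton.elim _ _)
          right_inv := fun _ => rfl }
      have h1 : l.length.choose 0 = (f :: l).length.choose 0 := by simp
      exact ⟨e ≪≫ₗ e2 ≪≫ₗ e1 ≪≫ₗ LinearEquiv.funCongrLeft A B (finCongr h1.symm)⟩
    | (i + 1) =>
      obtain ⟨e2⟩ := ih hz' i
      have h2 : (-((i + 1 : ℕ) : ℤ) + 1) = -(i : ℤ) := by push_cast; ring
      rw [h2] at e
      have e3 : ((Fin (l.length.choose (i + 1)) → B) × (Fin (l.length.choose i) → B)) ≃ₗ[A]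
          (Fin (l.length.choose (i + 1)) ⊕ Fin (l.length.choose i) → B) :=
        (LinearEquiv.sumArrowLequivProdArrow _ _ A B).symm
      have h3 : (f :: l).length.choose (i + 1) = l.length.choose (i + 1) + l.length.choose i := by
        rw [List.length_cons, Nat.choose_succ_succ, add_comm]
      have e4 : Fin ((f :: l).length.choose (i + 1)) ≃ Fin (l.length.choose (i + 1)) ⊕ Fin (l.length.choose i) :=
        (finCongr h3).trans finSumFinEquiv.symm
      exact ⟨e ≪≫ₗ LinearEquiv.prodCongr e1 e2 ≪≫ₗ e3 ≪≫ₗ LinearEquiv.funCongrLeft A B e4⟩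

/-- functoriality of the exterior power for isomorphisms -/
noncomputable def extCongr (n : ℕ) {M N : Type u} [AddCommGroup M] [Module A M] [AddCommGroup N] [Module A N]
    (e : M ≃ₗ[A] N) : ⋀[A]^n M ≃ₗ[A] ⋀[A]^n N :=
  LinearEquiv.ofLinearMap (exteriorPower.map n e.toLinearMap) (exteriorPower.map n e.symm.toLinearMap)
    (by rw [← exteriorPower.map_comp]; simp) (by rw [← exteriorPower.map_comp]; simp)

theorem nullH_sgl (Y : ModuleCat.{u} A) (z : A) (hz : z • 𝟙 Y = 0) : NullH (sgl Y) z := by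
  refine ⟨0, ?_⟩
  rw [δ_zero]
  have h1 : z • 𝟙 (sgl Y) = 0 := by
    have h2 : (sgl Y).X 0 ≅ Y := HomologicalComplex.singleObjXSelf (ComplexShape.up ℤ) 0 Y
    ext1 n
    rw [HomologicalComplex.smul_f_apply, HomologicalComplex.id_f, HomologicalComplex.zero_f]
    by_cases hn : n = 0
    · subst hn
      have : z • 𝟙 ((sgl Y).X 0) = h2.hom ≫ (z • 𝟙 Y) ≫ h2.inv := by simp
      rw [this, hz]
      simp
    · exact (isZero_sgl_X Y n (by omega)).eq_of_src _ _
  have h3 : z • Cochain.ofHom (𝟙 (sgl Y)) = Cochain.ofHom (z • 𝟙 (sgl Y)) := by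
    ext n
    simp
  rw [h3, h1]
  simp

theorem key (f g h : List A)
    (hfg : LCI.IsKoszulRegularSeq A (f ++ g)) (hfh : LCI.IsKoszulRegularSeq A (f ++ h))
    (hfgh : LCI.IsKoszulRegularSeq A (f ++ g ++ h)) :
    ∃ I : Ideal A, ∀ i : ℕ, Nonempty
      ((((Tor (ModuleCat.{u} A) i).obj (ModuleCat.of A (A ⧸ Ideal.span {x | x ∈ f ++ g}))).obj
        (ModuleCat.of A (A ⧸ Ideal.span {x | x ∈ f ++ h})) : Type u) ≃ₗ[A] (Fin (f.length.choose i) → A ⧸ I)) := by
  let Y : ModuleCat.{u} A := ModuleCat.of A (A ⧸ Ideal.span {x | x ∈ f ++ h})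
  have k1 : KReg (f ++ h) (ModuleCat.of A A) := (isKoszulRegularSeq_iff _).1 hfh
  have k2 : KReg (g ++ (f ++ h)) (ModuleCat.of A A) := by
    refine ((isKoszulRegularSeq_iff _).1 hfgh).perm ?_
    rw [← List.append_assoc]
    exact List.Perm.append_right h List.perm_append_comm
  have eY : (A ⧸ (Ideal.ofList (f ++ h) • ⊤ : Submodule A A)) ≃ₗ[A] (A ⧸ Ideal.span {x | x ∈ f ++ h}) :=
    Submodule.quotEquivOfEq _ _ (by rw [smul_eq_mul, Ideal.mul_top])
  have k3 : KReg g Y := by
    refine KReg.of_iso ((kReg_append_iff k1).1 k2) ?_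
    exact eY.toModuleIso
  obtain ⟨e0⟩ := nonempty_homology_zero_equiv g Y
  let π : A →ₗ[A] (Y ⧸ (Ideal.ofList g • ⊤ : Submodule A Y)) :=
    (Submodule.mkQ (Ideal.ofList g • ⊤ : Submodule A Y)).comp (Submodule.mkQ (Ideal.span {x | x ∈ f ++ h}))
  have hπ : Function.Surjective π :=
    (Submodule.mkQ_surjective _).comp (Submodule.mkQ_surjective _)
  let I : Ideal A := LinearMap.ker π
  have e1 : (A ⧸ I) ≃ₗ[A] (Y ⧸ (Ideal.ofList g • ⊤ : Submodule A Y)) := π.quotKerEquivOfSurjective hπ
  have hz : ∀ z ∈ f, NullH (kos g (sgl Y)) z := by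
    intro z hz
    refine nullH_kos (nullH_sgl Y z ?_) g
    refine ModuleCat.hom_ext (LinearMap.ext fun (y : A ⧸ Ideal.span {x | x ∈ f ++ h}) => ?_)
    change z • y = 0
    obtain ⟨r, rfl⟩ := Ideal.Quotient.mk_surjective y
    rw [← Ideal.Quotient.mk_eq_mk, ← Submodule.Quotient.mk_smul, Ideal.Quotient.mk_eq_mk, smul_eq_mul]
    exact Ideal.Quotient.eq_zero_iff_mem.2 (Ideal.mul_mem_right _ _ (Ideal.subset_span (by simp [hz])))
  refine ⟨I, fun i => ?_⟩
  obtain ⟨t⟩ := Groth.Agent.Sga67.TorKoszul.nonempty_torIso (f ++ g) hfg i Y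
  obtain ⟨s⟩ := nonempty_kos_equiv f (kos g (sgl Y)) (A ⧸ I) (e0 ≪≫ₗ e1.symm) (fun i hi => k3 i hi) hz i
  have h1 : koszulCx Y (f ++ g) = kos f (kos g (sgl Y)) := by
    rw [koszulCx_eq_kos, kos_append]
  rw [← h1] at s
  exact ⟨t.toLinearEquiv ≪≫ₗ s⟩

end Aux

/-- SGA 6 VII, Proposition 2.5 (i), in the affine situation: let A be a commutative ring and f, g, h finite sequences of elements of A such that the concatenations f ++ g, f ++ h and f ++ g ++ h are Koszul-regular (their Koszul complexes are resolutions of the quotients); put I = (f, g) and J = (f, h). Then for every i ≥ 1 the A-module Tor_i^A(A/I, A/J) (Mathlib's Tor, left-derived in the second variable) is isomorphic to the i-th exterior power over A of Tor_1^A(A/I, A/J). (The source takes exterior powers over O_T = A/(I+J), which for i ≥ 1 gives the same module since Tor_1 is killed by I + J; over A the case i = 0 would give A instead of Tor_0 = A/(I+J), so it is left out. The source states this for closed subschemes of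 a scheme locally of this form and identifies Tor_1 with the excess conormal bundle.) -/
theorem result (A : Type u) [CommRing A] (f g h : List A)
    (hfg : LCI.IsKoszulRegularSeq A (f ++ g)) (hfh : LCI.IsKoszulRegularSeq A (f ++ h)) (hfgh : LCI.IsKoszulRegularSeq A (f ++ g ++ h)) (i : ℕ) (hi : 1 ≤ i) :
    Nonempty (((CategoryTheory.Tor (ModuleCat.{u} A) i).obj (ModuleCat.of A (A ⧸ Ideal.span {x | x ∈ f ++ g}))).obj (ModuleCat.of A (A ⧸ Ideal.span {x | x ∈ f ++ h})) ≅
      ModuleCat.of A (⋀[A]^i (((CategoryTheory.Tor (ModuleCat.{u} A) 1).obj (ModuleCat.of A (A ⧸ Ideal.span {x | x ∈ f ++ g}))).obj (ModuleCat.of A (A ⧸ Ideal.span {x | x ∈ f ++ h}))))) := by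
  obtain ⟨I, hI⟩ := key f g h hfg hfh hfgh
  obtain ⟨ei⟩ := hI i
  obtain ⟨e1⟩ := hI 1
  obtain ⟨w⟩ := Groth.Agent.Sga67.ExtQuot.nonempty_equiv_pi I f.length i hi
  have e1' := e1 ≪≫ₗ LinearEquiv.funCongrLeft A (A ⧸ I) (finCongr (Nat.choose_one_right f.length)).symm
  have e2 := extCongr i e1'
  exact ⟨(ei ≪≫ₗ w.symm ≪≫ₗ e2.symm).toModuleIso⟩

end Groth.Agent.S3195
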