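import Groth.Statements.S3196
-- import your own Groth.Agent.* helpers here
import Groth.Agent.Sga67.TorKoszul
import Groth.Agent.Sga67.TorVanish
import Groth.Agent.CalgB.QuasiRegular

set_option autoImplicit false
universe u
open CategoryTheory CategoryTheory.Limits
open SGA6

namespace Groth.Agent.S3196

section Graded

open MvPolynomial

variable {A : Type u} [CommRing A] {c : ℕ} (f : Fin c → A) (n : ℕ)

theorem eval_mem_pow {P : MvPolynomial (Fin c) A} {n : ℕ} (hP : P ∈ idealOfVars (Fin c) A ^ n) :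
    eval f P ∈ Ideal.span (Set.range f) ^ n := by
  have h1 : (idealOfVars (Fin c) A).map (eval f) = Ideal.span (Set.range f) := by
    rw [idealOfVars, Ideal.map_span, ← Set.range_comp]
    congr 1
    ext x
    simp
  rw [← h1, ← Ideal.map_pow]
  exact Ideal.mem_map_of_mem _ hP

theorem homogeneous_mem_pow {P : MvPolynomial (Fin c) A} {n : ℕ} (hP : P.IsHomogeneous n) :
    P ∈ idealOfVars (Fin c) A ^ n := by
  rw [mem_pow_idealOfVars_iff]
  intro x hx
  exact (Groth.Agent.CalgB.QuasiRegular.degree_of_isHomogeneous hP (mem_support_iff.mp hx)).ge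

/-- `J^n / J^{n+1}` -/
abbrev Gr : Type u := ↥(Ideal.span (Set.range f) ^ n) ⧸
  Submodule.comap (Ideal.span (Set.range f) ^ n).subtype (Ideal.span (Set.range f) ^ (n + 1))

/-- evaluation of homogeneous polynomials of degree `n` -/
noncomputable def psi0 : homogeneousSubmodule (Fin c) A n →ₗ[A] ↥(Ideal.span (Set.range f) ^ n) where
  toFun := fun P => ⟨eval f P.1, eval_mem_pow f (homogeneous_mem_pow P.2)⟩
  map_add' := fun P Q => Subtype.ext (by simp)
  map_smul' := fun a P => Subtype.ext (by simp [smul_eval])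

/-- evaluation of homogeneous polynomials of degree `n` -/
noncomputable def psi : homogeneousSubmodule (Fin c) A n →ₗ[A] Gr f n :=
  (Submodule.mkQ (Submodule.comap (Ideal.span (Set.range f) ^ n).subtype (Ideal.span (Set.range f) ^ (n + 1)))).comp
    (psi0 f n)

/-- the coefficients modulo `J` of a homogeneous polynomial -/
noncomputable def phi : homogeneousSubmodule (Fin c) A n →ₗ[A]
    ({d : Fin c →₀ ℕ // d.degree = n} → A ⧸ Ideal.span (Set.range f)) where
  toFun P := fun d => Ideal.Quotient.mk _ (coeff d.1 P.1)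
  map_add' P Q := by funext d; simp
  map_smul' a P := by
    funext d
    simp [Algebra.smul_def]

theorem psi_surjective : Function.Surjective (psi f n) := by
  intro q
  obtain ⟨⟨r, hr⟩, rfl⟩ := Submodule.mkQ_surjective _ q
  obtain ⟨P, hP, hPr⟩ := Groth.Agent.CalgB.QuasiRegular.exists_mem_pow_eval (f := f) n r hr
  refine ⟨⟨homogeneousComponent n P, homogeneousComponent_isHomogeneous n P⟩, ?_⟩
  have h1 : P - homogeneousComponent n P ∈ idealOfVars (Fin c) A ^ (n + 1) := by
    rw [mem_pow_idealOfVars_iff]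
    intro x hx
    rw [mem_support_iff, coeff_sub, coeff_homogeneousComponent] at hx
    by_contra hlt
    rw [mem_pow_idealOfVars_iff'] at hP
    have hlt' : x.degree < n ∨ x.degree = n := by omega
    rcases hlt' with h | h
    · rw [if_neg (by omega), hP x h] at hx
      exact hx (sub_zero _)
    · rw [if_pos h] at hx
      exact hx (sub_self _)
  have h2 := eval_mem_pow f h1
  rw [map_sub, hPr] at h2
  symm
  rw [psi, LinearMap.comp_apply, ← sub_eq_zero, ← map_sub, ← LinearMap.mem_ker, Submodule.ker_mkQ]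
  exact h2

theorem phi_surjective : Function.Surjective (phi f n) := by
  intro b
  have hfin : Finite {d : Fin c →₀ ℕ // d.degree = n} :=
    (Set.Finite.subset (Finsupp.finite_of_degree_le n) (fun d hd => le_of_eq hd) :
      ({d : Fin c →₀ ℕ | d.degree = n}).Finite).to_subtype
  have := Fintype.ofFinite {d : Fin c →₀ ℕ // d.degree = n}
  choose a ha using fun d => Ideal.Quotient.mk_surjective (b d)
  refine ⟨⟨∑ d : {d : Fin c →₀ ℕ // d.degree = n}, monomial d.1 (a d), ?_⟩, ?_⟩
  · refine Submodule.sum_mem _ fun d _ => ?_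
    exact isHomogeneous_monomial _ d.2
  · funext d
    change Ideal.Quotient.mk _ (coeff d.1 (∑ d : {d : Fin c →₀ ℕ // d.degree = n}, monomial d.1 (a d))) = _
    rw [coeff_sum]
    simp only [coeff_monomial]
    rw [Finset.sum_eq_single d]
    · simp [ha]
    · intro e _ he
      rw [if_neg (fun h => he (Subtype.ext h))]
    · intro h; exact absurd (Finset.mem_univ _) h

theorem ker_psi_eq (hf : CAlgX.IsQuasiRegular f) : LinearMap.ker (psi f n) = LinearMap.ker (phi f n) := by
  ext P
  rw [LinearMap.mem_ker, LinearMap.mem_ker]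
  have h1 : psi f n P = 0 ↔ eval f P.1 ∈ Ideal.span (Set.range f) ^ (n + 1) := by
    rw [psi, LinearMap.comp_apply, ← LinearMap.mem_ker, Submodule.ker_mkQ]
    rfl
  have h2 : phi f n P = 0 ↔ ∀ d : Fin c →₀ ℕ, coeff d P.1 ∈ Ideal.span (Set.range f) := by
    constructor
    · intro h d
      by_cases hd : coeff d P.1 = 0
      · rw [hd]; exact Ideal.zero_mem _
      · have hdn := Groth.Agent.CalgB.QuasiRegular.degree_of_isHomogeneous P.2 hd
        exact Ideal.Quotient.eq_zero_iff_mem.1 (congrFun h ⟨d, hdn⟩)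
    · intro h
      funext d
      exact Ideal.Quotient.eq_zero_iff_mem.2 (h d.1)
  rw [h1, h2]
  constructor
  · intro h
    exact hf n P.1 P.2 h
  · intro h
    rw [MvPolynomial.eval_eq, pow_succ']
    refine Ideal.sum_mem _ fun d hd => Ideal.mul_mem_mul (h d) ?_
    have hdn := Groth.Agent.CalgB.QuasiRegular.degree_of_isHomogeneous P.2 (mem_support_iff.1 hd)
    have h3 : eval f (monomial d (1 : A)) ∈ Ideal.span (Set.range f) ^ n :=
      eval_mem_pow f (homogeneous_mem_pow (isHomogeneous_monomial _ hdn))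
    rw [eval_monomial, one_mul] at h3
    exact h3

/-- `J^n/J^{n+1}` is a finite free `A/J`-module. -/
noncomputable def grEquiv (hf : CAlgX.IsQuasiRegular f) :
    Gr f n ≃ₗ[A] ({d : Fin c →₀ ℕ // d.degree = n} → A ⧸ Ideal.span (Set.range f)) :=
  ((psi f n).quotKerEquivOfSurjective (psi_surjective f n)).symm ≪≫ₗ
    Submodule.quotEquivOfEq _ _ (ker_psi_eq f n hf) ≪≫ₗ
    (phi f n).quotKerEquivOfSurjective (phi_surjective f n)

end Graded

section Vanish

open Groth.Agent.Sga67.TorVanish Groth.Agent.Sga67.TorKoszul Groth.Agent.Sga67.KoszulFun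

variable {A : Type u} [CommRing A]

theorem tv_quotient (fs : List A) (hfs : LCI.IsKoszulRegularSeq A fs) (Y : ModuleCat.{u} A)
    (hY : ∀ n : ℤ, n ≠ 0 → IsZero ((CohIII.koszulCx Y fs).homology n)) :
    TV (ModuleCat.of A (A ⧸ Ideal.span {x | x ∈ fs})) Y := by
  intro i hi
  obtain ⟨e⟩ := nonempty_torIso fs hfs i Y
  exact (hY (-(i : ℤ)) (by omega)).of_iso e

theorem tv_self (Y : ModuleCat.{u} A) : TV (ModuleCat.of A A) Y := by
  have h1 : LCI.IsKoszulRegularSeq A ([] : List A) := fun i hi =>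
    HomologicalComplex.isZero_single_obj_homology _ _ _ _ hi
  have h2 := tv_quotient [] h1 Y (fun n hn => HomologicalComplex.isZero_single_obj_homology _ _ _ _ hn)
  refine h2.of_iso ?_
  have h3 : Ideal.span {x | x ∈ ([] : List A)} = ⊥ := by simp
  exact ((Submodule.quotEquivOfEq _ _ h3) ≪≫ₗ (Submodule.quotEquivOfEqBot (⊥ : Ideal A) rfl)).toModuleIso

variable {c : ℕ} (f : Fin c → A)

/-- `0 → J^{n+1} → J^n → J^n/J^{n+1} → 0` -/
noncomputable def powShort (n : ℕ) : ShortComplex (ModuleCat.{u} A) :=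
  ShortComplex.mk (X₁ := ModuleCat.of A ↥(Ideal.span (Set.range f) ^ (n + 1)))
    (X₂ := ModuleCat.of A ↥(Ideal.span (Set.range f) ^ n)) (X₃ := ModuleCat.of A (Gr f n))
    (ModuleCat.ofHom (Submodule.inclusion (Ideal.pow_le_pow_right (Nat.le_succ n))))
    (ModuleCat.ofHom (Submodule.mkQ
      (Submodule.comap (Ideal.span (Set.range f) ^ n).subtype (Ideal.span (Set.range f) ^ (n + 1))))) (by
    ext x
    change Submodule.mkQ (Submodule.comap (Ideal.span (Set.range f) ^ n).subtype
      (Ideal.span (Set.range f) ^ (n + 1))) _ = 0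
    rw [← LinearMap.mem_ker, Submodule.ker_mkQ]
    exact x.2)

theorem powShort_shortExact (n : ℕ) : (powShort f n).ShortExact where
  exact := by
    rw [ShortComplex.moduleCat_exact_iff]
    intro x hx
    have hx' : x ∈ LinearMap.ker (Submodule.mkQ
      (Submodule.comap (Ideal.span (Set.range f) ^ n).subtype (Ideal.span (Set.range f) ^ (n + 1)))) := hx
    rw [Submodule.ker_mkQ] at hx'
    exact ⟨⟨x.1, hx'⟩, rfl⟩
  mono_f := (ModuleCat.mono_iff_injective _).2 (Submodule.inclusion_injective (Ideal.pow_le_pow_right (Nat.le_succ n)))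
  epi_g := (ModuleCat.epi_iff_surjective _).2 (Submodule.mkQ_surjective _)

theorem tv_gr (hf : CAlgX.IsQuasiRegular f) {Y : ModuleCat.{u} A}
    (h : TV (ModuleCat.of A (A ⧸ Ideal.span (Set.range f))) Y) (n : ℕ) : TV (ModuleCat.of A (Gr f n)) Y := by
  have hfin : Finite {d : Fin c →₀ ℕ // d.degree = n} :=
    (Set.Finite.subset (Finsupp.finite_of_degree_le n) (fun d hd => le_of_eq hd) :
      ({d : Fin c →₀ ℕ | d.degree = n}).Finite).to_subtype
  exact (TV.pi' h {d : Fin c →₀ ℕ // d.degree = n}).of_iso (grEquiv f n hf).symm.toModuleIso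

theorem tv_pow (hf : CAlgX.IsQuasiRegular f) {Y : ModuleCat.{u} A}
    (h : TV (ModuleCat.of A (A ⧸ Ideal.span (Set.range f))) Y) (n : ℕ) :
    TV (ModuleCat.of A ↥(Ideal.span (Set.range f) ^ n)) Y := by
  induction n with
  | zero =>
    refine (tv_self Y).of_iso ?_
    have : Ideal.span (Set.range f) ^ 0 = ⊤ := by rw [pow_zero, Ideal.one_eq_top]
    exact ((Submodule.topEquiv (R := A) (M := A)).symm ≪≫ₗ LinearEquiv.ofEq _ _ this.symm).toModuleIso
  | succ n ih => exact TV.left (powShort_shortExact f n) ih (tv_gr f hf h n)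

end Vanish

/-- SGA 6 VII, Lemme 1.2, relations (1.2.2) and (1.2.4): let A be a commutative ring, fs a Koszul-regular sequence in A generating the ideal J, and A' a commutative A-algebra in which the image of fs is again Koszul-regular. Then for every n ≥ 0 and i ≥ 1, Tor_i^A(Jⁿ, A') = 0 and Tor_i^A(Jⁿ/Jⁿ⁺¹, A') = 0 (Mathlib's Tor on A-modules). (The source also derives Jⁿ ⊗_A A' ≅ J'ⁿ and Jⁿ/Jⁿ⁺¹ ⊗_A A' ≅ J'ⁿ/J'ⁿ⁺¹ for J' = JA', and works with a regular homomorphism from any finite projective module.) -/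
theorem result (A : Type u) [CommRing A] (A' : Type u) [CommRing A'] [Algebra A A']
    (fs : List A) (hfs : LCI.IsKoszulRegularSeq A fs) (hfs' : LCI.IsKoszulRegularSeq A' (fs.map (algebraMap A A')))
    (n : ℕ) (i : ℕ) (hi : 1 ≤ i) :
    IsZero (((Tor (ModuleCat.{u} A) i).obj (ModuleCat.of A ↥(Ideal.span {x | x ∈ fs} ^ n))).obj (ModuleCat.of A A')) ∧
    IsZero (((Tor (ModuleCat.{u} A) i).obj (ModuleCat.of A
      (↥(Ideal.span {x | x ∈ fs} ^ n) ⧸ Submodule.comap (Ideal.span {x | x ∈ fs} ^ n).subtype (Ideal.span {x | x ∈ fs} ^ (n + 1))))).obj (ModuleCat.of A A')) := by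
  have hset : {x | x ∈ fs} = Set.range fs.get := by
    ext x
    rw [Set.mem_range]
    exact List.mem_iff_get
  have h1 : Groth.Agent.Sga67.TorVanish.TV (ModuleCat.of A (A ⧸ Ideal.span {x | x ∈ fs})) (ModuleCat.of A A') :=
    tv_quotient fs hfs (ModuleCat.of A A')
      (Groth.Agent.Sga67.KoszulFun.isZero_homology_algebra A' fs hfs')
  have hq : CAlgX.IsQuasiRegular fs.get := Groth.Agent.CalgB.QuasiRegular.isQuasiRegular_of_isH1Regular (f := fs.get)
    (Groth.Agent.Sga67.KoszulH1.isH1Regular_of_isKoszulRegularSeq fs hfs)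
  rw [hset] at h1 ⊢
  exact ⟨tv_pow fs.get hq h1 n i hi, tv_gr fs.get hq h1 n i hi⟩

end Groth.Agent.S3196
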