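import Groth.Statements.S3201
-- import your own Groth.Agent.* helpers here
import Groth.Agent.Sga67.KZeroDb

set_option autoImplicit false
universe w v u
open CategoryTheory CategoryTheory.Limits
open SGA6

namespace Groth.Agent.S3201

/-- SGA 6 IV, Lemme 1.6: let C be an abelian category (with a derived category) and P an 'épaisse' class of objects of C in the source's sense: a full subcategory closed under isomorphisms, containing zero, and closed under kernels, cokernels and extensions. Let K₀(P) be the free abelian group on the objects of P modulo the short exact sequences of C with terms in P, and D^b_P(C) the full triangulated subcategory of D(C) on bounded objects all of whose cohomology objects lie in P. Then the homomorphism K₀(P) ⟶ K₀(D^b_P(C)) induced by X ↦ X[0] is an isomorphism: there is an isomorphism of groups carrying the class of each X in P to the class of X placed in degree 0. -/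
theorem result {C : Type u} [Category.{v} C] [Abelian C] [HasDerivedCategory.{w} C]
    (P : ObjectProperty C) [P.IsClosedUnderIsomorphisms] [P.ContainsZero] [P.IsClosedUnderKernels] [P.IsClosedUnderCokernels] [P.IsClosedUnderExtensions] :
    ∃ φ : KZero.K0sub P ≃+ KZero.K0tr (fun K : DerivedCategory C =>
        (∀ i : ℤ, P ((DerivedCategory.homologyFunctor C i).obj K)) ∧ ∃ a b : ℤ, (DerivedCategory.TStructure.t (C := C)).IsGE K a ∧ (DerivedCategory.TStructure.t (C := C)).IsLE K b),
      ∀ X : C, P X → φ (KZero.clSub P X) =
        KZero.clTr (fun K : DerivedCategory C => (∀ i : ℤ, P ((DerivedCategory.homologyFunctor C i).obj K)) ∧ ∃ a b : ℤ, (DerivedCategory.TStructure.t (C := C)).IsGE K a ∧ (DerivedCategory.TStructure.t (C := C)).IsLE K b)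
          ((DerivedCategory.singleFunctor C 0).obj X) := by
  exact Groth.Agent.Sga67.KZeroDb.exists_equiv

end Groth.Agent.S3201
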