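import Groth.Statements.S3202
import Groth.Agent.Sga67.BlowPerf3

set_option autoImplicit false
universe u
open CategoryTheory AlgebraicGeometry
open SGA6

namespace Groth.Agent.S3202

/-- SGA 6 VII, Proposition 1.9 (second assertion): let i : Y ⟶ X be a regular closed immersion (locally cut out by a regular sequence) and f : X' ⟶ X the blow-up of X along Y. Then f is a perfect morphism: affine-locally the ring maps O_X(V) → O_{X'}(U) are pseudo-coherent and of finite tor-dimension. (The source's regular immersions are the Koszul-regular ones, a weaker hypothesis in the non-Noetherian case; it also records that i itself is perfect.) -/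
theorem result {Y X X' : Scheme.{u}} (i : Y ⟶ X) (hi : Mor2.IsRegularClosedImmersion i)
    (f : X' ⟶ X) (hf : BlowUp.IsBlowUp f i.ker) : MoreMor.IsPerfectMor f := by
  exact Groth.Agent.Sga67.BlowPerf.isPerfectMor_of_isBlowUp i hi f hf

end Groth.Agent.S3202
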