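import Groth.Statements.S3206
import Mathlib.RingTheory.MvPowerSeries.Order
import Mathlib.LinearAlgebra.Matrix.NonsingularInverse
import Mathlib.Tactic

set_option autoImplicit false
open SGA7

namespace Groth.Agent.S3206

open MvPowerSeries

section aux

variable {k : Type} [Field k] {n : ℕ}

/-- Power series of order at least `N`. -/
noncomputable def Fil (k : Type) [Field k] (n N : ℕ) : Ideal (MvPowerSeries (Fin n) k) where
  carrier := {g | (N : ℕ∞) ≤ g.order}
  zero_mem' := by simp
  add_mem' := fun ha hb => le_trans (le_min ha hb) MvPowerSeries.min_order_le_add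
  smul_mem' := fun c x hx => le_trans (le_trans hx le_add_self) MvPowerSeries.le_order_mul

lemma mem_Fil' {N : ℕ} {g : MvPowerSeries (Fin n) k} : g ∈ Fil k n N ↔ (N : ℕ∞) ≤ g.order := Iff.rfl

lemma mem_Fil {N : ℕ} {g : MvPowerSeries (Fin n) k} :
    g ∈ Fil k n N ↔ ∀ d : Fin n →₀ ℕ, d.degree < N → coeff d g = 0 :=
  ⟨fun h d hd => MvPowerSeries.coeff_of_lt_order (lt_of_lt_of_le (by exact_mod_cast hd) h),
    fun h => MvPowerSeries.nat_le_order h⟩

lemma mul_mem_Fil {a b : ℕ} {g h : MvPowerSeries (Fin n) k} (hg : g ∈ Fil k n a)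
    (hh : h ∈ Fil k n b) : g * h ∈ Fil k n (a + b) := by
  rw [mem_Fil'] at *
  push_cast
  exact le_trans (add_le_add hg hh) MvPowerSeries.le_order_mul

lemma Fil_mono {a b : ℕ} (h : a ≤ b) : Fil k n b ≤ Fil k n a := by
  intro g hg
  rw [mem_Fil] at *
  exact fun d hd => hg d (lt_of_lt_of_le hd h)

/-- Division by `X i` of the part of `g` whose minimal variable is `i`. -/
noncomputable def D (i : Fin n) (g : MvPowerSeries (Fin n) k) : MvPowerSeries (Fin n) k :=
  fun m => if ∀ j < i, m j = 0 then coeff (m + Finsupp.single i 1) g else 0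

lemma coeff_D (i : Fin n) (g : MvPowerSeries (Fin n) k) (m : Fin n →₀ ℕ) :
    coeff m (D i g) = if ∀ j < i, m j = 0 then coeff (m + Finsupp.single i 1) g else 0 := rfl

lemma D_sub (i : Fin n) (g h : MvPowerSeries (Fin n) k) : D i (g - h) = D i g - D i h := by
  ext m
  rw [map_sub, coeff_D, coeff_D, coeff_D]
  split_ifs <;> simp

lemma D_mem_Fil {i : Fin n} {g : MvPowerSeries (Fin n) k} {N : ℕ} (hg : g ∈ Fil k n (N + 1)) :
    D i g ∈ Fil k n N := by
  rw [mem_Fil] at *
  intro d hd
  rw [coeff_D]
  split_ifs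
  · apply hg
    rw [map_add, Finsupp.degree_single]
    omega
  · rfl

lemma sum_X_mul_D {g : MvPowerSeries (Fin n) k} (hg : constantCoeff g = 0) :
    ∑ i, X i * D i g = g := by
  classical
  ext m
  rw [map_sum]
  have h1 : ∀ i, coeff m (X i * D i g) = if (m i ≠ 0 ∧ ∀ j < i, m j = 0) then coeff m g else 0 := by
    intro i
    rw [X_def, coeff_monomial_mul, coeff_D]
    have h2 : (Finsupp.single i 1 ≤ m) ↔ m i ≠ 0 := by
      rw [Finsupp.single_le_iff]; omega
    by_cases h3 : m i = 0
    · simp [h2, h3]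
    · rw [if_pos (h2.mpr h3), one_mul, tsub_add_cancel_of_le (h2.mpr h3)]
      have h4 : (∀ j < i, (m - Finsupp.single i 1 : Fin n →₀ ℕ) j = 0) ↔ (∀ j < i, m j = 0) := by
        apply forall₂_congr
        intro j hj
        rw [Finsupp.tsub_apply, Finsupp.single_eq_of_ne (by exact hj.ne)]
        simp
      simp only [h4, h3, ne_eq, not_false_eq_true, true_and]
  simp only [h1]
  by_cases hm : m = 0
  · subst hm
    simpa using hg.symm
  · have hs : m.support.Nonempty := Finsupp.support_nonempty_iff.mpr hm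
    rw [Finset.sum_eq_single (m.support.min' hs)]
    · rw [if_pos]
      refine ⟨Finsupp.mem_support_iff.mp (Finset.min'_mem _ _), ?_⟩
      intro j hj
      by_contra hc
      exact absurd (Finset.min'_le _ j (Finsupp.mem_support_iff.mpr hc)) (not_le.mpr hj)
    · intro b _ hb
      rw [if_neg]
      rintro ⟨h5, h6⟩
      apply hb
      apply le_antisymm
      · by_contra hc
        push Not at hc
        exact (Finsupp.mem_support_iff.mp (Finset.min'_mem m.support hs)) (h6 _ hc)
      · exact Finset.min'_le _ b (Finsupp.mem_support_iff.mpr h5)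
    · intro h; simp at h

lemma constantCoeff_mem_Fil_one {g : MvPowerSeries (Fin n) k} :
    g ∈ Fil k n 1 ↔ constantCoeff g = 0 := by
  rw [mem_Fil]
  constructor
  · intro h
    have := h 0 (by simp)
    simpa using this
  · intro h d hd
    have : d = 0 := by
      rw [← Finsupp.degree_eq_zero_iff]; omega
    subst this
    simpa using h

lemma X_mem_Fil (i : Fin n) : (X i : MvPowerSeries (Fin n) k) ∈ Fil k n 1 := by
  rw [constantCoeff_mem_Fil_one]; simp

lemma sub_C_mem_Fil (g : MvPowerSeries (Fin n) k) : g - C (constantCoeff g) ∈ Fil k n 1 := by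
  rw [constantCoeff_mem_Fil_one]; simp

lemma coeff_single_mul {a g : MvPowerSeries (Fin n) k} (hg : constantCoeff g = 0) (j : Fin n) :
    coeff (Finsupp.single j 1) (a * g) = constantCoeff a * coeff (Finsupp.single j 1) g := by
  have h1 : (a - C (constantCoeff a)) * g ∈ Fil k n (1 + 1) :=
    mul_mem_Fil (sub_C_mem_Fil a) (constantCoeff_mem_Fil_one.mpr hg)
  rw [mem_Fil] at h1
  have h2 := h1 (Finsupp.single j 1) (by simp)
  rw [sub_mul, map_sub, coeff_C_mul, sub_eq_zero] at h2
  exact h2

/-- The quadratic form `∑ c i j * y i * y j`. -/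
noncomputable def Q (c : Fin n → Fin n → k) (y : Fin n → MvPowerSeries (Fin n) k) :
    MvPowerSeries (Fin n) k := ∑ i, ∑ j, C (c i j) * (y i * y j)

lemma Q_mem_Fil (c : Fin n → Fin n → k) {y : Fin n → MvPowerSeries (Fin n) k} {N : ℕ}
    (hy : ∀ i, y i ∈ Fil k n N) : Q c y ∈ Fil k n (N + N) :=
  Submodule.sum_mem _ fun i _ => Submodule.sum_mem _ fun j _ =>
    Ideal.mul_mem_left _ _ (mul_mem_Fil (hy i) (hy j))

lemma Q_sub_mem_Fil (c : Fin n → Fin n → k) {y z : Fin n → MvPowerSeries (Fin n) k} {N M : ℕ}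
    (hy : ∀ i, y i ∈ Fil k n N) (hz : ∀ i, z i ∈ Fil k n N)
    (hyz : ∀ i, y i - z i ∈ Fil k n M) : Q c y - Q c z ∈ Fil k n (M + N) := by
  rw [Q, Q, ← Finset.sum_sub_distrib]
  refine Submodule.sum_mem _ fun i _ => ?_
  rw [← Finset.sum_sub_distrib]
  refine Submodule.sum_mem _ fun j _ => ?_
  have : C (c i j) * (y i * y j) - C (c i j) * (z i * z j) =
      C (c i j) * ((y i - z i) * y j + (y j - z j) * z i) := by ring
  rw [this]
  exact Ideal.mul_mem_left _ _ (Ideal.add_mem _ (mul_mem_Fil (hyz i) (hy j))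
    (mul_mem_Fil (hyz j) (hz i)))

/-- One step of the iteration. -/
noncomputable def Phi (c : Fin n → Fin n → k) (a : Matrix (Fin n) (Fin n) k)
    (r : MvPowerSeries (Fin n) k) (y : Fin n → MvPowerSeries (Fin n) k) :
    Fin n → MvPowerSeries (Fin n) k := fun j => ∑ l, C (a j l) * D l (r - Q c y)

lemma Phi_mem_Fil (c : Fin n → Fin n → k) (a : Matrix (Fin n) (Fin n) k)
    {r : MvPowerSeries (Fin n) k} (hr : r ∈ Fil k n 3) {y : Fin n → MvPowerSeries (Fin n) k}
    (hy : ∀ i, y i ∈ Fil k n 2) (j : Fin n) : Phi c a r y j ∈ Fil k n 2 :=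
  Submodule.sum_mem _ fun l _ => Ideal.mul_mem_left _ _ (D_mem_Fil
    (Ideal.sub_mem _ hr (Fil_mono (by norm_num) (Q_mem_Fil c hy))))

lemma Phi_sub_mem_Fil (c : Fin n → Fin n → k) (a : Matrix (Fin n) (Fin n) k)
    (r : MvPowerSeries (Fin n) k) {y z : Fin n → MvPowerSeries (Fin n) k} {M : ℕ}
    (hy : ∀ i, y i ∈ Fil k n 2) (hz : ∀ i, z i ∈ Fil k n 2)
    (hyz : ∀ i, y i - z i ∈ Fil k n M) (j : Fin n) :
    Phi c a r y j - Phi c a r z j ∈ Fil k n (M + 1) := by
  rw [Phi, Phi, ← Finset.sum_sub_distrib]
  refine Submodule.sum_mem _ fun l _ => ?_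
  rw [← mul_sub, ← D_sub]
  refine Ideal.mul_mem_left _ _ (D_mem_Fil ?_)
  have : r - Q c y - (r - Q c z) = - (Q c y - Q c z) := by ring
  rw [this]
  exact neg_mem (Fil_mono (by omega) (Q_sub_mem_Fil c hy hz hyz))

/-- Existence of a fixed point. -/
lemma exists_fixed (c : Fin n → Fin n → k) (a : Matrix (Fin n) (Fin n) k)
    {r : MvPowerSeries (Fin n) k} (hr : r ∈ Fil k n 3) :
    ∃ y : Fin n → MvPowerSeries (Fin n) k, (∀ i, y i ∈ Fil k n 2) ∧ Phi c a r y = y := by
  let s : ℕ → Fin n → MvPowerSeries (Fin n) k := fun m => (Phi c a r)^[m] 0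
  have hs : ∀ m, s (m + 1) = Phi c a r (s m) := fun m => Function.iterate_succ_apply' _ _ _
  have hs2 : ∀ m i, s m i ∈ Fil k n 2 := by
    intro m
    induction m with
    | zero => intro i; exact zero_mem _
    | succ m ih => rw [hs]; exact Phi_mem_Fil c a hr ih
  have hsd : ∀ m i, s (m + 1) i - s m i ∈ Fil k n (m + 2) := by
    intro m
    induction m with
    | zero => intro i; exact Ideal.sub_mem _ (hs2 _ _) (hs2 _ _)
    | succ m ih =>
      intro i
      rw [hs (m + 1), hs m]
      have := Phi_sub_mem_Fil c a r (y := Phi c a r (s m)) (z := s m) (M := m + 2)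
        (by rw [← hs]; exact hs2 _) (hs2 _) (by rw [← hs]; exact ih) i
      exact this
  have hsd' : ∀ m p i, s (m + p) i - s m i ∈ Fil k n (m + 2) := by
    intro m p i
    induction p with
    | zero => simp
    | succ p ih =>
      have h1 : s (m + (p + 1)) i - s m i = (s (m + p + 1) i - s (m + p) i) + (s (m + p) i - s m i) := by
        rw [← add_assoc]; ring
      rw [h1]
      exact Ideal.add_mem _ (Fil_mono (by omega) (hsd _ _)) ih
  let y : Fin n → MvPowerSeries (Fin n) k := fun i d => coeff d (s d.degree i)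
  have hyc : ∀ i d, coeff d (y i) = coeff d (s d.degree i) := fun i d => rfl
  have hys : ∀ m i, y i - s m i ∈ Fil k n (m + 1) := by
    intro m i
    rw [mem_Fil]
    intro d hd
    rw [map_sub, hyc]
    obtain ⟨p, hp⟩ := Nat.exists_eq_add_of_le (show d.degree ≤ m by omega)
    have h1 := hsd' d.degree p i
    rw [mem_Fil] at h1
    have h2 := h1 d (by omega)
    rw [← hp, map_sub] at h2
    rw [← neg_sub, h2, neg_zero]
  have hy2 : ∀ i, y i ∈ Fil k n 2 := by
    intro i
    have := Ideal.add_mem _ (hys 1 i) (hs2 1 i)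
    simpa using this
  refine ⟨y, hy2, ?_⟩
  funext i
  rw [← sub_eq_zero]
  ext d
  have h1 : Phi c a r y i - y i ∈ Fil k n (d.degree + 1) := by
    have h2 := Phi_sub_mem_Fil c a r hy2 (hs2 d.degree) (hys d.degree) i
    have h3 := hys (d.degree + 1) i
    rw [hs] at h3
    have h4 : Phi c a r y i - y i = (Phi c a r y i - Phi c a r (s d.degree) i) -
      (y i - Phi c a r (s d.degree) i) := by ring
    rw [h4]
    exact Fil_mono (by omega) (Ideal.sub_mem _ h2 h3)
  rw [mem_Fil] at h1
  rw [h1 d (by omega), map_zero]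

end aux

theorem result (k : Type) [Field k] (n : ℕ) (f : MvPowerSeries (Fin n) k)
    (hf0 : MvPowerSeries.constantCoeff f = 0)
    (hJ : Ideal.span (Set.range fun i : Fin n => MvPowerSeries.pderiv k i f) = IsLocalRing.maximalIdeal (MvPowerSeries (Fin n) k)) :
    ∃ (ε : Fin n → MvPowerSeries (Fin n) k) (_ : ∀ i (m : Fin n →₀ ℕ), m.degree < 2 → MvPowerSeries.coeff m (ε i) = 0)
      (q : MvPolynomial (Fin n) k) (_ : q.IsHomogeneous 2)
      (_ : MvPowerSeries.HasSubst (fun i : Fin n => MvPowerSeries.X i + ε i)),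
      f = MvPowerSeries.subst (fun i : Fin n => MvPowerSeries.X i + ε i) (q : MvPowerSeries (Fin n) k) := by
  classical
  have hmax : ∀ g : MvPowerSeries (Fin n) k,
      g ∈ IsLocalRing.maximalIdeal (MvPowerSeries (Fin n) k) ↔ constantCoeff g = 0 := by
    intro g
    rw [IsLocalRing.mem_maximalIdeal, mem_nonunits_iff, MvPowerSeries.isUnit_iff_constantCoeff,
      isUnit_iff_ne_zero, not_not]
  have hd0 : ∀ i, constantCoeff (MvPowerSeries.pderiv k i f) = 0 := by
    intro i
    rw [← hmax, ← hJ]
    exact Ideal.subset_span ⟨i, rfl⟩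
  have hf1 : ∀ i, coeff (Finsupp.single i 1) f = 0 := by
    intro i
    have := hd0 i
    rw [← coeff_zero_eq_constantCoeff_apply, coeff_pderiv] at this
    simpa using this
  let c : Fin n → Fin n → k := fun i j => constantCoeff (D j (D i f))
  have hc : ∀ i j, c i j = if i ≤ j then coeff (Finsupp.single j 1 + Finsupp.single i 1) f else 0 := by
    intro i j
    simp only [c]
    rw [← coeff_zero_eq_constantCoeff_apply, coeff_D, if_pos (by simp), coeff_D, zero_add]
    have : (∀ j_1 < i, (Finsupp.single j 1 : Fin n →₀ ℕ) j_1 = 0) ↔ i ≤ j := by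
      constructor
      · intro h
        by_contra hc
        have := h j (not_le.mp hc)
        simp at this
      · intro h l hl
        rw [Finsupp.single_eq_of_ne]
        exact (lt_of_lt_of_le hl h).ne
    simp only [this]
  have hDf : ∀ i, constantCoeff (D i f) = 0 := by
    intro i
    rw [← coeff_zero_eq_constantCoeff_apply, coeff_D, if_pos (by simp), zero_add, hf1]
  let r := f - Q c X
  have hr : r ∈ Fil k n 3 := by
    have h1 : f = ∑ i, ∑ j, X i * (X j * D j (D i f)) := by
      conv_lhs => rw [← sum_X_mul_D hf0]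
      refine Finset.sum_congr rfl fun i _ => ?_
      conv_lhs => rw [← sum_X_mul_D (hDf i)]
      rw [Finset.mul_sum]
    have h2 : r = ∑ i, ∑ j, (X i * X j) * (D j (D i f) - C (constantCoeff (D j (D i f)))) := by
      simp only [r]
      conv_lhs => rw [h1]
      rw [Q, ← Finset.sum_sub_distrib]
      refine Finset.sum_congr rfl fun i _ => ?_
      rw [← Finset.sum_sub_distrib]
      refine Finset.sum_congr rfl fun j _ => ?_
      simp only [c]
      ring
    rw [h2]
    refine Submodule.sum_mem _ fun i _ => Submodule.sum_mem _ fun j _ => ?_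
    exact mul_mem_Fil (a := 2) (b := 1) (mul_mem_Fil (a := 1) (b := 1) (X_mem_Fil i) (X_mem_Fil j))
      (sub_C_mem_Fil _)
  -- the Hessian
  let b : Matrix (Fin n) (Fin n) k := fun l j => c l j + c j l
  have hb : ∀ l j, coeff (Finsupp.single j 1) (MvPowerSeries.pderiv k l f) = b l j := by
    intro l j
    rw [coeff_pderiv]
    simp only [b]
    rw [hc, hc]
    rcases lt_trichotomy l j with h | h | h
    · rw [if_pos h.le, if_neg (not_le.mpr h), Finsupp.single_eq_of_ne h.ne]
      simp
    · subst h
      rw [if_pos le_rfl, Finsupp.single_eq_same]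
      push_cast
      ring
    · rw [if_neg (not_le.mpr h), if_pos h.le, Finsupp.single_eq_of_ne h.ne', add_comm (Finsupp.single l 1)]
      simp
  have hX : ∀ i : Fin n, ∃ a : Fin n → MvPowerSeries (Fin n) k,
      ∑ l, a l * MvPowerSeries.pderiv k l f = X i := by
    intro i
    have : (X i : MvPowerSeries (Fin n) k) ∈ Ideal.span (Set.range fun i : Fin n => MvPowerSeries.pderiv k i f) := by
      rw [hJ, hmax]; simp
    rw [Ideal.mem_span_range_iff_exists_fun] at this
    exact this
  choose a ha using hX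
  let a0 : Matrix (Fin n) (Fin n) k := fun i l => constantCoeff (a i l)
  have hab : a0 * b = 1 := by
    ext i j
    rw [Matrix.mul_apply]
    have h1 := congrArg (coeff (Finsupp.single j 1)) (ha i)
    rw [map_sum] at h1
    simp only [coeff_single_mul (hd0 _), hb] at h1
    simp only [a0]
    rw [h1, coeff_index_single_X, Matrix.one_apply]
    simp only [eq_comm]
  have hba : b * a0 = 1 := mul_eq_one_comm.mp hab
  obtain ⟨y, hy2, hy⟩ := exists_fixed c a0 hr
  refine ⟨y, fun i m hm => (mem_Fil.mp (hy2 i)) m hm,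
    ∑ i, ∑ j, MvPolynomial.C (c i j) * (MvPolynomial.X i * MvPolynomial.X j), ?_, ?_, ?_⟩
  · apply MvPolynomial.IsHomogeneous.sum
    intro i _
    apply MvPolynomial.IsHomogeneous.sum
    intro j _
    have := (MvPolynomial.isHomogeneous_C (Fin n) (c i j)).mul
      ((MvPolynomial.isHomogeneous_X k i).mul (MvPolynomial.isHomogeneous_X k j))
    simpa using this
  · apply hasSubst_of_constantCoeff_zero
    intro i
    rw [map_add, constantCoeff_X, zero_add]
    exact constantCoeff_mem_Fil_one.mp (Fil_mono (by norm_num) (hy2 i))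
  · rw [subst_coe]
    have hQ : MvPolynomial.aeval (fun i : Fin n => MvPowerSeries.X i + y i)
        (∑ i, ∑ j, MvPolynomial.C (c i j) * (MvPolynomial.X i * MvPolynomial.X j) : MvPolynomial (Fin n) k) =
        Q c (fun i => X i + y i) := by
      rw [map_sum, Q]
      refine Finset.sum_congr rfl fun i _ => ?_
      rw [map_sum]
      refine Finset.sum_congr rfl fun j _ => ?_
      rw [map_mul, map_mul, MvPolynomial.aeval_X, MvPolynomial.aeval_X, MvPolynomial.aeval_C]
      rfl
    rw [hQ]
    have hexp : Q c (fun i => X i + y i) = Q c X + (∑ i, ∑ j, C (b i j) * (X i * y j)) + Q c y := by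
      have h1 : ∑ i, ∑ j, C (b i j) * (X i * y j) = ∑ i, ∑ j, C (c i j) * (X i * y j + y i * X j) := by
        have h2 : ∑ i, ∑ j, C (c i j) * (y i * X j) = ∑ i, ∑ j, C (c j i) * (X i * y j) := by
          rw [Finset.sum_comm]
          refine Finset.sum_congr rfl fun i _ => Finset.sum_congr rfl fun j _ => ?_
          ring
        have h3 : ∑ i, ∑ j, C (c i j) * (X i * y j + y i * X j) =
            ∑ i, ∑ j, C (c i j) * (X i * y j) + ∑ i, ∑ j, C (c i j) * (y i * X j) := by
          rw [← Finset.sum_add_distrib]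
          refine Finset.sum_congr rfl fun i _ => ?_
          rw [← Finset.sum_add_distrib]
          refine Finset.sum_congr rfl fun j _ => ?_
          ring
        rw [h3, h2, ← Finset.sum_add_distrib]
        refine Finset.sum_congr rfl fun i _ => ?_
        rw [← Finset.sum_add_distrib]
        refine Finset.sum_congr rfl fun j _ => ?_
        simp only [b, map_add]
        ring
      rw [h1]
      simp only [Q]
      rw [← Finset.sum_add_distrib, ← Finset.sum_add_distrib]
      refine Finset.sum_congr rfl fun i _ => ?_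
      rw [← Finset.sum_add_distrib, ← Finset.sum_add_distrib]
      refine Finset.sum_congr rfl fun j _ => ?_
      ring
    have hmid : ∑ i, ∑ j, C (b i j) * (X i * y j) = r - Q c y := by
      have hrQ : constantCoeff (r - Q c y) = 0 :=
        constantCoeff_mem_Fil_one.mp (Ideal.sub_mem _ (Fil_mono (by norm_num) hr)
          (Fil_mono (by norm_num) (Q_mem_Fil c hy2)))
      conv_rhs => rw [← sum_X_mul_D hrQ]
      refine Finset.sum_congr rfl fun i _ => ?_
      have h1 : ∑ j, C (b i j) * (X i * y j) = X i * ∑ j, ∑ l, C (b i j * a0 j l) * D l (r - Q c y) := by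
        rw [Finset.mul_sum]
        refine Finset.sum_congr rfl fun j _ => ?_
        have h2 : y j = ∑ l, C (a0 j l) * D l (r - Q c y) := by
          conv_lhs => rw [← hy]
          rfl
        conv_lhs => rw [h2]
        rw [Finset.mul_sum, Finset.mul_sum, Finset.mul_sum]
        refine Finset.sum_congr rfl fun l _ => ?_
        rw [map_mul]
        ring
      rw [h1, Finset.sum_comm]
      congr 1
      have h3 : ∀ l, ∑ j, C (b i j * a0 j l) * D l (r - Q c y) = C ((b * a0) i l) * D l (r - Q c y) := by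
        intro l
        rw [Matrix.mul_apply, map_sum, Finset.sum_mul]
      simp only [h3, hba, Matrix.one_apply]
      rw [Finset.sum_eq_single i]
      · simp
      · intro l _ hl
        rw [if_neg (Ne.symm hl)]; simp
      · intro h; simp at h
    rw [hexp, hmid]
    simp only [r]
    ring

end Groth.Agent.S3206
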