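import Groth.Statements.S3207
import Mathlib.AlgebraicGeometry.Morphisms.FlatMono
import Mathlib.AlgebraicGeometry.Morphisms.FlatRank
import Mathlib.AlgebraicGeometry.Morphisms.UniversallyOpen
import Mathlib.AlgebraicGeometry.ZariskisMainTheorem

set_option autoImplicit false
universe u
open CategoryTheory CategoryTheory.Limits AlgebraicGeometry
open SGA7

namespace Groth.Agent.S3207

/-- Every point of a scheme is a specialization of a maximal point. -/
lemma exists_maximal_specializes (X : Scheme.{u}) (x : X) :
    ∃ η : X, η ⤳ x ∧ ∀ t : X, t ⤳ η → t = η := by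
  let Z : irreducibleComponents X :=
    ⟨irreducibleComponent x, irreducibleComponent_mem_irreducibleComponents x⟩
  have hZ := genericPoints.isGenericPoint_ofComponent Z
  refine ⟨(genericPoints.ofComponent Z).1, ?_, ?_⟩
  · rw [specializes_iff_mem_closure, hZ.def]
    exact mem_irreducibleComponent
  · intro t ht
    have h1 : closure {(genericPoints.ofComponent Z).1} ⊆ closure {t} := by
      rw [specializes_iff_closure_subset] at ht
      exact ht
    have h2 : closure {t} ⊆ closure {(genericPoints.ofComponent Z).1} := by
      have h3 := (genericPoints.ofComponent Z).2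
      exact h3.2 (isIrreducible_singleton.closure) h1
    have h3 : Inseparable t (genericPoints.ofComponent Z).1 := by
      rw [inseparable_iff_closure_eq]
      exact le_antisymm h2 h1
    exact h3.eq

/-- Images of maximal points under flat morphisms are maximal. -/
lemma maximal_of_flat {X Y : Scheme.{u}} (f : X ⟶ Y) [Flat f] (η : X)
    (hη : ∀ t : X, t ⤳ η → t = η) : ∀ t : Y, t ⤳ f η → t = f η := by
  intro t ht
  obtain ⟨t', ht', rfl⟩ := Flat.generalizingMap f ht
  rw [hη t' ht']

/-- If `pullback.snd g s` is an isomorphism, so is the second projection of any pullback square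
of `g` along a morphism factoring through `s`. -/
lemma isIso_snd_of_factor {T S K L X : Scheme.{u}} (g : T ⟶ S) (s : K ⟶ S) (r : L ⟶ K)
    [IsIso (pullback.snd g s)] (p : X ⟶ T) (q : X ⟶ L) (h : IsPullback p q g (r ≫ s)) :
    IsIso q := by
  have h1 : IsPullback (pullback.fst (pullback.snd g s) r) (pullback.snd (pullback.snd g s) r)
      (pullback.snd g s) r := IsPullback.of_hasPullback _ _
  have h2 : IsPullback (pullback.fst g s) (pullback.snd g s) g s := IsPullback.of_hasPullback _ _
  have h3 := h1.paste_horiz h2
  have h4 : (h.isoIsPullback _ _ h3).hom ≫ pullback.snd (pullback.snd g s) r = q :=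
    h.isoIsPullback_hom_snd _ _ h3
  rw [← h4]
  infer_instance

theorem result {T S : Scheme.{u}} (g : T ⟶ S) [LocallyQuasiFinite g]
    [LocallyOfFinitePresentation g] [QuasiCompact g] [IsSeparated g] [Flat g]
    (h : ∀ s : S, (∀ t : S, t ⤳ s → t = s) →
      IsEmpty ↑(pullback g (S.fromSpecResidueField s)) ∨ IsIso (pullback.snd g (S.fromSpecResidueField s))) :
    IsOpenImmersion g := by
  -- reformulate the hypothesis
  have key : ∀ (η : T), (∀ t : T, t ⤳ η → t = η) →
      IsIso (pullback.snd g (S.fromSpecResidueField (g η))) := by
    intro η hη
    rcases h (g η) (maximal_of_flat g η hη) with h1 | h1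
    · exfalso
      obtain ⟨z, hz1, hz2⟩ := Scheme.Pullback.exists_preimage_pullback (f := g)
        (g := S.fromSpecResidueField (g η)) η (IsLocalRing.closedPoint (S.residueField (g η)))
        (by simp)
      exact h1.elim z
    · exact h1
  have hΔ : Surjective (pullback.diagonal g) := by
    constructor
    intro y
    obtain ⟨η, hηy, hη⟩ := exists_maximal_specializes _ y
    have hcl : IsClosed (Set.range (pullback.diagonal g)) :=
      (pullback.diagonal g).isClosedEmbedding.isClosed_range
    suffices hmem : η ∈ Set.range (pullback.diagonal g) by
      have := hηy.mem_closed hcl hmem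
      exact this
    let q : pullback g g ⟶ S := pullback.fst g g ≫ g
    have hqη : IsIso (pullback.snd g (S.fromSpecResidueField (q η))) := by
      have h2 : ∀ t : T, t ⤳ (pullback.fst g g) η → t = (pullback.fst g g) η :=
        maximal_of_flat _ η hη
      have h3 := key _ h2
      exact h3
    let a : Spec ((pullback g g).residueField η) ⟶ T :=
      (pullback g g).fromSpecResidueField η ≫ pullback.fst g g
    let b : Spec ((pullback g g).residueField η) ⟶ T :=
      (pullback g g).fromSpecResidueField η ≫ pullback.snd g g
    have ha : a ≫ g = Spec.map (q.residueFieldMap η) ≫ S.fromSpecResidueField (q η) := by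
      rw [Scheme.Hom.SpecMap_residueFieldMap_fromSpecResidueField]
      simp [a, q]
    have hb : b ≫ g = Spec.map (q.residueFieldMap η) ≫ S.fromSpecResidueField (q η) := by
      rw [Scheme.Hom.SpecMap_residueFieldMap_fromSpecResidueField]
      simp [b, q, pullback.condition]
    have hab : a = b := by
      have h1 : pullback.lift a (Spec.map (q.residueFieldMap η)) ha =
          pullback.lift b (Spec.map (q.residueFieldMap η)) hb := by
        rw [← cancel_mono (pullback.snd g (S.fromSpecResidueField (q η)))]
        rw [pullback.lift_snd, pullback.lift_snd]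
      have h2 := congrArg (fun m => m ≫ pullback.fst g _) h1
      rw [pullback.lift_fst, pullback.lift_fst] at h2
      exact h2
    have hfac : (pullback g g).fromSpecResidueField η = a ≫ pullback.diagonal g := by
      apply pullback.hom_ext
      · simp [a]
      · simp only [Category.assoc, pullback.diagonal_snd, Category.comp_id]
        rw [hab]
    refine ⟨a (IsLocalRing.closedPoint _), ?_⟩
    rw [← Scheme.Hom.comp_apply, ← hfac]
    simp
  have : UniversallyClosed (pullback.fst g g) := by
    have : UniversallyClosed (pullback.diagonal g ≫ pullback.fst g g) := by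
      rw [pullback.diagonal_fst]; infer_instance
    exact UniversallyClosed.of_comp_surjective (pullback.diagonal g) (pullback.fst g g)
  have : IsProper (pullback.fst g g) := {}
  have : IsFinite (pullback.fst g g) := IsFinite.of_isProper_of_locallyQuasiFinite _
  have hrk : Scheme.Hom.finrank (pullback.fst g g) = 1 := by
    funext t
    obtain ⟨η, hηt, hη⟩ := exists_maximal_specializes T t
    have h1 : Scheme.Hom.finrank (pullback.fst g g) η = Scheme.Hom.finrank (pullback.fst g g) t := by
      have hlc := Scheme.Hom.isLocallyConstant_finrank (pullback.fst g g)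
      have hop := hlc {Scheme.Hom.finrank (pullback.fst g g) t}
      have := hηt.mem_open hop rfl
      exact this
    rw [← h1]
    have hiso := key η hη
    -- pull back along Spec κ(η)
    have h3 : IsPullback (pullback.fst (pullback.fst g g) (T.fromSpecResidueField η) ≫ pullback.snd g g)
        (pullback.snd (pullback.fst g g) (T.fromSpecResidueField η))
        g (T.fromSpecResidueField η ≫ g) := by
      have h2 : IsPullback (pullback.snd (pullback.fst g g) (T.fromSpecResidueField η))
          (pullback.fst (pullback.fst g g) (T.fromSpecResidueField η))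
          (T.fromSpecResidueField η) (pullback.fst g g) := (IsPullback.of_hasPullback _ _).flip
      have h4 : IsPullback (pullback.fst g g) (pullback.snd g g) g g := IsPullback.of_hasPullback _ _
      exact (h2.paste_vert h4).flip
    rw [← Scheme.Hom.SpecMap_residueFieldMap_fromSpecResidueField] at h3
    have h5 : IsIso (pullback.snd (pullback.fst g g) (T.fromSpecResidueField η)) :=
      isIso_snd_of_factor g (S.fromSpecResidueField (g η)) (Spec.map (g.residueFieldMap η)) _ _ h3
    have h6 := Scheme.Hom.finrank_pullback_snd (pullback.fst g g) (T.fromSpecResidueField η)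
      (IsLocalRing.closedPoint _)
    rw [Scheme.Hom.finrank_eq_one_of_isIso] at h6
    have h7 : T.fromSpecResidueField η (IsLocalRing.closedPoint (T.residueField η)) = η := by
      simp
    rw [h7] at h6
    exact h6.symm
  have : IsIso (pullback.fst g g) := (Scheme.Hom.isIso_iff_finrank_eq _).mpr hrk
  have : IsIso (pullback.diagonal g) := by
    have h1 : pullback.diagonal g ≫ pullback.fst g g = 𝟙 _ := pullback.diagonal_fst g
    have h2 : IsIso (pullback.diagonal g ≫ pullback.fst g g) := by rw [h1]; infer_instance
    exact (IsIso.of_isIso_comp_right (pullback.diagonal g) (pullback.fst g g))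
  have : Mono g := (pullback.isIso_diagonal_iff g).mp this
  exact IsOpenImmersion.of_flat_of_mono g

end Groth.Agent.S3207
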