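import Groth.Statements.S3208
-- import your own Groth.Agent.* helpers here
import Mathlib.RingTheory.Filtration
import Mathlib.Data.Nat.Choose.Dvd
import Mathlib.Algebra.BigOperators.Intervals
import Mathlib.Tactic

set_option autoImplicit false
open SGA7

namespace Groth.Agent.S3208

/-- In a commutative ring that is finitely generated and torsion-free over `ℤ`, `x * (1 + p z) = 0` forces `x = 0`. -/
theorem eq_zero_of_mul (E : Type) [CommRing E] [NoZeroSMulDivisors ℤ E] [Module.Finite ℤ E] (p : ℕ) (hp : p.Prime)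
    (x z : E) (h : x * (1 + (p : E) * z) = 0) : x = 0 := by
  have : Module.IsTorsionFree ℤ E := by infer_instance
  have hI : Ideal.span {(p : ℤ)} ≠ ⊤ := by
    intro h
    rw [Ideal.span_singleton_eq_top] at h
    exact (Nat.prime_iff_prime_int.mp hp).not_isUnit h
  have key := Ideal.iInf_pow_smul_eq_bot_of_isTorsionFree (R := ℤ) (M := E) (I := Ideal.span {(p : ℤ)}) (h := hI)
  have hx : x ∈ (⨅ i : ℕ, (Ideal.span {(p : ℤ)}) ^ i • ⊤ : Submodule ℤ E) := by
    rw [Submodule.mem_iInf]
    intro i
    have h1 : ∀ k : ℕ, x = (p : E) ^ k * ((-z) ^ k * x) := by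
      intro k
      induction k with
      | zero => simp
      | succ k ih =>
        have : x = (p : E) * (-z) * x := by linear_combination h
        calc x = (p : E) ^ k * ((-z) ^ k * x) := ih
          _ = (p : E) ^ k * ((-z) ^ k * ((p : E) * (-z) * x)) := by rw [← this]
          _ = _ := by ring
    rw [h1 i]
    have : (p : E) ^ i * ((-z) ^ i * x) = ((p : ℤ) ^ i) • ((-z) ^ i * x) := by
      rw [zsmul_eq_mul]; push_cast; rfl
    rw [this]
    exact Submodule.smul_mem_smul (Ideal.pow_mem_pow (Ideal.mem_span_singleton_self _) i) trivial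
  rw [key] at hx
  simpa using hx

theorem torsionfree (E : Type) [CommRing E] [NoZeroSMulDivisors ℤ E] (p : ℕ) (hp : p ≠ 0) (x : E)
    (h : (p : E) * x = 0) : x = 0 := by
  have : (p : ℤ) • x = 0 := by rw [zsmul_eq_mul]; push_cast; exact h
  rcases smul_eq_zero.mp this with h | h
  · exact absurd (by exact_mod_cast h) hp
  · exact h

/-- prime order case: `u ^ q = 1`, `q` prime and `u = 1 + d v` with `d = 4` or `d` an odd prime. -/
theorem prime_case (E : Type) [CommRing E] [NoZeroSMulDivisors ℤ E] [Module.Finite ℤ E] (u : E) (q : ℕ) (hq : q.Prime)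
    (hu : u ^ q = 1) (p e : ℕ) (hp : p.Prime) (he : 1 ≤ e) (hpe : 3 ≤ p ^ e) (v : E) (hv : u = 1 + (p : E) ^ e * v) : u = 1 := by
  -- x * (∑ i in range q, choose q (i+1) x^i) = 0
  set x : E := (p : E) ^ e * v with hx
  have hexp : x * (∑ i ∈ Finset.range q, (q.choose (i + 1) : E) * x ^ i) = 0 := by
    have h1 : u ^ q = ∑ m ∈ Finset.range (q + 1), x ^ m * (q.choose m : E) := by
      rw [hv, add_comm, add_pow]; simp
    rw [hu, Finset.sum_range_succ'] at h1
    simp only [pow_zero, Nat.choose_zero_right, Nat.cast_one, mul_one] at h1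
    rw [Finset.mul_sum]
    have h2 : (∑ m ∈ Finset.range q, x ^ (m + 1) * (q.choose (m + 1) : E)) = 0 := by
      linear_combination -h1
    rw [← h2]
    refine Finset.sum_congr rfl fun i _ => by ring
  obtain ⟨n, rfl⟩ : ∃ n, q = n + 1 := ⟨q - 1, by have := hq.pos; omega⟩
  rw [Finset.sum_range_succ'] at hexp
  simp only [zero_add, Nat.choose_one_right, pow_zero, mul_one] at hexp
  by_cases hqp : p = n + 1
  · -- q = p
    -- each term choose p (i+2) x^(i+1) is divisible by p^2
    have hterm : ∀ i ∈ Finset.range n, ∃ w : E, ((n + 1).choose (i + 1 + 1) : E) * x ^ (i + 1) = (p : E) ^ 2 * w := by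
      intro i hi
      rw [Finset.mem_range] at hi
      by_cases hi' : i + 1 < n
      · have hd : (n + 1) ∣ (n + 1).choose (i + 1 + 1) := hq.dvd_choose_self (by omega) (by omega)
        obtain ⟨c, hc⟩ := hd
        obtain ⟨e', rfl⟩ : ∃ e', e = e' + 1 := ⟨e - 1, by omega⟩
        refine ⟨(c : E) * (p : E) ^ e' * v * x ^ i, ?_⟩
        rw [hc, ← hqp, pow_succ x i]
        push_cast
        rw [hx]
        ring
      · have hi'' : i + 1 = n := by omega
        -- x ^ n with n = p - 1
        have h2 : 2 ≤ e * n := by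
          by_cases hn : 2 ≤ n
          · nlinarith
          · have hn1 : n = 1 := by have := hq.two_le; omega
            subst hn1
            have : p = 2 := by omega
            subst this
            have : 2 ≤ e := by
              by_contra hlt
              have : e = 1 := by omega
              subst this
              simp at hpe
            omega
        have h3 : x ^ n = (p : E) ^ 2 * ((p : E) ^ (e * n - 2) * v ^ n) := by
          rw [hx, mul_pow, ← pow_mul, ← mul_assoc, ← pow_add]
          congr 2; omega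
        refine ⟨((n + 1).choose (i + 1 + 1) : E) * ((p : E) ^ (e * n - 2) * v ^ n), ?_⟩
        rw [hi'', h3]; ring
    choose! w hw using hterm
    rw [Finset.sum_congr rfl hw, ← Finset.mul_sum] at hexp
    have h4 : (p : E) * (x * (1 + (p : E) * ∑ i ∈ Finset.range n, w i)) = 0 := by
      rw [← hqp] at hexp
      linear_combination hexp
    have h5 := torsionfree E p hp.ne_zero _ h4
    have h6 := eq_zero_of_mul E p hp x _ h5
    rw [hv, h6, add_zero]
  · -- q ≠ p
    have hcop : IsCoprime ((n + 1 : ℕ) : ℤ) (p : ℤ) := by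
      rw [Nat.isCoprime_iff_coprime]
      exact (Nat.coprime_primes hq hp).mpr (fun h => hqp h.symm)
    obtain ⟨a, b, hab⟩ := hcop
    have hab' : (a : E) * ((n + 1 : ℕ) : E) + (b : E) * (p : E) = 1 := by
      have := congrArg (Int.cast : ℤ → E) hab
      push_cast at this ⊢
      exact this
    obtain ⟨e', rfl⟩ : ∃ e', e = e' + 1 := ⟨e - 1, by omega⟩
    have h7 : (∑ i ∈ Finset.range n, ((n + 1).choose (i + 1 + 1) : E) * x ^ (i + 1)) =
        (p : E) * ((p : E) ^ e' * v * ∑ i ∈ Finset.range n, ((n + 1).choose (i + 1 + 1) : E) * x ^ i) := by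
      rw [Finset.mul_sum, Finset.mul_sum]
      refine Finset.sum_congr rfl fun i _ => ?_
      rw [pow_succ x i]
      conv_lhs => rw [show x ^ i * x = x ^ i * ((p : E) ^ (e' + 1) * v) by rw [← hx]]
      ring
    rw [h7] at hexp
    set S : E := (p : E) ^ e' * v * ∑ i ∈ Finset.range n, ((n + 1).choose (i + 1 + 1) : E) * x ^ i with hS
    have h8 : x * (1 + (p : E) * ((a : E) * S - (b : E))) = 0 := by
      linear_combination (a : E) * hexp - x * hab'
    have h6 := eq_zero_of_mul E p hp x _ h8
    rw [hv, h6, add_zero]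

theorem main_case (E : Type) [CommRing E] [NoZeroSMulDivisors ℤ E] [Module.Finite ℤ E] (p e : ℕ) (hp : p.Prime)
    (he : 1 ≤ e) (hpe : 3 ≤ p ^ e) (m : ℕ) : ∀ (u : E), 0 < m →
    u ^ m = 1 → ∀ (v : E), u = 1 + (p : E) ^ e * v → u = 1 := by
  induction m using Nat.strong_induction_on with
  | _ m ih =>
    intro u hm hu v hv
    by_cases hm1 : m = 1
    · subst hm1; simpa using hu
    · obtain ⟨q, hq, k, rfl⟩ := Nat.exists_prime_and_dvd hm1
      have hk : 0 < k := Nat.pos_of_ne_zero (by rintro rfl; simp at hm)
      have hlt : k < q * k := by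
        have := hq.two_le; nlinarith
      -- u ^ k ≡ 1
      have hdvd : (p : E) ^ e ∣ u ^ k - 1 := by
        have h1 : u - 1 ∣ u ^ k - 1 := by
          simpa using sub_dvd_pow_sub_pow u 1 k
        exact dvd_trans ⟨v, by rw [hv]; ring⟩ h1
      obtain ⟨v', hv'⟩ := hdvd
      have huk : u ^ k = 1 := by
        refine prime_case E (u ^ k) q hq ?_ p e hp he hpe v' ?_
        · rw [← pow_mul, mul_comm]; exact hu
        · linear_combination hv'
      exact ih k hlt u hk huk v hv

/-- SGA 7 I, Exposé IX, 4.7.3 (the algebraic statement to which Serre's Lemme 4.7.1 is reduced and which is proved there): let E be a commutative ring which is finitely generated and torsion-free as an additive group, u an element of E of finite multiplicative order, and n ≥ 2 an integer with u ≡ 1 modulo nE. Then u² = 1, and if n ≥ 3 then u = 1. -/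
theorem result (E : Type) [CommRing E] [NoZeroSMulDivisors ℤ E] [Module.Finite ℤ E] (u : E) (m : ℕ) (hm : 0 < m)
    (hu : u ^ m = 1) (n : ℕ) (hn : 2 ≤ n) (hcong : ∃ v : E, 1 - u = (n : E) * v) :
    u ^ 2 = 1 ∧ (3 ≤ n → u = 1) := by
  obtain ⟨v, hv⟩ := hcong
  have hmain : 3 ≤ n → u = 1 := by
    intro hn3
    -- n has a prime power divisor ≥ 3
    have : ∃ p e : ℕ, p.Prime ∧ 1 ≤ e ∧ 3 ≤ p ^ e ∧ p ^ e ∣ n := by
      by_cases hodd : ∃ p : ℕ, p.Prime ∧ p ∣ n ∧ p ≠ 2
      · obtain ⟨p, hp, hpn, hp2⟩ := hodd
        refine ⟨p, 1, hp, le_rfl, ?_, by simpa using hpn⟩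
        have := hp.two_le
        simp; omega
      · push Not at hodd
        have hpow : n = 2 ^ n.factorization 2 := by
          have := Nat.eq_prime_pow_of_unique_prime_dvd (n := n) (p := 2) (by omega)
            (fun {d} hd hdn => hodd d hd hdn)
          conv_lhs => rw [this]
          congr 1
          conv_rhs => rw [this]
          simp [Nat.Prime.factorization_pow Nat.prime_two]
        have h2 : 2 ≤ n.factorization 2 := by
          by_contra hlt
          have : n.factorization 2 = 0 ∨ n.factorization 2 = 1 := by omega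
          rcases this with h | h <;> rw [h] at hpow <;> simp at hpow <;> omega
        refine ⟨2, 2, Nat.prime_two, by norm_num, by norm_num, ?_⟩
        rw [hpow]
        exact pow_dvd_pow 2 h2
    obtain ⟨p, e, hp, he, hpe, c, hc⟩ := this
    refine main_case E p e hp he hpe m u hm hu (-((c : E) * v)) ?_
    rw [hc] at hv
    push_cast at hv
    linear_combination -hv
  refine ⟨?_, hmain⟩
  by_cases hn3 : 3 ≤ n
  · rw [hmain hn3]; simp
  · have hn2 : n = 2 := by omega
    subst hn2
    refine main_case E 2 2 Nat.prime_two (by norm_num) (by norm_num) m (u ^ 2) hm ?_ (v ^ 2 - v) ?_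
    · rw [← pow_mul, mul_comm, pow_mul, hu, one_pow]
    · have : u = 1 - 2 * v := by push_cast at hv; linear_combination -hv
      rw [this]; push_cast; ring

end Groth.Agent.S3208
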