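import Groth.Statements.S3209
-- import your own Groth.Agent.* helpers here
import Mathlib.LinearAlgebra.TensorProduct.RightExactness

set_option autoImplicit false
universe u
open TensorProduct
open SGA7

namespace Groth.Agent.S3209

theorem aux {R S J B' B C P : Type u} [CommRing R] [AddCommGroup S] [Module R S]
    [AddCommGroup J] [Module R J] [AddCommGroup B'] [Module R B'] [AddCommGroup B] [Module R B]
    [AddCommGroup C] [Module R C] [AddCommGroup P] [Module R P]
    (i : J →ₗ[R] B') (f : B' →ₗ[R] B) (g : C →ₗ[R] B) (p1 : P →ₗ[R] B') (p2 : P →ₗ[R] C)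
    (j : J →ₗ[R] P) (hf : Function.Surjective f) (hif : Function.Exact i f)
    (hp : f ∘ₗ p1 = g ∘ₗ p2) (hj : p1 ∘ₗ j = i) (hjp : Function.Exact j p2)
    (hp2 : Function.Surjective p2) (hJ : Function.Injective (LinearMap.lTensor S i)) :
    (∀ z : S ⊗[R] P, LinearMap.lTensor S p1 z = 0 → LinearMap.lTensor S p2 z = 0 → z = 0) ∧
    ∀ (x : S ⊗[R] B') (y : S ⊗[R] C), LinearMap.lTensor S f x = LinearMap.lTensor S g y →
      ∃ z : S ⊗[R] P, LinearMap.lTensor S p1 z = x ∧ LinearMap.lTensor S p2 z = y := by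
  have e1 := lTensor_exact S hif hf
  have e2 := lTensor_exact S hjp hp2
  have hj' : ∀ w, LinearMap.lTensor S p1 (LinearMap.lTensor S j w) = LinearMap.lTensor S i w := by
    intro w
    rw [← LinearMap.comp_apply, ← LinearMap.lTensor_comp, hj]
  have hp' : ∀ w, LinearMap.lTensor S f (LinearMap.lTensor S p1 w) =
      LinearMap.lTensor S g (LinearMap.lTensor S p2 w) := by
    intro w
    rw [← LinearMap.comp_apply, ← LinearMap.lTensor_comp, hp, LinearMap.lTensor_comp,
      LinearMap.comp_apply]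
  refine ⟨fun z h1 h2 => ?_, fun x y hxy => ?_⟩
  · obtain ⟨w, rfl⟩ := (e2 z).1 h2
    rw [hj'] at h1
    have : w = 0 := hJ (by rw [h1, map_zero])
    rw [this, map_zero]
  · obtain ⟨z, rfl⟩ := LinearMap.lTensor_surjective S hp2 y
    have : LinearMap.lTensor S f (x - LinearMap.lTensor S p1 z) = 0 := by
      rw [map_sub, hxy, hp', sub_self]
    obtain ⟨w, hw⟩ := (e1 _).1 this
    refine ⟨z + LinearMap.lTensor S j w, ?_, ?_⟩
    · rw [map_add, hj', hw]; abel
    · have : LinearMap.lTensor S p2 (LinearMap.lTensor S j w) = 0 := (e2 _).2 ⟨w, rfl⟩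
      rw [map_add, this, add_zero]

/-- SGA 7 I, Exposé VI (Rim), Lemma 3.5 (i): let f : B' -> B be a surjective map of R-algebras with kernel J, g : C -> B a map of R-algebras, P = B' ×_B C their fibre product (the equalizer of f ∘ pr₁ and g ∘ pr₂ in B' × C) and S an R-algebra such that S ⊗_R J -> S ⊗_R B' is injective (this holds when Tor_1^R(B, S) = 0, the source's hypothesis, and in particular when S is flat). Then the canonical map S ⊗_R P -> (S ⊗_R B') ×_{S ⊗_R B} (S ⊗_R C) is bijective: it is injective, and every pair with the same image in S ⊗_R B comes from S ⊗_R P. -/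
theorem result (R B' B C S : Type u) [CommRing R] [CommRing B'] [CommRing B] [CommRing C]
    [CommRing S] [Algebra R B'] [Algebra R B] [Algebra R C] [Algebra R S]
    (f : B' →ₐ[R] B) (hf : Function.Surjective f) (g : C →ₐ[R] B)
    (hJ : Function.Injective (LinearMap.lTensor S (LinearMap.ker f.toLinearMap).subtype)) :
    letI P := AlgHom.equalizer (f.comp (AlgHom.fst R B' C)) (g.comp (AlgHom.snd R B' C))
    letI φ₁ := Algebra.TensorProduct.map (AlgHom.id R S) ((AlgHom.fst R B' C).comp P.val)
    letI φ₂ := Algebra.TensorProduct.map (AlgHom.id R S) ((AlgHom.snd R B' C).comp P.val)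
    Function.Injective (fun z : S ⊗[R] ↥P => (φ₁ z, φ₂ z)) ∧
    ∀ (x : S ⊗[R] B') (y : S ⊗[R] C),
      Algebra.TensorProduct.map (AlgHom.id R S) f x = Algebra.TensorProduct.map (AlgHom.id R S) g y →
        ∃ z : S ⊗[R] ↥P, φ₁ z = x ∧ φ₂ z = y := by
  letI P := AlgHom.equalizer (f.comp (AlgHom.fst R B' C)) (g.comp (AlgHom.snd R B' C))
  letI φ₁ := Algebra.TensorProduct.map (AlgHom.id R S) ((AlgHom.fst R B' C).comp P.val)
  letI φ₂ := Algebra.TensorProduct.map (AlgHom.id R S) ((AlgHom.snd R B' C).comp P.val)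
  let p1 : ↥P →ₗ[R] B' := ((AlgHom.fst R B' C).comp P.val).toLinearMap
  let p2 : ↥P →ₗ[R] C := ((AlgHom.snd R B' C).comp P.val).toLinearMap
  let j : LinearMap.ker f.toLinearMap →ₗ[R] ↥P :=
    { toFun := fun b => ⟨(b.1, 0), by
        show f b.1 = g 0
        rw [map_zero]; exact b.2⟩
      map_add' := fun a b => by
        apply Subtype.ext
        show ((a + b : LinearMap.ker f.toLinearMap).1, (0:C)) = (a.1, (0:C)) + (b.1, (0:C))
        rw [Prod.mk_add_mk, add_zero]; rfl
      map_smul' := fun r b => by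
        apply Subtype.ext
        show ((r • b : LinearMap.ker f.toLinearMap).1, (0:C)) = r • (b.1, (0:C))
        rw [Prod.smul_mk, smul_zero]; rfl }
  have key := aux (S := S) (LinearMap.ker f.toLinearMap).subtype f.toLinearMap g.toLinearMap p1 p2 j hf
    (LinearMap.exact_subtype_ker_map _) (by
      ext z
      exact z.2) (by
      ext z; rfl) (by
      intro z
      constructor
      · intro hz
        refine ⟨⟨z.1.1, ?_⟩, ?_⟩
        · have h1 : f z.1.1 = g z.1.2 := z.2
          have h2 : z.1.2 = 0 := hz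
          show f z.1.1 = 0
          rw [h1, h2, map_zero]
        · apply Subtype.ext
          have h2 : z.1.2 = 0 := hz
          show (z.1.1, (0:C)) = z.1
          rw [← h2]
      · rintro ⟨w, rfl⟩
        rfl) (by
      intro c
      obtain ⟨b, hb⟩ := hf (g c)
      exact ⟨⟨(b, c), hb⟩, rfl⟩) hJ
  have hφ₁ : ∀ z, φ₁ z = LinearMap.lTensor S p1 z := fun z => rfl
  have hφ₂ : ∀ z, φ₂ z = LinearMap.lTensor S p2 z := fun z => rfl
  refine ⟨?_, ?_⟩
  · intro z w hzw
    have h1 : φ₁ z = φ₁ w := congrArg Prod.fst hzw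
    have h2 : φ₂ z = φ₂ w := congrArg Prod.snd hzw
    have := key.1 (z - w) (by rw [map_sub, ← hφ₁, ← hφ₁, h1, sub_self])
      (by rw [map_sub, ← hφ₂, ← hφ₂, h2, sub_self])
    exact sub_eq_zero.1 this
  · intro x y hxy
    exact key.2 x y hxy

end Groth.Agent.S3209
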