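import Groth.Statements.S3210
-- import your own Groth.Agent.* helpers here
import Groth.Agent.Sga67.Rigidity
import Groth.Agent.Sga67.TorsionLift
import Mathlib.AlgebraicGeometry.ValuativeCriterion

set_option autoImplicit false
universe u
open CategoryTheory CategoryTheory.Limits AlgebraicGeometry MonObj
open SGA7

namespace Groth.Agent.S3210

open Sga67.TorsionLift Sga67.Rigidity

section

variable {R K Ω : Type u} [CommRing R] [Field K] [Algebra R K] [Field Ω] [Algebra K Ω]

variable (R K) in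
/-- the morphism of spectra of `R → K`. -/
noncomputable abbrev fRK : Spec (CommRingCat.of K) ⟶ Spec (CommRingCat.of R) :=
  Spec.map (CommRingCat.ofHom (algebraMap R K))

variable [Algebra R Ω] [IsScalarTower R K Ω]

variable (R K Ω) in
/-- `Spec Ω` over `Spec R` via `Spec K`. -/
noncomputable def ι₀ : sp R Ω ⟶ (Over.map (fRK R K)).obj (pt Ω) :=
  Over.homMk (𝟙 _) (by
    dsimp [fRK]
    rw [Category.id_comp, ← Spec.map_comp, ← CommRingCat.ofHom_comp, ← IsScalarTower.algebraMap_eq])

variable (R K Ω) in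
/-- its inverse. -/
noncomputable def ι₁ : (Over.map (fRK R K)).obj (pt Ω) ⟶ sp R Ω :=
  Over.homMk (𝟙 _) (by
    dsimp [fRK]
    rw [Category.id_comp, ← Spec.map_comp, ← CommRingCat.ofHom_comp, ← IsScalarTower.algebraMap_eq])

lemma ι₀_ι₁ : ι₀ R K Ω ≫ ι₁ R K Ω = 𝟙 _ := by
  ext1
  simp [ι₀, ι₁]

lemma ι₁_ι₀ : ι₁ R K Ω ≫ ι₀ R K Ω = 𝟙 _ := by
  ext1
  simp [ι₀, ι₁]

end

/-- The case of the generic fibre itself: `y ∈ B_K(Ω)` killed by `n` is fixed by inertia. -/
theorem main {R K Ω : Type u} [CommRing R] [IsLocalRing R] [Field K] [Algebra R K] [Field Ω]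
    [Algebra K Ω] (W : ValuationSubring Ω) (hW : SGA7.LiesOver K R W)
    (n : ℕ) (hn : IsUnit (n : R)) (B : Over (Spec (CommRingCat.of R))) [GrpObj B] [IsProper B.hom]
    (hcomm : letI : GrpObj ((Over.pullback (fRK R K)).obj B) := Functor.grpObjObj
      ∀ a b : pt Ω ⟶ (Over.pullback (fRK R K)).obj B, a * b = b * a)
    (σ : Ω ≃ₐ[K] Ω) (hσ : SGA7.IsInertia W σ) (y : pt Ω ⟶ (Over.pullback (fRK R K)).obj B)
    (hy : letI : GrpObj ((Over.pullback (fRK R K)).obj B) := Functor.grpObjObj
      y ^ n = 1) : specAut σ ≫ y = y := by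
  letI : GrpObj ((Over.pullback (fRK R K)).obj B) := Functor.grpObjObj
  letI : Algebra R Ω := ((algebraMap K Ω).comp (algebraMap R K)).toAlgebra
  haveI : IsScalarTower R K Ω := IsScalarTower.of_algebraMap_eq (fun _ => rfl)
  letI : Algebra R W := (((algebraMap K Ω).comp (algebraMap R K)).codRestrict W.toSubring hW.1).toAlgebra
  haveI : IsScalarTower R W Ω := IsScalarTower.of_algebraMap_eq (fun _ => rfl)
  let adj := Over.mapPullbackAdj (fRK R K)
  have hmul : ∀ a b : pt Ω ⟶ (Over.pullback (fRK R K)).obj B,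
      (adj.homEquiv _ B).symm (a * b) = (adj.homEquiv _ B).symm a * (adj.homEquiv _ B).symm b :=
    fun a b => homEquiv_symm_mul adj a b
  let Φ : (pt Ω ⟶ (Over.pullback (fRK R K)).obj B) ≃* ((Over.map (fRK R K)).obj (pt Ω) ⟶ B) :=
    MulEquiv.mk' (adj.homEquiv (pt Ω) B).symm hmul
  let yΩ : sp R Ω ⟶ B := ι₀ R K Ω ≫ Φ y
  have hyΩ : yΩ ^ n = 1 := by
    rw [← MonObj.comp_pow, ← map_pow, hy, map_one, MonObj.comp_one]
  have hcommΩ : ∀ a b : sp R Ω ⟶ B, a * b = b * a := by
    intro a b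
    have h1 : ∀ c : sp R Ω ⟶ B, c = ι₀ R K Ω ≫ Φ (Φ.symm (ι₁ R K Ω ≫ c)) := fun c => by
      rw [MulEquiv.apply_symm_apply, ← Category.assoc, ι₀_ι₁, Category.id_comp]
    rw [h1 a, h1 b, ← MonObj.comp_mul, ← MonObj.comp_mul, ← map_mul Φ, ← map_mul Φ, hcomm]
  -- valuative criterion
  let wΩ : W →ₐ[R] Ω := IsScalarTower.toAlgHom R W Ω
  have hval : ValuativeCriterion B.hom := by
    have : IsProper B.hom := inferInstance
    rw [IsProper.eq_valuativeCriterion] at this
    exact this.1.1.1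
  have hinj : ∀ a b : sp R W ⟶ B, spMap wΩ ≫ a = spMap wΩ ≫ b → a = b := by
    intro a b hab
    let S : ValuativeCommSq B.hom :=
      { R := W, K := Ω, i₁ := (spMap wΩ ≫ a).left, i₂ := Spec.map (CommRingCat.ofHom (algebraMap R W))
        commSq := ⟨by
          rw [Over.comp_left, Category.assoc, Over.w a]
          rfl⟩ }
    have h := hval.uniqueness S
    let l₁ : S.commSq.LiftStruct := ⟨a.left, rfl, Over.w a⟩
    let l₂ : S.commSq.LiftStruct := ⟨b.left, by
      show _ = (spMap wΩ ≫ a).left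
      rw [hab]; rfl, Over.w b⟩
    have := congrArg CommSq.LiftStruct.l (Subsingleton.elim l₁ l₂)
    exact Over.OverMorphism.ext this
  obtain ⟨yW, hyW⟩ : ∃ yW : sp R W ⟶ B, spMap wΩ ≫ yW = yΩ := by
    let S : ValuativeCommSq B.hom :=
      { R := W, K := Ω, i₁ := yΩ.left, i₂ := Spec.map (CommRingCat.ofHom (algebraMap R W))
        commSq := ⟨by
          rw [Over.w yΩ]
          dsimp
          rw [← Spec.map_comp, ← CommRingCat.ofHom_comp, ← IsScalarTower.algebraMap_eq]⟩ }
    obtain ⟨⟨l⟩⟩ := (hval.existence S)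
    refine ⟨Over.homMk l.l l.fac_right, ?_⟩
    ext1
    exact l.fac_left
  have hcommW : ∀ a b : sp R W ⟶ B, a * b = b * a := by
    intro a b
    apply hinj
    rw [MonObj.comp_mul, MonObj.comp_mul, hcommΩ]
  have hyWn : yW ^ n = 1 := by
    apply hinj
    rw [MonObj.comp_pow, hyW, hyΩ, MonObj.comp_one]
  -- the action of `σ` on `W`
  let σΩ : Ω →ₐ[R] Ω := (σ : Ω →ₐ[K] Ω).restrictScalars R
  let σW : W →ₐ[R] W :=
    { toFun := fun w => ⟨σ w.1, (hσ w.1 w.2).1⟩
      map_one' := Subtype.ext (map_one σ)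
      map_mul' := fun a b => Subtype.ext (map_mul σ a.1 b.1)
      map_zero' := Subtype.ext (map_zero σ)
      map_add' := fun a b => Subtype.ext (map_add σ a.1 b.1)
      commutes' := fun r => Subtype.ext (by
        show σ (algebraMap K Ω (algebraMap R K r)) = algebraMap K Ω (algebraMap R K r)
        exact σ.commutes _) }
  have hσ1 : wΩ.comp σW = σΩ.comp wΩ := by
    ext w
    rfl
  let π := Ideal.Quotient.mkₐ R (IsLocalRing.maximalIdeal W)
  have hσ2 : π.comp σW = π := by
    ext w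
    apply Ideal.Quotient.eq.2
    rw [ValuationSubring.valuation_lt_one_iff]
    exact (hσ w.1 w.2).2
  let z : sp R W ⟶ B := (spMap σW ≫ yW) * yW⁻¹
  have hz1 : z = 1 := by
    apply eq_one_of_pow_eq_one B z n
    · have := hn.map (algebraMap R W)
      rwa [map_natCast] at this
    · have : Commute (spMap σW ≫ yW) yW⁻¹ := hcommW _ _
      rw [this.mul_pow, inv_pow, hyWn, ← MonObj.comp_pow, hyWn, MonObj.comp_one, inv_one,
        _root_.mul_one]
    · show spMap π ≫ ((spMap σW ≫ yW) * yW⁻¹) = 1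
      rw [MonObj.comp_mul, GrpObj.comp_inv, ← Category.assoc, spMap_comp, hσ2, mul_inv_cancel]
  have hz2 : spMap σW ≫ yW = yW := mul_inv_eq_one.1 hz1
  have hz3 : spMap σΩ ≫ yΩ = yΩ := by
    rw [← hyW, ← Category.assoc, spMap_comp, ← hσ1, ← spMap_comp, Category.assoc, hz2]
  have hι : spMap σΩ ≫ ι₀ R K Ω = ι₀ R K Ω ≫ (Over.map (fRK R K)).map (specAut σ) := by
    ext1
    simp only [ι₀, Over.comp_left, Over.homMk_left, Over.map_map_left]
    erw [Category.comp_id]
  have hz4 : (Over.map (fRK R K)).map (specAut σ) ≫ Φ y = Φ y := by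
    have h1 : ι₁ R K Ω ≫ (spMap σΩ ≫ yΩ) = ι₁ R K Ω ≫ yΩ := by rw [hz3]
    dsimp only [yΩ] at h1
    rw [← Category.assoc (spMap σΩ), hι, Category.assoc, ← Category.assoc, ι₁_ι₀, Category.id_comp,
      ← Category.assoc, ι₁_ι₀, Category.id_comp] at h1
    exact h1
  apply Φ.injective
  rw [← hz4]
  exact adj.homEquiv_naturality_left_symm (specAut σ) y

/-- SGA 7 I, Exposé IX, Corollaire 2.2.9, direction (i) ⇒ (v bis) of the Néron–Ogg–Chafarévitch criterion (only this direction of the criterion is stated): let R be a discrete valuation ring with fraction field K and residue characteristic different from the prime ℓ, Ω a separable closure of K, W a valuation subring of Ω lying over R, and A an abelian variety over K (a proper, geometrically integral group scheme). If A extends to an abelian scheme over R (a proper smooth group scheme over Spec R with connected geometric fibres whose generic fibre is K-isomorphic to A), then for every ν every element of the inertia group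 at W fixes all the ℓ^ν-torsion Ω-points of A. -/
theorem result (R K Ω : Type u) [CommRing R] [IsDomain R] [IsDiscreteValuationRing R] [Field K]
    [Algebra R K] [IsFractionRing R K] [Field Ω] [Algebra K Ω] [IsSepClosure K Ω]
    (W : ValuationSubring Ω) (hW : SGA7.LiesOver K R W) (ℓ : ℕ) (hℓ : ℓ.Prime) (hℓp : (ℓ : IsLocalRing.ResidueField R) ≠ 0)
    (A : Over (Spec (CommRingCat.of K))) [GrpObj A] [IsProper A.hom] [GeometricallyIntegral A.hom]
    (hgood : (∃ (B : Over (Spec (CommRingCat.of R))) (_ : GrpObj B), IsProper B.hom ∧ Smooth B.hom ∧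
        (∀ (k' : Type u) [Field k'] (t : Spec (CommRingCat.of k') ⟶ Spec (CommRingCat.of R)), ConnectedSpace ↑(pullback B.hom t)) ∧
        Nonempty ((Over.pullback (Spec.map (CommRingCat.ofHom (algebraMap R K)))).obj B ≅ A))) :
    ∀ (ν : ℕ) (σ : Ω ≃ₐ[K] Ω), SGA7.IsInertia W σ → ∀ x : SGA7.Pts Ω A, x ^ (ℓ ^ ν) = 1 → SGA7.galAct σ x = x := by
  intro ν σ hσ x hx
  obtain ⟨B, _, hB, -, -, ⟨e⟩⟩ := hgood
  let G := (Over.pullback (fRK R K)).obj B
  letI : GrpObj G := Functor.grpObjObj
  have hG1 : IsProper G.hom := by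
    dsimp [G]
    infer_instance
  have hG2 : GeometricallyIntegral G.hom := by
    have h1 : GeometricallyIntegral (e.hom.left ≫ A.hom) := by
      rw [MorphismProperty.cancel_left_of_respectsIso @GeometricallyIntegral]
      infer_instance
    rwa [Over.w e.hom] at h1
  have hGc : IsCommMonObj G := isCommMonObj_of_isProper_of_geometricallyIntegral G
  let c : G ⟶ A := CartesianMonoidalCategory.toUnit G ≫ η[G] ≫ e.hom
  let h : G ⟶ A := e.hom * c⁻¹
  have hη : η[G] ≫ h = η[A] := by
    dsimp only [h]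
    rw [MonObj.comp_mul, GrpObj.comp_inv]
    have : η[G] ≫ c = η[G] ≫ e.hom := by
      dsimp only [c]
      rw [← Category.assoc, show η[G] ≫ CartesianMonoidalCategory.toUnit G = 𝟙 _ from
        CartesianMonoidalCategory.toUnit_unique _ _, Category.id_comp]
    rw [this, mul_inv_cancel, MonObj.one_eq_one]
  have hmul := mul_comp_of_pointed G A h hη
  have hpt : ∀ a b : pt Ω ⟶ G, (a * b) ≫ h = (a ≫ h) * (b ≫ h) := by
    intro a b
    rw [Hom.mul_def, Category.assoc, hmul, MonObj.comp_mul,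
      CartesianMonoidalCategory.lift_fst_assoc, CartesianMonoidalCategory.lift_snd_assoc]
  let c₀ : pt Ω ⟶ A := CartesianMonoidalCategory.toUnit _ ≫ η[G] ≫ e.hom
  have hc : ∀ a : pt Ω ⟶ G, a ≫ h = (a ≫ e.hom) * c₀⁻¹ := by
    intro a
    dsimp only [h, c, c₀]
    rw [MonObj.comp_mul, GrpObj.comp_inv, ← Category.assoc a,
      show a ≫ CartesianMonoidalCategory.toUnit G = CartesianMonoidalCategory.toUnit _ from
        CartesianMonoidalCategory.toUnit_unique _ _]
  have hinj : ∀ a b : pt Ω ⟶ G, a ≫ h = b ≫ h → a = b := by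
    intro a b hab
    rw [hc, hc] at hab
    exact (cancel_mono e.hom).1 (mul_right_cancel hab)
  let Ψ : (pt Ω ⟶ G) →* (pt Ω ⟶ A) := MonoidHom.mk' (fun a => a ≫ h) hpt
  let y : pt Ω ⟶ G := (x * c₀) ≫ e.inv
  have hy : y ≫ h = x := by
    rw [hc]
    dsimp only [y]
    rw [Category.assoc, e.inv_hom_id, Category.comp_id, mul_inv_cancel_right]
  have hyn : y ^ (ℓ ^ ν) = 1 := by
    apply hinj
    show Ψ (y ^ (ℓ ^ ν)) = Ψ 1
    rw [map_pow, map_one]
    show (y ≫ h) ^ _ = 1
    rw [hy, hx]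
  have hunit : IsUnit ((ℓ ^ ν : ℕ) : R) := by
    rw [Nat.cast_pow]
    apply IsUnit.pow
    by_contra hcon
    apply hℓp
    have : IsLocalRing.residue R (ℓ : R) = 0 := (IsLocalRing.residue_eq_zero_iff _).2 hcon
    rwa [map_natCast] at this
  have key := main W hW (ℓ ^ ν) hunit B (fun a b => mul_comm a b) σ hσ y hyn
  show specAut σ ≫ x = x
  rw [← hy, ← Category.assoc, key]

end Groth.Agent.S3210
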