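import Groth.Statements.S3212
import Groth.Agent.Sga67.QLinear

set_option autoImplicit false
universe u v
open SGA7II

namespace Groth.Agent.S3212

/-- SGA 7 II XXII 1.1: let k be a separably closed field of characteristic p > 0, q = p^r (r >= 1), V a finite-dimensional k-vector space and phi : V -> V an additive map with phi(c v) = c^q phi(v) (a q-linear endomorphism). If phi is semisimple, i.e. its image spans V over k, then V has a k-basis consisting of fixed vectors of phi, and the coordinates of every fixed vector in such a basis satisfy c^q = c (so V is obtained from the F_q-space of fixed vectors by extension of scalars). -/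
theorem result (k : Type u) [Field k] [IsSepClosed k] (p : ℕ)
    [Fact p.Prime] [CharP k p] (r : ℕ) (hr : 0 < r) (V : Type v) [AddCommGroup V] [Module k V]
    [FiniteDimensional k V] (φ : V →+ V) (hφ : ∀ (c : k) (v : V), φ (c • v) = c ^ (p ^ r) • φ v)
    (hss : Submodule.span k (Set.range φ) = ⊤) :
    ∃ b : Module.Basis (Fin (Module.finrank k V)) k V, (∀ i, φ (b i) = b i) ∧
      ∀ v : V, φ v = v → ∀ i, (b.repr v i) ^ (p ^ r) = b.repr v i := by
  have h1 : 1 < p ^ r := Nat.one_lt_pow (by omega) (Fact.out : p.Prime).one_lt
  have hq : ((p ^ r : ℕ) : k) = 0 := by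
    rw [Nat.cast_pow, CharP.cast_eq_zero, zero_pow (by omega)]
  exact Groth.Agent.Sga67.QLinear.exists_basis_fixed (p ^ r) h1 hq φ hφ hss

end Groth.Agent.S3212
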