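import Groth.Statements.S3214
-- import your own Groth.Agent.* helpers here
import Mathlib.RingTheory.Polynomial.Vieta
import Mathlib.Algebra.Polynomial.RingDivision
import Mathlib.Tactic

set_option autoImplicit false
open Polynomial
universe u
open SGA7II

namespace Groth.Agent.S3214

/-- SGA 7 II XVII 5.4, in the recursive form established in its proof: let A = Z[X_1, ..., X_a] (a >= 1), P = prod_i (T - X_i) in A[T] and S_i the i-th elementary symmetric function. Writing a_j for the coefficient of T^{a-1} in the remainder of T^{a-1+j} modulo P, one has a_0 = 1 and sum_{i=0}^{a} (-1)^i S_i a_{j-i} = 0 for every j > 0 (with a_m = 0 for m < 0); equivalently sum_j (-1)^j a_j is the inverse of sum_i S_i. (The source works in formal power series; the identity involves only polynomials.) -/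
theorem result (a : ℕ) (ha : 0 < a) :
    let P : (MvPolynomial (Fin a) ℤ)[X] := ∏ i : Fin a, (X - C (MvPolynomial.X i))
    let coef : ℤ → MvPolynomial (Fin a) ℤ := fun j =>
      if j < 0 then 0 else ((X : (MvPolynomial (Fin a) ℤ)[X]) ^ (a - 1 + j.toNat) %ₘ P).coeff (a - 1)
    coef 0 = 1 ∧ ∀ j : ℕ, 0 < j →
      (∑ i ∈ Finset.range (a + 1), (-1 : MvPolynomial (Fin a) ℤ) ^ i * MvPolynomial.esymm (Fin a) ℤ i *
        coef ((j : ℤ) - i)) = 0 := by
  intro P coef
  have hmonic : P.Monic := monic_prod_of_monic _ _ fun i _ => monic_X_sub_C _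
  have hnat : P.natDegree = a := by
    rw [show P = ∏ i : Fin a, (X - C (MvPolynomial.X i)) from rfl,
      natDegree_prod_of_monic _ _ fun i _ => monic_X_sub_C _]
    simp
  have hdeg : P.degree = a := by rw [degree_eq_natDegree hmonic.ne_zero, hnat]
  -- small powers are their own remainders
  have hsmall : ∀ k : ℕ, k < a → (X : (MvPolynomial (Fin a) ℤ)[X]) ^ k %ₘ P = X ^ k := by
    intro k hk
    rw [modByMonic_eq_self_iff hmonic, hdeg, degree_X_pow]
    exact_mod_cast hk
  have hexp : P = ∑ i ∈ Finset.range (a + 1), C ((-1 : MvPolynomial (Fin a) ℤ) ^ i * MvPolynomial.esymm (Fin a) ℤ i) * X ^ (a - i) := by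
    have h := Multiset.prod_X_sub_X_eq_sum_esymm (Finset.univ.val.map fun i : Fin a => (MvPolynomial.X i : MvPolynomial (Fin a) ℤ))
    rw [Multiset.map_map] at h
    have hc : Multiset.card (Finset.univ.val.map fun i : Fin a => (MvPolynomial.X i : MvPolynomial (Fin a) ℤ)) = a := by
      simp
    rw [hc] at h
    change (Multiset.map _ _).prod = _
    refine Eq.trans h ?_
    refine Finset.sum_congr rfl fun i _ => ?_
    rw [MvPolynomial.esymm_eq_multiset_esymm]
    simp [mul_assoc]
  constructor
  · simp only [coef, lt_irrefl, if_false, Int.toNat_zero, add_zero]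
    rw [hsmall _ (by omega), coeff_X_pow]
    simp
  · intro j hj
    have hz : (X ^ (j - 1) * P) %ₘ P = 0 := by
      rw [modByMonic_eq_zero_iff_dvd hmonic]
      exact dvd_mul_left _ _
    have h2 : X ^ (j - 1) * P = ∑ i ∈ Finset.range (a + 1), ((-1 : MvPolynomial (Fin a) ℤ) ^ i * MvPolynomial.esymm (Fin a) ℤ i) • (X : (MvPolynomial (Fin a) ℤ)[X]) ^ (j - 1 + (a - i)) := by
      conv_lhs => rw [hexp]
      rw [Finset.mul_sum]
      refine Finset.sum_congr rfl fun i _ => ?_
      rw [smul_eq_C_mul, pow_add]; ring
    rw [h2] at hz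
    have h3 := congrArg (fun p => coeff p (a - 1)) (show modByMonicHom P _ = 0 from hz)
    simp only [map_sum, map_smul, modByMonicHom_apply, finsetSum_coeff, coeff_smul, coeff_zero, smul_eq_mul] at h3
    rw [← h3]
    refine Finset.sum_congr rfl fun i hi => ?_
    rw [Finset.mem_range] at hi
    congr 1
    by_cases hij : (j : ℤ) - i < 0
    · simp only [coef, hij, if_true]
      rw [hsmall _ (by omega), coeff_X_pow, if_neg (by omega)]
    · simp only [coef, hij, if_false]
      congr 3
      omega

end Groth.Agent.S3214
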