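import Groth.Statements.S3215
import Groth.Agent.Sga67.QuadSplit2

set_option autoImplicit false
universe u
open SGA7II

namespace Groth.Agent.S3215

/-- SGA 7 II XII 1.2, even rank: let A be a commutative ring and Q(x) = sum over pairs i <= j of a_{ij} x_i x_j a quadratic form in 2m variables on the free module A^{2m} (the source allows a locally free module, which is free Zariski-locally; the variables indexed by two copies of Fin m, ordered first copy then second), whose polar bilinear form (matrix entries 2a_{ii} on the diagonal, a_{ij} for i < j) has invertible determinant (Q is ordinary). Then there are finitely many etale A-algebras B_t whose spectra jointly cover Spec A and, over each B_t, an invertible matrix g with Q(g x) = sum_j x_j x_{m+j}, the split form. -/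
theorem result (A : Type u) [CommRing A] (m : ℕ)
    (a : (Fin m ⊕ Fin m) → (Fin m ⊕ Fin m) → A) :
    let rk : Fin m ⊕ Fin m → ℕ := Sum.elim Fin.val (fun k => m + k.val)
    let QB : ∀ (B : Type u) [CommRing B] [Algebra A B], ((Fin m ⊕ Fin m) → B) → B :=
      fun B _ _ x => ∑ i, ∑ j, if rk i ≤ rk j then algebraMap A B (a i j) * x i * x j else 0
    IsUnit (Matrix.det (Matrix.of fun i j : Fin m ⊕ Fin m =>
      if i = j then a i i + a i i else if rk i ≤ rk j then a i j else a j i)) →
    ∃ (n : ℕ) (B : Fin n → Type u) (_ : ∀ t, CommRing (B t)) (_ : ∀ t, Algebra A (B t)),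
      (∀ t, Algebra.Etale A (B t)) ∧
      (∀ p : PrimeSpectrum A, ∃ (t : Fin n) (q : PrimeSpectrum (B t)),
        q.asIdeal.comap (algebraMap A (B t)) = p.asIdeal) ∧
      ∀ t, ∃ g : Matrix (Fin m ⊕ Fin m) (Fin m ⊕ Fin m) (B t), IsUnit g.det ∧
        ∀ x : Fin m ⊕ Fin m → B t, QB (B t) (g.mulVec x) = ∑ j : Fin m, x (Sum.inl j) * x (Sum.inr j) := by
  classical
  intro rk QB hC
  have hrk : Function.Injective rk := by
    intro i j hij
    rcases i with i | i <;> rcases j with j | j <;> simp only [rk, Sum.elim_inl, Sum.elim_inr] at hij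
    · exact congrArg Sum.inl (Fin.ext hij)
    · omega
    · omega
    · exact congrArg Sum.inr (Fin.ext (by omega))
  let M : Matrix (Fin m ⊕ Fin m) (Fin m ⊕ Fin m) A :=
    Matrix.of fun i j => if rk i ≤ rk j then a i j else 0
  have hM : M + M.transpose = Matrix.of fun i j : Fin m ⊕ Fin m =>
      if i = j then a i i + a i i else if rk i ≤ rk j then a i j else a j i := by
    ext i j
    simp only [M, Matrix.add_apply, Matrix.transpose_apply, Matrix.of_apply]
    by_cases hij : i = j
    · subst hij
      simp
    · rw [if_neg hij]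
      have hne : rk i ≠ rk j := fun h => hij (hrk h)
      rcases lt_or_gt_of_ne hne with h | h
      · rw [if_pos h.le, if_neg (by omega), if_pos h.le, add_zero]
      · rw [if_neg (by omega), if_pos h.le, if_neg (by omega), zero_add]
  rw [← hM] at hC
  obtain ⟨n, B, i1, i2, h1, h2, h3⟩ :=
    Groth.Agent.Sga67.QuadSplit.exists_etale_cover_split m (Fin m ⊕ Fin m)
      (by rw [Fintype.card_sum, Fintype.card_fin]; ring) M hC
  refine ⟨n, B, i1, i2, h1, h2, fun t => ?_⟩
  obtain ⟨g, g', hg1, hg2, hg3⟩ := h3 t
  refine ⟨g, ?_, fun x => ?_⟩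
  · have := congrArg Matrix.det hg1
    rw [Matrix.det_mul, Matrix.det_one] at this
    exact IsUnit.of_mul_eq_one _ this
  · have hQB : ∀ y : (Fin m ⊕ Fin m) → B t, QB (B t) y =
        dotProduct y ((M.map (algebraMap A (B t))).mulVec y) := by
      intro y
      simp only [QB, dotProduct, Matrix.mulVec, Finset.mul_sum]
      refine Finset.sum_congr rfl fun i _ => Finset.sum_congr rfl fun j _ => ?_
      simp only [M, Matrix.map_apply, Matrix.of_apply]
      split_ifs with h
      · ring
      · simp
    have h4 := hg3.dotProduct_mulVec x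
    rw [Matrix.sub_mulVec, dotProduct_sub, sub_eq_zero] at h4
    rw [hQB]
    have h5 : dotProduct (g.mulVec x) ((M.map (algebraMap A (B t))).mulVec (g.mulVec x)) =
        dotProduct x ((g.transpose * M.map (algebraMap A (B t)) * g).mulVec x) := by
      rw [← Matrix.mulVec_mulVec, ← Matrix.mulVec_mulVec, Matrix.dotProduct_mulVec x,
        Matrix.vecMul_transpose]
    rw [h5, h4]
    simp only [dotProduct, Matrix.mulVec, Fintype.sum_sum_type, Matrix.fromBlocks_apply₁₁,
      Matrix.fromBlocks_apply₁₂, Matrix.fromBlocks_apply₂₁, Matrix.fromBlocks_apply₂₂,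
      Matrix.zero_apply, zero_mul, Finset.sum_const_zero, zero_add, add_zero, mul_zero,
      Matrix.one_apply, ite_mul, one_mul, Finset.sum_ite_eq, Finset.mem_univ, if_true]

end Groth.Agent.S3215
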