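import Groth.Statements.S3256
import Groth.Agent.Dix.GoodFibres
import Groth.Agent.Dix.QFSurfaceGen
import Groth.Agent.Dix.FibreMin
-- import your own Groth.Agent.* helpers here

set_option autoImplicit false
universe u
open AlgebraicGeometry CategoryTheory CategoryTheory.Limits
open ArSurf

namespace Groth.Agent.S3256

open Groth.Agent.Dix.GenFibre Groth.Agent.Dix.FibreMin Groth.Agent.Dix

/-- The residue field extension at the generic point is algebraic for a birational morphism. -/
theorem isAlgebraic_of_isIso {X Y : Scheme.{u}} (g : X ⟶ Y) (x : X) [IsIso (g.stalkMap x)] :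
    letI := (g.residueFieldMap x).hom.toAlgebra
    Algebra.IsAlgebraic (Y.residueField (g x)) (X.residueField x) := by
  let _ := (g.residueFieldMap x).hom.toAlgebra
  refine ⟨fun a => ?_⟩
  obtain ⟨b, rfl⟩ := X.residue_surjective x a
  obtain ⟨c, rfl⟩ := ((ConcreteCategory.isIso_iff_bijective (g.stalkMap x)).mp inferInstance).2 b
  have h1 : X.residue x (g.stalkMap x c) = algebraMap (Y.residueField (g x)) (X.residueField x)
      (Y.residue (g x) c) := rfl
  change IsAlgebraic _ (X.residue x (g.stalkMap x c))
  rw [h1]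
  exact isAlgebraic_algebraMap _

/-- A morphism of proper flat regular schemes which is an isomorphism on generic fibres and does not contract
anything is an isomorphism. -/
theorem isIso_of_forall {R : Type u} [CommRing R] [IsDedekindDomain R]
    (X Y : Over (Spec (CommRingCat.of R))) [IsIntegral X.left] [IsIntegral Y.left] [Flat X.hom] [Flat Y.hom]
    [IsProper X.hom] [IsProper Y.hom]
    (hYreg : ∀ y : Y.left, IsRegularLocalRing (Y.left.presheaf.stalk y)) (g : X ⟶ Y)
    [IsIso ((Neron.genericFibre R).map g)]
    (H : ∀ x x' : X.left, x' ⤳ x → g.left x' = g.left x → x' = x) : IsIso g := by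
  have hw : g.left ≫ Y.hom = X.hom := Over.w g
  have hgprop : IsProper g.left := by
    have : IsProper (g.left ≫ Y.hom) := by rw [hw]; infer_instance
    exact MorphismProperty.of_postcomp (W := @IsProper) (W' := @IsSeparated) g.left Y.hom
      inferInstance this
  have hdom : IsDominant g.left := isDominant_of_isIso_genericFibre g
  have hgen : g.left (genericPoint X.left) = genericPoint Y.left := map_genericPoint g.left
  have hbir : IsIso (g.left.stalkMap (genericPoint X.left)) := isIso_stalkMap_genericPoint g
  have hRded : IsDedekindDomain (CommRingCat.of R) := inferInstanceAs (IsDedekindDomain R)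
  have hlnS : IsLocallyNoetherian (Spec (CommRingCat.of R)) := inferInstance
  have hlqf : LocallyQuasiFinite g.left := locallyQuasiFinite_of_specializes_eq g.left H
  have hopen : IsOpenImmersion g.left :=
    Groth.Agent.Ega3B.NormalBirational.isOpenImmersion_of_birational
      (fun y => Groth.Agent.CurvesC.RegNormal.isIntegrallyClosed _) g.left hgen hbir
  have hsurj : Surjective g.left := by
    constructor
    rw [← Set.range_eq_univ, ← g.left.isClosedMap.isClosed_range.closure_eq]
    exact hdom.denseRange.closure_range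
  have hiso : IsIso g.left := (isIso_iff_isOpenImmersion_and_surjective g.left).mpr ⟨hopen, hsurj⟩
  have : IsIso ((Over.forget _).map g) := hiso
  exact isIso_of_reflects_iso g (Over.forget _)

/-- AGAC 9.3.19: let R be a Dedekind domain and X an arithmetic surface over Spec R. Then there are a relatively minimal arithmetic surface Y over Spec R and an R-morphism X -> Y inducing an isomorphism on generic fibres. -/
theorem result {R : Type u} [CommRing R] [IsDedekindDomain R]
    (X : Over (Spec (CommRingCat.of R))) (hX : ArSurf.IsArithSurface R X) :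
    ∃ (Y : Over (Spec (CommRingCat.of R))) (f : X ⟶ Y), ArSurf.IsArithSurface R Y ∧
      Neron.IsRelMinimalRegularModel R Y ∧ IsIso ((Neron.genericFibre R).map f) := by
  have hRded : IsDedekindDomain (CommRingCat.of R) := inferInstanceAs (IsDedekindDomain R)
  have hlnS : IsLocallyNoetherian (Spec (CommRingCat.of R)) := inferInstance
  obtain ⟨hXreg, hXint, hXdim, hXflat, hXproj⟩ := id hX
  have hXprop : IsProper X.hom := isProper_of_isProjectiveOver hXproj
  have hlnX : IsLocallyNoetherian X.left := LocallyOfFiniteType.isLocallyNoetherian X.hom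
  obtain ⟨r, hr0, hr⟩ := GoodFibres.exists_good (R := CommRingCat.of R) X.hom
    (fun z => Groth.Agent.CurvesC.RegNormal.isIntegrallyClosed _)
  suffices H : ∀ (n : ℕ) (Y : Over (Spec (CommRingCat.of R))) (f : X ⟶ Y), ArSurf.IsArithSurface R Y →
      IsIso ((Neron.genericFibre R).map f) →
      {y : Y.left | Y.hom y ∈ {s : Spec (CommRingCat.of R) | r ∈ s.asIdeal} ∧ IsMinPt Y.hom y}.ncard = n →
      ∃ (Z : Over (Spec (CommRingCat.of R))) (g : Y ⟶ Z), ArSurf.IsArithSurface R Z ∧
        Neron.IsRelMinimalRegularModel R Z ∧ IsIso ((Neron.genericFibre R).map g) by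
    refine H _ X (𝟙 X) hX ?_ rfl
    rw [(Neron.genericFibre R).map_id]
    infer_instance
  intro n
  induction n using Nat.strong_induction_on with
  | _ n ih =>
  intro Y f hY hf hn
  obtain ⟨hYreg, hYint, hYdim, hYflat, hYproj⟩ := id hY
  have hYprop : IsProper Y.hom := isProper_of_isProjectiveOver hYproj
  have hlnY : IsLocallyNoetherian Y.left := LocallyOfFiniteType.isLocallyNoetherian Y.hom
  by_cases hmin : Neron.IsRelMinimalRegularModel R Y
  · refine ⟨Y, 𝟙 Y, hY, hmin, ?_⟩
    rw [(Neron.genericFibre R).map_id]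
    infer_instance
  -- there is a non-trivial contraction
  obtain ⟨Z, hZreg, hZproj, hZflat, g, hg, hgiso⟩ : ∃ (Z : Over (Spec (CommRingCat.of R))),
      (∀ z : Z.left, IsRegularLocalRing (Z.left.presheaf.stalk z)) ∧ Neron.IsProjectiveOver R Z ∧
      Flat Z.hom ∧ ∃ g : Y ⟶ Z, IsIso ((Neron.genericFibre R).map g) ∧ ¬ IsIso g := by
    by_contra hcon
    apply hmin
    refine ⟨hYreg, hYproj, hYflat, fun Z h1 h2 h3 g hg => ?_⟩
    by_contra h4
    exact hcon ⟨Z, h1, h2, h3, g, hg, h4⟩
  have hZint : IsIntegral Z.left := isIntegral_of_isIso_genericFibre g hZreg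
  have hZprop : IsProper Z.hom := isProper_of_isProjectiveOver hZproj
  have hlnZ : IsLocallyNoetherian Z.left := LocallyOfFiniteType.isLocallyNoetherian Z.hom
  have proper_left : ∀ {A B : Over (Spec (CommRingCat.of R))} (h : A ⟶ B) [IsProper A.hom] [IsProper B.hom],
      IsProper h.left := by
    intro A B h _ _
    have : IsProper (h.left ≫ B.hom) := by rw [Over.w h]; infer_instance
    exact MorphismProperty.of_postcomp (W := @IsProper) (W' := @IsSeparated) h.left B.hom
      inferInstance this
  have hgprop : IsProper g.left := proper_left g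
  have hfprop : IsProper f.left := proper_left f
  have hgdom : IsDominant g.left := isDominant_of_isIso_genericFibre g
  have hfdom : IsDominant f.left := isDominant_of_isIso_genericFibre f
  have surj : ∀ {A B : Scheme.{u}} (h : A ⟶ B) [IsProper h] [IsDominant h], Function.Surjective h := by
    intro A B h _ _
    rw [← Set.range_eq_univ, ← h.isClosedMap.isClosed_range.closure_eq]
    exact h.denseRange.closure_range
  have hgsurj : Function.Surjective g.left := surj g.left
  have hfsurj : Function.Surjective f.left := surj f.left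
  have hggen : g.left (genericPoint Y.left) = genericPoint Z.left := map_genericPoint g.left
  have hgbir : IsIso (g.left.stalkMap (genericPoint Y.left)) := isIso_stalkMap_genericPoint g
  have hgw : ∀ y, Z.hom (g.left y) = Y.hom y := fun y => congr($(Over.w g) y)
  have hfw : ∀ x, Y.hom (f.left x) = X.hom x := fun x => congr($(Over.w f) x)
  -- no contraction over points with small local rings
  have hsmall : ∀ y y' : Y.left, y' ⤳ y → g.left y' = g.left y →
      ringKrullDim (Z.left.presheaf.stalk (g.left y)) ≤ 1 → y' = y := by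
    intro y y' h1 h2 h3
    exact CycB.FinCodimOne.eq_of_specializes_of_map_eq g.left hggen (isAlgebraic_of_isIso g.left _)
      y' y h1 h2 h3
  -- the dimension of `Z`
  have hZdim : topologicalKrullDim Z.left = 2 := by
    have h1 : topologicalKrullDim Z.left ≤ 2 := by
      rw [← hYdim]
      exact DimClosed.topologicalKrullDim_le_of_isClosedMap g.left g.left.isClosedMap hgsurj
    refine le_antisymm h1 ?_
    by_contra hcon
    have h2 : topologicalKrullDim Z.left ≤ 1 := by
      rw [not_le] at hcon
      have h6 : topologicalKrullDim Z.left < ((1 : ℕ) : WithBot ℕ∞) + 1 := by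
        rw [show ((1 : ℕ) : WithBot ℕ∞) + 1 = 2 by norm_num]
        exact hcon
      have h7 := ENat.WithBot.lt_add_one_iff.mp h6
      exact_mod_cast h7
    have h3 : topologicalKrullDim Y.left ≤ topologicalKrullDim Z.left := by
      apply Desc.DimMap.topologicalKrullDim_le_of_fibres g.left g.left.continuous
      intro y' y h4 h5
      exact hsmall y y' h4 h5 ((CurvesB.DimPts.ringKrullDim_stalk_le _).trans h2)
    rw [hYdim] at h3
    exact hcon h3
  have hZ : ArSurf.IsArithSurface R Z := ⟨hZreg, hZint, hZdim, hZflat, hZproj⟩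
  -- a contracted curve
  obtain ⟨y, y', hyy', hgy, hne⟩ : ∃ y y' : Y.left, y' ⤳ y ∧ g.left y' = g.left y ∧ y' ≠ y := by
    by_contra hcon
    push Not at hcon
    exact hgiso (isIso_of_forall Y Z hZreg g hcon)
  have hpy : Y.hom y' = Y.hom y := by rw [← hgw, ← hgw, hgy]
  have hsy : (Y.hom y).asIdeal ≠ ⊥ := by
    intro h0
    exact hne (injOn_generic g (by rw [hpy]; exact h0) h0 hgy)
  -- lift to `X`
  obtain ⟨x', rfl⟩ := hfsurj y'
  obtain ⟨x, hx'x, rfl⟩ : ∃ x, x' ⤳ x ∧ f.left x = y := by
    have h1 : y ∈ closure {f.left x'} := specializes_iff_mem_closure.mp hyy'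
    have h2 : closure {f.left x'} ⊆ f.left '' closure {x'} :=
      closure_minimal (Set.singleton_subset_iff.mpr ⟨x', subset_closure rfl, rfl⟩)
        (f.left.isClosedMap _ isClosed_closure)
    obtain ⟨x, hx, hfx⟩ := h2 h1
    exact ⟨x, specializes_iff_mem_closure.mpr hx, hfx⟩
  have hxne : x' ≠ x := by
    rintro rfl
    exact hne rfl
  have hmingen : ∀ (W : Over (Spec (CommRingCat.of R))) (_ : IsIntegral W.left) (_ : Flat W.hom)
      (_ : topologicalKrullDim W.left ≤ 2) (w w' : W.left), w' ⤳ w → w' ≠ w →
      (W.hom w').asIdeal ≠ ⊥ → IsMinPt W.hom w' := by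
    intro W _ _ hWdim w w' h1 h2 h3 z hz hpz
    by_contra hzne
    refine QFSurfaceAlg.false_of_chain hWdim ((genericPoint_spec W.left).specializes trivial) hz h1 ?_
      hzne h2
    intro h4
    apply h3
    rw [← hpz, ← h4]
    exact asIdeal_hom_genericPoint W
  have hrs : r ∈ (Y.hom (f.left x)).asIdeal := by
    by_contra hcon
    rw [hfw] at hcon hsy
    apply hxne
    have hpxx : X.hom x' = X.hom x := by rw [← hfw, ← hfw, hpy]
    have hmax : (X.hom x).asIdeal.IsMaximal := by
      have : (X.hom x).asIdeal.IsPrime := (X.hom x).isPrime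
      exact this.isMaximal hsy
    have hfg : IsIso ((Neron.genericFibre R).map (f ≫ g)) := by
      rw [Functor.map_comp]; infer_instance
    have hfgprop : IsProper (f ≫ g).left := proper_left (f ≫ g)
    have hfgdom : IsDominant (f ≫ g).left := isDominant_of_isIso_genericFibre (f ≫ g)
    refine QFSurfaceGen.eq_of_specializes_of_eq (R := CommRingCat.of R) X.hom hXreg hXdim.le (f ≫ g).left
      Z.hom (Over.w _) (f ≫ g).left.isClosedMap (map_genericPoint _)
      (isIso_stalkMap_genericPoint (f ≫ g)) (asIdeal_hom_genericPoint X) hx'x hsy ?_ ?_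
    · exact hgy
    · intro e w he hwe hpw
      have hpe : X.hom e = X.hom x := by
        have h1 : X.hom x' ⤳ X.hom e := he.map X.hom.continuous
        rw [hpxx] at h1
        apply PrimeSpectrum.ext
        exact (hmax.eq_of_le (X.hom e).isPrime.ne_top ((PrimeSpectrum.le_iff_specializes _ _).mpr h1)).symm
      have hmin' := hmingen X hXint hXflat hXdim.le x x' hx'x hxne (by rw [hpxx]; exact hsy)
      exact hr e w x' (by rw [hpw, hpe]) (by rw [hpxx, hpe]) (by rw [hpe]; exact hcon) hwe he
        (fun z hz hpz => hmin' z hz (by rw [hpz, hpe, hpxx]))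
  -- count
  have hFfin : {s : Spec (CommRingCat.of R) | r ∈ s.asIdeal}.Finite := finite_primes r hr0
  have hTY := finite_isMinPt Y.hom _ hFfin
  have hy'min : IsMinPt Y.hom (f.left x') :=
    hmingen Y hYint hYflat hYdim.le _ _ hyy' hne (by rw [hpy]; exact hsy)
  have hsub : {z : Z.left | Z.hom z ∈ {s : Spec (CommRingCat.of R) | r ∈ s.asIdeal} ∧ IsMinPt Z.hom z} ⊆
      g.left '' ({y : Y.left | Y.hom y ∈ {s : Spec (CommRingCat.of R) | r ∈ s.asIdeal} ∧
        IsMinPt Y.hom y} \ {f.left x'}) := by
    rintro z ⟨hz1, hz2⟩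
    obtain ⟨y₁, rfl⟩ := hgsurj z
    obtain ⟨w, hw1, hw2, hw3⟩ := exists_isMinPt Y.hom y₁
    have hgw' : g.left w = g.left y₁ := hz2 _ (hw1.map g.left.continuous) (by rw [hgw, hgw, hw2])
    refine ⟨w, ⟨⟨?_, hw3⟩, ?_⟩, hgw'⟩
    · rw [hw2, ← hgw]
      exact hz1
    · rintro rfl
      apply hne
      apply hsmall _ _ hyy' hgy
      rw [← hgy, hgw']
      exact ringKrullDim_stalk_le_one (R := CommRingCat.of R) Z.hom _ hz2 r hr0 hz1
  have hlt : {z : Z.left | Z.hom z ∈ {s : Spec (CommRingCat.of R) | r ∈ s.asIdeal} ∧
      IsMinPt Z.hom z}.ncard < n := by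
    rw [← hn]
    calc _ ≤ _ := Set.ncard_le_ncard hsub ((hTY.sdiff).image _)
      _ ≤ _ := Set.ncard_image_le hTY.sdiff
      _ < _ := Set.ncard_sdiff_singleton_lt_of_mem ⟨by rw [Set.mem_ofPred_eq, hpy]; exact hrs, hy'min⟩ hTY
  obtain ⟨W, h, hW1, hW2, hW3⟩ := ih _ hlt Z (f ≫ g) hZ (by rw [Functor.map_comp]; infer_instance) rfl
  exact ⟨W, g ≫ h, hW1, hW2, by rw [Functor.map_comp]; infer_instance⟩

end Groth.Agent.S3256
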