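import Groth.Statements.S3257
import Groth.Agent.Dix.BlowIrrMain
import Groth.Agent.Dix.SurfBasic

set_option autoImplicit false
universe u
open AlgebraicGeometry CategoryTheory CategoryTheory.Limits
open ArSurf

namespace Groth.Agent.S3257

/-- AGAC 9.2.3: let R be a Dedekind domain, X and Y arithmetic surfaces over Spec R, f : X -> Y an R-morphism and y a closed point of Y such that f restricts to an isomorphism over Y minus y while the fibre of f over y is irreducible and has more than one point (so the exceptional locus of the birational morphism f is irreducible). Then f is the blowing-up of Y at y: it has the universal property of the blow-up along the ideal of the reduced closed point y (BlowUp.IsBlowUp). (The factorization result of the source says more generally that every birational morphism of regular fibered surfaces is a finite sequence of blow-ups of closed points.) -/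
theorem result {R : Type u} [CommRing R] [IsDedekindDomain R]
    (X Y : Over (Spec (CommRingCat.of R))) (hX : ArSurf.IsArithSurface R X) (hY : ArSurf.IsArithSurface R Y)
    (f : X ⟶ Y) (y : Y.left) (hy : IsClosed ({y} : Set Y.left))
    (hiso : IsIso (f.left ∣_ (⟨{y}ᶜ, hy.isOpen_compl⟩ : Y.left.Opens)))
    (hirr : IsPreirreducible (f.left.base ⁻¹' {y}))
    (hbig : ∃ x x' : X.left, x ≠ x' ∧ f.left.base x = y ∧ f.left.base x' = y) :
    BlowUp.IsBlowUp f.left (Scheme.IdealSheafData.vanishingIdeal ⟨{y}, hy⟩) := by
  have hXi := hX.2.1
  have hYi := hY.2.1
  have h1 := Groth.Agent.Dix.SurfBasic.isProper_left hX hY f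
  have h2 := Groth.Agent.Dix.SurfBasic.isNoetherian hX
  have h3 := Groth.Agent.Dix.SurfBasic.isNoetherian hY
  exact Groth.Agent.Dix.BlowIrr.main f.left y hy hX.1 hY.1
    (Groth.Agent.Dix.SurfBasic.coheight_le hX) (Groth.Agent.Dix.SurfBasic.coheight_le hY y)
    (Groth.Agent.Dix.SurfBasic.genericPoint_ne hY y hy) hiso hirr hbig

end Groth.Agent.S3257
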