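import Groth.Statements.S3258
import Groth.Agent.Dix.GenFibre
import Groth.Agent.Dix.QFSurface
-- import your own Groth.Agent.* helpers here

set_option autoImplicit false
universe u
open AlgebraicGeometry CategoryTheory CategoryTheory.Limits
open ArSurf

namespace Groth.Agent.S3258

open Groth.Agent.Dix.GenFibre Groth.Agent.Dix.QFSurface

/-- AGAC Example 9.3.15: let R be a Dedekind domain and X an arithmetic surface over Spec R (regular, integral, 2-dimensional, flat, projective) which is smooth over Spec R. Then X is relatively minimal: every R-morphism from X to a regular projective flat R-scheme that is an isomorphism on generic fibres is an isomorphism. -/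
theorem result {R : Type u} [CommRing R] [IsDedekindDomain R]
    (X : Over (Spec (CommRingCat.of R))) (hX : ArSurf.IsArithSurface R X) [Smooth X.hom] :
    Neron.IsRelMinimalRegularModel R X := by
  obtain ⟨hreg, hint, hdim, hflat, hproj⟩ := hX
  refine ⟨hreg, hproj, hflat, fun Y hYreg hYproj hYflat g hgiso => ?_⟩
  have hXprop : IsProper X.hom := isProper_of_isProjectiveOver hproj
  have hYprop : IsProper Y.hom := isProper_of_isProjectiveOver hYproj
  have hYint : IsIntegral Y.left := isIntegral_of_isIso_genericFibre g hYreg
  have hw : g.left ≫ Y.hom = X.hom := Over.w g
  have hgprop : IsProper g.left := by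
    have : IsProper (g.left ≫ Y.hom) := by rw [hw]; exact hXprop
    exact MorphismProperty.of_postcomp (W := @IsProper) (W' := @IsSeparated) g.left Y.hom
      inferInstance this
  have hdom : IsDominant g.left := isDominant_of_isIso_genericFibre g
  have hgen : g.left (genericPoint X.left) = genericPoint Y.left := map_genericPoint g.left
  have hbir : IsIso (g.left.stalkMap (genericPoint X.left)) := isIso_stalkMap_genericPoint g
  have hRded : IsDedekindDomain (CommRingCat.of R) := inferInstanceAs (IsDedekindDomain R)
  have hlnS : IsLocallyNoetherian (Spec (CommRingCat.of R)) := inferInstance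
  have hlnX : IsLocallyNoetherian X.left := LocallyOfFiniteType.isLocallyNoetherian X.hom
  have hlqf : LocallyQuasiFinite g.left := by
    apply locallyQuasiFinite_of_specializes_eq
    intro x x' h hxx'
    have hpx : X.hom x' = X.hom x := by
      rw [← hw]
      exact congrArg Y.hom hxx'
    by_cases hs : (X.hom x).asIdeal = ⊥
    · exact injOn_generic g (by rw [hpx]; exact hs) hs hxx'
    · exact eq_of_specializes_of_eq X.hom hdim.le g.left Y.hom hw g.left.isClosedMap hgen hbir
        (asIdeal_hom_genericPoint X) h hs hxx'
  have hopen : IsOpenImmersion g.left :=
    Groth.Agent.Ega3B.NormalBirational.isOpenImmersion_of_birational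
      (fun y => Groth.Agent.CurvesC.RegNormal.isIntegrallyClosed _) g.left hgen hbir
  have hsurj : Surjective g.left := by
    constructor
    rw [← Set.range_eq_univ, ← g.left.isClosedMap.isClosed_range.closure_eq]
    exact hdom.denseRange.closure_range
  have hiso : IsIso g.left := (isIso_iff_isOpenImmersion_and_surjective g.left).mpr ⟨hopen, hsurj⟩
  have : IsIso ((Over.forget _).map g) := hiso
  exact isIso_of_reflects_iso g (Over.forget _)

end Groth.Agent.S3258
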