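import Groth.Statements.S3259
-- import your own Groth.Agent.* helpers here
import Groth.Agent.Dix.FlatMonoStalk
import Groth.Agent.Dix.ProjProper
import Mathlib.AlgebraicGeometry.Geometrically.Reduced

set_option autoImplicit false
universe u
open AlgebraicGeometry CategoryTheory CategoryTheory.Limits
open ArSurf

namespace Groth.Agent.S3259

open Groth.Agent.Dix.FlatMonoStalk Groth.Agent.Dix.ProjProper

/-- The scheme-theoretic closure: base change of the scheme-theoretic image along a flat mono. -/
theorem exists_proper_model {S T : Scheme.{u}} (g : T ⟶ S) [Flat g] [Mono g] [QuasiCompact g]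
    (X : Scheme.{u}) (f : X ⟶ T) (n : ℕ)
    (i : X ⟶ CohB1.ProjSpaceOver n T) [IsClosedImmersion i]
    (hi : i ≫ CohB1.ProjSpaceOver.toBase n T = f) :
    ∃ (Z : Scheme.{u}) (q : Z ⟶ S) (t : X ⟶ Z), IsProper q ∧ IsPullback t f q g := by
  have hP := isPullback_mapBase n g
  have hm : Mono (mapBase n g) := MorphismProperty.of_isPullback (P := .monomorphisms _) hP.flip inferInstance
  let j : X ⟶ CohB1.ProjSpaceOver n S := i ≫ mapBase n g
  have hqc1 : QuasiCompact (mapBase n g) := MorphismProperty.of_isPullback hP.flip inferInstance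
  have hqc : QuasiCompact j := inferInstance
  let q : j.image ⟶ S := j.imageι ≫ CohB1.ProjSpaceOver.toBase n S
  have hq : IsProper q := inferInstance
  have hw : j.toImage ≫ q = f ≫ g := by
    simp only [q, Scheme.Hom.toImage_imageι_assoc, j, Category.assoc, mapBase_toBase, ← hi]
  refine ⟨j.image, q, j.toImage, hq, ?_⟩
  have hdom : IsSchemeTheoreticallyDominant j.toImage := isSchemeTheoreticallyDominant_toImage j
  let c : X ⟶ pullback q g := pullback.lift j.toImage f hw
  have hc1 : c ≫ pullback.fst q g = j.toImage := pullback.lift_fst _ _ _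
  have hc2 : c ≫ pullback.snd q g = f := pullback.lift_snd _ _ _
  have hfl : Flat (pullback.fst q g) := inferInstance
  have hmono : Mono (pullback.fst q g) := inferInstance
  -- the square with the identity of `X`
  have hsq : IsPullback (𝟙 X) c j.toImage (pullback.fst q g) := by
    refine ⟨⟨by rw [Category.id_comp, hc1]⟩, ⟨PullbackCone.IsLimit.mk _ (fun s => s.fst) ?_ ?_ ?_⟩⟩
    · intro s; simp
    · intro s
      rw [← cancel_mono (pullback.fst q g), Category.assoc, hc1, s.condition]
    · intro s m h1 h2
      simpa using h1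
  have hcdom : IsSchemeTheoreticallyDominant c := .of_isPullback hsq
  -- closed immersion
  have hP2 : IsPullback (mapBase n g) (CohB1.ProjSpaceOver.toBase n T) (CohB1.ProjSpaceOver.toBase n S) g := hP
  let d : pullback q g ⟶ CohB1.ProjSpaceOver n T :=
    hP.lift (pullback.fst q g ≫ j.imageι) (pullback.snd q g) (by
      rw [Category.assoc, ← pullback.condition])
  have hd1 : d ≫ mapBase n g = pullback.fst q g ≫ j.imageι := hP.lift_fst _ _ _
  have hd2 : d ≫ CohB1.ProjSpaceOver.toBase n T = pullback.snd q g := hP.lift_snd _ _ _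
  have hdsq : IsPullback (pullback.fst q g) d j.imageι (mapBase n g) := by
    refine IsPullback.of_bot ?_ hd1.symm hP
    rw [hd2]
    exact IsPullback.of_hasPullback q g
  have hdci : IsClosedImmersion d := MorphismProperty.of_isPullback hdsq inferInstance
  have hcd : c ≫ d = i := by
    rw [← cancel_mono (mapBase n g), Category.assoc, hd1, reassoc_of% hc1, Scheme.Hom.toImage_imageι]
  have hcci : IsClosedImmersion c := by
    have : IsClosedImmersion (c ≫ d) := by rw [hcd]; infer_instance
    exact IsClosedImmersion.of_comp_isClosedImmersion c d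
  have hciso : IsIso c := IsClosedImmersion.isIso_iff_ker_eq_bot.mpr hcdom.ker_eq_bot
  refine IsPullback.of_iso_pullback ⟨hw⟩ (asIso c) hc1 hc2

/-- Smoothness at the points of `X` over the image of a flat monomorphism. -/
theorem mem_smoothLocus_of_isPullback {S T X Z : Scheme.{u}} {t : X ⟶ Z} {f : X ⟶ T} {q : Z ⟶ S}
    {g : T ⟶ S} (h : IsPullback t f q g) [Flat g] [Mono g] [Smooth f] [LocallyOfFinitePresentation q]
    (x : X) : t x ∈ q.smoothLocus := by
  have ht1 : Flat t := MorphismProperty.of_isPullback h.flip inferInstance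
  have ht2 : Mono t := MorphismProperty.of_isPullback (P := .monomorphisms _) h.flip inferInstance
  have h1 : IsIso (t.stalkMap x) := isIso_stalkMap_of_flat_of_mono t x
  have h2 : IsIso (g.stalkMap (f x)) := isIso_stalkMap_of_flat_of_mono g (f x)
  have h3 : (f.stalkMap x).hom.FormallySmooth := by
    have := f.smoothLocus_eq_top
    have hx : x ∈ f.smoothLocus := by rw [this]; trivial
    exact hx
  rw [Scheme.Hom.mem_smoothLocus]
  have h4 : ((f ≫ g).stalkMap x).hom.FormallySmooth := by
    rw [Scheme.Hom.stalkMap_comp]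
    exact (RingHom.FormallySmooth.respectsIso.cancel_left_isIso (g.stalkMap (f x)) (f.stalkMap x)).mpr h3
  have h5 : ((t ≫ q).stalkMap x).hom.FormallySmooth := by
    rw [h.w]
    exact h4
  rw [Scheme.Hom.stalkMap_comp] at h5
  exact (RingHom.FormallySmooth.respectsIso.cancel_right_isIso (q.stalkMap (t x)) (t.stalkMap x)).mp h5

/-- AGAC 10.1.21 (a), in the form its proof gives: let R be a Dedekind domain with fraction field K and C a smooth projective curve over K (smooth, proper, of dimension 1, admitting a closed immersion into some P^n_K). Then there are a non-empty open subscheme U of Spec R containing the generic point and a smooth proper morphism 𝒞 -> U whose fibre over the generic point is K-isomorphic to C. In particular C has good reduction at every closed point of U, that is, at all but finitely many closed points. -/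
theorem result {R : Type u} [CommRing R] [IsDedekindDomain R]
    (C : Over (Spec (CommRingCat.of (FractionRing R)))) [Smooth C.hom] [IsProper C.hom]
    (hdim : topologicalKrullDim C.left = 1) (hproj : Neron.IsProjectiveOver (FractionRing R) C) :
    ∃ (U : (Spec (CommRingCat.of R)).Opens) (ξ : Spec (CommRingCat.of (FractionRing R)) ⟶ (U : Scheme.{u}))
      (𝒞 : Scheme.{u}) (π : 𝒞 ⟶ (U : Scheme.{u})),
      ξ ≫ U.ι = Neron.genPt R ∧ Smooth π ∧ IsProper π ∧
      Nonempty (Over.mk (pullback.snd π ξ) ≅ C) := by
  obtain ⟨n, i, hi1, hi2⟩ := hproj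
  have hg1 : Flat (Neron.genPt R) := by
    rw [HasRingHomProperty.Spec_iff (P := @Flat)]
    change (algebraMap R (FractionRing R)).Flat
    rw [RingHom.flat_algebraMap_iff]
    exact IsLocalization.flat _ (nonZeroDivisors R)
  have hg3 : IsPreimmersion (Neron.genPt R) :=
    IsPreimmersion.of_isLocalization (nonZeroDivisors R)
  have hg2 : Mono (Neron.genPt R) := inferInstance
  obtain ⟨Z, q, t, hq, hsq⟩ := exists_proper_model (Neron.genPt R) C.left C.hom n i hi2
  have hln : IsLocallyNoetherian (Spec (CommRingCat.of R)) := inferInstance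
  have hfp : LocallyOfFinitePresentation q := inferInstance
  let T : Set (Spec (CommRingCat.of R)) := q '' (q.smoothLocus : Set Z)ᶜ
  have hT : IsClosed T := q.isClosedMap _ q.smoothLocus.isOpen.isClosed_compl
  let U : (Spec (CommRingCat.of R)).Opens := ⟨Tᶜ, hT.isOpen_compl⟩
  have hU : ∀ x, Neron.genPt R x ∈ U := by
    rintro x ⟨z, hz1, hz2⟩
    obtain ⟨y, hy1, hy2⟩ := Scheme.exists_preimage_of_isPullback hsq z x hz2
    apply hz1
    rw [← hy1]
    exact mem_smoothLocus_of_isPullback hsq y
  let ξ : Spec (CommRingCat.of (FractionRing R)) ⟶ (U : Scheme.{u}) :=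
    IsOpenImmersion.lift U.ι (Neron.genPt R) (by
      rintro _ ⟨x, rfl⟩
      simpa using hU x)
  have hξ : ξ ≫ U.ι = Neron.genPt R := IsOpenImmersion.lift_fac _ _ _
  have hle : q ⁻¹ᵁ U ≤ q.smoothLocus := by
    intro z hz
    by_contra hcon
    exact hz ⟨z, hcon, rfl⟩
  have hsm1 : Smooth ((q ⁻¹ᵁ U).ι ≫ q) := by
    rw [← Scheme.Hom.smoothLocus_eq_top_iff, ← Scheme.Hom.preimage_smoothLocus_eq, eq_top_iff]
    rintro z -
    exact hle z.2
  have hsm : Smooth (q ∣_ U) := by
    have : Smooth ((q ∣_ U) ≫ U.ι) := by rw [morphismRestrict_ι]; exact hsm1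
    have hpb : IsPullback (𝟙 _) (q ∣_ U) ((q ∣_ U) ≫ U.ι) U.ι := by
      refine ⟨⟨by simp⟩, ⟨PullbackCone.IsLimit.mk _ (fun s => s.fst) ?_ ?_ ?_⟩⟩
      · intro s; simp
      · intro s
        rw [← cancel_mono U.ι, Category.assoc, s.condition]
      · intro s m h1 h2
        simpa using h1
    exact MorphismProperty.of_isPullback (P := @Smooth) hpb this
  refine ⟨U, ξ, _, q ∣_ U, hξ, hsm, inferInstance, ?_⟩
  have hsq1 := (isPullback_morphismRestrict q U)
  have hsq2 : IsPullback (pullback.fst (q ∣_ U) ξ ≫ (q ⁻¹ᵁ U).ι) (pullback.snd (q ∣_ U) ξ) q (ξ ≫ U.ι) :=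
    (IsPullback.of_hasPullback (q ∣_ U) ξ).paste_horiz hsq1.flip
  rw [hξ] at hsq2
  refine ⟨Over.isoMk (hsq2.isoIsPullback _ _ hsq) ?_⟩
  simp

end Groth.Agent.S3259
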