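import Groth.Statements.S3288
import Groth.Agent.Books.Lambda1
-- import your own Groth.Agent.* helpers here

set_option autoImplicit false
universe u
open Finset
open LambdaRing

namespace Groth.Agent.S3288

/-- RRA Ch. I §1, formula (1.2): in a λ-ring with positive structure having the splitting property, for a positive element e the augmentation of λ^i(e) is the binomial coefficient C(ε(e), i). -/
theorem result (K : Type u) [CommRing K] [LambdaRing.LambdaOps K] (P : LambdaRing.PosStructure K) (hK : LambdaRing.HasSplitting K P) (e : K) (he : e ∈ P.pos)
    (i : ℕ) : P.aug (LambdaRing.LambdaOps.lam i e) = ((P.aug e).toNat.choose i : ℤ) := by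
  obtain ⟨L', f, hf, s, hs, hsum⟩ := Books.Lambda1.exists_split P hK e he
  rw [← hf.aug_comp, ← hf.aug_comp, hf.isLambdaHom, ← hsum,
    Books.Lambda1.aug_lam_multiset_sum _ s hs, Books.Lambda1.aug_multiset_sum _ s hs]
  simp

end Groth.Agent.S3288
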