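import Groth.Statements.S3290
import Groth.Agent.Books.Lambda2
-- import your own Groth.Agent.* helpers here

set_option autoImplicit false
universe u
open Finset
open LambdaRing

namespace Groth.Agent.S3290

open Polynomial in
lemma reflect_one_sub_pow (K : Type u) [CommRing K] (n : ℕ) :
    reflect n ((1 - X : K[X]) ^ n) = (X - 1) ^ n := by
  induction n with
  | zero =>
    ext i
    rw [pow_zero, pow_zero, coeff_reflect]
    rcases Nat.eq_zero_or_pos i with rfl | hi
    · simp
    · rw [revAt_eq_self_of_lt hi]
  | succ n ih =>
    have h1 : reflect 1 (1 - X : K[X]) = X - 1 := by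
      ext i
      rw [coeff_reflect]
      rcases i with _ | _ | i
      · rw [revAt_le (by omega)]; simp [coeff_one]
      · rw [revAt_le (by omega)]; simp [coeff_one]
      · rw [revAt_eq_self_of_lt (by omega)]
        simp [coeff_one, coeff_X]
    rw [pow_succ, reflect_mul, ih, h1, pow_succ]
    · calc ((1 - X : K[X]) ^ n).natDegree ≤ n * (1 - X : K[X]).natDegree := natDegree_pow_le
        _ ≤ n * 1 := by
            apply Nat.mul_le_mul_left
            calc (1 - X : K[X]).natDegree ≤ max (1 : K[X]).natDegree (X : K[X]).natDegree :=
                  natDegree_sub_le _ _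
              _ ≤ 1 := by
                  rw [natDegree_one]
                  simpa using natDegree_X_le
        _ = n := by ring
    · exact (natDegree_sub_le _ _).trans (by rw [natDegree_one]; simpa using natDegree_X_le)


/-- RRA Ch. III Prop. 1.1 (a): for a positive element e of augmentation m in a λ-ring with positive structure, the polynomials Σ_{i=0}^{m} γ^i(e − m) t^(m−i) and Σ_{i=0}^{m} λ^i(e) (t − 1)^(m−i) are equal. -/
theorem result (K : Type u) [CommRing K] [LambdaRing.LambdaOps K] (P : LambdaRing.PosStructure K) (e : K) (he : e ∈ P.pos) :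
    (∑ i ∈ range ((P.aug e).toNat + 1),
        Polynomial.C (LambdaRing.gamma i (e - ((P.aug e).toNat : K))) * Polynomial.X ^ ((P.aug e).toNat - i)) =
      ∑ i ∈ range ((P.aug e).toNat + 1),
        Polynomial.C (LambdaRing.LambdaOps.lam i e) * (Polynomial.X - 1) ^ ((P.aug e).toNat - i) := by
  set m := (P.aug e).toNat with hm
  let p : Polynomial K := ∑ i ∈ range (m + 1), Polynomial.C (LambdaOps.lam i e) *
        (Polynomial.X ^ i * (1 - Polynomial.X) ^ (m - i))
  have hp : ∀ i, gamma i (e - (m : K)) = p.coeff i := by
    intro i
    rw [← Books.Lambda2.coeff_gammaSeries, hm, Books.Lambda2.gammaSeries_pos_sub P e he,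
      ← Polynomial.coeff_coe]
    congr 1
    simp only [p, hm, ← Polynomial.coeToPowerSeries.ringHom_apply, map_sum, map_mul, map_pow,
      map_sub, map_one]
    simp only [Polynomial.coeToPowerSeries.ringHom_apply, Polynomial.coe_C, Polynomial.coe_X]
  have hdeg1 : ∀ n : ℕ, ((1 - Polynomial.X : Polynomial K) ^ n).natDegree ≤ n := by
    intro n
    calc ((1 - Polynomial.X : Polynomial K) ^ n).natDegree ≤
          n * (1 - Polynomial.X : Polynomial K).natDegree := Polynomial.natDegree_pow_le
        _ ≤ n * 1 := by
            apply Nat.mul_le_mul_left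
            calc (1 - Polynomial.X : Polynomial K).natDegree ≤
              max (1 : Polynomial K).natDegree (Polynomial.X : Polynomial K).natDegree :=
                  Polynomial.natDegree_sub_le _ _
              _ ≤ 1 := by
                  rw [Polynomial.natDegree_one]
                  simpa using Polynomial.natDegree_X_le
        _ = n := by ring
  have hterm : ∀ i ∈ range (m + 1), (Polynomial.C (LambdaOps.lam i e) *
        (Polynomial.X ^ i * (1 - Polynomial.X) ^ (m - i)) : Polynomial K).natDegree ≤ m := by
    intro i hi
    have hi' := Finset.mem_range.mp hi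
    refine (Polynomial.natDegree_C_mul_le _ _).trans ?_
    refine Polynomial.natDegree_mul_le.trans ?_
    have := hdeg1 (m - i)
    have h2 := Polynomial.natDegree_X_pow_le (R := K) i
    omega
  have hdeg : p.natDegree ≤ m := Polynomial.natDegree_sum_le_of_forall_le _ _ hterm
  have h1 : (∑ i ∈ range (m + 1),
        Polynomial.C (gamma i (e - (m : K))) * Polynomial.X ^ (m - i)) = Polynomial.reflect m p := by
    ext n
    rw [Polynomial.coeff_reflect, Polynomial.finsetSum_coeff]
    simp only [Polynomial.coeff_C_mul, Polynomial.coeff_X_pow, mul_ite, mul_one, mul_zero, hp]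
    by_cases hn : n ≤ m
    · rw [Polynomial.revAt_le hn, Finset.sum_eq_single (m - n)]
      · rw [if_pos (by omega)]
      · intro b hb hb'
        have := Finset.mem_range.mp hb
        rw [if_neg (by omega)]
      · intro h
        exact absurd (Finset.mem_range.mpr (by omega)) h
    · rw [Polynomial.revAt_eq_self_of_lt (by omega),
        Polynomial.coeff_eq_zero_of_natDegree_lt (by omega)]
      apply Finset.sum_eq_zero
      intro b hb
      have := Finset.mem_range.mp hb
      rw [if_neg (by omega)]
  rw [h1]
  have h2 : Polynomial.reflect m p = ∑ i ∈ range (m + 1), Polynomial.reflect m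
      (Polynomial.C (LambdaOps.lam i e) * (Polynomial.X ^ i * (1 - Polynomial.X) ^ (m - i))) := by
    ext n
    rw [Polynomial.coeff_reflect, Polynomial.finsetSum_coeff, Polynomial.finsetSum_coeff]
    simp only [Polynomial.coeff_reflect]
  rw [h2]
  apply Finset.sum_congr rfl
  intro i hi
  have hi' := Finset.mem_range.mp hi
  rw [Polynomial.reflect_C_mul]
  congr 1
  have h3 : m = i + (m - i) := by omega
  have h4 : Polynomial.reflect m (Polynomial.X ^ i * (1 - Polynomial.X) ^ (m - i) : Polynomial K) =
      Polynomial.reflect (i + (m - i))
        (Polynomial.X ^ i * (1 - Polynomial.X) ^ (m - i) : Polynomial K) := by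
    rw [← h3]
  rw [h4, Polynomial.reflect_mul _ _ (Polynomial.natDegree_X_pow_le i) (hdeg1 _),
    reflect_one_sub_pow]
  have h5 : Polynomial.reflect i (Polynomial.X ^ i : Polynomial K) = 1 := by
    ext n
    rw [Polynomial.coeff_reflect, Polynomial.coeff_X_pow, Polynomial.coeff_one]
    by_cases hn : n ≤ i
    · rw [Polynomial.revAt_le hn]
      by_cases h0 : n = 0
      · subst h0; simp
      · rw [if_neg (by omega), if_neg h0]
    · rw [Polynomial.revAt_eq_self_of_lt (by omega), if_neg (by omega), if_neg (by omega)]
  rw [h5, one_mul]

end Groth.Agent.S3290
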