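import Groth.Statements.S3296
import Groth.Agent.Books.Lambda3
-- import your own Groth.Agent.* helpers here

set_option autoImplicit false
universe u
open Finset
open TensorProduct
open LambdaRing

namespace Groth.Agent.S3296

section aux

open Books.Lambda1 Books.Lambda2 Books.Lambda3

variable {K : Type u} [CommRing K] [LambdaOps K] (P : PosStructure K) (hK : HasSplitting K P)

/-- the filtration on the rationalization -/
noncomputable def F (n : ℕ) : Submodule ℚ (ℚ ⊗[ℤ] K) :=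
  Submodule.span ℚ {v | ∃ x ∈ gammaFiltration P n, v = 1 ⊗ₜ[ℤ] x}

lemma F_zero : F P 0 = ⊤ := by
  rw [eq_top_iff]
  intro v _
  induction v using TensorProduct.induction_on with
  | zero => exact Submodule.zero_mem _
  | tmul q x =>
    have : q ⊗ₜ[ℤ] x = q • ((1 : ℚ) ⊗ₜ[ℤ] x) := by
      rw [TensorProduct.smul_tmul', smul_eq_mul, mul_one]
    rw [this]
    exact Submodule.smul_mem _ _ (Submodule.subset_span ⟨x, mem_filtration_zero P x, rfl⟩)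
  | add x y hx hy => exact Submodule.add_mem _ (hx trivial) (hy trivial)

lemma F_anti {m n : ℕ} (h : m ≤ n) : F P n ≤ F P m := by
  apply Submodule.span_mono
  rintro v ⟨x, hx, rfl⟩
  exact ⟨x, filtration_anti P h hx, rfl⟩

lemma F_bot {d : ℕ} (hd : gammaFiltration P (d + 1) = ⊥) : F P (d + 1) = ⊥ := by
  rw [F, Submodule.span_eq_bot]
  rintro v ⟨x, hx, rfl⟩
  rw [hd, AddSubgroup.mem_bot] at hx
  rw [hx, TensorProduct.tmul_zero]

include hK in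
lemma F_cong (j : ℕ) (Ψ : ℚ ⊗[ℤ] K →ₗ[ℚ] ℚ ⊗[ℤ] K)
    (hΨ : ∀ x : K, Ψ (1 ⊗ₜ[ℤ] x) = 1 ⊗ₜ[ℤ] adams P j x) (n : ℕ) (v : ℚ ⊗[ℤ] K)
    (hv : v ∈ F P n) : Ψ v - ((j : ℚ) ^ n) • v ∈ F P (n + 1) := by
  refine Submodule.span_induction
    (p := fun v _ => Ψ v - ((j : ℚ) ^ n) • v ∈ F P (n + 1)) ?_ ?_ ?_ ?_ hv
  · rintro v ⟨x, hx, rfl⟩
    rw [hΨ]
    have h1 : ((j : ℚ) ^ n) • ((1 : ℚ) ⊗ₜ[ℤ] x) = (1 : ℚ) ⊗ₜ[ℤ] ((j : K) ^ n * x) := by
      have h2 : (j : K) ^ n * x = ((j : ℤ) ^ n) • x := by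
        rw [zsmul_eq_mul]; push_cast; ring
      rw [h2, TensorProduct.tmul_smul, ← Int.cast_smul_eq_zsmul ℚ]
      push_cast
      rfl
    rw [h1, ← TensorProduct.tmul_sub]
    exact Submodule.subset_span ⟨_, (Good_of_mem P hK j n x hx).2, rfl⟩
  · simp
  · intro x y _ _ hx hy
    rw [map_add, smul_add, add_sub_add_comm]
    exact Submodule.add_mem _ hx hy
  · intro a x _ hx
    rw [map_smul, smul_comm, ← smul_sub]
    exact Submodule.smul_mem _ _ hx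

include hK in
lemma sup_eigen (d : ℕ) (hd : gammaFiltration P (d + 1) = ⊥) (j : ℕ) (hj : 2 ≤ j)
    (Ψ : ℚ ⊗[ℤ] K →ₗ[ℚ] ℚ ⊗[ℤ] K)
    (hΨ : ∀ x : K, Ψ (1 ⊗ₜ[ℤ] x) = 1 ⊗ₜ[ℤ] adams P j x) (k : ℕ) (hk : k ≤ d + 1) :
    F P (d + 1 - k) ≤ ⨆ m ∈ Finset.Ico (d + 1 - k) (d + 1),
      Module.End.eigenspace Ψ ((j : ℚ) ^ m) := by
  have hj0 : ∀ m n : ℕ, m ≠ n → (j : ℚ) ^ m - (j : ℚ) ^ n ≠ 0 := by
    intro m n hmn h
    rw [sub_eq_zero] at h
    have h1 : (j : ℕ) ^ m = j ^ n := by exact_mod_cast h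
    exact hmn (Nat.pow_right_injective hj h1)
  induction k with
  | zero =>
    rw [Nat.sub_zero, F_bot P hd]
    exact bot_le
  | succ k ih =>
    have ih' := ih (by omega)
    set n := d + 1 - (k + 1) with hn
    have hn' : d + 1 - k = n + 1 := by omega
    rw [hn'] at ih'
    intro v hv
    have h1 := ih' (F_cong P hK j Ψ hΨ n v hv)
    have hsurj : (⨆ m ∈ Finset.Ico (n + 1) (d + 1), Module.End.eigenspace Ψ ((j : ℚ) ^ m)) ≤
        Submodule.map (Ψ - ((j : ℚ) ^ n) • LinearMap.id)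
          (⨆ m ∈ Finset.Ico (n + 1) (d + 1), Module.End.eigenspace Ψ ((j : ℚ) ^ m)) := by
      refine iSup₂_le ?_
      intro m hm w hw
      have hmn : m ≠ n := by
        have := (Finset.mem_Ico.mp hm).1
        omega
      refine ⟨((j : ℚ) ^ m - (j : ℚ) ^ n)⁻¹ • w, ?_, ?_⟩
      · apply Submodule.smul_mem
        exact (le_iSup₂_of_le (f := fun m (_ : m ∈ Finset.Ico (n + 1) (d + 1)) =>
          Module.End.eigenspace Ψ ((j : ℚ) ^ m)) m hm le_rfl) hw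
      · rw [Module.End.mem_eigenspace_iff] at hw
        rw [LinearMap.sub_apply, map_smul, hw, LinearMap.smul_apply, LinearMap.id_apply,
          smul_smul, smul_smul, ← sub_smul]
        have h0 := hj0 m n hmn
        have : ((j : ℚ) ^ m - (j : ℚ) ^ n)⁻¹ * (j : ℚ) ^ m -
            (j : ℚ) ^ n * ((j : ℚ) ^ m - (j : ℚ) ^ n)⁻¹ = 1 := by
          rw [mul_comm ((j : ℚ) ^ n), ← mul_sub, inv_mul_cancel₀ h0]
        rw [this, one_smul]
    obtain ⟨w, hw, hw'⟩ := hsurj h1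
    have hmono : (⨆ m ∈ Finset.Ico (n + 1) (d + 1), Module.End.eigenspace Ψ ((j : ℚ) ^ m)) ≤
        ⨆ m ∈ Finset.Ico n (d + 1), Module.End.eigenspace Ψ ((j : ℚ) ^ m) := by
      refine iSup₂_le ?_
      intro m hm
      have hm' : m ∈ Finset.Ico n (d + 1) := by
        rw [Finset.mem_Ico] at hm ⊢
        omega
      exact le_iSup₂_of_le (f := fun m (_ : m ∈ Finset.Ico n (d + 1)) =>
          Module.End.eigenspace Ψ ((j : ℚ) ^ m)) m hm' le_rfl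
    have h2 : v - w ∈ Module.End.eigenspace Ψ ((j : ℚ) ^ n) := by
      rw [Module.End.mem_eigenspace_iff, map_sub]
      rw [LinearMap.sub_apply, LinearMap.smul_apply, LinearMap.id_apply] at hw'
      rw [smul_sub, sub_eq_sub_iff_sub_eq_sub]
      exact hw'.symm
    have h3 : v = (v - w) + w := by abel
    rw [h3]
    have hnmem : n ∈ Finset.Ico n (d + 1) := by
      rw [Finset.mem_Ico]; omega
    exact Submodule.add_mem _ ((le_iSup₂_of_le (f := fun m (_ : m ∈ Finset.Ico n (d + 1)) =>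
          Module.End.eigenspace Ψ ((j : ℚ) ^ m)) n hnmem le_rfl) h2) (hmono hw)

include hK in
lemma eigen_step (j : ℕ) (hj : 2 ≤ j) (Ψ : ℚ ⊗[ℤ] K →ₗ[ℚ] ℚ ⊗[ℤ] K)
    (hΨ : ∀ x : K, Ψ (1 ⊗ₜ[ℤ] x) = 1 ⊗ₜ[ℤ] adams P j x) (m n : ℕ) (hmn : m ≠ n)
    (v : ℚ ⊗[ℤ] K) (hv : v ∈ F P n) (hv' : v ∈ Module.End.eigenspace Ψ ((j : ℚ) ^ m)) :
    v ∈ F P (n + 1) := by
  have h1 := F_cong P hK j Ψ hΨ n v hv
  rw [Module.End.mem_eigenspace_iff] at hv'
  rw [hv', ← sub_smul] at h1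
  have h0 : (j : ℚ) ^ m - (j : ℚ) ^ n ≠ 0 := by
    intro h
    rw [sub_eq_zero] at h
    have h1 : (j : ℕ) ^ m = j ^ n := by exact_mod_cast h
    exact hmn (Nat.pow_right_injective hj h1)
  exact (Submodule.smul_mem_iff _ h0).mp h1

include hK in
lemma eigen_le (d : ℕ) (hd : gammaFiltration P (d + 1) = ⊥)
    (j l : ℕ) (hj : 2 ≤ j)
    (Ψj Ψl : ℚ ⊗[ℤ] K →ₗ[ℚ] ℚ ⊗[ℤ] K)
    (hΨj : ∀ x : K, Ψj (1 ⊗ₜ[ℤ] x) = 1 ⊗ₜ[ℤ] adams P j x)
    (hΨl : ∀ x : K, Ψl (1 ⊗ₜ[ℤ] x) = 1 ⊗ₜ[ℤ] adams P l x) (m : ℕ) :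
    Module.End.eigenspace Ψj ((j : ℚ) ^ m) ≤ Module.End.eigenspace Ψl ((l : ℚ) ^ m) := by
  have hcomm : ∀ v, Ψj (Ψl v) = Ψl (Ψj v) := by
    intro v
    have h1 : v ∈ F P 0 := by rw [F_zero]; trivial
    refine Submodule.span_induction
      (p := fun v _ => Ψj (Ψl v) = Ψl (Ψj v)) ?_ ?_ ?_ ?_ h1
    · rintro v ⟨x, hx, rfl⟩
      rw [hΨj, hΨl, hΨj, hΨl, adams_adams P hK, adams_adams P hK, mul_comm]
    · simp
    · intro x y _ _ hx hy
      rw [map_add, map_add, map_add, map_add, hx, hy]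
    · intro a x _ hx
      rw [map_smul, map_smul, map_smul, map_smul, hx]
  intro v hv
  have h1 : ∀ n ≤ m, v ∈ F P n := by
    intro n hn
    induction n with
    | zero => rw [F_zero]; trivial
    | succ n ih => exact eigen_step P hK j hj Ψj hΨj m n (by omega) v (ih (by omega)) hv
  have h2 : ∀ w ∈ Module.End.eigenspace Ψj ((j : ℚ) ^ m), w ∈ F P (m + 1) → w = 0 := by
    intro w hw hw'
    have h3 : ∀ n, w ∈ F P (m + 1 + n) := by
      intro n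
      induction n with
      | zero => exact hw'
      | succ n ih => exact eigen_step P hK j hj Ψj hΨj m (m + 1 + n) (by omega) w ih hw
    have h4 := F_anti P (show d + 1 ≤ m + 1 + d by omega) (h3 d)
    rw [F_bot P hd] at h4
    simpa using h4
  have h3 := F_cong P hK l Ψl hΨl m v (h1 m le_rfl)
  have h4 := h2 _ ?_ h3
  · rw [Module.End.mem_eigenspace_iff]
    exact sub_eq_zero.mp h4
  · rw [Module.End.mem_eigenspace_iff] at hv ⊢
    rw [map_sub, hcomm, hv, map_smul, map_smul, hv, smul_sub, smul_comm]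

end aux


/-- RRA Ch. III Prop. 3.2: let K be a λ-ring with positive structure having the splitting property, whose γ-filtration satisfies F^(d+1) K = 0. For j ≥ 2 let Ψ_j be the ℚ-linear endomorphism of ℚ ⊗ K induced by ψ^j. Then ℚ ⊗ K is the sum of the eigenspaces of Ψ_j for the eigenvalues j^m, 0 ≤ m ≤ d, and the eigenspace for j^m does not depend on j. -/
theorem result (K : Type u) [CommRing K] [LambdaRing.LambdaOps K] (P : LambdaRing.PosStructure K) (hK : LambdaRing.HasSplitting K P) (d : ℕ)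
    (hd : LambdaRing.gammaFiltration P (d + 1) = ⊥)
    (j l : ℕ) (hj : 2 ≤ j) (hl : 2 ≤ l)
    (Ψj Ψl : ℚ ⊗[ℤ] K →ₗ[ℚ] ℚ ⊗[ℤ] K)
    (hΨj : ∀ x : K, Ψj (1 ⊗ₜ[ℤ] x) = 1 ⊗ₜ[ℤ] LambdaRing.adams P j x)
    (hΨl : ∀ x : K, Ψl (1 ⊗ₜ[ℤ] x) = 1 ⊗ₜ[ℤ] LambdaRing.adams P l x) :
    (⨆ m ∈ range (d + 1), Module.End.eigenspace Ψj ((j : ℚ) ^ m)) = ⊤ ∧
    ∀ m : ℕ, Module.End.eigenspace Ψj ((j : ℚ) ^ m) = Module.End.eigenspace Ψl ((l : ℚ) ^ m) := by
  refine ⟨?_, fun m => le_antisymm (eigen_le P hK d hd j l hj Ψj Ψl hΨj hΨl m)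
    (eigen_le P hK d hd l j hl Ψl Ψj hΨl hΨj m)⟩
  have h := sup_eigen P hK d hd j hj Ψj hΨj (d + 1) le_rfl
  rw [Nat.sub_self, F_zero, ← Finset.range_eq_Ico] at h
  exact top_le_iff.mp h

end Groth.Agent.S3296
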